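import Cfsg.Agent.Lib.Classical.MaxTensorTwoMain
import Cfsg.Agent.Lib.Classical.MaxTensorGram

/-!
`Sp₂ ⊗ GO_b` is maximal in `Sp_2b` for `b = 3`, `q ≥ 5` and for `b ≥ 5`, `q` odd.
-/

set_option autoImplicit false
set_option linter.unusedSectionVars false

namespace Cfsg.Agent.Classical.TensorTwo

open Matrix Module MaxTv
open scoped Kronecker

variable {F : Type*} [Field F] [Fintype F] {m : ℕ}

/-- A function on `Fin 2 × Fin b` as a pair. -/
def pairEquiv (b : ℕ) : ((Fin b → F) × (Fin b → F)) ≃ₗ[F] (Fin 2 × Fin b → F) where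
  toFun p x := ![p.1 x.2, p.2 x.2] x.1
  map_add' p p' := by funext ⟨i, j⟩; fin_cases i <;> simp
  map_smul' c p := by funext ⟨i, j⟩; fin_cases i <;> simp
  invFun t := (fun j => t (0, j), fun j => t (1, j))
  left_inv p := by simp
  right_inv t := by funext ⟨i, j⟩; fin_cases i <;> simp

theorem pairEquiv_zero {b : ℕ} (p : (Fin b → F) × (Fin b → F)) (j : Fin b) : pairEquiv b p (0, j) = p.1 j := rfl

theorem pairEquiv_one {b : ℕ} (p : (Fin b → F) × (Fin b → F)) (j : Fin b) : pairEquiv b p (1, j) = p.2 j := rfl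

theorem gram_apply {k : ℕ} {f : (Fin k → F) → (Fin k → F) → F} (hf : Geo.IsBilinearForm f) (u v : Fin k → F) :
    f u v = ∑ a, ∑ b, u a * Geo.gramMatrix f a b * v b := by
  have h := TensorMax.gramMap_dot hf 1 u v
  rw [one_mul, TensorMax.gramMap, one_smul, Matrix.toLin'_apply, Matrix.mulVec_transpose,
    ← Matrix.dotProduct_mulVec] at h
  rw [← h]
  simp only [Matrix.mulVec, dotProduct, Finset.mul_sum, mul_assoc]

/-- `Sp₂ ⊗ GO_b` is maximal. -/
theorem symplectic_tensor_two_maximal {b : ℕ} (hodd : Odd (Fintype.card F))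
    (hb : b = 3 ∧ 5 ≤ Fintype.card F ∨ 5 ≤ b) (e : (Fin m ⊕ Fin m) ≃ Fin 2 × Fin b)
    (P : GL (Fin m ⊕ Fin m) F) (f₁ : (Fin 2 → F) → (Fin 2 → F) → F) (f₂ : (Fin b → F) → (Fin b → F) → F)
    (hf₁ : Geo.IsSymplecticForm f₁) (hf₂ : Geo.IsSymmetricForm f₂)
    (hS : Geo.IsTensorFormStructure id (sympForm m F) f₁ f₂ e P) :
    Geo.IsMaximalIn (spGL m F) (Geo.tensorProductSubgroup 2 b e P ⊓ spGL m F) := by
  classical
  obtain ⟨c, hc, hpol⟩ := hS
  obtain ⟨γ, hγ⟩ : ∃ γ, γ = c * f₁ (Pi.single 0 1) (Pi.single 1 1) := ⟨_, rfl⟩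
  have hγ0 : γ ≠ 0 := by
    intro h0
    obtain ⟨x, hx⟩ := (hf₁.nondegenerate (Pi.single 0 1) (by simp)).2
    apply hx
    rw [gram_apply hf₁.bilinear]
    have e01 : Geo.gramMatrix f₁ 0 1 = 0 := (mul_eq_zero.1 (hγ.symm.trans h0)).resolve_left hc
    have e00 : Geo.gramMatrix f₁ 0 0 = 0 := hf₁.alternating _
    simp [Fin.sum_univ_two, e00, e01]
  let D : LinearMap.BilinForm F (Fin b → F) := LinearMap.mk₂ F (fun x y => γ * f₂ x y)
    (fun x y z => by simp only [hf₂.bilinear.add_left, mul_add])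
    (fun a x y => by simp only [hf₂.bilinear.smul_left, smul_eq_mul]; ring)
    (fun x y z => by simp only [hf₂.bilinear.add_right, mul_add])
    (fun a x y => by simp only [hf₂.bilinear.smul_right, smul_eq_mul]; ring)
  let Φ : ((Fin b → F) × (Fin b → F)) ≃ₗ[F] (Fin m ⊕ Fin m → F) :=
    (pairEquiv b).trans (TensorMax.coordEquiv e P)
  have h2 : (2 : F) ≠ 0 := by
    intro h0
    have hch : CharP F 2 := CharTwo.of_one_ne_zero_of_two_eq_zero one_ne_zero h0
    have := FiniteField.even_card_of_char_two (F := F) (ringChar.eq F 2 (C := hch))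
    rw [Nat.odd_iff] at hodd
    omega
  have hform : ∀ u v u' v' : Fin b → F, sympForm m F (Φ (u, v)) (Φ (u', v')) = D u v' - D v u' := by
    intro u v u' v'
    simp only [Φ, LinearEquiv.trans_apply, TensorMax.coordEquiv_apply, hpol, D, LinearMap.mk₂_apply]
    rw [gram_apply hf₂.bilinear u v', gram_apply hf₂.bilinear v u']
    have e00 : f₁ (Pi.single 0 1) (Pi.single 0 1) = 0 := hf₁.alternating _
    have e11 : f₁ (Pi.single 1 1) (Pi.single 1 1) = 0 := hf₁.alternating _
    simp only [Geo.formOfGram, Fintype.sum_prod_type, Fin.sum_univ_two, Matrix.kroneckerMap_apply, id,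
      pairEquiv_zero, pairEquiv_one, Finset.mul_sum, ← Finset.sum_add_distrib, ← Finset.sum_sub_distrib]
    refine Finset.sum_congr rfl fun i _ => ?_
    simp only [Geo.gramMatrix, e00, e11, hf₁.skew (Pi.single 1 1) (Pi.single 0 1), Finset.mul_sum,
      ← Finset.sum_add_distrib, ← Finset.sum_sub_distrib]
    refine Finset.sum_congr rfl fun j _ => ?_
    rw [hγ]; ring
  have hT : TwoData D Φ :=
    { symm := fun x y => by simp only [D, LinearMap.mk₂_apply, hf₂.symm x y]
      nd := fun x hx => by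
        by_contra h0
        obtain ⟨y, hy⟩ := (hf₂.nondegenerate x h0).2
        exact mul_ne_zero hγ0 hy (hx y)
      two := h2
      form := hform
      dim := by rw [finrank_pi, Fintype.card_fin]; omega
      big := by
        rcases hb with ⟨-, hq⟩ | h5
        · obtain ⟨s, hs, hs'⟩ := exists_sq_ne_one_field (F := F) (by omega)
          exact Or.inl ⟨s, hs, by rwa [← pow_two]⟩
        · exact Or.inr (by rw [finrank_pi, Fintype.card_fin]; omega) }
  let ψ : GL (Fin 2 × Fin b) F ≃* GL (Fin m ⊕ Fin m) F := (Geo.glReindex e.symm).trans (MulAut.conj P)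
  have hψ : ∀ (k : GL (Fin 2 × Fin b) F) p, (ψ k : Matrix (Fin m ⊕ Fin m) (Fin m ⊕ Fin m) F) *ᵥ Φ p =
      TensorMax.coordEquiv e P ((k : Matrix (Fin 2 × Fin b) (Fin 2 × Fin b) F) *ᵥ pairEquiv b p) :=
    fun k p => TensorMax.coord_compat e P k _
  have hkron : ∀ (A : Matrix (Fin 2) (Fin 2) F) (B : Matrix (Fin b) (Fin b) F) u v,
      (A ⊗ₖ B) *ᵥ pairEquiv b (u, v) =
        pairEquiv b (B *ᵥ (A 0 0 • u + A 0 1 • v), B *ᵥ (A 1 0 • u + A 1 1 • v)) := by
    intro A B u v
    funext ⟨i, j⟩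
    fin_cases i <;>
      simp [Matrix.mulVec, dotProduct, Fintype.sum_prod_type, pairEquiv, Matrix.kroneckerMap_apply,
        ← Finset.sum_add_distrib] <;>
      exact Finset.sum_congr rfl fun l _ => by ring
  have hiff : ∀ g, g ∈ Geo.tensorProductSubgroup 2 b e P ↔ IsPair Φ g := by
    intro g
    rw [Geo.tensorProductSubgroup, Subgroup.map_map]
    constructor
    · rintro ⟨k, ⟨A, B, hk⟩, rfl⟩
      refine ⟨A.1 0 0, A.1 0 1, A.1 1 0, A.1 1 1,
        LinearEquiv.ofInjectiveEndo (Matrix.mulVecLin B.1) (MaxTv.gl_mulVec_injective B), fun u v => ?_⟩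
      show (ψ k : Matrix (Fin m ⊕ Fin m) (Fin m ⊕ Fin m) F) *ᵥ _ = _
      rw [hψ, hk, hkron]
      rfl
    · rintro ⟨a, b', c', d, T, hg⟩
      obtain ⟨u₀, hu₀⟩ : ∃ u : Fin b → F, u ≠ 0 :=
        ⟨Pi.single ⟨0, by omega⟩ 1, by simp⟩
      have hdet : a * d - b' * c' ≠ 0 := fun h0 => by
        obtain ⟨x, y, hxy, e₁, e₂⟩ := exists_ker_two h0
        have h := hg (x • u₀) (y • u₀)
        rw [smul_smul, smul_smul, smul_smul, smul_smul, ← add_smul, ← add_smul, e₁, e₂, zero_smul, map_zero,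
          Prod.mk_zero_zero, map_zero, ← Matrix.mulVec_zero (g : Matrix (Fin m ⊕ Fin m) (Fin m ⊕ Fin m) F)] at h
        have h' := MaxTv.gl_mulVec_injective g h
        rw [LinearEquiv.map_eq_zero_iff, Prod.ext_iff] at h'
        rcases hxy with hx | hy
        · exact (smul_ne_zero hx hu₀) h'.1
        · exact (smul_ne_zero hy hu₀) h'.2
      obtain ⟨B, hB⟩ := exists_gl_of_injective T.toLinearMap T.injective
      have hA : Matrix.det !![a, b'; c', d] ≠ 0 := by rwa [Matrix.det_fin_two_of]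
      refine ⟨ψ.symm g, ⟨Matrix.GeneralLinearGroup.mkOfDetNeZero _ hA, B,
        Matrix.ext_iff_mulVec.2 fun t => ?_⟩, ψ.apply_symm_apply g⟩
      obtain ⟨⟨u, v⟩, rfl⟩ := (pairEquiv b).surjective t
      refine (TensorMax.coordEquiv e P).injective ?_
      rw [← hψ, MulEquiv.apply_symm_apply, hg, hkron, hB, hB]
      rfl
  have hle : Geo.tensorProductSubgroup 2 b e P ⊓ spGL m F ≤ spGL m F := inf_le_right
  refine ⟨lt_of_le_of_ne hle fun heq => ?_, fun M hMle hMsp => ?_⟩
  · obtain ⟨v, hv⟩ := hT.exists_aniso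
    obtain ⟨w, hwv, hw⟩ := hT.exists_aniso_perp1 hv
    let L : (Fin m ⊕ Fin m → F) →ₗ[F] (Fin m ⊕ Fin m → F) := LinearMap.id +
      Φ.toLinearMap ∘ₗ (LinearMap.inl F _ _) ∘ₗ sq1 D v ∘ₗ (LinearMap.snd F _ _) ∘ₗ Φ.symm.toLinearMap
    have hL : ∀ u u', L (Φ (u, u')) = Φ (u + D u' v • v, u') := fun u u' => by
      simp [L, sq1_apply, ← map_add]
    have hiso : ∀ x y, sympForm m F (L x) (L y) = sympForm m F x y := by
      intro x y
      obtain ⟨⟨u, u'⟩, rfl⟩ := Φ.surjective x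
      obtain ⟨⟨z, z'⟩, rfl⟩ := Φ.surjective y
      rw [hL, hL, hform, hform]
      simp only [map_add, map_smul, LinearMap.add_apply, LinearMap.smul_apply, smul_eq_mul, hT.symm v z',
        hT.symm u' v]
      ring
    obtain ⟨g, hg⟩ := exists_gl_of_injective L fun x y hxy => by
      refine sub_eq_zero.1 (sesq_sympForm.eq_zero _ fun z => ?_)
      have h0 : sympForm m F (L (x - y)) (L z) = 0 := by rw [map_sub, hxy, sub_self, sesq_sympForm.zero_left]
      rw [hiso] at h0
      exact sesq_sympForm.refl _ _ h0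
    have hgK : g ∈ spGL m F := mem_spGL.2 fun x y => by rw [hg, hg, hiso]
    rw [← heq] at hgK
    obtain ⟨a, b', c', d, T, hT'⟩ := (hiff g).1 hgK.1
    have hcomp : ∀ u u', u + D u' v • v = T (a • u + b' • u') ∧ u' = T (c' • u + d • u') := fun u u' =>
      Prod.mk.inj (Φ.injective ((hL u u').symm.trans ((hg _).symm.trans (hT' u u'))))
    have h1 := (hcomp v 0).1
    have h2' := (hcomp 0 v).1
    have h3 := (hcomp 0 w).1
    simp only [map_zero, LinearMap.zero_apply, zero_smul, add_zero, smul_zero, zero_add, map_smul, hwv] at h1 h2' h3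
    have hb0 : b' = 0 := by
      have hw0 : T w ≠ 0 := fun h0 => hw (by simp [T.map_eq_zero_iff.1 h0])
      exact (smul_eq_zero.1 h3.symm).resolve_right hw0
    rw [hb0, zero_smul] at h2'
    exact hv ((smul_eq_zero.1 h2').resolve_right fun h0 => hv (by simp [h0]))
  · by_cases hall : ∀ g ∈ M, IsPair Φ g
    · exact Or.inl (le_antisymm (fun g hg => ⟨(hiff g).2 (hall g hg), hMsp hg⟩) hMle)
    · push Not at hall
      obtain ⟨g, hg, hgp⟩ := hall
      have hM : Over Φ M := ⟨hMsp, fun g hgs hp => hMle ⟨(hiff g).2 hp, hgs⟩⟩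
      refine Or.inr (le_antisymm hMsp (hT.full hM ?_ hg hgp))
      rw [finrank_pi, Fintype.card_fin]
      exact hb

end Cfsg.Agent.Classical.TensorTwo
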