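import Cfsg.Agent.Lib.Classical.MaxTensorRootMain
import Cfsg.Agent.Lib.Classical.MaxTensorTwoApp
import Cfsg.Agent.Lib.Classical.NormalForms

/-!
`Sp_n ⊗ GO_b` is maximal in `Sp_nb` for `n ≥ 4` and `b ≥ 3`, apart from `q = 3`, `b = 3`.
-/

set_option autoImplicit false
set_option linter.unusedSectionVars false

namespace Cfsg.Agent.Classical.TensorRoot

open Matrix Module MaxTv TensorMax
open scoped Kronecker

variable {F : Type*} [Field F] [Fintype F] {k b : ℕ} {D : Matrix (Fin b) (Fin b) F}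

/-- The isometry group of the product is larger than the product. -/
theorem exists_not_kron (hD : Gram D) (hk : 0 < k) (hb : 2 ≤ b) : ∃ g ∈ SpT k D, ¬ IsKron g := by
  obtain ⟨a, c, hca⟩ : ∃ a c : Al k → F, sympForm k F c a = 1 := ⟨_, _, sympForm_single_pair ⟨0, hk⟩⟩
  obtain ⟨u, hu⟩ := hD.exists_aniso (by omega)
  obtain ⟨w, hw, hwu⟩ : ∃ w : Fin b → F, w ≠ 0 ∧ dB D w u = 0 := by
    by_contra hc
    push Not at hc
    have hinj : Function.Injective (dL D u) := (injective_iff_map_eq_zero _).2 fun w h => by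
      by_contra h0
      exact hc w h0 h
    have := LinearMap.finrank_le_finrank_of_injective hinj
    rw [finrank_fin_fun, Module.finrank_self] at this
    omega
  obtain ⟨g, hg, hgx⟩ := exists_SpT_tv hD (tmul a u) (1 : F)
  refine ⟨g, hg, fun hgk => ?_⟩
  obtain ⟨y, T, rfl⟩ := exists_kg_of_isKron hgk
  have h1 : tmul ((y : Matrix (Al k) (Al k) F) *ᵥ c) ((T : Matrix (Fin b) (Fin b) F) *ᵥ w) = tmul c w := by
    rw [← kg_apply, hgx, W_tmul, hwu, mul_zero, mul_zero, zero_smul, add_zero]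
  have h2 : tmul ((y : Matrix (Al k) (Al k) F) *ᵥ c) ((T : Matrix (Fin b) (Fin b) F) *ᵥ u) =
      tmul c u + dB D u u • tmul a u := by
    rw [← kg_apply, hgx, W_tmul, hca, one_mul, one_mul]
  obtain ⟨r, hr⟩ := eq_smul_of_tmul (fun h0 => hw (gl_mulVec_injective T (h0.trans (Matrix.mulVec_zero _).symm))) h1
  rw [hr] at h2
  have hu0 : u ≠ 0 := fun h0 => hu (by rw [h0, dB_zero_left])
  have hli : LinearIndependent F ![c, a] := LinearIndependent.pair_iff.2 fun s t h0 => by
    have e1 := congrArg (fun x => sympForm k F x a) h0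
    have e2 := congrArg (fun x => sympForm k F c x) h0
    simp only [sympForm_add_left, sympForm_add_right, sympForm_smul_left, sympForm_smul_right, sympForm_self, hca,
      mul_zero, mul_one, add_zero, zero_add, sympForm_zero_left, sympForm_zero_right] at e1 e2
    exact ⟨e1, e2⟩
  obtain ⟨-, η, -, -, e1, e2⟩ := exists_two_dual hli
  have := congrArg (lslice η) h2
  rw [map_add, map_smul, lslice_tmul, lslice_tmul, lslice_tmul, dotProduct_smul, e1, e2, smul_zero, zero_smul,
    zero_smul, zero_add, one_smul] at this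
  exact (smul_ne_zero hu hu0) this.symm

/-- A symplectic form in standard coordinates. -/
theorem exists_std_form {n : ℕ} (f : (Fin n → F) → (Fin n → F) → F) (hf : Geo.IsSymplecticForm f) :
    ∃ (k : ℕ) (L : (Al k → F) ≃ₗ[F] (Fin n → F)), 2 * k = n ∧ ∀ x x', f (L x) (L x') = sympForm k F x x' := by
  classical
  let B : LinearMap.BilinForm F (Fin n → F) := LinearMap.mk₂ F f hf.bilinear.add_left hf.bilinear.smul_left
    hf.bilinear.add_right hf.bilinear.smul_right
  obtain ⟨k, r, e, d, R, hdim, -, -, hed, hee, hdd, hrad, hspan⟩ :=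
    Cfsg.Agent.Classical.exists_symplectic_family B (fun v => hf.alternating v) n ⊤
      (by rw [finrank_top, finrank_fin_fun])
  have hR : ∀ j, R j = 0 := fun j => by
    by_contra h0
    obtain ⟨x, hx⟩ := (hf.nondegenerate _ h0).2
    exact hx (hrad j x Submodule.mem_top)
  let L : (Al k → F) →ₗ[F] (Fin n → F) := Fintype.linearCombination F (Sum.elim d e)
  have hiso : ∀ x x', f (L x) (L x') = sympForm k F x x' := fun x x' => by
    show B (L x) (L x') = _
    have hde : ∀ i j, B (d i) (e j) = -(if j = i then (1 : F) else 0) := fun i j => by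
      rw [← hed j i]; exact hf.skew _ _
    simp only [L, Fintype.linearCombination_apply, Fintype.sum_sum_type, Sum.elim_inl, Sum.elim_inr, map_add,
      map_sum, map_smul, LinearMap.add_apply, LinearMap.sum_apply, LinearMap.smul_apply, smul_eq_mul, hed, hde,
      hee, hdd]
    simp only [mul_zero, Finset.sum_const_zero, mul_ite, mul_one, mul_neg, add_zero, zero_add, Finset.sum_ite_eq,
      Finset.sum_ite_eq', Finset.mem_univ, if_true, Finset.sum_neg_distrib, sympForm_eq_sum,
      Finset.sum_sub_distrib]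
    simp only [mul_comm (x' _)]
    abel
  have hinj : Function.Injective L := (injective_iff_map_eq_zero L).2 fun x hx => sesq_sympForm.eq_zero x fun z => by
    rw [← hiso, hx]
    first | exact (B _).map_zero | exact LinearMap.map_zero₂ B _
  have hsurj : Function.Surjective L := by
    refine LinearMap.range_eq_top.1 (top_le_iff.1 (hspan.trans (Submodule.span_le.2 ?_)))
    rintro v ((⟨i, rfl⟩ | ⟨i, rfl⟩) | ⟨j, rfl⟩)
    · exact ⟨Pi.single (Sum.inr i) 1, by simp [L, Fintype.linearCombination_apply_single]⟩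
    · exact ⟨Pi.single (Sum.inl i) 1, by simp [L, Fintype.linearCombination_apply_single]⟩
    · rw [hR]; exact zero_mem _
  let L' := LinearEquiv.ofBijective L ⟨hinj, hsurj⟩
  refine ⟨k, L', ?_, hiso⟩
  have := L'.finrank_eq
  rw [finrank_pi, finrank_pi, Fintype.card_sum, Fintype.card_fin, Fintype.card_fin] at this
  omega

/-- `g` is `g'` in tensor coordinates. -/
def Tr {m : ℕ} (Θ : (Al k × Fin b → F) ≃ₗ[F] (Fin m ⊕ Fin m → F)) (g : GL (Fin m ⊕ Fin m) F)
    (g' : GL (Al k × Fin b) F) : Prop :=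
  ∀ x, (g : Matrix (Fin m ⊕ Fin m) (Fin m ⊕ Fin m) F) *ᵥ Θ x =
    Θ ((g' : Matrix (Al k × Fin b) (Al k × Fin b) F) *ᵥ x)

/-- `Sp_n ⊗ GO_b` is maximal for `n ≥ 4`. -/
theorem symplectic_tensor_maximal {m n : ℕ} (h2 : (2 : F) ≠ 0) (hb : 3 ≤ b)
    (hbig : Big F b) (hn : 4 ≤ n) (e : (Fin m ⊕ Fin m) ≃ Fin n × Fin b)
    (P : GL (Fin m ⊕ Fin m) F) (f₁ : (Fin n → F) → (Fin n → F) → F) (f₂ : (Fin b → F) → (Fin b → F) → F)
    (hf₁ : Geo.IsSymplecticForm f₁) (hf₂ : Geo.IsSymmetricForm f₂)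
    (hS : Geo.IsTensorFormStructure id (sympForm m F) f₁ f₂ e P) :
    Geo.IsMaximalIn (spGL m F) (Geo.tensorProductSubgroup n b e P ⊓ spGL m F) := by
  classical
  obtain ⟨c, hc, hpol⟩ := hS
  obtain ⟨k, L, hkn, hL⟩ := exists_std_form f₁ hf₁
  obtain ⟨D, hDdef⟩ : ∃ D, D = c • Geo.gramMatrix f₂ := ⟨_, rfl⟩
  have hdB : ∀ u v, dB D u v = c * f₂ u v := fun u v => by
    rw [hDdef, dB, TensorTwo.gram_apply hf₂.bilinear]
    simp only [Matrix.mulVec, dotProduct, Matrix.smul_apply, smul_eq_mul, Finset.mul_sum]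
    exact Finset.sum_congr rfl fun i _ => Finset.sum_congr rfl fun j _ => by ring
  have hD : Gram D := by
    refine ⟨?_, fun h0 => ?_, h2⟩
    · rw [hDdef]; exact Matrix.ext fun i j => congrArg (c * ·) (hf₂.symm _ _)
    · obtain ⟨v, hv, hv0⟩ := Matrix.exists_mulVec_eq_zero_iff.2 h0
      obtain ⟨x, hx⟩ := (hf₂.nondegenerate v hv).1
      refine mul_ne_zero hc hx ?_
      rw [← hdB, dB, hv0, dotProduct_zero]
  let J : (Al k × Fin b → F) ≃ₗ[F] (Fin n × Fin b → F) :=
    { toFun := fun t p => L (fun s => t (s, p.2)) p.1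
      map_add' := fun t t' => funext fun p => congrFun (L.map_add _ _) p.1
      map_smul' := fun r t => funext fun p => congrFun (L.map_smul r _) p.1
      invFun := fun t p => L.symm (fun i => t (i, p.2)) p.1
      left_inv := fun t => funext fun ⟨s, j⟩ => congrFun (L.symm_apply_apply fun s => t (s, j)) s
      right_inv := fun t => funext fun ⟨i, j⟩ => congrFun (L.apply_symm_apply fun i => t (i, j)) i }
  have hJ : ∀ x v, J (tmul x v) = tmul (L x) v := fun x v => funext fun ⟨i, j⟩ => by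
    show L (fun s => x s * v j) i = L x i * v j
    rw [show (fun s => x s * v j) = v j • x from funext fun s => mul_comm _ _, map_smul, Pi.smul_apply, smul_eq_mul,
      mul_comm]
  let Θ : (Al k × Fin b → F) ≃ₗ[F] (Fin m ⊕ Fin m → F) := J.trans (coordEquiv e P)
  have hΘ : ∀ x v, Θ (tmul x v) = coordEquiv e P (tmul (L x) v) := fun x v => congrArg (coordEquiv e P) (hJ x v)
  have hW : ∀ x y, sympForm m F (Θ x) (Θ y) = W D x y := by
    have key : (sympB m F).compl₁₂ Θ.toLinearMap Θ.toLinearMap = WB D := ext_pure fun x u => ext_pure fun z v => by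
      show sympB m F (Θ (tmul x u)) (Θ (tmul z v)) = W D (tmul x u) (tmul z v)
      rw [sympB_apply, hΘ, hΘ, coordEquiv_apply, coordEquiv_apply, hpol,
        formOfGram_tmul hf₁.bilinear hf₂.bilinear, gramMap_dot hf₁.bilinear, gramMap_dot hf₂.bilinear, hL, W_tmul,
        hdB]
      ring
    exact fun x y => by simpa [sympB_apply, WB] using LinearMap.congr_fun₂ key x y
  have htr : ∀ g, ∃ g', Tr Θ g g' := fun g => by
    obtain ⟨g', hg'⟩ := exists_gl_of_injective (Θ.symm.toLinearMap ∘ₗ Matrix.toLin'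
      (g : Matrix (Fin m ⊕ Fin m) (Fin m ⊕ Fin m) F) ∘ₗ Θ.toLinearMap) fun x x' h => Θ.injective
      (gl_mulVec_injective g (Θ.symm.injective (by simpa [Matrix.toLin'_apply] using h)))
    exact ⟨g', fun x => by rw [hg']; simp⟩
  have htr' : ∀ g', ∃ g, Tr Θ g g' := fun g' => by
    obtain ⟨g, hg⟩ := exists_gl_of_injective (Θ.toLinearMap ∘ₗ Matrix.toLin'
      (g' : Matrix (Al k × Fin b) (Al k × Fin b) F) ∘ₗ Θ.symm.toLinearMap) fun x x' h => Θ.symm.injective
      (gl_mulVec_injective g' (Θ.injective (by simpa [Matrix.toLin'_apply] using h)))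
    exact ⟨g, fun x => by rw [hg]; simp⟩
  have huniq : ∀ {g h g'}, Tr Θ g g' → Tr Θ h g' → g = h := fun {g h g'} hg hh =>
    Units.ext (Matrix.ext_iff_mulVec.2 fun z => by
      obtain ⟨x, rfl⟩ := Θ.surjective z
      rw [hg, hh])
  have hsp : ∀ {g g'}, Tr Θ g g' → (g ∈ spGL m F ↔ g' ∈ SpT k D) := fun {g g'} hg => by
    rw [mem_spGL, mem_SpT]
    refine ⟨fun h x y => by rw [← hW, ← hg, ← hg, h, hW], fun h z z' => ?_⟩
    obtain ⟨x, rfl⟩ := Θ.surjective z
    obtain ⟨y, rfl⟩ := Θ.surjective z'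
    rw [hg, hg, hW, h, hW]
  have hiff : ∀ {g g'}, Tr Θ g g' → (g ∈ Geo.tensorProductSubgroup n b e P ↔ IsKron g') := fun {g g'} hg => by
    rw [Geo.tensorProductSubgroup, Subgroup.map_map]
    constructor
    · rintro ⟨h, ⟨A, B, hh⟩, rfl⟩
      obtain ⟨y, hy⟩ := exists_gl_of_injective (L.symm.toLinearMap ∘ₗ Matrix.toLin' (A : Matrix (Fin n) (Fin n) F) ∘ₗ
        L.toLinearMap) fun x x' h => L.injective
          (gl_mulVec_injective A (L.symm.injective (by simpa [Matrix.toLin'_apply] using h)))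
      refine isKron_of_apply y B fun x v => Θ.injective ?_
      rw [← hg]
      show (((Geo.glReindex e.symm).trans (MulAut.conj P)) h : Matrix (Fin m ⊕ Fin m) (Fin m ⊕ Fin m) F) *ᵥ _ = _
      rw [hΘ, hΘ, coord_compat, hh, kronecker_mulVec, hy]
      simp
    · intro hk
      obtain ⟨y, T, rfl⟩ := exists_kg_of_isKron hk
      obtain ⟨A, hA⟩ := exists_gl_of_injective (L.toLinearMap ∘ₗ Matrix.toLin' (y : Matrix (Al k) (Al k) F) ∘ₗ
        L.symm.toLinearMap) fun x x' h => L.symm.injective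
          (gl_mulVec_injective y (L.injective (by simpa [Matrix.toLin'_apply] using h)))
      refine ⟨kg A T, ⟨A, T, rfl⟩, huniq ?_ hg⟩
      intro z
      show (((Geo.glReindex e.symm).trans (MulAut.conj P)) (kg A T) :
        Matrix (Fin m ⊕ Fin m) (Fin m ⊕ Fin m) F) *ᵥ _ = _
      have key : (Matrix.toLin' (((Geo.glReindex e.symm).trans (MulAut.conj P)) (kg A T) :
          Matrix (Fin m ⊕ Fin m) (Fin m ⊕ Fin m) F)) ∘ₗ Θ.toLinearMap =
          Θ.toLinearMap ∘ₗ Matrix.toLin' (kg y T : Matrix (Al k × Fin b) (Al k × Fin b) F) := ext_pure fun x v => by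
        simp only [LinearMap.comp_apply, LinearEquiv.coe_coe, Matrix.toLin'_apply, kg_apply, hΘ, coord_compat, hA,
          L.symm_apply_apply]
      have := LinearMap.congr_fun key z
      simp only [LinearMap.comp_apply, LinearEquiv.coe_coe, Matrix.toLin'_apply] at this
      exact this
  have hk0 : 0 < k := by omega
  refine ⟨lt_of_le_of_ne inf_le_right fun heq => ?_, fun M hMle hMsp => ?_⟩
  · obtain ⟨g', hg', hk⟩ := exists_not_kron hD hk0 (by omega : 2 ≤ b)
    obtain ⟨g, hg⟩ := htr' g'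
    have hgs := (hsp hg).2 hg'
    rw [← heq] at hgs
    exact hk ((hiff hg).1 hgs.1)
  · let M' : Subgroup (GL (Al k × Fin b) F) :=
      { carrier := {g' | ∃ g ∈ M, Tr Θ g g'}
        mul_mem' := fun ⟨g, hg, h⟩ ⟨g₂, hg₂, h₂⟩ => ⟨g * g₂, mul_mem hg hg₂, fun x => by
          rw [Units.val_mul, ← Matrix.mulVec_mulVec, h₂, h, Units.val_mul, Matrix.mulVec_mulVec]⟩
        one_mem' := ⟨1, one_mem M, fun x => by simp⟩
        inv_mem' := fun {g'} hg' => by
          obtain ⟨g, hg, h⟩ := hg'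
          refine ⟨g⁻¹, inv_mem hg, fun x => gl_mulVec_injective g ?_⟩
          show (g : Matrix (Fin m ⊕ Fin m) (Fin m ⊕ Fin m) F) *ᵥ _ = (g : Matrix (Fin m ⊕ Fin m) (Fin m ⊕ Fin m) F) *ᵥ _
          rw [mulVec_inv_cancel, h, mulVec_inv_cancel] }
    have hO : Ovr D M' := by
      refine ⟨?_, fun g' hg' hk => ?_⟩
      · rintro g' ⟨g, hg, h⟩
        exact (hsp h).1 (hMsp hg)
      obtain ⟨g, hg⟩ := htr' g'
      exact ⟨g, hMle ⟨(hiff hg).2 hk, (hsp hg).2 hg'⟩, hg⟩
    rcases (show (∀ g ∈ M', IsKron g) ∨ SpT k D ≤ M' by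
      by_cases hfull : SpT k D ≤ M'
      · exact Or.inr hfull
      have hstep : Step D M' (k - 1) :=
        { gram := hD
          hb := hb
          hk₀ := by omega
          keq := by omega
          big := hbig
          ovr := hO
          nf := hfull }
      exact Or.inl fun g hg => hstep.all_kron hg) with hall | hfull
    · refine Or.inl (le_antisymm (fun g hg => ⟨?_, hMsp hg⟩) hMle)
      obtain ⟨g', h⟩ := htr g
      exact (hiff h).2 (hall g' ⟨g, hg, h⟩)
    · refine Or.inr (le_antisymm hMsp fun g hg => ?_)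
      obtain ⟨g', h⟩ := htr g
      obtain ⟨g₂, hg₂, h₂⟩ := hfull ((hsp h).1 hg)
      rwa [huniq h h₂]

end Cfsg.Agent.Classical.TensorRoot
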