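import Cfsg.Agent.Lib.Classical.MaxTensorRootRad
import Cfsg.Agent.Lib.Classical.MaxPtSpread

/-!
Splitting the symplectic factor into two orthogonal parts, and the transport of the product space to a standard
symplectic space.
-/

set_option autoImplicit false
set_option linter.unusedSectionVars false

namespace Cfsg.Agent.Classical.TensorRoot

open Matrix Module MaxTv TensorMax
open scoped Kronecker

variable {F : Type*} [Field F] [Fintype F] {k r r' b : ℕ} {D : Matrix (Fin b) (Fin b) F}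

/-- Indices of the two parts. -/
def split (e : Fin r ⊕ Fin r' ≃ Fin k) : Al k ≃ Al r ⊕ Al r' :=
  (Equiv.sumCongr e.symm e.symm).trans (Equiv.sumSumSumComm _ _ _ _)

theorem split_inl (e : Fin r ⊕ Fin r' ≃ Fin k) (i : Fin k) :
    split e (Sum.inl i) = (e.symm i).elim (fun j => Sum.inl (Sum.inl j)) (fun j => Sum.inr (Sum.inl j)) := by
  rcases h : e.symm i with j | j <;> simp [split, h]

theorem split_inr (e : Fin r ⊕ Fin r' ≃ Fin k) (i : Fin k) :
    split e (Sum.inr i) = (e.symm i).elim (fun j => Sum.inl (Sum.inr j)) (fun j => Sum.inr (Sum.inr j)) := by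
  rcases h : e.symm i with j | j <;> simp [split, h]

/-- A vector of the first factor from its two parts. -/
def jn (e : Fin r ⊕ Fin r' ≃ Fin k) : ((Al r → F) × (Al r' → F)) ≃ₗ[F] (Al k → F) where
  toFun x i := (split e i).elim x.1 x.2
  map_add' x y := funext fun i => by rcases h : split e i with j | j <;> simp [h]
  map_smul' c x := funext fun i => by rcases h : split e i with j | j <;> simp [h]
  invFun x := (fun j => x ((split e).symm (Sum.inl j)), fun j => x ((split e).symm (Sum.inr j)))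
  left_inv x := by simp
  right_inv x := funext fun i => by
    rcases h : split e i with j | j <;> simp [h, ← (split e).eq_symm_apply.2 h]

/-- A tensor from its two parts. -/
def join (e : Fin r ⊕ Fin r' ≃ Fin k) :
    ((Al r × Fin b → F) × (Al r' × Fin b → F)) ≃ₗ[F] (Al k × Fin b → F) where
  toFun x p := (split e p.1).elim (fun i => x.1 (i, p.2)) (fun i => x.2 (i, p.2))
  map_add' x y := funext fun p => by rcases h : split e p.1 with j | j <;> simp [h]
  map_smul' c x := funext fun p => by rcases h : split e p.1 with j | j <;> simp [h]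
  invFun x := (fun p => x ((split e).symm (Sum.inl p.1), p.2), fun p => x ((split e).symm (Sum.inr p.1), p.2))
  left_inv x := by simp
  right_inv x := funext fun p => by
    rcases h : split e p.1 with j | j <;> simp [h, ← (split e).eq_symm_apply.2 h]

variable (e : Fin r ⊕ Fin r' ≃ Fin k)

theorem tmul_jn (x : Al r → F) (x' : Al r' → F) (v : Fin b → F) :
    tmul (jn e (x, x')) v = join e (tmul x v, tmul x' v) := by
  funext p
  show (split e p.1).elim x x' * v p.2 = (split e p.1).elim (fun i => x i * v p.2) (fun i => x' i * v p.2)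
  rcases split e p.1 with j | j <;> rfl

theorem sympForm_jn (x y : Al r → F) (x' y' : Al r' → F) :
    sympForm k F (jn e (x, x')) (jn e (y, y')) = sympForm r F x y + sympForm r' F x' y' := by
  rw [sympForm_eq_sum, sympForm_eq_sum, sympForm_eq_sum, ← e.sum_comp, Fintype.sum_sum_type]
  refine congrArg₂ _ (Finset.sum_congr rfl fun i _ => ?_) (Finset.sum_congr rfl fun i _ => ?_) <;>
    simp [jn, split_inl, split_inr]

/-- The product form, bilinearly. -/
def WB (D : Matrix (Fin b) (Fin b) F) : (Al k × Fin b → F) →ₗ[F] (Al k × Fin b → F) →ₗ[F] F :=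
  LinearMap.mk₂ F (W D) (fun x x' y => W_add_left x x' y) (fun c x y => W_smul_left c x y)
    (fun x y y' => W_add_right x y y') (fun c x y => W_smul_right c x y)

theorem W_join (x y : Al r × Fin b → F) (x' y' : Al r' × Fin b → F) :
    W D (join e (x, x')) (join e (y, y')) = W D x y + W D x' y' := by
  let i1 : (Al r × Fin b → F) →ₗ[F] (Al k × Fin b → F) :=
    (join e).toLinearMap ∘ₗ LinearMap.inl F _ (Al r' × Fin b → F)
  let i2 : (Al r' × Fin b → F) →ₗ[F] (Al k × Fin b → F) :=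
    (join e).toLinearMap ∘ₗ LinearMap.inr F (Al r × Fin b → F) _
  have hs : join e (x, x') = i1 x + i2 x' ∧ join e (y, y') = i1 y + i2 y' := by
    constructor <;> simp [i1, i2, ← map_add]
  have p1 : ∀ (a : Al r → F) v, i1 (tmul a v) = tmul (jn e (a, 0)) v := fun a v => by
    rw [tmul_jn, tmul_zero_left]; rfl
  have p2 : ∀ (a : Al r' → F) v, i2 (tmul a v) = tmul (jn e (0, a)) v := fun a v => by
    rw [tmul_jn, tmul_zero_left]; rfl
  have h11 : (WB D).compl₁₂ i1 i1 = WB D := ext_pure fun a v => ext_pure fun c w => by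
    simp [WB, p1, W_tmul, sympForm_jn]
  have h22 : (WB D).compl₁₂ i2 i2 = WB D := ext_pure fun a v => ext_pure fun c w => by
    simp [WB, p2, W_tmul, sympForm_jn]
  have h12 : (WB D).compl₁₂ i1 i2 = 0 := ext_pure fun a v => ext_pure fun c w => by
    simp [WB, p1, p2, W_tmul, sympForm_jn]
  have h21 : (WB D).compl₁₂ i2 i1 = 0 := ext_pure fun a v => ext_pure fun c w => by
    simp [WB, p1, p2, W_tmul, sympForm_jn]
  have g11 : W D (i1 x) (i1 y) = W D x y := LinearMap.congr_fun₂ h11 x y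
  have g22 : W D (i2 x') (i2 y') = W D x' y' := LinearMap.congr_fun₂ h22 x' y'
  have g12 : W D (i1 x) (i2 y') = 0 := LinearMap.congr_fun₂ h12 x y'
  have g21 : W D (i2 x') (i1 y) = 0 := LinearMap.congr_fun₂ h21 x' y
  rw [hs.1, hs.2, W_add_left, W_add_right, W_add_right, g11, g22, g12, g21]
  ring

/-- `g` acts on the two parts by `g₁` and `g₂`. -/
def Blk (g : GL (Al k × Fin b) F) (g₁ : GL (Al r × Fin b) F) (g₂ : GL (Al r' × Fin b) F) : Prop :=
  ∀ x x', (g : Matrix (Al k × Fin b) (Al k × Fin b) F) *ᵥ join e (x, x') =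
    join e ((g₁ : Matrix (Al r × Fin b) (Al r × Fin b) F) *ᵥ x,
      (g₂ : Matrix (Al r' × Fin b) (Al r' × Fin b) F) *ᵥ x')

theorem Blk.mul {g h : GL (Al k × Fin b) F} {g₁ h₁ : GL (Al r × Fin b) F} {g₂ h₂ : GL (Al r' × Fin b) F}
    (hg : Blk e g g₁ g₂) (hh : Blk e h h₁ h₂) : Blk e (g * h) (g₁ * h₁) (g₂ * h₂) := fun x x' => by
  rw [Units.val_mul, ← Matrix.mulVec_mulVec, hh, hg, Units.val_mul, Units.val_mul, Matrix.mulVec_mulVec,
    Matrix.mulVec_mulVec]

theorem Blk.one : Blk e (1 : GL (Al k × Fin b) F) 1 1 := fun x x' => by simp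

theorem Blk.inv {g : GL (Al k × Fin b) F} {g₁ : GL (Al r × Fin b) F} {g₂ : GL (Al r' × Fin b) F}
    (hg : Blk e g g₁ g₂) : Blk e g⁻¹ g₁⁻¹ g₂⁻¹ := fun x x' => by
  refine gl_mulVec_injective g ?_
  show (g : Matrix (Al k × Fin b) (Al k × Fin b) F) *ᵥ _ = (g : Matrix (Al k × Fin b) (Al k × Fin b) F) *ᵥ _
  rw [mulVec_inv_cancel, hg, mulVec_inv_cancel, mulVec_inv_cancel]

theorem Blk.unique {g h : GL (Al k × Fin b) F} {g₁ : GL (Al r × Fin b) F} {g₂ : GL (Al r' × Fin b) F}
    (hg : Blk e g g₁ g₂) (hh : Blk e h g₁ g₂) : g = h := by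
  refine Units.ext (Matrix.ext_iff_mulVec.2 fun t => ?_)
  obtain ⟨⟨x, x'⟩, rfl⟩ := (join e).surjective t
  rw [hg, hh]

theorem Blk.mem_left {g : GL (Al k × Fin b) F} {g₁ : GL (Al r × Fin b) F} {g₂ : GL (Al r' × Fin b) F}
    (hg : Blk e g g₁ g₂) (hm : g ∈ SpT k D) : g₁ ∈ SpT r D := mem_SpT.2 fun x y => by
  have := mem_SpT.1 hm (join e (x, 0)) (join e (y, 0))
  simpa [hg x 0, hg y 0, W_join, W_zero_left] using this

theorem Blk.mem_right {g : GL (Al k × Fin b) F} {g₁ : GL (Al r × Fin b) F} {g₂ : GL (Al r' × Fin b) F}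
    (hg : Blk e g g₁ g₂) (hm : g ∈ SpT k D) : g₂ ∈ SpT r' D := mem_SpT.2 fun x y => by
  have := mem_SpT.1 hm (join e (0, x)) (join e (0, y))
  simpa [hg 0 x, hg 0 y, W_join, W_zero_left] using this

/-- The sum of two maps of the parts. -/
theorem exists_sum (y₁ : GL (Al r) F) (y₂ : GL (Al r') F) : ∃ y : GL (Al k) F, ∀ x x',
    (y : Matrix (Al k) (Al k) F) *ᵥ jn e (x, x') =
      jn e ((y₁ : Matrix (Al r) (Al r) F) *ᵥ x, (y₂ : Matrix (Al r') (Al r') F) *ᵥ x') := by
  let L : (Al k → F) →ₗ[F] (Al k → F) := (jn e).toLinearMap ∘ₗ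
    ((Matrix.toLin' (y₁ : Matrix (Al r) (Al r) F)).prodMap (Matrix.toLin' (y₂ : Matrix (Al r') (Al r') F))) ∘ₗ
      (jn e).symm.toLinearMap
  have hL : ∀ x x', L (jn e (x, x')) = jn e ((y₁ : Matrix (Al r) (Al r) F) *ᵥ x,
      (y₂ : Matrix (Al r') (Al r') F) *ᵥ x') := fun x x' => by simp [L]
  obtain ⟨y, hy⟩ := exists_gl_of_injective L (by
    intro a c hac
    obtain ⟨⟨x, x'⟩, rfl⟩ := (jn e).surjective a
    obtain ⟨⟨z, z'⟩, rfl⟩ := (jn e).surjective c
    rw [hL, hL, (jn e).injective.eq_iff, Prod.ext_iff] at hac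
    rw [gl_mulVec_injective y₁ hac.1, gl_mulVec_injective y₂ hac.2])
  exact ⟨y, fun x x' => by rw [hy, hL]⟩

theorem blk_kg {y : GL (Al k) F} {y₁ : GL (Al r) F} {y₂ : GL (Al r') F} (T : GL (Fin b) F)
    (hy : ∀ x x', (y : Matrix (Al k) (Al k) F) *ᵥ jn e (x, x') =
      jn e ((y₁ : Matrix (Al r) (Al r) F) *ᵥ x, (y₂ : Matrix (Al r') (Al r') F) *ᵥ x')) :
    Blk e (kg y T) (kg y₁ T) (kg y₂ T) := by
  have h1 : ∀ (a : Al r → F) v, (kg y T : Matrix (Al k × Fin b) (Al k × Fin b) F) *ᵥ join e (tmul a v, 0) =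
      join e ((kg y₁ T : Matrix (Al r × Fin b) (Al r × Fin b) F) *ᵥ tmul a v, 0) := fun a v => by
    rw [show join (b := b) e (tmul a v, 0) = tmul (jn e (a, 0)) v by rw [tmul_jn, tmul_zero_left], kg_apply, hy,
      tmul_jn, Matrix.mulVec_zero, tmul_zero_left, kg_apply]
  have h2 : ∀ (a : Al r' → F) v, (kg y T : Matrix (Al k × Fin b) (Al k × Fin b) F) *ᵥ join e (0, tmul a v) =
      join e (0, (kg y₂ T : Matrix (Al r' × Fin b) (Al r' × Fin b) F) *ᵥ tmul a v) := fun a v => by
    rw [show join (b := b) e (0, tmul a v) = tmul (jn e (0, a)) v by rw [tmul_jn, tmul_zero_left], kg_apply, hy,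
      tmul_jn, Matrix.mulVec_zero, tmul_zero_left, kg_apply]
  intro x x'
  have e1 : (Matrix.toLin' (kg y T : Matrix (Al k × Fin b) (Al k × Fin b) F)) ∘ₗ (join e).toLinearMap ∘ₗ
      LinearMap.inl F _ _ = (join e).toLinearMap ∘ₗ LinearMap.inl F _ _ ∘ₗ Matrix.toLin' (kg y₁ T : Matrix (Al r × Fin b) (Al r × Fin b) F) :=
    ext_pure fun a v => by simpa [Matrix.toLin'_apply] using h1 a v
  have e2 : (Matrix.toLin' (kg y T : Matrix (Al k × Fin b) (Al k × Fin b) F)) ∘ₗ (join e).toLinearMap ∘ₗ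
      LinearMap.inr F _ _ = (join e).toLinearMap ∘ₗ LinearMap.inr F _ _ ∘ₗ Matrix.toLin' (kg y₂ T : Matrix (Al r' × Fin b) (Al r' × Fin b) F) :=
    ext_pure fun a v => by simpa [Matrix.toLin'_apply] using h2 a v
  have f1 := LinearMap.congr_fun e1 x
  have f2 := LinearMap.congr_fun e2 x'
  simp only [LinearMap.comp_apply, LinearEquiv.coe_coe, LinearMap.inl_apply, LinearMap.inr_apply,
    Matrix.toLin'_apply] at f1 f2
  rw [show (x, x') = (x, (0 : Al r' × Fin b → F)) + ((0 : Al r × Fin b → F), x') by simp, map_add,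
    Matrix.mulVec_add, f1, f2, ← map_add]
  simp

/-- A similitude of every multiplier. -/
theorem exists_similitude {μ : F} (hμ : μ ≠ 0) : ∃ y : GL (Al k) F, ∀ x x',
    sympForm k F ((y : Matrix (Al k) (Al k) F) *ᵥ x) ((y : Matrix (Al k) (Al k) F) *ᵥ x') =
      μ * sympForm k F x x' := by
  let L : (Al k → F) →ₗ[F] (Al k → F) :=
    { toFun := fun x i => Sum.elim (fun j => μ * x (Sum.inl j)) (fun j => x (Sum.inr j)) i
      map_add' := fun x x' => funext fun i => by rcases i with i | i <;> simp [mul_add]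
      map_smul' := fun c x => funext fun i => by rcases i with i | i <;> simp [mul_left_comm] }
  obtain ⟨y, hy⟩ := exists_gl_of_injective L fun x x' h => funext fun i => by
    rcases i with i | i
    · exact mul_left_cancel₀ hμ (congrFun h (Sum.inl i))
    · exact congrFun h (Sum.inr i)
  refine ⟨y, fun x x' => ?_⟩
  rw [hy, hy, sympForm_eq_sum, sympForm_eq_sum, Finset.mul_sum]
  exact Finset.sum_congr rfl fun i _ => by simp [L]; ring

/-- The multipliers of an element of product shape. -/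
theorem kg_sim (hD : Gram D) (hk : 0 < k) (hb : 0 < b) {y : GL (Al k) F} {T : GL (Fin b) F}
    (h : kg y T ∈ SpT k D) : ∃ μ ν : F, μ * ν = 1 ∧
      (∀ x x', sympForm k F ((y : Matrix (Al k) (Al k) F) *ᵥ x) ((y : Matrix (Al k) (Al k) F) *ᵥ x') =
        μ * sympForm k F x x') ∧
      ∀ u v, dB D ((T : Matrix (Fin b) (Fin b) F) *ᵥ u) ((T : Matrix (Fin b) (Fin b) F) *ᵥ v) = ν * dB D u v := by
  have e : ∀ x u x' v, sympForm k F ((y : Matrix (Al k) (Al k) F) *ᵥ x) ((y : Matrix (Al k) (Al k) F) *ᵥ x') *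
      dB D ((T : Matrix (Fin b) (Fin b) F) *ᵥ u) ((T : Matrix (Fin b) (Fin b) F) *ᵥ v) =
      sympForm k F x x' * dB D u v := fun x u x' v => by
    have := mem_SpT.1 h (tmul x u) (tmul x' v)
    rwa [kg_apply, kg_apply, W_tmul, W_tmul] at this
  obtain ⟨x₀, hx₀⟩ := exists_sympForm_eq_one (u := (Pi.single (Sum.inl ⟨0, hk⟩) 1 : Al k → F)) (by simp)
  obtain ⟨v₀, hv₀⟩ := hD.dB_surj (u := (Pi.single (⟨0, hb⟩ : Fin b) 1)) (by simp)
  set xb := (Pi.single (Sum.inl ⟨0, hk⟩) 1 : Al k → F)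
  set ub := (Pi.single (⟨0, hb⟩ : Fin b) 1 : Fin b → F)
  have e0 := e xb ub x₀ v₀
  rw [hx₀, hv₀, one_mul] at e0
  refine ⟨_, _, e0, fun x x' => ?_, fun u v => ?_⟩
  · have := e x ub x' v₀
    rw [hv₀, mul_one] at this
    linear_combination (sympForm k F ((y : Matrix (Al k) (Al k) F) *ᵥ xb) ((y : Matrix (Al k) (Al k) F) *ᵥ x₀)) *
      this - (sympForm k F ((y : Matrix (Al k) (Al k) F) *ᵥ x) ((y : Matrix (Al k) (Al k) F) *ᵥ x')) * e0
  · have := e xb u x₀ v
    rw [hx₀, one_mul] at this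
    linear_combination (dB D ((T : Matrix (Fin b) (Fin b) F) *ᵥ ub) ((T : Matrix (Fin b) (Fin b) F) *ᵥ v₀)) *
      this - (dB D ((T : Matrix (Fin b) (Fin b) F) *ᵥ u) ((T : Matrix (Fin b) (Fin b) F) *ᵥ v)) * e0

/-- The product space as a standard symplectic space. -/
theorem exists_std (hD : Gram D) : ∃ (E : (Al k × Fin b → F) ≃ₗ[F] (Al (k * b) → F))
    (ψ : GL (Al k × Fin b) F ≃* GL (Al (k * b)) F),
    (∀ x y, sympForm (k * b) F (E x) (E y) = W D x y) ∧
    ∀ (g : GL (Al k × Fin b) F) x, (ψ g : Matrix (Al (k * b)) (Al (k * b)) F) *ᵥ E x =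
      E ((g : Matrix (Al k × Fin b) (Al k × Fin b) F) *ᵥ x) := by
  let e₀ : Al (k * b) ≃ Al k × Fin b :=
    (Equiv.sumCongr finProdFinEquiv.symm finProdFinEquiv.symm).trans (Equiv.sumProdDistrib _ _ _).symm
  let L : (Al (k * b) → F) →ₗ[F] (Al (k * b) → F) :=
    { toFun := fun z s => Sum.elim (fun i => z (Sum.inl i))
        (fun i => ∑ l, D (finProdFinEquiv.symm i).2 l * z (Sum.inr (finProdFinEquiv ((finProdFinEquiv.symm i).1, l)))) s
      map_add' := fun x y => funext fun s => by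
        rcases s with s | s <;> simp [mul_add, Finset.sum_add_distrib]
      map_smul' := fun c x => funext fun s => by
        rcases s with s | s <;> simp [Finset.mul_sum, mul_left_comm] }
  obtain ⟨P, hP⟩ := exists_gl_of_injective L fun z z' h => funext fun s => by
    rcases s with s | s
    · exact congrFun h (Sum.inl s)
    · obtain ⟨⟨i, j⟩, rfl⟩ := finProdFinEquiv.surjective s
      have h' : ∀ l, z (Sum.inr (finProdFinEquiv (i, l))) = z' (Sum.inr (finProdFinEquiv (i, l))) := by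
        refine congrFun (hD.mulVec_inj (funext fun l => ?_))
        have := congrFun h (Sum.inr (finProdFinEquiv (i, l)))
        simpa [L, Matrix.mulVec, dotProduct, Fin.divNat, Fin.modNat, ← finProdFinEquiv_symm_apply] using this
      exact h' j
  refine ⟨coordEquiv e₀ P, (Geo.glReindex e₀.symm).trans (MulAut.conj P), fun x y => ?_,
    fun g x => coord_compat e₀ P g x⟩
  let SB : (Al k × Fin b → F) →ₗ[F] (Al k × Fin b → F) →ₗ[F] F :=
    (sympB (k * b) F).compl₁₂ (coordEquiv e₀ P).toLinearMap (coordEquiv e₀ P).toLinearMap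
  have key : SB = WB D := by
    refine ext_pure fun a u => ext_pure fun c v => ?_
    show sympB (k * b) F (coordEquiv e₀ P (tmul a u)) (coordEquiv e₀ P (tmul c v)) = W D (tmul a u) (tmul c v)
    rw [sympB_apply, W_tmul, coordEquiv_apply, coordEquiv_apply, hP, hP, sympForm_eq_sum, sympForm_eq_sum,
      Finset.sum_mul, ← finProdFinEquiv.sum_comp, Fintype.sum_prod_type]
    refine Finset.sum_congr rfl fun i _ => ?_
    simp only [L, LinearMap.coe_mk, AddHom.coe_mk, Sum.elim_inl, Sum.elim_inr, Equiv.symm_apply_apply,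
      Function.comp_apply, e₀, Equiv.trans_apply, Equiv.sumCongr_apply, Sum.map_inl, Sum.map_inr, tmul,
      Equiv.sumProdDistrib_symm_apply_left, Equiv.sumProdDistrib_symm_apply_right]
    have h1 : ∀ p q : F, ∑ j, (∑ l, D j l * (p * u l)) * (q * v j) = p * q * dB D u v := fun p q => by
      rw [hD.dB_comm]
      simp only [dB, Matrix.mulVec, dotProduct, Finset.mul_sum, Finset.sum_mul]
      exact Finset.sum_congr rfl fun j _ => Finset.sum_congr rfl fun l _ => by ring
    have h2 : ∀ p q : F, ∑ j, (p * u j) * (∑ l, D j l * (q * v l)) = p * q * dB D u v := fun p q => by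
      simp only [dB, Matrix.mulVec, dotProduct, Finset.mul_sum]
      exact Finset.sum_congr rfl fun j _ => Finset.sum_congr rfl fun l _ => by ring
    rw [Finset.sum_sub_distrib, h1, h2]
    ring
  have := LinearMap.congr_fun₂ key x y
  simpa [SB, WB, sympB_apply] using this

end Cfsg.Agent.Classical.TensorRoot
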