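import Cfsg.Agent.Lib.Classical.MaxTensorRootBlock

/-!
Transvections of the product space: pure centres, or all centres of one part, give the whole isometry group.
-/

set_option autoImplicit false
set_option linter.unusedSectionVars false

namespace Cfsg.Agent.Classical.TensorRoot

open Matrix Module MaxTv TensorMax
open scoped Kronecker commutatorElement

variable {F : Type*} [Field F] [Fintype F] {k r r' b : ℕ} {D : Matrix (Fin b) (Fin b) F}

local notation "ω" => sympForm k F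

/-- The transvections at `v` lie in `M`. -/
def Tvs (D : Matrix (Fin b) (Fin b) F) (M : Subgroup (GL (Al k × Fin b) F)) (v : Al k × Fin b → F) : Prop :=
  ∀ c : F, ∃ g ∈ M, ∀ x, (g : Matrix (Al k × Fin b) (Al k × Fin b) F) *ᵥ x = x + (c * W D x v) • v

/-- A vector pairing with two given ones. -/
theorem Gram.exists_both (hD : Gram D) {u v : Fin b → F} (hu : u ≠ 0) (hv : v ≠ 0) :
    ∃ w, dB D u w ≠ 0 ∧ dB D v w ≠ 0 := by
  obtain ⟨w₁, h1⟩ := hD.dB_surj hu
  obtain ⟨w₂, h2⟩ := hD.dB_surj hv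
  by_cases e1 : dB D v w₁ = 0
  · by_cases e2 : dB D u w₂ = 0
    · exact ⟨w₁ + w₂, by rw [dB_add_right, h1, e2, add_zero]; exact one_ne_zero,
        by rw [dB_add_right, e1, h2, zero_add]; exact one_ne_zero⟩
    · exact ⟨w₂, e2, by rw [h2]; exact one_ne_zero⟩
  · exact ⟨w₁, by rw [h1]; exact one_ne_zero, e1⟩

theorem full_of_pure (hD : Gram D) {M : Subgroup (GL (Al k × Fin b) F)}
    (h : ∀ a u, Tvs D M (tmul a u)) : SpT k D ≤ M := by
  obtain ⟨E, ψ, hW, hψ⟩ := exists_std (k := k) hD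
  have hpt : ∀ a u, Pt (M.map ψ.toMonoidHom) (E (tmul a u)) := fun a u c => by
    obtain ⟨g, hg, hgx⟩ := h a u c
    refine ⟨ψ g, ⟨g, hg, rfl⟩, fun z => ?_⟩
    obtain ⟨x, rfl⟩ := E.surjective z
    rw [hψ, hgx, map_add, map_smul, fn_dot sesq_sympForm, sympForm_smul_right, hW]
  let S : Set (Al (k * b) → F) := {z | ∃ a u, a ≠ 0 ∧ u ≠ 0 ∧ z = E (tmul a u)}
  have hspan : Submodule.span F S = ⊤ := by
    refine Submodule.eq_top_iff'.2 fun z => ?_
    obtain ⟨x, rfl⟩ := E.surjective z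
    rw [sum_tmul_basis x, map_sum]
    refine Submodule.sum_mem _ fun p _ => ?_
    rw [map_smul]
    exact Submodule.smul_mem _ _ (Submodule.subset_span ⟨_, _, by simp, by simp, rfl⟩)
  have hle : spGL (k * b) F ≤ M.map ψ.toMonoidHom := by
    refine spGL_le_of_connected hD.two (S := S) (fun z hz => ?_) hspan (fun z hz z' hz' => ?_)
    · obtain ⟨a, u, -, -, rfl⟩ := hz
      exact hpt a u
    · obtain ⟨a, u, ha, hu, rfl⟩ := hz
      obtain ⟨a', u', ha', hu', rfl⟩ := hz'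
      obtain ⟨c, hc, hc'⟩ := exists_sympForm_ne_zero_both ha ha'
      obtain ⟨w, hw, hw'⟩ := hD.exists_both hu hu'
      refine (Relation.ReflTransGen.single ⟨hpt a u, hpt c w, ?_⟩).tail ⟨hpt c w, hpt a' u', ?_⟩
      all_goals rw [hW, W_tmul]
      all_goals first
        | exact mul_ne_zero hc hw
        | (rw [hD.dB_comm w, sympForm_swap]; exact mul_ne_zero (neg_ne_zero.2 hc') hw')
  intro g hg
  obtain ⟨g', hg', e⟩ := hle (show ψ g ∈ spGL (k * b) F from mem_spGL.2 fun z z' => by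
    obtain ⟨x, rfl⟩ := E.surjective z
    obtain ⟨y, rfl⟩ := E.surjective z'
    rw [hψ, hψ, hW, hW, mem_SpT.1 hg])
  rwa [← ψ.injective e]

theorem exists_SpT_tv (hD : Gram D) (v : Al k × Fin b → F) (c : F) : ∃ g ∈ SpT k D,
    ∀ x, (g : Matrix (Al k × Fin b) (Al k × Fin b) F) *ᵥ x = x + (c * W D x v) • v := by
  obtain ⟨E, ψ, hW, hψ⟩ := exists_std (k := k) hD
  obtain ⟨g, hg, hgx⟩ := exists_sp_tv (E v) c
  have hx : ∀ x, (ψ.symm g : Matrix (Al k × Fin b) (Al k × Fin b) F) *ᵥ x = x + (c * W D x v) • v := fun x => by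
    apply E.injective
    rw [← hψ, MulEquiv.apply_symm_apply, hgx, map_add, map_smul, hW]
  refine ⟨ψ.symm g, mem_SpT.2 fun x y => ?_, hx⟩
  rw [← hW, ← hψ, ← hψ, MulEquiv.apply_symm_apply, mem_spGL.1 hg, hW]

theorem top_of_normal (hD : Gram D) (hb : 3 ≤ k * b) {K : Subgroup (GL (Al k × Fin b) F)} (hK : K ≤ SpT k D)
    (hnorm : ∀ h ∈ SpT k D, ∀ g ∈ K, h * g * h⁻¹ ∈ K)
    (hnc : ∃ g ∈ K, ∃ h ∈ SpT k D, g * h ≠ h * g) : SpT k D ≤ K := by
  obtain ⟨E, ψ, hW, hψ⟩ := exists_std (k := k) hD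
  let φ : Matrix.symplecticGroup (Fin (k * b)) F →* GL (Al (k * b)) F :=
    MonoidHom.toHomUnits (Submonoid.subtype (Matrix.symplecticGroup (Fin (k * b)) F))
  have hφinj : Function.Injective φ := fun x y h => Subtype.ext (congrArg Units.val h :)
  let τ : Matrix.symplecticGroup (Fin (k * b)) F →* GL (Al k × Fin b) F := ψ.symm.toMonoidHom.comp φ
  have hτmem : ∀ x, τ x ∈ SpT k D := fun x => mem_SpT.2 fun u v => by
    rw [← hW, ← hψ, ← hψ]
    show sympForm (k * b) F ((ψ (ψ.symm (φ x)) : Matrix _ _ F) *ᵥ E u) ((ψ (ψ.symm (φ x)) : Matrix _ _ F) *ᵥ E v) = _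
    rw [MulEquiv.apply_symm_apply]
    exact (sympForm_map x _ _).trans (hW u v)
  have hτsurj : ∀ g ∈ SpT k D, ∃ x, τ x = g := fun g hg => by
    have hm : ψ g ∈ spGL (k * b) F := mem_spGL.2 fun z z' => by
      obtain ⟨x, rfl⟩ := E.surjective z
      obtain ⟨y, rfl⟩ := E.surjective z'
      rw [hψ, hψ, hW, hW, mem_SpT.1 hg]
    exact ⟨⟨(ψ g : Matrix _ _ F), mem_symplecticGroup_iff_form.2 (mem_spGL.1 hm)⟩,
      ψ.injective (by
        show ψ (ψ.symm _) = ψ g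
        rw [MulEquiv.apply_symm_apply]; exact Units.ext rfl)⟩
  obtain ⟨g, hg, h, hh, hgh⟩ := hnc
  obtain ⟨x, rfl⟩ := hτsurj g (hK hg)
  obtain ⟨y, rfl⟩ := hτsurj h hh
  let N := K.comap τ
  have hN : N.Normal := ⟨fun n hn z => by
    show τ (z * n * z⁻¹) ∈ K
    rw [map_mul, map_mul, map_inv]
    exact hnorm _ (hτmem z) _ hn⟩
  have hperf := symp_perfect_of_card (F := F) (m := k * b) (Or.inl hb)
  haveI := PSp_isSimpleGroup (F := F) (m := k * b) (by omega) hperf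
  have hsurj : Function.Surjective (QuotientGroup.mk' (Subgroup.center
      (Matrix.symplecticGroup (Fin (k * b)) F))) := QuotientGroup.mk'_surjective _
  rcases IsSimpleGroup.eq_bot_or_eq_top_of_normal (N.map (QuotientGroup.mk' _)) (hN.map _ hsurj) with hb' | ht
  · exfalso
    have hx : x ∈ Subgroup.center (Matrix.symplecticGroup (Fin (k * b)) F) := by
      have := Subgroup.mem_map_of_mem (QuotientGroup.mk' (Subgroup.center
        (Matrix.symplecticGroup (Fin (k * b)) F))) (show x ∈ N from hg)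
      rw [hb', Subgroup.mem_bot] at this
      exact (QuotientGroup.eq_one_iff x).1 this
    exact hgh ((τ.map_mul x y).symm.trans ((congrArg (⇑τ) (Subgroup.mem_center_iff.1 hx y).symm).trans (τ.map_mul y x)))
  · have htop : N = ⊤ := by
      refine top_le_iff.1 (hperf ▸ ?_)
      rw [commutator_def, Subgroup.commutator_le]
      intro u _ v _
      obtain ⟨n, hn, e⟩ := ht.ge (Subgroup.mem_top (QuotientGroup.mk' _ u))
      obtain ⟨z, hz, rfl⟩ : ∃ z ∈ Subgroup.center (Matrix.symplecticGroup (Fin (k * b)) F), n * z = u :=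
        ⟨n⁻¹ * u, QuotientGroup.eq.1 e, mul_inv_cancel_left n u⟩
      have hzv := Subgroup.mem_center_iff.1 hz v
      have : ⁅n * z, v⁆ = n * (v * n⁻¹ * v⁻¹) := by
        rw [commutatorElement_def, _root_.mul_inv_rev]
        calc n * z * v * (z⁻¹ * n⁻¹) * v⁻¹ = n * (v * z) * (z⁻¹ * n⁻¹) * v⁻¹ := by rw [hzv]; group
          _ = n * (v * n⁻¹ * v⁻¹) := by group
      rw [this]
      exact N.mul_mem hn (hN.conj_mem _ (N.inv_mem hn) v)
    intro g' hg'
    obtain ⟨z, rfl⟩ := hτsurj g' hg'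
    exact (htop ▸ Subgroup.mem_top z : z ∈ N)

/-- The projection of an overgroup to a part. -/
def proj (e : Fin r ⊕ Fin r' ≃ Fin k) (M : Subgroup (GL (Al k × Fin b) F)) : Subgroup (GL (Al r × Fin b) F) where
  carrier := {g₁ | ∃ g ∈ M, ∃ g₂, Blk e g g₁ g₂}
  mul_mem' := fun ⟨g, hg, g₂, h⟩ ⟨g', hg', g₂', h'⟩ => ⟨g * g', mul_mem hg hg', g₂ * g₂', h.mul e h'⟩
  one_mem' := ⟨1, one_mem M, 1, Blk.one e⟩
  inv_mem' := fun ⟨g, hg, g₂, h⟩ => ⟨g⁻¹, inv_mem hg, g₂⁻¹, h.inv e⟩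

theorem proj_ovr (hD : Gram D) (hb : 0 < b) (hr : 0 < r) (e : Fin r ⊕ Fin r' ≃ Fin k)
    {M : Subgroup (GL (Al k × Fin b) F)} (hM : Ovr D M) : Ovr D (proj e M) := by
  refine ⟨fun g₁ ⟨g, hg, g₂, h⟩ => h.mem_left e (hM.le hg), fun g₁ hg₁ hk => ?_⟩
  obtain ⟨y, T, rfl⟩ := exists_kg_of_isKron hk
  obtain ⟨μ, ν, hμν, hy, hT⟩ := kg_sim hD hr hb hg₁
  obtain ⟨y', hy'⟩ := exists_similitude (k := r') (left_ne_zero_of_mul_eq_one hμν)
  obtain ⟨z, hz⟩ := exists_sum e y y'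
  refine ⟨kg z T, hM.mem _ (kg_mem z T μ ν (fun x x' => ?_) hT hμν) (kg_isKron _ _), kg y' T, blk_kg e T hz⟩
  obtain ⟨⟨x₁, x₂⟩, rfl⟩ := (jn e).surjective x
  obtain ⟨⟨x₁', x₂'⟩, rfl⟩ := (jn e).surjective x'
  rw [hz, hz, sympForm_jn, sympForm_jn, hy, hy']
  ring

/-- A part on which the projection is everything gives the whole group. -/
theorem full_of_proj (hD : Gram D) (hb : 3 ≤ b) (hr : 0 < r) (e : Fin r ⊕ Fin r' ≃ Fin k)
    {M : Subgroup (GL (Al k × Fin b) F)} (hM : Ovr D M) (h : SpT r D ≤ proj e M) : SpT k D ≤ M := by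
  let K : Subgroup (GL (Al r × Fin b) F) :=
    { carrier := {g₁ | ∃ g ∈ M, Blk e g g₁ (1 : GL (Al r' × Fin b) F)}
      mul_mem' := fun ⟨g, hg, h⟩ ⟨g', hg', h'⟩ => ⟨g * g', mul_mem hg hg', by simpa using h.mul e h'⟩
      one_mem' := ⟨1, one_mem M, Blk.one e⟩
      inv_mem' := fun ⟨g, hg, h⟩ => ⟨g⁻¹, inv_mem hg, by simpa using h.inv e⟩ }
  have hK : K ≤ SpT r D := fun g₁ ⟨g, hg, hb⟩ => hb.mem_left e (hM.le hg)
  obtain ⟨a, c, hca⟩ : ∃ a c : Al r → F, sympForm r F c a = 1 :=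
    ⟨_, _, sympForm_single_pair ⟨0, hr⟩⟩
  obtain ⟨y, hy, hyx⟩ := exists_tv a (1 : F)
  obtain ⟨y', hy', hyx'⟩ := exists_tv c (1 : F)
  obtain ⟨z, hz⟩ := exists_sum e y (1 : GL (Al r') F)
  have hzi : ∀ x x', ω ((z : Matrix (Al k) (Al k) F) *ᵥ x) ((z : Matrix (Al k) (Al k) F) *ᵥ x') = ω x x' :=
    fun x x' => by
      obtain ⟨⟨x₁, x₂⟩, rfl⟩ := (jn e).surjective x
      obtain ⟨⟨x₁', x₂'⟩, rfl⟩ := (jn e).surjective x'
      rw [hz, hz, sympForm_jn, sympForm_jn, hy, Units.val_one, Matrix.one_mulVec, Matrix.one_mulVec]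
  obtain ⟨u₀, hu₀⟩ : ∃ u : Fin b → F, u ≠ 0 := ⟨Pi.single ⟨0, by omega⟩ 1, by simp⟩
  have htop : SpT r D ≤ K := by
    refine top_of_normal hD (le_trans hb (Nat.le_mul_of_pos_left b hr)) hK (fun h₁ hh₁ g₁ hg₁ => ?_)
      ⟨kg y 1, ⟨kg z 1, hM.kg_left hzi, ?_⟩, kg y' 1, kg_one_mem_left hy', fun heq => ?_⟩
    · obtain ⟨f, hf, f₂, hfb⟩ := h hh₁
      obtain ⟨g, hg, hgb⟩ := hg₁
      exact ⟨f * g * f⁻¹, mul_mem (mul_mem hf hg) (inv_mem hf), by simpa using (hfb.mul e hgb).mul e (hfb.inv e)⟩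
    · have := blk_kg e (b := b) (1 : GL (Fin b) F) hz
      rwa [kg_one] at this
    · have := congrArg (fun g : GL (Al r × Fin b) F =>
        (g : Matrix (Al r × Fin b) (Al r × Fin b) F) *ᵥ tmul a u₀) heq
      simp only [Units.val_mul, ← Matrix.mulVec_mulVec, kg_apply, Units.val_one, Matrix.one_mulVec] at this
      have hac : sympForm r F a c = -1 := by rw [sympForm_swap, hca]
      have := fac_injective hu₀ this
      rw [hyx, hyx', hyx', hyx] at this
      simp only [sympForm_add_left, sympForm_smul_left, sympForm_self, hca, hac, one_mul, mul_zero,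
        add_zero, zero_add, zero_smul, mul_one, neg_smul, one_smul, neg_neg] at this
      have ha : a ≠ 0 := fun h0 => by rw [h0, sympForm_zero_right] at hca; exact zero_ne_one hca
      refine ha ?_
      have h0 := congrArg (fun w => sympForm r F w c) this
      simp only [sympForm_add_left, sympForm_smul_left, sympForm_self, hac] at h0
      rw [← neg_one_smul F c, sympForm_smul_left, sympForm_smul_left, sympForm_self, hca] at h0
      simp at h0
  refine full_of_pure hD fun a' u => ?_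
  have hpart : ∀ x, Tvs D M (join e (x, (0 : Al r' × Fin b → F))) := fun x c => by
    obtain ⟨g₁, hg₁, hgx⟩ := exists_SpT_tv hD x c
    obtain ⟨g, hg, hgb⟩ := htop hg₁
    refine ⟨g, hg, fun t => ?_⟩
    obtain ⟨⟨t₁, t₂⟩, rfl⟩ := (join e).surjective t
    rw [hgb, hgx, Units.val_one, Matrix.one_mulVec, W_join, W_zero_right, add_zero, ← map_smul, ← map_add]
    simp
  rcases eq_or_ne a' 0 with rfl | ha'
  · exact fun c' => ⟨1, one_mem M, fun t => by simp [tmul_zero_left]⟩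
  obtain ⟨c', hc'⟩ := exists_sympForm_eq_one ha'
  obtain ⟨w, hw, hwa, -⟩ := exists_pair_map (k := k) (a := jn e (a, 0)) (c := jn e (c, 0)) (a' := a')
    (c' := -c') (by rw [sympForm_jn, hca, sympForm_self, add_zero])
    (by rw [← neg_one_smul F c', sympForm_smul_left, sympForm_swap, hc']; ring)
  intro c₀
  obtain ⟨g, hg, hgx⟩ := hpart (tmul a u) c₀
  refine ⟨kg w 1 * g * (kg w 1)⁻¹, mul_mem (mul_mem (hM.kg_left hw) hg) (inv_mem (hM.kg_left hw)), fun t => ?_⟩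
  have hv : (kg w (1 : GL (Fin b) F) : Matrix (Al k × Fin b) (Al k × Fin b) F) *ᵥ
      join e (tmul a u, (0 : Al r' × Fin b → F)) = tmul a' u := by
    rw [show (0 : Al r' × Fin b → F) = tmul (0 : Al r' → F) u from (tmul_zero_left u).symm, ← tmul_jn, kg_apply,
      hwa, Units.val_one, Matrix.one_mulVec]
  rw [Units.val_mul, Units.val_mul, ← Matrix.mulVec_mulVec, ← Matrix.mulVec_mulVec, hgx, Matrix.mulVec_add,
    mulVec_inv_cancel, Matrix.mulVec_smul, hv]
  congr 3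
  rw [← hv, ← (hM.iso (hM.kg_left hw)) ((((kg w 1)⁻¹ : GL (Al k × Fin b) F) : Matrix (Al k × Fin b) (Al k × Fin b) F) *ᵥ t)
    (join e (tmul a u, (0 : Al r' × Fin b → F))), mulVec_inv_cancel]

end Cfsg.Agent.Classical.TensorRoot
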