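import Cfsg.Agent.Lib.Classical.MaxTensorRootStab
import Cfsg.Agent.Lib.Classical.QuadraticPairEven
import Mathlib.GroupTheory.Nilpotent

/-!
The conjugates of a tensored transvection: fusion, and the pair of two of them outside the product.
-/

set_option autoImplicit false
set_option linter.unusedSectionVars false

namespace Cfsg.Agent.Classical.TensorRoot

open Matrix Module MaxTv TensorMax
open scoped Kronecker

variable {F : Type*} [Field F] [Fintype F] {k k₀ b : ℕ} {D : Matrix (Fin b) (Fin b) F}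
  {M : Subgroup (GL (Al k × Fin b) F)}

local notation "ω" => sympForm k F
local notation "Ma" => Matrix (Al k) (Al k) F
local notation "Mb" => Matrix (Fin b) (Fin b) F
local notation "Mn" => Matrix (Al k × Fin b) (Al k × Fin b) F
local notation "V" => (Al k × Fin b → F)

theorem facR_injective {a : Al k → F} (ha : a ≠ 0) : Function.Injective (facR (b := b) a) := by
  obtain ⟨ξ, hξ⟩ := exists_dual ha
  intro u v h
  have := congrArg (lslice ξ) h
  rwa [show facR a u = tmul a u from rfl, show facR a v = tmul a v from rfl, lslice_tmul, lslice_tmul, hξ,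
    one_smul, one_smul] at this

theorem tmul_neg_right (x : Al k → F) (v : Fin b → F) : tmul x (-v) = -tmul x v := (facR x).map_neg v

theorem tmul_neg_left (x : Al k → F) (v : Fin b → F) : tmul (-x) v = -tmul x v := (fac v).map_neg x

/-- The first factors of equal pure tensors are proportional. -/
theorem eq_smul_of_tmul {x x' : Al k → F} {v v' : Fin b → F} (hv : v ≠ 0) (h : tmul x v = tmul x' v') :
    ∃ r : F, x = r • x' := by
  obtain ⟨ψ, hψ⟩ := exists_dual hv
  have := congrArg (slice ψ) h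
  rw [slice_tmul, slice_tmul, hψ, one_smul] at this
  exact ⟨_, this⟩

/-- Dual functionals of two independent vectors. -/
theorem exists_two_dual {n : Type} [Fintype n] [DecidableEq n] {x y : n → F} (h : LinearIndependent F ![x, y]) :
    ∃ ξ η : n → F, ξ ⬝ᵥ x = 1 ∧ ξ ⬝ᵥ y = 0 ∧ η ⬝ᵥ x = 0 ∧ η ⬝ᵥ y = 1 := by
  obtain ⟨ξ₀, h₀⟩ := exists_dual (z := x) (by simpa using h.ne_zero 0)
  have hz : y - (ξ₀ ⬝ᵥ y) • x ≠ 0 := fun h0 => one_ne_zero
    (LinearIndependent.pair_iff.1 h (-(ξ₀ ⬝ᵥ y)) 1 (by rw [neg_smul, one_smul, neg_add_eq_sub, h0])).2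
  obtain ⟨ψ, hψ⟩ := exists_dual hz
  rw [dotProduct_sub, dotProduct_smul, smul_eq_mul] at hψ
  have e1 : (ψ - (ψ ⬝ᵥ x) • ξ₀) ⬝ᵥ x = 0 := by
    rw [sub_dotProduct, smul_dotProduct, h₀, smul_eq_mul, mul_one, sub_self]
  have e2 : (ψ - (ψ ⬝ᵥ x) • ξ₀) ⬝ᵥ y = 1 := by
    rw [sub_dotProduct, smul_dotProduct, smul_eq_mul, mul_comm, hψ]
  refine ⟨ξ₀ - (ξ₀ ⬝ᵥ y) • (ψ - (ψ ⬝ᵥ x) • ξ₀), ψ - (ψ ⬝ᵥ x) • ξ₀, ?_, ?_, e1, e2⟩
  · rw [sub_dotProduct, smul_dotProduct, e1, h₀, smul_zero, sub_zero]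
  · rw [sub_dotProduct, smul_dotProduct, e2, smul_eq_mul, mul_one, sub_self]

/-- An endomorphism fixing every line is scalar. -/
theorem exists_scalar {n : Type} [Fintype n] [DecidableEq n] (A : Matrix n n F)
    (h : ∀ v, ∃ r : F, A *ᵥ v = r • v) : ∃ l : F, ∀ v, A *ᵥ v = l • v := by
  obtain ⟨l, hl⟩ := (Matrix.toLin' A).exists_eq_smul_id_of_forall_notLinearIndependent fun v hli => by
    obtain ⟨r, hr⟩ := h v
    exact neg_ne_zero.2 one_ne_zero (LinearIndependent.pair_iff.1 hli r (-1) (by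
      rw [Matrix.toLin'_apply, hr, neg_one_smul, add_neg_cancel])).2
  exact ⟨l, fun v => by rw [← Matrix.toLin'_apply, hl]; rfl⟩

/-- `t` moves the space into `a ⊗ U` by contraction with `a`. -/
theorem tv_apply {a : Al k → F} {ya : GL (Al k) F} (hya : ∀ x, (ya : Ma) *ᵥ x = x + ω x a • a) (x : V) :
    (kg ya (1 : GL (Fin b) F) : Mn) *ᵥ x = x + tmul a (cp a x) := by
  let L : V →ₗ[F] V := LinearMap.id + (facR a).comp (cp a)
  have := ext_pure (L := Matrix.toLin' (kg ya (1 : GL (Fin b) F) : Mn)) (L' := L) fun z v => by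
    show Matrix.toLin' (kg ya (1 : GL (Fin b) F) : Mn) (tmul z v) = tmul z v + tmul a (cp a (tmul z v))
    rw [Matrix.toLin'_apply, kg_apply, hya, Units.val_one, Matrix.one_mulVec, cp_tmul, tmul_add_left,
      tmul_smul_left, tmul_smul_right]
  have h := LinearMap.congr_fun this x
  rwa [Matrix.toLin'_apply] at h

/-- A conjugate of a tensored transvection of product shape has a range `a' ⊗ U`. -/
theorem fusion_range (h2F : (2 : F) ≠ 0) (hb0 : 0 < b) {g : GL (Al k × Fin b) F} (hg : IsKron g)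
    {L : (Fin b → F) →ₗ[F] V} (hL : Function.Injective L)
    (hrange : LinearMap.range (Matrix.toLin' ((g : Mn) - 1)) = LinearMap.range L)
    (hsq : ∀ x, ((g : Mn) - 1) *ᵥ (((g : Mn) - 1) *ᵥ x) = 0) :
    (∃ a' : Al k → F, a' ≠ 0 ∧ ∀ u, ∃ u', L u = tmul a' u') ∨
      ∃ R : Submodule F (Fin b → F), (k + k) * finrank F R = b ∧
        (∀ x, ∀ r ∈ R, ∃ u, L u = tmul x r) ∧ ∀ u i, (fun j => L u (i, j)) ∈ R := by
  classical
  obtain ⟨y, T, rfl⟩ := exists_kg_of_isKron hg
  have hN : ∀ x v, ((kg y T : Mn) - 1) *ᵥ tmul x v = tmul ((y : Ma) *ᵥ x) ((T : Mb) *ᵥ v) - tmul x v := fun x v => by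
    rw [Matrix.sub_mulVec, kg_apply, Matrix.one_mulVec]
  have hdim : finrank F (LinearMap.range (Matrix.toLin' ((kg y T : Mn) - 1))) = b := by
    rw [hrange, LinearMap.finrank_range_of_inj hL, finrank_fin_fun]
  have hTs : (∀ x, ∃ r : F, (y : Ma) *ᵥ x = r • x) ∨ ∀ v, ∃ r : F, (T : Mb) *ᵥ v = r • v := by
    rw [or_iff_not_imp_left]
    intro hy
    push Not at hy
    obtain ⟨x, hx⟩ := hy
    have hli : LinearIndependent F ![x, (y : Ma) *ᵥ x] := by
      have hx0 : x ≠ 0 := fun h0 => hx 0 (by rw [h0]; simp)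
      exact (LinearIndependent.pair_iff' hx0).2 fun r hr => hx r hr.symm
    have hexp : ∀ v, tmul ((y : Ma) *ᵥ ((y : Ma) *ᵥ x)) ((T : Mb) *ᵥ ((T : Mb) *ᵥ v)) -
        tmul ((y : Ma) *ᵥ x) ((T : Mb) *ᵥ v) - (tmul ((y : Ma) *ᵥ x) ((T : Mb) *ᵥ v) - tmul x v) = 0 := fun v => by
      have := hsq (tmul x v)
      rwa [hN, Matrix.mulVec_sub, hN, hN] at this
    obtain ⟨ξ, η, hξ1, hξ2, hη1, hη2⟩ := exists_two_dual hli
    have hT2 : ∀ v, (ξ ⬝ᵥ ((y : Ma) *ᵥ ((y : Ma) *ᵥ x))) • ((T : Mb) *ᵥ ((T : Mb) *ᵥ v)) = -v := fun v => by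
      have := congrArg (lslice ξ) (hexp v)
      simp only [map_sub, map_zero, lslice_tmul, hξ1, hξ2, zero_smul, one_smul, sub_zero, zero_sub,
        sub_neg_eq_add] at this
      exact eq_neg_of_add_eq_zero_left this
    intro v
    have h := congrArg (lslice η) (hexp v)
    simp only [map_sub, map_zero, lslice_tmul, hη1, hη2, zero_smul, one_smul, sub_zero] at h
    set s := ξ ⬝ᵥ ((y : Ma) *ᵥ ((y : Ma) *ᵥ x))
    have hs : s ≠ 0 := fun h0 => by
      have := hT2 (Pi.single ⟨0, hb0⟩ 1)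
      rw [h0, zero_smul] at this
      simpa using congrFun this ⟨0, hb0⟩
    have h2 := hT2 v
    rw [eq_neg_iff_add_eq_zero] at h2
    refine ⟨-((η ⬝ᵥ ((y : Ma) *ᵥ ((y : Ma) *ᵥ x))) / (2 * s)), ?_⟩
    have e1 : (T : Mb) *ᵥ ((T : Mb) *ᵥ v) = -(s⁻¹ • v) := by
      rw [← smul_neg, eq_inv_smul_iff₀ hs, eq_neg_iff_add_eq_zero, h2]
    rw [e1] at h
    refine smul_right_injective _ h2F ?_
    show (2 : F) • ((T : Mb) *ᵥ v) = _
    rw [two_smul, ← sub_eq_zero.1 (show (η ⬝ᵥ ((y : Ma) *ᵥ ((y : Ma) *ᵥ x))) • -(s⁻¹ • v) -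
      ((T : Mb) *ᵥ v + (T : Mb) *ᵥ v) = 0 by rw [← h]; abel)]
    match_scalars
    field_simp
  rcases hTs with hy | hT
  · obtain ⟨μ, hμ⟩ := exists_scalar (y : Ma) hy
    refine Or.inr ?_
    let R : (Fin b → F) →ₗ[F] (Fin b → F) := μ • Matrix.toLin' (T : Mb) - LinearMap.id
    let Θ : (Al k → LinearMap.range R) →ₗ[F] V :=
      { toFun := fun f p => (f p.1 : Fin b → F) p.2
        map_add' := fun f f' => rfl
        map_smul' := fun r f => rfl }
    let L' : V →ₗ[F] (Al k → LinearMap.range R) :=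
      LinearMap.pi fun i => R.rangeRestrict.comp (LinearMap.funLeft F F (fun j : Fin b => (i, j)))
    have hΘ : Function.Injective Θ := fun f f' h => funext fun i => Subtype.ext (funext fun j => congrFun h (i, j))
    have hΘL : Θ.comp L' = Matrix.toLin' ((kg y T : Mn) - 1) := ext_pure fun x v => by
      rw [Matrix.toLin'_apply, hN, hμ, tmul_smul_left, ← tmul_smul_right]
      funext ⟨i, j⟩
      show R (fun j' => x i * v j') j = x i * (μ • ((T : Mb) *ᵥ v)) j - x i * v j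
      rw [show (fun j' => x i * v j') = x i • v from rfl, map_smul]
      show x i * (μ * ((T : Mb) *ᵥ v) j - v j) = x i * (μ * ((T : Mb) *ᵥ v) j) - x i * v j
      ring
    have hL' : LinearMap.range L' = ⊤ := by
      refine LinearMap.range_eq_top.2 fun f => ?_
      choose w hw using fun i => LinearMap.surjective_rangeRestrict R (f i)
      exact ⟨fun p => w p.1 p.2, funext fun i => hw i⟩
    have hr : LinearMap.range L = LinearMap.range Θ := by
      rw [← hrange, ← hΘL, LinearMap.range_comp, hL', Submodule.map_top]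
    refine ⟨LinearMap.range R, ?_, fun x r hr' => ?_, fun u i => ?_⟩
    · rw [hrange, hr, LinearMap.finrank_range_of_inj hΘ, Module.finrank_pi_fintype, Finset.sum_const,
        Finset.card_univ, Fintype.card_sum, Fintype.card_fin, smul_eq_mul] at hdim
      exact hdim
    · have : tmul x r ∈ LinearMap.range L := by
        rw [hr]
        exact ⟨fun i => x i • ⟨r, hr'⟩, funext fun q => rfl⟩
      exact this
    · obtain ⟨f, hf⟩ := hr.le (LinearMap.mem_range_self L u)
      rw [← hf]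
      exact (f i).2
  · obtain ⟨ν, hν⟩ := exists_scalar (T : Mb) hT
    let Y : (Al k → F) →ₗ[F] (Al k → F) := ν • Matrix.toLin' (y : Ma) - LinearMap.id
    have hN' : ∀ x v, ((kg y T : Mn) - 1) *ᵥ tmul x v = tmul (Y x) v := fun x v => by
      rw [hN, hν, tmul_smul_right, ← tmul_smul_left, ← tmul_sub_left]; rfl
    obtain ⟨x₀, hx₀⟩ : ∃ x, Y x ≠ 0 := by
      by_contra hc
      push Not at hc
      have h0 : Matrix.toLin' ((kg y T : Mn) - 1) = 0 := ext_pure fun x v => by
        rw [Matrix.toLin'_apply, hN', hc, tmul_zero_left]; rfl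
      rw [h0, LinearMap.range_zero, finrank_bot] at hdim
      omega
    have hline : ∀ x, ∃ r : F, Y x = r • Y x₀ := fun x => by
      by_contra hc
      push Not at hc
      have hli : LinearIndependent F ![Y x₀, Y x] :=
        (LinearIndependent.pair_iff' hx₀).2 fun r hr => hc r hr.symm
      let J : ((Fin b → F) × (Fin b → F)) →ₗ[F] V :=
        (Matrix.toLin' ((kg y T : Mn) - 1)).comp ((facR x₀).coprod (facR x))
      have hJ : ∀ u v, J (u, v) = tmul (Y x₀) u + tmul (Y x) v := fun u v => by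
        show Matrix.toLin' ((kg y T : Mn) - 1) (tmul x₀ u + tmul x v) = _
        rw [Matrix.toLin'_apply, Matrix.mulVec_add, hN', hN']
      have hJi : Function.Injective J := by
        rw [injective_iff_map_eq_zero]
        rintro ⟨u, v⟩ huv
        rw [hJ] at huv
        obtain ⟨ξ, η, e1, e2, e3, e4⟩ := exists_two_dual hli
        have hu := congrArg (lslice ξ) huv
        have hv := congrArg (lslice η) huv
        simp only [map_add, lslice_tmul, e1, e2, e3, e4, one_smul, zero_smul, add_zero, zero_add, map_zero] at hu hv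
        rw [hu, hv]; rfl
      have hle : finrank F (LinearMap.range J) ≤ b :=
        (Submodule.finrank_mono (LinearMap.range_comp_le_range _ _)).trans hdim.le
      rw [LinearMap.finrank_range_of_inj hJi, Module.finrank_prod, finrank_fin_fun] at hle
      omega
    have hall : ∀ t, ((kg y T : Mn) - 1) *ᵥ t ∈ LinearMap.range (facR (b := b) (Y x₀)) := fun t => by
      rw [sum_tmul_basis t, Matrix.mulVec_sum]
      refine Submodule.sum_mem _ fun p _ => ?_
      rw [Matrix.mulVec_smul, hN']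
      obtain ⟨r, hr⟩ := hline (Pi.single p.1 1)
      refine Submodule.smul_mem _ _ ⟨r • Pi.single p.2 1, ?_⟩
      show tmul _ _ = _
      rw [hr, tmul_smul_right, tmul_smul_left]
    refine Or.inl ⟨Y x₀, hx₀, fun u => ?_⟩
    obtain ⟨t, ht⟩ := hrange.ge (LinearMap.mem_range_self L u)
    obtain ⟨u', hu'⟩ := hall t
    exact ⟨u', by rw [← ht, Matrix.toLin'_apply, ← hu']; rfl⟩

/-- A plane of the first factor does not fill it. -/
theorem exists_off_plane (hk : 2 ≤ k) (a c : Al k → F) : ∃ x, ∀ α β : F, x ≠ α • a + β • c := by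
  by_contra hc
  push Not at hc
  let L : (F × F) →ₗ[F] (Al k → F) := (LinearMap.toSpanSingleton F _ a).coprod (LinearMap.toSpanSingleton F _ c)
  have hsurj : Function.Surjective L := fun x => by
    obtain ⟨α, β, e⟩ := hc x
    exact ⟨(α, β), e.symm⟩
  have := LinearMap.finrank_range_le L
  rw [LinearMap.range_eq_top.2 hsurj, finrank_top] at this
  rw [Module.finrank_prod, Module.finrank_self, finrank_pi, Fintype.card_sum, Fintype.card_fin] at this
  omega

/-- The image of `a ⊗ U` under an element conjugating `t` into the product. -/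
theorem Step.conj_range (hS : Step D M k₀) {a c : Al k → F} (hca : ω c a = 1) {ya : GL (Al k) F}
    (hya : ∀ x, (ya : Ma) *ᵥ x = x + ω x a • a) {f : GL (Al k × Fin b) F} (hf : f ∈ M)
    (hk : IsKron (f * kg ya 1 * f⁻¹)) : IsKron f ∨ ∃ R : Submodule F (Fin b → F), (k + k) * finrank F R = b ∧
      (∀ x, ∀ r ∈ R, ∃ u, (f : Mn) *ᵥ tmul a u = tmul x r) ∧
        ∀ u i, (fun j => ((f : Mn) *ᵥ tmul a u) (i, j)) ∈ R := by
  have ha : a ≠ 0 := fun h => by rw [h, sympForm_zero_right] at hca; exact zero_ne_one hca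
  let L : (Fin b → F) →ₗ[F] V := (Matrix.toLin' (f : Mn)).comp (facR a)
  have hL : Function.Injective L := fun u v h => facR_injective ha (gl_mulVec_injective f
    (by simpa [L, Matrix.toLin'_apply] using h))
  have hN : ∀ x, ((f * kg ya 1 * f⁻¹ : GL (Al k × Fin b) F) : Mn) *ᵥ x - x =
      L (cp a (((f⁻¹ : GL (Al k × Fin b) F) : Mn) *ᵥ x)) := fun x => by
    rw [Units.val_mul, Units.val_mul, ← Matrix.mulVec_mulVec, ← Matrix.mulVec_mulVec, tv_apply hya,
      Matrix.mulVec_add, mulVec_inv_cancel, add_sub_cancel_left]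
    rfl
  have hrange : LinearMap.range (Matrix.toLin' (((f * kg ya 1 * f⁻¹ : GL (Al k × Fin b) F) : Mn) - 1)) =
      LinearMap.range L := by
    refine le_antisymm ?_ ?_
    · rintro _ ⟨x, rfl⟩
      exact ⟨_, by rw [Matrix.toLin'_apply, Matrix.sub_mulVec, Matrix.one_mulVec, hN]⟩
    · rintro _ ⟨u, rfl⟩
      refine ⟨(f : Mn) *ᵥ tmul c u, ?_⟩
      rw [Matrix.toLin'_apply, Matrix.sub_mulVec, Matrix.one_mulVec, hN, Matrix.mulVec_mulVec, ← Units.val_mul,
        inv_mul_cancel, Units.val_one, Matrix.one_mulVec, cp_tmul, hca, one_smul]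
  rcases fusion_range hS.gram.two (by have := hS.hb; omega) hk hL hrange (fun x => by
    rw [Matrix.sub_mulVec, Matrix.one_mulVec, Matrix.sub_mulVec, Matrix.one_mulVec, hN, hN]
    show L _ = 0
    rw [show L (cp a (((f⁻¹ : GL (Al k × Fin b) F) : Mn) *ᵥ x)) = (f : Mn) *ᵥ tmul a
      (cp a (((f⁻¹ : GL (Al k × Fin b) F) : Mn) *ᵥ x)) from rfl, Matrix.mulVec_mulVec, ← Units.val_mul,
      inv_mul_cancel, Units.val_one, Matrix.one_mulVec, cp_a_tmul, map_zero]) with ⟨a', ha', hLa⟩ | hR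
  swap
  · exact Or.inr hR
  refine Or.inl ?_
  obtain ⟨c', hc'⟩ := exists_sympForm_eq_one ha'
  obtain ⟨y, hy, hya', -⟩ := exists_pair_map (k := k) (a := a') (c := -c') (a' := a) (c' := c)
    (by rw [← neg_one_smul F c', sympForm_smul_left, sympForm_swap, hc']; ring) hca
  have hh := hS.ovr.kg_left (b := b) hy
  have hst := hS.stab_kron hca (mul_mem hh hf) fun u => by
    obtain ⟨u', hu'⟩ := hLa u
    exact ⟨u', by
      rw [Units.val_mul, ← Matrix.mulVec_mulVec, show (f : Mn) *ᵥ tmul a u = L u from rfl, hu', kg_apply, hya',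
        Units.val_one, Matrix.one_mulVec]⟩
  have := TensorMax.IsKron.mul (TensorMax.IsKron.inv (kg_isKron y (1 : GL (Fin b) F))) hst
  rwa [inv_mul_cancel_left] at this

/-- Vectors orthogonal to the orthogonal of a subspace lie in it. -/
theorem Gram.perp_perp (hD : Gram D) (R : Submodule F (Fin b → F)) {x : Fin b → F}
    (h : ∀ v, (∀ r ∈ R, dB D r v = 0) → dB D x v = 0) : x ∈ R := by
  by_contra hx
  obtain ⟨φ, hφx, hφ⟩ := Submodule.exists_dual_map_eq_bot_of_notMem hx inferInstance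
  obtain ⟨v, hv⟩ := LinearMap.surjective_of_injective (f := Matrix.mulVecLin D) hD.mulVec_inj
    (fun i => φ (Pi.single i 1))
  have hφv : ∀ z, dB D z v = φ z := fun z => by
    show z ⬝ᵥ (Matrix.mulVecLin D v) = φ z
    rw [hv]
    conv_rhs => rw [← Finset.univ_sum_single z, map_sum]
    refine Finset.sum_congr rfl fun i _ => ?_
    rw [show (Pi.single i (z i) : Fin b → F) = z i • Pi.single i 1 by rw [← Pi.single_smul, smul_eq_mul, mul_one],
      map_smul, smul_eq_mul]
  refine hφx ?_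
  rw [← hφv]
  exact h v fun r hr => by
    rw [hφv]
    exact (Submodule.mem_bot F).1 (hφ ▸ Submodule.mem_map_of_mem hr)

/-- A tensor as the sum of its rows. -/
theorem sum_rows (t : Al k × Fin b → F) :
    t = ∑ i, tmul (Pi.single i (1 : F) : Al k → F) (fun j => t (i, j)) := by
  funext ⟨i, j⟩
  rw [Finset.sum_apply, Finset.sum_eq_single i]
  · simp [tmul]
  · intro i' _ hne
    simp [tmul, Pi.single_eq_of_ne (Ne.symm hne)]
  · simp

/-- Fusion: a conjugate of `t` of product shape comes from an element of product shape. -/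
theorem Step.fusion (hS : Step D M k₀) {a c : Al k → F} (hca : ω c a = 1) {ya : GL (Al k) F}
    (hya : ∀ x, (ya : Ma) *ᵥ x = x + ω x a • a) {f : GL (Al k × Fin b) F} (hf : f ∈ M)
    (hk : IsKron (f * kg ya 1 * f⁻¹)) : IsKron f := by
  classical
  by_contra hfk
  have hD := hS.gram
  have hM := hS.ovr
  have hk2 : 2 ≤ k := by have := hS.hk₀; have := hS.keq; omega
  obtain ⟨R₀, -, hR₀, hR₀'⟩ := (hS.conj_range hca hya hf hk).resolve_left hfk
  have hfi : (f : Mn) * ((f⁻¹ : GL (Al k × Fin b) F) : Mn) = 1 := by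
    rw [← Units.val_mul, mul_inv_cancel, Units.val_one]
  -- all centres are of the second kind
  have hall : ∀ p : Al k → F, p ≠ 0 → ∃ R : Submodule F (Fin b → F), (k + k) * finrank F R = b ∧
      (∀ x, ∀ r ∈ R, ∃ u, ((f⁻¹ : GL (Al k × Fin b) F) : Mn) *ᵥ tmul p u = tmul x r) ∧
        ∀ u i, (fun j => (((f⁻¹ : GL (Al k × Fin b) F) : Mn) *ᵥ tmul p u) (i, j)) ∈ R := by
    intro p hp
    obtain ⟨q, hq⟩ := exists_sympForm_eq_one hp
    have hqp : ω (-q) p = 1 := by rw [← neg_one_smul F q, sympForm_smul_left, sympForm_swap, hq]; ring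
    obtain ⟨yp, hyp, hypx⟩ := exists_tv (k := k) p (1 : F)
    simp only [one_mul] at hypx
    refine (hS.conj_range hqp hypx (inv_mem hf) ?_).resolve_left fun h => hfk (by
      simpa using TensorMax.IsKron.inv h)
    rw [inv_inv]
    refine hS.stab_kron hca (mul_mem (mul_mem (inv_mem hf) (hM.kg_left hyp)) hf) fun u => ?_
    obtain ⟨u', hu'⟩ : ∃ u', (f : Mn) *ᵥ tmul a u' = (kg yp (1 : GL (Fin b) F) : Mn) *ᵥ ((f : Mn) *ᵥ tmul a u) := by
      suffices (kg yp (1 : GL (Fin b) F) : Mn) *ᵥ ((f : Mn) *ᵥ tmul a u) ∈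
          LinearMap.range ((Matrix.toLin' (f : Mn)).comp (facR a)) by
        obtain ⟨u', hu'⟩ := this
        exact ⟨u', hu'⟩
      rw [sum_rows ((f : Mn) *ᵥ tmul a u), Matrix.mulVec_sum]
      refine Submodule.sum_mem _ fun i _ => ?_
      rw [kg_apply, Units.val_one, Matrix.one_mulVec]
      obtain ⟨u', hu'⟩ := hR₀ _ _ (hR₀' u i)
      exact ⟨u', hu'⟩
    exact ⟨u', by
      rw [Units.val_mul, Units.val_mul, ← Matrix.mulVec_mulVec, ← Matrix.mulVec_mulVec, ← hu', Matrix.mulVec_mulVec,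
        ← Units.val_mul, inv_mul_cancel, Units.val_one, Matrix.one_mulVec]⟩
  have hc0 : c ≠ 0 := fun h => by rw [h, sympForm_zero_left] at hca; exact zero_ne_one hca
  have ha0 : a ≠ 0 := fun h => by rw [h, sympForm_zero_right] at hca; exact zero_ne_one hca
  obtain ⟨Ra, hRad, hRa, hRa'⟩ := hall a ha0
  obtain ⟨Rc, hRcd, hRc, hRc'⟩ := hall c hc0
  -- centres with meeting subspaces are proportional
  have hmeet : ∀ {p p' : Al k → F} {u u' : Fin b → F} {x : Al k → F} {r : Fin b → F}, x ≠ 0 → r ≠ 0 →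
      ((f⁻¹ : GL (Al k × Fin b) F) : Mn) *ᵥ tmul p u = tmul x r →
      ((f⁻¹ : GL (Al k × Fin b) F) : Mn) *ᵥ tmul p' u' = tmul x r → ∃ s : F, p = s • p' := by
    intro p p' u u' x r hx hr h h'
    refine eq_smul_of_tmul (fun hu => ?_) (gl_mulVec_injective f⁻¹ (h.trans h'.symm))
    rw [hu, tmul_zero_right, Matrix.mulVec_zero] at h
    exact tmul_ne_zero hx hr h.symm
  have hmul : b = 2 * (k * finrank F Ra) := hRad.symm.trans (by ring)
  obtain ⟨r, hrdef⟩ : ∃ r, r = finrank F Ra := ⟨_, rfl⟩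
  have hrc : finrank F Rc = r :=
    Nat.eq_of_mul_eq_mul_left (show 0 < k + k by omega) (by rw [hRcd, hrdef, hRad])
  have hr0 : 0 < r := by
    rcases Nat.eq_zero_or_pos r with h0 | h0
    · rw [← hrdef, h0, mul_zero] at hRad; have := hS.hb; omega
    · exact h0
  obtain ⟨xa, xc, hxac⟩ : ∃ x x' : Al k → F, ω x' x = 1 := ⟨a, c, hca⟩
  have hxa0 : xa ≠ 0 := fun h => by rw [h, sympForm_zero_right] at hxac; exact zero_ne_one hxac
  have hiso : ∀ r ∈ Ra, ∀ r' ∈ Ra, dB D r r' = 0 := fun r hr r' hr' => by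
    obtain ⟨u, hu⟩ := hRa xc r hr
    obtain ⟨u', hu'⟩ := hRa xa r' hr'
    have := hM.iso (inv_mem hf) (tmul a u) (tmul a u')
    rw [hu, hu', W_tmul, W_tmul, hxac, one_mul, sympForm_self, zero_mul] at this
    exact this
  rcases Nat.lt_or_ge r 2 with hr1 | hr2
  · -- three isotropic lines in a plane
    obtain ⟨p, hp, hp0⟩ := Submodule.exists_mem_ne_zero_of_ne_bot (p := Ra)
      fun h => by rw [h, finrank_bot] at hrdef; omega
    obtain ⟨q, hq, hq0⟩ := Submodule.exists_mem_ne_zero_of_ne_bot (p := Rc)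
      fun h => by rw [h, finrank_bot] at hrc; omega
    have hp' : ∀ z ∈ Ra, ∃ s : F, z = s • p := fun z hz => by
      obtain ⟨s, hs⟩ := (finrank_eq_one_iff_of_nonzero' (⟨p, hp⟩ : Ra) (by simpa using hp0)).1 (show finrank F Ra = 1 by omega) (⟨z, hz⟩ : Ra)
      exact ⟨s, (congrArg Subtype.val hs).symm⟩
    have hq' : ∀ z ∈ Rc, ∃ s : F, z = s • q := fun z hz => by
      obtain ⟨s, hs⟩ := (finrank_eq_one_iff_of_nonzero' (⟨q, hq⟩ : Rc) (by simpa using hq0)).1 (show finrank F Rc = 1 by omega) (⟨z, hz⟩ : Rc)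
      exact ⟨s, (congrArg Subtype.val hs).symm⟩
    have hpq : dB D p q ≠ 0 := fun h0 => by
      obtain ⟨u, hu⟩ : ∃ u : Fin b → F, u ≠ 0 := ⟨p, hp0⟩
      obtain ⟨v, hv⟩ := hD.dB_surj hu
      have h := hM.iso (inv_mem hf) (tmul a u) (tmul c v)
      rw [W_tmul, hv, mul_one, sympForm_swap, hca] at h
      refine neg_ne_zero.2 one_ne_zero (h.symm.trans ?_)
      obtain ⟨t, ht⟩ : ∃ t, t = ((f⁻¹ : GL (Al k × Fin b) F) : Mn) *ᵥ tmul c v := ⟨_, rfl⟩
      rw [← ht, sum_rows t]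
      simp only [W, Matrix.mulVec_sum, dotProduct_sum]
      refine Finset.sum_eq_zero fun i _ => ?_
      show W D _ (tmul (Pi.single i (1 : F) : Al k → F) _) = 0
      obtain ⟨s, hs⟩ := hq' _ (ht ▸ hRc' v i)
      rw [hs, W_tmul_right, dB_smul_right]
      obtain ⟨s', hs'⟩ : ∃ s' : F, cp (Pi.single i (1 : F) : Al k → F)
          (((f⁻¹ : GL (Al k × Fin b) F) : Mn) *ᵥ tmul a u) = s' • p := by
        refine hp' _ ?_
        rw [sum_rows (((f⁻¹ : GL (Al k × Fin b) F) : Mn) *ᵥ tmul a u), map_sum]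
        refine Submodule.sum_mem _ fun l _ => ?_
        rw [cp_tmul]
        exact Ra.smul_mem _ (hRa' u l)
      rw [hs', dB_smul_left, h0, mul_zero, mul_zero]
    obtain ⟨Rs, hRsd, hRs, hRs'⟩ := hall (a + c) fun h => by
      have := congrArg (fun z => ω z a) h
      simp only [sympForm_add_left, sympForm_self, hca, zero_add, sympForm_zero_left] at this
      exact one_ne_zero this
    obtain ⟨z, hz, hz0⟩ := Submodule.exists_mem_ne_zero_of_ne_bot (p := Rs)
      fun h => by rw [h, finrank_bot, mul_zero] at hRsd; have := hS.hb; omega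
    obtain ⟨u, hu⟩ := hRs (Pi.single (Sum.inl ⟨0, by omega⟩) 1) z hz
    obtain ⟨α, hα⟩ := hp' _ (hRa' u (Sum.inl ⟨0, by omega⟩))
    obtain ⟨β, hβ⟩ := hq' _ (hRc' u (Sum.inl ⟨0, by omega⟩))
    have hzαβ : z = α • p + β • q := by
      rw [← hα, ← hβ]
      funext j
      have := congrFun hu (Sum.inl ⟨0, by omega⟩, j)
      rw [tmul_add_left, Matrix.mulVec_add] at this
      simpa [tmul] using this.symm
    have hzz : dB D z z = 0 := by
      obtain ⟨u₁, hu₁⟩ := hRs xc z hz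
      obtain ⟨u₂, hu₂⟩ := hRs xa z hz
      have := hM.iso (inv_mem hf) (tmul (a + c) u₁) (tmul (a + c) u₂)
      rwa [hu₁, hu₂, W_tmul, W_tmul, hxac, one_mul, sympForm_self, zero_mul] at this
    have hqq : dB D q q = 0 := by
      obtain ⟨u₁, hu₁⟩ := hRc xc q hq
      obtain ⟨u₂, hu₂⟩ := hRc xa q hq
      have := hM.iso (inv_mem hf) (tmul c u₁) (tmul c u₂)
      rwa [hu₁, hu₂, W_tmul, W_tmul, hxac, one_mul, sympForm_self, zero_mul] at this
    have hαβ : α = 0 ∨ β = 0 := by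
      rw [hzαβ] at hzz
      simp only [dB_add_left, dB_add_right, dB_smul_left, dB_smul_right, hiso p hp p hp, hqq, hD.dB_comm q p] at hzz
      have : (2 * dB D p q) * (α * β) = 0 := by linear_combination hzz
      exact mul_eq_zero.1 ((mul_eq_zero.1 this).resolve_left (mul_ne_zero hD.two hpq))
    obtain ⟨u₁, hu₁⟩ := hRs xa z hz
    rcases hαβ with h0 | h0
    · have hzc : z ∈ Rc := by rw [hzαβ, h0, zero_smul, zero_add]; exact Rc.smul_mem _ hq
      obtain ⟨u₂, hu₂⟩ := hRc xa z hzc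
      obtain ⟨s, hs⟩ := hmeet hxa0 hz0 hu₁ hu₂
      have := congrArg (fun w => ω c w) hs
      simp only [sympForm_add_right, sympForm_smul_right, sympForm_self, hca, mul_zero, add_zero] at this
      exact one_ne_zero this
    · have hza : z ∈ Ra := by rw [hzαβ, h0, zero_smul, add_zero]; exact Ra.smul_mem _ hp
      obtain ⟨u₂, hu₂⟩ := hRa xa z hza
      obtain ⟨s, hs⟩ := hmeet hxa0 hz0 hu₁ hu₂
      have := congrArg (fun w => ω w a) hs
      simp only [sympForm_add_left, sympForm_smul_left, sympForm_self, hca, mul_zero, zero_add] at this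
      exact one_ne_zero this
  -- reflections orthogonal to `Ra` are orthogonal to `Rc`
  have hperp : ∀ e, dB D e e ≠ 0 → (∀ r ∈ Ra, dB D r e = 0) → ∀ r ∈ Rc, dB D r e = 0 := by
    intro e he hea
    obtain ⟨T, hTi, hTx⟩ := exists_reflection hD he
    obtain ⟨g, hg⟩ : ∃ g, g = f * kg (1 : GL (Al k) F) T * f⁻¹ := ⟨_, rfl⟩
    have hgM : g ∈ M := hg ▸ mul_mem (mul_mem hf (hM.kg_right hTi)) (inv_mem hf)
    have hgh : ∀ t, ((f⁻¹ : GL (Al k × Fin b) F) : Mn) *ᵥ ((g : Mn) *ᵥ t) =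
        (kg (1 : GL (Al k) F) T : Mn) *ᵥ (((f⁻¹ : GL (Al k × Fin b) F) : Mn) *ᵥ t) := fun t => by
      rw [Matrix.mulVec_mulVec, Matrix.mulVec_mulVec, ← Units.val_mul, ← Units.val_mul, hg, ← mul_assoc,
        ← mul_assoc, inv_mul_cancel, one_mul]
    have hfix : ∀ u, (g : Mn) *ᵥ tmul a u = tmul a u := fun u => gl_mulVec_injective f⁻¹ (by
      show ((f⁻¹ : GL (Al k × Fin b) F) : Mn) *ᵥ _ = ((f⁻¹ : GL (Al k × Fin b) F) : Mn) *ᵥ _
      rw [hgh]
      conv_rhs => rw [sum_rows (((f⁻¹ : GL (Al k × Fin b) F) : Mn) *ᵥ tmul a u)]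
      conv_lhs => rw [sum_rows (((f⁻¹ : GL (Al k × Fin b) F) : Mn) *ᵥ tmul a u), Matrix.mulVec_sum]
      refine Finset.sum_congr rfl fun i _ => ?_
      rw [kg_apply, Units.val_one, Matrix.one_mulVec, hTx, hea _ (hRa' u i), mul_zero, zero_div, zero_smul,
        sub_zero])
    obtain ⟨y, T₂, hyT⟩ := exists_kg_of_isKron (hS.stab_kron hca hgM fun u => ⟨u, hfix u⟩)
    obtain ⟨r₀, hr₀, hr₀e, hr₀0⟩ : ∃ r₀ ∈ Rc, dB D r₀ e = 0 ∧ r₀ ≠ 0 := by
      have h1 := LinearMap.finrank_range_add_finrank_ker ((dL D e).domRestrict Rc)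
      have h2 := (LinearMap.range ((dL D e).domRestrict Rc)).finrank_le
      rw [finrank_self] at h2
      obtain ⟨x, hx, hx0⟩ := Submodule.exists_mem_ne_zero_of_ne_bot (p := LinearMap.ker ((dL D e).domRestrict Rc))
        fun h => by rw [h, finrank_bot] at h1; omega
      exact ⟨x.1, x.2, LinearMap.mem_ker.1 hx, fun h0 => hx0 (Subtype.ext h0)⟩
    have hstep : ∀ x (r : Fin b → F), r ∈ Rc → ∃ u,
        ((f⁻¹ : GL (Al k × Fin b) F) : Mn) *ᵥ tmul ((y : Ma) *ᵥ c) u = tmul x ((T : Mb) *ᵥ r) := by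
      intro x r hr
      obtain ⟨u, hu⟩ := hRc x r hr
      refine ⟨(T₂ : Mb) *ᵥ u, ?_⟩
      rw [← kg_apply, ← hyT, hgh, hu, kg_apply, Units.val_one, Matrix.one_mulVec]
    obtain ⟨u₁, hu₁⟩ := hstep xa r₀ hr₀
    rw [hTx, hr₀e, mul_zero, zero_div, zero_smul, sub_zero] at hu₁
    obtain ⟨u₂, hu₂⟩ := hRc xa r₀ hr₀
    obtain ⟨lam, hlam⟩ := hmeet hxa0 hr₀0 hu₁ hu₂
    intro r hr
    obtain ⟨u, hu⟩ := hstep (Pi.single (Sum.inl ⟨0, by omega⟩) 1) r hr
    rw [hlam, tmul_smul_left, ← tmul_smul_right] at hu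
    have hTr : (T : Mb) *ᵥ r ∈ Rc := by
      convert hRc' (lam • u) (Sum.inl ⟨0, by omega⟩) using 1
      funext j
      rw [hu]; simp [tmul]
    rw [hTx] at hTr
    by_contra hne
    have he' : e ∈ Rc := by
      have h0 : 2 * dB D r e / dB D e e ≠ 0 := div_ne_zero (mul_ne_zero hD.two hne) he
      have := Rc.smul_mem (2 * dB D r e / dB D e e)⁻¹ (Rc.sub_mem hr hTr)
      rwa [sub_sub_cancel, inv_smul_smul₀ h0] at this
    obtain ⟨v₁, hv₁⟩ := hRc xc e he'
    obtain ⟨v₂, hv₂⟩ := hRc xa e he'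
    have := hM.iso (inv_mem hf) (tmul c v₁) (tmul c v₂)
    rw [hv₁, hv₂, W_tmul, W_tmul, hxac, one_mul, sympForm_self, zero_mul] at this
    exact he this
  obtain ⟨P, hP⟩ : ∃ P : Submodule F (Fin b → F), ∀ v, v ∈ P ↔ ∀ r ∈ Ra, dB D r v = 0 :=
    ⟨{ carrier := {v | ∀ r ∈ Ra, dB D r v = 0}
       add_mem' := fun h h' r hr => by rw [dB_add_right, h r hr, h' r hr, add_zero]
       zero_mem' := fun r _ => dB_zero_right r
       smul_mem' := fun s v h r hr => by rw [dB_smul_right, h r hr, mul_zero] }, fun v => Iff.rfl⟩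
  obtain ⟨e₀, he₀P, he₀⟩ : ∃ e ∈ P, dB D e e ≠ 0 := by
    by_contra hc'
    push Not at hc'
    have hle : P ≤ Ra := fun x hx => hD.perp_perp Ra fun v hv => by
      have h1 := hc' _ (P.add_mem hx ((hP v).2 hv))
      rw [dB_add_left, dB_add_right, dB_add_right, hc' x hx, hc' v ((hP v).2 hv), hD.dB_comm v x] at h1
      exact (mul_eq_zero.1 (show (2 : F) * dB D x v = 0 by linear_combination h1)).resolve_left hD.two
    let φ : (Fin b → F) →ₗ[F] Module.Dual F Ra :=
      { toFun := fun v => { toFun := fun r => dB D (r : Fin b → F) v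
                            map_add' := fun r r' => dB_add_left _ _ _
                            map_smul' := fun s r => dB_smul_left _ _ _ }
        map_add' := fun v v' => LinearMap.ext fun r => dB_add_right _ _ _
        map_smul' := fun s v => LinearMap.ext fun r => dB_smul_right _ _ _ }
    have hker : LinearMap.ker φ ≤ P := fun v hv => (hP v).2 fun r hr =>
      LinearMap.congr_fun (LinearMap.mem_ker.1 hv) ⟨r, hr⟩
    have h1 := LinearMap.finrank_range_add_finrank_ker φ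
    have h2 := (LinearMap.range φ).finrank_le
    rw [Subspace.dual_finrank_eq] at h2
    have h3 := Submodule.finrank_mono (hker.trans hle)
    rw [finrank_fin_fun] at h1
    nlinarith [h1, h2, h3, hmul, hk2, hr0, hrdef]
  obtain ⟨q, hq, hq0⟩ := Submodule.exists_mem_ne_zero_of_ne_bot (p := Rc)
    fun h => by rw [h, finrank_bot] at hrc; omega
  have hqRa : q ∈ Ra := hD.perp_perp Ra fun v hv => by
    have hv' := (hP v).2 hv
    by_cases hvv : dB D v v = 0
    swap
    · exact hperp v hvv hv q hq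
    obtain ⟨s, hs⟩ : ∃ s : F, dB D (v + s • e₀) (v + s • e₀) ≠ 0 := by
      by_contra hc'
      push Not at hc'
      have a1 := hc' 1
      have a2 := hc' (-1)
      simp only [dB_add_left, dB_add_right, dB_smul_left, dB_smul_right, hvv, hD.dB_comm e₀ v] at a1 a2
      exact mul_ne_zero hD.two he₀ (by linear_combination a1 + a2)
    have h1 := hperp _ hs ((hP _).1 (P.add_mem hv' (P.smul_mem s he₀P))) q hq
    rwa [dB_add_right, dB_smul_right, hperp _ he₀ ((hP _).1 he₀P) q hq, mul_zero, add_zero] at h1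
  obtain ⟨u₁, hu₁⟩ := hRc xa q hq
  obtain ⟨u₂, hu₂⟩ := hRa xa q hqRa
  obtain ⟨s, hs⟩ := hmeet hxa0 hq0 hu₁ hu₂
  have := congrArg (fun w => ω w a) hs
  simp only [sympForm_smul_left, sympForm_self, hca, mul_zero] at this
  exact one_ne_zero this

/-- An involution commuting with `t` and with a conjugate of `t` outside the product is a plane involution. -/
theorem Step.plane_involution (hS : Step D M k₀) {a c : Al k → F} (hca : ω c a = 1)
    {ya : GL (Al k) F} (hya : ∀ x, (ya : Ma) *ᵥ x = x + ω x a • a) {d : GL (Al k × Fin b) F}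
    (hdsq : ∀ x, ((d : Mn) - 1) *ᵥ (((d : Mn) - 1) *ᵥ x) = 0) {z : GL (Al k × Fin b) F}
    (hzQ : z ∈ Subgroup.closure ({kg ya 1, d} : Set (GL (Al k × Fin b) F))) (hzM : z ∈ M) (hz1 : z ≠ 1)
    (hz2 : z * z = 1) (hzt : z * kg ya 1 = kg ya 1 * z) (hzd : z * d = d * z) :
    ∃ (c₁ : Al k → F) (ys : GL (Al k) F), ω c₁ a = 1 ∧
      (∀ x, (ys : Ma) *ᵥ x = x - (2 : F) • (ω x a • c₁ - ω x c₁ • a)) ∧ z = kg ys 1 := by
  classical
  have hD := hS.gram
  have h2 := hD.two
  have hk2 : 2 ≤ k := by have := hS.hk₀; have := hS.keq; omega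
  have ha : a ≠ 0 := fun h => by rw [h, sympForm_zero_right] at hca; exact zero_ne_one hca
  have hac : ω a c = -1 := by rw [sympForm_swap, hca]
  have hzt' : ∀ x, (z : Mn) *ᵥ tmul a (cp a x) = tmul a (cp a ((z : Mn) *ᵥ x)) := fun x => by
    have := congrArg (fun g : GL (Al k × Fin b) F => (g : Mn) *ᵥ x) hzt
    simp only [Units.val_mul, ← Matrix.mulVec_mulVec, tv_apply hya, Matrix.mulVec_add] at this
    exact add_left_cancel this
  have hza : ∀ u, ∃ u', (z : Mn) *ᵥ tmul a u = tmul a u' := fun u => ⟨cp a ((z : Mn) *ᵥ tmul c u), by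
    rw [← hzt', cp_tmul, hca, one_smul]⟩
  obtain ⟨y₀, T₀, hzk⟩ := exists_kg_of_isKron (hS.stab_kron hca hzM hza)
  obtain ⟨v₀, hv₀⟩ : ∃ v : Fin b → F, v ≠ 0 := ⟨Pi.single ⟨0, by have := hS.hb; omega⟩ 1, by simp⟩
  obtain ⟨lam, hlam⟩ : ∃ r : F, (y₀ : Ma) *ᵥ a = r • a := by
    obtain ⟨u', hu'⟩ := hza v₀
    rw [hzk, kg_apply] at hu'
    exact eq_smul_of_tmul (fun h0 => hv₀ (gl_mulVec_injective T₀ (h0.trans (Matrix.mulVec_zero _).symm))) hu'
  have hlam0 : lam ≠ 0 := fun h0 => ha (gl_mulVec_injective y₀ (by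
    show (y₀ : Ma) *ᵥ a = (y₀ : Ma) *ᵥ 0
    rw [hlam, h0, zero_smul, Matrix.mulVec_zero]))
  obtain ⟨y, hy⟩ := exists_gl_of_injective (lam⁻¹ • Matrix.toLin' (y₀ : Ma)) fun x x' h => gl_mulVec_injective y₀
    (smul_right_injective _ (inv_ne_zero hlam0) (by simpa [Matrix.toLin'_apply] using h))
  obtain ⟨T, hT⟩ := exists_gl_of_injective (lam • Matrix.toLin' (T₀ : Mb)) fun x x' h => gl_mulVec_injective T₀
    (smul_right_injective _ hlam0 (by simpa [Matrix.toLin'_apply] using h))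
  have hy' : ∀ x, (y : Ma) *ᵥ x = lam⁻¹ • (y₀ : Ma) *ᵥ x := fun x => by
    rw [hy, LinearMap.smul_apply, Matrix.toLin'_apply]
  have hT' : ∀ v, (T : Mb) *ᵥ v = lam • (T₀ : Mb) *ᵥ v := fun v => by
    rw [hT, LinearMap.smul_apply, Matrix.toLin'_apply]
  obtain rfl : z = kg y T := by
    rw [hzk]
    refine ext_gl fun x v => ?_
    rw [kg_apply, kg_apply, hy', hT', tmul_smul_left, tmul_smul_right, smul_smul, inv_mul_cancel₀ hlam0, one_smul]
  have hy_a : (y : Ma) *ᵥ a = a := by rw [hy', hlam, smul_smul, inv_mul_cancel₀ hlam0, one_smul]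
  have hz2' : ∀ x v, tmul ((y : Ma) *ᵥ ((y : Ma) *ᵥ x)) ((T : Mb) *ᵥ ((T : Mb) *ᵥ v)) = tmul x v := fun x v => by
    rw [← kg_apply, ← kg_apply, Matrix.mulVec_mulVec, ← Units.val_mul, hz2, Units.val_one, Matrix.one_mulVec]
  have hTT : ∀ v, (T : Mb) *ᵥ ((T : Mb) *ᵥ v) = v := fun v => facR_injective ha (by
    have := hz2' a v
    rwa [hy_a, hy_a] at this)
  have hyy : ∀ x, (y : Ma) *ᵥ ((y : Ma) *ᵥ x) = x := fun x => fac_injective hv₀ (by
    have := hz2' x v₀
    rwa [hTT] at this)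
  obtain ⟨μ, ν, hμν, hyi, hTi⟩ := kg_sim hD (by omega) (by have := hS.hb; omega) (hS.ovr.le hzM)
  obtain rfl : μ = 1 := by
    obtain ⟨u, hu⟩ : ∃ u : Fin b → F, (T : Mb) *ᵥ u ≠ 0 :=
      ⟨v₀, fun h0 => hv₀ (gl_mulVec_injective T (h0.trans (Matrix.mulVec_zero _).symm))⟩
    have h := hzt' (tmul c u)
    rw [cp_tmul, hca, one_smul, kg_apply, kg_apply, hy_a, cp_tmul] at h
    have h' := facR_injective ha h
    have h1 : ω ((y : Ma) *ᵥ c) a = 1 := by
      by_contra h0
      refine hu ((smul_eq_zero.1 (show (ω ((y : Ma) *ᵥ c) a - 1) • ((T : Mb) *ᵥ u) = 0 by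
        rw [sub_smul, one_smul, ← h', sub_self])).resolve_left (sub_ne_zero.2 h0))
    have h2' := hyi c a
    rw [hy_a, h1, hca, mul_one] at h2'
    exact h2'.symm
  obtain rfl : ν = 1 := by rwa [one_mul] at hμν
  simp only [one_mul] at hyi hTi
  -- the fixed partner of `a`
  obtain ⟨c₁, hc₁⟩ : ∃ c₁, c₁ = (2 : F)⁻¹ • (c + (y : Ma) *ᵥ c) := ⟨_, rfl⟩
  have hyc₁ : (y : Ma) *ᵥ c₁ = c₁ := by rw [hc₁, Matrix.mulVec_smul, Matrix.mulVec_add, hyy, add_comm c]
  have hc₁a : ω c₁ a = 1 := by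
    have := hyi c a
    rw [hy_a, hca] at this
    rw [hc₁, sympForm_smul_left, sympForm_add_left, hca, this]
    field_simp
    norm_num
  have hac₁ : ω a c₁ = -1 := by rw [sympForm_swap, hc₁a]
  -- the eigenspaces
  obtain ⟨E, hE⟩ : ∃ E, E = LinearMap.ker (Matrix.toLin' (kg y T : Mn) + LinearMap.id) := ⟨_, rfl⟩
  have hEm : ∀ x, x ∈ E ↔ (kg y T : Mn) *ᵥ x = -x := fun x => by
    rw [hE, LinearMap.mem_ker, LinearMap.add_apply, Matrix.toLin'_apply, LinearMap.id_apply,
      add_eq_zero_iff_eq_neg]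
  obtain ⟨Um, hUm⟩ : ∃ Um, Um = LinearMap.ker (Matrix.toLin' (T : Mb) + LinearMap.id) := ⟨_, rfl⟩
  have hUm' : ∀ u, u ∈ Um ↔ (T : Mb) *ᵥ u = -u := fun u => by
    rw [hUm, LinearMap.mem_ker, LinearMap.add_apply, Matrix.toLin'_apply, LinearMap.id_apply,
      add_eq_zero_iff_eq_neg]
  have hEne : ∃ x ∈ E, x ≠ 0 := by
    by_contra hc'
    push Not at hc'
    refine hz1 (Units.ext (Matrix.ext_iff_mulVec.2 fun x => ?_))
    have := hc' ((kg y T : Mn) *ᵥ x - x) ((hEm _).2 (by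
      rw [Matrix.mulVec_sub, Matrix.mulVec_mulVec, ← Units.val_mul, hz2, Units.val_one, Matrix.one_mulVec,
        neg_sub]))
    rw [sub_eq_zero.1 this, Units.val_one, Matrix.one_mulVec]
  obtain ⟨N, hN⟩ : ∃ N, N = ((facR (b := b) a).comp (cp a)).domRestrict E := ⟨_, rfl⟩
  obtain ⟨N', hN'⟩ : ∃ N', N' = (Matrix.toLin' (d : Mn) - LinearMap.id).domRestrict E := ⟨_, rfl⟩
  have hN'a : ∀ x : E, N' x = (d : Mn) *ᵥ (x : V) - x := fun x => by rw [hN']; rfl
  have hcommon : LinearMap.ker N ⊓ LinearMap.ker N' = ⊥ := by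
    rw [eq_bot_iff]
    rintro ⟨x, hx⟩ ⟨h1, h1'⟩
    have e1 : (kg ya (1 : GL (Fin b) F) : Mn) *ᵥ x = x := by
      have h : tmul a (cp a x) = 0 := by
        have h := LinearMap.mem_ker.1 h1
        rwa [hN] at h
      rw [tv_apply hya, h, add_zero]
    have e2 : (d : Mn) *ᵥ x = x := sub_eq_zero.1 ((hN'a ⟨x, hx⟩).symm.trans (LinearMap.mem_ker.1 h1'))
    have e3' : ∀ w ∈ Subgroup.closure ({kg ya 1, d} : Set (GL (Al k × Fin b) F)), (w : Mn) *ᵥ x = x := by
      intro w hw
      induction hw using Subgroup.closure_induction with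
      | mem w hw => rcases hw with rfl | rfl; exacts [e1, e2]
      | one => simp
      | mul w w' _ _ h h' => rw [Units.val_mul, ← Matrix.mulVec_mulVec, h', h]
      | inv w _ h =>
        conv_lhs => rw [← h]
        rw [Matrix.mulVec_mulVec, ← Units.val_mul, inv_mul_cancel, Units.val_one, Matrix.one_mulVec]
    have e3 := e3' _ hzQ
    rw [(hEm x).1 hx] at e3
    have : (2 : F) • x = 0 := by rw [two_smul]; nth_rw 1 [← e3]; exact neg_add_cancel x
    exact Subtype.ext ((smul_eq_zero.1 this).resolve_left h2)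
  have hNsq : LinearMap.range N' ≤ (LinearMap.ker N').map E.subtype := by
    rintro _ ⟨x, rfl⟩
    have hm : N' x ∈ E := by
      rw [hN'a, hEm, Matrix.mulVec_sub, Matrix.mulVec_mulVec, ← Units.val_mul, hzd, Units.val_mul,
        ← Matrix.mulVec_mulVec, (hEm _).1 x.2, Matrix.mulVec_neg, sub_neg_eq_add, neg_sub, neg_add_eq_sub]
    refine ⟨⟨_, hm⟩, LinearMap.mem_ker.2 ?_, rfl⟩
    rw [hN'a]
    show (d : Mn) *ᵥ N' x - N' x = 0
    rw [hN'a]
    have := hdsq x
    rwa [Matrix.sub_mulVec, Matrix.one_mulVec, Matrix.sub_mulVec, Matrix.one_mulVec] at this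
  have hNU : LinearMap.range N ≤ Um.map (facR a) := by
    rintro _ ⟨x, rfl⟩
    refine ⟨cp a (x : V), (hUm' _).2 (facR_injective ha ?_), by rw [hN]; rfl⟩
    show tmul a ((T : Mb) *ᵥ cp a (x : V)) = tmul a (-cp a (x : V))
    have := kg_apply y T a (cp a (x : V))
    rw [hy_a] at this
    rw [← this, hzt', (hEm _).1 x.2, map_neg]
  have hdimE : finrank F E ≤ 2 * finrank F Um := by
    have r1 := LinearMap.finrank_range_add_finrank_ker N
    have r2 := LinearMap.finrank_range_add_finrank_ker N'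
    have r3 := Submodule.finrank_sup_add_finrank_inf_eq (LinearMap.ker N) (LinearMap.ker N')
    rw [hcommon, finrank_bot] at r3
    have r4 := Submodule.finrank_le (LinearMap.ker N ⊔ LinearMap.ker N')
    have r5 := (Submodule.finrank_mono hNsq).trans_eq
      (LinearEquiv.finrank_eq (Submodule.equivMapOfInjective _ E.injective_subtype (LinearMap.ker N')).symm)
    have r6 := (Submodule.finrank_mono hNU).trans_eq
      (LinearEquiv.finrank_eq (Submodule.equivMapOfInjective _ (facR_injective ha) Um).symm)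
    omega
  let J : (Um × Um) →ₗ[F] E := ((facR a).comp Um.subtype).coprod ((facR c₁).comp Um.subtype) |>.codRestrict E
    fun p => (hEm _).2 (by
      show (kg y T : Mn) *ᵥ (tmul a p.1.1 + tmul c₁ p.2.1) = -(tmul a p.1.1 + tmul c₁ p.2.1)
      rw [Matrix.mulVec_add, kg_apply, kg_apply, hy_a, hyc₁, (hUm' _).1 p.1.2, (hUm' _).1 p.2.2, tmul_neg_right,
        tmul_neg_right, neg_add])
  have hJ : ∀ p, (J p : V) = tmul a p.1.1 + tmul c₁ p.2.1 := fun p => rfl
  have hJi : Function.Injective J := by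
    rw [injective_iff_map_eq_zero]
    rintro ⟨u, u'⟩ h
    have h' : tmul a u.1 + tmul c₁ u'.1 = 0 := congrArg Subtype.val h
    have e1 := congrArg (cp a) h'
    have e2 := congrArg (cp c₁) h'
    simp only [map_add, cp_tmul, sympForm_self, hc₁a, hac₁, zero_smul, one_smul, zero_add, add_zero, map_zero,
      neg_one_smul, neg_eq_zero] at e1 e2
    exact Prod.ext (Subtype.ext e2) (Subtype.ext e1)
  have hrd : 2 * finrank F Um ≤ finrank F E := by
    have := LinearMap.finrank_le_finrank_of_injective hJi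
    rwa [Module.finrank_prod, ← two_mul] at this
  have hJs : LinearMap.range J = ⊤ := Submodule.eq_top_of_finrank_eq (by
    rw [LinearMap.finrank_range_of_inj hJi, Module.finrank_prod]; omega)
  have hdec : ∀ x u, u ≠ 0 → (kg y T : Mn) *ᵥ tmul x u = -tmul x u → ∃ α β : F, x = α • a + β • c₁ := by
    intro x u hu h
    obtain ⟨p, hp⟩ := LinearMap.range_eq_top.1 hJs ⟨tmul x u, (hEm _).2 h⟩
    have hp' : tmul a p.1.1 + tmul c₁ p.2.1 = tmul x u := congrArg Subtype.val hp
    obtain ⟨ψ, hψ⟩ := exists_dual hu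
    have := congrArg (slice ψ) hp'
    rw [map_add, slice_tmul, slice_tmul, slice_tmul, hψ, one_smul] at this
    exact ⟨_, _, this.symm⟩
  obtain ⟨um, hum, hum0⟩ : ∃ u ∈ Um, u ≠ 0 := by
    by_contra hc'
    push Not at hc'
    have hUb : Um = ⊥ := (Submodule.eq_bot_iff _).2 hc'
    rw [hUb, finrank_bot] at hdimE
    obtain ⟨x, hx, hx0⟩ := hEne
    refine hx0 ?_
    have := Submodule.finrank_eq_zero.1 (le_antisymm hdimE (Nat.zero_le _))
    rw [this] at hx
    exact (Submodule.mem_bot F).1 hx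
  have hplus : ∀ x, ∃ α β : F, x + (y : Ma) *ᵥ x = α • a + β • c₁ := fun x => hdec _ um hum0 (by
    rw [kg_apply, Matrix.mulVec_add, hyy, (hUm' _).1 hum, tmul_neg_right, add_comm])
  have hTneg : ∀ u, (T : Mb) *ᵥ u = -u := by
    intro u
    by_contra hu
    have hu0 : u + (T : Mb) *ᵥ u ≠ 0 := fun h0 => hu (eq_neg_of_add_eq_zero_right h0)
    obtain ⟨x, hx⟩ := exists_off_plane hk2 a c₁
    obtain ⟨α, β, h1⟩ := hplus x
    obtain ⟨α', β', h2'⟩ := hdec (x - (y : Ma) *ᵥ x) _ hu0 (by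
      rw [kg_apply, Matrix.mulVec_sub, hyy, Matrix.mulVec_add, hTT, add_comm ((T : Mb) *ᵥ u), ← tmul_neg_left,
        neg_sub])
    refine hx ((2 : F)⁻¹ * (α + α')) ((2 : F)⁻¹ * (β + β')) ?_
    have : (2 : F) • x = (α + α') • a + (β + β') • c₁ := by
      rw [add_smul, add_smul, add_add_add_comm, ← h1, ← h2', two_smul]; abel
    rw [mul_smul, mul_smul, ← smul_add, ← this, inv_smul_smul₀ h2]
  obtain ⟨ys, hys⟩ := exists_gl_of_injective (-Matrix.toLin' (y : Ma)) fun x x' h => gl_mulVec_injective y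
    (neg_injective (by simpa [Matrix.toLin'_apply] using h))
  have hys' : ∀ x, (ys : Ma) *ᵥ x = -((y : Ma) *ᵥ x) := fun x => by
    rw [hys, LinearMap.neg_apply, Matrix.toLin'_apply]
  refine ⟨c₁, ys, hc₁a, fun x => ?_, ext_gl fun x v => ?_⟩
  · obtain ⟨α, β, h⟩ := hplus x
    have e1 := congrArg (fun w => ω w a) h
    have e2 := congrArg (fun w => ω w c₁) h
    have i1 := hyi x a
    have i2 := hyi x c₁
    rw [hy_a] at i1
    rw [hyc₁] at i2
    simp only [sympForm_add_left, sympForm_smul_left, sympForm_self, hc₁a, hac₁, i1, i2, mul_zero, add_zero,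
      zero_add, mul_one, mul_neg] at e1 e2
    rw [hys', eq_sub_of_add_eq' h]
    match_scalars <;> first | ring1 | linear_combination e1 | linear_combination -e1 | linear_combination e2 |
      linear_combination -e2
  · rw [kg_apply, kg_apply, hys', hTneg, Units.val_one, Matrix.one_mulVec, tmul_neg_left, tmul_neg_right]

/-- Proper overgroups consist of elements of product shape. -/
theorem Step.all_kron (hS : Step D M k₀) {f : GL (Al k × Fin b) F} (hf : f ∈ M) : IsKron f := by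
  classical
  by_contra hfk
  have hk0 : 0 < k := by have := hS.keq; omega
  obtain ⟨a, c, hca⟩ : ∃ a c : Al k → F, ω c a = 1 := ⟨_, _, sympForm_single_pair ⟨0, hk0⟩⟩
  obtain ⟨ya, hyi, hya⟩ := exists_tv (k := k) a (1 : F)
  simp only [one_mul] at hya
  set t := kg ya (1 : GL (Fin b) F) with ht
  have htM : t ∈ M := hS.ovr.kg_left hyi
  set d := f * t * f⁻¹ with hd
  have hdk : ¬ IsKron d := fun h => hfk (hS.fusion hca hya hf h)
  have hdM : d ∈ M := mul_mem (mul_mem hf htM) (inv_mem hf)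
  have htsq : ((t : Mn) - 1) * ((t : Mn) - 1) = 0 := Matrix.ext_iff_mulVec.2 fun x => by
    rw [← Matrix.mulVec_mulVec, Matrix.sub_mulVec, Matrix.one_mulVec, Matrix.sub_mulVec, Matrix.one_mulVec,
      tv_apply hya, add_sub_cancel_left, tv_apply hya, add_sub_cancel_left, cp_a_tmul, Matrix.zero_mulVec]
    exact tmul_zero_right a
  have hdsq : ((d : Mn) - 1) * ((d : Mn) - 1) = 0 := by
    have e : (d : Mn) - 1 = (f : Mn) * ((t : Mn) - 1) * ((f⁻¹ : GL (Al k × Fin b) F) : Mn) := by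
      simp only [hd, Units.val_mul, mul_sub, sub_mul, mul_one]
      rw [← Units.val_mul f f⁻¹, mul_inv_cancel, Units.val_one]
    rw [e, mul_assoc _ _ ((f : Mn) * _ * _), ← mul_assoc ((f⁻¹ : GL (Al k × Fin b) F) : Mn),
      ← mul_assoc ((f⁻¹ : GL (Al k × Fin b) F) : Mn), ← Units.val_mul, inv_mul_cancel, Units.val_one, one_mul,
      mul_assoc (f : Mn), ← mul_assoc ((t : Mn) - 1), htsq, zero_mul, mul_zero]
  obtain ⟨p, hp⟩ := CharP.exists F
  haveI := hp
  haveI : Fact p.Prime := ⟨(CharP.char_is_prime_or_zero F p).resolve_right (CharP.char_ne_zero_of_finite F p)⟩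
  haveI : Nonempty (Al k × Fin b) := ⟨(Sum.inl ⟨0, hk0⟩, ⟨0, by have := hS.hb; omega⟩)⟩
  have hP : QuadPair.Pair (AddMonoidHom.mk' (fun x => (WB D x).toAddMonoidHom)
      fun a c => AddMonoidHom.ext fun y => by simp) t d :=
    { two := hS.gram.two
      nd := fun x hx => hS.gram.W_nd hx
      symm := fun x y h => by
        show W D y x = 0
        rw [W_swap hS.gram, show W D x y = 0 from h, neg_zero]
      iso := fun x y => hS.ovr.iso htM x y
      iso' := fun x y => hS.ovr.iso hdM x y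
      sq := htsq
      sq' := hdsq }
  have hQM : Subgroup.closure ({t, d} : Set (GL (Al k × Fin b) F)) ≤ M :=
    (Subgroup.closure_le _).2 (by rintro _ (rfl | rfl); exacts [htM, hdM])
  rcases hP.dichotomy (p := p) with ⟨z, hzQ, hz1, hz2, hzt, hzd⟩ | hpg
  · obtain ⟨c₁, ys, hc₁, hys, rfl⟩ := hS.plane_involution hca hya
      (fun x => by rw [Matrix.mulVec_mulVec, hdsq, Matrix.zero_mulVec]) hzQ (hQM hzQ) hz1 hz2 hzt hzd
    exact hdk (hS.com_kron hc₁ hys hdM hzd.symm)
  · let Q := Subgroup.closure ({t, d} : Set (GL (Al k × Fin b) F))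
    haveI : Group.IsNilpotent Q := hpg.isNilpotent
    let L : Subgroup Q :=
      { carrier := {q | IsKron (q : GL (Al k × Fin b) F)}
        mul_mem' := fun h h' => TensorMax.IsKron.mul h h'
        one_mem' := by show IsKron (1 : GL (Al k × Fin b) F); rw [← kg_one]; exact kg_isKron _ _
        inv_mem' := fun h => TensorMax.IsKron.inv h }
    have hd' : d ∈ Q := Subgroup.subset_closure (by simp)
    have ht' : t ∈ Q := Subgroup.subset_closure (by simp)
    have hL : L < ⊤ := lt_top_iff_ne_top.2 fun h => hdk (h ▸ Subgroup.mem_top (⟨d, hd'⟩ : Q) : (⟨d, hd'⟩ : Q) ∈ L)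
    obtain ⟨g, hgN, hgL⟩ := SetLike.exists_of_lt (normalizerCondition_of_isNilpotent L hL)
    refine hgL (hS.fusion hca hya (hQM g.2) ?_)
    exact ((Subgroup.mem_normalizer_iff.1 hgN) ⟨t, ht'⟩).1 (kg_isKron _ _)

end Cfsg.Agent.Classical.TensorRoot
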