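import Cfsg.Agent.Lib.Classical.MaxTensorRootForm

/-!
An overgroup of the product of a symplectic and an orthogonal group: elements trivial on `a ⊗ U` and scalar on
`a^⊥ ⊗ U` modulo `a ⊗ U` are of product shape once all root elements at `a` are.
-/

set_option autoImplicit false
set_option linter.unusedSectionVars false

namespace Cfsg.Agent.Classical.TensorRoot

open Matrix Module MaxTv TensorMax
open scoped Kronecker

variable {F : Type*} [Field F] [Fintype F] {k b : ℕ} {D : Matrix (Fin b) (Fin b) F} {M : Subgroup (GL (Al k × Fin b) F)}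

local notation "V" => (Al k × Fin b → F)
local notation "Mn" => Matrix (Al k × Fin b) (Al k × Fin b) F
local notation "Ma" => Matrix (Al k) (Al k) F
local notation "Mb" => Matrix (Fin b) (Fin b) F
local notation "ω" => sympForm k F

/-- An overgroup of the product. -/
structure Ovr (D : Matrix (Fin b) (Fin b) F) (M : Subgroup (GL (Al k × Fin b) F)) : Prop where
  le : M ≤ SpT k D
  mem : ∀ g ∈ SpT k D, IsKron g → g ∈ M

theorem Ovr.iso (hM : Ovr D M) {g : GL (Al k × Fin b) F} (hg : g ∈ M) (x y : V) :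
    W D ((g : Mn) *ᵥ x) ((g : Mn) *ᵥ y) = W D x y :=
  mem_SpT.1 (hM.le hg) x y

theorem Ovr.kg_left (hM : Ovr D M) {y : GL (Al k) F}
    (hy : ∀ x x', ω ((y : Ma) *ᵥ x) ((y : Ma) *ᵥ x') = ω x x') : kg y (1 : GL (Fin b) F) ∈ M :=
  hM.mem _ (kg_one_mem_left hy) (kg_isKron _ _)

theorem Ovr.kg_right (hM : Ovr D M) {T : GL (Fin b) F}
    (hT : ∀ u v, dB D ((T : Mb) *ᵥ u) ((T : Mb) *ᵥ v) = dB D u v) : kg (1 : GL (Al k) F) T ∈ M :=
  hM.mem _ (kg_one_mem_right hT) (kg_isKron _ _)

/-- Root elements at `a` in `M` have scalar coefficients. -/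
def RootScal (M : Subgroup (GL (Al k × Fin b) F)) (a c : Al k → F) : Prop :=
  ∀ g ∈ M, (∀ t : V, cp a t = 0 → (g : Mn) *ᵥ t = t) → ∀ S : (Fin b → F) →ₗ[F] (Fin b → F),
    (∀ u, (g : Mn) *ᵥ tmul c u = tmul c u + tmul a (S u)) → ∃ l : F, ∀ u, S u = l • u

/-- `g` fixes `a ⊗ U` and moves `a^⊥ ⊗ U` into `a ⊗ U` by `Φ`. -/
structure Rad (g : GL (Al k × Fin b) F) (a : Al k → F) (Φ : (Al k × Fin b → F) →ₗ[F] (Fin b → F)) : Prop where
  fix : ∀ v, Φ (tmul a v) = 0
  act : ∀ t, cp a t = 0 → (g : Matrix (Al k × Fin b) (Al k × Fin b) F) *ᵥ t = t + tmul a (Φ t)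

/-- The image of the dual vector. -/
def tv (g : GL (Al k × Fin b) F) (c : Al k → F) (v : Fin b → F) : Al k × Fin b → F :=
  (g : Matrix (Al k × Fin b) (Al k × Fin b) F) *ᵥ tmul c v - tmul c v

/-- Linear maps agreeing on pure vectors of `a^⊥ ⊗ U` agree there. -/
theorem ext_perp {N : Type*} [AddCommGroup N] [Module F N] {a c : Al k → F} (hca : ω c a = 1)
    {L L' : V →ₗ[F] N} (h : ∀ x v, ω x a = 0 → L (tmul x v) = L' (tmul x v)) {t : V} (ht : cp a t = 0) :
    L t = L' t := by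
  let π : V →ₗ[F] V :=
    { toFun := fun t => t - tmul c (cp a t)
      map_add' := fun t t' => by rw [map_add, tmul_add_right]; abel
      map_smul' := fun r t => by rw [map_smul, tmul_smul_right, RingHom.id_apply, smul_sub] }
  have key : L.comp π = L'.comp π := ext_pure fun x v => by
    show L (tmul x v - tmul c (cp a (tmul x v))) = L' (tmul x v - tmul c (cp a (tmul x v)))
    rw [cp_tmul, tmul_smul_right, ← tmul_smul_left, ← tmul_sub_left]
    exact h _ _ (by rw [sympForm_sub_left, sympForm_smul_left, hca, mul_one, sub_self])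
  have := LinearMap.congr_fun key t
  simp only [LinearMap.comp_apply, π, LinearMap.coe_mk, AddHom.coe_mk, ht, tmul_zero_right, sub_zero] at this
  exact this

theorem cp_a_tmul {a : Al k → F} (v : Fin b → F) : cp a (tmul a v) = 0 := by
  rw [cp_tmul, sympForm_self, zero_smul]

theorem Rad.act_a {g : GL (Al k × Fin b) F} {a : Al k → F} {Φ : V →ₗ[F] (Fin b → F)} (h : Rad g a Φ)
    (v : Fin b → F) : (g : Mn) *ᵥ tmul a v = tmul a v := by
  rw [h.act _ (cp_a_tmul v), h.fix, tmul_zero_right, add_zero]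

theorem Rad.mul {g g' : GL (Al k × Fin b) F} {a : Al k → F} {Φ Φ' : V →ₗ[F] (Fin b → F)} (h : Rad g a Φ)
    (h' : Rad g' a Φ') : Rad (g * g') a (Φ + Φ') :=
  ⟨fun v => by rw [LinearMap.add_apply, h.fix, h'.fix, add_zero], fun t ht => by
    rw [Units.val_mul, ← Matrix.mulVec_mulVec, h'.act t ht, Matrix.mulVec_add, h.act t ht, h.act_a,
      LinearMap.add_apply, tmul_add_right, add_assoc]⟩

theorem Rad.inv {g : GL (Al k × Fin b) F} {a : Al k → F} {Φ : V →ₗ[F] (Fin b → F)} (h : Rad g a Φ) :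
    Rad g⁻¹ a (-Φ) :=
  ⟨fun v => by rw [LinearMap.neg_apply, h.fix, neg_zero], fun t ht => gl_mulVec_injective g (by
    show (g : Mn) *ᵥ _ = (g : Mn) *ᵥ _
    rw [mulVec_inv_cancel, Matrix.mulVec_add, h.act t ht, h.act_a, LinearMap.neg_apply, add_assoc,
      ← tmul_add_right, add_neg_cancel, tmul_zero_right, add_zero])⟩

theorem Rad.cp_tv (hD : Gram D) (hM : Ovr D M) {g : GL (Al k × Fin b) F} {a c : Al k → F}
    {Φ : V →ₗ[F] (Fin b → F)} (h : Rad g a Φ) (hg : g ∈ M) (v : Fin b → F) : cp a (tv g c v) = 0 := by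
  refine hD.dB_nd fun v' => ?_
  have := hM.iso hg (tmul c v) (tmul a v')
  rw [h.act_a, W_tmul_right, W_tmul_right] at this
  rw [tv, map_sub, dB_sub_left, this, sub_self]

theorem Rad.adj (hD : Gram D) (hM : Ovr D M) {g : GL (Al k × Fin b) F} {a c : Al k → F} (hca : ω c a = 1)
    {Φ : V →ₗ[F] (Fin b → F)} (h : Rad g a Φ) (hg : g ∈ M) {p : Al k → F} (hp : ω a p = 0)
    (v v' : Fin b → F) : dB D (cp p (tv g c v)) v' + dB D v (Φ (tmul p v')) = 0 := by
  have hpa : ω p a = 0 := by rw [sympForm_swap, hp, neg_zero]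
  have e := hM.iso hg (tmul c v) (tmul p v')
  rw [h.act _ (show cp a (tmul p v') = 0 by rw [cp_tmul, hpa, zero_smul]),
    show (g : Mn) *ᵥ tmul c v = tmul c v + tv g c v from (add_sub_cancel _ _).symm, W_add_left, W_add_right,
    W_add_right, W_tmul_right (tv g c v), W_tmul_right (tv g c v), h.cp_tv hD hM hg, dB_zero_left,
    W_tmul c a, hca, one_mul] at e
  linear_combination e

theorem Rad.comm_scal (hD : Gram D) (hM : Ovr D M) {g g' : GL (Al k × Fin b) F} {a c : Al k → F}
    {Φ Φ' : V →ₗ[F] (Fin b → F)} (hR : RootScal M a c) (h : Rad g a Φ) (hg : g ∈ M) (h' : Rad g' a Φ')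
    (hg' : g' ∈ M) : ∃ l : F, ∀ v, Φ (tv g' c v) - Φ' (tv g c v) = l • v := by
  obtain ⟨Z, hZ⟩ : ∃ Z, Z = g * g' * (g' * g)⁻¹ := ⟨_, rfl⟩
  have hZB : Z * (g' * g) = g * g' := by rw [hZ, inv_mul_cancel_right]
  have hBA : ∀ x, (Z : Mn) *ᵥ (((g' * g : GL (Al k × Fin b) F) : Mn) *ᵥ x) =
      ((g * g' : GL (Al k × Fin b) F) : Mn) *ᵥ x := fun x => by
    rw [Matrix.mulVec_mulVec, ← Units.val_mul, hZB]
  have hAB := h.mul h'
  have hBA' := h'.mul h
  have hfix : ∀ t : V, cp a t = 0 → (Z : Mn) *ᵥ t = t := by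
    intro t ht
    have ht' : cp a (t - tmul a ((Φ' + Φ) t)) = 0 := by rw [map_sub, ht, cp_a_tmul, sub_zero]
    have h1 : ((g' * g : GL (Al k × Fin b) F) : Mn) *ᵥ (t - tmul a ((Φ' + Φ) t)) = t := by
      rw [hBA'.act _ ht', map_sub (Φ' + Φ), hBA'.fix, sub_zero, sub_add_cancel]
    have h2 : ((g * g' : GL (Al k × Fin b) F) : Mn) *ᵥ (t - tmul a ((Φ' + Φ) t)) = t := by
      rw [hAB.act _ ht', map_sub (Φ + Φ'), hAB.fix, sub_zero, add_comm Φ Φ', sub_add_cancel]
    have h3 := hBA (t - tmul a ((Φ' + Φ) t))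
    rwa [h1, h2] at h3
  have hc : ∀ {g g' : GL (Al k × Fin b) F} {Φ : V →ₗ[F] (Fin b → F)}, Rad g a Φ → ∀ v, cp a (tv g' c v) = 0 →
      ((g * g' : GL (Al k × Fin b) F) : Mn) *ᵥ tmul c v =
        tmul c v + (tv g c v + tv g' c v + tmul a (Φ (tv g' c v))) := by
    intro g g' Φ h v hv
    rw [Units.val_mul, ← Matrix.mulVec_mulVec,
      show (g' : Mn) *ᵥ tmul c v = tmul c v + tv g' c v from (add_sub_cancel _ _).symm, Matrix.mulVec_add,
      h.act _ hv, show (g : Mn) *ᵥ tmul c v = tmul c v + tv g c v from (add_sub_cancel _ _).symm]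
    abel
  let S : (Fin b → F) →ₗ[F] (Fin b → F) :=
    { toFun := fun v => Φ (tv g' c v) - Φ' (tv g c v)
      map_add' := fun v v' => by
        simp only [tv, tmul_add_right, Matrix.mulVec_add, map_add, map_sub]
        abel
      map_smul' := fun r v => by
        simp only [tv, tmul_smul_right, Matrix.mulVec_smul, map_smul, map_sub, RingHom.id_apply, smul_sub] }
  obtain ⟨l, hl⟩ := hR Z (hZ ▸ mul_mem (mul_mem hg hg') (inv_mem (mul_mem hg' hg))) hfix S fun v => by
    have hv := h.cp_tv (c := c) hD hM hg v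
    have hv' := h'.cp_tv (c := c) hD hM hg' v
    have e := hBA (tmul c v)
    rw [hc h v hv', hc h' v hv, Matrix.mulVec_add, hfix _ (show cp a (tv g' c v + tv g c v +
      tmul a (Φ' (tv g c v))) = 0 by rw [map_add, map_add, hv, hv', cp_a_tmul, add_zero, add_zero])] at e
    show (Z : Mn) *ᵥ tmul c v = tmul c v + tmul a (Φ (tv g' c v) - Φ' (tv g c v))
    rw [tmul_sub_right, eq_sub_of_add_eq e]
    abel
  exact ⟨l, hl⟩

/-- The elementary map of the first factor. -/
theorem exists_rad_short (hM : Ovr D M) {a c : Al k → F} (hca : ω c a = 1) {p : Al k → F} (hap : ω a p = 0)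
    (hcp : ω c p = 0) : ∃ h ∈ M, IsKron h ∧ Rad h a (cp p) ∧ ∀ v, tv h c v = tmul p v := by
  obtain ⟨y, hy, hyx⟩ := exists_short a p hap
  refine ⟨kg y 1, hM.kg_left hy, kg_isKron _ _, ⟨fun v => by rw [cp_tmul, hap, zero_smul], fun t ht => ?_⟩,
    fun v => ?_⟩
  · let L' : V →ₗ[F] V :=
      { toFun := fun t => t + tmul a (cp p t)
        map_add' := fun t t' => by rw [map_add, tmul_add_right]; abel
        map_smul' := fun r t => by rw [map_smul, tmul_smul_right, RingHom.id_apply, smul_add] }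
    have := ext_perp (L := Matrix.toLin' (kg y (1 : GL (Fin b) F) : Mn)) (L' := L') hca (fun x v hx => by
      show _ = tmul x v + tmul a (cp p (tmul x v))
      rw [Matrix.toLin'_apply, kg_apply, Units.val_one, Matrix.one_mulVec, hyx, hx, zero_smul, add_zero,
        cp_tmul, tmul_add_left, tmul_smul_left, tmul_smul_right]) ht
    rw [Matrix.toLin'_apply] at this
    exact this
  · rw [tv, kg_apply, Units.val_one, Matrix.one_mulVec, hyx, hca, hcp, one_smul, zero_smul, add_zero,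
      tmul_add_left, add_sub_cancel_left]

theorem Rad.coef (hD : Gram D) (hM : Ovr D M) {g : GL (Al k × Fin b) F} {a c : Al k → F} (hca : ω c a = 1)
    {Φ : V →ₗ[F] (Fin b → F)} (hR : RootScal M a c) (h : Rad g a Φ) (hg : g ∈ M) {p : Al k → F}
    (hap : ω a p = 0) (hcp : ω c p = 0) :
    ∃ l : F, ∀ v v', dB D (Φ (tmul p v)) v' + dB D v (Φ (tmul p v')) = l * dB D v v' := by
  obtain ⟨h', hh', -, hrad, htv⟩ := exists_rad_short hM hca hap hcp
  obtain ⟨l, hl⟩ := h.comm_scal hD hM hR hg hrad hh'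
  refine ⟨l, fun v v' => ?_⟩
  have e := h.adj hD hM hca hg hap v v'
  have e' := congrArg (fun u => dB D u v') (hl v)
  simp only [htv, dB_sub_left, dB_smul_left] at e'
  linear_combination e + e'

theorem Rad.conj {g : GL (Al k × Fin b) F} {a : Al k → F} {Φ : V →ₗ[F] (Fin b → F)} (h : Rad g a Φ)
    (y : GL (Al k) F) (T : GL (Fin b) F) (hy : ∀ x x', ω ((y : Ma) *ᵥ x) ((y : Ma) *ᵥ x') = ω x x')
    (hya : (y : Ma) *ᵥ a = a) :
    Rad (kg y T * g * (kg y T)⁻¹) a ((Matrix.toLin' (T : Mb)).comp (Φ.comp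
      (Matrix.toLin' (((kg y T)⁻¹ : GL (Al k × Fin b) F) : Mn)))) := by
  have hcp : ∀ t : V, cp a ((kg y T : Mn) *ᵥ t) = (T : Mb) *ᵥ cp a t := fun t => by
    have : (cp a).comp (Matrix.toLin' (kg y T : Mn)) = (Matrix.toLin' (T : Mb)).comp (cp a) :=
      ext_pure fun x v => by
        simp only [LinearMap.comp_apply, Matrix.toLin'_apply, kg_apply, cp_tmul, Matrix.mulVec_smul]
        conv_lhs => rw [← hya, hy]
    simpa [Matrix.toLin'_apply] using LinearMap.congr_fun this t
  refine ⟨fun v => ?_, fun t ht => ?_⟩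
  · simp only [LinearMap.comp_apply, Matrix.toLin'_apply]
    have h1 : ((y⁻¹ : GL (Al k) F) : Ma) *ᵥ a = a := by
      conv_lhs => rw [← hya]
      rw [inv_mulVec_cancel]
    rw [kg_inv, kg_apply, h1, h.fix, Matrix.mulVec_zero]
  · simp only [LinearMap.comp_apply, Matrix.toLin'_apply]
    set t' := (((kg y T)⁻¹ : GL (Al k × Fin b) F) : Mn) *ᵥ t
    have ht' : cp a t' = 0 := by
      have := hcp t'
      rw [mulVec_inv_cancel, ht] at this
      exact gl_mulVec_injective T (this.symm.trans (Matrix.mulVec_zero _).symm)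
    rw [Units.val_mul, ← Matrix.mulVec_mulVec, Units.val_mul, ← Matrix.mulVec_mulVec, h.act t' ht',
      Matrix.mulVec_add, mulVec_inv_cancel, kg_apply, hya]

/-- A skew map whose square is scalar is zero on an anisotropic vector once it is an elementary one. -/
theorem Gram.eq_smul (hD : Gram D) (hb : 3 ≤ b) (f : (Fin b → F) →ₗ[F] (Fin b → F)) {l : F}
    (hf : ∀ v v', dB D (f v) v' + dB D v (f v') = l * dB D v v')
    (hK : ∀ e, dB D e e ≠ 0 → ∀ R : GL (Fin b) F,
      (∀ u, (R : Mb) *ᵥ u = u - (2 * dB D u e / dB D e e) • e) → ∃ ν : F, ∀ v,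
        (R : Mb) *ᵥ f ((R : Mb) *ᵥ ((R : Mb) *ᵥ f ((R : Mb) *ᵥ v) - f v)) -
          f ((R : Mb) *ᵥ f ((R : Mb) *ᵥ v) - f v) = ν • v)
    (u : Fin b → F) : f u = (l / 2) • u := by
  have h2 := hD.two
  have haniso : ∀ e, dB D e e ≠ 0 → f e = (l / 2) • e := by
    intro e he
    obtain ⟨R, -, hR⟩ := exists_reflection hD he
    obtain ⟨ν, hν⟩ := hK e he R hR
    have hfe : dB D (f e) e = l / 2 * dB D e e := by
      have := hf e e
      rw [hD.dB_comm e (f e)] at this
      field_simp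
      linear_combination this
    obtain ⟨w, hw⟩ : ∃ w, w = f e - (l / 2) • e := ⟨_, rfl⟩
    have hwe : dB D w e = 0 := by rw [hw, dB_sub_left, dB_smul_left, hfe, sub_self]
    let K : (Fin b → F) → (Fin b → F) := fun v => (R : Mb) *ᵥ f ((R : Mb) *ᵥ v) - f v
    have hKK : ∀ v, K (K v) = ν • v := hν
    have hKe : K e = (-2 : F) • w := by
      show (R : Mb) *ᵥ f ((R : Mb) *ᵥ e) - f e = _
      rw [hR e, show 2 * dB D e e / dB D e e = (2 : F) by field_simp, map_sub, map_smul, hR, dB_sub_left,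
        dB_smul_left, hfe,
        show 2 * (l / 2 * dB D e e - 2 * (l / 2 * dB D e e)) / dB D e e = -l by field_simp; ring, hw]
      match_scalars <;> field_simp <;> ring
    have hKx : ∀ x, dB D x e = 0 → K x = (2 * dB D x w / dB D e e) • e := by
      intro x hx
      show (R : Mb) *ᵥ f ((R : Mb) *ᵥ x) - f x = _
      rw [hR x, hx, mul_zero, zero_div, zero_smul, sub_zero, hR (f x)]
      have h1 := hf x e
      rw [hx, mul_zero] at h1
      have h2' : dB D x w = dB D x (f e) := by rw [hw, dB_sub_right, dB_smul_right, hx, mul_zero, sub_zero]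
      rw [sub_sub_cancel_left, ← neg_smul, ← neg_div, h2', ← mul_neg, eq_neg_of_add_eq_zero_left h1, neg_neg]
    have hKs : ∀ (r : F) v, K (r • v) = r • K v := fun r v => by
      simp only [K, Matrix.mulVec_smul, map_smul, smul_sub]
    have hKw : K w = (2 * dB D w w / dB D e e) • e := hKx w hwe
    have hν' : ν = -4 * dB D w w / dB D e e := by
      have := hKK e
      rw [hKe, hKs, hKw, smul_smul] at this
      have e0 : e ≠ 0 := fun h => he (by rw [h, dB_zero_left])
      have h4 := smul_left_injective F e0 this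
      rw [← h4]; field_simp; ring
    obtain ⟨x, hx0, hxe, hxw⟩ : ∃ x : Fin b → F, x ≠ 0 ∧ dB D x e = 0 ∧ dB D x w = 0 := by
      let φ : (Fin b → F) →ₗ[F] F × F := (dL D e).prod (dL D w)
      have hk := φ.finrank_range_add_finrank_ker
      have hle := (LinearMap.range φ).finrank_le
      rw [finrank_prod, finrank_self] at hle
      rw [finrank_pi, Fintype.card_fin] at hk
      have hne : LinearMap.ker φ ≠ ⊥ := fun hbot => by rw [hbot, finrank_bot] at hk; omega
      obtain ⟨x, hx, hx0⟩ := Submodule.exists_mem_ne_zero_of_ne_bot hne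
      have := LinearMap.mem_ker.1 hx
      exact ⟨x, hx0, congrArg Prod.fst this, congrArg Prod.snd this⟩
    have hν0 : ν = 0 := by
      have := hKK x
      rw [hKx x hxe, hxw, mul_zero, zero_div, zero_smul,
        show K 0 = 0 by simp [K]] at this
      exact (smul_eq_zero.1 this.symm).resolve_right hx0
    by_contra hne
    have hw0 : w ≠ 0 := fun h0 => hne (by rw [h0] at hw; exact sub_eq_zero.1 hw.symm)
    obtain ⟨z, hz⟩ := hD.dB_surj hw0
    obtain ⟨z', hz'⟩ : ∃ z', z' = z - (dB D z e / dB D e e) • e := ⟨_, rfl⟩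
    have hz1 : dB D z' w = 1 := by
      rw [hz', dB_sub_left, dB_smul_left, hD.dB_comm z w, hz, hD.dB_comm e w, hwe, mul_zero, sub_zero]
    have hz2 : dB D z' e = 0 := by
      rw [hz', dB_sub_left, dB_smul_left, div_mul_cancel₀ _ he, sub_self]
    have := hKK z'
    rw [hKx z' hz2, hKs, hKe, hν0, zero_smul, smul_smul, hz1] at this
    refine hw0 ((smul_eq_zero.1 this).resolve_left ?_)
    exact mul_ne_zero (div_ne_zero (by rw [mul_one]; exact h2) he) (neg_ne_zero.2 h2)
  by_cases hu : dB D u u = 0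
  swap
  · exact haniso u hu
  obtain ⟨e, he⟩ := hD.exists_aniso (by omega)
  obtain ⟨r, hr⟩ : ∃ r : F, dB D (u + r • e) (u + r • e) ≠ 0 := by
    by_contra hc
    push Not at hc
    have h1 := hc 1
    have h1' := hc (-1)
    simp only [dB_add_left, dB_add_right, dB_smul_left, dB_smul_right, hu, hD.dB_comm e u] at h1 h1'
    exact he (by
      have : (2 : F) * dB D e e = 0 := by linear_combination h1 + h1'
      exact (mul_eq_zero.1 this).resolve_left h2)
  have := haniso _ hr
  rw [map_add, map_smul, haniso e he, smul_add, smul_comm (l / 2) r e] at this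
  exact add_right_cancel this

/-- The coefficient on each vector orthogonal to `a` and `c` is scalar. -/
theorem Rad.coef_scalar (hD : Gram D) (hb : 3 ≤ b) (hM : Ovr D M) {g : GL (Al k × Fin b) F} {a c : Al k → F}
    (hca : ω c a = 1) {Φ : V →ₗ[F] (Fin b → F)} (hR : RootScal M a c) (h : Rad g a Φ) (hg : g ∈ M)
    {w : Al k → F} (haw : ω a w = 0) (hcw : ω c w = 0) : ∃ l : F, ∀ v, Φ (tmul w v) = l • v := by
  obtain ⟨l, hl⟩ := h.coef hD hM hca hR hg haw hcw
  by_cases hw0 : w = 0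
  · exact ⟨0, fun v => by rw [hw0, tmul_zero_left, map_zero, zero_smul]⟩
  let f : (Fin b → F) →ₗ[F] (Fin b → F) :=
    Φ.comp { toFun := fun v => tmul w v, map_add' := tmul_add_right w
             map_smul' := fun r v => by rw [RingHom.id_apply]; exact tmul_smul_right r w v }
  refine ⟨l / 2, fun v => hD.eq_smul hb f (l := l) (fun v v' => hl v v') (fun e he R hR' => ?_) v⟩
  have hRiso : ∀ u v, dB D ((R : Mb) *ᵥ u) ((R : Mb) *ᵥ v) = dB D u v := fun u v => by
    rw [hR', hR', dB_sub_left, dB_sub_right, dB_sub_right, dB_smul_left, dB_smul_right, dB_smul_left,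
      dB_smul_right, hD.dB_comm e v]
    field_simp
    ring
  have hRR : ∀ u, (R : Mb) *ᵥ ((R : Mb) *ᵥ u) = u := fun u => by
    rw [hR' u, Matrix.mulVec_sub, Matrix.mulVec_smul, hR', hR' e]
    rw [show 2 * dB D e e / dB D e e = (2 : F) by field_simp]
    match_scalars <;> ring
  -- the conjugate by the reflection
  have h1y : ∀ x x', ω (((1 : GL (Al k) F) : Ma) *ᵥ x) (((1 : GL (Al k) F) : Ma) *ᵥ x') = ω x x' := by simp
  have hR1 := (h.conj 1 R h1y (by simp)).mul h.inv
  have hg1 : kg (1 : GL (Al k) F) R * g * (kg (1 : GL (Al k) F) R)⁻¹ * g⁻¹ ∈ M :=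
    mul_mem (mul_mem (mul_mem (hM.kg_right hRiso) hg) (inv_mem (hM.kg_right hRiso))) (inv_mem hg)
  obtain ⟨y, hy, hyx⟩ := exists_tv w (1 : F)
  have hya : (y : Ma) *ᵥ a = a := by rw [hyx, haw, mul_zero, zero_smul, add_zero]
  have hP := (hR1.conj y 1 hy hya).mul hR1.inv
  have hgP : kg y 1 * (kg (1 : GL (Al k) F) R * g * (kg (1 : GL (Al k) F) R)⁻¹ * g⁻¹) * (kg y 1)⁻¹ *
      (kg (1 : GL (Al k) F) R * g * (kg (1 : GL (Al k) F) R)⁻¹ * g⁻¹)⁻¹ ∈ M :=
    mul_mem (mul_mem (mul_mem (hM.kg_left hy) hg1) (inv_mem (hM.kg_left hy))) (inv_mem hg1)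
  obtain ⟨K, hK⟩ : ∃ K : (Fin b → F) → (Fin b → F), K = fun v => (R : Mb) *ᵥ f ((R : Mb) *ᵥ v) - f v := ⟨_, rfl⟩
  have hRinv : ∀ u, ((R⁻¹ : GL (Fin b) F) : Mb) *ᵥ u = (R : Mb) *ᵥ u := fun u => by
    conv_lhs => rw [← hRR u]
    rw [inv_mulVec_cancel]
  have hyinv : ∀ x, ((y⁻¹ : GL (Al k) F) : Ma) *ᵥ x = x - ω x w • w := fun x => gl_mulVec_injective y (by
    show (y : Ma) *ᵥ _ = (y : Ma) *ᵥ _
    rw [mulVec_inv_cancel, hyx, sympForm_sub_left, sympForm_smul_left, sympForm_self, mul_zero, sub_zero, one_mul,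
      sub_add_cancel])
  generalize hΨ : ((Matrix.toLin' ((1 : GL (Fin b) F) : Mb)).comp
      ((((Matrix.toLin' (R : Mb)).comp (Φ.comp (Matrix.toLin'
        (((kg (1 : GL (Al k) F) R)⁻¹ : GL (Al k × Fin b) F) : Mn)))) + -Φ).comp
        (Matrix.toLin' (((kg y (1 : GL (Fin b) F))⁻¹ : GL (Al k × Fin b) F) : Mn))) +
      -((Matrix.toLin' (R : Mb)).comp (Φ.comp (Matrix.toLin'
        (((kg (1 : GL (Al k) F) R)⁻¹ : GL (Al k × Fin b) F) : Mn))) + -Φ)) = Ψ at hP
  have hΨx : ∀ x v, Ψ (tmul x v) = -(ω x w) • K v := by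
    intro x v
    rw [← hΨ, hK]
    simp only [LinearMap.add_apply, LinearMap.neg_apply, LinearMap.comp_apply, Matrix.toLin'_apply, kg_inv,
      kg_apply, Units.val_one, Matrix.one_mulVec, inv_one, hyinv, hRinv, tmul_sub_left, tmul_smul_left, map_sub,
      map_smul, Matrix.mulVec_sub, Matrix.mulVec_smul]
    show _ = -(ω x w) • ((R : Mb) *ᵥ Φ (tmul w ((R : Mb) *ᵥ v)) - Φ (tmul w v))
    module
  -- the skewness of `K`
  have hKskew : ∀ v v', dB D (K v) v' + dB D v (K v') = 0 := fun v v' => by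
    rw [hK]
    simp only [dB_sub_left, dB_sub_right]
    have e1 : dB D ((R : Mb) *ᵥ f ((R : Mb) *ᵥ v)) v' = dB D (f ((R : Mb) *ᵥ v)) ((R : Mb) *ᵥ v') := by
      conv_lhs => rw [← hRR v']
      rw [hRiso]
    have e2 : dB D v ((R : Mb) *ᵥ f ((R : Mb) *ᵥ v')) = dB D ((R : Mb) *ᵥ v) (f ((R : Mb) *ᵥ v')) := by
      conv_lhs => rw [← hRR v]
      rw [hRiso]
    have h3 := hl ((R : Mb) *ᵥ v) ((R : Mb) *ᵥ v')
    have h4 := hl v v'
    rw [hRiso] at h3
    simp only [f, LinearMap.comp_apply, LinearMap.coe_mk, AddHom.coe_mk] at e1 e2 ⊢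
    linear_combination e1 + e2 + h3 - h4
  -- a second direction
  obtain ⟨w2, haw2, hcw2, hww2⟩ : ∃ w2, ω a w2 = 0 ∧ ω c w2 = 0 ∧ ω w w2 = 1 := by
    obtain ⟨z, hz⟩ := exists_sympForm_eq_one hw0
    refine ⟨z - (ω c z • a - ω a z • c), ?_, ?_, ?_⟩
    · simp only [sympForm_sub_right, sympForm_smul_right, sympForm_self, sympForm_swap a c, hca]; ring
    · simp only [sympForm_sub_right, sympForm_smul_right, sympForm_self, hca]; ring
    · simp only [sympForm_sub_right, sympForm_smul_right, sympForm_swap w a, sympForm_swap w c, haw, hcw, hz]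
      ring
  obtain ⟨y2, hy2, hy2x⟩ := exists_tv w2 (1 : F)
  have hy2a : (y2 : Ma) *ᵥ a = a := by rw [hy2x, haw2, mul_zero, zero_smul, add_zero]
  obtain ⟨w3, hw3⟩ : ∃ w3, w3 = (y2 : Ma) *ᵥ w := ⟨_, rfl⟩
  have hw33 : ω w w3 = 1 := by
    rw [hw3, hy2x, hww2, mul_one, one_smul, sympForm_add_right, sympForm_self, zero_add, hww2]
  have hP2 := hP.conj y2 1 hy2 hy2a
  generalize hΨ2 : ((Matrix.toLin' ((1 : GL (Fin b) F) : Mb)).comp (Ψ.comp
    (Matrix.toLin' (((kg y2 (1 : GL (Fin b) F))⁻¹ : GL (Al k × Fin b) F) : Mn)))) = Ψ2 at hP2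
  have hΨ2x : ∀ x v, Ψ2 (tmul x v) = -(ω x w3) • K v := fun x v => by
    rw [← hΨ2]
    simp only [LinearMap.comp_apply, Matrix.toLin'_apply, kg_inv, kg_apply, Units.val_one, Matrix.one_mulVec,
      inv_one, hΨx]
    congr 2
    conv_rhs => rw [← mulVec_inv_cancel y2 x, hw3, hy2]
  set P := kg y 1 * (kg (1 : GL (Al k) F) R * g * (kg (1 : GL (Al k) F) R)⁻¹ * g⁻¹) * (kg y 1)⁻¹ *
    (kg (1 : GL (Al k) F) R * g * (kg (1 : GL (Al k) F) R)⁻¹ * g⁻¹)⁻¹ with hPdef
  have hgP2 : kg y2 1 * P * (kg y2 1)⁻¹ ∈ M := mul_mem (mul_mem (hM.kg_left hy2) hgP) (inv_mem (hM.kg_left hy2))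
  obtain ⟨ν, hν⟩ := hP.comm_scal (c := c) hD hM hR hgP hP2 hgP2
  let KL : (Fin b → F) →ₗ[F] (Fin b → F) := (Matrix.toLin' (R : Mb)).comp (f.comp (Matrix.toLin' (R : Mb))) - f
  have hKL : ∀ u, K u = KL u := fun u => by rw [hK]; simp [KL, Matrix.toLin'_apply]
  have hΨt : ∀ t, Ψ t = -(KL (cp w t)) := fun t => by
    have : Ψ = -(KL.comp (cp w)) := ext_pure fun x v => by
      rw [hΨx, LinearMap.neg_apply, LinearMap.comp_apply, cp_tmul, map_smul, neg_smul, hKL]
    rw [this]; rfl
  have hΨ2t : ∀ t, Ψ2 t = -(KL (cp w3 t)) := fun t => by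
    have : Ψ2 = -(KL.comp (cp w3)) := ext_pure fun x v => by
      rw [hΨ2x, LinearMap.neg_apply, LinearMap.comp_apply, cp_tmul, map_smul, neg_smul, hKL]
    rw [this]; rfl
  have haw3 : ω a w3 = 0 := by rw [hw3, ← hy2a, hy2, haw]
  have e1 : ∀ v, cp w (tv (kg y2 1 * P * (kg y2 1)⁻¹) c v) = (-1 : F) • K v := fun v => by
    refine sub_eq_zero.1 (hD.dB_nd fun v' => ?_)
    have := hP2.adj hD hM hca hgP2 haw v v'
    rw [hΨ2x, hw33, dB_smul_right] at this
    rw [dB_sub_left, dB_smul_left]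
    linear_combination this + hKskew v v'
  have e2 : ∀ v, cp w3 (tv P c v) = K v := fun v => by
    refine sub_eq_zero.1 (hD.dB_nd fun v' => ?_)
    have := hP.adj hD hM hca hgP haw3 v v'
    rw [hΨx, sympForm_swap, hw33, dB_smul_right] at this
    rw [dB_sub_left]
    linear_combination this - hKskew v v'
  refine ⟨ν / 2, fun v => ?_⟩
  have := hν v
  rw [hΨt, hΨ2t, e1, e2, map_smul, ← hKL] at this
  show (R : Mb) *ᵥ f ((R : Mb) *ᵥ ((R : Mb) *ᵥ f ((R : Mb) *ᵥ v) - f v)) - f _ = _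
  have h5 : K (K v) = (ν / 2) • v := by
    rw [div_eq_inv_mul, ← smul_smul, ← this]
    rw [show -((-1 : F) • K (K v)) - -K (K v) = (2 : F) • K (K v) by module, inv_smul_smul₀ hD.two]
  rw [hK] at h5
  exact h5

/-- Radical elements at `a` are of product shape. -/
theorem Rad.isKron (hD : Gram D) (hb : 3 ≤ b) (hM : Ovr D M) {g : GL (Al k × Fin b) F} {a c : Al k → F}
    (hca : ω c a = 1) {Φ : V →ₗ[F] (Fin b → F)} (hR : RootScal M a c) (h : Rad g a Φ) (hg : g ∈ M) :
    IsKron g := by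
  classical
  obtain ⟨v0, ψ, hψ⟩ : ∃ (v0 ψ : Fin b → F), ψ ⬝ᵥ v0 = 1 :=
    ⟨Pi.single ⟨0, by omega⟩ 1, Pi.single ⟨0, by omega⟩ 1, by simp⟩
  let L : (Al k → F) →ₗ[F] F :=
    { toFun := fun x => ψ ⬝ᵥ Φ (tmul (x - (ω x a • c - ω x c • a)) v0)
      map_add' := fun x x' => by
        rw [← dotProduct_add, ← map_add, ← tmul_add_left, sympForm_add_left, sympForm_add_left]
        congr 3; module
      map_smul' := fun r x => by
        rw [RingHom.id_apply, smul_eq_mul, ← smul_eq_mul r, ← dotProduct_smul, ← map_smul, ← tmul_smul_left,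
          sympForm_smul_left, sympForm_smul_left]
        congr 3; module }
  obtain ⟨p, hp⟩ : ∃ p, ∀ x, ω x p = -L x := by
    let E : (Al k → F) →ₗ[F] (Al k → F) :=
      { toFun := fun p i => ω (Pi.single i 1) p
        map_add' := fun p p' => funext fun i => sympForm_add_right _ _ _
        map_smul' := fun r p => funext fun i => sympForm_smul_right _ _ _ }
    have key : ∀ (q : Al k → F) (M' : (Al k → F) →ₗ[F] F), (∀ i, ω (Pi.single i 1) q = M' (Pi.single i 1)) →
        ∀ x, ω x q = M' x := by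
      intro q M' hq x
      let Q : (Al k → F) →ₗ[F] F :=
        { toFun := fun x => ω x q
          map_add' := fun x x' => sympForm_add_left _ _ _
          map_smul' := fun r x => sympForm_smul_left _ _ _ }
      show Q x = M' x
      refine LinearMap.congr_fun (LinearMap.pi_ext' fun i => LinearMap.ext_ring ?_) x
      simpa [Q] using hq i
    have hEi : Function.Injective E := (injective_iff_map_eq_zero _).2 fun p hp => by
      refine sesq_sympForm.eq_zero _ fun z => ?_
      rw [key p 0 (fun i => congrFun hp i) z]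
      simp
    obtain ⟨p, hp⟩ := LinearMap.surjective_of_injective hEi (fun i => -L (Pi.single i 1))
    exact ⟨p, key p (-L) (fun i => congrFun hp i)⟩
  have hLa : L a = 0 := by
    show ψ ⬝ᵥ Φ (tmul _ v0) = 0
    rw [sympForm_self, sympForm_swap a c, hca, zero_smul, zero_sub, neg_smul, one_smul, neg_neg, sub_self,
      tmul_zero_left, map_zero, dotProduct_zero]
  have hLc : L c = 0 := by
    show ψ ⬝ᵥ Φ (tmul _ v0) = 0
    rw [sympForm_self, hca, one_smul, zero_smul, sub_zero, sub_self, tmul_zero_left, map_zero, dotProduct_zero]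
  obtain ⟨h', hh', hk', hrad, htv⟩ := exists_rad_short hM hca (p := p) (by rw [hp, hLa, neg_zero])
    (by rw [hp, hLc, neg_zero])
  have hr := hrad.mul h
  have hgm : h' * g ∈ M := mul_mem hh' hg
  have hzero : ∀ t : V, cp a t = 0 → (cp p + Φ : V →ₗ[F] (Fin b → F)) t = 0 := by
    intro t ht
    refine ext_perp (L := cp p + Φ) (L' := 0) hca (fun x v hx => ?_) ht
    obtain ⟨π, hπ⟩ : ∃ π, π = x - (ω x a • c - ω x c • a) := ⟨_, rfl⟩
    obtain ⟨l, hl⟩ := h.coef_scalar hD hb hM hca hR hg (w := π)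
      (by rw [hπ]; simp only [sympForm_sub_right, sympForm_smul_right, sympForm_self, sympForm_swap a x,
        sympForm_swap a c, hca]; ring)
      (by rw [hπ]; simp only [sympForm_sub_right, sympForm_smul_right, sympForm_self, sympForm_swap c x, hca]
          ring)
    have hxπ : Φ (tmul x v) = Φ (tmul π v) := by
      rw [hπ, hx, zero_smul, zero_sub, sub_neg_eq_add, tmul_add_left, tmul_smul_left, map_add, map_smul, h.fix,
        smul_zero, add_zero]
    have hL : L x = l := by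
      show ψ ⬝ᵥ Φ (tmul (x - (ω x a • c - ω x c • a)) v0) = l
      rw [← hπ, hl, dotProduct_smul, hψ, smul_eq_mul, mul_one]
    rw [LinearMap.add_apply, cp_tmul, hxπ, hl, hp, hL, LinearMap.zero_apply, neg_smul, neg_add_cancel]
  have hfix : ∀ t, cp a t = 0 → ((h' * g : GL (Al k × Fin b) F) : Mn) *ᵥ t = t := fun t ht => by
    rw [hr.act t ht, hzero t ht, tmul_zero_right, add_zero]
  have hz : ∀ {q}, ω a q = 0 → ∀ v, cp q (tv (h' * g) c v) = 0 := fun {q} hq v => hD.dB_nd fun v' => by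
    have := hr.adj hD hM hca hgm hq v v'
    rwa [hzero _ (show cp a (tmul q v') = 0 by rw [cp_tmul, sympForm_swap, hq, neg_zero, zero_smul]),
      dB_zero_right, add_zero] at this
  have htc : ∀ v, tv (h' * g) c v + tmul a (cp c (tv (h' * g) c v)) = 0 := fun v => hD.W_nd fun y => by
    set t := tv (h' * g) c v + tmul a (cp c (tv (h' * g) c v)) with ht
    suffices ∀ q, cp q t = 0 by
      have hlin : WL D y t = 0 := by
        have e : ∀ x' v', W D t (tmul x' v') = 0 := fun x' v' => by rw [W_tmul_right, this, dB_zero_left]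
        show W D t y = 0
        rw [sum_tmul_basis y]
        simp only [W, Matrix.mulVec_sum, dotProduct_sum, Matrix.mulVec_smul, dotProduct_smul]
        refine Finset.sum_eq_zero fun i _ => ?_
        have e' := e (Pi.single i.1 (1 : F)) (Pi.single i.2 1)
        simp only [W] at e'
        rw [e', smul_zero]
      exact hlin
    intro q
    obtain ⟨q', hq'⟩ : ∃ q', q' = q + ω a q • c := ⟨_, rfl⟩
    have hq0 : ω a q' = 0 := by
      rw [hq', sympForm_add_right, sympForm_smul_right, sympForm_swap a c, hca]; ring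
    have hlin : ∀ (r : F) (x y : Al k → F) (s : V), cp (x + r • y) s = cp x s + r • cp y s := fun r x y s => by
      have : cp (b := b) (x + r • y) = cp x + r • cp y := ext_pure fun z u => by
        simp only [LinearMap.add_apply, LinearMap.smul_apply, cp_tmul, sympForm_add_right, sympForm_smul_right]
        module
      exact LinearMap.congr_fun this s
    have hc0 : cp c t = 0 := by
      rw [ht, map_add, cp_tmul, sympForm_swap a c, hca, neg_smul, one_smul, add_neg_cancel]
    rw [show q = q' + (-ω a q) • c by rw [hq']; module, hlin, hc0, smul_zero, add_zero, ht, map_add, hz hq0,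
      cp_tmul, hq0, zero_smul, add_zero]
  let S : (Fin b → F) →ₗ[F] (Fin b → F) :=
    { toFun := fun v => -cp c (tv (h' * g) c v)
      map_add' := fun v v' => by simp only [tv, tmul_add_right, Matrix.mulVec_add, map_sub, map_add]; abel
      map_smul' := fun r v => by
        simp only [tv, tmul_smul_right, Matrix.mulVec_smul, map_sub, map_smul, RingHom.id_apply, smul_sub,
          smul_neg] }
  have hS : ∀ v, ((h' * g : GL (Al k × Fin b) F) : Mn) *ᵥ tmul c v = tmul c v + tmul a (S v) := fun v => by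
    have e : tv (h' * g) c v = tmul a (-cp c (tv (h' * g) c v)) := by
      rw [show tmul a (-cp c (tv (h' * g) c v)) = -tmul a (cp c (tv (h' * g) c v)) by
        rw [← neg_one_smul F (cp c _), tmul_smul_right, neg_one_smul]]
      exact eq_neg_of_add_eq_zero_left (htc v)
    show _ = tmul c v + tmul a (-cp c (tv (h' * g) c v))
    rw [← e, tv, add_sub_cancel]
  obtain ⟨l, hl⟩ := hR _ hgm hfix S hS
  obtain ⟨y, hy, hyx⟩ := exists_tv a l
  have : h' * g = kg y 1 := ext_gl fun x v => by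
    rw [kg_apply, Units.val_one, Matrix.one_mulVec, hyx, tmul_add_left, tmul_smul_left]
    have hx : tmul x v = tmul (x - ω x a • c) v + ω x a • tmul c v := by
      rw [tmul_sub_left, tmul_smul_left, sub_add_cancel]
    conv_lhs => rw [hx]
    rw [Matrix.mulVec_add, Matrix.mulVec_smul, hS, hl, tmul_smul_right, hfix _ (by
      rw [cp_tmul, sympForm_sub_left, sympForm_smul_left, hca, mul_one, sub_self, zero_smul]),
      tmul_sub_left, tmul_smul_left]
    module
  have hgk : IsKron (h'⁻¹ * (h' * g)) := TensorMax.IsKron.mul (TensorMax.IsKron.inv hk') (this ▸ kg_isKron y 1)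
  rwa [inv_mul_cancel_left] at hgk

end Cfsg.Agent.Classical.TensorRoot
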