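import Cfsg.Agent.Lib.Classical.MaxTensorTwo

/-!
A root element with a non-scalar symmetric coefficient gives the whole symplectic group.
-/

set_option autoImplicit false
set_option linter.unusedSectionVars false

namespace Cfsg.Agent.Classical.TensorTwo

open Matrix Module MaxTv

variable {F : Type*} [Field F] [Fintype F] {m : ℕ} {U : Type*} [AddCommGroup U] [Module F U]
  [FiniteDimensional F U] {D : LinearMap.BilinForm F U} {Φ : (U × U) ≃ₗ[F] (Fin m ⊕ Fin m → F)}
  {M : Subgroup (GL (Fin m ⊕ Fin m) F)}

/-- A non-scalar symmetric root element gives everything. -/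
theorem TwoData.full_of_hor (hT : TwoData D Φ) (hM : Over Φ M) {S : U →ₗ[F] U}
    (hsym : ∀ u v, D (S u) v = D u (S v)) (hns : ∀ l : F, ∃ u, S u ≠ l • u)
    (h : InN M (hor Φ S)) : spGL m F ≤ M := by
  obtain ⟨e, he, hne⟩ : ∃ e, D e e ≠ 0 ∧ ∀ l : F, S e ≠ l • e := by
    by_contra hc
    push Not at hc
    obtain ⟨e, he⟩ := hT.exists_aniso
    obtain ⟨l, hl⟩ := hc e he
    obtain ⟨u, hu⟩ := hns l
    refine hu ?_
    -- eigenvalues of all anisotropic vectors agree
    have hadd : ∀ x, D x x ≠ 0 → S x = l • x := fun x hx => by
      obtain ⟨lx, hlx⟩ := hc x hx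
      by_cases hdep : ∃ c : F, x = c • e
      · obtain ⟨c, rfl⟩ := hdep
        rw [map_smul, hl, smul_comm]
      push Not at hdep
      have e0 : e ≠ 0 := fun h0 => he (by rw [h0, hT.zero_left])
      have key : ∀ y, D (e + y) (e + y) ≠ 0 → ∀ ly, S y = ly • y → (∀ c : F, y ≠ c • e) → ly = l := by
        intro y hy ly hly hd
        obtain ⟨m', hm'⟩ := hc _ hy
        rw [map_add, hl, hly, smul_add] at hm'
        have hli : LinearIndependent F ![e, y] := (LinearIndependent.pair_iff' e0).2 fun c hc' => hd c hc'.symm
        have := LinearIndependent.pair_iff.1 hli (l - m') (ly - m') (by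
          rw [sub_smul, sub_smul]
          calc l • e - m' • e + (ly • y - m' • y) = l • e + ly • y - (m' • e + m' • y) := by abel
            _ = 0 := by rw [hm', sub_self])
        rw [sub_eq_zero.1 this.2, ← sub_eq_zero.1 this.1]
      by_cases h1 : D (e + x) (e + x) = 0
      swap
      · rw [hlx, key x h1 lx hlx hdep]
      by_cases h1' : D (e + -x) (e + -x) = 0
      swap
      · have := key (-x) h1' lx (by rw [map_neg, hlx, smul_neg]) fun c hc' =>
          hdep (-c) (by rw [neg_smul, ← hc', neg_neg])
        rw [hlx, this]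
      have hex : D e x = 0 := by
        rw [hT.quad_add] at h1 h1'
        simp only [map_neg, LinearMap.neg_apply, neg_neg, mul_neg] at h1'
        have : (2 : F) * (2 * D e x) = 0 := by linear_combination h1 - h1'
        simpa [hT.two] using this
      have hdiff : lx ≠ l → False := fun hd => by
        obtain ⟨k, hke, hkx, hk⟩ := hT.exists_aniso_perp2 he hx hex
        obtain ⟨lk, hlk⟩ := hc k hk
        have hke' : D e k = 0 := (hT.symm _ _).trans hke
        have hxk : D x k = 0 := (hT.symm _ _).trans hkx
        have h0 : D e e + D x x = 0 := by rw [hT.quad_add, hex] at h1; linear_combination h1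
        have hq : D (k + e + x) (k + e + x) = D k k := by
          simp only [map_add, LinearMap.add_apply, hke, hkx, hke', hxk, hex, (hT.symm x e).trans hex]
          linear_combination h0
        obtain ⟨n, hn⟩ := hc (k + e + x) (by rw [hq]; exact hk)
        rw [map_add, map_add, hlk, hl, hlx, smul_add, smul_add] at hn
        have e1 := congrArg (fun z => D z e) hn
        have e2 := congrArg (fun z => D z x) hn
        simp only [map_add, map_smul, LinearMap.add_apply, LinearMap.smul_apply, smul_eq_mul, hke, hkx, hex,
          (hT.symm x e).trans hex, mul_zero, zero_add, add_zero] at e1 e2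
        exact hd (by rw [mul_right_cancel₀ hx e2, mul_right_cancel₀ he e1])
      rw [hlx, show lx = l from by_contra hdiff]
    by_cases hu' : D u u = 0
    swap
    · exact hadd u hu'
    obtain ⟨c, hc'⟩ : ∃ c : F, D (u + c • e) (u + c • e) ≠ 0 := by
      by_contra hall
      push Not at hall
      have a1 := hall 1
      have a2 := hall (-1)
      simp only [map_add, map_smul, LinearMap.add_apply, LinearMap.smul_apply, smul_eq_mul, hu', hT.symm e u]
        at a1 a2
      exact mul_ne_zero hT.two he (by linear_combination a1 + a2)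
    have := hadd _ hc'
    rw [map_add, map_smul, hl, smul_add, smul_comm l c e] at this
    exact add_right_cancel this
  obtain ⟨R, hRx, hRi, hRR⟩ := hT.exists_refl he
  obtain ⟨β, hβ⟩ : ∃ β, β = D (S e) e / D e e := ⟨_, rfl⟩
  have h1 := hT.hor_conj hM h hRi (S' := R.toLinearMap ∘ₗ S ∘ₗ R.toLinearMap) fun x => by simp [hRR]
  have h2 := hT.hor_smul hM (hT.hor_sub hM h h1) (D e e / 2)
  refine hT.full_of_cross hM he (f := S e - β • e) ?_ (sub_ne_zero.2 (hne β)) ?_
  · rw [map_sub, map_smul, smul_eq_mul, hβ, div_mul_cancel₀ _ he, hT.symm e (S e), sub_self]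
  · convert h2 using 3
    refine LinearMap.ext fun x => ?_
    have h2' := hT.two
    simp only [LinearMap.smul_apply, LinearMap.sub_apply, LinearMap.comp_apply, LinearEquiv.coe_coe, cross_apply,
      hRx, map_sub, map_smul, LinearMap.sub_apply, LinearMap.smul_apply, smul_eq_mul, hsym x e, hβ]
    match_scalars <;> field_simp <;> ring

end Cfsg.Agent.Classical.TensorTwo
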