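import Cfsg.Agent.Lib.Classical.MaxTensorRootFull
import Cfsg.Agent.Lib.Classical.MaxTensorTwoHor

/-!
In a proper overgroup of `Sp(A) ⊗ GO(U)`, root elements have scalar coefficients and elements respecting an
orthogonal splitting of `A` are of product shape.
-/

set_option autoImplicit false
set_option linter.unusedSectionVars false

namespace Cfsg.Agent.Classical.TensorRoot

open Matrix Module MaxTv TensorMax
open scoped Kronecker

/-- The field or the second factor is not too small. -/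
def Big (F : Type*) [Field F] (b : ℕ) : Prop := (∃ s : F, s ≠ 0 ∧ s * s ≠ 1) ∨ 4 ≤ b

variable {F : Type*} [Field F] [Fintype F] {k r r' b : ℕ} {D : Matrix (Fin b) (Fin b) F}
  {M : Subgroup (GL (Al k × Fin b) F)}

local notation "ω" => sympForm k F
local notation "Mb" => Matrix (Fin b) (Fin b) F

/-- The two parts exchanged. -/
def swapE (e : Fin r ⊕ Fin r' ≃ Fin k) : Fin r' ⊕ Fin r ≃ Fin k := (Equiv.sumComm _ _).trans e

theorem join_swap (e : Fin r ⊕ Fin r' ≃ Fin k) (x : Al r × Fin b → F) (x' : Al r' × Fin b → F) :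
    join (swapE e) (x', x) = join e (x, x') := by
  funext ⟨i, j⟩
  rcases i with i | i <;> rcases h : e.symm i with l | l <;>
    simp [join, swapE, split_inl, split_inr, h]

theorem Blk.swap {e : Fin r ⊕ Fin r' ≃ Fin k} {g : GL (Al k × Fin b) F} {g₁ : GL (Al r × Fin b) F}
    {g₂ : GL (Al r' × Fin b) F} (h : Blk e g g₁ g₂) : Blk (swapE e) g g₂ g₁ := fun x' x => by
  rw [join_swap, h, join_swap]

/-- Root elements of a proper overgroup in a plane have scalar coefficients. -/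
theorem rootScal_part (hD : Gram D) (hb : 3 ≤ b) (hbig : Big F b) (e : Fin 1 ⊕ Fin r' ≃ Fin k) (hM : Ovr D M)
    (hnf : ¬ SpT k D ≤ M) {a₁ c₁ : Al 1 → F} (ha₁ : a₁ = Pi.single (Sum.inl 0) 1) (hc₁ : c₁ = Pi.single (Sum.inr 0) 1) :
    RootScal M (jn e (a₁, 0)) (jn e (c₁, (0 : Al r' → F))) := by
  intro g hg hfix S hS
  have hca : sympForm 1 F c₁ a₁ = 1 := by rw [ha₁, hc₁]; exact sympForm_single_pair 0
  have hcp : ∀ x x', cp (b := b) (jn e (a₁, 0)) (join e (x, x')) = cp a₁ x := fun x x' => by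
    have : (cp (b := b) (jn e (a₁, (0 : Al r' → F)))).comp (join e).toLinearMap =
        (cp a₁).comp (LinearMap.fst F _ _) := by
      refine LinearMap.prod_ext (ext_pure fun z v => ?_) (ext_pure fun z v => ?_)
      · show cp _ (join e (tmul z v, 0)) = cp a₁ (tmul z v)
        rw [show (0 : Al r' × Fin b → F) = tmul (0 : Al r' → F) v from (tmul_zero_left v).symm, ← tmul_jn,
          cp_tmul, cp_tmul, sympForm_jn, sympForm_self, add_zero]
      · show cp _ (join e (0, tmul z v)) = cp a₁ (0 : Al 1 × Fin b → F)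
        rw [show (0 : Al 1 × Fin b → F) = tmul (0 : Al 1 → F) v from (tmul_zero_left v).symm, ← tmul_jn,
          cp_tmul, cp_tmul, sympForm_jn, sympForm_zero_left, sympForm_zero_right, zero_smul, zero_add, zero_smul]
    exact LinearMap.congr_fun this (x, x')
  let L₁ : (Al 1 × Fin b → F) →ₗ[F] (Al 1 × Fin b → F) :=
    { toFun := fun x => x + tmul a₁ (S (cp a₁ x))
      map_add' := fun x y => by rw [map_add, map_add, tmul_add_right]; abel
      map_smul' := fun c x => by rw [map_smul, map_smul, tmul_smul_right, RingHom.id_apply, smul_add] }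
  obtain ⟨g₁, hg₁⟩ := exists_gl_of_injective L₁ fun x y hxy => by
    have hxy' : x + tmul a₁ (S (cp a₁ x)) = y + tmul a₁ (S (cp a₁ y)) := hxy
    have he := congrArg (cp a₁) hxy'
    rw [map_add, map_add, cp_a_tmul, cp_a_tmul, add_zero, add_zero] at he
    rw [he] at hxy'
    exact add_right_cancel hxy'
  have hblk : Blk e g g₁ 1 := fun x x' => by
    set t := join e (x, x') with ht
    set v := cp (jn e (a₁, (0 : Al r' → F))) t with hv
    have h0 : cp (jn e (a₁, (0 : Al r' → F))) (t - tmul (jn e (c₁, (0 : Al r' → F))) v) = 0 := by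
      rw [map_sub, cp_tmul, sympForm_jn, hca, sympForm_self, add_zero, one_smul, ← hv, sub_self]
    have e1 := hfix _ h0
    rw [Matrix.mulVec_sub, hS, sub_eq_iff_eq_add] at e1
    rw [hg₁, Units.val_one, Matrix.one_mulVec, e1, hv, hcp]
    show _ = join e (x + tmul a₁ (S (cp a₁ x)), x')
    rw [show (x + tmul a₁ (S (cp a₁ x)), x') =
      (x, x') + (tmul a₁ (S (cp a₁ x)), tmul (0 : Al r' → F) (S (cp a₁ x))) by simp [tmul_zero_left], map_add,
      ← tmul_jn, ← ht]
    abel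
  by_contra hne
  push Not at hne
  refine hnf (full_of_proj hD hb one_pos e hM ?_)
  obtain ⟨E, ψ, hW, hψ⟩ := exists_std (k := 1) hD
  have hac : sympForm 1 F a₁ c₁ = -1 := by rw [sympForm_swap, hca]
  let π : ((Fin b → F) × (Fin b → F)) ≃ₗ[F] (Al 1 × Fin b → F) :=
    { toFun := fun p => tmul a₁ p.1 + tmul c₁ p.2
      map_add' := fun p p' => by simp only [Prod.fst_add, Prod.snd_add, tmul_add_right]; abel
      map_smul' := fun r p => by
        simp only [Prod.smul_fst, Prod.smul_snd, tmul_smul_right, smul_add, RingHom.id_apply]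
      invFun := fun t => (fun j => t (Sum.inl 0, j), fun j => t (Sum.inr 0, j))
      left_inv := fun p => by
        refine Prod.ext (funext fun j => ?_) (funext fun j => ?_) <;> simp [tmul, ha₁, hc₁]
      right_inv := fun t => funext fun ⟨i, j⟩ => by
        rcases i with i | i <;> fin_cases i <;> simp [tmul, ha₁, hc₁] }
  have hπ : ∀ u v, π (u, v) = tmul a₁ u + tmul c₁ v := fun u v => rfl
  let Φ : ((Fin b → F) × (Fin b → F)) ≃ₗ[F] (Al (1 * b) → F) := π.trans E
  let D' : LinearMap.BilinForm F (Fin b → F) := LinearMap.mk₂ F (fun u v => -dB D u v)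
    (fun x x' y => by rw [dB_add_left]; ring) (fun r x y => by rw [dB_smul_left, smul_eq_mul]; ring)
    (fun x y y' => by rw [dB_add_right]; ring) (fun r x y => by rw [dB_smul_right, smul_eq_mul]; ring)
  have hT : TensorTwo.TwoData D' Φ :=
    { symm := fun u v => by show -dB D u v = -dB D v u; rw [hD.dB_comm]
      nd := fun u h => hD.dB_nd fun v => neg_eq_zero.1 (h v)
      two := hD.two
      form := fun u v u' v' => by
        show sympForm (1 * b) F (E (π (u, v))) (E (π (u', v'))) = -dB D u v' - -dB D v u'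
        rw [hW, hπ, hπ, W_add_left, W_add_right, W_add_right, W_tmul, W_tmul, W_tmul, W_tmul, hca, hac,
          sympForm_self, sympForm_self]
        ring
      dim := by rw [finrank_pi, Fintype.card_fin]; exact hb
      big := by rw [finrank_pi, Fintype.card_fin]; exact hbig }
  have hP := proj_ovr hD (by omega) one_pos e hM
  have hkron : ∀ g : GL (Al 1 × Fin b) F, TensorTwo.IsPair Φ (ψ g) → IsKron g := by
    rintro g ⟨α, β, γ, δ, T, hg⟩
    have hg' : ∀ u v, (g : Matrix (Al 1 × Fin b) (Al 1 × Fin b) F) *ᵥ π (u, v) =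
        π (T (α • u + β • v), T (γ • u + δ • v)) := fun u v => E.injective (by rw [← hψ]; exact hg u v)
    let L : (Al 1 → F) →ₗ[F] (Al 1 → F) :=
      { toFun := fun z => (α * z (Sum.inl 0) + β * z (Sum.inr 0)) • a₁ + (γ * z (Sum.inl 0) + δ * z (Sum.inr 0)) • c₁
        map_add' := fun z z' => by simp only [Pi.add_apply]; module
        map_smul' := fun r z => by simp only [Pi.smul_apply, smul_eq_mul, RingHom.id_apply]; module }
    have hz : ∀ z : Al 1 → F, z = z (Sum.inl 0) • a₁ + z (Sum.inr 0) • c₁ := fun z => by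
      funext i
      rcases i with i | i <;> fin_cases i <;> simp [ha₁, hc₁]
    have hpt : ∀ z v, (g : Matrix (Al 1 × Fin b) (Al 1 × Fin b) F) *ᵥ tmul z v = tmul (L z) (T v) := by
      intro z v
      conv_lhs => rw [hz z, tmul_add_left, tmul_smul_left, tmul_smul_left, ← tmul_smul_right, ← tmul_smul_right,
        ← hπ, hg', hπ]
      show _ = tmul (_ • a₁ + _ • c₁) (T v)
      rw [tmul_add_left, tmul_smul_left, tmul_smul_left, ← tmul_smul_right, ← tmul_smul_right, ← map_smul,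
        ← map_smul, smul_smul, smul_smul, smul_smul, smul_smul, ← add_smul, ← add_smul]
    obtain ⟨v₀, hv₀⟩ : ∃ v : Fin b → F, v ≠ 0 := ⟨Pi.single ⟨0, by omega⟩ 1, by simp⟩
    obtain ⟨y, hy⟩ := exists_gl_of_injective L ((injective_iff_map_eq_zero L).2 fun z h0 => by
      have h1 := hpt z v₀
      rw [h0, tmul_zero_left, ← Matrix.mulVec_zero (g : Matrix (Al 1 × Fin b) (Al 1 × Fin b) F)] at h1
      refine fac_injective hv₀ ((gl_mulVec_injective g h1).trans (fac (α := Al 1) v₀).map_zero.symm))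
    obtain ⟨B, hB⟩ := exists_gl_of_injective T.toLinearMap T.injective
    exact isKron_of_apply y B fun z v => by rw [hy, hB, hpt]; rfl
  have hM' : TensorTwo.Over Φ ((proj e M).map ψ.toMonoidHom) := by
    refine ⟨?_, fun g hg hp => ?_⟩
    · rintro _ ⟨g, hg, rfl⟩
      refine mem_spGL.2 fun z z' => ?_
      obtain ⟨x, rfl⟩ := E.surjective z
      obtain ⟨x', rfl⟩ := E.surjective z'
      show sympForm (1 * b) F ((ψ g : Matrix _ _ F) *ᵥ E x) ((ψ g : Matrix _ _ F) *ᵥ E x') = _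
      rw [hψ, hψ, hW, hW, hP.iso hg]
    · obtain ⟨g', rfl⟩ := ψ.surjective g
      refine ⟨g', hP.mem _ (mem_SpT.2 fun x x' => ?_) (hkron _ hp), rfl⟩
      rw [← hW, ← hψ, ← hψ, mem_spGL.1 hg, hW]
  have hg₁P : g₁ ∈ proj e M := ⟨g, hg, 1, hblk⟩
  have hg₁π : ∀ u v, (g₁ : Matrix (Al 1 × Fin b) (Al 1 × Fin b) F) *ᵥ π (u, v) = π (u + S v, v) := fun u v => by
    rw [hg₁, hπ, hπ]
    show tmul a₁ u + tmul c₁ v + tmul a₁ (S (cp a₁ (tmul a₁ u + tmul c₁ v))) = _
    rw [map_add, cp_a_tmul, cp_tmul, hca, zero_add, one_smul, tmul_add_right]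
    abel
  have hsym : ∀ u v, D' (S u) v = D' u (S v) := fun u v => by
    have h := mem_SpT.1 (hP.le hg₁P) (π (0, u)) (π (0, v))
    rw [hg₁π, hg₁π, hπ, hπ, hπ, hπ, W_add_left, W_add_right, W_add_right, W_add_left, W_add_right, W_add_right] at h
    simp only [W_tmul, hca, hac, sympForm_self] at h
    simp only [zero_add, dB_zero_left, dB_zero_right, mul_zero, zero_mul, add_zero, one_mul, neg_one_mul] at h
    show -dB D (S u) v = -dB D u (S v)
    linear_combination h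
  have hor : MaxTv.InN ((proj e M).map ψ.toMonoidHom) (TensorTwo.hor Φ S) :=
    TensorTwo.inN_phi (Φ := Φ) ⟨g₁, hg₁P, rfl⟩ fun u v => by
      show (ψ g₁ : Matrix (Al (1 * b)) (Al (1 * b)) F) *ᵥ E (π (u, v)) = _
      rw [hψ, hg₁π, TensorTwo.hor_apply, ← map_add, Prod.mk_add_mk, add_zero]
      rfl
  have hfull := hT.full_of_hor hM' hsym hne hor
  intro h hh
  obtain ⟨h', hh', heq⟩ := hfull (show ψ h ∈ spGL (1 * b) F from mem_spGL.2 fun z z' => by
    obtain ⟨x, rfl⟩ := E.surjective z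
    obtain ⟨y, rfl⟩ := E.surjective z'
    rw [hψ, hψ, hW, hW, mem_SpT.1 hh])
  rwa [← ψ.injective heq]

theorem rootScal (hD : Gram D) (hb : 3 ≤ b) (hbig : Big F b) (e : Fin 1 ⊕ Fin r' ≃ Fin k) (hM : Ovr D M)
    (hnf : ¬ SpT k D ≤ M) {a c : Al k → F} (hca : ω c a = 1) : RootScal M a c := by
  set a₁ : Al 1 → F := Pi.single (Sum.inl 0) 1 with ha₁
  set c₁ : Al 1 → F := Pi.single (Sum.inr 0) 1 with hc₁
  have hca₁ : sympForm 1 F c₁ a₁ = 1 := sympForm_single_pair 0
  have hS := rootScal_part hD hb hbig e hM hnf ha₁ hc₁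
  obtain ⟨y, hy, hya, hyc⟩ := exists_pair_map (k := k) (a := jn e (a₁, 0)) (c := jn e (c₁, (0 : Al r' → F)))
    (a' := a) (c' := c) (by rw [sympForm_jn, hca₁, sympForm_self, add_zero]) hca
  intro g hg hfix S hgS
  have hh : kg y (1 : GL (Fin b) F) ∈ M := hM.kg_left hy
  refine hS ((kg y 1)⁻¹ * g * kg y 1) (mul_mem (mul_mem (inv_mem hh) hg) hh) (fun t ht => ?_) S (fun u => ?_)
  · have hcp : cp a ((kg y (1 : GL (Fin b) F) : Matrix (Al k × Fin b) (Al k × Fin b) F) *ᵥ t) = 0 := by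
      have e1 : (cp a).comp (Matrix.toLin' (kg y (1 : GL (Fin b) F) : Matrix (Al k × Fin b) (Al k × Fin b) F)) =
          cp (jn e (a₁, 0)) := ext_pure fun x v => by
        rw [LinearMap.comp_apply, Matrix.toLin'_apply, kg_apply, cp_tmul, cp_tmul, ← hya, hy, Units.val_one,
          Matrix.one_mulVec]
      have := LinearMap.congr_fun e1 t
      rw [LinearMap.comp_apply, Matrix.toLin'_apply] at this
      rw [this, ht]
    rw [Units.val_mul, Units.val_mul, ← Matrix.mulVec_mulVec, ← Matrix.mulVec_mulVec, hfix _ hcp,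
      inv_mulVec_cancel]
  · refine gl_mulVec_injective (kg y 1) ?_
    show (kg y (1 : GL (Fin b) F) : Matrix (Al k × Fin b) (Al k × Fin b) F) *ᵥ _ =
      (kg y (1 : GL (Fin b) F) : Matrix (Al k × Fin b) (Al k × Fin b) F) *ᵥ _
    rw [Units.val_mul, Units.val_mul, ← Matrix.mulVec_mulVec, ← Matrix.mulVec_mulVec, mulVec_inv_cancel,
      Matrix.mulVec_add, kg_apply, kg_apply, hya, hyc, Units.val_one, Matrix.one_mulVec, Matrix.one_mulVec, hgS]


/-- Tensors with a fixed first factor. -/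
def facR {k : ℕ} (a : Al k → F) : (Fin b → F) →ₗ[F] (Al k × Fin b → F) where
  toFun u := tmul a u
  map_add' u v := tmul_add_right a u v
  map_smul' r u := tmul_smul_right r a u

/-- A tensor whose contractions are multiples of `u`. -/
theorem eq_tmul_of_cp {k : ℕ} {z : Al k × Fin b → F} {u : Fin b → F} (σ : (Al k → F) → F)
    (h : ∀ x, cp x z = σ x • u) :
    z = tmul (Sum.elim (fun i => -σ (Pi.single (Sum.inr i) 1)) fun i => σ (Pi.single (Sum.inl i) 1)) u := by
  funext ⟨i, j⟩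
  rcases i with i | i
  · have := congrFun (h (Pi.single (Sum.inr i) 1)) j
    simp only [cp, lslice, LinearMap.coe_mk, AddHom.coe_mk, Matrix.J, Matrix.mulVec_single, Matrix.one_apply,
      Fintype.sum_sum_type, Pi.smul_apply, smul_eq_mul] at this
    simp [Matrix.fromBlocks, Matrix.one_apply] at this
    simp [tmul, ← this]
  · have := congrFun (h (Pi.single (Sum.inl i) 1)) j
    simp only [cp, lslice, LinearMap.coe_mk, AddHom.coe_mk, Matrix.J, Matrix.mulVec_single, Matrix.one_apply,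
      Fintype.sum_sum_type, Pi.smul_apply, smul_eq_mul] at this
    simp [Matrix.fromBlocks, Matrix.one_apply] at this
    simp [tmul, ← this]

/-- An element that is trivial on a part acts on the other part without touching the second factor. -/
theorem blk_root (hD : Gram D) (hb : 3 ≤ b) (hr' : 0 < r') (e : Fin r ⊕ Fin r' ≃ Fin k) (hM : Ovr D M)
    (hS : ∀ a c : Al k → F, ω c a = 1 → RootScal M a c) {g : GL (Al k × Fin b) F} (hg : g ∈ M)
    {g₁ : GL (Al r × Fin b) F} (h : Blk e g g₁ 1) (a₁ : Al r → F) :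
    ∃ p, ∀ u, (g₁ : Matrix (Al r × Fin b) (Al r × Fin b) F) *ᵥ tmul a₁ u = tmul p u := by
  classical
  obtain ⟨w₁, w₂, hw₁₂⟩ : ∃ w u : Al r' → F, sympForm r' F u w = 1 := ⟨_, _, sympForm_single_pair ⟨0, hr'⟩⟩
  set a := jn e (a₁, (0 : Al r' → F)) with ha
  set w := jn e ((0 : Al r → F), w₁) with hw
  set w' := jn e ((0 : Al r → F), w₂) with hw'
  have hw'w : ω w' w = 1 := by rw [hw', hw, sympForm_jn, hw₁₂, sympForm_self, zero_add]
  have haw : ω a w = 0 := by rw [ha, hw, sympForm_jn, sympForm_zero_right, sympForm_zero_left, add_zero]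
  have hwa : ω w a = 0 := by rw [sympForm_swap, haw, neg_zero]
  obtain ⟨ys, hys, hysx⟩ := exists_short a w haw
  set sy := kg ys (1 : GL (Fin b) F) with hsy
  have hsM : sy ∈ M := hM.kg_left hys
  have hfix2 : ∀ v, (g : Matrix (Al k × Fin b) (Al k × Fin b) F) *ᵥ tmul w v = tmul w v := fun v => by
    rw [hw, tmul_jn, tmul_zero_left, h, Units.val_one, Matrix.mulVec_zero, Matrix.one_mulVec]
  have hgi : ∀ v, ((g⁻¹ : GL (Al k × Fin b) F) : Matrix (Al k × Fin b) (Al k × Fin b) F) *ᵥ tmul w v =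
      tmul w v := fun v => by
    conv_lhs => rw [← hfix2 v]
    rw [Matrix.mulVec_mulVec, ← Units.val_mul, inv_mul_cancel, Units.val_one, Matrix.one_mulVec]
  have hst : ∀ t, (sy : Matrix (Al k × Fin b) (Al k × Fin b) F) *ᵥ t =
      t + tmul w (cp a t) + tmul a (cp w t) := by
    intro t
    let L : (Al k × Fin b → F) →ₗ[F] (Al k × Fin b → F) :=
      { toFun := fun t => t + tmul w (cp a t) + tmul a (cp w t)
        map_add' := fun t t' => by rw [map_add, map_add, tmul_add_right, tmul_add_right]; abel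
        map_smul' := fun c t => by
          rw [map_smul, map_smul, tmul_smul_right, tmul_smul_right, RingHom.id_apply, smul_add, smul_add] }
    have := ext_pure (L := Matrix.toLin' (sy : Matrix (Al k × Fin b) (Al k × Fin b) F)) (L' := L) fun x v => by
      show Matrix.toLin' (sy : Matrix (Al k × Fin b) (Al k × Fin b) F) (tmul x v) =
        tmul x v + tmul w (cp a (tmul x v)) + tmul a (cp w (tmul x v))
      rw [Matrix.toLin'_apply, hsy, kg_apply, hysx, Units.val_one, Matrix.one_mulVec, cp_tmul, cp_tmul,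
        tmul_add_left, tmul_add_left, tmul_smul_left, tmul_smul_left, tmul_smul_right, tmul_smul_right]
    have h' := LinearMap.congr_fun this t
    rwa [Matrix.toLin'_apply] at h'
  obtain ⟨U, hU⟩ : ∃ U, U = g * sy * g⁻¹ * sy⁻¹ := ⟨_, rfl⟩
  have hUM : U ∈ M := hU ▸ mul_mem (mul_mem (mul_mem hg hsM) (inv_mem hg)) (inv_mem hsM)
  obtain ⟨Φ, hΦ⟩ : ∃ Φ, Φ = (cp (b := b) a).comp
      (Matrix.toLin' ((g⁻¹ : GL (Al k × Fin b) F) : Matrix (Al k × Fin b) (Al k × Fin b) F) - LinearMap.id) :=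
    ⟨_, rfl⟩
  have hΦ' : ∀ t, Φ t = cp a (((g⁻¹ : GL (Al k × Fin b) F) : Matrix (Al k × Fin b) (Al k × Fin b) F) *ᵥ t) -
      cp a t := fun t => by rw [hΦ, LinearMap.comp_apply, LinearMap.sub_apply, Matrix.toLin'_apply,
        LinearMap.id_apply, map_sub]
  have hrad : Rad U w Φ := by
    refine ⟨fun v => by rw [hΦ', hgi, sub_self], fun t ht => ?_⟩
    have hinv : ((sy⁻¹ : GL (Al k × Fin b) F) : Matrix (Al k × Fin b) (Al k × Fin b) F) *ᵥ t =
        t - tmul w (cp a t) := by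
      refine gl_mulVec_injective sy ?_
      show (sy : Matrix (Al k × Fin b) (Al k × Fin b) F) *ᵥ _ = (sy : Matrix (Al k × Fin b) (Al k × Fin b) F) *ᵥ _
      rw [mulVec_inv_cancel, hst, map_sub, map_sub, cp_a_tmul, cp_tmul, hwa, zero_smul, sub_zero, sub_zero, ht,
        tmul_zero_right, add_zero, sub_add_cancel]
    have hcw : cp w (((g⁻¹ : GL (Al k × Fin b) F) : Matrix (Al k × Fin b) (Al k × Fin b) F) *ᵥ t) = 0 :=
      hD.dB_nd fun v => by
        rw [← W_tmul_right, ← hM.iso hg, mulVec_inv_cancel, hfix2, W_tmul_right, ht, dB_zero_left]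
    rw [hU, Units.val_mul, Units.val_mul, Units.val_mul, ← Matrix.mulVec_mulVec, hinv, ← Matrix.mulVec_mulVec,
      ← Matrix.mulVec_mulVec, Matrix.mulVec_sub, hgi, hst, map_sub, map_sub, cp_tmul, cp_a_tmul, hwa, zero_smul,
      sub_zero, sub_zero, hcw, tmul_zero_right, add_zero, Matrix.mulVec_add, Matrix.mulVec_sub, mulVec_inv_cancel,
      hfix2, hfix2, hΦ', tmul_sub_right]
    abel
  obtain ⟨Y, T, hYT⟩ := exists_kg_of_isKron (hrad.isKron hD hb hM hw'w (hS w w' hw'w) hUM)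
  have hw0 : w ≠ 0 := fun h0 => by rw [h0, sympForm_zero_right] at hw'w; exact zero_ne_one hw'w
  obtain ⟨ξ, hξ⟩ := exists_dual hw0
  have hT : ∀ v, (ξ ⬝ᵥ (Y : Matrix (Al k) (Al k) F) *ᵥ w) • ((T : Mb) *ᵥ v) = v := fun v => by
    have := hrad.act_a v
    rw [hYT, kg_apply] at this
    have h' := congrArg (lslice ξ) this
    rwa [lslice_tmul, lslice_tmul, hξ, one_smul] at h'
  obtain ⟨m, hm⟩ : ∃ m, m = ξ ⬝ᵥ (Y : Matrix (Al k) (Al k) F) *ᵥ w := ⟨_, rfl⟩
  rw [← hm] at hT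
  have hm0 : m ≠ 0 := fun h0 => by
    have := congrFun (hT (Pi.single ⟨0, by omega⟩ 1)) ⟨0, by omega⟩
    rw [h0, zero_smul] at this
    simp at this
  have hT' : ∀ v, (T : Mb) *ᵥ v = m⁻¹ • v := fun v => by conv_rhs => rw [← hT v, inv_smul_smul₀ hm0]
  let σ : (Al r → F) → F := fun x =>
    -(ξ ⬝ᵥ (m⁻¹ • ((Y : Matrix (Al k) (Al k) F) *ᵥ jn e (x, 0)) - jn e (x, 0)) + sympForm r F x a₁)
  refine ⟨Sum.elim (fun i => -σ (Pi.single (Sum.inr i) 1)) fun i => σ (Pi.single (Sum.inl i) 1),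
    fun u => eq_tmul_of_cp σ fun x => ?_⟩
  refine sub_eq_zero.1 (hD.dB_nd fun v => ?_)
  have hxw : ω (jn e (x, (0 : Al r' → F))) w = 0 := by
    rw [hw, sympForm_jn, sympForm_zero_right, sympForm_zero_left, add_zero]
  have hxa : ω (jn e (x, (0 : Al r' → F))) a = sympForm r F x a₁ := by
    rw [ha, sympForm_jn, sympForm_self, add_zero]
  have h2 := hrad.act (tmul (jn e (x, 0)) v) (by rw [cp_tmul, hxw, zero_smul])
  rw [hYT, kg_apply, hT', tmul_smul_right, ← tmul_smul_left, hΦ', cp_tmul, hxa] at h2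
  have h3 := congrArg (lslice ξ) h2
  rw [map_add, lslice_tmul, lslice_tmul, lslice_tmul, hξ, one_smul] at h3
  have h4 : cp a (((g⁻¹ : GL (Al k × Fin b) F) : Matrix (Al k × Fin b) (Al k × Fin b) F) *ᵥ
      tmul (jn e (x, 0)) v) = (-σ x) • v := by
    simp only [σ, neg_neg, dotProduct_sub]
    rw [add_smul, sub_smul, h3]
    abel
  rw [dB_sub_left, dB_smul_left, ← W_tmul_right, sub_eq_zero]
  have h5 : W D (tmul (jn e (x, 0)) v) ((g : Matrix (Al k × Fin b) (Al k × Fin b) F) *ᵥ tmul a u) =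
      -σ x * dB D v u := by
    conv_lhs => rw [← mulVec_inv_cancel g (tmul (jn e (x, 0)) v)]
    rw [hM.iso hg, W_tmul_right, h4, dB_smul_left]
  rw [ha] at h5
  simp only [tmul_jn, tmul_zero_left] at h5
  rw [h, Units.val_one, Matrix.one_mulVec, W_join, W_zero_left, add_zero, W_swap hD, hD.dB_comm v u] at h5
  linear_combination -h5

/-- Lines of `A` sent to lines with the same second map give product shape. -/
theorem kron_of_lines {n : ℕ} (hb : 0 < b) {g : GL (Al n × Fin b) F}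
    (h : ∀ a : Al n → F, a ≠ 0 → ∃ (p : Al n → F) (A : (Fin b → F) → (Fin b → F)), p ≠ 0 ∧
      ∀ u, (g : Matrix (Al n × Fin b) (Al n × Fin b) F) *ᵥ tmul a u = tmul p (A u)) (hn : 0 < n) :
    IsKron g := by
  classical
  set G := (g : Matrix (Al n × Fin b) (Al n × Fin b) F)
  obtain ⟨a₀, ha₀⟩ : ∃ a : Al n → F, a ≠ 0 := ⟨Pi.single (Sum.inl ⟨0, hn⟩) 1, by simp⟩
  obtain ⟨u₀, hu₀⟩ : ∃ u : Fin b → F, u ≠ 0 := ⟨Pi.single ⟨0, hb⟩ 1, by simp⟩
  obtain ⟨p₀, A₀, hp₀, hA₀⟩ := h a₀ ha₀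
  obtain ⟨η, hη⟩ := exists_dual hp₀
  let T : (Fin b → F) →ₗ[F] (Fin b → F) :=
    (lslice η).comp ((Matrix.toLin' G).comp
      (facR a₀))
  have hTA : ∀ u, T u = A₀ u := fun u => by
    show lslice η (Matrix.toLin' G (tmul a₀ u)) = A₀ u
    rw [Matrix.toLin'_apply, hA₀, lslice_tmul, hη, one_smul]
  have hg0 : ∀ u, G *ᵥ tmul a₀ u = tmul p₀ (T u) := fun u => by rw [hA₀, hTA]
  have hTi : Function.Injective T := fun u v huv => by
    have := gl_mulVec_injective g ((hg0 u).trans ((congrArg (tmul p₀) huv).trans (hg0 v).symm))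
    obtain ⟨ζ, hζ⟩ := exists_dual ha₀
    have h' := congrArg (lslice ζ) this
    rwa [lslice_tmul, lslice_tmul, hζ, one_smul, one_smul] at h'
  have hT0 : T u₀ ≠ 0 := fun h0 => hu₀ (hTi (h0.trans T.map_zero.symm))
  obtain ⟨ψ, hψ⟩ := exists_dual hT0
  let L : (Al n → F) →ₗ[F] (Al n → F) := (slice ψ).comp ((Matrix.toLin' G).comp (fac u₀))
  have hL : ∀ x u, G *ᵥ tmul x u = tmul (L x) (T u) := by
    have hscal : ∀ x, ∃ q : Al n → F, ∀ u, G *ᵥ tmul x u = tmul q (T u) := by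
      intro x
      rcases eq_or_ne x 0 with rfl | hx
      · exact ⟨0, fun u => by rw [tmul_zero_left, tmul_zero_left, Matrix.mulVec_zero]⟩
      obtain ⟨px, Ax, hpx, hAx⟩ := h x hx
      by_cases hdep : ∃ c : F, x = c • a₀
      · obtain ⟨c, rfl⟩ := hdep
        exact ⟨c • p₀, fun u => by rw [tmul_smul_left, Matrix.mulVec_smul, hg0, tmul_smul_left]⟩
      push Not at hdep
      have hxa : x + a₀ ≠ 0 := fun h0 => hdep (-1) (by rw [neg_one_smul]; exact eq_neg_of_add_eq_zero_left h0)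
      obtain ⟨q, B, hq, hB⟩ := h (x + a₀) hxa
      have hsum : ∀ u, tmul px (Ax u) + tmul p₀ (T u) = tmul q (B u) := fun u => by
        rw [← hAx, ← hg0, ← Matrix.mulVec_add, ← tmul_add_left, hB]
      by_cases hpd : ∃ c : F, px = c • p₀
      · obtain ⟨c, rfl⟩ := hpd
        exfalso
        obtain ⟨w, hw⟩ := LinearMap.surjective_of_injective hTi (c • Ax u₀)
        have e1 : G *ᵥ tmul x u₀ = G *ᵥ tmul a₀ w := by
          rw [hAx, hg0, hw, tmul_smul_left, tmul_smul_right]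
        obtain ⟨ψ', hψ'⟩ := exists_dual hu₀
        have e2 := congrArg (slice ψ') (gl_mulVec_injective g e1)
        rw [slice_tmul, slice_tmul, hψ', one_smul] at e2
        exact hdep _ e2
      push Not at hpd
      obtain ⟨ζ, hζ⟩ := exists_dual (z := px - (η ⬝ᵥ px) • p₀) (sub_ne_zero.2 (hpd _))
      have k0 : (η - (η ⬝ᵥ (px - (η ⬝ᵥ px) • p₀)) • ζ) ⬝ᵥ px = η ⬝ᵥ px - (η ⬝ᵥ (px - (η ⬝ᵥ px) • p₀)) *
          (ζ ⬝ᵥ px) := by rw [sub_dotProduct, smul_dotProduct, smul_eq_mul]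
      have hz : η ⬝ᵥ (px - (η ⬝ᵥ px) • p₀) = 0 := by
        rw [dotProduct_sub, dotProduct_smul, hη, smul_eq_mul, mul_one, sub_self]
      obtain ⟨ζ', hζ'⟩ : ∃ ζ', ζ' = ζ - (ζ ⬝ᵥ p₀) • η := ⟨_, rfl⟩
      have z0 : ζ' ⬝ᵥ p₀ = 0 := by rw [hζ', sub_dotProduct, smul_dotProduct, hη, smul_eq_mul, mul_one, sub_self]
      have z1 : ζ' ⬝ᵥ px = 1 := by
        rw [hζ', sub_dotProduct, smul_dotProduct, smul_eq_mul]
        rw [dotProduct_sub, dotProduct_smul, smul_eq_mul] at hζ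
        linear_combination hζ
      obtain ⟨η', hη'⟩ : ∃ η', η' = η - (η ⬝ᵥ px) • ζ' := ⟨_, rfl⟩
      have y0 : η' ⬝ᵥ p₀ = 1 := by rw [hη', sub_dotProduct, smul_dotProduct, z0, hη, smul_zero, sub_zero]
      have y1 : η' ⬝ᵥ px = 0 := by
        rw [hη', sub_dotProduct, smul_dotProduct, z1, smul_eq_mul, mul_one, sub_self]
      have e1 : ∀ u, Ax u = (ζ' ⬝ᵥ q) • B u := fun u => by
        have := congrArg (lslice ζ') (hsum u)
        rwa [map_add, lslice_tmul, lslice_tmul, lslice_tmul, z0, z1, one_smul, zero_smul, add_zero] at this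
      have e2 : ∀ u, T u = (η' ⬝ᵥ q) • B u := fun u => by
        have := congrArg (lslice η') (hsum u)
        rwa [map_add, lslice_tmul, lslice_tmul, lslice_tmul, y0, y1, one_smul, zero_smul, zero_add] at this
      have hc : η' ⬝ᵥ q ≠ 0 := fun h0 => hT0 (by rw [e2, h0, zero_smul])
      refine ⟨((ζ' ⬝ᵥ q) / (η' ⬝ᵥ q)) • px, fun u => ?_⟩
      rw [hAx, e1, e2, tmul_smul_left, tmul_smul_right, tmul_smul_right, smul_smul, div_mul_cancel₀ _ hc]
    intro x u
    obtain ⟨q, hq⟩ := hscal x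
    have : L x = q := by
      show slice ψ (Matrix.toLin' G (tmul x u₀)) = q
      rw [Matrix.toLin'_apply, hq, slice_tmul, hψ, one_smul]
    rw [this, hq]
  obtain ⟨y, hy⟩ := exists_gl_of_injective L ((injective_iff_map_eq_zero L).2 fun x hx =>
    fac_injective hu₀ ((gl_mulVec_injective g (show G *ᵥ tmul x u₀ = G *ᵥ 0 by
      rw [hL, hx, tmul_zero_left, Matrix.mulVec_zero])).trans (fac (α := Al n) u₀).map_zero.symm))
  obtain ⟨B, hB⟩ := exists_gl_of_injective T hTi
  exact isKron_of_apply y B fun x u => by rw [hy, hB, hL]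

/-- Elements trivial on a part come from the first factor alone. -/
theorem trivial_part (hD : Gram D) (hb : 3 ≤ b) (hr : 0 < r) (hr' : 0 < r') (e : Fin r ⊕ Fin r' ≃ Fin k)
    (hM : Ovr D M) (hS : ∀ a c : Al k → F, ω c a = 1 → RootScal M a c) {g : GL (Al k × Fin b) F} (hg : g ∈ M)
    {g₁ : GL (Al r × Fin b) F} (h : Blk e g g₁ 1) : ∃ Y : GL (Al r) F, g₁ = kg Y 1 := by
  choose p hp using blk_root hD hb hr' e hM hS hg h
  obtain ⟨u₀, hu₀⟩ : ∃ u : Fin b → F, u ≠ 0 := ⟨Pi.single ⟨0, by omega⟩ 1, by simp⟩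
  obtain ⟨ψ, hψ⟩ := exists_dual hu₀
  let L : (Al r → F) →ₗ[F] (Al r → F) :=
    (slice ψ).comp ((Matrix.toLin' (g₁ : Matrix (Al r × Fin b) (Al r × Fin b) F)).comp (fac u₀))
  have hL : ∀ x, L x = p x := fun x => by
    show slice ψ (Matrix.toLin' (g₁ : Matrix (Al r × Fin b) (Al r × Fin b) F) (tmul x u₀)) = p x
    rw [Matrix.toLin'_apply, hp, slice_tmul, hψ, one_smul]
  obtain ⟨Y, hY⟩ := exists_gl_of_injective L ((injective_iff_map_eq_zero L).2 fun x hx => by
    rw [hL] at hx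
    have h0 := hp x u₀
    rw [hx, tmul_zero_left, ← Matrix.mulVec_zero (g₁ : Matrix (Al r × Fin b) (Al r × Fin b) F)] at h0
    exact fac_injective hu₀ ((gl_mulVec_injective g₁ h0).trans (fac (α := Al r) u₀).map_zero.symm))
  exact ⟨Y, ext_gl fun x v => by rw [hp, kg_apply, hY, hL, Units.val_one, Matrix.one_mulVec]⟩

/-- A part of an element respecting a splitting is of product shape. -/
theorem part_kron (hD : Gram D) (hb : 3 ≤ b) (hr : 0 < r) (hr' : 0 < r') (e : Fin r ⊕ Fin r' ≃ Fin k)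
    (hM : Ovr D M) (hS : ∀ a c : Al k → F, ω c a = 1 → RootScal M a c) {g : GL (Al k × Fin b) F} (hg : g ∈ M)
    {g₁ : GL (Al r × Fin b) F} {g₂ : GL (Al r' × Fin b) F} (h : Blk e g g₁ g₂) : IsKron g₁ := by
  refine kron_of_lines (by omega) (fun a₁ ha₁ => ?_) hr
  obtain ⟨c₀, hc₀⟩ := exists_sympForm_eq_one ha₁
  obtain ⟨y₁, hy₁, hy₁x⟩ := exists_tv (k := r) a₁ (1 : F)
  simp only [one_mul] at hy₁x
  obtain ⟨z, hz⟩ := exists_sum e y₁ (1 : GL (Al r') F)
  have hzM : kg z (1 : GL (Fin b) F) ∈ M := hM.kg_left fun x x' => by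
    obtain ⟨⟨x₁, x₂⟩, rfl⟩ := (jn e).surjective x
    obtain ⟨⟨x₁', x₂'⟩, rfl⟩ := (jn e).surjective x'
    rw [hz, hz, sympForm_jn, sympForm_jn, hy₁, Units.val_one, Matrix.one_mulVec, Matrix.one_mulVec]
  have hb1 := blk_kg e (1 : GL (Fin b) F) hz
  rw [kg_one] at hb1
  have hd := (h.mul e hb1).mul e (h.inv e)
  rw [mul_one, mul_inv_cancel] at hd
  obtain ⟨Y, hY⟩ := trivial_part hD hb hr hr' e hM hS (mul_mem (mul_mem hg hzM) (inv_mem hg)) hd
  obtain ⟨G, hG⟩ : ∃ G, G = (g₁ : Matrix (Al r × Fin b) (Al r × Fin b) F) := ⟨_, rfl⟩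
  have ht : ∀ x v, (kg y₁ (1 : GL (Fin b) F) : Matrix (Al r × Fin b) (Al r × Fin b) F) *ᵥ tmul x v =
      tmul x v + sympForm r F x a₁ • tmul a₁ v := fun x v => by
    rw [kg_apply, hy₁x, Units.val_one, Matrix.one_mulVec, tmul_add_left, tmul_smul_left]
  -- the range of `Y - 1` is a line
  have hrel : ∀ t, (kg Y (1 : GL (Fin b) F) : Matrix (Al r × Fin b) (Al r × Fin b) F) *ᵥ (G *ᵥ t) =
      G *ᵥ ((kg y₁ (1 : GL (Fin b) F) : Matrix (Al r × Fin b) (Al r × Fin b) F) *ᵥ t) := fun t => by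
    have e1 : kg Y (1 : GL (Fin b) F) * g₁ = g₁ * kg y₁ 1 := by rw [← hY, inv_mul_cancel_right]
    rw [hG, Matrix.mulVec_mulVec, ← Units.val_mul, e1, Units.val_mul, ← Matrix.mulVec_mulVec]
  have hc : sympForm r F (-c₀) a₁ = 1 := by
    rw [← neg_one_smul F c₀, sympForm_smul_left, sympForm_swap, hc₀]; ring
  obtain ⟨N, hN⟩ : ∃ N, N = Matrix.toLin' (Y : Matrix (Al r) (Al r) F) - LinearMap.id := ⟨_, rfl⟩
  have himg : ∀ u, ∃ t, G *ᵥ tmul a₁ u =
      (kg Y (1 : GL (Fin b) F) : Matrix (Al r × Fin b) (Al r × Fin b) F) *ᵥ t - t := fun u =>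
    ⟨G *ᵥ tmul (-c₀) u, by rw [hrel, ht, hc, one_smul, Matrix.mulVec_add, add_sub_cancel_left]⟩
  have hNt : ∀ x v, (kg Y (1 : GL (Fin b) F) : Matrix (Al r × Fin b) (Al r × Fin b) F) *ᵥ tmul x v - tmul x v =
      tmul (N x) v := fun x v => by
    rw [kg_apply, Units.val_one, Matrix.one_mulVec, hN, ← tmul_sub_left]; rfl
  let J : (Fin b → F) →ₗ[F] (Al r × Fin b → F) := (Matrix.toLin' G).comp
    (facR a₁)
  have hrange : ∀ t, (kg Y (1 : GL (Fin b) F) : Matrix (Al r × Fin b) (Al r × Fin b) F) *ᵥ t - t ∈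
      LinearMap.range J := fun t => by
    obtain ⟨t', rfl⟩ : ∃ t', G *ᵥ t' = t := ⟨_, by rw [hG]; exact mulVec_inv_cancel g₁ t⟩
    refine ⟨cp a₁ t', ?_⟩
    have hk : (Matrix.toLin' (kg y₁ (1 : GL (Fin b) F) : Matrix (Al r × Fin b) (Al r × Fin b) F)) =
        LinearMap.id + (facR a₁).comp (cp a₁) := ext_pure fun x v => by
      rw [Matrix.toLin'_apply, ht]
      show _ = tmul x v + tmul a₁ (cp a₁ (tmul x v))
      rw [cp_tmul, tmul_smul_right]
    have := LinearMap.congr_fun hk t'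
    rw [Matrix.toLin'_apply] at this
    rw [hrel, this]
    show Matrix.toLin' G (tmul a₁ (cp a₁ t')) = G *ᵥ (t' + tmul a₁ (cp a₁ t')) - G *ᵥ t'
    rw [Matrix.toLin'_apply, Matrix.mulVec_add, add_sub_cancel_left]
  obtain ⟨x₀, hx₀⟩ : ∃ x, N x ≠ 0 := by
    by_contra hcN
    push Not at hcN
    obtain ⟨u₀, hu₀⟩ : ∃ u : Fin b → F, u ≠ 0 := ⟨Pi.single ⟨0, by omega⟩ 1, by simp⟩
    obtain ⟨t, ht'⟩ := himg u₀
    have h0 : (kg Y (1 : GL (Fin b) F) : Matrix (Al r × Fin b) (Al r × Fin b) F) *ᵥ t - t = 0 := by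
      rw [sum_tmul_basis t, Matrix.mulVec_sum, ← Finset.sum_sub_distrib]
      refine Finset.sum_eq_zero fun q _ => ?_
      rw [Matrix.mulVec_smul, ← smul_sub, hNt, hcN, tmul_zero_left, smul_zero]
    refine tmul_ne_zero ha₁ hu₀ (gl_mulVec_injective g₁ ?_)
    show (g₁ : Matrix (Al r × Fin b) (Al r × Fin b) F) *ᵥ _ = (g₁ : Matrix (Al r × Fin b) (Al r × Fin b) F) *ᵥ _
    rw [← hG, ht', h0, Matrix.mulVec_zero]
  have hline : ∀ x, ∃ c : F, N x = c • N x₀ := fun x => by
    by_contra hcN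
    push Not at hcN
    let K : ((Fin b → F) × (Fin b → F)) →ₗ[F] (Al r × Fin b → F) :=
      { toFun := fun p => tmul (N x₀) p.1 + tmul (N x) p.2
        map_add' := fun p p' => by simp only [Prod.fst_add, Prod.snd_add, tmul_add_right]; abel
        map_smul' := fun c p => by
          simp only [Prod.smul_fst, Prod.smul_snd, tmul_smul_right, smul_add, RingHom.id_apply] }
    have hKi : Function.Injective K := by
      rw [injective_iff_map_eq_zero]
      rintro ⟨u, v⟩ huv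
      have huv' : tmul (N x₀) u + tmul (N x) v = 0 := huv
      have hs : ∀ φ : Fin b → F, (φ ⬝ᵥ u) • N x₀ + (φ ⬝ᵥ v) • N x = 0 := fun φ => by
        have := congrArg (slice φ) huv'
        rwa [map_add, slice_tmul, slice_tmul, map_zero] at this
      have hli : LinearIndependent F ![N x₀, N x] :=
        (LinearIndependent.pair_iff' hx₀).2 fun c hc => hcN c hc.symm
      refine Prod.ext (funext fun j => ?_) (funext fun j => ?_)
      · have := (LinearIndependent.pair_iff.1 hli _ _ (hs (Pi.single j 1))).1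
        rwa [single_dotProduct, one_mul] at this
      · have := (LinearIndependent.pair_iff.1 hli _ _ (hs (Pi.single j 1))).2
        rwa [single_dotProduct, one_mul] at this
    have hle : LinearMap.range K ≤ LinearMap.range J := by
      rintro _ ⟨⟨u, v⟩, rfl⟩
      show tmul (N x₀) u + tmul (N x) v ∈ _
      rw [← hNt, ← hNt]
      exact add_mem (hrange _) (hrange _)
    have := (Submodule.finrank_mono hle).trans (LinearMap.finrank_range_le J)
    rw [LinearMap.finrank_range_of_inj hKi, finrank_prod, finrank_fin_fun] at this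
    omega
  have hall : ∀ u, ∃ u', G *ᵥ tmul a₁ u = tmul (N x₀) u' := fun u => by
    obtain ⟨t, ht'⟩ := himg u
    choose c hc' using hline
    refine ⟨∑ q, (t q * c (Pi.single q.1 1)) • Pi.single q.2 1, ?_⟩
    conv_lhs => rw [ht', sum_tmul_basis t, Matrix.mulVec_sum, ← Finset.sum_sub_distrib]
    rw [show tmul (N x₀) (∑ q, (t q * c (Pi.single q.1 1)) • Pi.single q.2 1) =
      ∑ q, tmul (N x₀) ((t q * c (Pi.single q.1 1)) • Pi.single q.2 1) from
      map_sum (facR (N x₀)) _ _]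
    refine Finset.sum_congr rfl fun q _ => ?_
    rw [Matrix.mulVec_smul, ← smul_sub, hNt, hc', tmul_smul_left, tmul_smul_right, smul_smul]
  choose A hA using hall
  exact ⟨N x₀, A, hx₀, fun u => by rw [← hG, hA]⟩

/-- Elements respecting a splitting are of product shape. -/
theorem split_kron (hD : Gram D) (hb : 3 ≤ b) (hr : 0 < r) (hr' : 0 < r') (e : Fin r ⊕ Fin r' ≃ Fin k)
    (hM : Ovr D M) (hS : ∀ a c : Al k → F, ω c a = 1 → RootScal M a c) {g : GL (Al k × Fin b) F} (hg : g ∈ M)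
    {g₁ : GL (Al r × Fin b) F} {g₂ : GL (Al r' × Fin b) F} (h : Blk e g g₁ g₂) : IsKron g := by
  obtain ⟨y₁, T₁, rfl⟩ := exists_kg_of_isKron (part_kron hD hb hr hr' e hM hS hg h)
  obtain ⟨μ, ν, hμν, hy₁, hT₁⟩ := kg_sim hD hr (by omega) (h.mem_left e (hM.le hg))
  obtain ⟨yμ, hyμ⟩ := exists_similitude (k := r') (left_ne_zero_of_mul_eq_one hμν)
  obtain ⟨z, hz⟩ := exists_sum e y₁ yμ
  have hzM : kg z T₁ ∈ M := hM.mem _ (kg_mem z T₁ μ ν (fun x x' => by
    obtain ⟨⟨x₁, x₂⟩, rfl⟩ := (jn e).surjective x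
    obtain ⟨⟨x₁', x₂'⟩, rfl⟩ := (jn e).surjective x'
    rw [hz, hz, sympForm_jn, sympForm_jn, hy₁, hyμ]; ring) hT₁ hμν) (kg_isKron _ _)
  have hblk := ((blk_kg e T₁ hz).inv e).mul e h
  rw [inv_mul_cancel] at hblk
  obtain ⟨Y, hY⟩ := trivial_part hD hb hr' hr (swapE e) hM hS (mul_mem (inv_mem hzM) hg) hblk.swap
  obtain ⟨w, hw⟩ := exists_sum e (1 : GL (Al r) F) Y
  have hb2 := blk_kg e (1 : GL (Fin b) F) hw
  rw [kg_one] at hb2
  have e3 : (kg z T₁)⁻¹ * g = kg w 1 := Blk.unique e (hY ▸ hblk) hb2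
  have := TensorMax.IsKron.mul (kg_isKron z T₁) (kg_isKron w (1 : GL (Fin b) F))
  rwa [← e3, mul_inv_cancel_left] at this

end Cfsg.Agent.Classical.TensorRoot
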