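import Cfsg.Agent.Lib.Classical.MaxTensorRootSplit

/-!
In a proper overgroup of `Sp(A) ⊗ GO(U)`, centralisers of plane involutions and stabilisers of `a ⊗ U` are of
product shape.
-/

set_option autoImplicit false
set_option linter.unusedSectionVars false

namespace Cfsg.Agent.Classical.TensorRoot

open Matrix Module MaxTv TensorMax
open scoped Kronecker

variable {F : Type*} [Field F] [Fintype F] {k k₀ b : ℕ} {D : Matrix (Fin b) (Fin b) F}
  {M : Subgroup (GL (Al k × Fin b) F)}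

local notation "ω" => sympForm k F
local notation "Ma" => Matrix (Al k) (Al k) F
local notation "Mn" => Matrix (Al k × Fin b) (Al k × Fin b) F

/-- The involution inverting the plane of a hyperbolic pair. -/
theorem exists_plane {a c : Al k → F} (hca : ω c a = 1) : ∃ y : GL (Al k) F,
    (∀ x x', ω ((y : Ma) *ᵥ x) ((y : Ma) *ᵥ x') = ω x x') ∧
    ∀ x, (y : Ma) *ᵥ x = x - (2 : F) • (ω x a • c - ω x c • a) := by
  let L : (Al k → F) →ₗ[F] (Al k → F) :=
    { toFun := fun x => x - (2 : F) • (ω x a • c - ω x c • a)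
      map_add' := fun x x' => by simp only [sympForm_add_left]; module
      map_smul' := fun r x => by simp only [sympForm_smul_left, RingHom.id_apply]; module }
  have hac : ω a c = -1 := by rw [sympForm_swap, hca]
  have hiso : ∀ x x', ω (L x) (L x') = ω x x' := fun x x' => by
    show ω (x - (2 : F) • (ω x a • c - ω x c • a)) (x' - (2 : F) • (ω x' a • c - ω x' c • a)) = _
    simp only [sympForm_sub_left, sympForm_sub_right, sympForm_smul_left, sympForm_smul_right, sympForm_self,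
      hca, hac, sympForm_swap a x', sympForm_swap c x']
    ring
  obtain ⟨y, hy⟩ := exists_gl_of_injective L fun x x' hxx => sub_eq_zero.1 (sesq_sympForm.eq_zero _ fun z => by
    have h0 : ω (L (x - x')) (L z) = 0 := by rw [map_sub, hxx, sub_self, sesq_sympForm.zero_left]
    rw [hiso] at h0
    exact sesq_sympForm.refl _ _ h0)
  exact ⟨y, fun x x' => by rw [hy, hy, hiso], hy⟩

/-- Standing assumptions: a proper overgroup, the symplectic factor splitting as a plane and the rest. -/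
structure Step (D : Matrix (Fin b) (Fin b) F) (M : Subgroup (GL (Al k × Fin b) F)) (k₀ : ℕ) : Prop where
  gram : Gram D
  hb : 3 ≤ b
  hk₀ : 0 < k₀
  keq : 1 + k₀ = k
  ovr : Ovr D M
  nf : ¬ SpT k D ≤ M
  big : Big F b

/-- The splitting into a plane and the rest. -/
def Step.e (h : Step D M k₀) : Fin 1 ⊕ Fin k₀ ≃ Fin k := finSumFinEquiv.trans (finCongr h.keq)

variable (hS : Step D M k₀)
include hS

theorem Step.rootScal {a c : Al k → F} (hca : ω c a = 1) : RootScal M a c :=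
  TensorRoot.rootScal hS.gram hS.hb hS.big hS.e hS.ovr hS.nf hca

/-- Elements commuting with a plane involution are of product shape. -/
theorem Step.com_kron {a c : Al k → F} (hca : ω c a = 1) {ys : GL (Al k) F}
    (hys : ∀ x, (ys : Ma) *ᵥ x = x - (2 : F) • (ω x a • c - ω x c • a)) {g : GL (Al k × Fin b) F} (hg : g ∈ M)
    (hcomm : g * kg ys 1 = kg ys 1 * g) : IsKron g := by
  classical
  set e := hS.e
  set a₁ : Al 1 → F := Pi.single (Sum.inl 0) 1 with ha₁
  set c₁ : Al 1 → F := Pi.single (Sum.inr 0) 1 with hc₁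
  have hca₁ : sympForm 1 F c₁ a₁ = 1 := sympForm_single_pair 0
  obtain ⟨y, hy, hya, hyc⟩ := exists_pair_map (k := k) (a := jn e (a₁, 0)) (c := jn e (c₁, (0 : Al k₀ → F)))
    (a' := a) (c' := c) (by rw [sympForm_jn, hca₁, sympForm_self, add_zero]) hca
  have hex : ∀ x₁ : Al 1 → F, sympForm 1 F x₁ a₁ • c₁ - sympForm 1 F x₁ c₁ • a₁ = x₁ := fun x₁ => by
    funext i
    rw [ha₁, hc₁, sympForm_single_inl, sympForm_single_inr]
    rcases i with i | i <;> fin_cases i <;> simp
  have hs : ∀ x₁ x₂, (ys : Ma) *ᵥ ((y : Ma) *ᵥ jn e (x₁, x₂)) = (y : Ma) *ᵥ jn e (-x₁, x₂) := fun x₁ x₂ => by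
    rw [hys]
    conv_lhs => rw [← hya, ← hyc, hy, hy, sympForm_jn, sympForm_jn, sympForm_zero_right, add_zero,
      add_zero, ← Matrix.mulVec_smul, ← Matrix.mulVec_smul, ← Matrix.mulVec_sub,
      ← Matrix.mulVec_smul, ← Matrix.mulVec_sub]
    congr 1
    rw [← map_smul, ← map_smul, ← map_sub, ← map_smul, ← map_sub]
    congr 1
    refine Prod.ext ?_ ?_
    · show x₁ - (2 : F) • (sympForm 1 F x₁ a₁ • c₁ - sympForm 1 F x₁ c₁ • a₁) = -x₁
      rw [hex]; module
    · simp
  have hh : kg y (1 : GL (Fin b) F) ∈ M := hS.ovr.kg_left hy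
  obtain ⟨g₀, hg₀⟩ : ∃ g₀, g₀ = (kg y 1)⁻¹ * g * kg y 1 := ⟨_, rfl⟩
  obtain ⟨s₀, hs₀⟩ : ∃ s₀, s₀ = (kg y (1 : GL (Fin b) F))⁻¹ * kg ys 1 * kg y 1 := ⟨_, rfl⟩
  have hg₀M : g₀ ∈ M := hg₀ ▸ mul_mem (mul_mem (inv_mem hh) hg) hh
  have hc₀ : g₀ * s₀ = s₀ * g₀ := by
    rw [hg₀, hs₀]
    calc (kg y 1)⁻¹ * g * kg y 1 * ((kg y 1)⁻¹ * kg ys 1 * kg y 1) = (kg y 1)⁻¹ * (g * kg ys 1) * kg y 1 := by
          group
      _ = (kg y 1)⁻¹ * kg ys 1 * kg y 1 * ((kg y 1)⁻¹ * g * kg y 1) := by rw [hcomm]; group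
  have hsb : ∀ x x', (s₀ : Mn) *ᵥ join e (x, x') = join e (-x, x') := by
    have e1 : Matrix.toLin' (s₀ : Mn) ∘ₗ (join e).toLinearMap = (join e).toLinearMap ∘ₗ
        ((-LinearMap.id (R := F) (M := Al 1 × Fin b → F)).prodMap LinearMap.id) := by
      refine LinearMap.prod_ext (ext_pure fun z v => ?_) (ext_pure fun z v => ?_)
      · show Matrix.toLin' (s₀ : Mn) (join e (tmul z v, 0)) = join e (-tmul z v, (0 : Al k₀ × Fin b → F))
        rw [Matrix.toLin'_apply, hs₀, Units.val_mul, Units.val_mul, ← Matrix.mulVec_mulVec, ← Matrix.mulVec_mulVec,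
          show (0 : Al k₀ × Fin b → F) = tmul (0 : Al k₀ → F) v from (tmul_zero_left v).symm, ← tmul_jn, kg_apply,
          kg_apply, hs, Units.val_one, Matrix.one_mulVec, Matrix.one_mulVec,
          show -tmul z v = tmul (-z) v from ((fac v).map_neg z).symm, ← tmul_jn]
        refine gl_mulVec_injective (kg y 1) ?_
        show (kg y (1 : GL (Fin b) F) : Mn) *ᵥ _ = (kg y (1 : GL (Fin b) F) : Mn) *ᵥ _
        rw [mulVec_inv_cancel, kg_apply, Units.val_one, Matrix.one_mulVec]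
      · show Matrix.toLin' (s₀ : Mn) (join e (0, tmul z v)) = join e (-(0 : Al 1 × Fin b → F), tmul z v)
        rw [Matrix.toLin'_apply, hs₀, Units.val_mul, Units.val_mul, ← Matrix.mulVec_mulVec, ← Matrix.mulVec_mulVec,
          neg_zero, show (0 : Al 1 × Fin b → F) = tmul (0 : Al 1 → F) v from (tmul_zero_left v).symm, ← tmul_jn,
          kg_apply, kg_apply, hs, neg_zero, Units.val_one, Matrix.one_mulVec, Matrix.one_mulVec]
        refine gl_mulVec_injective (kg y 1) ?_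
        show (kg y (1 : GL (Fin b) F) : Mn) *ᵥ _ = (kg y (1 : GL (Fin b) F) : Mn) *ᵥ _
        rw [mulVec_inv_cancel, kg_apply, Units.val_one, Matrix.one_mulVec]
    intro x x'
    simpa [Matrix.toLin'_apply] using LinearMap.congr_fun e1 (x, x')
  have heig : ∀ t : Al k × Fin b → F, ((s₀ : Mn) *ᵥ t = -t → ∃ x, t = join e (x, 0)) ∧
      ((s₀ : Mn) *ᵥ t = t → ∃ x', t = join e (0, x')) := by
    intro t
    obtain ⟨⟨x, x'⟩, rfl⟩ := (join e).surjective t
    rw [hsb]
    constructor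
    · intro h
      rw [← map_neg, (join e).injective.eq_iff, Prod.neg_mk, Prod.ext_iff] at h
      obtain ⟨-, h'⟩ := h
      simp only at h'
      have h2 : (2 : F) • x' = 0 := by rw [two_smul]; nth_rw 1 [h']; exact neg_add_cancel x'
      exact ⟨x, by rw [(smul_eq_zero.1 h2).resolve_left hS.gram.two]⟩
    · intro h
      rw [(join e).injective.eq_iff, Prod.ext_iff] at h
      obtain ⟨h', -⟩ := h
      simp only at h'
      have h2 : (2 : F) • x = 0 := by rw [two_smul]; nth_rw 1 [← h']; exact neg_add_cancel x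
      exact ⟨x', by rw [(smul_eq_zero.1 h2).resolve_left hS.gram.two]⟩
  have hc₀' : ∀ t, (s₀ : Mn) *ᵥ ((g₀ : Mn) *ᵥ t) = (g₀ : Mn) *ᵥ ((s₀ : Mn) *ᵥ t) := fun t => by
    rw [Matrix.mulVec_mulVec, ← Units.val_mul, ← hc₀, Units.val_mul, ← Matrix.mulVec_mulVec]
  have h1 : ∀ x, ∃ z, (g₀ : Mn) *ᵥ join e (x, (0 : Al k₀ × Fin b → F)) = join e (z, 0) := fun x =>
    (heig _).1 (by rw [hc₀', hsb, ← Matrix.mulVec_neg, ← map_neg]; simp)
  have h2 : ∀ x', ∃ z', (g₀ : Mn) *ᵥ join e ((0 : Al 1 × Fin b → F), x') = join e (0, z') := fun x' =>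
    (heig _).2 (by rw [hc₀', hsb, neg_zero])
  let L₁ : (Al 1 × Fin b → F) →ₗ[F] (Al 1 × Fin b → F) := LinearMap.fst F _ _ ∘ₗ (join e).symm.toLinearMap ∘ₗ
    Matrix.toLin' (g₀ : Mn) ∘ₗ (join e).toLinearMap ∘ₗ LinearMap.inl F _ _
  let L₂ : (Al k₀ × Fin b → F) →ₗ[F] (Al k₀ × Fin b → F) := LinearMap.snd F _ _ ∘ₗ (join e).symm.toLinearMap ∘ₗ
    Matrix.toLin' (g₀ : Mn) ∘ₗ (join e).toLinearMap ∘ₗ LinearMap.inr F _ _
  have hL₁ : ∀ x, (g₀ : Mn) *ᵥ join e (x, 0) = join e (L₁ x, 0) := fun x => by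
    obtain ⟨z, hz⟩ := h1 x
    have hLx : L₁ x = ((join e).symm ((g₀ : Mn) *ᵥ join e (x, 0))).1 := rfl
    rw [hLx, hz, LinearEquiv.symm_apply_apply]
  have hL₂ : ∀ x', (g₀ : Mn) *ᵥ join e (0, x') = join e (0, L₂ x') := fun x' => by
    obtain ⟨z, hz⟩ := h2 x'
    have hLx : L₂ x' = ((join e).symm ((g₀ : Mn) *ᵥ join e (0, x'))).2 := rfl
    rw [hLx, hz, LinearEquiv.symm_apply_apply]
  obtain ⟨g₁, hg₁⟩ := exists_gl_of_injective L₁ fun x x' h => by
    have := gl_mulVec_injective g₀ (((hL₁ x).trans (by rw [h])).trans (hL₁ x').symm)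
    exact congrArg Prod.fst ((join e).injective this)
  obtain ⟨g₂, hg₂⟩ := exists_gl_of_injective L₂ fun x x' h => by
    have := gl_mulVec_injective g₀ (((hL₂ x).trans (by rw [h])).trans (hL₂ x').symm)
    exact congrArg Prod.snd ((join e).injective this)
  have hblk : Blk e g₀ g₁ g₂ := fun x x' => by
    rw [hg₁, hg₂, show (x, x') = (x, (0 : Al k₀ × Fin b → F)) + ((0 : Al 1 × Fin b → F), x') by simp, map_add,
      Matrix.mulVec_add, hL₁, hL₂, ← map_add]
    simp
  have hk := split_kron hS.gram hS.hb one_pos hS.hk₀ e hS.ovr (fun _ _ h => hS.rootScal h) hg₀M hblk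
  have := TensorMax.IsKron.mul (TensorMax.IsKron.mul (kg_isKron y (1 : GL (Fin b) F)) hk)
    (TensorMax.IsKron.inv (kg_isKron y (1 : GL (Fin b) F)))
  rwa [hg₀, show kg y 1 * ((kg y 1)⁻¹ * g * kg y 1) * (kg y 1)⁻¹ = g by group] at this

/-- The stabiliser of `a ⊗ U` is of product shape. -/
theorem Step.stab_kron {a c : Al k → F} (hca : ω c a = 1) {g : GL (Al k × Fin b) F} (hg : g ∈ M)
    (hst : ∀ u, ∃ u', (g : Mn) *ᵥ tmul a u = tmul a u') : IsKron g := by
  classical
  have hD := hS.gram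
  have hM := hS.ovr
  obtain ⟨ys, hys, hysx⟩ := exists_plane hca
  set S := kg ys (1 : GL (Fin b) F) with hSdef
  have hSM : S ∈ M := hM.kg_left hys
  have hac : ω a c = -1 := by rw [sympForm_swap, hca]
  have hSS : S * S = 1 := ext_gl fun x v => by
    rw [Units.val_mul, ← Matrix.mulVec_mulVec, kg_apply, kg_apply, Units.val_one, Matrix.one_mulVec,
      Matrix.one_mulVec, hysx, hysx]
    simp only [sympForm_sub_left, sympForm_smul_left, sympForm_self, hca, hac, Units.val_one, Matrix.one_mulVec]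
    congr 1
    module
  have hSa : ∀ u, (S : Mn) *ᵥ tmul a u = -tmul a u := fun u => by
    rw [hSdef, kg_apply, hysx, sympForm_self, hac, Units.val_one, Matrix.one_mulVec,
      show -tmul a u = tmul (-a) u from ((fac u).map_neg a).symm]
    congr 1; module
  have hSperp : ∀ t, cp a t = 0 → (S : Mn) *ᵥ t = t + tmul a ((2 : F) • cp c t) := fun t ht => by
    let L' : (Al k × Fin b → F) →ₗ[F] (Al k × Fin b → F) :=
      { toFun := fun t => t + tmul a ((2 : F) • cp c t)
        map_add' := fun t t' => by rw [map_add, smul_add, tmul_add_right]; abel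
        map_smul' := fun r t => by
          rw [map_smul, smul_comm, tmul_smul_right, RingHom.id_apply, smul_add] }
    have := ext_perp (L := Matrix.toLin' (S : Mn)) (L' := L') hca (fun x v hx => by
      show Matrix.toLin' (S : Mn) (tmul x v) = tmul x v + tmul a ((2 : F) • cp c (tmul x v))
      rw [Matrix.toLin'_apply, hSdef, kg_apply, hysx, hx, Units.val_one, Matrix.one_mulVec, cp_tmul, smul_smul,
        tmul_smul_right, ← tmul_smul_left, ← tmul_add_left]
      congr 1; module) ht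
    rwa [Matrix.toLin'_apply] at this
  choose σ hσ using hst
  have ha0 : a ≠ 0 := fun h => by rw [h, sympForm_zero_right] at hca; exact zero_ne_one hca
  obtain ⟨ξ, hξ⟩ := exists_dual ha0
  have hσl : ∀ u, σ u = lslice ξ ((g : Mn) *ᵥ tmul a u) := fun u => by rw [hσ, lslice_tmul, hξ, one_smul]
  have hinv : ∀ u, ∃ u', ((g⁻¹ : GL (Al k × Fin b) F) : Mn) *ᵥ tmul a u = tmul a u' := by
    let L : (Fin b → F) →ₗ[F] (Fin b → F) :=
      { toFun := σ
        map_add' := fun u v => by rw [hσl, hσl, hσl, tmul_add_right, Matrix.mulVec_add, map_add]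
        map_smul' := fun r u => by
          rw [hσl, hσl, tmul_smul_right, Matrix.mulVec_smul, map_smul, RingHom.id_apply] }
    have hLi : Function.Injective L := fun u v h => by
      have h1 : tmul a (σ u) = tmul a (σ v) := congrArg (tmul a) h
      rw [← hσ, ← hσ] at h1
      have := congrArg (lslice ξ) (gl_mulVec_injective g h1)
      rwa [lslice_tmul, lslice_tmul, hξ, one_smul, one_smul] at this
    intro u
    obtain ⟨u', hu'⟩ := LinearMap.surjective_of_injective hLi u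
    refine ⟨u', gl_mulVec_injective g ?_⟩
    show (g : Mn) *ᵥ _ = (g : Mn) *ᵥ _
    rw [mulVec_inv_cancel, hσ]
    exact congrArg (tmul a) hu'.symm
  choose τ hτ using hinv
  obtain ⟨U, hU⟩ : ∃ U, U = g * S * g⁻¹ * S := ⟨_, rfl⟩
  have hUM : U ∈ M := hU ▸ mul_mem (mul_mem (mul_mem hg hSM) (inv_mem hg)) hSM
  have hUa : ∀ u, (U : Mn) *ᵥ tmul a u = tmul a u := fun u => by
    rw [hU, Units.val_mul, Units.val_mul, Units.val_mul, ← Matrix.mulVec_mulVec, ← Matrix.mulVec_mulVec,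
      ← Matrix.mulVec_mulVec, hSa, Matrix.mulVec_neg, Matrix.mulVec_neg, hτ, hSa, neg_neg, ← hτ, mulVec_inv_cancel]
  have hperp : ∀ t, cp a t = 0 → ∃ r, (U : Mn) *ᵥ t = t + tmul a r := by
    intro t ht
    set t' := ((g⁻¹ : GL (Al k × Fin b) F) : Mn) *ᵥ t
    have ht' : cp a t' = 0 := hD.dB_nd fun u => by
      rw [← W_tmul_right, ← hM.iso hg, mulVec_inv_cancel, hσ, W_tmul_right, ht, dB_zero_left]
    have e1 : ∃ r, ((g⁻¹ : GL (Al k × Fin b) F) : Mn) *ᵥ ((S : Mn) *ᵥ t) = t' + tmul a r :=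
      ⟨_, by rw [hSperp t ht, Matrix.mulVec_add, hτ]⟩
    obtain ⟨r, hr⟩ := e1
    refine ⟨σ ((2 : F) • cp c t' - r), ?_⟩
    rw [hU, Units.val_mul, Units.val_mul, Units.val_mul, ← Matrix.mulVec_mulVec, ← Matrix.mulVec_mulVec,
      ← Matrix.mulVec_mulVec, hr, Matrix.mulVec_add (S : Mn), hSperp t' ht', hSa, ← hσ, ← sub_eq_add_neg,
      add_sub_assoc, ← tmul_sub_right, Matrix.mulVec_add, mulVec_inv_cancel]
  obtain ⟨Φ, hΦ⟩ : ∃ Φ, Φ = (lslice ξ).comp (Matrix.toLin' (U : Mn) - LinearMap.id) := ⟨_, rfl⟩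
  have hrad : Rad U a Φ := by
    refine ⟨fun v => by
      rw [hΦ, LinearMap.comp_apply, LinearMap.sub_apply, Matrix.toLin'_apply, hUa, LinearMap.id_apply, sub_self,
        map_zero], fun t ht => ?_⟩
    obtain ⟨r, hr⟩ := hperp t ht
    rw [hΦ, LinearMap.comp_apply, LinearMap.sub_apply, Matrix.toLin'_apply, hr, LinearMap.id_apply,
      add_sub_cancel_left, lslice_tmul, hξ, one_smul]
  have hUk := hrad.isKron hD hS.hb hM hca (hS.rootScal hca) hUM
  -- the order of `U`
  have hN1 : ∀ t, cp a ((U : Mn) *ᵥ t - t) = 0 := fun t => hD.dB_nd fun u => by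
    rw [← W_tmul_right, W_sub_left]
    conv_lhs => lhs; rw [← hUa u]
    rw [hM.iso hUM, sub_self]
  have hcube : ((U : Mn) - 1) * ((U : Mn) - 1) * ((U : Mn) - 1) = 0 := Matrix.ext_iff_mulVec.2 fun t => by
    rw [← Matrix.mulVec_mulVec, ← Matrix.mulVec_mulVec, Matrix.zero_mulVec, Matrix.sub_mulVec (U : Mn) 1 t,
      Matrix.one_mulVec]
    obtain ⟨r, hr⟩ := hperp _ (hN1 t)
    rw [Matrix.sub_mulVec, Matrix.one_mulVec, Matrix.sub_mulVec, Matrix.one_mulVec, hr, add_sub_cancel_left, hUa,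
      sub_self]
  obtain ⟨p, hp⟩ := CharP.exists F
  haveI := hp
  have hp' : p.Prime := (CharP.char_is_prime_or_zero F p).resolve_right (CharP.char_ne_zero_of_finite F p)
  haveI : Fact p.Prime := ⟨hp'⟩
  have hp3 : 3 ≤ p := by
    rcases hp'.two_le.eq_or_lt with h | h
    · exact absurd (by exact_mod_cast (h ▸ CharP.cast_eq_zero F p : ((2 : ℕ) : F) = 0)) hD.two
    · omega
  haveI : Nonempty (Al k × Fin b) :=
    ⟨(Sum.inl ⟨0, by have := hS.keq; omega⟩, ⟨0, by have := hS.hb; omega⟩)⟩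
  have hUp : U ^ p = 1 := Units.ext (by
    have h3 : ((U : Mn) - 1) ^ p = 0 := by
      obtain ⟨j, rfl⟩ := Nat.exists_eq_add_of_le hp3
      rw [pow_add, show ((U : Mn) - 1) ^ 3 = 0 by rw [pow_succ, pow_two, hcube], zero_mul]
    rw [sub_pow_char_of_commute (p := p) (h := Commute.one_right _), one_pow, sub_eq_zero] at h3
    rw [Units.val_pow_eq_pow_val, h3, Units.val_one])
  have hUS : S * U * S = U⁻¹ := by
    refine eq_inv_of_mul_eq_one_left ?_
    rw [hU]
    have h' : ∀ x, S * (S * x) = x := fun x => by rw [← mul_assoc, hSS, one_mul]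
    simp only [mul_assoc, h', inv_mul_cancel_left, mul_inv_cancel_left, hSS, mul_one, mul_inv_cancel]
  obtain ⟨v, hv⟩ : ∃ v, v = U ^ ((p + 1) / 2) := ⟨_, rfl⟩
  have hvv : v * v = U := by
    obtain ⟨m, hm⟩ := hp'.odd_of_ne_two (by omega)
    rw [hv, ← pow_add, show (p + 1) / 2 + (p + 1) / 2 = p + 1 by omega, pow_succ, hUp, one_mul]
  have hSinv : S⁻¹ = S := inv_eq_of_mul_eq_one_right hSS
  have hSv : S * v * S = v⁻¹ := by
    have := conj_pow (i := (p + 1) / 2) (a := S) (b := U)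
    rw [hSinv, hUS, inv_pow, ← hv] at this
    exact this.symm
  have hg' : v⁻¹ * g * S = S * (v⁻¹ * g) := by
    have e1 : g * S = U * S * g := by
      rw [hU, mul_assoc (g * S * g⁻¹) S S, hSS, mul_one, inv_mul_cancel_right]
    have e2 : S * v⁻¹ = v * S := by rw [← hSv, ← mul_assoc, ← mul_assoc, hSS, one_mul]
    rw [mul_assoc, e1, ← mul_assoc S, e2, ← mul_assoc, ← mul_assoc, ← hvv, ← mul_assoc, inv_mul_cancel, one_mul]
  have hkv : IsKron v := by
    have : ∀ n : ℕ, IsKron (U ^ n) := by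
      intro n
      induction n with
      | zero => rw [pow_zero, ← kg_one]; exact kg_isKron _ _
      | succ n ih => rw [pow_succ]; exact TensorMax.IsKron.mul ih hUk
    exact hv ▸ this _
  have hvM : v ∈ M := hv ▸ pow_mem hUM _
  have := TensorMax.IsKron.mul hkv (hS.com_kron hca hysx (mul_mem (inv_mem hvM) hg) hg')
  rwa [mul_inv_cancel_left] at this

end Cfsg.Agent.Classical.TensorRoot
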