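import Cfsg.Agent.Lib.Classical.MaxTensorFormCoef
import Cfsg.Agent.Lib.Classical.MaxTensorAlg
import Cfsg.Agent.Lib.Classical.MaxOrthSub

/-!
The stabiliser of a decomposition into two symplectic tensor factors is maximal in an orthogonal group.
-/

set_option autoImplicit false
set_option linter.unusedSectionVars false

namespace Cfsg.Agent.Classical.TensorMax

open Matrix Module MaxTv Overfield OrthAut
open scoped Kronecker

variable {F : Type*} [Field F] [Fintype F]

section
variable {β : Type} [Fintype β] [DecidableEq β] {j : (β → F) →ₗ[F] (β → F)} (hj : Alt j)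
include hj

theorem Alt.plane_sum (A : Submodule F ((β → F) →ₗ[F] (β → F)))
    (hA : ∀ x x', rk1 x' (j x) - rk1 x (j x') ∈ A) : (LinearMap.id : (β → F) →ₗ[F] (β → F)) ∈ A := by
  suffices H : ∀ (k : ℕ) (W : Submodule F (β → F)), finrank F W ≤ k → (∀ w ∈ W, w ≠ 0 → ∃ u ∈ W, j w ⬝ᵥ u ≠ 0) →
      ∃ L ∈ A, (∀ w ∈ W, L w = w) ∧ (∀ v, (∀ w ∈ W, j w ⬝ᵥ v = 0) → L v = 0) ∧ ∀ v, L v ∈ W by
    obtain ⟨L, hL, h1, -, -⟩ := H _ ⊤ le_rfl fun w _ hw => by
      obtain ⟨u, hu, -⟩ := hj.pick (S := ⊥) (fun h => hw ((Submodule.mem_bot F).1 h))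
      exact ⟨u, Submodule.mem_top, by rw [hu]; exact one_ne_zero⟩
    rwa [show (LinearMap.id : (β → F) →ₗ[F] (β → F)) = L from
      LinearMap.ext fun w => (h1 w Submodule.mem_top).symm]
  intro k
  induction k with
  | zero =>
    intro W hW _
    rw [Nat.le_zero, Submodule.finrank_eq_zero] at hW
    subst hW
    exact ⟨0, zero_mem _, fun w hw => by rw [(Submodule.mem_bot F).1 hw]; rfl, fun v _ => rfl,
      fun v => zero_mem _⟩
  | succ k ih =>
    intro W hW hnd
    by_cases h0 : W = ⊥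
    · subst h0
      exact ⟨0, zero_mem _, fun w hw => by rw [(Submodule.mem_bot F).1 hw]; rfl, fun v _ => rfl,
        fun v => zero_mem _⟩
    obtain ⟨x, hx, hx0⟩ := Submodule.exists_mem_ne_zero_of_ne_bot h0
    obtain ⟨u, hu, hxu⟩ := hnd x hx hx0
    set x' := (j x ⬝ᵥ u)⁻¹ • u with hx'
    have hx'W : x' ∈ W := W.smul_mem _ hu
    have hxx : j x ⬝ᵥ x' = 1 := by rw [hx', dotProduct_smul, smul_eq_mul, inv_mul_cancel₀ hxu]
    have hx'x : j x' ⬝ᵥ x = -1 := by rw [hj.skew, hxx]
    -- the projection on the plane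
    have hP : ∀ v, (rk1 x' (j x) - rk1 x (j x') : (β → F) →ₗ[F] (β → F)) v =
        (j x ⬝ᵥ v) • x' - (j x' ⬝ᵥ v) • x := fun v => rfl
    let W' : Submodule F (β → F) :=
      { carrier := {v | v ∈ W ∧ j x ⬝ᵥ v = 0 ∧ j x' ⬝ᵥ v = 0}
        add_mem' := fun ha hb => ⟨W.add_mem ha.1 hb.1, by rw [dotProduct_add, ha.2.1, hb.2.1, add_zero],
          by rw [dotProduct_add, ha.2.2, hb.2.2, add_zero]⟩
        zero_mem' := ⟨W.zero_mem, dotProduct_zero _, dotProduct_zero _⟩
        smul_mem' := fun c a ha => ⟨W.smul_mem c ha.1, by rw [dotProduct_smul, ha.2.1, smul_zero],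
          by rw [dotProduct_smul, ha.2.2, smul_zero]⟩ }
    have hsplit : ∀ w ∈ W, w - ((j x ⬝ᵥ w) • x' - (j x' ⬝ᵥ w) • x) ∈ W' := fun w hw =>
      ⟨W.sub_mem hw (W.sub_mem (W.smul_mem _ hx'W) (W.smul_mem _ hx)),
        by simp only [dotProduct_sub, dotProduct_smul, hj.self, hxx, smul_eq_mul]; ring,
        by simp only [dotProduct_sub, dotProduct_smul, hj.self, hx'x, smul_eq_mul]; ring⟩
    have hlt : W' < W := lt_of_le_of_ne (fun v hv => hv.1) fun e => by
      have : x' ∈ W' := e ▸ hx'W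
      exact one_ne_zero (hxx.symm.trans this.2.1)
    have hd := Submodule.finrank_lt_finrank_of_lt hlt
    obtain ⟨L, hL, hL1, hL0, hLm⟩ := ih W' (by omega) fun w hw hw0 => by
      obtain ⟨v, hv, hwv⟩ := hnd w hw.1 hw0
      refine ⟨_, hsplit v hv, ?_⟩
      simp only [dotProduct_sub, dotProduct_smul, hj.skew x' w, hj.skew x w, hw.2.1, hw.2.2, neg_zero, smul_zero,
        sub_zero]
      exact hwv
    refine ⟨L + (rk1 x' (j x) - rk1 x (j x')), A.add_mem hL (hA x x'), fun w hw => ?_, fun v hv => ?_,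
      fun v => ?_⟩
    · have h1 := hL1 _ (hsplit w hw)
      have hp : L ((j x ⬝ᵥ w) • x' - (j x' ⬝ᵥ w) • x) = 0 := hL0 _ fun v hv => by
        simp only [dotProduct_sub, dotProduct_smul, hj.skew x' v, hj.skew x v, hv.2.1, hv.2.2, neg_zero, smul_zero,
          sub_zero]
      rw [map_sub, hp, sub_zero] at h1
      rw [LinearMap.add_apply, hP, h1, sub_add_cancel]
    · rw [LinearMap.add_apply, hP, hv x hx, hv x' hx'W, zero_smul, zero_smul, sub_zero, add_zero,
        hL0 v fun w hw => hv w hw.1]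
    · rw [LinearMap.add_apply, hP]
      exact W.add_mem (hLm v).1 (W.sub_mem (W.smul_mem _ hx'W) (W.smul_mem _ hx))

/-- A vector orthogonal to three given ones outside two planes. -/
theorem Alt.mid (hb : 6 ≤ Fintype.card β) (z b y : β → F) : ∃ d, j z ⬝ᵥ d = 0 ∧ j b ⬝ᵥ d = 0 ∧ j y ⬝ᵥ d = 0 ∧
    d ∉ Submodule.span F ({z, b} : Set (β → F)) ∧ d ∉ Submodule.span F ({z, y} : Set (β → F)) := by
  let L : (β → F) →ₗ[F] F × F × F :=
    { toFun := fun d => (j z ⬝ᵥ d, j b ⬝ᵥ d, j y ⬝ᵥ d)
      map_add' := fun a c => by simp [dotProduct_add]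
      map_smul' := fun c a => by simp [dotProduct_smul] }
  have hK : 3 ≤ finrank F (LinearMap.ker L) := by
    have h1 := L.finrank_range_add_finrank_ker
    have h2 := Submodule.finrank_le (LinearMap.range L)
    rw [Module.finrank_fintype_fun_eq_card] at h1
    rw [Module.finrank_prod, Module.finrank_prod, finrank_self] at h2
    omega
  have hout : ∀ u v : β → F, ∃ d ∈ LinearMap.ker L, d ∉ Submodule.span F ({u, v} : Set (β → F)) := by
    intro u v
    by_contra hcon
    push Not at hcon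
    have h3 := Submodule.finrank_mono (show LinearMap.ker L ≤ Submodule.span F ({u, v} : Set (β → F)) from hcon)
    have h4 := finrank_range_le_card (R := F) ![u, v]
    rw [Set.finrank, Matrix.range_cons_cons_empty, Fintype.card_fin] at h4
    omega
  obtain ⟨d₁, h1, h1'⟩ := hout z b
  obtain ⟨d₂, h2, h2'⟩ := hout z y
  have hfin : ∀ d ∈ LinearMap.ker L, d ∉ Submodule.span F ({z, b} : Set (β → F)) →
      d ∉ Submodule.span F ({z, y} : Set (β → F)) → ∃ d, j z ⬝ᵥ d = 0 ∧ j b ⬝ᵥ d = 0 ∧ j y ⬝ᵥ d = 0 ∧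
      d ∉ Submodule.span F ({z, b} : Set (β → F)) ∧ d ∉ Submodule.span F ({z, y} : Set (β → F)) := by
    intro d hd ha hb'
    have he : (j z ⬝ᵥ d, j b ⬝ᵥ d, j y ⬝ᵥ d) = 0 := LinearMap.mem_ker.1 hd
    simp only [Prod.mk_eq_zero] at he
    exact ⟨d, he.1, he.2.1, he.2.2, ha, hb'⟩
  by_cases ha : d₁ ∈ Submodule.span F ({z, y} : Set (β → F))
  · by_cases hc : d₂ ∈ Submodule.span F ({z, b} : Set (β → F))
    · exact hfin _ (add_mem h1 h2) (fun h => h1' (by simpa using sub_mem h hc))
        fun h => h2' (by simpa using sub_mem h ha)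
    · exact hfin _ h2 hc h2'
  · exact hfin _ h1 h1' ha

end

variable {α β : Type} [Fintype α] [DecidableEq α] [Fintype β] [DecidableEq β]
variable {ι : Type} [Fintype ι] [DecidableEq ι]

local notation "V" => (α × β → F)
local notation "Mn" => Matrix (α × β) (α × β) F
local notation "Ea" => ((α → F) →ₗ[F] (α → F))

/-- An orthogonal space identified with the product of two symplectic spaces, pure tensors being singular. -/
structure SympPair (Q : QuadraticForm F (ι → F)) (E : (α × β → F) ≃ₗ[F] (ι → F))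
    (jA : (α → F) →ₗ[F] (α → F)) (jB : (β → F) →ₗ[F] (β → F))
    (ψ : GL (α × β) F ≃* GL ι F) : Prop where
  altA : Alt jA
  altB : Alt jB
  compat : ∀ g t, (ψ g : Matrix ι ι F) *ᵥ E t = E ((g : Matrix (α × β) (α × β) F) *ᵥ t)
  pure : ∀ x y, Q (E (tmul x y)) = 0
  pol : ∀ x y x' y', QuadraticMap.polar ⇑Q (E (tmul x y)) (E (tmul x' y')) = (jA x ⬝ᵥ x') * (jB y ⬝ᵥ y')
  nd : (QuadraticMap.polarBilin Q).Nondegenerate
  dimB : 6 ≤ Fintype.card β
  gap : Fintype.card α + 2 ≤ Fintype.card β
  two : 2 ≤ Fintype.card α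
  big : 12 ≤ Fintype.card ι

variable {Q : QuadraticForm F (ι → F)} {E : (α × β → F) ≃ₗ[F] (ι → F)}
  {jA : (α → F) →ₗ[F] (α → F)} {jB : (β → F) →ₗ[F] (β → F)} {ψ : GL (α × β) F ≃* GL ι F}

section
variable (hs : SympPair Q E jA jB ψ)
include hs

theorem SympPair.tri : Tri Q := by
  refine MaxTv.tri_of_ndQ hs.nd (W := ⊤) (fun w _ hw => ?_) (by rw [finrank_top, finrank_pi]; have := hs.big; omega)
  by_contra hcon
  push Not at hcon
  exact hw (hs.nd.1 w fun x => hcon x Submodule.mem_top)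

/-- The polar form against a pure tensor. -/
theorem SympPair.pol_left (x : α → F) (y : β → F) (t : V) :
    QuadraticMap.polar ⇑Q (E (tmul x y)) (E t) = jA x ⬝ᵥ slice (jB y) t := by
  rw [sum_tmul_basis t]
  simp only [map_sum, map_smul, dotProduct_sum, dotProduct_smul, smul_eq_mul, slice_tmul]
  rw [← QuadraticMap.polarBilin_apply_apply, map_sum]
  refine Finset.sum_congr rfl fun p _ => ?_
  rw [map_smul, QuadraticMap.polarBilin_apply_apply, hs.pol, smul_eq_mul]
  ring

theorem SympPair.pol_left' (x : α → F) (y : β → F) (t : V) :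
    QuadraticMap.polar ⇑Q (E (tmul x y)) (E t) = jB y ⬝ᵥ lslice (jA x) t := by
  haveI : Nonempty α := Fintype.card_pos_iff.1 (by have := hs.two; omega)
  rw [hs.pol_left, dot_lslice]

/-- Siegel elements lie in Ω. -/
theorem SympPair.siegel {a b : ι → F} (ha : Q a = 0) (hab : QuadraticMap.polar ⇑Q a b = 0) :
    ∃ g : GL (α × β) F, ψ g ∈ Geo.omegaGL ⇑Q ∧ (ψ g : Matrix ι ι F) = eMat Q a b := by
  refine ⟨ψ.symm ((eOG (show OK Q a b from ⟨ha, hab⟩) : isometryGroup F ⇑Q) : GL ι F), ?_, ?_⟩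
  · rw [ψ.apply_symm_apply]
    exact Subgroup.mem_map_of_mem _ (sR_le_omega hs.nd hs.tri (eOG_mem hs.nd hs.tri ⟨ha, hab⟩))
  · rw [ψ.apply_symm_apply]
    exact eOG_val ⟨ha, hab⟩

theorem SympPair.siegel_pure (x x' : α → F) (y y' : β → F) (h : (jA x ⬝ᵥ x') * (jB y ⬝ᵥ y') = 0) :
    In ((Geo.omegaGL ⇑Q).comap ψ.toMonoidHom)
      (rootMap y' (jB y) (rk1 x' (jA x)) - rootMap y (jB y') (rk1 x (jA x'))) := by
  obtain ⟨g, hg, hgx⟩ := hs.siegel (a := E (tmul x y)) (b := E (tmul x' y')) (hs.pure x y)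
    (by rw [hs.pol, h])
  refine ⟨g, hg, fun t => E.injective ?_⟩
  rw [← hs.compat, hgx, eMat_mulVec, hs.pol_left, hs.pol_left, hs.pure, zero_mul, zero_smul, sub_zero]
  simp only [LinearMap.sub_apply, rootMap_apply, rk1_apply, tmul_smul_left, map_add, map_sub, map_smul,
    add_sub_assoc]

/-- Transvections of the second factor lie in Ω. -/
theorem SympPair.root_omega (z : β → F) :
    In ((Geo.omegaGL ⇑Q).comap ψ.toMonoidHom) (rootMap (α := α) z (jB z) LinearMap.id) := by
  set O := (Geo.omegaGL ⇑Q).comap ψ.toMonoidHom with hO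
  have hzz := hs.altB.self z
  let A : Submodule F Ea :=
    { carrier := {D | ∀ c : F, In O (rootMap z (jB z) (c • D))}
      add_mem' := fun {D D'} h h' c => by
        have := (h c).add (h' c) fun t => rootMap_sq hzz _ _ _
        rwa [← rootMap_add, ← smul_add] at this
      zero_mem' := fun c => by
        convert In.zero (M := O) using 1
        exact LinearMap.ext fun t => by simp [rootMap_apply, tmul_zero_left]
      smul_mem' := fun r D h c => by rw [smul_smul]; exact h (c * r) }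
  have := hs.altA.plane_sum A fun x x' c => by
    have h := hs.siegel_pure x (c • x') z z (by rw [hzz, mul_zero])
    convert h using 1
    refine LinearMap.ext fun t => ?_
    simp only [LinearMap.sub_apply, LinearMap.smul_apply, rootMap_apply, rk1_apply, map_smul, smul_sub,
      tmul_sub_left, tmul_smul_left, smul_dotProduct, smul_eq_mul, smul_smul]
    rw [mul_comm c, mul_comm c]
  simpa using this 1

/-- Transvections of the first factor lie in Ω. -/
theorem SympPair.left_omega (x : α → F) (c : F) : ∃ g : GL (α × β) F, ψ g ∈ Geo.omegaGL ⇑Q ∧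
    ∀ u y, (g : Mn) *ᵥ tmul u y = tmul (u + (c * (jA x ⬝ᵥ u)) • x) y := by
  set O := (Geo.omegaGL ⇑Q).comap ψ.toMonoidHom with hO
  have hxx := hs.altA.self x
  let Lx : ((β → F) →ₗ[F] (β → F)) → (V →ₗ[F] V) := fun D =>
    { toFun := fun t => tmul x (D (lslice (jA x) t))
      map_add' := fun s t => by rw [map_add, map_add, tmul_add_right]
      map_smul' := fun r t => by rw [map_smul, map_smul, tmul_smul_right, RingHom.id_apply] }
  let A : Submodule F ((β → F) →ₗ[F] (β → F)) :=
    { carrier := {D | ∀ c : F, In O (Lx (c • D))}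
      add_mem' := fun {D D'} h h' c => by
        have := (h c).add (h' c) fun t => by
          show tmul x ((c • D) (lslice (jA x) (tmul x _))) = 0
          rw [lslice_tmul, hxx, zero_smul, map_zero, tmul_zero_right]
        convert this using 1
        exact LinearMap.ext fun t => by simp [Lx, tmul_add_right]
      zero_mem' := fun c => by
        convert In.zero (M := O) using 1
        exact LinearMap.ext fun t => by simp [Lx, tmul_zero_right]
      smul_mem' := fun r D h c => by rw [smul_smul]; exact h (c * r) }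
  have := hs.altB.plane_sum A fun y y' c => by
    obtain ⟨g, hg, hgx⟩ := hs.siegel (a := E (tmul x y)) (b := E (tmul x (c • y'))) (hs.pure _ _)
      (by rw [hs.pol, hxx, zero_mul])
    refine ⟨g, hg, fun t => E.injective ?_⟩
    rw [← hs.compat, hgx, eMat_mulVec, hs.pol_left', hs.pol_left', hs.pure, zero_mul, zero_smul, sub_zero]
    simp only [Lx, LinearMap.coe_mk, AddHom.coe_mk, LinearMap.sub_apply, LinearMap.smul_apply, rk1_apply, map_add,
      smul_sub, tmul_sub_right, tmul_smul_right, map_sub, map_smul, smul_dotProduct, smul_eq_mul, smul_smul,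
      add_sub_assoc]
    rw [mul_comm c, mul_comm c]
  obtain ⟨g, hg, hgx⟩ := this c
  refine ⟨g, hg, fun u y => ?_⟩
  rw [hgx]
  simp only [Lx, LinearMap.coe_mk, AddHom.coe_mk, LinearMap.smul_apply, LinearMap.id_apply, lslice_tmul, smul_smul,
    tmul_smul_right, tmul_add_left, tmul_smul_left]

variable {M : Subgroup (GL (α × β) F)}
  (hle : M ≤ (Geo.omegaGL ⇑Q).comap ψ.toMonoidHom)
  (hmem : ∀ g : GL (α × β) F, IsKron g → ψ g ∈ Geo.omegaGL ⇑Q → g ∈ M)
include hle hmem

theorem SympPair.isometry {f : GL (α × β) F} (hf : f ∈ M) (t : V) : Q (E ((f : Mn) *ᵥ t)) = Q (E t) := by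
  rw [← hs.compat]
  obtain ⟨k, -, hk⟩ := Subgroup.mem_map.1 (hle hf)
  rw [show ψ f = (k : GL ι F) from hk.symm]
  exact mem_isometryGroup.1 k.2 _

theorem SympPair.frm : Frm M (fun u => jB u) (RingEquiv.refl F) (-1 : F) 1 1 := by
  have hroot : ∀ z, ∃ g ∈ M, IsKron g ∧ ∀ t, (g : Mn) *ᵥ t = t + rootMap z (jB z) LinearMap.id t := by
    intro z
    obtain ⟨g, hg, hgx⟩ := hs.root_omega z
    obtain ⟨B, hB⟩ := MaxTv.exists_tv (hs.altB.self z)
    have hk : IsKron g := isKron_of_apply 1 B fun x y => by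
      rw [hgx, rootMap_apply, slice_tmul, LinearMap.id_apply, Units.val_one, Matrix.one_mulVec, hB,
        tmul_add_right, tmul_smul_right, tmul_smul_left]
    exact ⟨g, hmem g hk hg, hk, hgx⟩
  refine
    { J_add := fun u v => map_add _ _ _
      J_smul := fun c u => map_smul _ _ _
      J_inj := fun u h => hs.altB.inj (h.trans jB.map_zero.symm)
      refl := fun u v => by rw [RingEquiv.refl_apply, neg_one_mul]; exact hs.altB.skew u v
      eps := neg_ne_zero.2 one_ne_zero
      kappa := one_ne_zero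
      tau := one_ne_zero
      pair := ?_
      root := fun z _ => by simpa using hroot z
      adj := ?_
      line_iso := fun _ _ _ z _ _ => hs.altB.self z
      dual := ?_
      mid := ?_
      avoid := ?_
      perpSpan := fun z _ p h y hy => h y (hs.altB.self y) hy
      topSpan := fun p h y => h y (hs.altB.self y) }
  · intro z b hzz hbb hzb
    obtain ⟨g, hg, -, hgx⟩ := hroot (z + b)
    obtain ⟨g₁, hg₁, -, hg₁x⟩ := hroot z
    obtain ⟨g₂, hg₂, -, hg₂x⟩ := hroot b
    have hbz : jB b ⬝ᵥ z = 0 := by rw [hs.altB.skew, hzb, neg_zero]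
    have hz' : In M (rootMap (α := α) z (jB z) LinearMap.id) := ⟨g₁, hg₁, hg₁x⟩
    have hb' : In M (rootMap (α := α) b (jB b) LinearMap.id) := ⟨g₂, hg₂, hg₂x⟩
    have hs' : In M (rootMap (α := α) (z + b) (jB (z + b)) LinearMap.id) := ⟨g, hg, hgx⟩
    have h := (hs'.sub hz' (fun t => by
        simp only [rootMap_apply, LinearMap.id_apply, map_add, slice_tmul, add_dotProduct, hzz, hbz, add_zero,
          zero_smul, tmul_zero_left]) (fun t => rootMap_sq hzz _ _ _)).sub hb'
      (fun t => by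
        simp only [LinearMap.sub_apply, rootMap_apply, LinearMap.id_apply, map_add, slice_tmul, add_dotProduct,
          hbb, hzb, add_zero, zero_smul, tmul_zero_left, sub_zero])
      (fun t => rootMap_sq hbb _ _ _)
    convert h using 1
    refine LinearMap.ext fun t => ?_
    simp only [LinearMap.add_apply, LinearMap.sub_apply, one_smul, rootMap_apply, LinearMap.id_apply, map_add,
      slice_add, tmul_add_left, tmul_add_right]
    abel
  · intro f hf y v μ h x
    refine hs.altA.inj (dotProduct_eq _ _ fun x' => ?_)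
    rw [RingEquiv.refl_apply]
    have hpol : ∀ s t, QuadraticMap.polar ⇑Q (E ((f : Mn) *ᵥ s)) (E ((f : Mn) *ᵥ t)) =
        QuadraticMap.polar ⇑Q (E s) (E t) := fun s t => by
      rw [QuadraticMap.polar, QuadraticMap.polar, ← map_add, ← Matrix.mulVec_add, hs.isometry hle hmem hf,
        hs.isometry hle hmem hf, hs.isometry hle hmem hf, map_add]
    have h1 := hs.pol_left x' y (((f⁻¹ : GL (α × β) F) : Mn) *ᵥ tmul x v)
    rw [← hpol, mulVec_inv_cancel, QuadraticMap.polar_comm, hs.pol_left, h, dotProduct_smul] at h1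
    rw [hs.altA.skew x' (slice (jB y) _), ← h1, map_smul, smul_dotProduct, smul_eq_mul, smul_eq_mul, neg_one_mul]
    ring
  · intro z y u _ _ _ _ _ _ hu
    obtain ⟨c, hc, hc0⟩ := hs.altB.pick hu
    exact ⟨c, hs.altB.self c, hc, hc0 z (Submodule.subset_span (by simp)), hc0 y (Submodule.subset_span (by simp))⟩
  · intro z b y
    obtain ⟨d, h⟩ := hs.altB.mid hs.dimB z b y
    exact ⟨d, hs.altB.self d, h⟩
  · intro t w
    by_contra hcon
    push Not at hcon
    let L : (β → F) →ₗ[F] (α → F) × F :=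
      { toFun := fun b => (slice (jB b) t, jB b ⬝ᵥ w)
        map_add' := fun a b => by simp [slice_add, add_dotProduct]
        map_smul' := fun c a => by simp [slice_smul] }
    have hL : Function.Injective L := (injective_iff_map_eq_zero L).2 fun b hb => by
      by_contra h0
      exact hcon b h0 (hs.altB.self b) (congrArg Prod.snd hb) (congrArg Prod.fst hb)
    have := LinearMap.finrank_le_finrank_of_injective hL
    rw [Module.finrank_fintype_fun_eq_card, Module.finrank_prod, Module.finrank_fintype_fun_eq_card,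
      finrank_self] at this
    have := hs.gap
    omega

theorem SympPair.alg : Alg jA (PCoef M (fun u => jB u)) where
  one := PCoef.one (hs.frm hle hmem)
  add h h' := h.add (hs.frm hle hmem) h'
  smul c h := h.smul (hs.frm hle hmem) c
  mul h h' := h.mul (hs.frm hle hmem) h'
  conj {D} x c h := by
    haveI : Nonempty α := Fintype.card_pos_iff.1 (by have := hs.two; omega)
    obtain ⟨g, hg, hgx⟩ := hs.left_omega x c
    have htv : (c • jA x) ⬝ᵥ x = 0 := by rw [smul_dotProduct, hs.altA.self, smul_zero]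
    obtain ⟨A, hA⟩ := MaxTv.exists_tv htv
    have hgx' : ∀ u y, (g : Mn) *ᵥ tmul u y = tmul ((A : Matrix α α F) *ᵥ u) y := fun u y => by
      rw [hgx, hA, smul_dotProduct, smul_eq_mul]
    have hk : IsKron g := isKron_of_apply A 1 fun u y => by rw [hgx', Units.val_one, Matrix.one_mulVec]
    have hAi : ∀ u, ((A⁻¹ : GL α F) : Matrix α α F) *ᵥ u = u - ((c • jA x) ⬝ᵥ u) • x := fun u =>
      gl_mulVec_injective A (by
        show (A : Matrix α α F) *ᵥ _ = (A : Matrix α α F) *ᵥ _
        rw [mulVec_inv_cancel, hA, dotProduct_sub, dotProduct_smul, htv, smul_zero, sub_zero, sub_add_cancel])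
    convert h.conj (hs.frm hle hmem) A (hmem g hk hg) hgx' using 1
    refine LinearMap.ext fun u => ?_
    simp only [LinearMap.comp_apply, LinearMap.add_apply, LinearMap.sub_apply, LinearMap.id_apply,
      LinearMap.smul_apply, Matrix.toLin'_apply, rk1_apply, hA, hAi, smul_dotProduct, smul_smul, smul_eq_mul]

/-- With all coefficients, pure tensors have all their Siegel elements. -/
theorem SympPair.full_pure (hall : ∀ x δ : α → F, PCoef M (fun u => jB u) (rk1 x δ)) (x : α → F) (z : β → F) :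
    Full Q (M.map ψ.toMonoidHom) (E (tmul x z)) := by
  set N := M.map ψ.toMonoidHom with hN
  have hiso : ∀ k ∈ N, ∀ w, Q ((k : Matrix ι ι F) *ᵥ w) = Q w := fun k hk w => by
    obtain ⟨f, hf, rfl⟩ := Subgroup.mem_map.1 hk
    obtain ⟨t, rfl⟩ := E.surjective w
    show Q ((ψ f : Matrix ι ι F) *ᵥ E t) = _
    rw [hs.compat, hs.isometry hle hmem hf]
  rcases eq_or_ne x 0 with rfl | hx
  · rw [tmul_zero_left, map_zero]; exact full_zero
  rcases eq_or_ne z 0 with rfl | hz
  · rw [tmul_zero_right, map_zero]; exact full_zero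
  have hfrm := hs.frm hle hmem
  -- the pair elements
  have hpair : ∀ (x x' : α → F) (z y : β → F), Flag (fun u => jB u) z y →
      ∃ k ∈ N, (k : Matrix ι ι F) = eMat Q (E (tmul x z)) (E (tmul x' y)) := by
    intro x x' z y hf
    have hzy : jB z ⬝ᵥ y = 0 := hf.zb
    have hyz : jB y ⬝ᵥ z = 0 := by rw [hs.altB.skew, hzy, neg_zero]
    obtain ⟨A', g, hg, hgx⟩ := hall (-x) (jA x') z y hf
    obtain ⟨c, hc, hc0⟩ := hs.altB.pick (show y ∉ Submodule.span F {z} from hf.ind)
    obtain ⟨d, hd, hd0⟩ := hs.altB.pick (show z ∉ Submodule.span F {y} from (hf.of_swap hfrm).ind)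
    have hzc := hc0 z (Submodule.mem_span_singleton_self z)
    have hyd := hd0 y (Submodule.mem_span_singleton_self y)
    -- the other coefficient is determined by the form
    have hA' : ∀ u, A' u = (jA x ⬝ᵥ u) • x' := fun u => by
      refine hs.altA.inj (dotProduct_eq _ _ fun v => ?_)
      have hi : QuadraticMap.polar ⇑Q (E ((g : Mn) *ᵥ tmul v c)) (E ((g : Mn) *ᵥ tmul u d)) =
          QuadraticMap.polar ⇑Q (E (tmul v c)) (E (tmul u d)) := by
        rw [QuadraticMap.polar, QuadraticMap.polar, ← map_add, ← Matrix.mulVec_add, hs.isometry hle hmem hg,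
          hs.isometry hle hmem hg, hs.isometry hle hmem hg, map_add]
      rw [hgx, hgx] at hi
      simp only [LinearMap.add_apply, rootMap_apply, slice_tmul, hc, hd, hzc, hyd, one_smul, zero_smul, map_zero,
        tmul_zero_left, add_zero, zero_add, rk1_apply, tmul_smul_left, map_add, map_smul,
        QuadraticMap.polar_add_left, QuadraticMap.polar_add_right, QuadraticMap.polar_smul_left, hs.pol] at hi
      rw [hs.altB.skew y c, hc] at hi
      rw [hs.altA.skew v (A' u), hs.altA.skew v ((jA x ⬝ᵥ u) • x'), dotProduct_smul, smul_eq_mul]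
      simp only [smul_eq_mul, mul_zero, mul_one, add_zero, map_neg, neg_dotProduct] at hi
      rw [hs.altA.skew v x', hzy] at hi
      linear_combination hi
    refine ⟨ψ g, Subgroup.mem_map_of_mem _ hg, Matrix.ext_iff_mulVec.2 fun w => ?_⟩
    obtain ⟨t, rfl⟩ := E.surjective w
    rw [hs.compat, hgx, eMat_mulVec, hs.pol_left, hs.pol_left, hs.pure, zero_mul, zero_smul, sub_zero]
    simp only [LinearMap.add_apply, rootMap_apply, rk1_apply, hA', smul_neg, tmul_neg_left, tmul_smul_left, map_add,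
      map_neg, map_smul]
    abel
  have ha : Q (E (tmul x z)) = 0 := hs.pure x z
  set R := CR (M := N) ha
  -- vectors orthogonal to `z`
  have hflag : ∀ (x' : α → F) (y : β → F), Flag (fun u => jB u) z y → E (tmul x' y) ∈ R := fun x' y hf => by
    refine ⟨by rw [hs.pol, show jB z ⬝ᵥ y = 0 from hf.zb, mul_zero], fun r => ?_⟩
    obtain ⟨k, hk, hkx⟩ := hpair x (r • x') z y hf
    exact ⟨k, hk, by rw [hkx, tmul_smul_left, map_smul]⟩
  have hperp : ∀ (x' : α → F) (y : β → F), jB z ⬝ᵥ y = 0 → E (tmul x' y) ∈ R := fun x' y hy => by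
    by_cases hm : y ∈ (F ∙ z)
    · obtain ⟨y₀, hz0', -, -, hout, -⟩ := hs.altB.mid hs.dimB z z z
      have hout' : y₀ ∉ (F ∙ z) := fun h => hout (Submodule.span_mono (by simp) h)
      have h1 := hflag x' y₀ ⟨hs.altB.self z, hs.altB.self y₀, hz0', hout', hz⟩
      have h2 := hflag x' (y + y₀) ⟨hs.altB.self z, hs.altB.self _, by rw [dotProduct_add, hy, hz0', add_zero],
        fun h => hout' (by simpa using sub_mem h hm), hz⟩
      have h3 := R.sub_mem h2 h1
      rwa [← map_sub, ← tmul_sub_right, add_sub_cancel_right] at h3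
    · exact hflag x' y ⟨hs.altB.self z, hs.altB.self y, hy, hm, hz⟩
  -- vectors orthogonal to `x`
  have hxperp : ∀ (x' : α → F) (c : β → F), jA x ⬝ᵥ x' = 0 → E (tmul x' c) ∈ R := by
    intro x' c hx'
    rcases eq_or_ne c 0 with rfl | hc0
    · rw [tmul_zero_right, map_zero]; exact zero_mem R
    obtain ⟨d, hzd, hcd, -, hout, -⟩ := hs.altB.mid hs.dimB z c c
    obtain ⟨y₀, hy₀, hy₀0⟩ := hs.altB.pick (show d ∉ Submodule.span F {z} from
      fun h => hout (Submodule.span_mono (by simp) h))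
    have hzy₀ := hy₀0 z (Submodule.mem_span_singleton_self z)
    have hfd : Flag (fun u => jB u) d c := ⟨hs.altB.self d, hs.altB.self c, by
        show jB d ⬝ᵥ c = 0
        rw [hs.altB.skew, hcd, neg_zero], fun hm => hout (by
        obtain ⟨r, hr⟩ := Submodule.mem_span_singleton.1 hm
        have hr0 : r ≠ 0 := fun e => hc0 (by rw [← hr, e, zero_smul])
        exact Submodule.mem_span_pair.2 ⟨0, r⁻¹, by
          rw [zero_smul, zero_add, ← hr, smul_smul, inv_mul_cancel₀ hr0, one_smul]⟩),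
      fun e => hout (e ▸ zero_mem _)⟩
    obtain ⟨k, hk, hkx⟩ := hpair x x' d c hfd
    obtain ⟨x₄, hx₄, -⟩ := hs.altA.pick (S := ⊥) (fun h => hx ((Submodule.mem_bot F).1 h))
    have hkw : ∀ s u, (k : Matrix ι ι F) *ᵥ E (tmul s u) = E (tmul s u) +
        ((jA x ⬝ᵥ s) * (jB d ⬝ᵥ u)) • E (tmul x' c) - ((jA x' ⬝ᵥ s) * (jB c ⬝ᵥ u)) • E (tmul x d) := fun s u => by
      rw [hkx, eMat_mulVec, hs.pol, hs.pol, hs.pure, zero_mul, zero_smul, sub_zero]
    have hka : (k : Matrix ι ι F) *ᵥ E (tmul x z) = E (tmul x z) := by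
      rw [hkw, hs.altA.self, zero_mul, zero_smul, add_zero, hs.altA.skew x x', hx', neg_zero, zero_mul, zero_smul,
        sub_zero]
    have hb := hperp x₄ y₀ hzy₀
    have hkb : (k : Matrix ι ι F) *ᵥ E (tmul x₄ y₀) ∈ R := by
      refine ⟨?_, fun r => ?_⟩
      · rw [← hka, isometry_polar (hiso k hk)]; exact hb.1
      · obtain ⟨t, ht, htx⟩ := hb.2 r
        refine ⟨k * t * k⁻¹, mul_mem (mul_mem hk ht) (inv_mem hk), Matrix.ext_iff_mulVec.2 fun w => ?_⟩
        obtain ⟨w', rfl⟩ : ∃ w', (k : Matrix ι ι F) *ᵥ w' = w := ⟨_, mulVec_inv_cancel k w⟩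
        conv_rhs => rw [← hka]
        rw [Units.val_mul, Units.val_mul, ← Matrix.mulVec_mulVec, ← Matrix.mulVec_mulVec, inv_mulVec_cancel, htx,
          Matrix.mulVec_mulVec, isometry_eMat (hiso k hk), ← Matrix.mulVec_mulVec, Matrix.mulVec_smul]
    have h3 := R.sub_mem hkb hb
    rw [hkw, hy₀, hx₄, one_mul, one_smul] at h3
    have h4 := R.add_mem h3 (R.smul_mem ((jA x' ⬝ᵥ x₄) * (jB c ⬝ᵥ y₀)) (hperp x d hzd))
    rwa [show E (tmul x₄ y₀) + E (tmul x' c) - ((jA x' ⬝ᵥ x₄) * (jB c ⬝ᵥ y₀)) • E (tmul x d) - E (tmul x₄ y₀) +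
      ((jA x' ⬝ᵥ x₄) * (jB c ⬝ᵥ y₀)) • E (tmul x d) = E (tmul x' c) by abel] at h4
  intro w hw
  obtain ⟨t, rfl⟩ := E.surjective w
  obtain ⟨c₀, hc₀, -⟩ := hs.altB.pick (S := ⊥) (fun h => hz ((Submodule.mem_bot F).1 h))
  have hmain : E t ∈ R := by
    have h1 : E (t - tmul (slice (jB z) t) c₀) ∈ R := by
      let Φ : V →ₗ[F] (ι → F) := E.toLinearMap.comp (LinearMap.id - (fac c₀).comp (slice (jB z)))
      show Φ t ∈ R
      rw [sum_tmul_basis t, map_sum]
      refine R.sum_mem fun p _ => ?_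
      rw [map_smul]
      refine R.smul_mem _ ?_
      show E (tmul _ _ - tmul (slice (jB z) (tmul _ _)) c₀) ∈ R
      rw [slice_tmul, tmul_smul_left, ← tmul_smul_right, ← tmul_sub_right]
      refine hperp _ _ ?_
      rw [dotProduct_sub, dotProduct_smul, hc₀, smul_eq_mul, mul_one, sub_self]
    have h2 : E (tmul (slice (jB z) t) c₀) ∈ R := hxperp _ _ (by rw [← hs.pol_left]; exact hw)
    have h3 := R.add_mem h1 h2
    rwa [← map_add, sub_add_cancel] at h3
  obtain ⟨k, hk, hkx⟩ := hmain.2 1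
  exact ⟨k, hk, by rw [hkx, one_smul]⟩

/-- An overgroup is contained in the stabiliser or is all of Ω. -/
theorem SympPair.dichotomy (hq : 4 ≤ Fintype.card α ∨ 3 ≤ Fintype.card F) :
    (∀ g ∈ M, IsKron g) ∨ Geo.omegaGL ⇑Q ≤ M.map ψ.toMonoidHom := by
  classical
  haveI : Nonempty α := Fintype.card_pos_iff.1 (by have := hs.two; omega)
  haveI : Nonempty β := Fintype.card_pos_iff.1 (by have := hs.dimB; omega)
  have hfrm := hs.frm hle hmem
  by_cases hS : Scal M (fun u => jB u)
  · refine Or.inl fun g hg => isKron_of_lines fun y hy => ?_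
    exact isLine_of_scal hfrm (by have := hs.gap; omega) hS
      (fun _ _ w hw _ => absurd (hs.altB.self w) hw)
      (fun g _ hall => isKron_of_lines fun v hv => hall v hv (hs.altB.self v)) hg hy (hs.altB.self y)
  refine Or.inr ?_
  obtain ⟨z₀, y₀, D, hflag, hD, hns⟩ : ∃ z y D, Flag (fun u => jB u) z y ∧ InP M (fun u => jB u) z y D ∧
      ∀ c : F, D ≠ c • LinearMap.id := by
    by_contra hcon
    push Not at hcon
    refine hS fun z y A hf hA => ?_
    obtain ⟨c, hc⟩ := hcon z y A hf hA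
    exact ⟨c, fun x => by rw [hc]; rfl⟩
  have hall : ∀ x δ : α → F, PCoef M (fun u => jB u) (rk1 x δ) :=
    rk1_all hs.altA (hs.alg hle hmem) hq (pCoef_of_inP hfrm hD hflag) hns
  have hfull := hs.full_pure hle hmem hall
  set N := M.map ψ.toMonoidHom with hN
  have hiso : ∀ k ∈ N, ∀ w, Q ((k : Matrix ι ι F) *ᵥ w) = Q w := fun k hk w => by
    obtain ⟨f, hf, rfl⟩ := Subgroup.mem_map.1 hk
    obtain ⟨t, rfl⟩ := E.surjective w
    show Q ((ψ f : Matrix ι ι F) *ᵥ E t) = _
    rw [hs.compat, hs.isometry hle hmem hf]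
  refine omegaGL_le_of_roots hs.nd hs.tri fun a b hab => ?_
  suffices hFa : Full Q N a from hFa b hab.2.2.1
  have ha : Q a = 0 := hab.1
  rcases eq_or_ne a 0 with rfl | ha0
  · exact full_zero
  obtain ⟨s, rfl⟩ := E.surjective a
  obtain ⟨x, y, hxy⟩ : ∃ x y, QuadraticMap.polar ⇑Q (E (tmul x y)) (E s) ≠ 0 := by
    by_contra hcon
    push Not at hcon
    refine ha0 (hs.nd.1 (E s) fun w => ?_)
    obtain ⟨t, rfl⟩ := E.surjective w
    rw [sum_tmul_basis t]
    simp only [map_sum, map_smul, QuadraticMap.polarBilin_apply_apply]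
    exact Finset.sum_eq_zero fun p _ => by rw [QuadraticMap.polar_comm, hcon, smul_zero]
  set σ₀ := QuadraticMap.polar ⇑Q (E (tmul x y)) (E s) with hσ
  have hx : x ≠ 0 := fun e => hxy (by rw [hσ, e, tmul_zero_left, map_zero, QuadraticMap.polar_zero_left])
  have hy : y ≠ 0 := fun e => hxy (by rw [hσ, e, tmul_zero_right, map_zero, QuadraticMap.polar_zero_left])
  obtain ⟨x', hx', -⟩ := hs.altA.pick (S := ⊥) (fun h => hx ((Submodule.mem_bot F).1 h))
  obtain ⟨y', hy', -⟩ := hs.altB.pick (S := ⊥) (fun h => hy ((Submodule.mem_bot F).1 h))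
  set c' := E (tmul (σ₀ • x') y') with hc'
  have hcc : QuadraticMap.polar ⇑Q (E (tmul x y)) c' = σ₀ := by
    rw [hc', hs.pol, dotProduct_smul, hx', hy', smul_eq_mul, mul_one, mul_one]
  have hQc : Q c' = 0 := hs.pure _ _
  obtain ⟨k, hk, hkx⟩ := hfull x y (σ₀⁻¹ • (c' - E s))
    (by rw [QuadraticMap.polar_smul_right, QuadraticMap.polar_sub_right, hcc, ← hσ, sub_self, smul_zero])
  have hks : (k : Matrix ι ι F) *ᵥ E s = c' := by
    rw [hkx, eMat_mulVec, ← hσ, smul_smul, mul_inv_cancel₀ hxy, one_smul, QuadraticMap.polar_smul_left,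
      QuadraticMap.polar_sub_left, QuadraticMap.map_smul, show c' - E s = c' + (-1 : F) • E s by module, quad_add,
      QuadraticMap.map_smul, hQc, ha, QuadraticMap.polar_smul_right, QuadraticMap.polar_comm _ c' (E s),
      show QuadraticMap.polar ⇑Q (E s) (E s) = 0 by rw [QuadraticMap.polar_self, ha, smul_zero]]
    match_scalars
    all_goals first
      | linear_combination (0 : F)
      | linear_combination (QuadraticMap.polar ⇑Q (E s) c' * σ₀⁻¹) * mul_inv_cancel₀ hxy
      | (field_simp; ring)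
  have := full_map hiso (hfull (σ₀ • x') y') (inv_mem hk)
  rwa [← hc', ← hks, inv_mulVec_cancel] at this

end

/-- Maximality of the stabiliser of two symplectic tensor factors. -/
theorem SympPair.maximal (hs : SympPair Q E jA jB ψ) (hq : 4 ≤ Fintype.card α ∨ 3 ≤ Fintype.card F)
    (H : Subgroup (GL ι F)) (hH : ∀ g, g ∈ H ↔ IsKron (ψ.symm g) ∧ g ∈ Geo.omegaGL ⇑Q) :
    Geo.IsMaximalIn (Geo.omegaGL ⇑Q) H := by
  classical
  haveI : Nonempty α := Fintype.card_pos_iff.1 (by have := hs.two; omega)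
  refine MaxTv.isMaximalIn_intro (fun g hg => ((hH g).1 hg).2) ?_ fun M hHM hMK g hg hgH => ?_
  · intro hle
    obtain ⟨a, ha, -⟩ : ∃ a : α → F, a ≠ 0 ∧ True := by
      obtain ⟨i⟩ := ‹Nonempty α›
      exact ⟨Pi.single i 1, by simp, trivial⟩
    obtain ⟨y, -, -, -, hy0, -⟩ := hs.altB.mid hs.dimB 0 0 0
    obtain ⟨y', hyy', -, -, hind, -⟩ := hs.altB.mid hs.dimB y y y
    have hind' : y' ∉ (F ∙ y) := fun h => hind (Submodule.span_mono (by simp) h)
    obtain ⟨g, hg, hgx⟩ := hs.siegel_pure a a y y' (by rw [hyy', mul_zero])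
    have hk : IsKron g := by
      have := ((hH (ψ g)).1 (hle hg)).1
      rwa [ψ.symm_apply_apply] at this
    set W : Submodule F V := Submodule.span F {tmul a y, tmul a y'} with hW
    have hne : g ≠ 1 := by
      intro e
      obtain ⟨d, hd, hd0⟩ := hs.altB.pick hind'
      obtain ⟨u, hu, -⟩ := hs.altA.pick (S := ⊥) (fun h => ha ((Submodule.mem_bot F).1 h))
      have h1 := hgx (tmul u d)
      rw [e, Units.val_one, Matrix.one_mulVec, LinearMap.sub_apply, rootMap_apply, rootMap_apply, slice_tmul,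
        slice_tmul, hd, hd0 y (Submodule.mem_span_singleton_self y), zero_smul, map_zero, tmul_zero_left,
        one_smul, zero_sub, left_eq_add, neg_eq_zero, rk1_apply, hu, one_smul] at h1
      exact tmul_ne_zero ha (fun e0 => hy0 (by rw [e0]; exact zero_mem _)) h1
    have hdim : finrank F W ≤ Fintype.card α := by
      have h4 := finrank_range_le_card (R := F) ![tmul a y, tmul a y']
      rw [Set.finrank, Matrix.range_cons_cons_empty, Fintype.card_fin] at h4
      exact h4.trans hs.two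
    obtain ⟨v, -, hWv⟩ := hk.root (by have := hs.gap; omega) hne hdim fun t => by
      rw [hgx, add_sub_cancel_left]
      exact W.sub_mem (by rw [rootMap_apply, rk1_apply, tmul_smul_left]; exact W.smul_mem _ (Submodule.subset_span
        (by simp))) (by rw [rootMap_apply, rk1_apply, tmul_smul_left]; exact W.smul_mem _ (Submodule.subset_span
        (by simp)))
    have key : ∀ u, tmul a u ∈ W → ∃ c : F, u = c • v := fun u hu => by
      rw [hWv] at hu
      obtain ⟨x', hx'⟩ := hu
      obtain ⟨ξ, hξ⟩ := exists_dual ha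
      refine ⟨ξ ⬝ᵥ x', ?_⟩
      have := congrArg (lslice ξ) hx'
      rw [fac_apply, lslice_tmul, lslice_tmul, hξ, one_smul] at this
      exact this.symm
    obtain ⟨c, hc⟩ := key y (Submodule.subset_span (by simp))
    obtain ⟨c', hc'⟩ := key y' (Submodule.subset_span (by simp))
    have hc0 : c ≠ 0 := fun e => hy0 (by rw [hc, e, zero_smul]; exact zero_mem _)
    exact hind' (Submodule.mem_span_singleton.2 ⟨c' * c⁻¹, by
      rw [hc', hc, smul_smul, mul_assoc, inv_mul_cancel₀ hc0, mul_one]⟩)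
  · set M' := M.comap ψ.toMonoidHom with hM'
    rcases hs.dichotomy (M := M') (Subgroup.comap_mono hMK)
        (fun k hk hk' => hHM ((hH (ψ k)).2 ⟨by rwa [ψ.symm_apply_apply], hk'⟩)) hq with h | h
    · exfalso
      refine hgH ((hH g).2 ⟨h _ ?_, hMK hg⟩)
      show ψ (ψ.symm g) ∈ M
      rwa [ψ.apply_symm_apply]
    · refine h.trans ?_
      rintro _ ⟨f, hf, rfl⟩
      exact hf

end Cfsg.Agent.Classical.TensorMax
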