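import Cfsg.Agent.Lib.Classical.MaxPtSpread
import Cfsg.Agent.Lib.Classical.MaxSympUnit

/-!
Overgroups of `Sp₂ ⊗ GO(U)` in symplectic groups: set-up, the elements `Φ (x, y) ↦ Φ (x + S y, y)` and how a
transvection at a pure singular centre gives everything.
-/

set_option autoImplicit false
set_option linter.unusedSectionVars false

namespace Cfsg.Agent.Classical.TensorTwo

open Matrix Module MaxTv

variable {F : Type*} [Field F] [Fintype F] {m : ℕ} {U : Type*} [AddCommGroup U] [Module F U]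
  [FiniteDimensional F U]

local notation "V" => (Fin m ⊕ Fin m → F)
local notation "Mn" => Matrix (Fin m ⊕ Fin m) (Fin m ⊕ Fin m) F
local notation "W" => sympForm m F
local notation "G" => GL (Fin m ⊕ Fin m) F

/-- A symplectic space as the product of a plane and an orthogonal space. -/
structure TwoData (D : LinearMap.BilinForm F U) (Φ : (U × U) ≃ₗ[F] (Fin m ⊕ Fin m → F)) : Prop where
  symm : ∀ a b, D a b = D b a
  nd : ∀ a, (∀ b, D a b = 0) → a = 0
  two : (2 : F) ≠ 0
  form : ∀ a b c d, sympForm m F (Φ (a, b)) (Φ (c, d)) = D a d - D b c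
  dim : 3 ≤ finrank F U
  big : (∃ s : F, s ≠ 0 ∧ s * s ≠ 1) ∨ 4 ≤ finrank F U

/-- An element of product shape. -/
def IsPair (Φ : (U × U) ≃ₗ[F] (Fin m ⊕ Fin m → F)) (g : GL (Fin m ⊕ Fin m) F) : Prop :=
  ∃ (a b c d : F) (T : U ≃ₗ[F] U), ∀ u v, (g : Matrix (Fin m ⊕ Fin m) (Fin m ⊕ Fin m) F) *ᵥ Φ (u, v) =
    Φ (T (a • u + b • v), T (c • u + d • v))

/-- An overgroup of the stabiliser of the product. -/
structure Over (Φ : (U × U) ≃ₗ[F] (Fin m ⊕ Fin m → F)) (M : Subgroup (GL (Fin m ⊕ Fin m) F)) : Prop where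
  le : M ≤ spGL m F
  mem : ∀ g ∈ spGL m F, IsPair Φ g → g ∈ M

/-- The displacement `Φ (x, y) ↦ Φ (S y, 0)`. -/
def hor (Φ : (U × U) ≃ₗ[F] (Fin m ⊕ Fin m → F)) (S : U →ₗ[F] U) (z : Fin m ⊕ Fin m → F) :
    Fin m ⊕ Fin m → F := Φ (S (Φ.symm z).2, 0)

/-- The symmetric map of two vectors. -/
def cross (D : LinearMap.BilinForm F U) (e f : U) : U →ₗ[F] U :=
  (D.flip e).smulRight f + (D.flip f).smulRight e

/-- The symmetric map of one vector. -/
def sq1 (D : LinearMap.BilinForm F U) (z : U) : U →ₗ[F] U := (D.flip z).smulRight z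

variable {D : LinearMap.BilinForm F U} {Φ : (U × U) ≃ₗ[F] (Fin m ⊕ Fin m → F)}
  {M : Subgroup (GL (Fin m ⊕ Fin m) F)}

theorem cross_apply (e f x : U) : cross D e f x = D x e • f + D x f • e := rfl

theorem sq1_apply (z x : U) : sq1 D z x = D x z • z := rfl

theorem hor_apply (S : U →ₗ[F] U) (a b : U) : hor Φ S (Φ (a, b)) = Φ (S b, 0) := by
  simp [hor]

theorem ext_phi {f g : V → V} (h : ∀ a b, f (Φ (a, b)) = g (Φ (a, b))) (z : V) : f z = g z := by
  obtain ⟨⟨a, b⟩, rfl⟩ := Φ.surjective z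
  exact h a b

theorem inN_phi {N : V → V} {g : G} (hg : g ∈ M)
    (h : ∀ a b, (g : Mn) *ᵥ Φ (a, b) = Φ (a, b) + N (Φ (a, b))) : InN M N :=
  ⟨g, hg, fun z => ext_phi (f := fun z => (g : Mn) *ᵥ z) (g := fun z => z + N z) h z⟩

/-- `c² ≠ 1` and `c ≠ 0`, unless the field is small. -/
theorem exists_norm_two (h2 : (2 : F) ≠ 0) {z : F} (hz : z ≠ 0) (d : F) :
    ∃ u w : F, u * u - z * (w * w) = d := by
  have h : ringChar F ≠ 2 := fun h => h2 (by
    have := ringChar.of_eq h
    exact CharP.cast_eq_zero F 2)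
  obtain ⟨u, w, huw⟩ := FiniteField.exists_root_sum_quadratic (R := F)
      (f := Polynomial.X ^ 2 - Polynomial.C d) (g := Polynomial.C (-z) * Polynomial.X ^ 2)
      (Polynomial.degree_X_pow_sub_C (by norm_num) d)
      (Polynomial.degree_C_mul_X_pow 2 (neg_ne_zero.2 hz)) (FiniteField.odd_card_of_char_ne_two h)
  simp only [Polynomial.eval_sub, Polynomial.eval_pow, Polynomial.eval_X, Polynomial.eval_C, Polynomial.eval_mul]
    at huw
  exact ⟨u, w, by linear_combination huw⟩

namespace TwoData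

variable (hT : TwoData D Φ)
include hT

theorem zero_left (a : U) : D 0 a = 0 := by rw [map_zero, LinearMap.zero_apply]

theorem exists_one {a : U} (ha : a ≠ 0) : ∃ b, D a b = 1 := by
  obtain ⟨b, hb⟩ : ∃ b, D a b ≠ 0 := by
    by_contra h
    push Not at h
    exact ha (hT.nd a h)
  exact ⟨(D a b)⁻¹ • b, by rw [map_smul, smul_eq_mul, inv_mul_cancel₀ hb]⟩

theorem quad_add (a b : U) : D (a + b) (a + b) = D a a + 2 * D a b + D b b := by
  simp only [map_add, LinearMap.add_apply]; rw [hT.symm b a]; ring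

theorem quad_smul (c : F) (a : U) : D (c • a) (c • a) = c * c * D a a := by
  simp only [map_smul, LinearMap.smul_apply, smul_eq_mul]; ring

/-- Reflections. -/
theorem exists_refl {e : U} (he : D e e ≠ 0) : ∃ T : U ≃ₗ[F] U,
    (∀ x, T x = x - (2 * D x e / D e e) • e) ∧ (∀ x y, D (T x) (T y) = D x y) ∧ ∀ x, T (T x) = x := by
  let L : U →ₗ[F] U := LinearMap.id - ((2 / D e e) • D.flip e).smulRight e
  have hL : ∀ x, L x = x - (2 * D x e / D e e) • e := fun x => by
    simp only [L, LinearMap.sub_apply, LinearMap.id_apply, LinearMap.smulRight_apply, LinearMap.smul_apply,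
      smul_eq_mul]
    congr 1; rw [mul_div_right_comm]; rfl
  have hinv : ∀ x, L (L x) = x := fun x => by
    rw [hL, hL]
    simp only [map_sub, LinearMap.sub_apply, map_smul, LinearMap.smul_apply, smul_eq_mul]
    match_scalars <;> field_simp <;> ring
  refine ⟨LinearEquiv.ofLinear L L (LinearMap.ext hinv) (LinearMap.ext hinv), hL, fun x y => ?_, hinv⟩
  simp only [LinearEquiv.ofLinear_apply, hL, map_sub, LinearMap.sub_apply, map_smul, LinearMap.smul_apply,
    smul_eq_mul]
  rw [hT.symm e y]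
  field_simp
  ring

/-- An anisotropic vector orthogonal to few orthogonal anisotropic vectors. -/
theorem exists_aniso_perp {n : ℕ} (l : Fin n → U) (hn : n < finrank F U) (hl : ∀ i, D (l i) (l i) ≠ 0)
    (ho : ∀ i j, i ≠ j → D (l i) (l j) = 0) : ∃ k, (∀ i, D k (l i) = 0) ∧ D k k ≠ 0 := by
  by_contra hcon
  push Not at hcon
  let L : U →ₗ[F] (Fin n → F) := LinearMap.pi fun i => D.flip (l i)
  have h1 := L.finrank_range_add_finrank_ker
  have h3 := Submodule.finrank_le (LinearMap.range L)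
  rw [finrank_pi, Fintype.card_fin] at h3
  obtain ⟨f, hf, hf0⟩ := Submodule.exists_mem_ne_zero_of_ne_bot
    (fun h : LinearMap.ker L = ⊥ => by rw [h, finrank_bot] at h1; omega)
  have hfi : ∀ i, D f (l i) = 0 := fun i => congrFun (LinearMap.mem_ker.1 hf) i
  refine hf0 (hT.nd f fun y => ?_)
  obtain ⟨y', hy'⟩ : ∃ y', y' = y - ∑ i, (D y (l i) / D (l i) (l i)) • l i := ⟨_, rfl⟩
  have hyi : ∀ j, D y' (l j) = 0 := fun j => by
    rw [hy', map_sub, LinearMap.sub_apply, map_sum, LinearMap.sum_apply, Finset.sum_eq_single j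
      (fun i _ hij => by rw [map_smul, LinearMap.smul_apply, ho i j hij, smul_zero])
      (fun h => absurd (Finset.mem_univ j) h), map_smul, LinearMap.smul_apply, smul_eq_mul,
      div_mul_cancel₀ _ (hl j), sub_self]
  have hfy : D f y = D f y' := by
    rw [hy', map_sub, map_sum, Finset.sum_eq_zero (fun i _ => by rw [map_smul, hfi, smul_zero]), sub_zero]
  have h4 := hcon (f + y') fun i => by rw [map_add, LinearMap.add_apply, hfi, hyi, add_zero]
  rw [hT.quad_add, hcon f hfi, hcon y' hyi] at h4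
  rw [hfy]
  exact (mul_eq_zero.1 (show (2 : F) * D f y' = 0 by linear_combination h4)).resolve_left hT.two

theorem exists_aniso : ∃ e, D e e ≠ 0 := by
  obtain ⟨k, -, hk⟩ := hT.exists_aniso_perp (n := 0) Fin.elim0 (by have := hT.dim; omega) (fun i => i.elim0)
    fun i => i.elim0
  exact ⟨k, hk⟩

theorem exists_aniso_perp1 {e : U} (he : D e e ≠ 0) : ∃ k, D k e = 0 ∧ D k k ≠ 0 := by
  obtain ⟨k, hk, hkk⟩ := hT.exists_aniso_perp ![e] (by have := hT.dim; omega) (by simpa using he)
    (by intro i j hij; exact absurd (Subsingleton.elim i j) hij)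
  exact ⟨k, hk 0, hkk⟩

theorem exists_aniso_perp2 {e f : U} (he : D e e ≠ 0) (hf : D f f ≠ 0) (hef : D e f = 0) :
    ∃ k, D k e = 0 ∧ D k f = 0 ∧ D k k ≠ 0 := by
  obtain ⟨k, hk, hkk⟩ := hT.exists_aniso_perp ![e, f] (by have := hT.dim; omega)
    (by intro i; fin_cases i <;> assumption)
    (by
      intro i j hij
      fin_cases i <;> fin_cases j
      all_goals first
        | exact absurd rfl hij
        | assumption
        | (rw [hT.symm]; assumption))
  exact ⟨k, hk 0, hk 1, hkk⟩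

theorem exists_aniso_perp3 (hU : 4 ≤ finrank F U) {e f g : U} (he : D e e ≠ 0) (hf : D f f ≠ 0) (hg : D g g ≠ 0)
    (hef : D e f = 0) (heg : D e g = 0) (hfg : D f g = 0) :
    ∃ k, D k e = 0 ∧ D k f = 0 ∧ D k g = 0 ∧ D k k ≠ 0 := by
  obtain ⟨k, hk, hkk⟩ := hT.exists_aniso_perp ![e, f, g] (by omega)
    (by intro i; fin_cases i <;> assumption)
    (by
      intro i j hij
      fin_cases i <;> fin_cases j
      all_goals first
        | exact absurd rfl hij
        | assumption
        | (rw [hT.symm]; assumption))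
  exact ⟨k, hk 0, hk 1, hk 2, hkk⟩

/-- The orthogonal complement of an anisotropic vector takes every non-zero value. -/
theorem exists_value {e : U} (he : D e e ≠ 0) {d : F} (hd : d ≠ 0) : ∃ k, D k e = 0 ∧ D k k = d := by
  obtain ⟨k₁, h1, h11⟩ := hT.exists_aniso_perp1 he
  obtain ⟨k₂, h2, h21, h22⟩ := hT.exists_aniso_perp2 he h11 ((hT.symm _ _).trans h1)
  obtain ⟨u, w, huw⟩ := exists_norm_two hT.two (z := -(D k₂ k₂ / D k₁ k₁))
    (neg_ne_zero.2 (div_ne_zero h22 h11)) (d / D k₁ k₁)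
  refine ⟨u • k₁ + w • k₂, ?_, ?_⟩
  · simp [h1, h2]
  · rw [hT.quad_add, hT.quad_smul, hT.quad_smul]
    simp only [map_smul, LinearMap.smul_apply, smul_eq_mul, (hT.symm k₁ k₂).trans h21]
    field_simp at huw
    linear_combination huw

/-- Singular vectors span and every one has a singular partner. -/
theorem exists_partner {z : U} (hz0 : z ≠ 0) (hzz : D z z = 0) : ∃ z', D z' z' = 0 ∧ D z z' = 1 := by
  obtain ⟨b, hb⟩ := hT.exists_one hz0
  refine ⟨b - (D b b / 2) • z, ?_, by rw [map_sub, map_smul, hzz, smul_zero, sub_zero, hb]⟩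
  simp only [map_sub, LinearMap.sub_apply, map_smul, LinearMap.smul_apply, smul_eq_mul, hzz, hb,
    (hT.symm b z).trans hb]
  have := hT.two
  field_simp
  ring

theorem mem_of_singular {z : U} (hz0 : z ≠ 0) (hzz : D z z = 0) (p : Submodule F U)
    (h : ∀ y, D y y = 0 → y ∈ p) (y : U) : y ∈ p := by
  obtain ⟨z', hz', hzz'⟩ := hT.exists_partner hz0 hzz
  obtain ⟨k, hk⟩ : ∃ k, k = y - D y z' • z - D y z • z' := ⟨_, rfl⟩
  have hkz : D k z = 0 := by
    rw [hk]; simp [hzz, (hT.symm z' z).trans hzz']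
  have hkz' : D k z' = 0 := by rw [hk]; simp [hz', hzz']
  have h1 : k + z - (D k k / 2) • z' ∈ p := h _ (by
    simp only [map_sub, LinearMap.sub_apply, map_add, LinearMap.add_apply, map_smul, LinearMap.smul_apply,
      smul_eq_mul, hzz, hz', hkz, hkz', hzz', (hT.symm z' k).trans hkz', (hT.symm z k).trans hkz,
      (hT.symm z' z).trans hzz']
    have := hT.two
    field_simp
    ring)
  have e : y = (k + z - (D k k / 2) • z') + (D y z' - 1) • z + (D y z + D k k / 2) • z' := by
    rw [hk]; module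
  rw [e]
  exact add_mem (add_mem h1 (p.smul_mem _ (h z hzz))) (p.smul_mem _ (h z' hz'))

/-! ### Elements of product shape -/

theorem exists_pairMap (T : U ≃ₗ[F] U) (a b c d μ : F) (hμ : ∀ x y, D (T x) (T y) = μ * D x y)
    (hdet : (a * d - b * c) * μ = 1) : ∃ g ∈ spGL m F, IsPair Φ g ∧
      ∀ u v, (g : Mn) *ᵥ Φ (u, v) = Φ (T (a • u + b • v), T (c • u + d • v)) := by
  let L : V →ₗ[F] V := Φ.toLinearMap ∘ₗ
    ((T.toLinearMap ∘ₗ (a • LinearMap.fst F U U + b • LinearMap.snd F U U)).prod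
      (T.toLinearMap ∘ₗ (c • LinearMap.fst F U U + d • LinearMap.snd F U U))) ∘ₗ Φ.symm.toLinearMap
  have hL : ∀ u v, L (Φ (u, v)) = Φ (T (a • u + b • v), T (c • u + d • v)) := fun u v => by simp [L]
  have hiso : ∀ x y, W (L x) (L y) = W x y := fun x y => by
    obtain ⟨⟨u, v⟩, rfl⟩ := Φ.surjective x
    obtain ⟨⟨u', v'⟩, rfl⟩ := Φ.surjective y
    rw [hL, hL, hT.form, hT.form, hμ, hμ]
    simp only [map_add, map_smul, LinearMap.add_apply, LinearMap.smul_apply, smul_eq_mul]
    linear_combination (D u v' - D v u') * hdet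
  obtain ⟨g, hg⟩ := exists_gl_of_injective L fun x y hxy => by
    refine sub_eq_zero.1 (sesq_sympForm.eq_zero _ fun z => ?_)
    have h0 : W (L (x - y)) (L z) = 0 := by rw [map_sub, hxy, sub_self, sesq_sympForm.zero_left]
    rw [hiso] at h0
    exact sesq_sympForm.refl _ _ h0
  exact ⟨g, mem_spGL.2 fun x y => by rw [hg, hg, hiso], ⟨a, b, c, d, T, fun u v => by rw [hg, hL]⟩,
    fun u v => by rw [hg, hL]⟩

variable (hM : Over Φ M)
include hM

theorem iso {g : G} (hg : g ∈ M) (x y : V) : W ((g : Mn) *ᵥ x) ((g : Mn) *ᵥ y) = W x y :=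
  mem_spGL.1 (hM.le hg) x y

theorem exists_sl {a b c d : F} (h : a * d - b * c = 1) : ∃ g ∈ M,
    (∀ u v, (g : Mn) *ᵥ Φ (u, v) = Φ (a • u + b • v, c • u + d • v)) ∧ IsPair Φ g := by
  obtain ⟨g, hg, hp, hgx⟩ := hT.exists_pairMap (LinearEquiv.refl F U) a b c d 1 (fun x y => by simp) (by rw [h, one_mul])
  exact ⟨g, hM.mem g hg hp, fun u v => by rw [hgx]; rfl, hp⟩

theorem exists_diag {T : U ≃ₗ[F] U} (hTi : ∀ x y, D (T x) (T y) = D x y) : ∃ g ∈ M,
    ∀ u v, (g : Mn) *ᵥ Φ (u, v) = Φ (T u, T v) := by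
  obtain ⟨g, hg, hp, hgx⟩ := hT.exists_pairMap T 1 0 0 1 1 (fun x y => by rw [hTi, one_mul]) (by ring)
  exact ⟨g, hM.mem g hg hp, fun u v => by rw [hgx, one_smul, zero_smul, zero_smul, one_smul, add_zero, zero_add]⟩

/-! ### The linear space of `S` with `Φ (x, y) ↦ Φ (x + S y, y)` in `M` -/

omit hT hM in
theorem hor_add {S S' : U →ₗ[F] U} (h : InN M (hor Φ S)) (h' : InN M (hor Φ S')) :
    InN M (hor Φ (S + S')) := by
  refine (InN.add h h' fun z => ?_).congr fun z => ?_
  · simp [hor]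
  · simp only [hor, LinearMap.add_apply, ← map_add, Prod.mk_add_mk, add_zero]

theorem hor_sq {S : U →ₗ[F] U} (h : InN M (hor Φ S)) (s : F) : InN M (hor Φ ((s * s) • S)) := by
  rcases eq_or_ne s 0 with rfl | hs
  · exact ⟨1, one_mem M, fun z => by simp [hor]⟩
  obtain ⟨g, hg, hgx, -⟩ := hT.exists_sl hM (a := s) (b := 0) (c := 0) (d := s⁻¹)
    (by rw [mul_inv_cancel₀ hs]; ring)
  refine inN_conj h hg fun z => ext_phi (Φ := Φ) (f := fun z => hor Φ ((s * s) • S) ((g : Mn) *ᵥ z))
    (g := fun z => (g : Mn) *ᵥ hor Φ S z) (fun a b => ?_) z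
  simp only [hgx, hor_apply, zero_smul, add_zero, zero_add, LinearMap.smul_apply, map_smul, smul_zero, smul_smul]
  congr 2
  field_simp

theorem hor_smul {S : U →ₗ[F] U} (h : InN M (hor Φ S)) (c : F) : InN M (hor Φ (c • S)) := by
  obtain ⟨u, w, huw⟩ := exists_norm_two hT.two (z := (-1 : F)) (neg_ne_zero.2 one_ne_zero) c
  have := hor_add (hT.hor_sq hM h u) (hT.hor_sq hM h w)
  rwa [← add_smul, show u * u + w * w = c by linear_combination huw] at this

theorem hor_sub {S S' : U →ₗ[F] U} (h : InN M (hor Φ S)) (h' : InN M (hor Φ S')) :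
    InN M (hor Φ (S - S')) := by
  have := hor_add h (hT.hor_smul hM h' (-1))
  rwa [neg_one_smul, ← sub_eq_add_neg] at this

theorem hor_conj {S : U →ₗ[F] U} (h : InN M (hor Φ S)) {T : U ≃ₗ[F] U} (hTi : ∀ x y, D (T x) (T y) = D x y)
    {S' : U →ₗ[F] U} (hS' : ∀ x, S' (T x) = T (S x)) : InN M (hor Φ S') := by
  obtain ⟨g, hg, hgx⟩ := hT.exists_diag hM hTi
  exact inN_conj h hg fun z => ext_phi (Φ := Φ) (f := fun z => hor Φ S' ((g : Mn) *ᵥ z))
    (g := fun z => (g : Mn) *ᵥ hor Φ S z) (fun a b => by simp [hgx, hor_apply, hS']) z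

theorem cross_conj {e f : U} (h : InN M (hor Φ (cross D e f))) {T : U ≃ₗ[F] U}
    (hTi : ∀ x y, D (T x) (T y) = D x y) : InN M (hor Φ (cross D (T e) (T f))) :=
  hT.hor_conj hM h hTi fun x => by simp [cross_apply, hTi]

theorem sq1_conj {z : U} (h : InN M (hor Φ (sq1 D z))) {T : U ≃ₗ[F] U}
    (hTi : ∀ x y, D (T x) (T y) = D x y) : InN M (hor Φ (sq1 D (T z))) :=
  hT.hor_conj hM h hTi fun x => by simp [sq1_apply, hTi]

/-- A transvection at a pure centre. -/
theorem pt_of_sq1 {z : U} (h : InN M (hor Φ (sq1 D z))) : Pt M (Φ (z, 0)) := fun c => by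
  obtain ⟨g, hg, hgx⟩ := hT.hor_smul hM h (-c)
  refine ⟨g, hg, fun y => ?_⟩
  obtain ⟨⟨a, b⟩, rfl⟩ := Φ.surjective y
  rw [hgx, hor_apply, fn_dot sesq_sympForm, sympForm_smul_right, hT.form, map_zero, zero_sub,
    ← map_smul Φ, Prod.smul_mk, smul_zero]
  congr 3
  simp only [LinearMap.smul_apply, sq1_apply, smul_smul]
  congr 1; ring

/-- A symmetric map of two orthogonal vectors, one singular, gives a singular square. -/
theorem sq1_of_cross {e f : U} (he : D e e ≠ 0) (hef : D e f = 0) (hff : D f f = 0)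
    (h : InN M (hor Φ (cross D e f))) : InN M (hor Φ (sq1 D f)) := by
  have hd : D (e + f) (e + f) ≠ 0 := by rw [hT.quad_add, hef, hff]; simpa using he
  obtain ⟨T, hTx, hTi, -⟩ := hT.exists_refl hd
  have hTe : T e = -e - (2 : F) • f := by
    rw [hTx, hT.quad_add, hef, hff, map_add, hef]
    simp only [mul_zero, add_zero]
    rw [mul_div_assoc, div_self he, mul_one]
    module
  have hTf : T f = f := by
    rw [hTx, map_add, hff, hT.symm f e, hef, add_zero, mul_zero, zero_div, zero_smul, sub_zero]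
  have h1 := hor_add h (hT.cross_conj hM h hTi)
  rw [hTe, hTf] at h1
  have h2 := hT.hor_smul hM h1 (-4⁻¹)
  have h4 : (4 : F) ≠ 0 := by rw [show (4 : F) = 2 * 2 by norm_num]; exact mul_ne_zero hT.two hT.two
  convert h2 using 3
  refine LinearMap.ext fun x => ?_
  simp only [LinearMap.smul_apply, LinearMap.add_apply, cross_apply, sq1_apply, map_sub, map_neg, map_smul,
    smul_eq_mul]
  match_scalars <;> field_simp <;> ring

/-- For an anisotropic `e` one partner gives all. -/
theorem cross_all {e f : U} (he : D e e ≠ 0) (hef : D e f = 0) (hf0 : f ≠ 0)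
    (h : InN M (hor Φ (cross D e f))) {k : U} (hk : D e k = 0) : InN M (hor Φ (cross D e k)) := by
  classical
  let T : Submodule F U :=
    { carrier := {k | D e k = 0 ∧ InN M (hor Φ (cross D e k))}
      add_mem' := fun {a b} ha hb => ⟨by rw [map_add, ha.1, hb.1, add_zero], by
        have := hor_add ha.2 hb.2
        convert this using 3
        exact LinearMap.ext fun x => by simp [cross_apply]; module⟩
      zero_mem' := ⟨map_zero _, 1, one_mem M, fun z => by simp [hor, cross_apply]⟩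
      smul_mem' := fun c a ha => ⟨by rw [map_smul, ha.1, smul_zero], by
        have := hT.hor_smul hM ha.2 c
        convert this using 3
        exact LinearMap.ext fun x => by simp [cross_apply]; module⟩ }
  have hdich : ∀ d, D e d = 0 → D d d ≠ 0 → d ∈ T ∨ ∀ t ∈ T, D t d = 0 := by
    intro d hed hd
    by_contra hcon
    push Not at hcon
    obtain ⟨hdT, t, ht, htd⟩ := hcon
    obtain ⟨R, hRx, hRi, -⟩ := hT.exists_refl hd
    have hRe : R e = e := by rw [hRx, hed, mul_zero, zero_div, zero_smul, sub_zero]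
    have h1 := hT.cross_conj hM ht.2 hRi
    rw [hRe] at h1
    have h2 : R t ∈ T := ⟨by rw [← hRi] at *; rw [hRi, ← hRe, hRi]; exact ht.1, h1⟩
    have h3 := T.sub_mem ht h2
    rw [hRx, sub_sub_cancel] at h3
    exact hdT ((T.smul_mem_iff (div_ne_zero (mul_ne_zero hT.two htd) hd)).1 h3)
  obtain ⟨f₀, hf₀e, hf₀⟩ := hT.exists_aniso_perp1 he
  -- anisotropic vectors span the complement
  have hspan : ∀ (p : Submodule F U), (∀ d, D e d = 0 → D d d ≠ 0 → d ∈ p) → ∀ y, D e y = 0 → y ∈ p := by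
    intro p hp y hy
    have hef₀ : D e f₀ = 0 := (hT.symm _ _).trans hf₀e
    by_cases hyy : D y y = 0
    swap
    · exact hp y hy hyy
    have hf₀p := hp f₀ hef₀ hf₀
    by_cases h1 : D (y + f₀) (y + f₀) = 0
    · have h2 : D (y + (-1 : F) • f₀) (y + (-1 : F) • f₀) ≠ 0 := fun e2 => hf₀ (by
        rw [hT.quad_add, hyy] at h1
        rw [hT.quad_add, hT.quad_smul, hyy, map_smul, smul_eq_mul] at e2
        exact (mul_eq_zero.1 (show (2 : F) * D f₀ f₀ = 0 by linear_combination h1 + e2)).resolve_left hT.two)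
      have := p.sub_mem (hp _ (by simp [hy, hef₀]) h2) (p.smul_mem (-1) hf₀p)
      simpa using this
    · simpa using p.sub_mem (hp _ (by simp [hy, hef₀]) h1) hf₀p
  have hnd : ∀ t, D e t = 0 → (∀ d, D e d = 0 → D d d ≠ 0 → D t d = 0) → t = 0 := by
    intro t het hperp
    refine hT.nd t fun y => ?_
    have h1 : y - (D e y / D e e) • e ∈ LinearMap.ker (D t) :=
      hspan _ (fun d h1 h2 => hperp d h1 h2) _ (by rw [map_sub, map_smul, smul_eq_mul, div_mul_cancel₀ _ he, sub_self])
    rw [LinearMap.mem_ker, map_sub, map_smul, hT.symm t e, het, smul_zero, sub_zero] at h1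
    exact h1
  -- an anisotropic member
  obtain ⟨t, htT, htt⟩ : ∃ t ∈ T, D t t ≠ 0 := by
    by_contra hc
    push Not at hc
    refine hf0 (hnd f hef fun d h1 h2 => ?_)
    rcases hdich d h1 h2 with h3 | h3
    · exact absurd (hc d h3) h2
    · exact h3 f ⟨hef, h⟩
  refine (hspan T (fun d hed hd => ?_) k hk).2
  by_contra hdT
  have hdperp := (hdich d hed hd).resolve_left hdT
  have het : D e t = 0 := htT.1
  have key : ∀ s : U, s ∈ T → D s s ≠ 0 → ∀ u, D e u = 0 → D u u ≠ 0 → (∀ t ∈ T, D t u = 0) →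
      D s s + D u u = 0 := by
    intro s hs hss u heu huu hup
    by_contra hne
    have hsu := hup s hs
    rcases hdich (s + u) (by simp [hs.1, heu]) (by rw [hT.quad_add, hsu]; simpa using hne) with h3 | h3
    · have := hup u (by simpa using T.sub_mem h3 hs)
      exact huu this
    · have := h3 s hs
      rw [map_add, hsu, add_zero] at this
      exact hss this
  have e1 := key t htT htt d hed hd hdperp
  rcases hT.big with ⟨s, hs0, hs1⟩ | hU
  · have e2 := key t htT htt (s • d) (by simp [hed]) (by rw [hT.quad_smul]; exact mul_ne_zero (mul_ne_zero hs0 hs0) hd)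
      fun t ht => by rw [map_smul, hdperp t ht, smul_zero]
    rw [hT.quad_smul] at e2
    exact hs1 (mul_right_cancel₀ hd (by rw [one_mul]; linear_combination e2 - e1))
  · obtain ⟨u, hue, hut, hud, huu⟩ := hT.exists_aniso_perp3 hU he htt hd het hed (hdperp t htT)
    have heu : D e u = 0 := (hT.symm _ _).trans hue
    rcases hdich u heu huu with h3 | h3
    · have e2 := key u h3 huu d hed hd hdperp
      have e3 := key (t + u) (T.add_mem htT h3) (by
        rw [hT.quad_add, (hT.symm t u).trans hut]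
        intro e4
        exact hd ((mul_eq_zero.1 (show (2 : F) * D d d = 0 by linear_combination e1 + e2 - e4)).resolve_left hT.two))
        d hed hd hdperp
      rw [hT.quad_add, (hT.symm t u).trans hut] at e3
      exact hd (by linear_combination e1 + e2 - e3)
    · have e2 := key t htT htt u heu huu h3
      have e3 := key t htT htt (u + d) (by simp [heu, hed]) (by
        rw [hT.quad_add, hud]
        intro e4
        exact htt ((mul_eq_zero.1 (show (2 : F) * D t t = 0 by linear_combination e1 + e2 - e4)).resolve_left hT.two))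
        fun s hs => by rw [map_add, h3 s hs, hdperp s hs, add_zero]
      rw [hT.quad_add, hud] at e3
      exact htt (by linear_combination e1 + e2 - e3)

/-- The whole group from a transvection at a pure singular centre. -/
theorem full_of_sq1 {z : U} (hz0 : z ≠ 0) (hzz : D z z = 0) (h : InN M (hor Φ (sq1 D z))) : spGL m F ≤ M := by
  have step : ∀ x y : U, D x x = 0 → D y y = 0 → D x y ≠ 0 → InN M (hor Φ (sq1 D x)) → InN M (hor Φ (sq1 D y)) := by
    intro x y hx hy hxy hh
    have hd : D (x - y) (x - y) ≠ 0 := by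
      simp only [map_sub, LinearMap.sub_apply, hx, hy, hT.symm y x]
      simpa using mul_ne_zero hT.two hxy |> fun h e => h (by linear_combination -e)
    obtain ⟨T, hTx, hTi, -⟩ := hT.exists_refl hd
    have e : T x = y := by
      have e1 : 2 * D x (x - y) / D (x - y) (x - y) = 1 := by
        rw [div_eq_one_iff_eq hd]
        simp only [map_sub, LinearMap.sub_apply, hx, hy, hT.symm y x]
        ring
      rw [hTx, e1, one_smul, sub_sub_cancel]
    exact e ▸ hT.sq1_conj hM hh hTi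
  -- chains between singular points
  have chain : ∀ x y : U, x ≠ 0 → y ≠ 0 → D x x = 0 → D y y = 0 →
      Relation.ReflTransGen (fun a b => D a a = 0 ∧ D b b = 0 ∧ D a b ≠ 0) x y := by
    intro x y hx0 hy0 hx hy
    obtain ⟨x', hx', hxx'⟩ := hT.exists_partner hx0 hx
    obtain ⟨y', hy', hyy'⟩ := hT.exists_partner hy0 hy
    have n1 : D x x' ≠ 0 := by rw [hxx']; exact one_ne_zero
    have n2 : D y y' ≠ 0 := by rw [hyy']; exact one_ne_zero
    have n2' : D y' y ≠ 0 := by rwa [hT.symm]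
    by_cases h1 : D x' y = 0
    · by_cases h2 : D x y' = 0
      · by_cases h3 : D x' y' = 0
        · refine (Relation.ReflTransGen.single ⟨hx, ?_, ?_⟩).tail ⟨?_, hy, ?_⟩ (b := x' + y') <;>
            simp [hT.quad_add, map_add, hx', hy', h3, h1, h2, n1, n2', hxx', hyy', (hT.symm y' y).trans hyy', (hT.symm y' x').trans h3]
        · exact ((Relation.ReflTransGen.single ⟨hx, hx', n1⟩).tail ⟨hx', hy', h3⟩).tail ⟨hy', hy, n2'⟩
      · exact (Relation.ReflTransGen.single ⟨hx, hy', h2⟩).tail ⟨hy', hy, n2'⟩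
    · exact (Relation.ReflTransGen.single ⟨hx, hx', n1⟩).tail ⟨hx', hy, h1⟩
  have hall : ∀ y : U, y ≠ 0 → D y y = 0 → Pt M (Φ (y, 0)) := fun y hy0 hy => by
    refine hT.pt_of_sq1 hM ?_
    induction chain z y hz0 hy0 hzz hy with
    | refl => exact h
    | @tail r w _ hrw ih =>
      exact step r w hrw.1 hrw.2.1 hrw.2.2 (ih (fun e => hrw.2.2 (by rw [e, hT.zero_left])) hrw.1)
  have hpt : ∀ y, y ≠ 0 → D y y = 0 → ∀ r s : F, Pt M (Φ (r • y, s • y)) := fun y hy0 hy r s => by
    rcases eq_or_ne r 0 with rfl | hr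
    · rcases eq_or_ne s 0 with rfl | hs
      · rw [zero_smul, Prod.mk_zero_zero, map_zero]; exact Pt.zero
      obtain ⟨g, hg, hgx, -⟩ := hT.exists_sl hM (a := 0) (b := -s⁻¹) (c := s) (d := 0) (by field_simp; ring)
      have := (hall y hy0 hy).map hg (hM.le hg)
      simpa [hgx] using this
    · obtain ⟨g, hg, hgx, -⟩ := hT.exists_sl hM (a := r) (b := 0) (c := s) (d := r⁻¹) (by field_simp; ring)
      have := (hall y hy0 hy).map hg (hM.le hg)
      simpa [hgx] using this
  refine spGL_le_of_connected hT.two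
    (S := {v | ∃ y, y ≠ 0 ∧ D y y = 0 ∧ (v = Φ (y, 0) ∨ v = Φ (0, y))}) ?_ ?_ ?_
  · rintro _ ⟨y, hy0, hy, rfl | rfl⟩
    · exact hall y hy0 hy
    · simpa using hpt y hy0 hy 0 1
  · refine eq_top_iff.2 fun v _ => ?_
    obtain ⟨⟨a, b⟩, rfl⟩ := Φ.surjective v
    set S := Submodule.span F {v | ∃ y, y ≠ 0 ∧ D y y = 0 ∧ (v = Φ (y, 0) ∨ v = Φ (0, y))}
    have h1 : ∀ a, Φ (a, 0) ∈ S := fun a =>
      hT.mem_of_singular hz0 hzz (S.comap (Φ.toLinearMap ∘ₗ LinearMap.inl F U U)) (fun y hy => by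
        rcases eq_or_ne y 0 with rfl | hy0
        · simp
        · exact Submodule.subset_span ⟨y, hy0, hy, Or.inl rfl⟩) a
    have h2 : ∀ a, Φ (0, a) ∈ S := fun a =>
      hT.mem_of_singular hz0 hzz (S.comap (Φ.toLinearMap ∘ₗ LinearMap.inr F U U)) (fun y hy => by
        rcases eq_or_ne y 0 with rfl | hy0
        · simp
        · exact Submodule.subset_span ⟨y, hy0, hy, Or.inr rfl⟩) a
    have := S.add_mem (h1 a) (h2 b)
    rwa [← map_add, Prod.mk_add_mk, add_zero, zero_add] at this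
  · have hsame : ∀ y, y ≠ 0 → D y y = 0 → Relation.ReflTransGen (PtAdj M) (Φ (y, 0)) (Φ (0, y)) := by
      intro y hy0 hy
      obtain ⟨y', hy', hyy'⟩ := hT.exists_partner hy0 hy
      have hy'0 : y' ≠ 0 := fun e => by rw [e, map_zero] at hyy'; exact zero_ne_one hyy'
      have p1 : Pt M (Φ (y', y')) := by simpa using hpt y' hy'0 hy' 1 1
      have p2 : Pt M (Φ (0, y)) := by simpa using hpt y hy0 hy 0 1
      refine (Relation.ReflTransGen.single ⟨hall y hy0 hy, p1, ?_⟩).tail ⟨p1, p2, ?_⟩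
      · rw [hT.form]; simp [hyy', hT.symm y' y]
      · rw [hT.form]; simp [hyy', hT.symm y' y]
    have hswap : ∀ y, y ≠ 0 → D y y = 0 → Relation.ReflTransGen (PtAdj M) (Φ (0, y)) (Φ (y, 0)) := by
      intro y hy0 hy
      obtain ⟨y', hy', hyy'⟩ := hT.exists_partner hy0 hy
      have hy'0 : y' ≠ 0 := fun e => by rw [e, map_zero] at hyy'; exact zero_ne_one hyy'
      have p1 : Pt M (Φ (y', y')) := by simpa using hpt y' hy'0 hy' 1 1
      have p2 : Pt M (Φ (0, y)) := by simpa using hpt y hy0 hy 0 1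
      refine (Relation.ReflTransGen.single ⟨p2, p1, ?_⟩).tail ⟨p1, hall y hy0 hy, ?_⟩
      · rw [hT.form]; simp [hyy', hT.symm y' y]
      · rw [hT.form]; simp [hyy', hT.symm y' y]
    have hch : ∀ x y, x ≠ 0 → y ≠ 0 → D x x = 0 → D y y = 0 →
        Relation.ReflTransGen (PtAdj M) (Φ (x, 0)) (Φ (y, 0)) := by
      intro x y hx0 hy0 hx hy
      induction chain x y hx0 hy0 hx hy with
      | refl => exact Relation.ReflTransGen.refl
      | @tail r w _ hrw ih =>
        have hr0 : r ≠ 0 := fun e => hrw.2.2 (by rw [e, hT.zero_left])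
        refine ((ih hr0 hrw.1).tail ⟨hall r hr0 hrw.1, by simpa using hpt w hy0 hy 0 1, ?_⟩).trans
          (hswap w hy0 hy)
        rw [hT.form, hT.zero_left, sub_zero]
        exact hrw.2.2
    rintro _ ⟨x, hx0, hx, hxe⟩ _ ⟨y, hy0, hy, hye⟩
    have h := hch x y hx0 hy0 hx hy
    rcases hxe with rfl | rfl <;> rcases hye with rfl | rfl
    exacts [h, h.trans (hsame y hy0 hy), (hswap x hx0 hx).trans h, ((hswap x hx0 hx).trans h).trans (hsame y hy0 hy)]

/-- The whole group from a symmetric map of two orthogonal vectors. -/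
theorem full_of_cross {e f : U} (he : D e e ≠ 0) (hef : D e f = 0) (hf0 : f ≠ 0)
    (h : InN M (hor Φ (cross D e f))) : spGL m F ≤ M := by
  obtain ⟨k', hk'e, hk'⟩ := hT.exists_value he (d := -D e e) (neg_ne_zero.2 he)
  have hk'0 : D k' k' ≠ 0 := by rw [hk']; exact neg_ne_zero.2 he
  obtain ⟨k, hke, hkk', hk⟩ := hT.exists_aniso_perp2 he hk'0 ((hT.symm _ _).trans hk'e)
  have hek : D e k = 0 := (hT.symm _ _).trans hke
  have h1 := hT.cross_all hM he hef hf0 h hek
  have h2 : InN M (hor Φ (cross D k e)) := h1.congr fun z => by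
    simp only [hor, cross_apply, add_comm (D _ e • k)]
  have hz : D (e + k') (e + k') = 0 := by rw [hT.quad_add, hk', (hT.symm _ _).trans hk'e]; ring
  have hz0 : e + k' ≠ 0 := fun h0 => he (by
    have := congrArg (D e) h0
    rwa [map_add, map_zero, (hT.symm _ _).trans hk'e, add_zero] at this)
  have h3 := hT.cross_all hM hk hke (fun h0 => he (by rw [h0, hT.zero_left])) h2
    (k := e + k') (by rw [map_add, hke, hkk', add_zero])
  exact hT.full_of_sq1 hM hz0 hz (hT.sq1_of_cross hM hk (by rw [map_add, hke, hkk', add_zero]) hz h3)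

/-- The whole group from an anisotropic square, over larger fields. -/
theorem full_of_sq1_aniso {c : F} (hc0 : c ≠ 0) (hc1 : c ≠ 1) (hc2 : c ≠ -1) {v : U} (hv : D v v ≠ 0)
    (h : InN M (hor Φ (sq1 D v))) : spGL m F ≤ M := by
  obtain ⟨k, hkv, hk⟩ := hT.exists_value hv (d := c * D v v) (mul_ne_zero hc0 hv)
  have hvk : D v k = 0 := (hT.symm _ _).trans hkv
  have hk0 : D k k ≠ 0 := by rw [hk]; exact mul_ne_zero hc0 hv
  have h1c : 1 + c ≠ 0 := fun e => hc2 (by linear_combination e)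
  have hd : D (v + k) (v + k) ≠ 0 := by
    rw [hT.quad_add, hvk, hk]
    intro e; exact mul_ne_zero h1c hv (by linear_combination e)
  obtain ⟨T, hTx, hTi, -⟩ := hT.exists_refl hd
  obtain ⟨R, hRx, hRi, -⟩ := hT.exists_refl hk0
  obtain ⟨α, hα⟩ : ∃ α, α = (c - 1) / (1 + c) := ⟨_, rfl⟩
  obtain ⟨β, hβ⟩ : ∃ β, β = -2 / (1 + c) := ⟨_, rfl⟩
  have hTv : T v = α • v + β • k := by
    rw [hTx, hT.quad_add, hvk, hk, map_add, hvk, hα, hβ]
    have e1 : 2 * (D v v + 0) / (D v v + 2 * 0 + c * D v v) = 2 / (1 + c) := by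
      rw [show D v v + 2 * 0 + c * D v v = (1 + c) * D v v by ring, add_zero, mul_div_mul_right _ _ hv]
    rw [e1]
    match_scalars <;> field_simp <;> ring
  have hRv : R (T v) = α • v + (-β) • k := by
    rw [hTv, map_add, map_smul, map_smul, hRx, hRx, hvk, mul_zero, zero_div, zero_smul, sub_zero,
      mul_div_assoc, div_self hk0, mul_one]
    module
  have h1 := hT.sq1_conj hM h hTi
  have h2 := hT.sq1_conj hM h1 hRi
  rw [hRv] at h2
  rw [hTv] at h1
  have hαβ : 2 * α * β ≠ 0 := by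
    rw [hα, hβ]
    exact mul_ne_zero (mul_ne_zero hT.two (div_ne_zero (sub_ne_zero.2 hc1) h1c))
      (div_ne_zero (neg_ne_zero.2 hT.two) h1c)
  refine hT.full_of_cross hM hv hvk (fun h0 => hk0 (by rw [h0, hT.zero_left])) ?_
  convert hT.hor_smul hM (hT.hor_sub hM h1 h2) (2 * α * β)⁻¹ using 3
  refine LinearMap.ext fun x => ?_
  simp only [LinearMap.smul_apply, LinearMap.sub_apply, cross_apply, sq1_apply, map_add, map_smul, smul_eq_mul]
  have := hT.two
  have hα0 : α ≠ 0 := fun e => hαβ (by rw [e]; ring)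
  have hβ0 : β ≠ 0 := fun e => hαβ (by rw [e]; ring)
  match_scalars <;> field_simp <;> ring

end TwoData

end Cfsg.Agent.Classical.TensorTwo
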