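import Cfsg.Agent.Lib.Classical.MaxTensorTwoApp

/-!
`Sp₂ ⊗ GO₄⁻` is maximal in `Sp₈` for odd `q`: the four-dimensional case of the tensor argument, where the
second factor has no totally singular plane.
-/

set_option autoImplicit false
set_option linter.unusedSectionVars false

namespace Cfsg.Agent.Classical.TensorTwo

open Matrix Module MaxTv
open scoped Kronecker

variable {F : Type*} [Field F] [Fintype F] {m : ℕ} {U : Type*} [AddCommGroup U] [Module F U]
  [FiniteDimensional F U]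

local notation "V" => (Fin m ⊕ Fin m → F)
local notation "Mn" => Matrix (Fin m ⊕ Fin m) (Fin m ⊕ Fin m) F
local notation "W" => sympForm m F
local notation "G" => GL (Fin m ⊕ Fin m) F

/-- No two independent singular vectors are orthogonal. -/
def NoPlane (D : LinearMap.BilinForm F U) : Prop :=
  ∀ x y : U, D x x = 0 → D y y = 0 → D x y = 0 → ∃ r s : F, (r ≠ 0 ∨ s ≠ 0) ∧ r • x + s • y = 0

/-- The product of two non-squares is a square. -/
theorem four_sq_mul {a b : F} (ha0 : a ≠ 0) (hb0 : b ≠ 0) (ha : ¬ IsSquare a) (hb : ¬ IsSquare b) :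
    IsSquare (a * b) := by
  classical
  have h : quadraticChar F (a * b) = 1 := by
    rw [map_mul, quadraticChar_neg_one_iff_not_isSquare.2 ha, quadraticChar_neg_one_iff_not_isSquare.2 hb]
    norm_num
  exact (quadraticChar_one_iff_isSquare (mul_ne_zero ha0 hb0)).1 h

namespace TwoData

variable {D : LinearMap.BilinForm F U} {Φ : (U × U) ≃ₗ[F] (Fin m ⊕ Fin m → F)}
  {M : Subgroup (GL (Fin m ⊕ Fin m) F)}

variable (hT : TwoData D Φ)
include hT

/-- A plane in normal form is not pure. -/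
theorem nf_not_pure {v w : U} (hv : D v v ≠ 0) (hw0 : w ≠ 0) (hvw : D v w = 0) {a b c d : F}
    (hns : b ≠ 0 ∨ c ≠ 0 ∨ a ≠ d) : ¬ Pure2 Φ (Φ (v + a • w, c • w)) (Φ (b • w, v + d • w)) := by
  rintro ⟨e, r, s, r', s', h₀, h₁⟩
  obtain ⟨h00, h01⟩ := Prod.mk.inj (Φ.injective h₀)
  obtain ⟨h10, h11⟩ := Prod.mk.inj (Φ.injective h₁)
  have e00 := congrArg (D v) h00
  have e01 := congrArg (D v) h01
  have e10 := congrArg (D v) h10
  have e11 := congrArg (D v) h11
  simp only [map_add, map_smul, smul_eq_mul, hvw, mul_zero, add_zero] at e00 e01 e10 e11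
  have hev : D v e ≠ 0 := fun h0 => hv (by rw [e00, h0, mul_zero])
  have hs : s = 0 := (mul_eq_zero.1 e01.symm).resolve_right hev
  have hr' : r' = 0 := (mul_eq_zero.1 e10.symm).resolve_right hev
  rw [hs, zero_smul] at h01
  rw [hr', zero_smul] at h10
  rcases hns with hb | hc | had
  · exact hb ((smul_eq_zero.1 h10).resolve_right hw0)
  · exact hc ((smul_eq_zero.1 h01).resolve_right hw0)
  · have hrs : r = s' := mul_right_cancel₀ hev (e00.symm.trans e11)
    rw [← hrs, ← h00] at h11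
    exact had (smul_left_injective F hw0 (add_left_cancel h11)).symm

variable (hM : Over Φ M)
include hM

/-- The normal form, away from the exceptional ratio. -/
theorem full_of_ne (hU : 4 ≤ finrank F U) {v w : U} (hv : D v v ≠ 0) (hw : D w w ≠ 0) (hvw : D v w = 0)
    {a b c d : F} (hns : b ≠ 0 ∨ c ≠ 0 ∨ a ≠ d) (hdet : a * d - b * c ≠ 0)
    (hr : RefP M (Φ (v + a • w, c • w)) (Φ (b • w, v + d • w)))
    (hne : D v v ≠ (a * d - b * c) * D w w) : spGL m F ≤ M := by
  have hwv : D w v = 0 := (hT.symm _ _).trans hvw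
  have hδ : D v v + (a * d - b * c) * D w w ≠ 0 := by
    have h := hr.ne
    rw [hT.form] at h
    simp only [map_add, map_smul, LinearMap.add_apply, LinearMap.smul_apply, smul_eq_mul, hvw, hwv] at h
    intro e'; exact h (by linear_combination e')
  obtain ⟨c', hc'⟩ : ∃ c', c' = D v v / (D v v + (a * d - b * c) * D w w) := ⟨_, rfl⟩
  have hc1 : c' * (D v v + (a * d - b * c) * D w w) = D v v := by rw [hc', div_mul_cancel₀ _ hδ]
  have hc2 : 1 - 2 * c' ≠ 0 := fun h0 => hne (by
    linear_combination -2 * hc1 - (D v v + (a * d - b * c) * D w w) * h0)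
  obtain ⟨k₁, k1v, k1w, k11⟩ := hT.exists_aniso_perp2 hv hw hvw
  obtain ⟨k₂, k2v, k2w, k21, k22⟩ := hT.exists_aniso_perp3 hU hv hw k11 hvw
    ((hT.symm _ _).trans k1v) ((hT.symm _ _).trans k1w)
  obtain ⟨x, y, hxy⟩ := exists_norm_two hT.two (z := -(D k₂ k₂ / D k₁ k₁))
    (neg_ne_zero.2 (div_ne_zero k22 k11)) (-((1 - 2 * c') * (1 - 2 * c') * D v v) / D k₁ k₁)
  have hkk : D (x • k₁ + y • k₂) (x • k₁ + y • k₂) = -((1 - 2 * c') * (1 - 2 * c') * D v v) := by
    simp only [map_add, map_smul, LinearMap.add_apply, LinearMap.smul_apply, smul_eq_mul, k21,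
      (hT.symm k₁ k₂).trans k21]
    field_simp at hxy
    linear_combination hxy
  refine hT.full_of_k hM hv hw hvw (k := x • k₁ + y • k₂) ?_ ?_ ?_ hns hdet hr (c₀ := c') hc1 hkk
  · intro h0
    rw [h0, hT.zero_left] at hkk
    exact mul_ne_zero (mul_ne_zero hc2 hc2) hv (neg_eq_zero.1 hkk.symm)
  · simp [k1v, k2v]
  · simp [k1w, k2w]

/-- The normal form, at the exceptional ratio, with a singular vector outside. -/
theorem full_of_singular {v w k : U} (hv : D v v ≠ 0) (hw : D w w ≠ 0) (hvw : D v w = 0) (hk0 : k ≠ 0)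
    (hkv : D k v = 0) (hkw : D k w = 0) (hkk : D k k = 0) {a b c d : F} (hns : b ≠ 0 ∨ c ≠ 0 ∨ a ≠ d)
    (hdet : a * d - b * c ≠ 0) (hr : RefP M (Φ (v + a • w, c • w)) (Φ (b • w, v + d • w)))
    (heq : D v v = (a * d - b * c) * D w w) : spGL m F ≤ M := by
  have h2 := hT.two
  refine hT.full_of_k hM hv hw hvw hk0 hkv hkw hns hdet hr (c₀ := 1 / 2) ?_ ?_
  · rw [← heq]; field_simp; ring
  · rw [hkk]; field_simp; ring

/-- The exceptional ratio with anisotropic complement. -/
theorem full_of_eq (hU : 4 ≤ finrank F U) (hN : NoPlane D) {v w : U} (hv : D v v ≠ 0) (hw : D w w ≠ 0)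
    (hvw : D v w = 0) {a b c d : F} (hns : b ≠ 0 ∨ c ≠ 0 ∨ a ≠ d) (hdet : a * d - b * c ≠ 0)
    (hr : RefP M (Φ (v + a • w, c • w)) (Φ (b • w, v + d • w)))
    (heq : D v v = (a * d - b * c) * D w w) : spGL m F ≤ M := by
  classical
  have h2 := hT.two
  have hwv : D w v = 0 := (hT.symm _ _).trans hvw
  obtain ⟨k₁, k1v, k1w, k11⟩ := hT.exists_aniso_perp2 hv hw hvw
  obtain ⟨k₂, k2v, k2w, k21, k22⟩ := hT.exists_aniso_perp3 hU hv hw k11 hvw
    ((hT.symm _ _).trans k1v) ((hT.symm _ _).trans k1w)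
  have k12 : D k₁ k₂ = 0 := (hT.symm _ _).trans k21
  have kv1 : D v k₁ = 0 := (hT.symm _ _).trans k1v
  have kv2 : D v k₂ = 0 := (hT.symm _ _).trans k2v
  have kw1 : D w k₁ = 0 := (hT.symm _ _).trans k1w
  have kw2 : D w k₂ = 0 := (hT.symm _ _).trans k2w
  -- the complement
  have hQ : ∀ x y : F, D (x • k₁ + y • k₂) (x • k₁ + y • k₂) = x * x * D k₁ k₁ + y * y * D k₂ k₂ := fun x y => by
    simp only [map_add, map_smul, LinearMap.add_apply, LinearMap.smul_apply, smul_eq_mul, k12, k21]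
    ring
  have hval : ∀ t : F, ∃ k, D k v = 0 ∧ D k w = 0 ∧ D k k = t ∧ ∃ k', D k' v = 0 ∧ D k' w = 0 ∧ D k' k = 0 ∧
      D k' k' = D k₁ k₁ * D k₂ k₂ * t := by
    intro t
    obtain ⟨x, y, hxy⟩ := exists_norm_two h2 (z := -(D k₂ k₂ / D k₁ k₁))
      (neg_ne_zero.2 (div_ne_zero k22 k11)) (t / D k₁ k₁)
    field_simp at hxy
    have hk : D (x • k₁ + y • k₂) (x • k₁ + y • k₂) = t := by rw [hQ]; linear_combination hxy
    refine ⟨x • k₁ + y • k₂, by simp [k1v, k2v], by simp [k1w, k2w], hk,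
      (-(y * D k₂ k₂)) • k₁ + (x * D k₁ k₁) • k₂, by simp [k1v, k2v], by simp [k1w, k2w], ?_, ?_⟩
    · simp only [map_add, map_smul, LinearMap.add_apply, LinearMap.smul_apply, smul_eq_mul, k12, k21]
      ring
    · rw [hQ]; linear_combination D k₁ k₁ * D k₂ k₂ * hxy
  by_cases hiso : ∃ x y : F, (x ≠ 0 ∨ y ≠ 0) ∧ x * x * D k₁ k₁ + y * y * D k₂ k₂ = 0
  · obtain ⟨x, y, hxy, hq⟩ := hiso
    refine hT.full_of_singular hM hv hw hvw (k := x • k₁ + y • k₂) ?_ (by simp [k1v, k2v]) (by simp [k1w, k2w])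
      (by rw [hQ]; exact hq) hns hdet hr heq
    intro h0
    have e1 := congrArg (D k₁) h0
    have e2 := congrArg (D k₂) h0
    simp only [map_add, map_smul, smul_eq_mul, k12, k21, map_zero, mul_zero, add_zero, zero_add] at e1 e2
    rcases hxy with hx | hy
    · exact hx ((mul_eq_zero.1 e1).resolve_right k11)
    · exact hy ((mul_eq_zero.1 e2).resolve_right k22)
  have haniso : ¬ IsSquare (-(D k₁ k₁ * D k₂ k₂)) := fun ⟨r, hr'⟩ => hiso
    ⟨r, D k₁ k₁, Or.inr k11, by linear_combination (-D k₁ k₁) * hr'⟩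
  -- the plane of `v` and `w` has singular vectors
  have hPsq : IsSquare (-(D v v * D w w)) := by
    by_contra hP
    obtain ⟨r, hr'⟩ := four_sq_mul (neg_ne_zero.2 (mul_ne_zero hv hw)) (neg_ne_zero.2 (mul_ne_zero k11 k22)) hP
      haniso
    obtain ⟨q, qv, qw, hq, q', q'v, q'w, hqq', hq'⟩ := hval (-D v v)
    have hr0 : r ≠ 0 := fun h0 => by
      rw [h0, mul_zero, neg_mul_neg] at hr'
      exact mul_ne_zero (mul_ne_zero hv hw) (mul_ne_zero k11 k22) hr'
    obtain ⟨s, hs⟩ : ∃ s, s = D w w / r := ⟨_, rfl⟩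
    have hz : D (v + q) (v + q) = 0 := by rw [hT.quad_add, hT.symm v q, qv, hq]; ring
    have hz' : D (w + s • q') (w + s • q') = 0 := by
      rw [hT.quad_add, hT.quad_smul, map_smul, hT.symm w q', q'w, smul_zero, hq', hs]
      field_simp
      linear_combination -(D w w) * hr'
    have hzz : D (v + q) (w + s • q') = 0 := by
      simp only [map_add, map_smul, LinearMap.add_apply, smul_eq_mul, hvw, qw, (hT.symm v q').trans q'v,
        (hT.symm q q').trans hqq', mul_zero, add_zero]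
    obtain ⟨x, y, hxy, he⟩ := hN _ _ hz hz' hzz
    have e1 := congrArg (D v) he
    have e2 := congrArg (D w) he
    simp only [map_add, map_smul, smul_eq_mul, map_zero, hvw, hwv, (hT.symm v q).trans qv,
      (hT.symm v q').trans q'v, (hT.symm w q).trans qw, (hT.symm w q').trans q'w, mul_zero, add_zero,
      zero_add] at e1 e2
    rcases hxy with hx | hy
    · exact hx ((mul_eq_zero.1 e1).resolve_right hv)
    · exact hy ((mul_eq_zero.1 e2).resolve_right hw)
  obtain ⟨r, hr'⟩ := hPsq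
  obtain ⟨l, hl⟩ : ∃ l, l = r / D w w := ⟨_, rfl⟩
  have hll : l * l = -(a * d - b * c) := by
    have e : -((a * d - b * c) * D w w * D w w) = r * r := by rw [← heq]; exact hr'
    rw [hl]; field_simp; linear_combination -e
  obtain ⟨j, hj, hjx⟩ := hr.exists
  have hδ : W (Φ (v + a • w, c • w)) (Φ (b • w, v + d • w)) = 2 * D v v := by
    rw [hT.form]
    simp only [map_add, map_smul, LinearMap.add_apply, LinearMap.smul_apply, smul_eq_mul, hvw, hwv]
    linear_combination -heq
  by_cases htr : a + d = 0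
  · -- an eigenvector gives a pure vector
    obtain ⟨x, y, hxy, e₁, e₂⟩ := exists_ker_two (a := a - l) (b := b) (c := c) (d := d - l)
      (by linear_combination hll - l * htr)
    refine hT.l1 hM hr (hT.nf_not_pure hv (fun h => hw (by rw [h, hT.zero_left])) hvw hns) hxy (v := v + l • w)
      (r := x) (s := y) ?_
    rw [phi_smul, phi_smul, phi_add]
    congr 2
    · match_scalars
      · ring
      · linear_combination e₁
    · match_scalars
      · linear_combination e₂
      · ring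
  by_cases h3 : ∃ s : F, s ≠ 0 ∧ s * s ≠ 1
  · -- move to another ratio
    obtain ⟨s, hs0, hs1⟩ := h3
    obtain ⟨k, kv, kw, hkk, -⟩ := hval (s * D v v)
    have hvk : D v k = 0 := (hT.symm _ _).trans kv
    have hwk : D w k = 0 := (hT.symm _ _).trans kw
    have hk : D k k ≠ 0 := hkk ▸ mul_ne_zero hs0 hv
    have hvk0 : D (v + k) (v + k) ≠ 0 := by
      rw [hT.quad_add, hvk, hkk]
      intro h0
      refine hs1 ?_
      have : s + 1 = 0 := (mul_eq_zero.1 (show (s + 1) * D v v = 0 by linear_combination h0)).resolve_right hv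
      linear_combination (s - 1) * this
    have hr' := hT.refP_map hM (hT.refP_pure hM hvk0) hj
    have q₀ : (j : Mn) *ᵥ Φ (v + k, 0) = Φ (k + (-a) • w, (-c) • w) := by
      rw [hjx, hδ, hT.form, hT.form]
      simp only [map_add, map_smul, LinearMap.add_apply, LinearMap.smul_apply, smul_eq_mul, hvw, kv, kw,
        phi_smul, phi_sub, map_zero, LinearMap.zero_apply]
      congr 2 <;> match_scalars <;> field_simp <;> ring
    have q₁ : (j : Mn) *ᵥ Φ (0, v + k) = Φ ((-b) • w, k + (-d) • w) := by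
      rw [hjx, hδ, hT.form, hT.form]
      simp only [map_add, map_smul, LinearMap.add_apply, LinearMap.smul_apply, smul_eq_mul, hvw, kv, kw,
        phi_smul, phi_sub, map_zero, LinearMap.zero_apply]
      congr 2 <;> match_scalars <;> field_simp <;> ring
    rw [q₀, q₁] at hr'
    refine hT.full_of_ne hM hU hk hw kw ?_ (by rwa [neg_mul_neg, neg_mul_neg]) hr' ?_
    · rcases hns with h | h | h
      · exact Or.inl (neg_ne_zero.2 h)
      · exact Or.inr (Or.inl (neg_ne_zero.2 h))
      · exact Or.inr (Or.inr fun e => h (neg_inj.1 e))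
    · rw [neg_mul_neg, neg_mul_neg, ← heq, hkk]
      intro h0
      exact hs1 (by rw [mul_right_cancel₀ hv (h0.trans (one_mul _).symm), one_mul])
  -- three elements
  push Not at h3
  have hdet' : a * d - b * c = -1 := by
    have hl0 : l ≠ 0 := fun h0 => hdet (by linear_combination hll - l * h0)
    linear_combination hll - h3 l hl0
  have hkk12 : D k₁ k₁ * D k₂ k₂ = 1 := by
    have h := h3 _ (mul_ne_zero k11 k22)
    rcases mul_self_eq_one_iff.1 h with e | e
    · exact e
    · exact absurd ⟨1, by rw [e, neg_neg, one_mul]⟩ haniso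
  obtain ⟨k, kv, kw, hkk, k', k'v, k'w, hk'k, hk'⟩ := hval (D v v)
  rw [hkk12, one_mul] at hk'
  have hvk : D v k = 0 := (hT.symm _ _).trans kv
  have hwk : D w k = 0 := (hT.symm _ _).trans kw
  have hk : D k k ≠ 0 := hkk ▸ hv
  have hsing : D (w + k') (w + k') = 0 := by
    rw [hT.quad_add, hT.symm w k', k'w, hk', heq, hdet']; ring
  have hn0 : w + k' ≠ 0 := fun h0 => hw (by
    have := congrArg (D w) h0
    rwa [map_add, hT.symm w k', k'w, add_zero, map_zero] at this)
  -- a second plane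
  have hsd : D (v - k) (v - k) ≠ 0 := by
    simp only [map_sub, LinearMap.sub_apply, hvk, kv, hkk]
    intro h0
    exact mul_ne_zero h2 hv (by linear_combination h0)
  obtain ⟨T, hTx, hTi, -⟩ := hT.exists_refl hsd
  have hTv : T v = k := by
    rw [hTx, show D v (v - k) = D v v by rw [map_sub, hvk, sub_zero],
      show D (v - k) (v - k) = 2 * D v v by
        simp only [map_sub, LinearMap.sub_apply, hvk, kv, hkk]; ring,
      div_self (mul_ne_zero h2 hv), one_smul, sub_sub_cancel]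
  have hTw : T w = w := by rw [hTx, map_sub, hwv, hwk, sub_zero, mul_zero, zero_div, zero_smul, sub_zero]
  obtain ⟨g, hg, hgx⟩ := hT.exists_diag hM hTi
  have hrk := hT.refP_map hM hr hg
  simp only [hgx, map_add, map_smul, hTv, hTw] at hrk
  have key : ∀ a' b' c' d' : F, RefP M (Φ (k + a' • w, c' • w)) (Φ (b' • w, k + d' • w)) →
      a' * d' - b' * c' = a * d - b * c → a' + d' = a + d → (a' ≠ a ∨ b' ≠ b ∨ c' ≠ c ∨ d' ≠ d) →
      spGL m F ≤ M := by
    intro a' b' c' d' h hd' ht hne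
    have hr' := hT.refP_map hM h hj
    obtain ⟨Δ, hΔ⟩ : ∃ Δ, Δ = a * d - b * c := ⟨_, rfl⟩
    have hΔ0 : Δ ≠ 0 := hΔ ▸ hdet
    obtain ⟨A, hA⟩ : ∃ A, A = (c' * b - a' * d) / Δ := ⟨_, rfl⟩
    obtain ⟨C, hC⟩ : ∃ C, C = (a' * c - c' * a) / Δ := ⟨_, rfl⟩
    obtain ⟨B, hB⟩ : ∃ B, B = (d' * b - b' * d) / Δ := ⟨_, rfl⟩
    obtain ⟨E, hE⟩ : ∃ E, E = (b' * c - d' * a) / Δ := ⟨_, rfl⟩
    have hvΔ : D v v = Δ * D w w := hΔ ▸ heq
    have q₀ : (j : Mn) *ᵥ Φ (k + a' • w, c' • w) = Φ (k + A • v, C • v) := by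
      rw [hjx, hδ, hT.form, hT.form]
      simp only [map_add, map_smul, LinearMap.add_apply, LinearMap.smul_apply, smul_eq_mul, hvw, hwv, kv, kw,
        hvΔ, phi_smul, phi_sub]
      congr 2 <;> match_scalars <;> (try simp only [hA, hC]) <;> field_simp <;> (try rw [hΔ]) <;> ring
    have q₁ : (j : Mn) *ᵥ Φ (b' • w, k + d' • w) = Φ (B • v, k + E • v) := by
      rw [hjx, hδ, hT.form, hT.form]
      simp only [map_add, map_smul, LinearMap.add_apply, LinearMap.smul_apply, smul_eq_mul, hvw, hwv, kv, kw,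
        hvΔ, phi_smul, phi_sub]
      congr 2 <;> match_scalars <;> (try simp only [hB, hE]) <;> field_simp <;> (try rw [hΔ]) <;> ring
    rw [q₀, q₁] at hr'
    have hdetC : A * E - B * C = 1 := by
      rw [hA, hE, hB, hC]; field_simp
      linear_combination (a * d - b * c) * hd' + (-(Δ + (a * d - b * c))) * hΔ
    have eA : A * a + C * b = -a' := by rw [hA, hC]; field_simp; rw [hΔ]; ring
    have eC : A * c + C * d = -c' := by rw [hA, hC]; field_simp; rw [hΔ]; ring
    have eB : B * a + E * b = -b' := by rw [hB, hE]; field_simp; rw [hΔ]; ring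
    have eE : B * c + E * d = -d' := by rw [hB, hE]; field_simp; rw [hΔ]; ring
    refine hT.full_of_singular hM hk hv kv hn0 ?_ ?_ hsing (a := A) (b := B) (c := C) (d := E) ?_
      (hdetC ▸ one_ne_zero) hr' (by rw [hdetC, one_mul]; exact hkk)
    · rw [map_add, LinearMap.add_apply, hwk, hk'k, add_zero]
    · rw [map_add, LinearMap.add_apply, hwv, k'v, add_zero]
    · by_contra hc
      push Not at hc
      obtain ⟨hB0, hC0, hAE⟩ := hc
      have hA1 : A = -1 := by
        have : (A + 1) * (a + d) = 0 := by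
          linear_combination eA + eE - b * hC0 - c * hB0 + d * hAE - ht
        exact eq_neg_of_add_eq_zero_left ((mul_eq_zero.1 this).resolve_right htr)
      rcases hne with h1 | h1 | h1 | h1
      · exact h1 (by linear_combination eA - a * hA1 - b * hC0)
      · exact h1 (by linear_combination eB - b * hA1 - a * hB0 + b * hAE)
      · exact h1 (by linear_combination eC - c * hA1 - d * hC0)
      · exact h1 (by linear_combination eE - d * hA1 - c * hB0 + d * hAE)
  by_cases hup : c ≠ 0 ∨ a ≠ d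
  · obtain ⟨h', hh', hhx, -⟩ := hT.exists_sl hM (a := 1) (b := 1) (c := 0) (d := 1) (by ring)
    have h := (hT.refP_map hM hrk hh').basis (a := 1) (b := 0) (c := -1) (d := 1) (by norm_num)
    simp only [hhx, phi_smul, phi_add] at h
    refine key (a + c) (b + d - a - c) c (d - c) ?_ (by ring) (by ring) ?_
    · convert h using 1 <;> congr 2 <;> module
    · by_contra hc
      push Not at hc
      obtain ⟨e1, e2, -, -⟩ := hc
      rcases hup with h' | h'
      · exact h' (by linear_combination e1)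
      · exact h' (by linear_combination -e2 - e1)
  · push Not at hup
    have hb : b ≠ 0 := by
      rcases hns with h | h | h
      exacts [h, absurd hup.1 h, absurd hup.2 h]
    obtain ⟨h', hh', hhx, -⟩ := hT.exists_sl hM (a := 1) (b := 0) (c := 1) (d := 1) (by ring)
    have h := (hT.refP_map hM hrk hh').basis (a := 1) (b := -1) (c := 0) (d := 1) (by norm_num)
    simp only [hhx, phi_smul, phi_add] at h
    refine key (a - b) b (a + c - b - d) (b + d) ?_ (by ring) (by ring) (Or.inl fun e => hb ?_)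
    · convert h using 1 <;> congr 2 <;> module
    · linear_combination -e

/-- Dimension four, without totally singular planes. -/
theorem full4 (hU : finrank F U = 4) (hN : NoPlane D) {p₀ p₁ : V} (hr : RefP M p₀ p₁)
    (hnp : ¬ Pure2 Φ p₀ p₁) : spGL m F ≤ M := by
  by_contra hfull
  obtain ⟨⟨u₀, w₀⟩, rfl⟩ := Φ.surjective p₀
  obtain ⟨⟨u₁, w₁⟩, rfl⟩ := Φ.surjective p₁
  let κ : U →ₗ[F] F × F := (D.flip w₀).prod (D.flip w₁)
  obtain ⟨K, hK⟩ : ∃ K, K = LinearMap.ker κ := ⟨_, rfl⟩
  have hKm : ∀ y, y ∈ K ↔ D y w₀ = 0 ∧ D y w₁ = 0 := fun y => by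
    rw [hK, LinearMap.mem_ker]; simp [κ, Prod.ext_iff]
  have hdim : 2 ≤ finrank F K := by
    have h1 := κ.finrank_range_add_finrank_ker
    have h2 := Submodule.finrank_le (LinearMap.range κ)
    rw [finrank_prod, finrank_self] at h2
    rw [hK]; omega
  have hnd : LinearMap.BilinForm.Nondegenerate D := ⟨hT.nd, fun b h => hT.nd b fun a => (hT.symm b a).trans (h a)⟩
  have hperp := LinearMap.BilinForm.finrank_orthogonal hnd K
  obtain ⟨f, hfK, hf⟩ : ∃ f ∈ K, D f f ≠ 0 := by
    by_contra hc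
    push Not at hc
    obtain ⟨x, hxK, hx0⟩ := Submodule.exists_mem_ne_zero_of_ne_bot (p := K) (fun h => by
      rw [h, finrank_bot] at hdim; omega)
    obtain ⟨y, hyK, hy⟩ : ∃ y ∈ K, y ∉ Submodule.span F {x} := by
      by_contra hc'
      push Not at hc'
      have := Submodule.finrank_mono (R := F) (hc' : K ≤ Submodule.span F {x})
      rw [finrank_span_singleton hx0] at this
      omega
    have h := hc (x + y) (K.add_mem hxK hyK)
    rw [hT.quad_add, hc x hxK, hc y hyK] at h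
    obtain ⟨r, s, hrs, he⟩ := hN x y (hc x hxK) (hc y hyK)
      ((mul_eq_zero.1 (show (2 : F) * D x y = 0 by linear_combination h)).resolve_left hT.two)
    by_cases hs : s = 0
    · rw [hs, zero_smul, add_zero] at he
      rcases hrs with hr0 | hs0
      · exact hx0 ((smul_eq_zero.1 he).resolve_left hr0)
      · exact hs0 hs
    · refine hy (Submodule.mem_span_singleton.2 ⟨-(r / s), ?_⟩)
      have : s • y = -(r • x) := eq_neg_of_add_eq_zero_right he
      rw [show (-(r / s)) • x = s⁻¹ • -(r • x) by rw [smul_neg, smul_smul, neg_smul, div_eq_inv_mul], ← this,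
        smul_smul, inv_mul_cancel₀ hs, one_smul]
  have hK' : ∀ y ∈ K, D y y ≠ 0 → D y u₀ = 0 ∧ D y u₁ = 0 := fun y hy hyy => by
    rcases hT.step2 hM hr hnp hyy (r := 1) (s := 0) (Or.inl one_ne_zero)
        (by rw [hT.form, one_smul, zero_smul, hT.zero_left, sub_zero]; exact ((hKm y).1 hy).1)
        (by rw [hT.form, one_smul, zero_smul, hT.zero_left, sub_zero]; exact ((hKm y).1 hy).2)
      with h | ⟨h1, -, h3, -⟩
    · exact absurd h hfull
    · rw [LinearEquiv.symm_apply_apply] at h1 h3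
      exact ⟨h1, h3⟩
  have hKall : ∀ y ∈ K, D y u₀ = 0 ∧ D y u₁ = 0 := by
    intro y hy
    by_cases hyy : D y y = 0
    swap
    · exact hK' y hy hyy
    obtain ⟨a, b⟩ := hK' f hfK hf
    by_cases h1 : D (y + f) (y + f) = 0
    · have h2 : D (y + (-1 : F) • f) (y + (-1 : F) • f) ≠ 0 := fun e2 => hf (by
        rw [hT.quad_add, hyy] at h1
        rw [hT.quad_add, hT.quad_smul, hyy, map_smul, smul_eq_mul] at e2
        exact (mul_eq_zero.1 (show (2 : F) * D f f = 0 by linear_combination h1 + e2)).resolve_left hT.two)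
      simpa [a, b] using hK' _ (K.add_mem hy (K.smul_mem _ hfK)) h2
    · simpa [a, b] using hK' _ (K.add_mem hy hfK) h1
  obtain ⟨L, hL⟩ : ∃ L, L = LinearMap.BilinForm.orthogonal D K := ⟨_, rfl⟩
  have hLd : finrank F L ≤ 2 := by rw [hL]; omega
  have hu₀ : u₀ ∈ L := by rw [hL, LinearMap.BilinForm.mem_orthogonal_iff]; exact fun n hn => (hKall n hn).1
  have hu₁ : u₁ ∈ L := by rw [hL, LinearMap.BilinForm.mem_orthogonal_iff]; exact fun n hn => (hKall n hn).2
  have hw₀ : w₀ ∈ L := by rw [hL, LinearMap.BilinForm.mem_orthogonal_iff]; exact fun n hn => ((hKm n).1 hn).1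
  have hw₁ : w₁ ∈ L := by rw [hL, LinearMap.BilinForm.mem_orthogonal_iff]; exact fun n hn => ((hKm n).1 hn).2
  obtain ⟨v, hvL, hv⟩ : ∃ v ∈ L, D v v ≠ 0 := by
    by_contra hc
    push Not at hc
    have h0 : ∀ x ∈ L, ∀ y ∈ L, D x y = 0 := fun x hx y hy => by
      have h := hc (x + y) (L.add_mem hx hy)
      rw [hT.quad_add, hc x hx, hc y hy] at h
      exact (mul_eq_zero.1 (show (2 : F) * D x y = 0 by linear_combination h)).resolve_left hT.two
    exact hr.ne (by rw [hT.form, h0 _ hu₀ _ hw₁, h0 _ hw₀ _ hu₁, sub_zero])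
  obtain ⟨L', hL'⟩ : ∃ L', L' = L ⊓ LinearMap.ker (D v) := ⟨_, rfl⟩
  have hlt : finrank F L' < finrank F L := Submodule.finrank_lt_finrank_of_lt
    (lt_of_le_of_ne (hL' ▸ inf_le_left) fun e => hv (by
      have : v ∈ L' := e ▸ hvL
      rw [hL'] at this
      exact LinearMap.mem_ker.1 this.2))
  obtain ⟨w, hw⟩ := finrank_le_one_iff.1 (by omega : finrank F L' ≤ 1)
  have hdec : ∀ x ∈ L, ∃ α a : F, x = α • v + a • (w : U) := fun x hx => by
    obtain ⟨a, ha⟩ := hw ⟨x - (D v x / D v v) • v, by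
      rw [hL']
      exact ⟨L.sub_mem hx (L.smul_mem _ hvL),
        LinearMap.mem_ker.2 (by rw [map_sub, map_smul, smul_eq_mul, div_mul_cancel₀ _ hv, sub_self])⟩⟩
    refine ⟨D v x / D v v, a, ?_⟩
    rw [show a • (w : U) = x - (D v x / D v v) • v from congrArg Subtype.val ha, add_sub_cancel]
  have hvw : D v (w : U) = 0 := by
    have h : (w : U) ∈ L ⊓ LinearMap.ker (D v) := hL'.le w.2
    exact LinearMap.mem_ker.1 h.2
  obtain ⟨α₀, a₀, e₀⟩ := hdec _ hu₀
  obtain ⟨γ₀, c₀, f₀⟩ := hdec _ hw₀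
  obtain ⟨α₁, a₁, e₁⟩ := hdec _ hu₁
  obtain ⟨γ₁, c₁, f₁⟩ := hdec _ hw₁
  by_cases hw0 : (w : U) = 0
  · exact hnp ⟨v, α₀, γ₀, α₁, γ₁, by rw [e₀, f₀, hw0]; simp, by rw [e₁, f₁, hw0]; simp⟩
  rcases hT.normal_form hM hr hnp (v := v) (w := (w : U)) (congrArg₂ (fun x y => Φ (x, y)) e₀ f₀)
    (congrArg₂ (fun x y => Φ (x, y)) e₁ f₁) with h | ⟨a, b, c, d, hr', hns, hdet⟩
  · exact hfull h
  by_cases hww : D (w : U) w = 0
  · exact hfull (hT.l2 hM hv hvw hww hw0 hns hr')
  by_cases heq : D v v = (a * d - b * c) * D (w : U) w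
  · exact hfull (hT.full_of_eq hM hU.ge hN hv hww hvw hns hdet hr' heq)
  · exact hfull (hT.full_of_ne hM hU.ge hv hww hvw hns hdet hr' heq)

end TwoData

/-- `Sp₂ ⊗ GO₄⁻` is maximal. -/
theorem symplectic_tensor_two_maximal_four (hodd : Odd (Fintype.card F))
    (e : (Fin m ⊕ Fin m) ≃ Fin 2 × Fin 4) (P : GL (Fin m ⊕ Fin m) F) (f₁ : (Fin 2 → F) → (Fin 2 → F) → F)
    (f₂ : (Fin 4 → F) → (Fin 4 → F) → F) (hf₁ : Geo.IsSymplecticForm f₁) (hf₂ : Geo.IsSymmetricForm f₂)
    (hminus : ¬ Geo.IsPlusTypeOn (fun v : Fin 4 → F => f₂ v v) ⊤)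
    (hS : Geo.IsTensorFormStructure id (sympForm m F) f₁ f₂ e P) :
    Geo.IsMaximalIn (spGL m F) (Geo.tensorProductSubgroup 2 4 e P ⊓ spGL m F) := by
  classical
  obtain ⟨c, hc, hpol⟩ := hS
  obtain ⟨γ, hγ⟩ : ∃ γ, γ = c * f₁ (Pi.single 0 1) (Pi.single 1 1) := ⟨_, rfl⟩
  have hγ0 : γ ≠ 0 := by
    intro h0
    obtain ⟨x, hx⟩ := (hf₁.nondegenerate (Pi.single 0 1) (by simp)).2
    apply hx
    rw [gram_apply hf₁.bilinear]
    have e01 : Geo.gramMatrix f₁ 0 1 = 0 := (mul_eq_zero.1 (hγ.symm.trans h0)).resolve_left hc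
    have e00 : Geo.gramMatrix f₁ 0 0 = 0 := hf₁.alternating _
    simp [Fin.sum_univ_two, e00, e01]
  let D : LinearMap.BilinForm F (Fin 4 → F) := LinearMap.mk₂ F (fun x y => γ * f₂ x y)
    (fun x y z => by simp only [hf₂.bilinear.add_left, mul_add])
    (fun a x y => by simp only [hf₂.bilinear.smul_left, smul_eq_mul]; ring)
    (fun x y z => by simp only [hf₂.bilinear.add_right, mul_add])
    (fun a x y => by simp only [hf₂.bilinear.smul_right, smul_eq_mul]; ring)
  have hN : NoPlane D := by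
    intro x y hx hy hxy
    by_contra hcon
    push Not at hcon
    have hli : LinearIndependent F ![x, y] := LinearIndependent.pair_iff.2 fun r s h =>
      Classical.byContradiction fun hrs => hcon r s (not_and_or.1 hrs) h
    refine hminus ⟨Submodule.span F (Set.range ![x, y]), le_top, ?_, ?_⟩
    · intro z hz
      simp only [Matrix.range_cons, Matrix.range_empty, Set.union_empty, Set.singleton_union] at hz
      obtain ⟨r, s, rfl⟩ := Submodule.mem_span_pair.1 hz
      have h : D (r • x + s • y) (r • x + s • y) = 0 := by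
        have hyx : D y x = 0 := by
          simpa only [D, LinearMap.mk₂_apply, hf₂.symm y x] using hxy
        simp only [map_add, map_smul, LinearMap.add_apply, LinearMap.smul_apply, smul_eq_mul, hx, hy, hxy, hyx,
          mul_zero, add_zero]
      exact (mul_eq_zero.1 h).resolve_left hγ0
    · rw [finrank_span_eq_card hli, finrank_top, finrank_pi, Fintype.card_fin, Fintype.card_fin]
  let Φ : ((Fin 4 → F) × (Fin 4 → F)) ≃ₗ[F] (Fin m ⊕ Fin m → F) :=
    (pairEquiv 4).trans (TensorMax.coordEquiv e P)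
  have h2 : (2 : F) ≠ 0 := by
    intro h0
    have hch : CharP F 2 := CharTwo.of_one_ne_zero_of_two_eq_zero one_ne_zero h0
    have := FiniteField.even_card_of_char_two (F := F) (ringChar.eq F 2 (C := hch))
    rw [Nat.odd_iff] at hodd
    omega
  have hform : ∀ u v u' v' : Fin 4 → F, sympForm m F (Φ (u, v)) (Φ (u', v')) = D u v' - D v u' := by
    intro u v u' v'
    simp only [Φ, LinearEquiv.trans_apply, TensorMax.coordEquiv_apply, hpol, D, LinearMap.mk₂_apply]
    rw [gram_apply hf₂.bilinear u v', gram_apply hf₂.bilinear v u']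
    have e00 : f₁ (Pi.single 0 1) (Pi.single 0 1) = 0 := hf₁.alternating _
    have e11 : f₁ (Pi.single 1 1) (Pi.single 1 1) = 0 := hf₁.alternating _
    simp only [Geo.formOfGram, Fintype.sum_prod_type, Fin.sum_univ_two, Matrix.kroneckerMap_apply, id,
      pairEquiv_zero, pairEquiv_one, Finset.mul_sum, ← Finset.sum_add_distrib, ← Finset.sum_sub_distrib]
    refine Finset.sum_congr rfl fun i _ => ?_
    simp only [Geo.gramMatrix, e00, e11, hf₁.skew (Pi.single 1 1) (Pi.single 0 1), Finset.mul_sum,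
      ← Finset.sum_add_distrib, ← Finset.sum_sub_distrib]
    refine Finset.sum_congr rfl fun j _ => ?_
    rw [hγ]; ring
  have hT : TwoData D Φ :=
    { symm := fun x y => by simp only [D, LinearMap.mk₂_apply, hf₂.symm x y]
      nd := fun x hx => by
        by_contra h0
        obtain ⟨y, hy⟩ := (hf₂.nondegenerate x h0).2
        exact mul_ne_zero hγ0 hy (hx y)
      two := h2
      form := hform
      dim := by rw [finrank_pi, Fintype.card_fin]; omega
      big := Or.inr (by rw [finrank_pi, Fintype.card_fin]) }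
  let ψ : GL (Fin 2 × Fin 4) F ≃* GL (Fin m ⊕ Fin m) F := (Geo.glReindex e.symm).trans (MulAut.conj P)
  have hψ : ∀ (k : GL (Fin 2 × Fin 4) F) p, (ψ k : Matrix (Fin m ⊕ Fin m) (Fin m ⊕ Fin m) F) *ᵥ Φ p =
      TensorMax.coordEquiv e P ((k : Matrix (Fin 2 × Fin 4) (Fin 2 × Fin 4) F) *ᵥ pairEquiv 4 p) :=
    fun k p => TensorMax.coord_compat e P k _
  have hkron : ∀ (A : Matrix (Fin 2) (Fin 2) F) (B : Matrix (Fin 4) (Fin 4) F) u v,
      (A ⊗ₖ B) *ᵥ pairEquiv 4 (u, v) =
        pairEquiv 4 (B *ᵥ (A 0 0 • u + A 0 1 • v), B *ᵥ (A 1 0 • u + A 1 1 • v)) := by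
    intro A B u v
    funext ⟨i, j⟩
    fin_cases i <;>
      simp [Matrix.mulVec, dotProduct, Fintype.sum_prod_type, pairEquiv, Matrix.kroneckerMap_apply,
        ← Finset.sum_add_distrib] <;>
      exact Finset.sum_congr rfl fun l _ => by ring
  have hiff : ∀ g, g ∈ Geo.tensorProductSubgroup 2 4 e P ↔ IsPair Φ g := by
    intro g
    rw [Geo.tensorProductSubgroup, Subgroup.map_map]
    constructor
    · rintro ⟨k, ⟨A, B, hk⟩, rfl⟩
      refine ⟨A.1 0 0, A.1 0 1, A.1 1 0, A.1 1 1,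
        LinearEquiv.ofInjectiveEndo (Matrix.mulVecLin B.1) (MaxTv.gl_mulVec_injective B), fun u v => ?_⟩
      show (ψ k : Matrix (Fin m ⊕ Fin m) (Fin m ⊕ Fin m) F) *ᵥ _ = _
      rw [hψ, hk, hkron]
      rfl
    · rintro ⟨a, b', c', d, T, hg⟩
      obtain ⟨u₀, hu₀⟩ : ∃ u : Fin 4 → F, u ≠ 0 := ⟨Pi.single 0 1, by simp⟩
      have hdet : a * d - b' * c' ≠ 0 := fun h0 => by
        obtain ⟨x, y, hxy, e₁, e₂⟩ := exists_ker_two h0
        have h := hg (x • u₀) (y • u₀)
        rw [smul_smul, smul_smul, smul_smul, smul_smul, ← add_smul, ← add_smul, e₁, e₂, zero_smul, map_zero,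
          Prod.mk_zero_zero, map_zero, ← Matrix.mulVec_zero (g : Matrix (Fin m ⊕ Fin m) (Fin m ⊕ Fin m) F)] at h
        have h' := MaxTv.gl_mulVec_injective g h
        rw [LinearEquiv.map_eq_zero_iff, Prod.ext_iff] at h'
        rcases hxy with hx | hy
        · exact (smul_ne_zero hx hu₀) h'.1
        · exact (smul_ne_zero hy hu₀) h'.2
      obtain ⟨B, hB⟩ := exists_gl_of_injective T.toLinearMap T.injective
      have hA : Matrix.det !![a, b'; c', d] ≠ 0 := by rwa [Matrix.det_fin_two_of]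
      refine ⟨ψ.symm g, ⟨Matrix.GeneralLinearGroup.mkOfDetNeZero _ hA, B,
        Matrix.ext_iff_mulVec.2 fun t => ?_⟩, ψ.apply_symm_apply g⟩
      obtain ⟨⟨u, v⟩, rfl⟩ := (pairEquiv 4).surjective t
      refine (TensorMax.coordEquiv e P).injective ?_
      rw [← hψ, MulEquiv.apply_symm_apply, hg, hkron, hB, hB]
      rfl
  have hle : Geo.tensorProductSubgroup 2 4 e P ⊓ spGL m F ≤ spGL m F := inf_le_right
  refine ⟨lt_of_le_of_ne hle fun heq => ?_, fun M hMle hMsp => ?_⟩
  · obtain ⟨v, hv⟩ := hT.exists_aniso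
    obtain ⟨w, hwv, hw⟩ := hT.exists_aniso_perp1 hv
    let L : (Fin m ⊕ Fin m → F) →ₗ[F] (Fin m ⊕ Fin m → F) := LinearMap.id +
      Φ.toLinearMap ∘ₗ (LinearMap.inl F _ _) ∘ₗ sq1 D v ∘ₗ (LinearMap.snd F _ _) ∘ₗ Φ.symm.toLinearMap
    have hL : ∀ u u', L (Φ (u, u')) = Φ (u + D u' v • v, u') := fun u u' => by
      simp [L, sq1_apply, ← map_add]
    have hiso : ∀ x y, sympForm m F (L x) (L y) = sympForm m F x y := by
      intro x y
      obtain ⟨⟨u, u'⟩, rfl⟩ := Φ.surjective x
      obtain ⟨⟨z, z'⟩, rfl⟩ := Φ.surjective y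
      rw [hL, hL, hform, hform]
      simp only [map_add, map_smul, LinearMap.add_apply, LinearMap.smul_apply, smul_eq_mul, hT.symm v z',
        hT.symm u' v]
      ring
    obtain ⟨g, hg⟩ := exists_gl_of_injective L fun x y hxy => by
      refine sub_eq_zero.1 (sesq_sympForm.eq_zero _ fun z => ?_)
      have h0 : sympForm m F (L (x - y)) (L z) = 0 := by rw [map_sub, hxy, sub_self, sesq_sympForm.zero_left]
      rw [hiso] at h0
      exact sesq_sympForm.refl _ _ h0
    have hgK : g ∈ spGL m F := mem_spGL.2 fun x y => by rw [hg, hg, hiso]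
    rw [← heq] at hgK
    obtain ⟨a, b', c', d, T, hT'⟩ := (hiff g).1 hgK.1
    have hcomp : ∀ u u', u + D u' v • v = T (a • u + b' • u') ∧ u' = T (c' • u + d • u') := fun u u' =>
      Prod.mk.inj (Φ.injective ((hL u u').symm.trans ((hg _).symm.trans (hT' u u'))))
    have h1 := (hcomp v 0).1
    have h2' := (hcomp 0 v).1
    have h3 := (hcomp 0 w).1
    simp only [map_zero, LinearMap.zero_apply, zero_smul, add_zero, smul_zero, zero_add, map_smul, hwv] at h1 h2' h3
    have hb0 : b' = 0 := by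
      have hw0 : T w ≠ 0 := fun h0 => hw (by simp [T.map_eq_zero_iff.1 h0])
      exact (smul_eq_zero.1 h3.symm).resolve_right hw0
    rw [hb0, zero_smul] at h2'
    exact hv ((smul_eq_zero.1 h2').resolve_right fun h0 => hv (by simp [h0]))
  · by_cases hall : ∀ g ∈ M, IsPair Φ g
    · exact Or.inl (le_antisymm (fun g hg => ⟨(hiff g).2 (hall g hg), hMsp hg⟩) hMle)
    · push Not at hall
      obtain ⟨g, hg, hgp⟩ := hall
      have hM : Over Φ M := ⟨hMsp, fun g hgs hp => hMle ⟨(hiff g).2 hp, hgs⟩⟩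
      obtain ⟨p₀, p₁, hr, hnp⟩ := hT.exists_not_pure hM hg hgp
      refine Or.inr (le_antisymm hMsp (hT.full4 hM ?_ hN hr hnp))
      rw [finrank_pi, Fintype.card_fin]

end Cfsg.Agent.Classical.TensorTwo
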