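import Cfsg.Agent.Lib.Classical.MaxTensorTwoSwap

/-!
Every element outside `Sp₂ ⊗ GO(U)` generates, with it, the whole symplectic group, for `dim U = 3`, `q ≥ 5`
and for `dim U ≥ 5`.
-/

set_option autoImplicit false
set_option linter.unusedSectionVars false

namespace Cfsg.Agent.Classical.TensorTwo

open Matrix Module MaxTv

variable {F : Type*} [Field F] [Fintype F] {m : ℕ} {U : Type*} [AddCommGroup U] [Module F U]
  [FiniteDimensional F U]

local notation "V" => (Fin m ⊕ Fin m → F)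
local notation "Mn" => Matrix (Fin m ⊕ Fin m) (Fin m ⊕ Fin m) F
local notation "W" => sympForm m F
local notation "G" => GL (Fin m ⊕ Fin m) F

/-- A singular `2 × 2` matrix kills a non-zero vector. -/
theorem exists_ker_two {a b c d : F} (h : a * d - b * c = 0) :
    ∃ x y : F, (x ≠ 0 ∨ y ≠ 0) ∧ a * x + b * y = 0 ∧ c * x + d * y = 0 := by
  by_cases h1 : a = 0 ∧ b = 0
  · by_cases h2 : c = 0 ∧ d = 0
    · exact ⟨1, 0, Or.inl one_ne_zero, by simp [h1.1], by simp [h2.1]⟩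
    · refine ⟨d, -c, ?_, by simp [h1.1, h1.2], by ring⟩
      by_contra hc
      push Not at hc
      exact h2 ⟨neg_eq_zero.1 hc.2, hc.1⟩
  · refine ⟨b, -a, ?_, by ring, by linear_combination -h⟩
    by_contra hc
    push Not at hc
    exact h1 ⟨neg_eq_zero.1 hc.2, hc.1⟩

namespace TwoData

variable {D : LinearMap.BilinForm F U} {Φ : (U × U) ≃ₗ[F] (Fin m ⊕ Fin m → F)}
  {M : Subgroup (GL (Fin m ⊕ Fin m) F)}

variable (hT : TwoData D Φ)
include hT

/-- Three vectors with dual vectors span a three-dimensional space. -/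
theorem expand3 (h3 : finrank F U = 3) (l r : Fin 3 → U) (h : ∀ i j, D (l i) (r j) = if i = j then 1 else 0)
    (x : U) : x = D x (r 0) • l 0 + D x (r 1) • l 1 + D x (r 2) • l 2 := by
  classical
  have hli : LinearIndependent F r := Fintype.linearIndependent_iff.2 fun g hg i => by
    have := congrArg (D (l i)) hg
    rw [map_sum, map_zero] at this
    simpa [map_smul, h] using this
  have htop := hli.span_eq_top_of_card_eq_finrank (by simp [h3])
  refine sub_eq_zero.1 (hT.nd _ fun y => ?_)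
  have hy : y ∈ LinearMap.ker (D (x - (D x (r 0) • l 0 + D x (r 1) • l 1 + D x (r 2) • l 2))) := by
    refine Submodule.span_le.2 ?_ (htop ▸ Submodule.mem_top : y ∈ Submodule.span F (Set.range r))
    rintro _ ⟨j, rfl⟩
    rw [SetLike.mem_coe, LinearMap.mem_ker]
    fin_cases j <;>
      simp [map_sub, map_add, LinearMap.sub_apply, LinearMap.add_apply, map_smul, LinearMap.smul_apply, h]
  exact LinearMap.mem_ker.1 hy

theorem expand_orth (h3 : finrank F U = 3) {e v w : U} (he : D e e ≠ 0) (hv : D v v ≠ 0) (hw : D w w ≠ 0)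
    (hev : D e v = 0) (hew : D e w = 0) (hvw : D v w = 0) (x : U) :
    x = (D x e / D e e) • e + (D x v / D v v) • v + (D x w / D w w) • w := by
  have h := hT.expand3 h3 ![e, v, w] ![(D e e)⁻¹ • e, (D v v)⁻¹ • v, (D w w)⁻¹ • w] (fun i j => by
    fin_cases i <;> fin_cases j <;>
      simp [he, hv, hw, hev, hew, hvw, (hT.symm v e).trans hev, (hT.symm w e).trans hew, (hT.symm w v).trans hvw])
    x
  simpa [map_smul, div_eq_inv_mul] using h

variable (hM : Over Φ M)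
include hM

/-- Planes over two orthogonal vectors: a normal form. -/
theorem normal_form {p₀ p₁ : V} (hr : RefP M p₀ p₁) (hnp : ¬ Pure2 Φ p₀ p₁) {v w : U}
    {α₀ a₀ γ₀ c₀ α₁ a₁ γ₁ c₁ : F} (h₀ : p₀ = Φ (α₀ • v + a₀ • w, γ₀ • v + c₀ • w))
    (h₁ : p₁ = Φ (α₁ • v + a₁ • w, γ₁ • v + c₁ • w)) :
    spGL m F ≤ M ∨ ∃ a b c d : F, RefP M (Φ (v + a • w, c • w)) (Φ (b • w, v + d • w)) ∧
      (b ≠ 0 ∨ c ≠ 0 ∨ a ≠ d) ∧ a * d - b * c ≠ 0 := by
  rw [or_iff_not_imp_left]
  intro hfull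
  obtain ⟨Δ, hΔ⟩ : ∃ Δ, Δ = α₀ * γ₁ - α₁ * γ₀ := ⟨_, rfl⟩
  have hΔ0 : Δ ≠ 0 := by
    intro h0
    obtain ⟨x, y, hxy, e₁, e₂⟩ := exists_ker_two (hΔ.symm.trans h0)
    refine hfull (hT.l1 hM hr hnp hxy (v := w) (r := x * a₀ + y * a₁) (s := x * c₀ + y * c₁) ?_)
    rw [h₀, h₁, phi_smul, phi_smul, phi_add]
    congr 2
    · match_scalars
      · linear_combination e₁
      · ring
    · match_scalars
      · linear_combination e₂
      · ring
  obtain ⟨a, ha⟩ : ∃ a, a = (γ₁ * a₀ - γ₀ * a₁) / Δ := ⟨_, rfl⟩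
  obtain ⟨c, hc⟩ : ∃ c, c = (γ₁ * c₀ - γ₀ * c₁) / Δ := ⟨_, rfl⟩
  obtain ⟨b, hb⟩ : ∃ b, b = (α₀ * a₁ - α₁ * a₀) / Δ := ⟨_, rfl⟩
  obtain ⟨d, hd⟩ : ∃ d, d = (α₀ * c₁ - α₁ * c₀) / Δ := ⟨_, rfl⟩
  have hdet : γ₁ / Δ * (α₀ / Δ) - -γ₀ / Δ * (-α₁ / Δ) ≠ 0 := by
    rw [show γ₁ / Δ * (α₀ / Δ) - -γ₀ / Δ * (-α₁ / Δ) = 1 / Δ by field_simp; rw [hΔ]; ring]
    exact div_ne_zero one_ne_zero hΔ0
  have e₀ : (γ₁ / Δ) • p₀ + (-γ₀ / Δ) • p₁ = Φ (v + a • w, c • w) := by
    rw [h₀, h₁, phi_smul, phi_smul, phi_add]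
    congr 2
    · match_scalars
      · field_simp; rw [hΔ]; ring
      · rw [ha]; field_simp; ring
    · match_scalars
      · field_simp; ring
      · rw [hc]; field_simp; ring
  have e₁ : (-α₁ / Δ) • p₀ + (α₀ / Δ) • p₁ = Φ (b • w, v + d • w) := by
    rw [h₀, h₁, phi_smul, phi_smul, phi_add]
    congr 2
    · match_scalars
      · field_simp; ring
      · rw [hb]; field_simp; ring
    · match_scalars
      · field_simp; rw [hΔ]; ring
      · rw [hd]; field_simp; ring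
  have hr' := hr.basis hdet
  have hnp' := not_pure_basis hnp hdet
  rw [e₀, e₁] at hr' hnp'
  refine ⟨a, b, c, d, hr', ?_, fun h0 => ?_⟩
  · by_contra hns
    push Not at hns
    obtain ⟨hb0, hc0, had⟩ := hns
    exact hnp' ⟨v + a • w, 1, 0, 0, 1, by simp [hc0], by simp [hb0, had]⟩
  · obtain ⟨x, y, hxy, e₁, e₂⟩ := exists_ker_two h0
    refine hfull (hT.l1 hM hr' hnp' hxy (v := v) (r := x) (s := y) ?_)
    rw [phi_smul, phi_smul, phi_add]
    congr 2 <;> match_scalars <;> first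
      | (ring; done)
      | linear_combination e₁
      | linear_combination e₂

/-- The normal form, with a vector of given length outside. -/
theorem full_of_k {v w k : U} (hv : D v v ≠ 0) (hw : D w w ≠ 0) (hvw : D v w = 0) (hk0 : k ≠ 0)
    (hkv : D k v = 0) (hkw : D k w = 0) {a b c d : F} (hns : b ≠ 0 ∨ c ≠ 0 ∨ a ≠ d) (hdet : a * d - b * c ≠ 0)
    (hr : RefP M (Φ (v + a • w, c • w)) (Φ (b • w, v + d • w))) {c₀ : F}
    (hc₀ : c₀ * (D v v + (a * d - b * c) * D w w) = D v v)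
    (hkk : D k k = -((1 - 2 * c₀) * (1 - 2 * c₀) * D v v)) : spGL m F ≤ M := by
  have hwv : D w v = 0 := (hT.symm _ _).trans hvw
  have hvk : D v k = 0 := (hT.symm _ _).trans hkv
  have hwk : D w k = 0 := (hT.symm _ _).trans hkw
  have hc00 : c₀ ≠ 0 := fun h0 => hv (by rw [← hc₀, h0, zero_mul])
  have hc01 : 1 - c₀ ≠ 0 := fun h0 => mul_ne_zero hdet hw (by linear_combination hc₀ + (D v v + (a * d - b * c) * D w w) * h0)
  have h2 := hT.two
  have hDvk : D (v + k) (v + k) = 4 * c₀ * (1 - c₀) * D v v := by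
    rw [hT.quad_add, hvk, hkk]; ring
  have hvk0 : D (v + k) (v + k) ≠ 0 := by
    rw [hDvk, show (4 : F) = 2 * 2 by norm_num]
    exact mul_ne_zero (mul_ne_zero (mul_ne_zero (mul_ne_zero h2 h2) hc00) hc01) hv
  obtain ⟨δ, hδ⟩ : ∃ δ, δ = W (Φ (v + a • w, c • w)) (Φ (b • w, v + d • w)) := ⟨_, rfl⟩
  have hδ0 : δ ≠ 0 := hδ ▸ hr.ne
  have hδ' : δ = D v v + (a * d - b * c) * D w w := by
    rw [hδ, hT.form]
    simp only [map_add, map_smul, LinearMap.add_apply, LinearMap.smul_apply, smul_eq_mul, hvw, hwv]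
    ring
  have hc₀' : c₀ = D v v / δ := by rw [eq_div_iff hδ0, hδ', hc₀]
  obtain ⟨j, hj, hjx⟩ := hr.exists
  have hr' := hT.refP_map hM (hT.refP_pure hM hvk0) hj
  obtain ⟨l, hl⟩ : ∃ l, l = (1 - 2 * c₀) • v + k := ⟨_, rfl⟩
  have q₀ : (j : Mn) *ᵥ Φ (v + k, 0) = Φ (l - (2 * c₀ * a) • w, -(2 * c₀ * c) • w) := by
    rw [hjx, ← hδ, hT.form, hT.form]
    simp only [map_add, map_smul, LinearMap.add_apply, LinearMap.smul_apply, smul_eq_mul, hvw, hkv, hkw,
      phi_smul, phi_sub, map_zero, LinearMap.zero_apply, hl]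
    congr 2 <;> match_scalars <;> (try rw [hc₀']) <;> field_simp <;> ring
  have q₁ : (j : Mn) *ᵥ Φ (0, v + k) = Φ (-(2 * c₀ * b) • w, l - (2 * c₀ * d) • w) := by
    rw [hjx, ← hδ, hT.form, hT.form]
    simp only [map_add, map_smul, LinearMap.add_apply, LinearMap.smul_apply, smul_eq_mul, hvw, hkv, hkw,
      phi_smul, phi_sub, map_zero, LinearMap.zero_apply, hl]
    congr 2 <;> match_scalars <;> (try rw [hc₀']) <;> field_simp <;> ring
  rw [q₀, q₁] at hr'
  have hwl : D w l = 0 := by rw [hl, map_add, map_smul, hwv, hwk, smul_zero, add_zero]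
  have hll : D l l = 0 := by
    rw [hl, hT.quad_add, hT.quad_smul, map_smul, LinearMap.smul_apply, hvk, smul_zero, hkk]; ring
  have hl0 : l ≠ 0 := fun h0 => by
    have h := congrArg (D v) h0
    rw [hl, map_add, map_smul, hvk, map_zero, smul_eq_mul, add_zero] at h
    rw [hl, (mul_eq_zero.1 h).resolve_right hv, zero_smul, zero_add] at h0
    exact hk0 h0
  obtain ⟨s, hs⟩ : ∃ s, s = -(2 * c₀ * (a * d - b * c))⁻¹ := ⟨_, rfl⟩
  have hs0 : s ≠ 0 := hs ▸ neg_ne_zero.2 (inv_ne_zero (mul_ne_zero (mul_ne_zero h2 hc00) hdet))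
  have hdet' : s * d * (s * a) - -(s * c) * -(s * b) ≠ 0 := by
    rw [show s * d * (s * a) - -(s * c) * -(s * b) = s * s * (a * d - b * c) by ring]
    exact mul_ne_zero (mul_ne_zero hs0 hs0) hdet
  have hr'' := hr'.basis (a := s * d) (b := -(s * c)) (c := -(s * b)) (d := s * a) hdet'
  have hns' : -(s * b) ≠ 0 ∨ -(s * c) ≠ 0 ∨ s * d ≠ s * a := by
    rcases hns with h | h | h
    · exact Or.inl (neg_ne_zero.2 (mul_ne_zero hs0 h))
    · exact Or.inr (Or.inl (neg_ne_zero.2 (mul_ne_zero hs0 h)))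
    · exact Or.inr (Or.inr fun e => h (mul_left_cancel₀ hs0 e).symm)
  have hsΔ : s * (2 * c₀ * (a * d - b * c)) = -1 := by
    rw [hs, neg_mul, inv_mul_cancel₀ (mul_ne_zero (mul_ne_zero h2 hc00) hdet)]
  refine hT.l2 hM hw hwl hll hl0 hns' ?_
  convert hr'' using 1
  · rw [phi_smul, phi_smul, phi_add]
    congr 2 <;> match_scalars <;> first | (ring; done) | linear_combination hsΔ
  · rw [phi_smul, phi_smul, phi_add]
    congr 2 <;> match_scalars <;> first | (ring; done) | linear_combination hsΔ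

/-- In dimension three, a plane whose components have a common perpendicular. -/
theorem full_of_perp3 (h3 : finrank F U = 3) (hq : 5 ≤ Fintype.card F) {p₀ p₁ : V} (hr : RefP M p₀ p₁)
    (hnp : ¬ Pure2 Φ p₀ p₁) {e : U} (he0 : e ≠ 0) (h00 : D e (Φ.symm p₀).1 = 0) (h01 : D e (Φ.symm p₀).2 = 0)
    (h10 : D e (Φ.symm p₁).1 = 0) (h11 : D e (Φ.symm p₁).2 = 0) : spGL m F ≤ M := by
  obtain ⟨⟨u₀, w₀⟩, rfl⟩ := Φ.surjective p₀
  obtain ⟨⟨u₁, w₁⟩, rfl⟩ := Φ.surjective p₁
  rw [LinearEquiv.symm_apply_apply] at h00 h01 h10 h11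
  obtain ⟨s₀, hs₀, hs₁⟩ : ∃ s : F, s ≠ 0 ∧ s * s ≠ 1 := hT.big.resolve_right (by omega)
  by_cases hee : D e e = 0
  · obtain ⟨v, hve, hv⟩ := hT.exists_aniso_perp_singular he0 hee
    obtain ⟨e', he', hee'⟩ := hT.exists_partner he0 hee
    obtain ⟨f, hf⟩ : ∃ f, f = e' - (D v e' / D v v) • v := ⟨_, rfl⟩
    have hev : D e v = 0 := (hT.symm _ _).trans hve
    have hvf : D v f = 0 := by rw [hf, map_sub, map_smul, smul_eq_mul, div_mul_cancel₀ _ hv, sub_self]
    have hef : D e f = 1 := by rw [hf, map_sub, map_smul, hev, smul_zero, sub_zero, hee']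
    have hexp := hT.expand3 h3 ![v, e, f - (D f f) • e] ![(D v v)⁻¹ • v, f, e] (fun i j => by
      fin_cases i <;> fin_cases j <;>
        simp [hv, hev, hve, hvf, hef, hee, (hT.symm f v).trans hvf, (hT.symm f e).trans hef])
    have hL : ∀ x, D e x = 0 → x = (D x v / D v v) • v + D x f • e := fun x hx => by
      have h := hexp x
      simpa [div_eq_inv_mul, (hT.symm x e).trans hx] using h
    rcases hT.normal_form hM hr hnp (v := v) (w := e) (congrArg₂ (fun x y => Φ (x, y)) (hL u₀ h00) (hL w₀ h01))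
        (congrArg₂ (fun x y => Φ (x, y)) (hL u₁ h10) (hL w₁ h11)) with h | ⟨a, b, c, d, hr', hns, -⟩
    · exact h
    · exact hT.l2 hM hv hve hee he0 hns hr'
  · obtain ⟨v, hve, hvv⟩ := hT.exists_value hee (d := -D e e) (neg_ne_zero.2 hee)
    have hev : D e v = 0 := (hT.symm _ _).trans hve
    have hv : D v v ≠ 0 := by rw [hvv]; exact neg_ne_zero.2 hee
    obtain ⟨w, hwe, hwv, hw⟩ := hT.exists_aniso_perp2 hee hv hev
    have hew : D e w = 0 := (hT.symm _ _).trans hwe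
    have hvw : D v w = 0 := (hT.symm _ _).trans hwv
    have hsp := hT.expand_orth h3 hee hv hw hev hew hvw
    have hL : ∀ x, D e x = 0 → x = (D x v / D v v) • v + (D x w / D w w) • w := fun x hx => by
      have h := hsp x
      rwa [(hT.symm x e).trans hx, zero_div, zero_smul, zero_add] at h
    rcases hT.normal_form hM hr hnp (v := v) (w := w) (congrArg₂ (fun x y => Φ (x, y)) (hL u₀ h00) (hL w₀ h01))
        (congrArg₂ (fun x y => Φ (x, y)) (hL u₁ h10) (hL w₁ h11)) with h | ⟨a, b, c, d, hr', hns, hdet⟩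
    · exact h
    have hδ : D v v + (a * d - b * c) * D w w ≠ 0 := by
      have h := hr'.ne
      rw [hT.form] at h
      simp only [map_add, map_smul, LinearMap.add_apply, LinearMap.smul_apply, smul_eq_mul, hvw, hwv] at h
      intro e'; exact h (by linear_combination e')
    obtain ⟨c₀, hc₀⟩ : ∃ c₀, c₀ = D v v / (D v v + (a * d - b * c) * D w w) := ⟨_, rfl⟩
    have hc₀' : c₀ * (D v v + (a * d - b * c) * D w w) = D v v := by rw [hc₀, div_mul_cancel₀ _ hδ]
    by_cases hk : 1 - 2 * c₀ = 0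
    · refine hT.swap hM hq hs₀ hs₁ hee hv hw hev hew hvw hsp hns ?_ hr'
      linear_combination -2 * hc₀' - (D v v + (a * d - b * c) * D w w) * hk
    · refine hT.full_of_k hM hv hw hvw (k := (1 - 2 * c₀) • e) (smul_ne_zero hk he0) ?_ ?_ hns hdet hr' hc₀' ?_
      · rw [map_smul, LinearMap.smul_apply, hev, smul_zero]
      · rw [map_smul, LinearMap.smul_apply, hew, smul_zero]
      · rw [hT.quad_smul, hvv]; ring

/-- In dimension three, the plane spanned by `(h, v)` and `(u, -h)`. -/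
theorem full_of_gram (h3 : finrank F U = 3) {h v u : U}
    (hinj : ∀ e, D e h = 0 → D e u = 0 → D e v = 0 → e = 0) (hr : RefP M (Φ (h, v)) (Φ (u, -h)))
    (hnp : ¬ Pure2 Φ (Φ (h, v)) (Φ (u, -h))) : spGL m F ≤ M := by
  classical
  by_contra hfull
  obtain ⟨s₀, hs₀, hs₁⟩ : ∃ s : F, s ≠ 0 ∧ s * s ≠ 1 := hT.big.resolve_right (by omega)
  have hsing : ∀ e, D e h * D e h + D e u * D e v = 0 → D e e = 0 := by
    intro e hrel
    by_contra he
    obtain ⟨r, s, hrs, e₀, e₁⟩ : ∃ r s : F, (r ≠ 0 ∨ s ≠ 0) ∧ r * D e v - s * D e h = 0 ∧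
        r * -D e h - s * D e u = 0 := by
      by_cases h0 : D e h = 0 ∧ D e v = 0
      · exact ⟨1, 0, Or.inl one_ne_zero, by rw [h0.2]; ring, by rw [h0.1]; ring⟩
      · exact ⟨D e h, D e v, not_and_or.1 h0, by ring, by linear_combination -hrel⟩
    rcases hT.step2 hM hr hnp he hrs
        (by rw [hT.form]; simp only [map_smul, LinearMap.smul_apply, smul_eq_mul]; exact e₀)
        (by rw [hT.form]; simp only [map_smul, map_neg, LinearMap.smul_apply, smul_eq_mul]; linear_combination e₁)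
      with h' | ⟨h1, h2, h3', -⟩
    · exact hfull h'
    · simp only [LinearEquiv.symm_apply_apply] at h1 h2 h3'
      exact he (by rw [hinj e h1 h3' h2, hT.zero_left])
  -- dual vectors
  let χ : U →ₗ[F] (Fin 3 → F) := LinearMap.pi fun i => D.flip (![h, u, v] i)
  have hχ : Function.Surjective χ := (LinearMap.injective_iff_surjective_of_finrank_eq_finrank
    (by rw [finrank_pi, Fintype.card_fin, h3])).1 ((injective_iff_map_eq_zero χ).2 fun e he =>
      hinj e (congrFun he 0) (congrFun he 1) (congrFun he 2))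
  obtain ⟨H, hH⟩ := hχ ![1, 0, 0]
  obtain ⟨P, hP⟩ := hχ ![0, 1, 0]
  obtain ⟨Q, hQ⟩ := hχ ![0, 0, 1]
  have Hh : D H h = 1 := by simpa [χ] using congrFun hH 0
  have Hu : D H u = 0 := by simpa [χ] using congrFun hH 1
  have Hv : D H v = 0 := by simpa [χ] using congrFun hH 2
  have Ph : D P h = 0 := by simpa [χ] using congrFun hP 0
  have Pu : D P u = 1 := by simpa [χ] using congrFun hP 1
  have Pv : D P v = 0 := by simpa [χ] using congrFun hP 2
  have Qh : D Q h = 0 := by simpa [χ] using congrFun hQ 0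
  have Qu : D Q u = 0 := by simpa [χ] using congrFun hQ 1
  have Qv : D Q v = 1 := by simpa [χ] using congrFun hQ 2
  have h2 := hT.two
  have PP : D P P = 0 := hsing P (by rw [Ph, Pu, Pv]; ring)
  have QQ : D Q Q = 0 := hsing Q (by rw [Qh, Qu, Qv]; ring)
  have hs : ∀ s : F, s * s * D H H + 2 * s * D H Q - 2 * s * s * s * D H P - 2 * (s * s) * D P Q = 0 := by
    intro s
    have h' := hsing (s • H + (-(s * s)) • P + Q) (by
      simp only [map_add, map_smul, LinearMap.add_apply, LinearMap.smul_apply, smul_eq_mul, Hh, Hu, Hv, Ph, Pu, Pv,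
        Qh, Qu, Qv]
      ring)
    simp only [map_add, map_smul, LinearMap.add_apply, LinearMap.smul_apply, smul_eq_mul, hT.symm P H,
      hT.symm Q H, hT.symm Q P, PP, QQ] at h'
    linear_combination h'
  have h4 : (4 : F) ≠ 0 := by rw [show (4 : F) = 2 * 2 by norm_num]; exact mul_ne_zero h2 h2
  obtain ⟨κ, hκ⟩ : ∃ κ, κ = D P Q := ⟨_, rfl⟩
  have HH : D H H = 2 * κ := sub_eq_zero.1 ((mul_eq_zero.1 (show (2 : F) * (D H H - 2 * κ) = 0 by
    rw [hκ]; linear_combination hs 1 + hs (-1))).resolve_left h2)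
  have HP : D H P = 0 := by
    refine (mul_eq_zero.1 (show (4 * (s₀ * (1 - s₀ * s₀))) * D H P = 0 by
      linear_combination hs s₀ - hs (-s₀) - s₀ * (hs 1 - hs (-1)))).resolve_left ?_
    exact mul_ne_zero h4 (mul_ne_zero hs₀ (sub_ne_zero.2 (Ne.symm hs₁)))
  have HQ : D H Q = 0 := (mul_eq_zero.1 (show (4 : F) * D H Q = 0 by
    linear_combination hs 1 - hs (-1) + 4 * HP)).resolve_left h4
  have hexp := hT.expand3 h3 ![H, P, Q] ![h, u, v] (fun i j => by
    fin_cases i <;> fin_cases j <;> simp [Hh, Hu, Hv, Ph, Pu, Pv, Qh, Qu, Qv])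
  have hext : ∀ x y, D x H = D y H → D x P = D y P → D x Q = D y Q → x = y := fun x y a b c =>
    sub_eq_zero.1 (hT.nd _ fun z => by
      rw [hexp z]
      simp [map_sub, LinearMap.sub_apply, a, b, c])
  have PH : D P H = 0 := (hT.symm _ _).trans HP
  have QH : D Q H = 0 := (hT.symm _ _).trans HQ
  have QP : D Q P = κ := (hT.symm _ _).trans hκ.symm
  have hκ0 : κ ≠ 0 := fun h0 => by
    have : H = 0 := hext H 0 (by rw [HH, h0, hT.zero_left, mul_zero]) (by rw [HP, hT.zero_left])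
      (by rw [HQ, hT.zero_left])
    rw [this, hT.zero_left] at Hh
    exact zero_ne_one Hh
  have he : h = (2 * κ)⁻¹ • H := hext _ _ (by
      rw [hT.symm h H, Hh, map_smul, LinearMap.smul_apply, HH, smul_eq_mul, inv_mul_cancel₀ (mul_ne_zero h2 hκ0)])
    (by rw [hT.symm h P, Ph, map_smul, LinearMap.smul_apply, HP, smul_zero])
    (by rw [hT.symm h Q, Qh, map_smul, LinearMap.smul_apply, HQ, smul_zero])
  have ue : u = κ⁻¹ • Q := hext _ _ (by rw [hT.symm u H, Hu, map_smul, LinearMap.smul_apply, QH, smul_zero])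
    (by rw [hT.symm u P, Pu, map_smul, LinearMap.smul_apply, QP, smul_eq_mul, inv_mul_cancel₀ hκ0])
    (by rw [hT.symm u Q, Qu, map_smul, LinearMap.smul_apply, QQ, smul_zero])
  have ve : v = κ⁻¹ • P := hext _ _ (by rw [hT.symm v H, Hv, map_smul, LinearMap.smul_apply, PH, smul_zero])
    (by rw [hT.symm v P, Pv, map_smul, LinearMap.smul_apply, PP, smul_zero])
    (by rw [hT.symm v Q, Qv, map_smul, LinearMap.smul_apply, ← hκ, smul_eq_mul, inv_mul_cancel₀ hκ0])
  have hh : D h h = (2 * κ)⁻¹ := by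
    rw [he, hT.quad_smul, HH]; field_simp
  have hvu : D v u = 2 * (2 * κ)⁻¹ := by
    rw [ve, ue, map_smul, map_smul, LinearMap.smul_apply, ← hκ, smul_eq_mul, smul_eq_mul]; field_simp
  have hhv : D h v = 0 := by rw [he, map_smul, LinearMap.smul_apply, Hv, smul_zero]
  have hhu : D h u = 0 := by rw [he, map_smul, LinearMap.smul_apply, Hu, smul_zero]
  have hh0 : D h h ≠ 0 := by rw [hh]; exact inv_ne_zero (mul_ne_zero h2 hκ0)
  obtain ⟨δ, hδ⟩ : ∃ δ, δ = W (Φ (h, v)) (Φ (u, -h)) := ⟨_, rfl⟩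
  have hδ' : δ = -3 * D h h := by
    rw [hδ, hT.form, map_neg, hvu, hh]; ring
  have h3F : (3 : F) ≠ 0 := fun h0 => hr.ne (by rw [← hδ, hδ', h0]; ring)
  obtain ⟨j, hj, hjx⟩ := hr.exists
  have hr' := hT.refP_map hM (hT.refP_pure hM hh0) hj
  have q₀ : (j : Mn) *ᵥ Φ (h, 0) = (3 : F)⁻¹ • Φ (h, -(2 : F) • v) := by
    rw [hjx, ← hδ, hδ', hT.form, hT.form]
    simp only [map_neg, map_zero, LinearMap.zero_apply, hhv, phi_smul, phi_sub]
    congr 2 <;> match_scalars <;> field_simp <;> ring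
  have q₁ : (j : Mn) *ᵥ Φ (0, h) = (3 : F)⁻¹ • Φ ((2 : F) • u, h) := by
    rw [hjx, ← hδ, hδ', hT.form, hT.form]
    simp only [map_neg, map_zero, LinearMap.zero_apply, hhu, phi_smul, phi_sub]
    congr 2 <;> match_scalars <;> field_simp <;> ring
  rw [q₀, q₁] at hr'
  have hr'' : RefP M (Φ (h, -(2 : F) • v)) (Φ ((2 : F) • u, h)) := by
    have := hr'.basis (a := 3) (b := 0) (c := 0) (d := 3) (by simpa using mul_ne_zero h3F h3F)
    simpa [smul_smul, h3F] using this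
  have hnp'' : ¬ Pure2 Φ (Φ (h, -(2 : F) • v)) (Φ ((2 : F) • u, h)) := by
    rintro ⟨x, r, s, r', s', e₀, -⟩
    obtain ⟨ex, ey⟩ := Prod.mk.inj (Φ.injective e₀)
    have hr0 : r ≠ 0 := fun h0 => hh0 (by rw [ex, h0, zero_smul, hT.zero_left])
    have h1 := congrArg (D Q) ey
    have h1' : D Q x = 0 := by
      have := congrArg (D Q) ex
      rw [Qh, map_smul, smul_eq_mul] at this
      exact (mul_eq_zero.1 this.symm).resolve_left hr0
    rw [map_smul, map_smul, Qv, h1', smul_zero, smul_eq_mul, mul_one] at h1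
    exact h2 (neg_eq_zero.1 h1)
  obtain ⟨e, he'⟩ : ∃ e, e = (4 : F) • H + (2 : F) • P + (-2 : F) • Q := ⟨_, rfl⟩
  have ee : D e e ≠ 0 := by
    have : D e e = 24 * κ := by
      rw [he']
      simp only [map_add, map_smul, LinearMap.add_apply, LinearMap.smul_apply, smul_eq_mul, HH, HP, HQ, PH, QH,
        QP, ← hκ, PP, QQ]
      ring
    rw [this, show (24 : F) = 2 * 2 * 2 * 3 by norm_num]
    exact mul_ne_zero (mul_ne_zero (mul_ne_zero (mul_ne_zero h2 h2) h2) h3F) hκ0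
  have eh : D e h = 4 := by rw [he']; simp [Hh, Ph, Qh]
  have eu : D e u = 2 := by rw [he']; simp [Hu, Pu, Qu]
  have ev : D e v = -2 := by rw [he']; simp [Hv, Pv, Qv]
  rcases hT.step2 hM hr'' hnp'' ee (r := 1) (s := 1) (Or.inl one_ne_zero)
      (by rw [hT.form]; simp [eh, ev]; ring) (by rw [hT.form]; simp [eh, eu]; ring)
    with h' | ⟨h1, -, -, -⟩
  · exact hfull h'
  · rw [LinearEquiv.symm_apply_apply, eh] at h1
    exact h4 h1

/-- Dimension three. -/
theorem full3 (h3 : finrank F U = 3) (hq : 5 ≤ Fintype.card F) {p₀ p₁ : V} (hr : RefP M p₀ p₁)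
    (hnp : ¬ Pure2 Φ p₀ p₁) : spGL m F ≤ M := by
  obtain ⟨⟨u₀, w₀⟩, rfl⟩ := Φ.surjective p₀
  obtain ⟨⟨u₁, w₁⟩, rfl⟩ := Φ.surjective p₁
  obtain ⟨g, hg, i, hi⟩ := Fintype.not_linearIndependent_iff.1
    (fun h : LinearIndependent F ![u₀, u₁, w₀, w₁] => by
      have := h.fintype_card_le_finrank
      rw [Fintype.card_fin] at this
      omega)
  simp only [Fin.sum_univ_four, Matrix.cons_val_zero, Matrix.cons_val_one, Matrix.cons_val] at hg
  by_cases hdet : g 0 * g 3 - g 1 * g 2 = 0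
  · by_cases h01 : g 0 = 0 ∧ g 1 = 0
    · have h23 : g 2 ≠ 0 ∨ g 3 ≠ 0 := by
        by_contra hc
        push Not at hc
        fin_cases i <;> simp_all
      refine hT.l1 hM hr hnp h23 (v := g 2 • u₀ + g 3 • u₁) (r := 1) (s := 0) ?_
      rw [h01.1, h01.2, zero_smul, zero_smul, zero_add, zero_add] at hg
      rw [phi_smul, phi_smul, phi_add, hg, one_smul, zero_smul]
    · obtain ⟨s, hs2, hs3⟩ : ∃ s, g 2 = s * g 0 ∧ g 3 = s * g 1 := by
        by_cases h0 : g 0 = 0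
        · have h1 : g 1 ≠ 0 := fun h1 => h01 ⟨h0, h1⟩
          have h20 : g 2 = 0 := by
            rw [h0] at hdet
            exact (mul_eq_zero.1 (show g 1 * g 2 = 0 by linear_combination -hdet)).resolve_left h1
          exact ⟨g 3 / g 1, by rw [h0, h20, mul_zero], by rw [div_mul_cancel₀ _ h1]⟩
        · exact ⟨g 2 / g 0, by rw [div_mul_cancel₀ _ h0],
            by field_simp; linear_combination hdet⟩
      refine hT.l1 hM hr hnp (not_and_or.1 h01) (v := g 0 • w₀ + g 1 • w₁) (r := -s) (s := 1) ?_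
      rw [hs2, hs3] at hg
      rw [phi_smul, phi_smul, phi_add, one_smul]
      congr 2
      refine sub_eq_zero.1 (Eq.trans ?_ hg)
      module
  have hr' := hr.basis hdet
  have hnp' := not_pure_basis hnp hdet
  rw [phi_smul, phi_smul, phi_add, phi_smul, phi_smul, phi_add] at hr' hnp'
  have e : g 2 • w₀ + g 3 • w₁ = -(g 0 • u₀ + g 1 • u₁) := by
    rw [eq_neg_iff_add_eq_zero]
    refine Eq.trans ?_ hg
    abel
  rw [e] at hr' hnp'
  by_cases hc : ∃ x, x ≠ 0 ∧ D x (g 0 • u₀ + g 1 • u₁) = 0 ∧ D x (g 2 • u₀ + g 3 • u₁) = 0 ∧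
      D x (g 0 • w₀ + g 1 • w₁) = 0
  · obtain ⟨x, hx0, h1, h2, h3'⟩ := hc
    refine hT.full_of_perp3 hM h3 hq hr' hnp' hx0 ?_ ?_ ?_ ?_ <;> rw [LinearEquiv.symm_apply_apply]
    exacts [h1, h3', h2, by rw [map_neg, h1, neg_zero]]
  · push Not at hc
    exact hT.full_of_gram hM h3 (fun x h1 h2 h3' => by
      by_contra hx
      exact hc x hx h1 h2 h3') hr' hnp'

/-- Dimension at least five. -/
theorem full5 (h5 : 5 ≤ finrank F U) {p₀ p₁ : V} (hr : RefP M p₀ p₁) (hnp : ¬ Pure2 Φ p₀ p₁) :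
    spGL m F ≤ M := by
  by_contra hfull
  obtain ⟨⟨u₀, w₀⟩, rfl⟩ := Φ.surjective p₀
  obtain ⟨⟨u₁, w₁⟩, rfl⟩ := Φ.surjective p₁
  let κ : U →ₗ[F] F × F := (D.flip w₀).prod (D.flip w₁)
  obtain ⟨K, hK⟩ : ∃ K, K = LinearMap.ker κ := ⟨_, rfl⟩
  have hKm : ∀ y, y ∈ K ↔ D y w₀ = 0 ∧ D y w₁ = 0 := fun y => by
    rw [hK, LinearMap.mem_ker]; simp [κ, Prod.ext_iff]
  have hdim : finrank F U ≤ finrank F K + 2 := by
    have h1 := κ.finrank_range_add_finrank_ker
    have h2 := Submodule.finrank_le (LinearMap.range κ)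
    rw [finrank_prod, finrank_self] at h2
    rw [hK]; omega
  have hnd : LinearMap.BilinForm.Nondegenerate D := ⟨hT.nd, fun b h => hT.nd b fun a => (hT.symm b a).trans (h a)⟩
  have hperp := LinearMap.BilinForm.finrank_orthogonal hnd K
  obtain ⟨f, hfK, hf⟩ : ∃ f ∈ K, D f f ≠ 0 := by
    by_contra hc
    push Not at hc
    have hle : K ≤ LinearMap.BilinForm.orthogonal D K := fun x hx =>
      LinearMap.BilinForm.mem_orthogonal_iff.2 fun n hn => by
        have h := hc (n + x) (K.add_mem hn hx)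
        rw [hT.quad_add, hc n hn, hc x hx] at h
        exact (mul_eq_zero.1 (show (2 : F) * D n x = 0 by linear_combination h)).resolve_left hT.two
    have := Submodule.finrank_mono hle
    omega
  have hK' : ∀ y ∈ K, D y y ≠ 0 → D y u₀ = 0 ∧ D y u₁ = 0 := fun y hy hyy => by
    rcases hT.step2 hM hr hnp hyy (r := 1) (s := 0) (Or.inl one_ne_zero)
        (by rw [hT.form, one_smul, zero_smul, hT.zero_left, sub_zero]; exact ((hKm y).1 hy).1)
        (by rw [hT.form, one_smul, zero_smul, hT.zero_left, sub_zero]; exact ((hKm y).1 hy).2)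
      with h | ⟨h1, -, h3, -⟩
    · exact absurd h hfull
    · rw [LinearEquiv.symm_apply_apply] at h1 h3
      exact ⟨h1, h3⟩
  have hKall : ∀ y ∈ K, D y u₀ = 0 ∧ D y u₁ = 0 := by
    intro y hy
    by_cases hyy : D y y = 0
    swap
    · exact hK' y hy hyy
    obtain ⟨a, b⟩ := hK' f hfK hf
    by_cases h1 : D (y + f) (y + f) = 0
    · have h2 : D (y + (-1 : F) • f) (y + (-1 : F) • f) ≠ 0 := fun e2 => hf (by
        rw [hT.quad_add, hyy] at h1
        rw [hT.quad_add, hT.quad_smul, hyy, map_smul, smul_eq_mul] at e2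
        exact (mul_eq_zero.1 (show (2 : F) * D f f = 0 by linear_combination h1 + e2)).resolve_left hT.two)
      simpa [a, b] using hK' _ (K.add_mem hy (K.smul_mem _ hfK)) h2
    · simpa [a, b] using hK' _ (K.add_mem hy hfK) h1
  obtain ⟨L, hL⟩ : ∃ L, L = LinearMap.BilinForm.orthogonal D K := ⟨_, rfl⟩
  have hLd : finrank F L ≤ 2 := by rw [hL]; omega
  have hu₀ : u₀ ∈ L := by rw [hL, LinearMap.BilinForm.mem_orthogonal_iff]; exact fun n hn => (hKall n hn).1
  have hu₁ : u₁ ∈ L := by rw [hL, LinearMap.BilinForm.mem_orthogonal_iff]; exact fun n hn => (hKall n hn).2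
  have hw₀ : w₀ ∈ L := by rw [hL, LinearMap.BilinForm.mem_orthogonal_iff]; exact fun n hn => ((hKm n).1 hn).1
  have hw₁ : w₁ ∈ L := by rw [hL, LinearMap.BilinForm.mem_orthogonal_iff]; exact fun n hn => ((hKm n).1 hn).2
  obtain ⟨v, hvL, hv⟩ : ∃ v ∈ L, D v v ≠ 0 := by
    by_contra hc
    push Not at hc
    have h0 : ∀ x ∈ L, ∀ y ∈ L, D x y = 0 := fun x hx y hy => by
      have h := hc (x + y) (L.add_mem hx hy)
      rw [hT.quad_add, hc x hx, hc y hy] at h
      exact (mul_eq_zero.1 (show (2 : F) * D x y = 0 by linear_combination h)).resolve_left hT.two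
    exact hr.ne (by rw [hT.form, h0 _ hu₀ _ hw₁, h0 _ hw₀ _ hu₁, sub_zero])
  obtain ⟨L', hL'⟩ : ∃ L', L' = L ⊓ LinearMap.ker (D v) := ⟨_, rfl⟩
  have hlt : finrank F L' < finrank F L := Submodule.finrank_lt_finrank_of_lt
    (lt_of_le_of_ne (hL' ▸ inf_le_left) fun e => hv (by
      have : v ∈ L' := e ▸ hvL
      rw [hL'] at this
      exact LinearMap.mem_ker.1 this.2))
  obtain ⟨w, hw⟩ := finrank_le_one_iff.1 (by omega : finrank F L' ≤ 1)
  have hdec : ∀ x ∈ L, ∃ α a : F, x = α • v + a • (w : U) := fun x hx => by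
    obtain ⟨a, ha⟩ := hw ⟨x - (D v x / D v v) • v, by
      rw [hL']
      exact ⟨L.sub_mem hx (L.smul_mem _ hvL),
        LinearMap.mem_ker.2 (by rw [map_sub, map_smul, smul_eq_mul, div_mul_cancel₀ _ hv, sub_self])⟩⟩
    refine ⟨D v x / D v v, a, ?_⟩
    rw [show a • (w : U) = x - (D v x / D v v) • v from congrArg Subtype.val ha, add_sub_cancel]
  have hvw : D v (w : U) = 0 := by
    have h : (w : U) ∈ L ⊓ LinearMap.ker (D v) := hL'.le w.2
    exact LinearMap.mem_ker.1 h.2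
  obtain ⟨α₀, a₀, e₀⟩ := hdec _ hu₀
  obtain ⟨γ₀, c₀, f₀⟩ := hdec _ hw₀
  obtain ⟨α₁, a₁, e₁⟩ := hdec _ hu₁
  obtain ⟨γ₁, c₁, f₁⟩ := hdec _ hw₁
  by_cases hw0 : (w : U) = 0
  · exact hnp ⟨v, α₀, γ₀, α₁, γ₁, by rw [e₀, f₀, hw0]; simp, by rw [e₁, f₁, hw0]; simp⟩
  rcases hT.normal_form hM hr hnp (v := v) (w := (w : U)) (congrArg₂ (fun x y => Φ (x, y)) e₀ f₀) (congrArg₂ (fun x y => Φ (x, y)) e₁ f₁) with
    h | ⟨a, b, c, d, hr', hns, hdet⟩
  · exact hfull h
  by_cases hww : D (w : U) w = 0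
  · exact hfull (hT.l2 hM hv hvw hww hw0 hns hr')
  have hwv : D (w : U) v = 0 := (hT.symm _ _).trans hvw
  obtain ⟨k₁, k1v, k1w, k11⟩ := hT.exists_aniso_perp2 hv hww hvw
  obtain ⟨k₂, k2v, k2w, k21, k22⟩ := hT.exists_aniso_perp3 (by omega) hv hww k11 hvw
    ((hT.symm _ _).trans k1v) ((hT.symm _ _).trans k1w)
  obtain ⟨k₃, hk, k33⟩ := hT.exists_aniso_perp ![v, (w : U), k₁, k₂] (by omega)
    (by intro i; fin_cases i <;> assumption)
    (by
      intro i j hij
      fin_cases i <;> fin_cases j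
      all_goals first
        | exact absurd rfl hij
        | assumption
        | (rw [hT.symm]; assumption))
  have k3v : D k₃ v = 0 := hk 0
  have k3w : D k₃ (w : U) = 0 := hk 1
  have k31 : D k₃ k₁ = 0 := hk 2
  have k32 : D k₃ k₂ = 0 := hk 3
  have hδ : D v v + (a * d - b * c) * D (w : U) w ≠ 0 := by
    have h := hr'.ne
    rw [hT.form] at h
    simp only [map_add, map_smul, LinearMap.add_apply, LinearMap.smul_apply, smul_eq_mul, hvw, hwv] at h
    intro e'; exact h (by linear_combination e')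
  obtain ⟨c', hc'⟩ : ∃ c', c' = D v v / (D v v + (a * d - b * c) * D (w : U) w) := ⟨_, rfl⟩
  obtain ⟨x, y, hxy⟩ := exists_norm_two hT.two (z := -(D k₂ k₂ / D k₁ k₁))
    (neg_ne_zero.2 (div_ne_zero k22 k11))
    ((-((1 - 2 * c') * (1 - 2 * c') * D v v) - D k₃ k₃) / D k₁ k₁)
  refine hfull (hT.full_of_k hM hv hww hvw (k := x • k₁ + y • k₂ + k₃) ?_ ?_ ?_ hns hdet hr'
    (c₀ := c') (by rw [hc', div_mul_cancel₀ _ hδ]) ?_)
  · intro h0
    have h := congrArg (fun z => D z k₃) h0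
    simp only [map_add, map_smul, LinearMap.add_apply, LinearMap.smul_apply, smul_eq_mul, map_zero,
      LinearMap.zero_apply, (hT.symm k₁ k₃).trans k31, (hT.symm k₂ k₃).trans k32] at h
    exact k33 (by linear_combination h)
  · simp [k1v, k2v, k3v]
  · simp [k1w, k2w, k3w]
  · simp only [map_add, map_smul, LinearMap.add_apply, LinearMap.smul_apply, smul_eq_mul, k21,
      (hT.symm k₁ k₂).trans k21, k31, k32, (hT.symm k₁ k₃).trans k31, (hT.symm k₂ k₃).trans k32]
    field_simp at hxy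
    linear_combination hxy

/-- Every proper overgroup is the stabiliser. -/
theorem full (hb : finrank F U = 3 ∧ 5 ≤ Fintype.card F ∨ 5 ≤ finrank F U) {g : G} (hg : g ∈ M)
    (hgp : ¬ IsPair Φ g) : spGL m F ≤ M := by
  obtain ⟨p₀, p₁, hr, hnp⟩ := hT.exists_not_pure hM hg hgp
  rcases hb with ⟨h3, hq⟩ | h5
  · exact hT.full3 hM h3 hq hr hnp
  · exact hT.full5 hM h5 hr hnp

end TwoData

end Cfsg.Agent.Classical.TensorTwo
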