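import Cfsg.Agent.Lib.Classical.MaxTensorTwo

/-!
Reflections in planes of `Sp₂ ⊗ GO(U)`: a plane which is not pure but holds a pure vector, or sits over a
singular line, gives the whole symplectic group.
-/

set_option autoImplicit false
set_option linter.unusedSectionVars false

namespace Cfsg.Agent.Classical.TensorTwo

open Matrix Module MaxTv

variable {F : Type*} [Field F] [Fintype F] {m : ℕ} {U : Type*} [AddCommGroup U] [Module F U]
  [FiniteDimensional F U]

local notation "V" => (Fin m ⊕ Fin m → F)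
local notation "Mn" => Matrix (Fin m ⊕ Fin m) (Fin m ⊕ Fin m) F
local notation "W" => sympForm m F
local notation "G" => GL (Fin m ⊕ Fin m) F

/-- The plane map of two vectors. -/
def planeMap (p₀ p₁ z : Fin m ⊕ Fin m → F) : Fin m ⊕ Fin m → F :=
  sympForm m F z p₁ • p₀ - sympForm m F z p₀ • p₁

/-- The reflection in a non-degenerate plane is in the group. -/
structure RefP (M : Subgroup (GL (Fin m ⊕ Fin m) F)) (p₀ p₁ : Fin m ⊕ Fin m → F) : Prop where
  ne : sympForm m F p₀ p₁ ≠ 0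
  mem : InN M fun z => (-(2 / sympForm m F p₀ p₁)) • planeMap p₀ p₁ z

/-- Both vectors lie over one line. -/
def Pure2 (Φ : (U × U) ≃ₗ[F] (Fin m ⊕ Fin m → F)) (p₀ p₁ : Fin m ⊕ Fin m → F) : Prop :=
  ∃ (e : U) (r s r' s' : F), p₀ = Φ (r • e, s • e) ∧ p₁ = Φ (r' • e, s' • e)

/-- The map of the plane `(A, B) ↦ l` given by a matrix of trace zero. -/
def zMap (D : LinearMap.BilinForm F U) (Φ : (U × U) ≃ₗ[F] (Fin m ⊕ Fin m → F)) (l : U) (μ ν ρ : F)
    (z : Fin m ⊕ Fin m → F) : Fin m ⊕ Fin m → F :=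
  Φ ((μ * D l (Φ.symm z).1 + ν * D l (Φ.symm z).2) • l, (ρ * D l (Φ.symm z).1 - μ * D l (Φ.symm z).2) • l)

variable {D : LinearMap.BilinForm F U} {Φ : (U × U) ≃ₗ[F] (Fin m ⊕ Fin m → F)}
  {M : Subgroup (GL (Fin m ⊕ Fin m) F)}

theorem zMap_apply (l : U) (μ ν ρ : F) (a b : U) :
    zMap D Φ l μ ν ρ (Φ (a, b)) = Φ ((μ * D l a + ν * D l b) • l, (ρ * D l a - μ * D l b) • l) := by
  simp [zMap]

theorem phi_smul (c : F) (a b : U) : c • Φ (a, b) = Φ (c • a, c • b) := by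
  rw [← map_smul, Prod.smul_mk]

theorem phi_add (a b c d : U) : Φ (a, b) + Φ (c, d) = Φ (a + c, b + d) := by
  rw [← map_add, Prod.mk_add_mk]

theorem phi_sub (a b c d : U) : Φ (a, b) - Φ (c, d) = Φ (a - c, b - d) := by
  rw [← map_sub, Prod.mk_sub_mk]

/-- A map differing from another one by a map killed by the second. -/
theorem inN_of_pair {N : V → V} {g g' : G} (hg : g ∈ M) (hg' : g' ∈ M)
    (h : ∀ z, (g' : Mn) *ᵥ z = (g : Mn) *ᵥ z + N ((g : Mn) *ᵥ z)) : InN M N := by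
  refine ⟨g' * g⁻¹, mul_mem hg' (inv_mem hg), fun y => ?_⟩
  obtain ⟨z, rfl⟩ : ∃ z, (g : Mn) *ᵥ z = y := ⟨_, mulVec_inv_cancel g y⟩
  rw [Units.val_mul, ← Matrix.mulVec_mulVec, inv_mulVec_cancel, h]

theorem RefP.exists {p₀ p₁ : V} (hr : RefP M p₀ p₁) : ∃ j ∈ M, ∀ z : V,
    (j : Mn) *ᵥ z = z - (2 / W p₀ p₁) • (W z p₁ • p₀ - W z p₀ • p₁) := by
  obtain ⟨j, hj, hjx⟩ := hr.mem
  exact ⟨j, hj, fun z => by simp only [hjx, planeMap, neg_smul, sub_eq_add_neg]⟩

/-- Another basis of the plane. -/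
theorem RefP.basis {p₀ p₁ : V} (hr : RefP M p₀ p₁) {a b c d : F} (h : a * d - b * c ≠ 0) :
    RefP M (a • p₀ + b • p₁) (c • p₀ + d • p₁) := by
  have e : W (a • p₀ + b • p₁) (c • p₀ + d • p₁) = (a * d - b * c) * W p₀ p₁ := by
    simp only [sympForm_add_left, sympForm_add_right, sympForm_smul_left, sympForm_smul_right, sympForm_self,
      sympForm_swap p₁ p₀]
    ring
  refine ⟨by rw [e]; exact mul_ne_zero h hr.ne, hr.mem.congr fun z => ?_⟩
  rw [e]
  simp only [planeMap, sympForm_add_right, sympForm_smul_right]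
  have := hr.ne
  match_scalars <;> field_simp <;> ring

theorem Pure2.basis {p₀ p₁ : V} {a b c d : F} (h : a * d - b * c ≠ 0)
    (hp : Pure2 Φ (a • p₀ + b • p₁) (c • p₀ + d • p₁)) : Pure2 Φ p₀ p₁ := by
  obtain ⟨e, r, s, r', s', h₀, h₁⟩ := hp
  refine ⟨e, (a * d - b * c)⁻¹ * (d * r - b * r'), (a * d - b * c)⁻¹ * (d * s - b * s'),
    (a * d - b * c)⁻¹ * (a * r' - c * r), (a * d - b * c)⁻¹ * (a * s' - c * s), ?_, ?_⟩
  · have : p₀ = (a * d - b * c)⁻¹ • (d • (a • p₀ + b • p₁) - b • (c • p₀ + d • p₁)) := by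
      rw [show d • (a • p₀ + b • p₁) - b • (c • p₀ + d • p₁) = (a * d - b * c) • p₀ by module, smul_smul,
        inv_mul_cancel₀ h, one_smul]
    rw [this, h₀, h₁, phi_smul, phi_smul, phi_sub, phi_smul]
    congr 2 <;> module
  · have : p₁ = (a * d - b * c)⁻¹ • (a • (c • p₀ + d • p₁) - c • (a • p₀ + b • p₁)) := by
      rw [show a • (c • p₀ + d • p₁) - c • (a • p₀ + b • p₁) = (a * d - b * c) • p₁ by module, smul_smul,
        inv_mul_cancel₀ h, one_smul]
    rw [this, h₀, h₁, phi_smul, phi_smul, phi_sub, phi_smul]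
    congr 2 <;> module

theorem not_pure_basis {p₀ p₁ : V} (hnp : ¬ Pure2 Φ p₀ p₁) {a b c d : F} (h : a * d - b * c ≠ 0) :
    ¬ Pure2 Φ (a • p₀ + b • p₁) (c • p₀ + d • p₁) := fun hp => hnp (hp.basis h)

namespace TwoData

variable (hT : TwoData D Φ)
include hT

theorem aniso_mem (p : Submodule F U) {f : U} (hf : D f f ≠ 0) (hfp : f ∈ p)
    (hp : ∀ e, D e e ≠ 0 → e ∈ p) (y : U) : y ∈ p := by
  by_cases hy : D y y = 0
  swap
  · exact hp y hy
  by_cases h1 : D (y + f) (y + f) = 0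
  · have h2 : D (y + (-1 : F) • f) (y + (-1 : F) • f) ≠ 0 := fun e2 => hf (by
      rw [hT.quad_add, hy] at h1
      rw [hT.quad_add, hT.quad_smul, hy, map_smul, smul_eq_mul] at e2
      exact (mul_eq_zero.1 (show (2 : F) * D f f = 0 by linear_combination h1 + e2)).resolve_left hT.two)
    simpa using p.sub_mem (hp _ h2) (p.smul_mem (-1) hfp)
  · simpa using p.sub_mem (hp _ h1) hfp

theorem ext_aniso {X : Type*} [AddCommGroup X] [Module F X] {A B : U →ₗ[F] X}
    (h : ∀ e, D e e ≠ 0 → A e = B e) : A = B := by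
  obtain ⟨f, hf⟩ := hT.exists_aniso
  exact LinearMap.ext fun y => hT.aniso_mem (LinearMap.eqLocus A B) hf (h f hf) h y

/-- A singular vector has an anisotropic vector perpendicular to it. -/
theorem exists_aniso_perp_singular {v : U} (hv0 : v ≠ 0) (hv : D v v = 0) : ∃ k, D k v = 0 ∧ D k k ≠ 0 := by
  obtain ⟨v', hv', hvv'⟩ := hT.exists_partner hv0 hv
  have e1 : D (v + v') (v + v') = 2 := by rw [hT.quad_add, hv, hv', hvv']; ring
  have e2 : D (v + (-1 : F) • v') (v + (-1 : F) • v') = -2 := by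
    rw [hT.quad_add, hT.quad_smul, map_smul, smul_eq_mul, hv, hv', hvv']; ring
  have e3 : D (v + v') (v + (-1 : F) • v') = 0 := by
    simp only [map_add, LinearMap.add_apply, map_smul, smul_eq_mul, hv, hv', hvv', (hT.symm v' v).trans hvv']
    ring
  obtain ⟨k, h1, h2, hk⟩ := hT.exists_aniso_perp2 (by rw [e1]; exact hT.two)
    (by rw [e2]; exact neg_ne_zero.2 hT.two) e3
  refine ⟨k, ?_, hk⟩
  rw [map_add] at h1
  rw [map_add, map_smul, smul_eq_mul] at h2
  exact (mul_eq_zero.1 (show (2 : F) * D k v = 0 by linear_combination h1 + h2)).resolve_left hT.two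

variable (hM : Over Φ M)
include hM

theorem refP_map {p₀ p₁ : V} (hr : RefP M p₀ p₁) {g : G} (hg : g ∈ M) :
    RefP M ((g : Mn) *ᵥ p₀) ((g : Mn) *ᵥ p₁) := by
  refine ⟨by rw [hT.iso hM hg]; exact hr.ne, inN_conj hr.mem hg fun z => ?_⟩
  simp only [planeMap, hT.iso hM hg, Matrix.mulVec_smul, Matrix.mulVec_sub]

theorem refP_pure {e : U} (he : D e e ≠ 0) : RefP M (Φ (e, 0)) (Φ (0, e)) := by
  obtain ⟨T, hTx, hTi, -⟩ := hT.exists_refl he
  obtain ⟨g, hg, hgx⟩ := hT.exists_diag hM hTi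
  have hδ : W (Φ (e, 0)) (Φ (0, e)) = D e e := by rw [hT.form, hT.zero_left, sub_zero]
  refine ⟨by rw [hδ]; exact he, inN_phi (Φ := Φ) hg fun a b => ?_⟩
  rw [hgx, hTx, hTx, planeMap, hδ, hT.form, hT.form, phi_smul, phi_smul, phi_sub, phi_smul, phi_add]
  simp only [map_zero]
  congr 2 <;> match_scalars <;> ring

/-- A member not of product shape moves some pure plane to a plane which is not pure. -/
theorem exists_not_pure {g : G} (hg : g ∈ M) (hgp : ¬ IsPair Φ g) :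
    ∃ p₀ p₁, RefP M p₀ p₁ ∧ ¬ Pure2 Φ p₀ p₁ := by
  classical
  by_contra hcon
  push Not at hcon
  have hp : ∀ e, D e e ≠ 0 → ∃ (e' : U) (A B C E : F), e' ≠ 0 ∧ A * E - B * C ≠ 0 ∧
      (g : Mn) *ᵥ Φ (e, 0) = Φ (A • e', C • e') ∧ (g : Mn) *ᵥ Φ (0, e) = Φ (B • e', E • e') := by
    intro e he
    obtain ⟨e', A, C, B, E, h₀, h₁⟩ := hcon _ _ (hT.refP_map hM (hT.refP_pure hM he) hg)
    have h := hT.iso hM hg (Φ (e, 0)) (Φ (0, e))
    rw [h₀, h₁, hT.form, hT.form, hT.zero_left, sub_zero] at h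
    have h' : (A * E - B * C) * D e' e' = D e e := by
      rw [← h]; simp only [map_smul, LinearMap.smul_apply, smul_eq_mul]; ring
    refine ⟨e', A, B, C, E, fun h0 => he ?_, fun h0 => he ?_, h₀, h₁⟩
    · rw [← h', h0, hT.zero_left, mul_zero]
    · rw [← h', h0, zero_mul]
  choose! q A B C E hq0 hdet hA hB using hp
  have hadd : ∀ (a b : U) (s : F), (g : Mn) *ᵥ Φ (a + s • b, 0) =
      (g : Mn) *ᵥ Φ (a, 0) + s • ((g : Mn) *ᵥ Φ (b, 0)) ∧ (g : Mn) *ᵥ Φ (0, a + s • b) =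
      (g : Mn) *ᵥ Φ (0, a) + s • ((g : Mn) *ᵥ Φ (0, b)) := fun a b s => by
    constructor <;> rw [← Matrix.mulVec_smul, ← Matrix.mulVec_add, phi_smul, phi_add, smul_zero, add_zero]
  -- proportional coefficients
  have hprop : ∀ e f, D e e ≠ 0 → D f f ≠ 0 → ∃ c : F, A f = c * A e ∧ B f = c * B e ∧ C f = c * C e ∧
      E f = c * E e := by
    have key : ∀ e f, D e e ≠ 0 → D f f ≠ 0 → (∀ c : F, f ≠ c • e) → ∀ s : F, s ≠ 0 →
        D (e + s • f) (e + s • f) ≠ 0 → ∃ c : F, A f = c * A e ∧ B f = c * B e ∧ C f = c * C e ∧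
          E f = c * E e := by
      intro e f he hf hind s hs hh
      obtain ⟨a1, a2⟩ := hadd e f s
      rw [hA e he, hA f hf, hA _ hh, phi_smul, phi_add] at a1
      rw [hB e he, hB f hf, hB _ hh, phi_smul, phi_add] at a2
      simp only [EmbeddingLike.apply_eq_iff_eq, Prod.mk.injEq, smul_smul] at a1 a2
      -- the images of `e` and `f` are independent
      have hind' : ∀ c : F, q f ≠ c • q e := by
        intro c hc
        obtain ⟨α, β, hα, hβ⟩ : ∃ α β : F, A f * c = α * A e + β * B e ∧ C f * c = α * C e + β * E e :=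
          ⟨(A e * E e - B e * C e)⁻¹ * c * (E e * A f - B e * C f),
            (A e * E e - B e * C e)⁻¹ * c * (A e * C f - C e * A f),
            by have := hdet e he; field_simp; ring, by have := hdet e he; field_simp; ring⟩
        have h1 : (g : Mn) *ᵥ Φ (f, 0) = (g : Mn) *ᵥ Φ (α • e, β • e) := by
          rw [show Φ (α • e, β • e) = α • Φ (e, 0) + β • Φ (0, e) by
            rw [phi_smul, phi_smul, phi_add, smul_zero, smul_zero, add_zero, zero_add]]
          rw [Matrix.mulVec_add, Matrix.mulVec_smul, Matrix.mulVec_smul, hA f hf, hA e he, hB e he, hc,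
            phi_smul, phi_smul, phi_add]
          simp only [smul_smul, ← add_smul, hα, hβ]
        have := Φ.injective (MaxTv.gl_mulVec_injective g h1)
        exact hind α (Prod.mk.inj this).1
      -- the middle vector is a combination
      obtain ⟨x, y, hxy⟩ : ∃ x y : F, q (e + s • f) = x • q e + y • q f := by
        by_cases hA0 : A (e + s • f) = 0
        · have hC0 : C (e + s • f) ≠ 0 := fun h0 => hdet _ hh (by rw [hA0, h0]; ring)
          exact ⟨(C (e + s • f))⁻¹ * C e, (C (e + s • f))⁻¹ * (s * C f), by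
            rw [← smul_smul, ← smul_smul _ (s * C f), ← smul_add, ← a1.2, smul_smul, inv_mul_cancel₀ hC0,
              one_smul]⟩
        · exact ⟨(A (e + s • f))⁻¹ * A e, (A (e + s • f))⁻¹ * (s * A f), by
            rw [← smul_smul, ← smul_smul _ (s * A f), ← smul_add, ← a1.1, smul_smul, inv_mul_cancel₀ hA0,
              one_smul]⟩
      have coef : ∀ a b a' b' : F, a • q e + b • q f = a' • q e + b' • q f → a = a' ∧ b = b' := by
        intro a b a' b' h
        have hb : b = b' := by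
          by_contra hne
          refine hind' ((b - b')⁻¹ * (a' - a)) ?_
          rw [← smul_smul, show (a' - a) • q e = (b - b') • q f by
            rw [sub_smul, sub_smul, sub_eq_sub_iff_add_eq_add, ← h, add_comm], smul_smul,
            inv_mul_cancel₀ (sub_ne_zero.2 hne), one_smul]
        subst hb
        refine ⟨?_, rfl⟩
        exact smul_left_injective F (hq0 e he) (add_right_cancel h)
      rw [hxy] at a1 a2
      simp only [smul_add, smul_smul] at a1 a2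
      obtain ⟨a11, a12⟩ := coef _ _ _ _ a1.1
      obtain ⟨a13, a14⟩ := coef _ _ _ _ a1.2
      obtain ⟨a21, a22⟩ := coef _ _ _ _ a2.1
      obtain ⟨a23, a24⟩ := coef _ _ _ _ a2.2
      have hx : x ≠ 0 := fun h0 => hdet e he (by rw [← a11, ← a13, h0]; ring)
      refine ⟨y / (s * x), ?_, ?_, ?_, ?_⟩ <;> field_simp
      · linear_combination y * a11 - x * a12
      · linear_combination y * a21 - x * a22
      · linear_combination y * a13 - x * a14
      · linear_combination y * a23 - x * a24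
    intro e f he hf
    by_cases hdep : ∃ c : F, f = c • e
    · obtain ⟨c, rfl⟩ := hdep
      have hc : c ≠ 0 := fun h0 => hf (by rw [h0, zero_smul, hT.zero_left])
      have h1 : ((g : Mn) *ᵥ Φ (c • e, 0)) = c • ((g : Mn) *ᵥ Φ (e, 0)) := by
        rw [← Matrix.mulVec_smul, phi_smul, smul_zero]
      have h2 : ((g : Mn) *ᵥ Φ (0, c • e)) = c • ((g : Mn) *ᵥ Φ (0, e)) := by
        rw [← Matrix.mulVec_smul, phi_smul, smul_zero]
      rw [hA _ hf, hA e he, phi_smul] at h1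
      rw [hB _ hf, hB e he, phi_smul] at h2
      simp only [EmbeddingLike.apply_eq_iff_eq, Prod.mk.injEq, smul_smul] at h1 h2
      obtain ⟨k, hk⟩ : ∃ k : F, q (c • e) = k • q e := by
        by_cases hA0 : A (c • e) = 0
        · have hC0 : C (c • e) ≠ 0 := fun h0 => hdet _ hf (by rw [hA0, h0]; ring)
          exact ⟨(C (c • e))⁻¹ * (c * C e), by rw [← smul_smul, ← h1.2, smul_smul, inv_mul_cancel₀ hC0, one_smul]⟩
        · exact ⟨(A (c • e))⁻¹ * (c * A e), by rw [← smul_smul, ← h1.1, smul_smul, inv_mul_cancel₀ hA0, one_smul]⟩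
      have hk0 : k ≠ 0 := fun h0 => hq0 _ hf (by rw [hk, h0, zero_smul])
      simp only [hk, smul_smul] at h1 h2
      have inj := smul_left_injective F (hq0 e he)
      refine ⟨c / k, ?_, ?_, ?_, ?_⟩ <;> rw [div_mul_eq_mul_div, eq_div_iff hk0]
      exacts [inj h1.1, inj h2.1, inj h1.2, inj h2.2]
    push Not at hdep
    by_cases hp1 : D (e + (1 : F) • f) (e + (1 : F) • f) = 0
    swap
    · exact key e f he hf hdep 1 one_ne_zero hp1
    by_cases hm1 : D (e + (-1 : F) • f) (e + (-1 : F) • f) = 0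
    swap
    · exact key e f he hf hdep (-1) (neg_ne_zero.2 one_ne_zero) hm1
    rw [hT.quad_add, hT.quad_smul, map_smul, smul_eq_mul] at hp1 hm1
    have hef : D e f = 0 := (mul_eq_zero.1 (show (4 : F) * D e f = 0 by
      linear_combination hp1 - hm1)).resolve_left (by
        rw [show (4 : F) = 2 * 2 by norm_num]; exact mul_ne_zero hT.two hT.two)
    rcases hT.big with ⟨s, hs0, hs1⟩ | hU
    · refine key e f he hf hdep s hs0 ?_
      rw [hT.quad_add, hT.quad_smul, map_smul, smul_eq_mul, hef]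
      intro h0
      exact mul_ne_zero (sub_ne_zero.2 hs1) hf (by linear_combination h0 - hp1 + 2 * hef)
    · obtain ⟨k₁, k1e, k1f, k11⟩ := hT.exists_aniso_perp2 he hf hef
      obtain ⟨k₂, k2e, k2f, k21, k22⟩ := hT.exists_aniso_perp3 hU he hf k11 hef
        ((hT.symm _ _).trans k1e) ((hT.symm _ _).trans k1f)
      obtain ⟨u, w, huw⟩ := exists_norm_two hT.two (z := -(D k₂ k₂ / D k₁ k₁))
        (neg_ne_zero.2 (div_ne_zero k22 k11)) (D e e / D k₁ k₁)
      obtain ⟨k, hk⟩ : ∃ k, k = u • k₁ + w • k₂ := ⟨_, rfl⟩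
      have hke : D e k = 0 := by simp [hk, (hT.symm e k₁).trans k1e, (hT.symm e k₂).trans k2e]
      have hkf : D f k = 0 := by simp [hk, (hT.symm f k₁).trans k1f, (hT.symm f k₂).trans k2f]
      have hkk : D k k = D e e := by
        rw [hk, hT.quad_add, hT.quad_smul, hT.quad_smul]
        simp only [map_smul, LinearMap.smul_apply, smul_eq_mul, (hT.symm k₁ k₂).trans k21]
        field_simp at huw
        linear_combination huw
      have hindk : ∀ c : F, k ≠ c • e := fun c hc => he (by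
        have : c = 0 := by
          have h0 := hke; rw [hc, map_smul, smul_eq_mul] at h0
          exact (mul_eq_zero.1 h0).resolve_right he
        rw [← hkk, hc, this, zero_smul, hT.zero_left])
      have hh : D (e + (1 : F) • k) (e + (1 : F) • k) ≠ 0 := by
        rw [one_smul, hT.quad_add, hke, hkk]
        intro h0
        exact he ((mul_eq_zero.1 (show (2 : F) * D e e = 0 by linear_combination h0)).resolve_left hT.two)
      have hindh : ∀ c : F, e + (1 : F) • k ≠ c • e := fun c hc => by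
        refine hindk (c - 1) ?_
        rw [sub_smul, one_smul, ← hc, one_smul, add_sub_cancel_left]
      obtain ⟨c₁, a₁, b₁, d₁, e₁⟩ := key e (e + (1 : F) • k) he hh hindh (-1) (neg_ne_zero.2 one_ne_zero) (by
        rw [show e + (-1 : F) • (e + (1 : F) • k) = (-1 : F) • k by module, hT.quad_smul, hkk]
        simpa using he)
      have hhf : D (e + (1 : F) • k) f = 0 := by
        rw [one_smul, map_add, LinearMap.add_apply, hef, (hT.symm k f).trans hkf, add_zero]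
      have hindf : ∀ c : F, f ≠ c • (e + (1 : F) • k) := fun c hc => hf (by
        conv_lhs => arg 1; rw [hc]
        rw [map_smul, LinearMap.smul_apply, hhf, smul_zero])
      obtain ⟨c₂, a₂, b₂, d₂, e₂⟩ := key (e + (1 : F) • k) f hh hf hindf 1 one_ne_zero (by
        rw [one_smul F f, hT.quad_add, hhf, one_smul, hT.quad_add, hke, hkk]
        intro h0
        exact he (by linear_combination h0 - hp1 + 2 * hef))
      exact ⟨c₂ * c₁, by rw [a₂, a₁]; ring, by rw [b₂, b₁]; ring, by rw [d₂, d₁]; ring, by rw [e₂, e₁]; ring⟩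
  obtain ⟨e₀, he₀⟩ := hT.exists_aniso
  have hdet₀ := hdet e₀ he₀
  let L₀ : U →ₗ[F] U × U := Φ.symm.toLinearMap ∘ₗ Matrix.mulVecLin (g : Mn) ∘ₗ Φ.toLinearMap ∘ₗ LinearMap.inl F U U
  let L₁ : U →ₗ[F] U × U := Φ.symm.toLinearMap ∘ₗ Matrix.mulVecLin (g : Mn) ∘ₗ Φ.toLinearMap ∘ₗ LinearMap.inr F U U
  let T : U →ₗ[F] U := (A e₀ * E e₀ - B e₀ * C e₀)⁻¹ •
    (E e₀ • (LinearMap.fst F U U ∘ₗ L₀) - B e₀ • (LinearMap.snd F U U ∘ₗ L₀))
  have hT' : ∀ e, D e e ≠ 0 → L₀ e = (A e₀ • T e, C e₀ • T e) ∧ L₁ e = (B e₀ • T e, E e₀ • T e) := by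
    intro e he
    obtain ⟨c, ca, cb, cc, ce⟩ := hprop e₀ e he₀ he
    have h0 : L₀ e = (A e • q e, C e • q e) := by simp [L₀, hA e he]
    have h1 : L₁ e = (B e • q e, E e • q e) := by simp [L₁, hB e he]
    have hTe : T e = c • q e := by
      simp only [T, LinearMap.smul_apply, LinearMap.sub_apply, LinearMap.coe_comp, Function.comp_apply,
        LinearMap.fst_apply, LinearMap.snd_apply, h0, ca, cc]
      match_scalars
      field_simp
    rw [h0, h1, hTe, ca, cb, cc, ce]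
    simp only [smul_smul, mul_comm c]
    exact ⟨trivial, trivial⟩
  have e0 : L₀ = LinearMap.prod (A e₀ • T) (C e₀ • T) := hT.ext_aniso fun e he => (hT' e he).1
  have e1 : L₁ = LinearMap.prod (B e₀ • T) (E e₀ • T) := hT.ext_aniso fun e he => (hT' e he).2
  have hfull : ∀ u v, (g : Mn) *ᵥ Φ (u, v) = Φ (T (A e₀ • u + B e₀ • v), T (C e₀ • u + E e₀ • v)) := by
    intro u v
    have h : Φ.symm ((g : Mn) *ᵥ Φ (u, v)) = L₀ u + L₁ v := by
      simp only [L₀, L₁, LinearMap.coe_comp, Function.comp_apply, LinearEquiv.coe_coe, LinearMap.inl_apply,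
        LinearMap.inr_apply, Matrix.mulVecLin_apply, ← map_add, ← Matrix.mulVec_add, Prod.mk_add_mk, add_zero,
        zero_add]
    rw [← LinearEquiv.symm_apply_eq, h, e0, e1]
    simp
  have hTinj : Function.Injective T := by
    refine (injective_iff_map_eq_zero T).2 fun u hu => ?_
    have h := hfull u 0
    rw [smul_zero, smul_zero, add_zero, add_zero, map_smul, map_smul, hu, smul_zero, smul_zero,
      Prod.mk_zero_zero, map_zero, ← Matrix.mulVec_zero (g : Mn)] at h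
    have := MaxTv.gl_mulVec_injective g h
    simpa using this
  exact hgp ⟨A e₀, B e₀, C e₀, E e₀, LinearEquiv.ofInjectiveEndo T hTinj, fun u v => by
    rw [hfull]; rfl⟩

/-- A plane through `Φ (v, 0)`, `v` anisotropic. -/
theorem l1_aniso {v u w : U} (hv : D v v ≠ 0) (hu : D u v = 0) (hw : D w v = 0)
    (hr : RefP M (Φ (v, 0)) (Φ (u, v + w))) (hne : u ≠ 0 ∨ w ≠ 0) : spGL m F ≤ M := by
  obtain ⟨κ, hκ⟩ : ∃ κ, κ = 2 / D v v := ⟨_, rfl⟩
  have hκ0 : κ ≠ 0 := hκ ▸ div_ne_zero hT.two hv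
  obtain ⟨T, hTx, hTi, -⟩ := hT.exists_refl hv
  obtain ⟨R, hR, hRx⟩ := hT.exists_diag hM hTi
  have hvu : D v u = 0 := (hT.symm _ _).trans hu
  have hvw : D v w = 0 := (hT.symm _ _).trans hw
  have nform : ∀ u', D u' v = 0 → RefP M (Φ (v, 0)) (Φ (u', v + w)) → ∃ g ∈ M, ∀ a b,
      (g : Mn) *ᵥ Φ (a, b) = Φ (a + κ • ((D b u' - D a w) • v + D b v • u'), b + (κ * D b v) • w) := by
    intro u' hu' hr'
    obtain ⟨j, hj, hjx⟩ := hr'.exists
    refine ⟨j * R, mul_mem hj hR, fun a b => ?_⟩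
    have hδ : W (Φ (v, 0)) (Φ (u', v + w)) = D v v := by
      rw [hT.form, map_add, hvw, hT.zero_left, add_zero, sub_zero]
    rw [Units.val_mul, ← Matrix.mulVec_mulVec, hRx, hjx, hδ, hT.form, hT.form, hTx, hTx, phi_smul, phi_smul,
      phi_sub, phi_smul, phi_sub]
    simp only [map_sub, map_add, map_smul, LinearMap.sub_apply, LinearMap.smul_apply, smul_eq_mul, hvw,
      (hT.symm v u').trans hu', map_zero, LinearMap.zero_apply]
    congr 2 <;> match_scalars <;> (try rw [hκ]) <;> field_simp <;> ring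
  obtain ⟨g₁, hg₁, hg₁x⟩ := nform u hu hr
  rcases eq_or_ne w 0 with hw0 | hw0
  · refine hT.full_of_cross hM hv hvu (hne.resolve_right (not_not.2 hw0)) ?_
    have h : InN M (hor Φ (κ • cross D v u)) := inN_phi hg₁ fun a b => by
      rw [hg₁x, hor_apply, phi_add, LinearMap.smul_apply, cross_apply, hw0]
      congr 2 <;> simp [add_comm]
    simpa [smul_smul, inv_mul_cancel₀ hκ0] using hT.hor_smul hM h κ⁻¹
  obtain ⟨U', hU', hU'x, -⟩ := hT.exists_sl hM (a := 1) (b := 1) (c := 0) (d := 1) (by ring)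
  have hr₂ : RefP M (Φ (v, 0)) (Φ (u + w, v + w)) := by
    have h := (hT.refP_map hM hr hU').basis (a := 1) (b := 0) (c := -1) (d := 1) (by norm_num)
    simp only [hU'x, one_smul, zero_smul, add_zero, zero_add, phi_smul, phi_add, neg_smul] at h
    convert h using 1
    rw [← neg_one_smul F (Φ (v, 0)), phi_smul, phi_add]
    congr 2 <;> module
  obtain ⟨g₂, hg₂, hg₂x⟩ := nform (u + w) (by rw [map_add, LinearMap.add_apply, hu, hw, add_zero]) hr₂
  obtain ⟨S, hS⟩ : ∃ S : U →ₗ[F] U, S = κ • (cross D v w - (κ * D w w) • sq1 D v) := ⟨_, rfl⟩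
  obtain ⟨S', hS'⟩ : ∃ S' : U →ₗ[F] U, S' = κ • (-cross D v w - (κ * D w w) • sq1 D v) := ⟨_, rfl⟩
  have h : InN M (hor Φ S) := inN_of_pair hg₁ hg₂ fun z => ext_phi (Φ := Φ) (f := fun z => (g₂ : Mn) *ᵥ z)
    (g := fun z => (g₁ : Mn) *ᵥ z + hor Φ S ((g₁ : Mn) *ᵥ z)) (fun a b => by
      simp only [hg₁x, hg₂x, hor_apply, phi_add, hS, LinearMap.smul_apply, LinearMap.sub_apply, cross_apply,
        sq1_apply, map_add, map_smul, LinearMap.add_apply, smul_eq_mul, hw, hvw]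
      congr 2 <;> match_scalars <;> ring) z
  have h' : InN M (hor Φ S') := hT.hor_conj hM h hTi fun x => by
    simp only [hS, hS', LinearMap.smul_apply, LinearMap.sub_apply, LinearMap.neg_apply, cross_apply, sq1_apply,
      hTx, map_sub, map_add, map_smul, smul_eq_mul, LinearMap.add_apply, hw, hvw]
    match_scalars <;> field_simp <;> ring
  refine hT.full_of_cross hM hv hvw hw0 ?_
  have := hT.hor_smul hM (hT.hor_sub hM h h') (2 * κ)⁻¹
  convert this using 3
  rw [hS, hS', ← smul_sub, smul_smul]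
  refine LinearMap.ext fun x => ?_
  simp only [LinearMap.smul_apply, LinearMap.sub_apply, LinearMap.neg_apply, cross_apply, sq1_apply]
  have := hT.two
  match_scalars <;> field_simp <;> ring

/-- A non-pure plane with a pure vector. -/
theorem l1 {p₀ p₁ : V} (hr : RefP M p₀ p₁) (hnp : ¬ Pure2 Φ p₀ p₁) {α β : F} (hαβ : α ≠ 0 ∨ β ≠ 0) {v : U}
    {r s : F} (hp : α • p₀ + β • p₁ = Φ (r • v, s • v)) : spGL m F ≤ M := by
  obtain ⟨γ, η, hd⟩ : ∃ γ η : F, α * η - β * γ ≠ 0 := by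
    by_cases hα : α = 0
    · exact ⟨1, 0, by rw [hα]; simpa using hαβ.resolve_left (not_not.2 hα)⟩
    · exact ⟨0, 1, by simpa using hα⟩
  have hr1 := hr.basis (c := γ) (d := η) hd
  have hnp1 := not_pure_basis hnp (c := γ) (d := η) hd
  rw [hp] at hr1 hnp1
  have hv0 : v ≠ 0 := fun h0 => hr1.ne (by
    rw [h0, smul_zero, smul_zero, Prod.mk_zero_zero, map_zero, sesq_sympForm.zero_left])
  have hrs : r ≠ 0 ∨ s ≠ 0 := by
    by_contra hc
    push Not at hc
    exact hr1.ne (by rw [hc.1, hc.2, zero_smul, Prod.mk_zero_zero, map_zero, sesq_sympForm.zero_left])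
  obtain ⟨a, b, c, d, hdet, ha, hc⟩ : ∃ a b c d : F, a * d - b * c = 1 ∧ a * r + b * s = 1 ∧ c * r + d * s = 0 := by
    by_cases hr0 : r = 0
    · have hs := hrs.resolve_left (not_not.2 hr0)
      exact ⟨0, s⁻¹, -s, 0, by field_simp; ring, by rw [hr0]; field_simp; ring, by rw [hr0]; ring⟩
    · exact ⟨r⁻¹, 0, -s, r, by field_simp; ring, by field_simp; ring, by ring⟩
  obtain ⟨g, hg, hgx, -⟩ := hT.exists_sl hM hdet
  obtain ⟨⟨u, w⟩, hq⟩ := Φ.surjective ((g : Mn) *ᵥ (γ • p₀ + η • p₁))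
  have hr2 := hT.refP_map hM hr1 hg
  have e0 : (g : Mn) *ᵥ Φ (r • v, s • v) = Φ (v, 0) := by
    rw [hgx, smul_smul, smul_smul, smul_smul, smul_smul, ← add_smul, ← add_smul, ha, hc, one_smul, zero_smul]
  rw [e0, ← hq] at hr2
  have hnp2 : ∀ (x : U) (i j i' j' : F), Φ (v, 0) = Φ (i • x, j • x) → Φ (u, w) = Φ (i' • x, j' • x) → False := by
    intro x i j i' j' hi hj
    refine hnp1 ⟨x, d * i - b * j, -c * i + a * j, d * i' - b * j', -c * i' + a * j', ?_, ?_⟩
    · refine MaxTv.gl_mulVec_injective g ?_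
      show (g : Mn) *ᵥ _ = (g : Mn) *ᵥ _
      rw [e0, hgx, hi]
      congr 2 <;> match_scalars <;> first | (linear_combination -i * hdet; done) | linear_combination -j * hdet
    · refine MaxTv.gl_mulVec_injective g ?_
      show (g : Mn) *ᵥ _ = (g : Mn) *ᵥ _
      rw [← hq, hgx, hj]
      congr 2 <;> match_scalars <;> first | (linear_combination -i' * hdet; done) | linear_combination -j' * hdet
  have hvw : D v w ≠ 0 := by
    have h := hr2.ne
    rwa [hT.form, hT.zero_left, sub_zero] at h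
  by_cases hv : D v v = 0
  swap
  · obtain ⟨c₀, hc₀⟩ : ∃ c₀, c₀ = D v w / D v v := ⟨_, rfl⟩
    have hc00 : c₀ ≠ 0 := hc₀ ▸ div_ne_zero hvw hv
    have hr3 := hr2.basis (a := 1) (b := 0) (c := -(D u v / (c₀ * D v v))) (d := c₀⁻¹)
      (by simpa using inv_ne_zero hc00)
    obtain ⟨u', hu'⟩ : ∃ u', u' = c₀⁻¹ • u - (D u v / (c₀ * D v v)) • v := ⟨_, rfl⟩
    obtain ⟨w', hw'⟩ : ∃ w', w' = c₀⁻¹ • w - v := ⟨_, rfl⟩
    refine hT.l1_aniso hM (u := u') (w := w') hv ?_ ?_ ?_ ?_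
    · rw [hu', map_sub, LinearMap.sub_apply, map_smul, map_smul, LinearMap.smul_apply, LinearMap.smul_apply,
        smul_eq_mul, smul_eq_mul]
      field_simp
      ring
    · rw [hw', map_sub, LinearMap.sub_apply, map_smul, LinearMap.smul_apply, smul_eq_mul, hT.symm w v, hc₀]
      field_simp
      ring
    · convert hr3 using 1
      · rw [one_smul, zero_smul, add_zero]
      · rw [phi_smul, phi_smul, phi_add, smul_zero, zero_add, hu', hw', add_sub_cancel]
        congr 2; module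
    · by_contra hc'
      push Not at hc'
      refine hnp2 v 1 0 (D u v / D v v) c₀ (by rw [one_smul, zero_smul]) ?_
      have e1 : c₀⁻¹ • u = (D u v / (c₀ * D v v)) • v := sub_eq_zero.1 (hu'.symm.trans hc'.1)
      have e2 : c₀⁻¹ • w = v := sub_eq_zero.1 (hw'.symm.trans hc'.2)
      congr 2
      · conv_lhs => rw [← one_smul F u, ← mul_inv_cancel₀ hc00, ← smul_smul, e1, smul_smul]
        congr 1; field_simp
      · conv_lhs => rw [← one_smul F w, ← mul_inv_cancel₀ hc00, ← smul_smul, e2]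
  -- a singular pure vector
  obtain ⟨k, hkv, hk⟩ := hT.exists_aniso_perp_singular hv0 hv
  obtain ⟨e, hev, he, hew⟩ : ∃ e, D e v = 0 ∧ D e e ≠ 0 ∧ D e w ≠ 0 := by
    by_cases h : D k w = 0
    · refine ⟨k + v, by rw [map_add, LinearMap.add_apply, hkv, hv, add_zero], ?_, ?_⟩
      · rw [hT.quad_add, hkv, hv]; simpa using hk
      · rw [map_add, LinearMap.add_apply, h, zero_add]; exact hvw
    · exact ⟨k, hkv, hk, h⟩
  obtain ⟨δ, hδ⟩ : ∃ δ, δ = W (Φ (v, 0)) (Φ (u, w)) := ⟨_, rfl⟩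
  have hδ0 : δ ≠ 0 := hδ ▸ hr2.ne
  obtain ⟨j, hj, hjx⟩ := hr2.exists
  have hr4 := hT.refP_map hM (hT.refP_pure hM he) hj
  have hve : D v e = 0 := (hT.symm _ _).trans hev
  rw [hjx, hjx, ← hδ, hT.form, hT.form, hT.form, hT.form] at hr4
  simp only [hev, map_zero, LinearMap.zero_apply, sub_zero, zero_sub, zero_smul, neg_smul, phi_smul, smul_zero,
    phi_sub, sub_neg_eq_add] at hr4
  refine hT.l1_aniso hM (v := e - (2 / δ * D e w) • v) (u := (2 / δ * D e u) • v) (w := (2 / δ * D e w) • v)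
    ?_ ?_ ?_ ?_ (Or.inr (smul_ne_zero (mul_ne_zero (div_ne_zero hT.two hδ0) hew) hv0))
  · simp only [map_sub, LinearMap.sub_apply, map_smul, LinearMap.smul_apply, smul_eq_mul, hev, hve, hv]
    simpa using he
  · simp only [map_sub, map_smul, LinearMap.smul_apply, smul_eq_mul, hve, hv]; ring
  · simp only [map_sub, map_smul, LinearMap.smul_apply, smul_eq_mul, hve, hv]; ring
  · convert hr4 using 3
    · simp [smul_smul]
    · simp [smul_smul, phi_smul, phi_add]

/-- A plane over a singular line. -/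
theorem l2 {v l : U} (hv : D v v ≠ 0) (hvl : D v l = 0) (hl : D l l = 0) (hl0 : l ≠ 0) {a b c d : F}
    (hns : b ≠ 0 ∨ c ≠ 0 ∨ a ≠ d) (hr : RefP M (Φ (v + a • l, c • l)) (Φ (b • l, v + d • l))) :
    spGL m F ≤ M := by
  obtain ⟨κ, hκ⟩ : ∃ κ, κ = 2 / D v v := ⟨_, rfl⟩
  have hκ0 : κ ≠ 0 := hκ ▸ div_ne_zero hT.two hv
  have hlv : D l v = 0 := (hT.symm _ _).trans hvl
  obtain ⟨T, hTx, hTi, -⟩ := hT.exists_refl hv
  obtain ⟨R, hR, hRx⟩ := hT.exists_diag hM hTi
  have nform : ∀ a b c d : F, RefP M (Φ (v + a • l, c • l)) (Φ (b • l, v + d • l)) → ∃ g ∈ M, ∀ x y,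
      (g : Mn) *ᵥ Φ (x, y) =
        Φ (x + κ • ((b * D l y - d * D l x) • v + (a * D v x + b * D v y - (a * d - b * c) * D l x) • l),
          y + κ • ((c * D l x - a * D l y) • v + (c * D v x + d * D v y - (a * d - b * c) * D l y) • l)) := by
    intro a b c d hr
    obtain ⟨j, hj, hjx⟩ := hr.exists
    refine ⟨j * R, mul_mem hj hR, fun x y => ?_⟩
    have hδ : W (Φ (v + a • l, c • l)) (Φ (b • l, v + d • l)) = D v v := by
      rw [hT.form]
      simp only [map_add, map_smul, LinearMap.add_apply, LinearMap.smul_apply, smul_eq_mul, hvl, hlv, hl]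
      ring
    rw [Units.val_mul, ← Matrix.mulVec_mulVec, hRx, hjx, hδ, hT.form, hT.form, hTx, hTx, phi_smul, phi_smul,
      phi_sub, phi_smul, phi_sub]
    simp only [map_sub, map_add, map_smul, LinearMap.sub_apply, LinearMap.smul_apply, smul_eq_mul, hvl,
      hT.symm x v, hT.symm x l, hT.symm y v, hT.symm y l]
    congr 2 <;> match_scalars <;> (try rw [hκ]) <;> field_simp <;> ring
  have hvl1 : D (v + l) (v + l) ≠ 0 := by rw [hT.quad_add, hvl, hl]; simpa using hv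
  obtain ⟨g₁, hg₁, h₁⟩ := nform 1 0 0 1 (by simpa using hT.refP_pure hM hvl1)
  obtain ⟨g₂, hg₂, h₂⟩ := nform a b c d hr
  obtain ⟨μ, hμ⟩ : ∃ μ, μ = 2 * κ * (d - a) := ⟨_, rfl⟩
  obtain ⟨ν, hν⟩ : ∃ ν, ν = -(4 * κ * b) := ⟨_, rfl⟩
  obtain ⟨ρ, hρ⟩ : ∃ ρ, ρ = -(4 * κ * c) := ⟨_, rfl⟩
  have hκv : κ * D v v = 2 := by rw [hκ, div_mul_cancel₀ _ hv]
  have h₀ : InN M (zMap D Φ l μ ν ρ) := inN_of_pair (mul_mem hg₁ hg₂) (mul_mem hg₂ hg₁) fun z =>
    ext_phi (Φ := Φ) (f := fun z => ((g₂ * g₁ : G) : Mn) *ᵥ z)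
      (g := fun z => ((g₁ * g₂ : G) : Mn) *ᵥ z + zMap D Φ l μ ν ρ (((g₁ * g₂ : G) : Mn) *ᵥ z)) (fun x y => by
        simp only [Units.val_mul, ← Matrix.mulVec_mulVec, h₁, h₂, zMap_apply, phi_add, map_add, map_smul,
          smul_eq_mul, hvl, hlv, hl]
        congr 2 <;> match_scalars
        all_goals try simp only [hμ, hν, hρ, hκ]
        all_goals first
          | (field_simp; done)
          | (field_simp; ring)
        ) z
  have hadd : ∀ {μ ν ρ μ' ν' ρ' : F}, InN M (zMap D Φ l μ ν ρ) → InN M (zMap D Φ l μ' ν' ρ') →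
      InN M (zMap D Φ l (μ - μ') (ν - ν') (ρ - ρ')) := by
    intro μ ν ρ μ' ν' ρ' h h'
    refine (InN.sub h h' (fun x => ?_) fun x => ?_).congr fun x => ?_
    · refine ext_phi (Φ := Φ) (f := fun x => zMap D Φ l μ' ν' ρ' (x - zMap D Φ l μ' ν' ρ' x))
        (g := zMap D Φ l μ' ν' ρ') (fun x y => ?_) x
      simp [zMap_apply, phi_sub, hl]
    · refine ext_phi (Φ := Φ) (f := fun x => zMap D Φ l μ ν ρ (x - zMap D Φ l μ' ν' ρ' x))
        (g := zMap D Φ l μ ν ρ) (fun x y => ?_) x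
      simp [zMap_apply, phi_sub, hl]
    · refine ext_phi (Φ := Φ) (f := fun x => zMap D Φ l μ ν ρ x - zMap D Φ l μ' ν' ρ' x)
        (g := zMap D Φ l (μ - μ') (ν - ν') (ρ - ρ')) (fun x y => ?_) x
      simp only [zMap_apply, phi_sub]
      congr 2 <;> match_scalars <;> ring
  have hup : ∀ {μ ν ρ : F}, InN M (zMap D Φ l μ ν ρ) → ∀ t : F,
      InN M (zMap D Φ l (μ + t * ρ) (ν - 2 * t * μ - t * t * ρ) ρ) := by
    intro μ ν ρ h t
    obtain ⟨g, hg, hgx, -⟩ := hT.exists_sl hM (a := 1) (b := t) (c := 0) (d := 1) (by ring)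
    refine inN_conj h hg fun z => ext_phi (Φ := Φ)
      (f := fun z => zMap D Φ l (μ + t * ρ) (ν - 2 * t * μ - t * t * ρ) ρ ((g : Mn) *ᵥ z))
      (g := fun z => (g : Mn) *ᵥ zMap D Φ l μ ν ρ z) (fun x y => ?_) z
    simp only [hgx, zMap_apply, map_add, map_smul, smul_eq_mul]
    congr 2 <;> match_scalars <;> ring
  obtain ⟨ν₀, hν₀, h⟩ : ∃ ν₀, ν₀ ≠ 0 ∧ InN M (zMap D Φ l 0 ν₀ 0) := by
    by_cases hρ0 : ρ = 0
    · by_cases hμ0 : μ = 0
      · refine ⟨ν, fun hν0 => ?_, by rwa [hμ0, hρ0] at h₀⟩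
        have h4 : (4 : F) * κ ≠ 0 :=
          mul_ne_zero (by rw [show (4 : F) = 2 * 2 by norm_num]; exact mul_ne_zero hT.two hT.two) hκ0
        rcases hns with hb | hc | had
        · exact hb ((mul_eq_zero.1 (neg_eq_zero.1 (hν.symm.trans hν0))).resolve_left h4)
        · exact hc ((mul_eq_zero.1 (neg_eq_zero.1 (hρ.symm.trans hρ0))).resolve_left h4)
        · exact had (sub_eq_zero.1 ((mul_eq_zero.1 (hμ.symm.trans hμ0)).resolve_left (mul_ne_zero hT.two hκ0))).symm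
      · refine ⟨-(2 * μ), neg_ne_zero.2 (mul_ne_zero hT.two hμ0), ?_⟩
        convert hadd (hup h₀ 1) h₀ using 2 <;> rw [hρ0] <;> ring
    · have hd : ∀ t, InN M (zMap D Φ l (t * ρ) (-(2 * t * μ) - t * t * ρ) 0) := fun t => by
        convert hadd (hup h₀ t) h₀ using 2 <;> ring
      refine ⟨-(2 * ρ), neg_ne_zero.2 (mul_ne_zero hT.two hρ0), ?_⟩
      convert hadd (hadd (hd 2) (hd 1)) (hd 1) using 2 <;> ring
  have h2 : InN M (hor Φ (ν₀ • sq1 D l)) := h.congr fun z => by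
    refine ext_phi (Φ := Φ) (f := zMap D Φ l 0 ν₀ 0) (g := hor Φ (ν₀ • sq1 D l)) (fun x y => ?_) z
    simp [zMap_apply, hor_apply, sq1_apply, smul_smul, hT.symm y l]
  have h3 : InN M (hor Φ (sq1 D l)) := by
    simpa [smul_smul, inv_mul_cancel₀ hν₀] using hT.hor_smul hM h2 ν₀⁻¹
  exact hT.full_of_sq1 hM hl0 hl h3

/-- An anisotropic pure vector perpendicular to a non-pure plane. -/
theorem step2 {p₀ p₁ : V} (hr : RefP M p₀ p₁) (hnp : ¬ Pure2 Φ p₀ p₁) {e : U} (he : D e e ≠ 0) {r s : F}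
    (hrs : r ≠ 0 ∨ s ≠ 0) (h₀ : W (Φ (r • e, s • e)) p₀ = 0) (h₁ : W (Φ (r • e, s • e)) p₁ = 0) :
    spGL m F ≤ M ∨ D e (Φ.symm p₀).1 = 0 ∧ D e (Φ.symm p₀).2 = 0 ∧ D e (Φ.symm p₁).1 = 0 ∧
      D e (Φ.symm p₁).2 = 0 := by
  rw [or_iff_not_imp_left]
  intro hfull
  obtain ⟨a, b, c, d, hdet, ha, hc⟩ : ∃ a b c d : F, a * d - b * c = 1 ∧ a * r + b * s = 1 ∧ c * r + d * s = 0 := by
    by_cases hr0 : r = 0
    · have hs := hrs.resolve_left (not_not.2 hr0)
      exact ⟨0, s⁻¹, -s, 0, by field_simp; ring, by rw [hr0]; field_simp; ring, by rw [hr0]; ring⟩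
    · exact ⟨r⁻¹, 0, -s, r, by field_simp; ring, by field_simp; ring, by ring⟩
  obtain ⟨g, hg, hgx, -⟩ := hT.exists_sl hM hdet
  obtain ⟨⟨u₀, w₀⟩, hq₀⟩ := Φ.surjective ((g : Mn) *ᵥ p₀)
  obtain ⟨⟨u₁, w₁⟩, hq₁⟩ := Φ.surjective ((g : Mn) *ᵥ p₁)
  have hr2 := hT.refP_map hM hr hg
  rw [← hq₀, ← hq₁] at hr2
  have e0 : (g : Mn) *ᵥ Φ (r • e, s • e) = Φ (e, 0) := by
    rw [hgx, smul_smul, smul_smul, smul_smul, smul_smul, ← add_smul, ← add_smul, ha, hc, one_smul, zero_smul]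
  rw [← hT.iso hM hg, e0, ← hq₀, hT.form, hT.zero_left, sub_zero] at h₀
  rw [← hT.iso hM hg, e0, ← hq₁, hT.form, hT.zero_left, sub_zero] at h₁
  obtain ⟨j, hj, hjx⟩ := hr2.exists
  have hr3 := hT.refP_map hM (hT.refP_pure hM he) hj
  obtain ⟨δ, hδ⟩ : ∃ δ, δ = W (Φ (u₀, w₀)) (Φ (u₁, w₁)) := ⟨_, rfl⟩
  have hδ0 : δ ≠ 0 := hδ ▸ hr2.ne
  rw [hjx, hjx, ← hδ, hT.form, hT.form, hT.form, hT.form, h₀, h₁] at hr3
  simp only [map_zero, LinearMap.zero_apply, sub_zero, zero_sub, zero_smul, smul_zero, neg_smul, phi_smul,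
    phi_sub, sub_neg_eq_add, sub_neg_eq_add, ← map_neg, Prod.neg_mk, phi_add] at hr3
  -- the new plane is pure
  by_cases hp : Pure2 Φ (Φ (e, 0)) (Φ (0 - (2 / δ) • (-(D e u₁ • u₀) - -(D e u₀ • u₁)),
      e - (2 / δ) • (-(D e u₁ • w₀) - -(D e u₀ • w₁))))
  swap
  · refine absurd (hT.l1 hM (v := e) (r := 1) (s := 0) ?_ hp (α := 1) (β := 0) (Or.inl one_ne_zero) ?_) hfull
    · convert hr3 using 3 <;> simp [phi_sub]
    · rw [one_smul, zero_smul, add_zero, one_smul, zero_smul]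
  obtain ⟨x, i, i', j', k', hi, hj'⟩ := hp
  obtain ⟨hi1, -⟩ := Prod.mk.inj (Φ.injective hi)
  have hi0 : i ≠ 0 := fun h0 => he (by rw [hi1, h0, zero_smul, hT.zero_left])
  have hx : x = i⁻¹ • e := by rw [hi1, smul_smul, inv_mul_cancel₀ hi0, one_smul]
  obtain ⟨hj1, hj2⟩ := Prod.mk.inj (Φ.injective hj')
  obtain ⟨X, hX⟩ : ∃ X, X = D e u₁ • u₀ - D e u₀ • u₁ := ⟨_, rfl⟩
  obtain ⟨Y, hY⟩ : ∃ Y, Y = D e u₁ • w₀ - D e u₀ • w₁ := ⟨_, rfl⟩
  have hκ : (2 / δ : F) ≠ 0 := div_ne_zero hT.two hδ0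
  have hX0 : X = 0 := by
    have hXe : D e X = 0 := by rw [hX, map_sub, map_smul, map_smul, smul_eq_mul, smul_eq_mul]; ring
    have e1 : (2 / δ) • X = (j' * i⁻¹) • e := by
      rw [← smul_smul, ← hx, ← hj1, hX]; module
    have h2 := congrArg (D e) e1
    rw [map_smul, map_smul, hXe, smul_zero, smul_eq_mul] at h2
    rw [(mul_eq_zero.1 h2.symm).resolve_right he, zero_smul] at e1
    exact (smul_eq_zero.1 e1).resolve_left hκ
  have hY0 : Y = 0 := by
    have hYe : D e Y = 0 := by rw [hY, map_sub, map_smul, map_smul, h₀, h₁, smul_zero, smul_zero, sub_zero]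
    have e1 : (2 / δ) • Y = (k' * i⁻¹ - 1) • e := by
      rw [sub_smul, one_smul, ← smul_smul, ← hx, ← hj2, hY]; module
    have h2 := congrArg (D e) e1
    rw [map_smul, map_smul, hYe, smul_zero, smul_eq_mul] at h2
    rw [(mul_eq_zero.1 h2.symm).resolve_right he, zero_smul] at e1
    exact (smul_eq_zero.1 e1).resolve_left hκ
  have hcomb : D e u₁ • Φ (u₀, w₀) - D e u₀ • Φ (u₁, w₁) = 0 := by
    rw [phi_smul, phi_smul, phi_sub, ← hX, ← hY, hX0, hY0, Prod.mk_zero_zero, map_zero]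
  have hu₁ : D e u₁ = 0 := by
    have h := congrArg (fun z => W z (Φ (u₁, w₁))) hcomb
    simp only [sesq_sympForm.zero_left, sub_eq_add_neg, ← neg_smul, sympForm_add_left, sympForm_smul_left,
      sympForm_self, mul_zero, add_zero] at h
    exact (mul_eq_zero.1 h).resolve_right hr2.ne
  have hu₀ : D e u₀ = 0 := by
    have h := congrArg (fun z => W (Φ (u₀, w₀)) z) hcomb
    simp only [sesq_sympForm.zero_right, sub_eq_add_neg, ← neg_smul, sympForm_add_right, sympForm_smul_right,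
      sympForm_self, mul_zero, zero_add] at h
    exact neg_eq_zero.1 ((mul_eq_zero.1 h).resolve_right hr2.ne)
  -- back to the first plane
  have back : ∀ (p : V) (u w : U), Φ (u, w) = (g : Mn) *ᵥ p → D e u = 0 → D e w = 0 →
      D e (Φ.symm p).1 = 0 ∧ D e (Φ.symm p).2 = 0 := by
    intro p u w h hu hw
    obtain ⟨⟨x, y⟩, rfl⟩ := Φ.surjective p
    rw [hgx] at h
    obtain ⟨hu', hw'⟩ := Prod.mk.inj (Φ.injective h)
    rw [hu', map_add, map_smul, map_smul, smul_eq_mul, smul_eq_mul] at hu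
    rw [hw', map_add, map_smul, map_smul, smul_eq_mul, smul_eq_mul] at hw
    rw [LinearEquiv.symm_apply_apply]
    exact ⟨by linear_combination d * hu - b * hw - D e x * hdet, by linear_combination a * hw - c * hu - D e y * hdet⟩
  exact ⟨(back p₀ u₀ w₀ hq₀ hu₀ h₀).1, (back p₀ u₀ w₀ hq₀ hu₀ h₀).2, back p₁ u₁ w₁ hq₁ hu₁ h₁⟩

end TwoData

end Cfsg.Agent.Classical.TensorTwo
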