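import Cfsg.Agent.Lib.Classical.MaxTensorTwoRef
import Cfsg.Agent.Lib.Classical.SLNormal

/-!
`Sp₂ ⊗ GO₃`: a reflection exchanging two pure planes gives the whole symplectic group.
-/

set_option autoImplicit false
set_option linter.unusedSectionVars false

namespace Cfsg.Agent.Classical.TensorTwo

open Matrix Module MaxTv

variable {F : Type*} [Field F] [Fintype F] {m : ℕ} {U : Type*} [AddCommGroup U] [Module F U]
  [FiniteDimensional F U]

local notation "V" => (Fin m ⊕ Fin m → F)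
local notation "Mn" => Matrix (Fin m ⊕ Fin m) (Fin m ⊕ Fin m) F
local notation "W" => sympForm m F
local notation "G" => GL (Fin m ⊕ Fin m) F
local notation "SL₂" => Matrix.SpecialLinearGroup (Fin 2) F

/-- The vector with six coordinates. -/
def six (Φ : (U × U) ≃ₗ[F] (Fin m ⊕ Fin m → F)) (e v w : U) (x₀ y₀ x₁ y₁ x₂ y₂ : F) : Fin m ⊕ Fin m → F :=
  Φ (x₀ • e + x₁ • v + x₂ • w, y₀ • e + y₁ • v + y₂ • w)

/-- A matrix acting in the pure plane over `l`. -/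
noncomputable def blk (D : LinearMap.BilinForm F U) (l : U) (X : Matrix (Fin 2) (Fin 2) F) : U × U →ₗ[F] U × U :=
  ((X 0 0 • ((D l l)⁻¹ • D.flip l) ∘ₗ LinearMap.fst F U U +
      X 0 1 • ((D l l)⁻¹ • D.flip l) ∘ₗ LinearMap.snd F U U).smulRight l).prod
    ((X 1 0 • ((D l l)⁻¹ • D.flip l) ∘ₗ LinearMap.fst F U U +
      X 1 1 • ((D l l)⁻¹ • D.flip l) ∘ₗ LinearMap.snd F U U).smulRight l)

/-- Three matrices acting in three pure planes. -/
noncomputable def triLin (D : LinearMap.BilinForm F U) (Φ : (U × U) ≃ₗ[F] (Fin m ⊕ Fin m → F)) (e v w : U)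
    (X Y Z : Matrix (Fin 2) (Fin 2) F) : (Fin m ⊕ Fin m → F) →ₗ[F] (Fin m ⊕ Fin m → F) :=
  Φ.toLinearMap ∘ₗ (blk D e X + blk D v Y + blk D w Z) ∘ₗ Φ.symm.toLinearMap

/-- An upper triangular matrix. -/
def upSL (t : F) : Matrix.SpecialLinearGroup (Fin 2) F := ⟨!![1, t; 0, 1], by simp [Matrix.det_fin_two]⟩

/-- A lower triangular matrix. -/
def lowSL (t : F) : Matrix.SpecialLinearGroup (Fin 2) F := ⟨!![1, 0; t, 1], by simp [Matrix.det_fin_two]⟩

theorem upSL_coe (t : F) : ((upSL t : Matrix.SpecialLinearGroup (Fin 2) F) : Matrix (Fin 2) (Fin 2) F) =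
    !![1, t; 0, 1] := rfl

theorem lowSL_coe (t : F) : ((lowSL t : Matrix.SpecialLinearGroup (Fin 2) F) : Matrix (Fin 2) (Fin 2) F) =
    !![1, 0; t, 1] := rfl

theorem upSL_inv (t : F) : (upSL t)⁻¹ = upSL (-t) := by
  refine inv_eq_of_mul_eq_one_right (Subtype.ext ?_)
  rw [Matrix.SpecialLinearGroup.coe_mul, upSL_coe, upSL_coe, Matrix.SpecialLinearGroup.coe_one]
  simp [Matrix.one_fin_two]

theorem center_SL_two {z : Matrix.SpecialLinearGroup (Fin 2) F}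
    (hz : z ∈ Subgroup.center (Matrix.SpecialLinearGroup (Fin 2) F)) :
    (z : Matrix (Fin 2) (Fin 2) F) 1 0 = 0 ∧ (z : Matrix (Fin 2) (Fin 2) F) 0 1 = 0 ∧
      (z : Matrix (Fin 2) (Fin 2) F) 0 0 = (z : Matrix (Fin 2) (Fin 2) F) 1 1 ∧
      ((z : Matrix (Fin 2) (Fin 2) F) 0 0 = 1 ∨ (z : Matrix (Fin 2) (Fin 2) F) 0 0 = -1) := by
  have h1 := congrArg (fun g : Matrix.SpecialLinearGroup (Fin 2) F => (g : Matrix (Fin 2) (Fin 2) F))
    (Subgroup.mem_center_iff.1 hz (upSL 1))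
  have h2 := congrArg (fun g : Matrix.SpecialLinearGroup (Fin 2) F => (g : Matrix (Fin 2) (Fin 2) F))
    (Subgroup.mem_center_iff.1 hz (lowSL 1))
  simp only [upSL_coe, lowSL_coe, Matrix.SpecialLinearGroup.coe_mul] at h1 h2
  have a := congrFun (congrFun h1 0) 0
  have b := congrFun (congrFun h1 0) 1
  have c := congrFun (congrFun h2 0) 0
  simp [Matrix.mul_apply, Fin.sum_univ_two] at a b c
  have hd := z.2
  rw [Matrix.det_fin_two] at hd
  have h00 : (z : Matrix (Fin 2) (Fin 2) F) 0 0 = (z : Matrix (Fin 2) (Fin 2) F) 1 1 := by linear_combination -b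
  refine ⟨a, c, h00, ?_⟩
  have : ((z : Matrix (Fin 2) (Fin 2) F) 0 0 - 1) * ((z : Matrix (Fin 2) (Fin 2) F) 0 0 + 1) = 0 := by
    linear_combination hd + (z : Matrix (Fin 2) (Fin 2) F) 0 0 * h00 + (z : Matrix (Fin 2) (Fin 2) F) 0 1 * a
  rcases mul_eq_zero.1 this with h | h
  · exact Or.inl (sub_eq_zero.1 h)
  · exact Or.inr (eq_neg_of_add_eq_zero_left h)

namespace TwoData

variable {D : LinearMap.BilinForm F U} {Φ : (U × U) ≃ₗ[F] (Fin m ⊕ Fin m → F)}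
  {M : Subgroup (GL (Fin m ⊕ Fin m) F)}

variable (hT : TwoData D Φ) (hM : Over Φ M)
include hT hM

set_option maxHeartbeats 1600000 in
/-- The exchange of two pure planes. -/
theorem swap_full (hq : 5 ≤ Fintype.card F) {s₀ : F} (hs₀ : s₀ ≠ 0) (hs₁ : s₀ * s₀ ≠ 1) {e v w : U}
    (he : D e e ≠ 0) (hv : D v v ≠ 0) (hw : D w w ≠ 0) (hev : D e v = 0) (hew : D e w = 0) (hvw : D v w = 0)
    (hsp : ∀ x, x = (D x e / D e e) • e + (D x v / D v v) • v + (D x w / D w w) • w) {a b c d : F}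
    (hc : c ≠ 0) (hΔ : D v v = (a * d - b * c) * D w w)
    (hr : RefP M (Φ (v + a • w, c • w)) (Φ (b • w, v + d • w))) : spGL m F ≤ M := by
  classical
  obtain ⟨Δ, hΔd⟩ : ∃ Δ, Δ = a * d - b * c := ⟨_, rfl⟩
  rw [← hΔd] at hΔ
  have hΔ0 : Δ ≠ 0 := fun h0 => hv (by rw [hΔ, h0, zero_mul])
  have h2 := hT.two
  have hve : D v e = 0 := (hT.symm _ _).trans hev
  have hwe : D w e = 0 := (hT.symm _ _).trans hew
  have hwv : D w v = 0 := (hT.symm _ _).trans hvw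
  have hsix : ∀ z : V, ∃ x₀ y₀ x₁ y₁ x₂ y₂, z = six Φ e v w x₀ y₀ x₁ y₁ x₂ y₂ := fun z => by
    obtain ⟨⟨A, B⟩, rfl⟩ := Φ.surjective z
    refine ⟨D A e / D e e, D B e / D e e, D A v / D v v, D B v / D v v, D A w / D w w, D B w / D w w, ?_⟩
    rw [six, ← hsp A, ← hsp B]
  have htri : ∀ (X Y Z : Matrix (Fin 2) (Fin 2) F) x₀ y₀ x₁ y₁ x₂ y₂,
      triLin D Φ e v w X Y Z (six Φ e v w x₀ y₀ x₁ y₁ x₂ y₂) =
        six Φ e v w (X 0 0 * x₀ + X 0 1 * y₀) (X 1 0 * x₀ + X 1 1 * y₀) (Y 0 0 * x₁ + Y 0 1 * y₁)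
          (Y 1 0 * x₁ + Y 1 1 * y₁) (Z 0 0 * x₂ + Z 0 1 * y₂) (Z 1 0 * x₂ + Z 1 1 * y₂) := by
    intro X Y Z x₀ y₀ x₁ y₁ x₂ y₂
    simp only [triLin, six, blk, LinearMap.coe_comp, Function.comp_apply, LinearEquiv.coe_coe,
      LinearEquiv.symm_apply_apply, LinearMap.add_apply, LinearMap.prod_apply, Pi.prod, LinearMap.smulRight_apply,
      LinearMap.smul_apply, LinearMap.fst_apply, LinearMap.snd_apply, LinearMap.flip_apply, map_add, map_smul,
      smul_eq_mul, hev, hew, hve, hvw, hwe, hwv, Prod.mk_add_mk, EmbeddingLike.apply_eq_iff_eq, Prod.mk.injEq]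
    simp [hve, hwe, hev, hew, hvw, hwv, he, hv, hw]
    rw [phi_add, phi_add]
    congr 2 <;> match_scalars <;> field_simp
  let f : SL₂ × SL₂ × SL₂ →* Mn :=
    { toFun := fun p => LinearMap.toMatrix' (triLin D Φ e v w p.1 p.2.1 p.2.2)
      map_one' := Matrix.ext_iff_mulVec.2 fun z => by
        obtain ⟨x₀, y₀, x₁, y₁, x₂, y₂, rfl⟩ := hsix z
        simp [LinearMap.toMatrix'_mulVec, htri]
      map_mul' := fun p p' => Matrix.ext_iff_mulVec.2 fun z => by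
        obtain ⟨x₀, y₀, x₁, y₁, x₂, y₂, rfl⟩ := hsix z
        simp only [← Matrix.mulVec_mulVec, LinearMap.toMatrix'_mulVec, htri, Prod.fst_mul, Prod.snd_mul,
          Matrix.SpecialLinearGroup.coe_mul, Matrix.mul_apply, Fin.sum_univ_two]
        congr 1 <;> ring }
  let ψ : SL₂ × SL₂ × SL₂ →* G := f.toHomUnits
  have hψ : ∀ p x₀ y₀ x₁ y₁ x₂ y₂, (ψ p : Mn) *ᵥ six Φ e v w x₀ y₀ x₁ y₁ x₂ y₂ =
      triLin D Φ e v w p.1 p.2.1 p.2.2 (six Φ e v w x₀ y₀ x₁ y₁ x₂ y₂) := fun p _ _ _ _ _ _ => by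
    simp [ψ, f, MonoidHom.coe_toHomUnits, LinearMap.toMatrix'_mulVec]
  have hgext : ∀ g g' : G, (∀ x₀ y₀ x₁ y₁ x₂ y₂, (g : Mn) *ᵥ six Φ e v w x₀ y₀ x₁ y₁ x₂ y₂ =
      (g' : Mn) *ᵥ six Φ e v w x₀ y₀ x₁ y₁ x₂ y₂) → g = g' := fun g g' h =>
    Units.ext (Matrix.ext_iff_mulVec.2 fun z => by
      obtain ⟨x₀, y₀, x₁, y₁, x₂, y₂, rfl⟩ := hsix z
      exact h _ _ _ _ _ _)
  have hdiag : ∀ u : SL₂, ψ (u, u, u) ∈ M := fun u => by
    obtain ⟨g, hg, hgx, -⟩ := hT.exists_sl hM (a := u.1 0 0) (b := u.1 0 1) (c := u.1 1 0) (d := u.1 1 1)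
      (by rw [← Matrix.det_fin_two]; exact u.2)
    convert hg
    refine hgext _ _ fun x₀ y₀ x₁ y₁ x₂ y₂ => ?_
    rw [hψ, htri]
    simp only [six, hgx]
    congr 2 <;> match_scalars <;> ring
  -- the reflection
  obtain ⟨j, hj, hjx⟩ := hr.exists
  have hδ : W (Φ (v + a • w, c • w)) (Φ (b • w, v + d • w)) = 2 * (Δ * D w w) := by
    rw [hT.form]
    simp only [map_add, map_smul, LinearMap.add_apply, LinearMap.smul_apply, smul_eq_mul, hvw, hwv, hΔ, hΔd]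
    ring
  have hjsix : ∀ x₀ y₀ x₁ y₁ x₂ y₂, (j : Mn) *ᵥ six Φ e v w x₀ y₀ x₁ y₁ x₂ y₂ =
      six Φ e v w x₀ y₀ (-(d * x₂ - b * y₂) / Δ) (-(a * y₂ - c * x₂) / Δ) (-(a * x₁ + b * y₁))
        (-(c * x₁ + d * y₁)) := by
    intro x₀ y₀ x₁ y₁ x₂ y₂
    rw [hjx, hδ]
    simp only [six, hT.form, map_add, map_smul, LinearMap.add_apply, LinearMap.smul_apply, smul_eq_mul, hev, hew,
      hvw, hwv, hΔ, phi_smul, phi_sub]
    congr 2 <;> match_scalars <;> field_simp <;> rw [hΔd] <;> ring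
  let θ₁ : SL₂ → SL₂ := fun u => ⟨Δ⁻¹ • (!![d, -b; -c, a] * (u : Matrix (Fin 2) (Fin 2) F) * !![a, b; c, d]), by
    rw [Matrix.det_smul, Matrix.det_mul, Matrix.det_mul, u.2]
    simp only [Fintype.card_fin, Matrix.det_fin_two_of]
    rw [show d * a - -b * -c = Δ by rw [hΔd]; ring, ← hΔd]
    field_simp⟩
  let θ₂ : SL₂ → SL₂ := fun u => ⟨Δ⁻¹ • (!![a, b; c, d] * (u : Matrix (Fin 2) (Fin 2) F) * !![d, -b; -c, a]), by
    rw [Matrix.det_smul, Matrix.det_mul, Matrix.det_mul, u.2]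
    simp only [Fintype.card_fin, Matrix.det_fin_two_of]
    rw [show d * a - -b * -c = Δ by rw [hΔd]; ring, ← hΔd]
    field_simp⟩
  have hθ₁ : ∀ u : SL₂, (θ₁ u : Matrix (Fin 2) (Fin 2) F) =
      Δ⁻¹ • (!![d, -b; -c, a] * (u : Matrix (Fin 2) (Fin 2) F) * !![a, b; c, d]) := fun u => rfl
  have hθ₂ : ∀ u : SL₂, (θ₂ u : Matrix (Fin 2) (Fin 2) F) =
      Δ⁻¹ • (!![a, b; c, d] * (u : Matrix (Fin 2) (Fin 2) F) * !![d, -b; -c, a]) := fun u => rfl
  have hθ : ∀ u : SL₂, ψ (u, θ₁ u, θ₂ u) ∈ M := fun u => by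
    convert mul_mem (mul_mem hj (hdiag u)) hj
    refine hgext _ _ fun x₀ y₀ x₁ y₁ x₂ y₂ => ?_
    simp only [Units.val_mul, ← Matrix.mulVec_mulVec, hψ, htri, hjsix, hθ₁, hθ₂, Matrix.smul_apply, smul_eq_mul,
      Matrix.mul_apply, Fin.sum_univ_two]
    simp only [Matrix.cons_val', Matrix.cons_val_zero, Matrix.cons_val_one, Matrix.cons_val_fin_one, Matrix.of_apply]
    congr 1 <;> field_simp <;> ring
  let H : Subgroup (SL₂ × SL₂) := M.comap (ψ.comp (MonoidHom.inr SL₂ (SL₂ × SL₂)))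
  have hHmem : ∀ p, p ∈ H ↔ ψ (1, p) ∈ M := fun p => Iff.rfl
  have hHconj : ∀ (u : SL₂) (p : SL₂ × SL₂), p ∈ H → (u * p.1 * u⁻¹, u * p.2 * u⁻¹) ∈ H := fun u p hp => by
    rw [hHmem] at hp ⊢
    convert mul_mem (mul_mem (hdiag u) hp) (inv_mem (hdiag u)) using 1
    rw [← map_inv, ← map_mul, ← map_mul]
    congr 1
    simp [Prod.ext_iff]
  have hHθ : ∀ u : SL₂, (θ₁ u * u⁻¹, θ₂ u * u⁻¹) ∈ H := fun u => by
    rw [hHmem]
    convert mul_mem (hθ u) (inv_mem (hdiag u)) using 1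
    rw [← map_inv, ← map_mul]
    congr 1
    simp [Prod.ext_iff]
  -- the parameters
  obtain ⟨s, hs⟩ : ∃ s, s = -(a + d) / c := ⟨_, rfl⟩
  obtain ⟨t, ht0, httr⟩ : ∃ t : F, t ≠ 0 ∧ 2 + t * t * (c * c / Δ) ≠ 0 := by
    by_cases h : 2 + 1 * 1 * (c * c / Δ) = 0
    · refine ⟨s₀, hs₀, fun h' => hs₁ ?_⟩
      have hC : c * c / Δ ≠ 0 := div_ne_zero (mul_ne_zero hc hc) hΔ0
      exact mul_right_cancel₀ hC (by linear_combination h' - h)
    · exact ⟨1, one_ne_zero, h⟩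
  obtain ⟨β, hβ⟩ : ∃ β, β = θ₂ (upSL t) * (upSL t)⁻¹ := ⟨_, rfl⟩
  have hαβ : θ₁ (upSL t) * (upSL t)⁻¹ = upSL s * β * upSL (-s) := by
    rw [hβ]
    refine Subtype.ext ?_
    simp only [upSL_inv, Matrix.SpecialLinearGroup.coe_mul, hθ₁, hθ₂, upSL_coe]
    ext i k
    fin_cases i <;> fin_cases k <;>
      simp [Matrix.mul_apply, Fin.sum_univ_two, Matrix.smul_apply, hs] <;>
      field_simp <;> first | ring1 | simp
  obtain ⟨p, q, r, x, hβe⟩ : ∃ p q r x : F, (β : Matrix (Fin 2) (Fin 2) F) = !![p, q; r, x] :=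
    ⟨_, _, _, _, Matrix.eta_fin_two _⟩
  have hr10 : r = -(t * (c * c)) / Δ := by
    have h := congrFun (congrFun hβe 1) 0
    simp only [hβ, upSL_inv, Matrix.SpecialLinearGroup.coe_mul, hθ₂, upSL_coe] at h
    simp [Matrix.mul_apply, Fin.sum_univ_two, Matrix.smul_apply] at h
    rw [← h]
    field_simp
    ring
  have hr0 : r ≠ 0 := by rw [hr10]; exact div_ne_zero (neg_ne_zero.2 (mul_ne_zero ht0 (mul_ne_zero hc hc))) hΔ0
  have htr : p + x = 2 + t * t * (c * c / Δ) := by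
    have h00 := congrFun (congrFun hβe 0) 0
    have h11 := congrFun (congrFun hβe 1) 1
    simp only [hβ, upSL_inv, Matrix.SpecialLinearGroup.coe_mul, hθ₂, upSL_coe] at h00 h11
    simp [Matrix.mul_apply, Fin.sum_univ_two, Matrix.smul_apply] at h00 h11
    rw [← h00, ← h11]
    field_simp
    rw [hΔd]
    ring
  have hmem : (upSL s * β * upSL (-s), β) ∈ H := by
    have := hHθ (upSL t)
    rwa [hαβ, ← hβ] at this
  have hPSL := PSL_isSimple (F := F) (n := 2) le_rfl (fun _ => by omega)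
  have hperf : commutator SL₂ = ⊤ :=
    SL_commutator_eq_top fun _ => ⟨s₀, hs₀, by rwa [pow_two]⟩
  have toSq : ∀ (l : U), D l l ≠ 0 → ∀ g ∈ M, (∀ A B : U, (g : Mn) *ᵥ Φ (A, B) =
      Φ (A + (D B l / D l l) • l, B)) → spGL m F ≤ M := fun l hl g hg hgx => by
    have h : InN M (hor Φ ((D l l)⁻¹ • sq1 D l)) := inN_phi hg fun A B => by
      rw [hgx, hor_apply, phi_add, LinearMap.smul_apply, sq1_apply, smul_smul, add_zero, div_eq_inv_mul]
    have h' : InN M (hor Φ (sq1 D l)) := by simpa [smul_smul, hl] using hT.hor_smul hM h (D l l)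
    exact hT.full_of_sq1_aniso hM (c := s₀) hs₀ (fun e => hs₁ (by rw [e, one_mul]))
      (fun e => hs₁ (by rw [e]; ring)) hl h'
  by_cases hτ : s = 0
  · -- the two parts agree
    let N : Subgroup SL₂ := H.comap ((MonoidHom.id SL₂).prod (MonoidHom.id SL₂))
    have hNn : N.Normal := ⟨fun α hα u => hHconj u (α, α) hα⟩
    have hβN : β ∈ N := by
      have h : upSL s * β * upSL (-s) = β := by
        have e1 : upSL (0 : F) = 1 := Subtype.ext (by rw [upSL_coe, Matrix.SpecialLinearGroup.coe_one, Matrix.one_fin_two])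
        rw [hτ, neg_zero, e1, one_mul, mul_one]
      rw [h] at hmem
      exact hmem
    have hN := SL_normal_eq_top hperf N fun hle => hr0 (by
      have := (center_SL_two (hle hβN)).1
      rwa [hβe] at this)
    have h1 : ((upSL 1, upSL 1) : SL₂ × SL₂) ∈ H := (hN ▸ Subgroup.mem_top (upSL 1) : upSL 1 ∈ N)
    refine toSq e he _ (mul_mem (inv_mem h1) (hdiag (upSL 1))) fun A B => ?_
    show ((((ψ.comp (MonoidHom.inr SL₂ (SL₂ × SL₂))) (upSL 1, upSL 1))⁻¹ * ψ (upSL 1, upSL 1, upSL 1) : G) : Mn)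
      *ᵥ _ = _
    rw [MonoidHom.comp_apply, MonoidHom.inr_apply, ← map_inv, ← map_mul]
    obtain ⟨x₀, y₀, x₁, y₁, x₂, y₂, h⟩ := hsix (Φ (A, B))
    simp only [Prod.inv_mk, Prod.mk_mul_mk, inv_one, one_mul, inv_mul_cancel]
    rw [h, hψ, htri]
    obtain ⟨hA, hB⟩ := Prod.mk.inj (Φ.injective h)
    rw [six]
    congr 1
    rw [hA, hB]
    simp [upSL_coe, map_add, hve, hwe, he, add_smul, one_smul]
    abel
  · let N₂ : Subgroup SL₂ := H.comap (MonoidHom.inl SL₂ SL₂)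
    have hNn : N₂.Normal := ⟨fun α hα u => by
      have := hHconj u (α, 1) hα
      simpa [N₂] using this⟩
    obtain ⟨α, hα⟩ : ∃ α, α = upSL s * β * upSL (-s) := ⟨_, rfl⟩
    rw [← hα] at hmem
    have hcomm : β * α * β⁻¹ * α⁻¹ ∈ N₂ := by
      have h := mul_mem (hHconj β _ hmem) (inv_mem hmem)
      simpa [N₂, mul_assoc] using h
    have hN := SL_normal_eq_top hperf N₂ fun hle => by
      obtain ⟨h10, h01, h00, hpm⟩ := center_SL_two (hle hcomm)
      obtain ⟨z, hz⟩ : ∃ z, z = β * α * β⁻¹ * α⁻¹ := ⟨_, rfl⟩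
      rw [← hz] at h10 h01 h00 hpm
      have heq : β * α = z * (α * β) := by rw [hz]; group
      have h := congrFun (congrFun (congrArg (fun g : SL₂ => (g : Matrix (Fin 2) (Fin 2) F)) heq) 1) 0
      simp [hα, Matrix.SpecialLinearGroup.coe_mul, upSL_coe, hβe, Matrix.mul_apply, Fin.sum_univ_two, h10,
        ← h00] at h
      rcases hpm with h1 | h1 <;> rw [h1] at h
      · refine mul_ne_zero (mul_ne_zero h2 hτ) (mul_ne_zero hr0 hr0) ?_
        linear_combination h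
      · refine mul_ne_zero (mul_ne_zero h2 hr0) httr ?_
        rw [← htr]
        linear_combination h
    have h1 : ((upSL 1, 1) : SL₂ × SL₂) ∈ H := (hN ▸ Subgroup.mem_top (upSL 1) : upSL 1 ∈ N₂)
    refine toSq v hv _ h1 fun A B => ?_
    show ((ψ.comp (MonoidHom.inr SL₂ (SL₂ × SL₂)) (upSL 1, 1) : G) : Mn) *ᵥ _ = _
    rw [MonoidHom.comp_apply, MonoidHom.inr_apply]
    obtain ⟨x₀, y₀, x₁, y₁, x₂, y₂, h⟩ := hsix (Φ (A, B))
    rw [h, hψ, htri]
    obtain ⟨hA, hB⟩ := Prod.mk.inj (Φ.injective h)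
    rw [six]
    congr 1
    rw [hA, hB]
    simp [upSL_coe, map_add, hev, hwv, hv, add_smul, one_smul]
    abel

/-- The exchange of two pure planes, after a change of basis of the first factor. -/
theorem swap (hq : 5 ≤ Fintype.card F) {s₀ : F} (hs₀ : s₀ ≠ 0) (hs₁ : s₀ * s₀ ≠ 1) {e v w : U}
    (he : D e e ≠ 0) (hv : D v v ≠ 0) (hw : D w w ≠ 0) (hev : D e v = 0) (hew : D e w = 0) (hvw : D v w = 0)
    (hsp : ∀ x, x = (D x e / D e e) • e + (D x v / D v v) • v + (D x w / D w w) • w) {a b c d : F}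
    (hns : b ≠ 0 ∨ c ≠ 0 ∨ a ≠ d) (hΔ : D v v = (a * d - b * c) * D w w)
    (hr : RefP M (Φ (v + a • w, c • w)) (Φ (b • w, v + d • w))) : spGL m F ≤ M := by
  by_cases hc : c = 0
  swap
  · exact hT.swap_full hM hq hs₀ hs₁ he hv hw hev hew hvw hsp hc hΔ hr
  subst hc
  by_cases hb : b = 0
  · subst hb
    have had : a ≠ d := by simpa using hns
    obtain ⟨g, hg, hgx, -⟩ := hT.exists_sl hM (a := 1) (b := 0) (c := 1) (d := 1) (by ring)
    have h := (hT.refP_map hM hr hg).basis (a := 1) (b := -1) (c := 0) (d := 1) (by norm_num)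
    simp only [hgx, phi_smul, phi_add] at h
    refine hT.swap_full hM hq hs₀ hs₁ he hv hw hev hew hvw hsp (a := a) (b := 0) (c := a - d) (d := d)
      (sub_ne_zero.2 had) (by linear_combination hΔ) ?_
    convert h using 1 <;> congr 2 <;> module
  · obtain ⟨g, hg, hgx, -⟩ := hT.exists_sl hM (a := 0) (b := -1) (c := 1) (d := 0) (by ring)
    have h := (hT.refP_map hM hr hg).basis (a := 0) (b := -1) (c := 1) (d := 0) (by norm_num)
    simp only [hgx, phi_smul, phi_add] at h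
    refine hT.swap_full hM hq hs₀ hs₁ he hv hw hev hew hvw hsp (a := d) (b := 0) (c := -b) (d := a)
      (neg_ne_zero.2 hb) (by linear_combination hΔ) ?_
    convert h using 1 <;> congr 2 <;> module

end TwoData

end Cfsg.Agent.Classical.TensorTwo
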