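import Cfsg.Agent.Lib.Classical.MaxTensorTwoTwoMain

/-!
`Sp₄(q)`, `q ≥ 5` odd: stabilisers of Lagrangian decompositions and of unitary overfields are maximal.
-/

set_option autoImplicit false
set_option linter.unusedSectionVars false

namespace Cfsg.Agent.Classical.TensorTwoTwo

open Matrix Module MaxTv

variable {F : Type*} [Field F]

local notation "U" => (Fin 2 → F)
local notation "V" => (Fin 2 ⊕ Fin 2 → F)
local notation "M2" => Matrix (Fin 2) (Fin 2) F
local notation "Mn" => Matrix (Fin 2 ⊕ Fin 2) (Fin 2 ⊕ Fin 2) F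
local notation "G" => GL (Fin 2 ⊕ Fin 2) F
local notation "B" => sympForm 2 F

variable {Φ : ((Fin 2 → F) × (Fin 2 → F)) ≃ₗ[F] (Fin 2 ⊕ Fin 2 → F)} {a b : F}

theorem adj_adj (T : M2) : T.adjugate.adjugate = T := by
  ext i j; fin_cases i <;> fin_cases j <;> simp [Matrix.adjugate_fin_two]

theorem scalar_of_adj_eq (h2 : (2 : F) ≠ 0) {T : M2} (h : T.adjugate = T) : ∃ c : F, T = c • 1 := by
  refine ⟨T 0 0, ?_⟩
  have h00 := congrFun (congrFun h 0) 0
  have h01 := congrFun (congrFun h 0) 1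
  have h10 := congrFun (congrFun h 1) 0
  simp only [adj00, adj01, adj10] at h00 h01 h10
  have k : ∀ z : F, -z = z → z = 0 := fun z hz =>
    (mul_eq_zero.1 (by linear_combination -hz : (2 : F) * z = 0)).resolve_left h2
  ext i j
  fin_cases i <;> fin_cases j <;> simp [k _ h01, k _ h10, h00]

/-- Pure tensors, when `b = -δ a`, are the maps commuting or anticommuting with `(x, y) ↦ (δ y, x)`. -/
theorem isP_iff (hF : Frame Φ a b) {δ : F} (hδ : b = -δ * a) (h2 : (2 : F) ≠ 0) {g : G} (hg : g ∈ spGL 2 F)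
    {P Q R S : M2} (hga : Acts Φ g P Q R S) :
    IsP Φ g ↔ (S = P ∧ Q = δ • R) ∨ (S = -P ∧ Q = -(δ • R)) := by
  have ha := hF.1
  have hδ0 : δ ≠ 0 := fun e => hF.2.1 (by rw [hδ, e]; ring)
  obtain ⟨P₀, Q₀, R₀, S₀, hb', h1, h2', h3⟩ := exists_blocks hF hg
  obtain ⟨rfl, rfl, rfl, rfl⟩ := hga.blocks hb'
  subst hδ
  constructor
  · rintro ⟨X, p, q, r, s, hP⟩
    obtain ⟨rfl, rfl, rfl, rfl⟩ := hga.blocks hP
    simp only [det_smul_two] at h1 h2'
    have hX : X.det ≠ 0 := fun e => ha (by rw [← h1, e]; ring)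
    have h5 : p * q = δ * (r * s) := by
      have h := congrFun (congrFun h3 0) 0
      simp [Matrix.adjugate_smul, smul_smul, adj_mul] at h
      refine mul_left_cancel₀ (mul_ne_zero ha hX) ?_
      linear_combination h
    have h1' : X.det * (p * p - δ * (r * r)) = 1 := mul_left_cancel₀ ha (by linear_combination h1)
    have h2'' : X.det * (q * q - δ * (s * s)) = -δ := mul_left_cancel₀ ha (by linear_combination h2')
    have h6 : q * q - δ * (s * s) = -δ * (p * p - δ * (r * r)) :=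
      mul_left_cancel₀ hX (by linear_combination h2'' + δ * h1')
    have hn : p * p - δ * (r * r) ≠ 0 := fun e => one_ne_zero (by rw [← h1', e, mul_zero])
    suffices h : (s = p ∧ q = δ * r) ∨ (s = -p ∧ q = -(δ * r)) by
      rcases h with ⟨rfl, rfl⟩ | ⟨rfl, rfl⟩
      · exact Or.inl ⟨rfl, by rw [smul_smul]⟩
      · exact Or.inr ⟨neg_smul _ _, by rw [smul_smul, neg_smul]⟩
    by_cases hp : p = 0
    · subst hp
      have hr : r ≠ 0 := fun e => hn (by rw [e]; ring)
      have hs : s = 0 := by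
        have : δ * (r * s) = 0 := by rw [← h5, zero_mul]
        exact (mul_eq_zero.1 ((mul_eq_zero.1 this).resolve_left hδ0)).resolve_left hr
      subst hs
      rcases mul_self_eq_mul_self_iff.1 (show q * q = (δ * r) * (δ * r) by linear_combination h6) with e | e
      · exact Or.inl ⟨rfl, e⟩
      · exact Or.inr ⟨neg_zero.symm, e⟩
    · have hs : s * s = p * p := by
        refine mul_left_cancel₀ (mul_ne_zero hδ0 hn) ?_
        linear_combination -(p * p) * h6 + (p * q + δ * (r * s)) * h5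
      rcases mul_self_eq_mul_self_iff.1 hs with rfl | rfl
      · exact Or.inl ⟨rfl, mul_left_cancel₀ hp (by linear_combination h5)⟩
      · exact Or.inr ⟨rfl, mul_left_cancel₀ hp (by linear_combination h5)⟩
  · intro h
    obtain ⟨ε, hε, rfl, rfl⟩ : ∃ ε : F, ε ≠ 0 ∧ S = ε • P ∧ Q = (ε * δ) • R := by
      rcases h with ⟨h4, h5⟩ | ⟨h4, h5⟩
      · exact ⟨1, one_ne_zero, by rw [one_smul, h4], by rw [one_mul, h5]⟩
      · exact ⟨-1, neg_ne_zero.2 one_ne_zero, by rw [neg_one_smul, h4], by rw [neg_one_mul, neg_smul, h5]⟩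
    have hsym : (P.adjugate * R).adjugate = P.adjugate * R := by
      rw [Matrix.adjugate_mul_distrib, adj_adj]
      have h' : (a * ε * δ) • (P.adjugate * R - R.adjugate * P) = 0 := by
        rw [← h3, mul_smul_comm, mul_smul_comm, smul_smul, smul_smul]; module
      exact (sub_eq_zero.1 ((smul_eq_zero.1 h').resolve_left (mul_ne_zero (mul_ne_zero ha hε) hδ0))).symm
    obtain ⟨c, hc⟩ := scalar_of_adj_eq h2 hsym
    by_cases hP : P.det = 0
    · have hR : R.det ≠ 0 := fun e => ha (by rw [← h1, hP, e]; ring)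
      have hPR : R.det • P = c • R := by
        have h' : R.adjugate * P = c • 1 := by
          have := congrArg Matrix.adjugate hc
          rw [Matrix.adjugate_mul_distrib, Matrix.adjugate_smul, Matrix.adjugate_one, Fintype.card_fin, pow_one,
            adj_adj] at this
          simpa using this
        have := congrArg (fun T : M2 => R * T) h'
        simpa [← mul_assoc, mul_adj] using this
      have hP' : P = (R.det⁻¹ * c) • R := by rw [← smul_smul, ← hPR, inv_smul_smul₀ hR]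
      refine ⟨R, R.det⁻¹ * c, ε * δ, 1, ε * (R.det⁻¹ * c), ?_⟩
      rw [one_smul, show (ε * (R.det⁻¹ * c)) • R = ε • P by rw [hP', smul_smul], ← hP']
      exact hga
    · have hPR : P.det • R = c • P := by
        have := congrArg (fun T : M2 => P * T) hc
        simpa [← mul_assoc, mul_adj] using this
      have hR' : R = (P.det⁻¹ * c) • P := by rw [← smul_smul, ← hPR, inv_smul_smul₀ hP]
      refine ⟨P, 1, ε * δ * (P.det⁻¹ * c), P.det⁻¹ * c, ε, ?_⟩
      rw [one_smul, ← smul_smul (ε * δ), ← hR']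
      exact hga

/-- A linear map with nondegenerate pullback is bijective. -/
theorem exists_equiv (L : (U × U) →ₗ[F] V) (ha : a ≠ 0) (hb : b ≠ 0)
    (h : ∀ x y x' y', B (L (x, y)) (L (x', y')) = a * dt x x' + b * dt y y') :
    ∃ Φ : (U × U) ≃ₗ[F] V, Frame Φ a b ∧ ∀ p, Φ p = L p := by
  have hinj : Function.Injective L := by
    refine (injective_iff_map_eq_zero L).2 fun ⟨x, y⟩ e => ?_
    have key : ∀ x' y', a * dt x' x + b * dt y' y = 0 := fun x' y' => by rw [← h, e, sympForm_zero_right]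
    have hx : x = 0 := eq_zero_of_dt fun x' => by simpa [dt, ha] using key x' 0
    have hy : y = 0 := eq_zero_of_dt fun y' => by simpa [dt, hb] using key 0 y'
    rw [hx, hy]; rfl
  refine ⟨L.linearEquivOfInjective hinj (by simp), ⟨ha, hb, fun x y x' y' => ?_⟩, fun p => ?_⟩
  · simpa [LinearMap.linearEquivOfInjective_apply] using h x y x' y'
  · simp [LinearMap.linearEquivOfInjective_apply]

variable [Fintype F]

/-- Stabilisers of Lagrangian decompositions of `Sp₄`. -/
theorem lagrangianPair_maximal (h2 : (2 : F) ≠ 0) (h5 : 5 ≤ Fintype.card F)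
    (D : Fin 2 → Submodule F V) (hD : Geo.IsMDecomposition 2 D)
    (hts : ∀ i, Geo.IsTotallySingularFor (sympForm 2 F) (D i)) :
    Geo.IsMaximalIn (spGL 2 F) (Geo.decompositionStabilizer D ⊓ spGL 2 F) := by
  obtain ⟨-, -, hk, hind, htop⟩ := hD
  obtain ⟨p, hp⟩ := exists_proj hind htop
  let e := Module.finBasisOfFinrankEq F (D 0) (hk 0)
  -- the pairing identifies `D 1` with the dual plane
  let pr : D 1 →ₗ[F] U := LinearMap.pi fun i => ((sympB 2 F) (e i : V)).comp (D 1).subtype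
  have hpr : ∀ w i, pr w i = B (e i : V) (w : V) := fun w i => by simp [pr, sympB_apply]
  have hinj : Function.Injective pr := by
    refine (injective_iff_map_eq_zero pr).2 fun w hw => Subtype.ext (sesq_sympForm.eq_zero _ fun v => ?_)
    have hz : ∀ u : D 0, B (u : V) (w : V) = 0 := fun u => by
      rw [← e.sum_repr u]
      simp only [Submodule.coe_sum, Submodule.coe_smul, ← sympB_apply, map_sum, LinearMap.sum_apply, map_smul,
        LinearMap.smul_apply, smul_eq_mul]
      exact Finset.sum_eq_zero fun i _ => by rw [sympB_apply, ← hpr, hw]; simp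
    rw [← hp.sum v, Fin.sum_univ_two, sympForm_add_left, hz ⟨_, hp.mem 0 v⟩, hts 1 _ (hp.mem 1 v) _ w.2, add_zero]
  have hsur : Function.Surjective pr :=
    (LinearMap.injective_iff_surjective_of_finrank_eq_finrank (by rw [hk]; simp)).1 hinj
  obtain ⟨f₁, hf₁⟩ := hsur ![1, 0]
  obtain ⟨f₂, hf₂⟩ := hsur ![0, 1]
  have h11 : B (e 0 : V) f₁ = 1 := by rw [← hpr, hf₁]; rfl
  have h21 : B (e 1 : V) f₁ = 0 := by rw [← hpr, hf₁]; rfl
  have h12 : B (e 0 : V) f₂ = 0 := by rw [← hpr, hf₂]; rfl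
  have h22 : B (e 1 : V) f₂ = 1 := by rw [← hpr, hf₂]; rfl
  obtain ⟨L0, hL0⟩ : ∃ L0 : U →ₗ[F] V, ∀ x, L0 x = x 0 • (e 0 : V) + x 1 • (e 1 : V) :=
    ⟨(LinearMap.proj 0).smulRight (e 0 : V) + (LinearMap.proj 1).smulRight (e 1 : V), fun x => rfl⟩
  obtain ⟨L1, hL1⟩ : ∃ L1 : U →ₗ[F] V, ∀ x, L1 x = x 1 • (f₁ : V) - x 0 • (f₂ : V) :=
    ⟨(LinearMap.proj 1).smulRight (f₁ : V) - (LinearMap.proj 0).smulRight (f₂ : V), fun x => rfl⟩
  have hm0 : ∀ x, L0 x ∈ D 0 := fun x => by
    rw [hL0]; exact add_mem ((D 0).smul_mem _ (e 0).2) ((D 0).smul_mem _ (e 1).2)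
  have hm1 : ∀ x, L1 x ∈ D 1 := fun x => by
    rw [hL1]; exact sub_mem ((D 1).smul_mem _ f₁.2) ((D 1).smul_mem _ f₂.2)
  have h01 : ∀ x y, B (L0 x) (L1 y) = dt x y := fun x y => by
    rw [hL0, hL1, sympForm_add_left, sympForm_sub_right, sympForm_sub_right]
    simp only [sympForm_smul_left, sympForm_smul_right, h11, h12, h21, h22, dt]
    ring
  obtain ⟨L, hL⟩ : ∃ L : (U × U) →ₗ[F] V, ∀ x y, L (x, y) = L0 (x + y) + L1 (x - y) :=
    ⟨(L0 ∘ₗ (LinearMap.fst F U U + LinearMap.snd F U U)) + (L1 ∘ₗ (LinearMap.fst F U U - LinearMap.snd F U U)),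
      fun x y => rfl⟩
  obtain ⟨Φ, hF, hΦ⟩ := exists_equiv (a := (2 : F)) (b := -2) L h2 (neg_ne_zero.2 h2) fun x y x' y' => by
    rw [hL, hL, sympForm_add_left, sympForm_add_right, sympForm_add_right, h01,
      hts 0 _ (hm0 _) _ (hm0 _), hts 1 _ (hm1 _) _ (hm1 _), sympForm_swap (L1 _), h01]
    simp [dt]; ring
  have hΦ' : ∀ x y, Φ (x, y) = L0 (x + y) + L1 (x - y) := fun x y => by rw [hΦ, hL]
  have hmem0 : ∀ x y, Φ (x, y) ∈ D 0 ↔ y = x := fun x y => by
    constructor
    · intro h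
      have : p 1 (Φ (x, y)) = 0 := hp.other 1 0 (by decide) _ h
      rw [hΦ', map_add, hp.other 1 0 (by decide) _ (hm0 _), hp.self 1 _ (hm1 _), zero_add] at this
      refine eq_of_sub_eq_zero (eq_zero_of_dt fun u => ?_)
      have h7 := h01 u (x - y)
      rw [this, sympForm_zero_right] at h7
      rw [← neg_sub x y, show -(x - y) = (-1 : F) • (x - y) by simp, dt_smul_right, ← h7, mul_zero]
    · rintro rfl
      rw [hΦ', sub_self, map_zero, add_zero]; exact hm0 _
  have hmem1 : ∀ x y, Φ (x, y) ∈ D 1 ↔ y = -x := fun x y => by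
    constructor
    · intro h
      have : p 0 (Φ (x, y)) = 0 := hp.other 0 1 (by decide) _ h
      rw [hΦ', map_add, hp.self 0 _ (hm0 _), hp.other 0 1 (by decide) _ (hm1 _), add_zero] at this
      refine eq_neg_of_add_eq_zero_right (eq_zero_of_dt fun u => ?_)
      have h7 := h01 (x + y) u
      rw [this, sympForm_zero_left] at h7
      rw [dt_swap, ← h7, neg_zero]
    · rintro rfl
      rw [hΦ', add_neg_cancel, map_zero, zero_add]; exact hm1 _
  refine tensorTwoTwo_maximal hF h5 h2 _ fun g => ?_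
  rw [Subgroup.mem_inf, and_comm]
  refine and_congr_right fun hg => ?_
  obtain ⟨P, Q, R, S, hga, -⟩ := exists_blocks hF hg
  rw [isP_iff (δ := (1 : F)) hF (by ring) h2 hg hga, one_smul]
  have hne : ∀ i, D i ≠ ⊥ := fun i e => by have := hk i; rw [e, finrank_bot] at this; omega
  constructor
  · rintro ⟨σ, hσ⟩
    have hmap : ∀ i w, w ∈ D i → (g : Mn) *ᵥ w ∈ D (σ i) := fun i w hw => by
      rw [← hσ i]; exact ⟨w, hw, Matrix.toLin'_apply _ _⟩
    have e0 : ∀ z, (g : Mn) *ᵥ Φ (z, z) ∈ D (σ 0) := fun z => hmap 0 _ ((hmem0 z z).2 rfl)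
    have e1 : ∀ z, (g : Mn) *ᵥ Φ (z, -z) ∈ D (σ 1) := fun z => hmap 1 _ ((hmem1 z _).2 rfl)
    simp only [hga _ _] at e0 e1
    rcases (show σ 0 = 0 ∨ σ 0 = 1 by omega) with h | h
    · have h' : σ 1 = 1 := by
        rcases (show σ 1 = 0 ∨ σ 1 = 1 by omega) with h' | h'
        · exact absurd (σ.injective (h.trans h'.symm)) (by decide)
        · exact h'
      rw [h] at e0; rw [h'] at e1
      simp only [hmem0] at e0; simp only [hmem1, Matrix.mulVec_neg] at e1
      left
      constructor <;> refine Matrix.ext_iff_mulVec.2 fun z => smul_right_injective U h2 ?_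
      · simp only; linear_combination (norm := module) e0 z - e1 z
      · simp only; linear_combination (norm := module) -e0 z - e1 z
    · have h' : σ 1 = 0 := by
        rcases (show σ 1 = 0 ∨ σ 1 = 1 by omega) with h' | h'
        · exact h'
        · exact absurd (σ.injective (h.trans h'.symm)) (by decide)
      rw [h] at e0; rw [h'] at e1
      simp only [hmem1] at e0; simp only [hmem0, Matrix.mulVec_neg] at e1
      right
      constructor <;> refine Matrix.ext_iff_mulVec.2 fun z => smul_right_injective U h2 ?_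
      · simp only [Matrix.neg_mulVec]; linear_combination (norm := module) e0 z - e1 z
      · simp only [Matrix.neg_mulVec]; linear_combination (norm := module) e0 z + e1 z
  · have hw0 : ∀ w ∈ D 0, ∃ z, w = Φ (z, z) := fun w hw => by
      obtain ⟨⟨x, y⟩, rfl⟩ := Φ.surjective w
      exact ⟨x, by rw [(hmem0 x y).1 hw]⟩
    have hw1 : ∀ w ∈ D 1, ∃ z, w = Φ (z, -z) := fun w hw => by
      obtain ⟨⟨x, y⟩, rfl⟩ := Φ.surjective w
      exact ⟨x, by rw [(hmem1 x y).1 hw]⟩
    rintro (⟨rfl, rfl⟩ | ⟨rfl, rfl⟩)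
    · refine hp.mem_stabilizer (fun i j => by rw [hk, hk]) id (Fin.forall_fin_two.2 ⟨fun w hw => ?_, fun w hw => ?_⟩)
        hne
      · obtain ⟨z, rfl⟩ := hw0 w hw; rw [hga, id, hmem0]; abel
      · obtain ⟨z, rfl⟩ := hw1 w hw; rw [hga, id, hmem1]; simp only [Matrix.mulVec_neg]; abel
    · refine hp.mem_stabilizer (fun i j => by rw [hk, hk]) (Equiv.swap 0 1)
        (Fin.forall_fin_two.2 ⟨fun w hw => ?_, fun w hw => ?_⟩) hne
      · obtain ⟨z, rfl⟩ := hw0 w hw
        rw [hga, Equiv.swap_apply_left, hmem1]; simp only [Matrix.neg_mulVec]; abel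
      · obtain ⟨z, rfl⟩ := hw1 w hw
        rw [hga, Equiv.swap_apply_right, hmem0]; simp only [Matrix.mulVec_neg, Matrix.neg_mulVec]; abel

/-- Normalisers of quadratic extensions inducing a unitary form on `Sp₄`. -/
theorem unitaryPair_maximal (h2 : (2 : F) ≠ 0) (h5 : 5 ≤ Fintype.card F)
    (K : Subalgebra F Mn) (hK : Geo.IsFieldSubalgebra 2 K) (hcl : Geo.IsAdjointClosedFor (sympForm 2 F) K)
    (hns : ¬ Geo.IsSelfAdjointFor (sympForm 2 F) K) :
    Geo.IsMaximalIn (spGL 2 F) (Geo.subalgebraNormalizer K ⊓ spGL 2 F) := by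
  -- a skew element
  obtain ⟨J, hJK, hJsk, hJ0⟩ : ∃ J ∈ K, (∀ u v, B (J *ᵥ u) v = -B u (J *ᵥ v)) ∧ J ≠ 0 := by
    simp only [Geo.IsSelfAdjointFor, not_forall] at hns
    obtain ⟨k, hk, u, v, huv⟩ := hns
    obtain ⟨k', hk', hkk⟩ := hcl k hk
    refine ⟨k - k', sub_mem hk hk', fun x y => ?_, fun e => huv ?_⟩
    · rw [Matrix.sub_mulVec, Matrix.sub_mulVec, sympForm_sub_left, sympForm_sub_right,
        sympForm_swap x (k *ᵥ y), sympForm_swap (k' *ᵥ x) y, ← hkk x y, ← hkk y x]
      ring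
    · rw [sub_eq_zero] at e; rw [hkk, ← e]
  have hnsc : ∀ c : F, J ≠ c • 1 := fun c e => by
    rcases eq_or_ne c 0 with rfl | hc
    · exact hJ0 (by rw [e, zero_smul])
    obtain ⟨u, v, huv⟩ : ∃ u v : V, B u v ≠ 0 := by
      obtain ⟨x, hx⟩ := exists_sympForm_eq_one (m := 2) (u := Pi.single (Sum.inl 0) (1 : F)) (by simp)
      exact ⟨_, x, by rw [hx]; exact one_ne_zero⟩
    have := hJsk u v
    simp only [e, Matrix.smul_mulVec, Matrix.one_mulVec, sympForm_smul_left, sympForm_smul_right] at this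
    exact huv ((mul_eq_zero.1 (by linear_combination this : (2 * c) * B u v = 0)).resolve_left (mul_ne_zero h2 hc))
  have hspan : ∀ k ∈ K, ∃ p q : F, k = p • 1 + q • J := by
    intro k hk
    have hli : LinearIndependent F ![(⟨1, one_mem K⟩ : K), ⟨J, hJK⟩] := by
      rw [LinearIndependent.pair_iff]
      intro s t hst
      have h : s • (1 : Mn) + t • J = 0 := congrArg Subtype.val hst
      have ht : t = 0 := by
        by_contra ht
        refine hnsc (-(t⁻¹ * s)) ?_
        rw [neg_smul, ← smul_smul, eq_neg_of_add_eq_zero_left h, smul_neg, inv_smul_smul₀ ht, neg_neg]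
      exact ⟨(smul_eq_zero.1 (by rwa [ht, zero_smul, add_zero] at h)).resolve_right one_ne_zero, ht⟩
    have hsp := hli.span_eq_top_of_card_eq_finrank (by rw [Fintype.card_fin, hK.finrank_eq])
    have hk' : (⟨k, hk⟩ : K) ∈ Submodule.span F (Set.range ![(⟨1, one_mem K⟩ : K), ⟨J, hJK⟩]) := by
      rw [hsp]; trivial
    rw [Submodule.mem_span_range_iff_exists_fun] at hk'
    obtain ⟨c, hc⟩ := hk'
    exact ⟨c 0, c 1, by simpa [Fin.sum_univ_two] using (congrArg Subtype.val hc).symm⟩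
  obtain ⟨δ, hJ2, hδns⟩ : ∃ δ : F, J * J = δ • 1 ∧ ∀ r : F, r * r ≠ δ := by
    obtain ⟨p, q, hpq⟩ := hspan _ (mul_mem hJK hJK)
    have hq : q = 0 := by
      by_contra hq
      have hqJ : ∀ u v : V, (2 * q) * B u (J *ᵥ v) = 0 := fun u v => by
        have e : B ((J * J) *ᵥ u) v = B u ((J * J) *ᵥ v) := by
          rw [← Matrix.mulVec_mulVec, ← Matrix.mulVec_mulVec, hJsk, hJsk, neg_neg]
        rw [hpq] at e
        simp only [Matrix.add_mulVec, Matrix.smul_mulVec, Matrix.one_mulVec, sympForm_add_left, sympForm_add_right,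
          sympForm_smul_left, sympForm_smul_right, hJsk] at e
        linear_combination -e
      refine hJ0 (Matrix.ext_iff_mulVec.2 fun v => ?_)
      rw [Matrix.zero_mulVec]
      exact sesq_sympForm.eq_zero _ fun u => (mul_eq_zero.1 (hqJ u v)).resolve_left (mul_ne_zero h2 hq)
    refine ⟨p, by rw [hpq, hq, zero_smul, add_zero], fun r hr => ?_⟩
    have hne : ∀ s : F, J - s • 1 ≠ 0 := fun s e => hnsc s (sub_eq_zero.1 e)
    obtain ⟨y, hy, hy1⟩ := hK.inv _ (sub_mem hJK (K.smul_mem (one_mem K) r)) (hne r)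
    have h0 : (J + r • 1) * (J - r • 1) = 0 := by
      rw [hq, zero_smul, add_zero] at hpq
      simp only [add_mul, mul_sub, smul_mul_assoc, mul_smul_comm, one_mul, mul_one, smul_smul, hpq, ← hr]
      module
    have h0' := congrArg (fun z => z * y) h0
    simp only [mul_assoc, hy1, mul_one, zero_mul] at h0'
    exact hne (-r) (by rw [neg_smul, sub_neg_eq_add, h0'])
  have hδ0 : δ ≠ 0 := fun e => hδns 0 (by rw [e, mul_zero])
  have hJJ : ∀ v : V, J *ᵥ (J *ᵥ v) = δ • v := fun v => by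
    rw [Matrix.mulVec_mulVec, hJ2, Matrix.smul_mulVec, Matrix.one_mulVec]
  have hJsym : ∀ u v, B u (J *ᵥ v) = B v (J *ᵥ u) := fun u v => by
    rw [sympForm_swap u, hJsk, neg_neg]
  have hBJJ : ∀ u v, B (J *ᵥ u) (J *ᵥ v) = -δ * B u v := fun u v => by
    rw [hJsk, hJJ, sympForm_smul_right]; ring
  have hev : ∀ (c d : F) (e : V), c • e + d • (J *ᵥ e) = 0 → e ≠ 0 → c = 0 ∧ d = 0 := by
    intro c d e h he
    have h' : d • δ • e + c • (J *ᵥ e) = 0 := by
      have := congrArg (fun z => J *ᵥ z) h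
      simpa [Matrix.mulVec_add, Matrix.mulVec_smul, hJJ, add_comm] using this
    have h3 : (c * c - δ * (d * d)) • e = 0 := by
      linear_combination (norm := module) c • h - d • h'
    have h4 := (smul_eq_zero.1 h3).resolve_right he
    have hd : d = 0 := by
      by_contra hd
      exact hδns (c / d) (by field_simp; linear_combination h4)
    exact ⟨mul_self_eq_zero.1 (by rw [hd] at h4; linear_combination h4), hd⟩
  -- an isotropic vector for the hermitian form
  obtain ⟨e, he, hee⟩ : ∃ e : V, e ≠ 0 ∧ B e (J *ᵥ e) = 0 := by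
    by_contra hc
    push Not at hc
    obtain ⟨e₀, he₀⟩ : ∃ e₀ : V, e₀ ≠ 0 := ⟨Pi.single (Sum.inl 0) 1, by simp⟩
    have hq0 := hc e₀ he₀
    let T : V →ₗ[F] U := LinearMap.pi ![(sympB 2 F (J *ᵥ e₀)), (sympB 2 F e₀)]
    have hker : LinearMap.ker T ≠ ⊥ := fun hk => by
      have h1 := LinearMap.finrank_le_finrank_of_injective (LinearMap.ker_eq_bot.1 hk)
      simp at h1
    obtain ⟨z, hz, hz0⟩ := Submodule.exists_mem_ne_zero_of_ne_bot hker
    have hz1 : B (J *ᵥ e₀) z = 0 := by simpa [T, sympB_apply] using congrFun (LinearMap.mem_ker.1 hz) 0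
    have hz2 : B e₀ z = 0 := by simpa [T, sympB_apply] using congrFun (LinearMap.mem_ker.1 hz) 1
    obtain ⟨x, y, hxy⟩ := exists_norm h2 (c := -δ) (neg_ne_zero.2 hδ0) (-(B z (J *ᵥ z)) / B e₀ (J *ᵥ e₀))
    refine hc (x • e₀ + y • (J *ᵥ e₀) + z) (fun h0 => hc z hz0 ?_) ?_
    · have hzv : z = (-x) • e₀ + (-y) • (J *ᵥ e₀) := by linear_combination (norm := module) h0
      have hA := hz1
      have hC := hz2
      rw [hzv] at hA hC
      simp only [sympForm_add_right, sympForm_smul_right, sympForm_self, mul_zero, add_zero, zero_add] at hA hC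
      have hy0 : -y = 0 := (mul_eq_zero.1 hC).resolve_right hq0
      rw [sympForm_swap (J *ᵥ e₀)] at hA
      have hx0 : -x = 0 := (mul_eq_zero.1 hA).resolve_right (neg_ne_zero.2 hq0)
      exact absurd (by rw [hzv, hx0, hy0]; simp) hz0
    · have c1 : B e₀ (J *ᵥ z) = 0 := by rw [hJsym, sympForm_swap, hz1, neg_zero]
      have c2 : B (J *ᵥ e₀) (J *ᵥ z) = 0 := by rw [hBJJ, hz2, mul_zero]
      have c3 : B z (J *ᵥ e₀) = 0 := by rw [sympForm_swap, hz1, neg_zero]
      have c4 : B z e₀ = 0 := by rw [sympForm_swap, hz2, neg_zero]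
      simp only [Matrix.mulVec_add, Matrix.mulVec_smul, hJJ, sympForm_add_left, sympForm_add_right,
        sympForm_smul_left, sympForm_smul_right, c1, c2, c3, c4, sympForm_self]
      rw [sympForm_swap (J *ᵥ e₀) e₀]
      field_simp at hxy
      linear_combination hxy
  obtain ⟨f₀, hf1, hf2⟩ : ∃ f₀ : V, B e f₀ = 1 ∧ B e (J *ᵥ f₀) = 0 := by
    let T : V →ₗ[F] U := LinearMap.pi ![(sympB 2 F e), (sympB 2 F e) ∘ₗ J.mulVecLin]
    have hT : Function.Surjective T := by
      rw [← LinearMap.range_eq_top]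
      by_contra hne
      obtain ⟨φ, hφ0, hφ⟩ := Submodule.exists_le_ker_of_lt_top _ (lt_top_iff_ne_top.2 hne)
      obtain ⟨c, d, hcd⟩ : ∃ c d : F, ∀ w : U, φ w = c * w 0 + d * w 1 := ⟨φ ![1, 0], φ ![0, 1], fun w => by
        conv_lhs => rw [show w = w 0 • ![(1 : F), 0] + w 1 • ![(0 : F), 1] by
          funext i; fin_cases i <;> simp]
        rw [map_add, map_smul, map_smul, smul_eq_mul, smul_eq_mul]; ring⟩
      have h0 : c • e + (-d) • (J *ᵥ e) = 0 := sesq_sympForm.eq_zero _ fun u => by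
        have := hcd (T u)
        rw [LinearMap.mem_ker.1 (hφ ⟨u, rfl⟩)] at this
        simp [T, sympB_apply] at this
        rw [sympForm_add_right, sympForm_smul_right, sympForm_smul_right, hJsym u e, sympForm_swap u e]
        linear_combination this
      obtain ⟨hc, hd⟩ := hev c (-d) e h0 he
      exact hφ0 (LinearMap.ext fun w => by rw [hcd, hc, neg_eq_zero.1 hd]; simp)
    obtain ⟨f₀, hf₀⟩ := hT ![1, 0]
    exact ⟨f₀, by simpa [T, sympB_apply] using congrFun hf₀ 0, by simpa [T, sympB_apply] using congrFun hf₀ 1⟩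
  obtain ⟨f, hf1', hf2', hf3⟩ : ∃ f : V, B e f = 1 ∧ B e (J *ᵥ f) = 0 ∧ B f (J *ᵥ f) = 0 := by
    obtain ⟨z, hz⟩ : ∃ z : F, z = B f₀ (J *ᵥ f₀) / (2 * δ) := ⟨_, rfl⟩
    refine ⟨f₀ + z • (J *ᵥ e), ?_, ?_, ?_⟩
    · rw [sympForm_add_right, sympForm_smul_right, hf1, hee, mul_zero, add_zero]
    · rw [Matrix.mulVec_add, Matrix.mulVec_smul, hJJ, sympForm_add_right, sympForm_smul_right, sympForm_smul_right,
        hf2, sympForm_self, mul_zero, mul_zero, add_zero]
    · simp only [Matrix.mulVec_add, Matrix.mulVec_smul, hJJ, sympForm_add_left, sympForm_add_right,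
        sympForm_smul_left, sympForm_smul_right, hBJJ, hf1]
      rw [sympForm_swap f₀ e, hf1, sympForm_swap (J *ᵥ e) e, hee]
      rw [hz]; field_simp; ring
  obtain ⟨ι, hι⟩ : ∃ ι : U →ₗ[F] V, ∀ x, ι x = x 0 • e + x 1 • f :=
    ⟨(LinearMap.proj 0).smulRight e + (LinearMap.proj 1).smulRight f, fun x => rfl⟩
  have hιι : ∀ x x', B (ι x) (ι x') = dt x x' := fun x x' => by
    simp only [hι, sympForm_add_left, sympForm_add_right, sympForm_smul_left, sympForm_smul_right, sympForm_self,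
      hf1', sympForm_swap f e, dt]
    ring
  have hιJ : ∀ x x', B (ι x) (J *ᵥ ι x') = 0 := fun x x' => by
    simp only [hι, Matrix.mulVec_add, Matrix.mulVec_smul, sympForm_add_left, sympForm_add_right, sympForm_smul_left,
      sympForm_smul_right, hee, hf2', hf3, hJsym f e]
    ring
  obtain ⟨L, hL⟩ : ∃ L : (U × U) →ₗ[F] V, ∀ x y, L (x, y) = ι x + J *ᵥ ι y :=
    ⟨(ι ∘ₗ LinearMap.fst F U U) + (J.mulVecLin ∘ₗ ι ∘ₗ LinearMap.snd F U U), fun x y => rfl⟩
  obtain ⟨Φ, hF, hΦ⟩ := exists_equiv (a := (1 : F)) (b := -δ) L one_ne_zero (neg_ne_zero.2 hδ0) fun x y x' y' => by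
    rw [hL, hL, sympForm_add_left, sympForm_add_right, sympForm_add_right, hιι, hιJ,
      sympForm_swap (J *ᵥ ι y) (ι x'), hιJ, hBJJ, hιι]
    ring
  have hJΦ : ∀ x y, J *ᵥ Φ (x, y) = Φ (δ • y, x) := fun x y => by
    rw [hΦ, hΦ, hL, hL, Matrix.mulVec_add, hJJ, map_smul, add_comm]
  refine tensorTwoTwo_maximal hF h5 h2 _ fun g => ?_
  rw [Subgroup.mem_inf, and_comm]
  refine and_congr_right fun hg => ?_
  obtain ⟨P, Q, R, S, hga, -⟩ := exists_blocks hF hg
  rw [isP_iff (δ := δ) hF (by ring) h2 hg hga]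
  have hgJ : ∀ ε : F, ((g : Mn) * J = ε • (J * (g : Mn))) ↔ (∀ x y : U,
      P *ᵥ (δ • y) + Q *ᵥ x = ε • δ • (R *ᵥ x + S *ᵥ y) ∧ R *ᵥ (δ • y) + S *ᵥ x = ε • (P *ᵥ x + Q *ᵥ y)) := by
    intro ε
    constructor
    · intro h x y
      have h' := congrArg (fun T : Mn => T *ᵥ Φ (x, y)) h
      simp only [Matrix.smul_mulVec, ← Matrix.mulVec_mulVec, hga _ _, hJΦ, ← map_smul, Prod.smul_mk] at h'
      exact Prod.ext_iff.1 (Φ.injective h')
    · intro h
      refine Matrix.ext_iff_mulVec.2 (ext_phi (Φ := Φ) fun x y => ?_)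
      simp only [Matrix.smul_mulVec, ← Matrix.mulVec_mulVec, hga _ _, hJΦ, ← map_smul, Prod.smul_mk]
      rw [(h x y).1, (h x y).2]
  constructor
  · intro hn
    have hgK : (g : Mn) * J * ((g⁻¹ : G) : Mn) ∈ K := (hn J).1 hJK
    obtain ⟨p, q, hpq⟩ := hspan _ hgK
    have hB := mem_spGL.1 hg
    have hsk : ∀ u v, B (((g : Mn) * J * ((g⁻¹ : G) : Mn)) *ᵥ u) v =
        -B u (((g : Mn) * J * ((g⁻¹ : G) : Mn)) *ᵥ v) := fun u v => by
      conv_lhs => rw [← mulVec_inv_cancel g v]
      conv_rhs => rw [← mulVec_inv_cancel g u]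
      simp only [← Matrix.mulVec_mulVec, hB, inv_mulVec_cancel]
      exact hJsk _ _
    have hp : p = 0 := by
      obtain ⟨u, v, huv⟩ : ∃ u v : V, B u v ≠ 0 := ⟨e, f, by rw [hf1']; exact one_ne_zero⟩
      have := hsk u v
      rw [hpq] at this
      simp only [Matrix.add_mulVec, Matrix.smul_mulVec, Matrix.one_mulVec, sympForm_add_left, sympForm_add_right,
        sympForm_smul_left, sympForm_smul_right, hJsk] at this
      exact (mul_eq_zero.1 (by linear_combination this : (2 * B u v) * p = 0)).resolve_left (mul_ne_zero h2 huv)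
    rw [hp, zero_smul, zero_add] at hpq
    have hgJ' : (g : Mn) * J = q • (J * (g : Mn)) := by
      rw [← smul_mul_assoc, ← hpq, mul_assoc ((g : Mn) * J), ← Units.val_mul, inv_mul_cancel, Units.val_one, mul_one]
    have hq : q * q = 1 := by
      have h1 : ((g : Mn) * J * ((g⁻¹ : G) : Mn)) * ((g : Mn) * J * ((g⁻¹ : G) : Mn)) = δ • 1 := by
        rw [mul_assoc ((g : Mn) * J), ← mul_assoc ((g⁻¹ : G) : Mn) ((g : Mn) * J), ← mul_assoc ((g⁻¹ : G) : Mn) (g : Mn),
          ← Units.val_mul, inv_mul_cancel, Units.val_one, one_mul, mul_assoc (g : Mn), ← mul_assoc J J, hJ2,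
          smul_mul_assoc, one_mul, mul_smul_comm, ← Units.val_mul, mul_inv_cancel, Units.val_one]
      rw [hpq, smul_mul_assoc, mul_smul_comm, smul_smul, hJ2, smul_smul] at h1
      have h3 := congrFun (congrFun h1 (Sum.inl 0)) (Sum.inl 0)
      simp at h3
      exact mul_right_cancel₀ hδ0 (by linear_combination h3)
    have key := (hgJ q).1 hgJ'
    rcases mul_self_eq_one_iff.1 hq with rfl | rfl
    · left
      constructor <;> refine Matrix.ext_iff_mulVec.2 fun z => ?_
      · simpa using (key z 0).2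
      · simpa [Matrix.smul_mulVec] using (key z 0).1
    · right
      constructor <;> refine Matrix.ext_iff_mulVec.2 fun z => ?_
      · simpa [Matrix.neg_mulVec] using (key z 0).2
      · simpa [Matrix.smul_mulVec, Matrix.neg_mulVec] using (key z 0).1
  · intro h
    obtain ⟨ε, hε, hgJε⟩ : ∃ ε : F, ε * ε = 1 ∧ (g : Mn) * J = ε • (J * (g : Mn)) := by
      rcases h with ⟨rfl, rfl⟩ | ⟨rfl, rfl⟩
      · refine ⟨1, one_mul 1, (hgJ 1).2 fun x y => ⟨?_, ?_⟩⟩ <;>
          simp only [one_smul, smul_add, Matrix.mulVec_smul, Matrix.smul_mulVec] <;> abel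
      · refine ⟨-1, by ring, (hgJ (-1)).2 fun x y => ⟨?_, ?_⟩⟩ <;>
          simp only [neg_one_smul, neg_add, smul_add, Matrix.mulVec_smul, Matrix.smul_mulVec, Matrix.neg_mulVec,
            smul_neg, neg_neg] <;> abel
    have hi : ((g⁻¹ : G) : Mn) * J = ε • (J * ((g⁻¹ : G) : Mn)) := by
      have := congrArg (fun T : Mn => ((g⁻¹ : G) : Mn) * T * ((g⁻¹ : G) : Mn)) hgJε
      simp only [mul_smul_comm, smul_mul_assoc, mul_assoc, Units.mul_inv, mul_one] at this
      simp only [← mul_assoc, Units.inv_mul, one_mul] at this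
      rw [this, smul_smul, hε, one_smul]
    have hconj : ∀ k ∈ K, ∀ h : G, (h : Mn) * J = ε • (J * (h : Mn)) → (h : Mn) * k * ((h⁻¹ : G) : Mn) ∈ K := by
      intro k hk h hh
      obtain ⟨p, q, rfl⟩ := hspan k hk
      rw [mul_add, add_mul, mul_smul_comm, mul_smul_comm, mul_one, smul_mul_assoc, smul_mul_assoc, hh, smul_mul_assoc,
        mul_assoc, Units.mul_inv, mul_one]
      exact add_mem (K.smul_mem (one_mem K) _) (K.smul_mem (K.smul_mem hJK _) _)
    intro k
    refine ⟨fun hk => hconj k hk g hgJε, fun hk => ?_⟩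
    have := hconj _ hk g⁻¹ hi
    simpa [mul_assoc, Units.inv_mul_cancel_left] using this

end Cfsg.Agent.Classical.TensorTwoTwo
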