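import Cfsg.Agent.Lib.Classical.MaxSympWreath
import Cfsg.Agent.Lib.Classical.SLNormal

/-!
The tensor stabiliser `Sp₂ ⊗ O₂` in `Sp₄`, `q` odd: coordinates and block elements.
-/

set_option autoImplicit false
set_option linter.unusedSectionVars false

namespace Cfsg.Agent.Classical.TensorTwoTwo

open Matrix Module MaxTv

variable {F : Type*} [Field F]

local notation "U" => (Fin 2 → F)
local notation "V" => (Fin 2 ⊕ Fin 2 → F)
local notation "M2" => Matrix (Fin 2) (Fin 2) F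
local notation "Mn" => Matrix (Fin 2 ⊕ Fin 2) (Fin 2 ⊕ Fin 2) F
local notation "G" => GL (Fin 2 ⊕ Fin 2) F
local notation "B" => sympForm 2 F

/-- The area form on the plane. -/
def dt (x y : Fin 2 → F) : F := x 0 * y 1 - x 1 * y 0

theorem dt_mulVec (P Q : M2) (x y : U) : dt (P *ᵥ x) (Q *ᵥ y) = dt x ((P.adjugate * Q) *ᵥ y) := by
  simp [dt, Matrix.mulVec, dotProduct, Fin.sum_univ_two, Matrix.mul_apply, Matrix.adjugate_fin_two]; ring

theorem dt_add_right (x y z : U) : dt x (y + z) = dt x y + dt x z := by simp [dt]; ring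

theorem dt_add_left (x y z : U) : dt (x + y) z = dt x z + dt y z := by simp [dt]; ring

theorem dt_smul_right (c : F) (x y : U) : dt x (c • y) = c * dt x y := by simp [dt]; ring

theorem dt_swap (x y : U) : dt x y = -dt y x := by simp [dt]; ring

theorem eq_zero_of_dt {w : U} (h : ∀ x, dt x w = 0) : w = 0 := by
  funext i; fin_cases i
  · simpa [dt] using h ![0, 1]
  · simpa [dt] using h ![1, 0]

theorem eq_zero_of_dt_mulVec {T : M2} (h : ∀ x y, dt x (T *ᵥ y) = 0) : T = 0 :=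
  Matrix.ext_iff_mulVec.2 fun y => by rw [Matrix.zero_mulVec]; exact eq_zero_of_dt fun x => h x y

/-- Coordinates in which the form is the orthogonal sum of two multiples of the area form. -/
def Frame (Φ : (U × U) ≃ₗ[F] V) (a b : F) : Prop :=
  a ≠ 0 ∧ b ≠ 0 ∧ ∀ x y x' y', B (Φ (x, y)) (Φ (x', y')) = a * dt x x' + b * dt y y'

/-- `g` has the blocks `P Q R S`. -/
def Acts (Φ : (U × U) ≃ₗ[F] V) (g : G) (P Q R S : M2) : Prop :=
  ∀ x y, (g : Mn) *ᵥ Φ (x, y) = Φ (P *ᵥ x + Q *ᵥ y, R *ᵥ x + S *ᵥ y)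

/-- Conditions on blocks for being an isometry. -/
def Iso (a b : F) (P Q R S : M2) : Prop :=
  a * P.det + b * R.det = a ∧ a * Q.det + b * S.det = b ∧ a • (P.adjugate * Q) + b • (R.adjugate * S) = 0

/-- Pure tensors. -/
def IsP (Φ : (U × U) ≃ₗ[F] V) (g : G) : Prop :=
  ∃ (X : M2) (p q r s : F), Acts Φ g (p • X) (q • X) (r • X) (s • X)

variable {Φ : ((Fin 2 → F) × (Fin 2 → F)) ≃ₗ[F] (Fin 2 ⊕ Fin 2 → F)} {a b : F}

theorem ext_phi {f f' : V → V} (h : ∀ x y : U, f (Φ (x, y)) = f' (Φ (x, y))) (w : V) : f w = f' w := by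
  obtain ⟨⟨x, y⟩, rfl⟩ := Φ.surjective w
  exact h x y

theorem Acts.mul {g g' : G} {P Q R S P' Q' R' S' : M2} (h : Acts Φ g P Q R S) (h' : Acts Φ g' P' Q' R' S') :
    Acts Φ (g * g') (P * P' + Q * R') (P * Q' + Q * S') (R * P' + S * R') (R * Q' + S * S') := fun x y => by
  rw [Units.val_mul, ← Matrix.mulVec_mulVec, h', h]
  refine congrArg Φ (Prod.ext ?_ ?_) <;>
  · simp only [Matrix.add_mulVec, Matrix.mulVec_add, Matrix.mulVec_mulVec]; abel

theorem Acts.one : Acts Φ (1 : G) 1 0 0 1 := fun x y => by simp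

theorem Acts.unique {g g' : G} {P Q R S : M2} (h : Acts Φ g P Q R S) (h' : Acts Φ g' P Q R S) : g = g' :=
  Units.ext (Matrix.ext_iff_mulVec.2 fun w =>
    ext_phi (Φ := Φ) (f := fun w => (g : Mn) *ᵥ w) (f' := fun w => (g' : Mn) *ᵥ w)
      (fun x y => (h x y).trans (h' x y).symm) w)

theorem Acts.blocks {g : G} {P Q R S P' Q' R' S' : M2} (h : Acts Φ g P Q R S) (h' : Acts Φ g P' Q' R' S') :
    P = P' ∧ Q = Q' ∧ R = R' ∧ S = S' := by
  have key : ∀ x y, (P *ᵥ x + Q *ᵥ y, R *ᵥ x + S *ᵥ y) = (P' *ᵥ x + Q' *ᵥ y, R' *ᵥ x + S' *ᵥ y) :=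
    fun x y => Φ.injective ((h x y).symm.trans (h' x y))
  refine ⟨?_, ?_, ?_, ?_⟩ <;> refine Matrix.ext_iff_mulVec.2 fun z => ?_
  · simpa using congrArg Prod.fst (key z 0)
  · simpa using congrArg Prod.fst (key 0 z)
  · simpa using congrArg Prod.snd (key z 0)
  · simpa using congrArg Prod.snd (key 0 z)

theorem adj_mul (T : M2) : T.adjugate * T = T.det • (1 : M2) := Matrix.adjugate_mul T

theorem mul_adj (T : M2) : T * T.adjugate = T.det • (1 : M2) := Matrix.mul_adjugate T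

theorem exists_acts (hF : Frame Φ a b) {P Q R S : M2} (h : Iso a b P Q R S) :
    ∃ g ∈ spGL 2 F, Acts Φ g P Q R S := by
  obtain ⟨h1, h2, h3⟩ := h
  obtain ⟨L, hL⟩ : ∃ L : V →ₗ[F] V, ∀ x y, L (Φ (x, y)) = Φ (P *ᵥ x + Q *ᵥ y, R *ᵥ x + S *ᵥ y) := by
    refine ⟨Φ.toLinearMap ∘ₗ (((P.mulVecLin ∘ₗ LinearMap.fst F U U) + (Q.mulVecLin ∘ₗ LinearMap.snd F U U)).prod
      ((R.mulVecLin ∘ₗ LinearMap.fst F U U) + (S.mulVecLin ∘ₗ LinearMap.snd F U U))) ∘ₗ Φ.symm.toLinearMap, ?_⟩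
    intro x y
    simp
  have hB : ∀ u w, B (L u) (L w) = B u w := by
    intro u w
    obtain ⟨⟨x, y⟩, rfl⟩ := Φ.surjective u
    obtain ⟨⟨x', y'⟩, rfl⟩ := Φ.surjective w
    rw [hL, hL, hF.2.2, hF.2.2]
    simp only [dt_add_left, dt_add_right, dt_mulVec, adj_mul, Matrix.smul_mulVec, Matrix.one_mulVec, dt_smul_right]
    have h4 : ∀ u v, a * dt u ((P.adjugate * Q) *ᵥ v) + b * dt u ((R.adjugate * S) *ᵥ v) = 0 := fun u v => by
      rw [← dt_smul_right, ← dt_smul_right, ← dt_add_right, ← Matrix.smul_mulVec, ← Matrix.smul_mulVec,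
        ← Matrix.add_mulVec, h3, Matrix.zero_mulVec]
      simp [dt]
    have h5 : ∀ u v, a * dt v ((Q.adjugate * P) *ᵥ u) + b * dt v ((S.adjugate * R) *ᵥ u) = 0 := fun u v => by
      rw [← dt_mulVec, ← dt_mulVec, dt_swap (Q *ᵥ v), dt_swap (S *ᵥ v), dt_mulVec, dt_mulVec]
      linear_combination (-1 : F) * h4 u v
    linear_combination dt x x' * h1 + dt y y' * h2 + h4 x y' + h5 x' y
  have hinj : Function.Injective L := fun u w e => sub_eq_zero.1 (sesq_sympForm.eq_zero _ fun z => by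
    rw [← hB, map_sub, e, sub_self, sesq_sympForm.zero_right])
  obtain ⟨g, hg⟩ := exists_gl_of_injective L hinj
  exact ⟨g, mem_spGL.2 fun u w => by rw [hg, hg, hB], fun x y => by rw [hg, hL]⟩

theorem exists_blocks (hF : Frame Φ a b) {g : G} (hg : g ∈ spGL 2 F) :
    ∃ P Q R S, Acts Φ g P Q R S ∧ Iso a b P Q R S := by
  obtain ⟨L, hL⟩ : ∃ L : (U × U) →ₗ[F] U × U, ∀ p, L p = Φ.symm ((g : Mn) *ᵥ Φ p) :=
    ⟨Φ.symm.toLinearMap ∘ₗ ((g : Mn).mulVecLin ∘ₗ Φ.toLinearMap), fun p => rfl⟩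
  refine ⟨LinearMap.toMatrix' (LinearMap.fst F U U ∘ₗ L ∘ₗ LinearMap.inl F U U),
    LinearMap.toMatrix' (LinearMap.fst F U U ∘ₗ L ∘ₗ LinearMap.inr F U U),
    LinearMap.toMatrix' (LinearMap.snd F U U ∘ₗ L ∘ₗ LinearMap.inl F U U),
    LinearMap.toMatrix' (LinearMap.snd F U U ∘ₗ L ∘ₗ LinearMap.inr F U U), ?_⟩
  have hact : Acts Φ g (LinearMap.toMatrix' (LinearMap.fst F U U ∘ₗ L ∘ₗ LinearMap.inl F U U))
      (LinearMap.toMatrix' (LinearMap.fst F U U ∘ₗ L ∘ₗ LinearMap.inr F U U))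
      (LinearMap.toMatrix' (LinearMap.snd F U U ∘ₗ L ∘ₗ LinearMap.inl F U U))
      (LinearMap.toMatrix' (LinearMap.snd F U U ∘ₗ L ∘ₗ LinearMap.inr F U U)) := fun x y => by
    simp only [LinearMap.toMatrix'_mulVec, LinearMap.comp_apply]
    rw [← map_add, ← map_add, ← map_add, ← map_add]
    simp only [LinearMap.inl_apply, LinearMap.inr_apply, Prod.mk_add_mk, add_zero, zero_add, hL,
      LinearMap.fst_apply, LinearMap.snd_apply, Prod.mk.eta, LinearEquiv.apply_symm_apply]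
  refine ⟨hact, ?_⟩
  generalize LinearMap.toMatrix' (LinearMap.fst F U U ∘ₗ L ∘ₗ LinearMap.inl F U U) = P at hact ⊢
  generalize LinearMap.toMatrix' (LinearMap.fst F U U ∘ₗ L ∘ₗ LinearMap.inr F U U) = Q at hact ⊢
  generalize LinearMap.toMatrix' (LinearMap.snd F U U ∘ₗ L ∘ₗ LinearMap.inl F U U) = R at hact ⊢
  generalize LinearMap.toMatrix' (LinearMap.snd F U U ∘ₗ L ∘ₗ LinearMap.inr F U U) = S at hact ⊢
  have hB := mem_spGL.1 hg
  have key : ∀ x y x' y', B ((g : Mn) *ᵥ Φ (x, y)) ((g : Mn) *ᵥ Φ (x', y')) = a * dt x x' + b * dt y y' :=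
    fun x y x' y' => by rw [hB, hF.2.2]
  simp only [hact _ _, hF.2.2] at key
  refine ⟨?_, ?_, ?_⟩
  · have := key ![1, 0] 0 ![0, 1] 0
    simp only [Matrix.mulVec_zero, add_zero, dt_mulVec, adj_mul, Matrix.smul_mulVec, Matrix.one_mulVec,
      dt_smul_right] at this
    simpa [dt] using this
  · have := key 0 ![1, 0] 0 ![0, 1]
    simp only [Matrix.mulVec_zero, zero_add, dt_mulVec, adj_mul, Matrix.smul_mulVec, Matrix.one_mulVec,
      dt_smul_right] at this
    simpa [dt] using this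
  · refine eq_zero_of_dt_mulVec fun x y => ?_
    have := key x 0 0 y
    simp only [Matrix.mulVec_zero, add_zero, zero_add, dt_mulVec] at this
    rw [Matrix.add_mulVec, Matrix.smul_mulVec, Matrix.smul_mulVec, dt_add_right, dt_smul_right, dt_smul_right, this]
    simp [dt]

/-! ### Elements of an overgroup -/

/-- An overgroup of the pure tensors. -/
def Over (Φ : (U × U) ≃ₗ[F] V) (M : Subgroup G) : Prop :=
  M ≤ spGL 2 F ∧ ∀ g ∈ spGL 2 F, IsP Φ g → g ∈ M

variable {M : Subgroup (GL (Fin 2 ⊕ Fin 2) F)}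

theorem exists_det (d : F) : ∃ X : M2, X.det = d :=
  ⟨!![d, 0; 0, 1], by simp [Matrix.det_fin_two]⟩

theorem exists_tensor (hF : Frame Φ a b) (hM : Over Φ M) (X : M2) (p q r s : F)
    (h1 : X.det * (a * p * p + b * r * r) = a) (h2 : X.det * (a * q * q + b * s * s) = b)
    (h3 : a * p * q + b * r * s = 0) :
    ∃ g ∈ M, g ∈ spGL 2 F ∧ IsP Φ g ∧ Acts Φ g (p • X) (q • X) (r • X) (s • X) := by
  obtain ⟨g, hg, hga⟩ := exists_acts hF (P := p • X) (Q := q • X) (R := r • X) (S := s • X) ⟨by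
    simp only [Matrix.det_smul, Fintype.card_fin]; linear_combination h1, by
    simp only [Matrix.det_smul, Fintype.card_fin]; linear_combination h2, by
    simp only [Matrix.adjugate_smul, Fintype.card_fin, Matrix.smul_mul, Matrix.mul_smul, smul_smul, adj_mul,
      ← add_smul]
    refine smul_eq_zero.2 (Or.inl ?_)
    linear_combination X.det * h3⟩
  exact ⟨g, hM.2 g hg ⟨X, p, q, r, s, hga⟩, hg, ⟨X, p, q, r, s, hga⟩, hga⟩

theorem exists_pair (hF : Frame Φ a b) (hM : Over Φ M) (X : M2) (hX : X.det = 1) (ε : F) (hε : ε * ε = 1) :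
    ∃ g ∈ M, Acts Φ g X 0 0 (ε • X) := by
  obtain ⟨g, hg, -, -, hga⟩ := exists_tensor hF hM X 1 0 0 ε (by rw [hX]; ring)
    (by rw [hX]; linear_combination b * hε) (by ring)
  exact ⟨g, hg, by simpa using hga⟩

theorem IsP.mul {g g' : G} (h : IsP Φ g) (h' : IsP Φ g') : IsP Φ (g * g') := by
  obtain ⟨X, p, q, r, s, h⟩ := h
  obtain ⟨X', p', q', r', s', h'⟩ := h'
  exact ⟨X * X', p * p' + q * r', p * q' + q * s', r * p' + s * r', r * q' + s * s',
    by simpa only [Matrix.smul_mul, Matrix.mul_smul, smul_smul, ← add_smul, mul_comm] using h.mul h'⟩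

theorem notP_mul_left {g k k' : G} (hk' : IsP Φ k') (hk : k' * k = 1) (hg : ¬ IsP Φ g) : ¬ IsP Φ (k * g) :=
  fun h => hg (by simpa [← mul_assoc, hk] using hk'.mul h)

theorem notP_mul_right {g k k' : G} (hk' : IsP Φ k') (hk : k * k' = 1) (hg : ¬ IsP Φ g) : ¬ IsP Φ (g * k) :=
  fun h => hg (by simpa [mul_assoc, hk] using h.mul hk')

/-- The rotation through the line of slope `s`, and its inverse. -/
theorem exists_rot (hF : Frame Φ a b) (hM : Over Φ M) (s : F) (hs : a + b * (s * s) ≠ 0) (X : M2)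
    (hX : X.det * (a + b * (s * s)) = a) :
    ∃ g ∈ M, Acts Φ g X ((-(s * b / a)) • X) (s • X) X ∧ ∃ g' : G, IsP Φ g' ∧ g' * g = 1 ∧ g * g' = 1 := by
  have ha := hF.1
  have h1 : ∀ Y : M2, Y.det * (a + b * (s * s)) = a → ∀ u : F, u * u = s * s →
      ∃ g ∈ M, g ∈ spGL 2 F ∧ IsP Φ g ∧ Acts Φ g ((1 : F) • Y) ((-(u * b / a)) • Y) (u • Y) ((1 : F) • Y) :=
    fun Y hY u hu => exists_tensor hF hM Y 1 (-(u * b / a)) u 1
      (by linear_combination hY + Y.det * b * hu)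
      (by linear_combination (norm := (field_simp; ring)) (b / a) * hY + (b * b / a) * Y.det * hu)
      (by field_simp; ring)
  obtain ⟨g, hg, -, -, hga⟩ := h1 X hX s rfl
  obtain ⟨g', -, -, hP, hga'⟩ := h1 X.adjugate (by
    rw [Matrix.det_adjugate]; simpa using hX) (-s) (by ring)
  refine ⟨g, hg, by simpa using hga, g', hP, ?_⟩
  have hone : g' * g = 1 := by
    refine Acts.unique (Φ := Φ) (Acts.mul hga' hga) ?_
    convert Acts.one (Φ := Φ) using 1 <;>
    · simp only [one_smul, Matrix.smul_mul, Matrix.mul_smul, smul_smul, adj_mul, ← add_smul]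
      ext i j
      simp only [Matrix.smul_apply, Matrix.add_apply, Matrix.zero_apply, Matrix.one_apply, smul_eq_mul]
      split_ifs
      · first
          | linear_combination (norm := (field_simp; ring1)) a⁻¹ * hX
          | (field_simp; ring1)
          | ring1
      · ring
  exact ⟨hone, mul_eq_one_comm.1 hone⟩

/-- The interchange of the two components. -/
theorem exists_swap (hF : Frame Φ a b) (hM : Over Φ M) :
    ∃ (X : M2) (g : G), g ∈ M ∧ X.det = a / b ∧ Acts Φ g 0 ((b / a) • X) X 0 ∧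
      ∃ g' : G, IsP Φ g' ∧ g' * g = 1 ∧ g * g' = 1 := by
  have ha := hF.1
  have hb := hF.2.1
  obtain ⟨X, hX⟩ := exists_det (a / b)
  have h1 : ∀ Y : M2, Y.det = a / b →
      ∃ g ∈ M, g ∈ spGL 2 F ∧ IsP Φ g ∧ Acts Φ g ((0 : F) • Y) ((b / a) • Y) ((1 : F) • Y) ((0 : F) • Y) :=
    fun Y hY => exists_tensor hF hM Y 0 (b / a) 1 0 (by rw [hY]; field_simp; ring)
      (by rw [hY]; field_simp; ring) (by ring)
  obtain ⟨g, hg, -, -, hga⟩ := h1 X hX
  obtain ⟨g', -, -, hP, hga'⟩ := h1 X.adjugate (by rw [Matrix.det_adjugate]; simpa using hX)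
  refine ⟨X, g, hg, hX, by simpa using hga, g', hP, ?_⟩
  have hone : g' * g = 1 := by
    refine Acts.unique (Φ := Φ) (Acts.mul hga' hga) ?_
    convert Acts.one (Φ := Φ) using 1 <;>
    · simp only [zero_smul, one_smul, zero_add, add_zero, Matrix.mul_zero, Matrix.zero_mul, Matrix.smul_mul,
        Matrix.mul_smul, smul_zero, adj_mul, hX, smul_smul]
      try field_simp
      try simp
  exact ⟨hone, mul_eq_one_comm.1 hone⟩

theorem exists_sl_map {u v : U} (hu : u ≠ 0) (hv : v ≠ 0) : ∃ Z : M2, Z.det = 1 ∧ Z *ᵥ u = v := by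
  have col : ∀ w : U, w ≠ 0 → ∃ Z : M2, Z.det = 1 ∧ Z *ᵥ ![1, 0] = w := fun w hw => by
    by_cases h : w 0 = 0
    · have h1 : w 1 ≠ 0 := fun h1 => hw (by funext i; fin_cases i <;> assumption)
      exact ⟨!![0, -(w 1)⁻¹; w 1, 0], by simp [Matrix.det_fin_two, h1], by
        funext i; fin_cases i <;> simp [h]⟩
    · exact ⟨!![w 0, 0; w 1, (w 0)⁻¹], by simp [Matrix.det_fin_two, h], by
        funext i; fin_cases i <;> simp⟩
  obtain ⟨A, hA, hAu⟩ := col u hu
  obtain ⟨C, hC, hCv⟩ := col v hv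
  refine ⟨C * A.adjugate, by rw [Matrix.det_mul, Matrix.det_adjugate, hA, hC]; simp, ?_⟩
  rw [← hAu, Matrix.mulVec_mulVec, mul_assoc, adj_mul, hA, one_smul, mul_one, hCv]

variable [Fintype F]

theorem exists_slope (hF : Frame Φ a b) (h5 : 5 ≤ Fintype.card F) :
    ∃ s : F, s ≠ 0 ∧ a + b * (s * s) ≠ 0 := by
  classical
  have hb := hF.2.1
  by_contra hc
  push Not at hc
  obtain ⟨s₀, hs₀⟩ : ∃ s₀ : F, ∀ s, s ≠ 0 → s = s₀ ∨ s = -s₀ := ⟨1, fun s hs => by
    have h := hc s hs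
    have h1 := hc 1 one_ne_zero
    exact mul_self_eq_mul_self_iff.1 (mul_left_cancel₀ hb (by linear_combination h - h1))⟩
  have hsub : (Finset.univ : Finset F) ⊆ {0, s₀, -s₀} := fun x _ => by
    by_cases hx : x = 0 <;> simp [hx]
    exact hs₀ x hx
  have := (Finset.card_le_card hsub).trans Finset.card_le_three
  rw [Finset.card_univ] at this
  omega

/-- An element preserving both components, not a pure tensor, gives all of `Sp₄`. -/
theorem full_of_block (hF : Frame Φ a b) (h5 : 5 ≤ Fintype.card F) (hM : Over Φ M)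
    {k : G} (hk : k ∈ M) {X Y : M2} (hka : Acts Φ k X 0 0 Y) (hXY : ∀ c : F, Y ≠ c • X) :
    spGL 2 F ≤ M := by
  have ha := hF.1
  have hb := hF.2.1
  obtain ⟨P, Q, R, S, hb', hiso⟩ := exists_blocks hF (hM.1 hk)
  obtain ⟨rfl, rfl, rfl, rfl⟩ := hka.blocks hb'
  obtain ⟨h1, h2, -⟩ := hiso
  simp only [Matrix.det_zero, mul_zero, add_zero, zero_add] at h1 h2
  have hX : X.det = 1 := mul_left_cancel₀ ha (by rw [h1, mul_one])
  have hY : Y.det = 1 := mul_left_cancel₀ hb (by rw [h2, mul_one])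
  let N : Subgroup (Matrix.SpecialLinearGroup (Fin 2) F) :=
    { carrier := {Z | ∃ g ∈ M, Acts Φ g 1 0 0 (Z : M2)}
      mul_mem' := fun {Z W} hZ hW => by
        obtain ⟨g, hg, hga⟩ := hZ
        obtain ⟨g', hg', hga'⟩ := hW
        exact ⟨g * g', mul_mem hg hg', by simpa using hga.mul hga'⟩
      one_mem' := ⟨1, one_mem _, by simpa using Acts.one (Φ := Φ)⟩
      inv_mem' := fun {Z} hZ => by
        obtain ⟨g, hg, hga⟩ := hZ
        obtain ⟨g', hg's, hga'⟩ := exists_acts hF (P := 1) (Q := 0) (R := 0) (S := (Z⁻¹ : Matrix.SpecialLinearGroup (Fin 2) F).1)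
          ⟨by simp, by simp [Matrix.det_adjugate], by simp⟩
        have : g * g' = 1 := Acts.unique (Φ := Φ) (hga.mul hga') (by
          have e : (Z : M2) * (Z : M2).adjugate = 1 := by rw [mul_adj, Z.2, one_smul]
          simpa [e] using Acts.one (Φ := Φ))
        exact ⟨g', by rw [eq_inv_of_mul_eq_one_right this]; exact inv_mem hg, hga'⟩ }
  have hN : N.Normal := ⟨fun Z hZ W => by
    obtain ⟨g, hg, hga⟩ := hZ
    obtain ⟨p, hp, hpa⟩ := exists_pair hF hM (W : M2) W.2 1 (by ring)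
    obtain ⟨p', hp', hpa'⟩ := exists_pair hF hM (W⁻¹ : Matrix.SpecialLinearGroup (Fin 2) F).1
      (W⁻¹ : Matrix.SpecialLinearGroup (Fin 2) F).2 1 (by ring)
    have e : (W : M2) * (W : M2).adjugate = 1 := by rw [mul_adj, W.2, one_smul]
    refine ⟨p * g * p', mul_mem (mul_mem hp hg) hp', ?_⟩
    have := (hpa.mul hga).mul hpa'
    simpa [e, Matrix.SpecialLinearGroup.coe_mul] using this⟩
  have hnc : ¬ N ≤ Subgroup.center (Matrix.SpecialLinearGroup (Fin 2) F) := fun hle => by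
    obtain ⟨p, hp, hpa⟩ := exists_pair hF hM X.adjugate (by rw [Matrix.det_adjugate, hX]; simp) 1 (by ring)
    have hmem : (⟨X.adjugate * Y, by rw [Matrix.det_mul, Matrix.det_adjugate, hX, hY]; simp⟩ :
        Matrix.SpecialLinearGroup (Fin 2) F) ∈ N :=
      ⟨p * k, mul_mem hp hk, by simpa [adj_mul, hX] using hpa.mul hka⟩
    obtain ⟨r, -, hr⟩ := Matrix.SpecialLinearGroup.mem_center_iff.1 (hle hmem)
    refine hXY r ?_
    have h3 := congrArg (fun T => X * T) hr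
    simp only [← mul_assoc, mul_adj, hX, one_smul, one_mul] at h3
    rw [← h3]
    ext i j
    simp [Matrix.scalar_apply, Matrix.mul_diagonal]
    ring
  have := PSL_isSimple (F := F) (le_refl 2) (fun _ => by omega)
  have htop : N = ⊤ := SL_normal_eq_top
    (SL_commutator_eq_top fun _ => exists_sq_ne_one_field (by omega)) N hnc
  have hboth : ∀ Z W : M2, Z.det = 1 → W.det = 1 → ∃ g ∈ M, Acts Φ g Z 0 0 W := fun Z W hZ hW => by
    obtain ⟨p, hp, hpa⟩ := exists_pair hF hM Z hZ 1 (by ring)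
    obtain ⟨g, hg, hga⟩ : (⟨Z.adjugate * W, by rw [Matrix.det_mul, Matrix.det_adjugate, hZ, hW]; simp⟩ :
        Matrix.SpecialLinearGroup (Fin 2) F) ∈ N := htop ▸ Subgroup.mem_top _
    exact ⟨p * g, mul_mem hp hg, by simpa [← mul_assoc, mul_adj, hZ] using hpa.mul hga⟩
  have hpt : ∀ x : U, Pt M (Φ (x, 0)) ∧ Pt M (Φ (0, x)) := fun x => by
    refine ⟨fun c => ?_, fun c => ?_⟩
    · obtain ⟨T, hTs, hT⟩ := exists_sp_tv (m := 2) (Φ (x, 0)) c
      refine ⟨T, ?_, fun w => by rw [hT, fn_dot sesq_sympForm, sympForm_smul_right]⟩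
      obtain ⟨P, Q, R, S, hTa, hTi⟩ := exists_blocks hF hTs
      have e : ∀ u w, (T : Mn) *ᵥ Φ (u, w) = Φ (u + (c * (a * dt u x)) • x, w) := fun u w => by
        rw [hT, hF.2.2, ← map_smul, ← map_add]
        simp [dt]
      have hQ : Q = 0 ∧ R = 0 ∧ S = 1 := by
        refine ⟨?_, ?_, ?_⟩ <;> refine Matrix.ext_iff_mulVec.2 fun z => ?_
        · simpa [dt] using congrArg Prod.fst (Φ.injective ((hTa 0 z).symm.trans (e 0 z)))
        · simpa [dt] using congrArg Prod.snd (Φ.injective ((hTa z 0).symm.trans (e z 0)))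
        · simpa [dt] using congrArg Prod.snd (Φ.injective ((hTa 0 z).symm.trans (e 0 z)))
      obtain ⟨rfl, rfl, rfl⟩ := hQ
      obtain ⟨h1, -, -⟩ := hTi
      simp only [Matrix.det_zero, mul_zero, add_zero] at h1
      obtain ⟨g, hg, hga⟩ := hboth P 1 (mul_left_cancel₀ ha (by rw [h1, mul_one])) Matrix.det_one
      rwa [Acts.unique hTa hga]
    · obtain ⟨T, hTs, hT⟩ := exists_sp_tv (m := 2) (Φ (0, x)) c
      refine ⟨T, ?_, fun w => by rw [hT, fn_dot sesq_sympForm, sympForm_smul_right]⟩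
      obtain ⟨P, Q, R, S, hTa, hTi⟩ := exists_blocks hF hTs
      have e : ∀ u w, (T : Mn) *ᵥ Φ (u, w) = Φ (u, w + (c * (b * dt w x)) • x) := fun u w => by
        rw [hT, hF.2.2, ← map_smul, ← map_add]
        simp [dt]
      have hQ : P = 1 ∧ Q = 0 ∧ R = 0 := by
        refine ⟨?_, ?_, ?_⟩ <;> refine Matrix.ext_iff_mulVec.2 fun z => ?_
        · simpa [dt] using congrArg Prod.fst (Φ.injective ((hTa z 0).symm.trans (e z 0)))
        · simpa [dt] using congrArg Prod.fst (Φ.injective ((hTa 0 z).symm.trans (e 0 z)))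
        · simpa [dt] using congrArg Prod.snd (Φ.injective ((hTa z 0).symm.trans (e z 0)))
      obtain ⟨rfl, rfl, rfl⟩ := hQ
      obtain ⟨-, h2, -⟩ := hTi
      simp only [Matrix.det_zero, mul_zero, zero_add] at h2
      obtain ⟨g, hg, hga⟩ := hboth 1 S Matrix.det_one (mul_left_cancel₀ hb (by rw [h2, mul_one]))
      rwa [Acts.unique hTa hga]
  refine spGL_le fun v => ?_
  obtain ⟨⟨x, y⟩, rfl⟩ := Φ.surjective v
  rcases eq_or_ne y 0 with rfl | hy
  · exact (hpt x).1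
  rcases eq_or_ne x 0 with rfl | hx
  · exact (hpt y).2
  obtain ⟨s, hs0, hs⟩ := exists_slope hF h5
  obtain ⟨T, hT⟩ := exists_det (a / (a + b * (s * s)))
  have hT0 : T.det * (a + b * (s * s)) = a := by rw [hT, div_mul_cancel₀ _ hs]
  obtain ⟨g, hg, hga, -⟩ := exists_rot hF hM s hs T hT0
  have hTu : T.det ≠ 0 := fun h => ha (by rw [← hT0, h, zero_mul])
  have hgx : (g : Mn) *ᵥ Φ (T.det⁻¹ • (T.adjugate *ᵥ x), 0) = Φ (x, s • x) := by
    have e : T *ᵥ (T.det⁻¹ • (T.adjugate *ᵥ x)) = x := by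
      rw [Matrix.mulVec_smul, Matrix.mulVec_mulVec, mul_adj, Matrix.smul_mulVec, Matrix.one_mulVec,
        inv_smul_smul₀ hTu]
    rw [hga]; simp only [Matrix.smul_mulVec, Matrix.mulVec_zero, smul_zero, e, add_zero]
  obtain ⟨Z, hZ, hZx⟩ := exists_sl_map (smul_ne_zero hs0 hx) hy
  obtain ⟨p, hp, hpa⟩ := hboth 1 Z Matrix.det_one hZ
  have h1 := ((hpt (T.det⁻¹ • (T.adjugate *ᵥ x))).1).map hg (hM.1 hg)
  rw [hgx] at h1
  have h2 := h1.map hp (hM.1 hp)
  rw [hpa] at h2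
  simpa [hZx, Matrix.mulVec_smul] using h2

end Cfsg.Agent.Classical.TensorTwoTwo
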