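import Cfsg.Agent.Lib.Classical.MaxTensorTwoTwoRef

/-!
The tensor stabiliser `Sp₂ ⊗ O₂` is maximal in `Sp₄`, `q ≥ 5` odd.
-/

set_option autoImplicit false
set_option linter.unusedSectionVars false

namespace Cfsg.Agent.Classical.TensorTwoTwo

open Matrix Module MaxTv

variable {F : Type*} [Field F] [Fintype F]

local notation "U" => (Fin 2 → F)
local notation "V" => (Fin 2 ⊕ Fin 2 → F)
local notation "M2" => Matrix (Fin 2) (Fin 2) F
local notation "Mn" => Matrix (Fin 2 ⊕ Fin 2) (Fin 2 ⊕ Fin 2) F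
local notation "G" => GL (Fin 2 ⊕ Fin 2) F

variable {Φ : ((Fin 2 → F) × (Fin 2 → F)) ≃ₗ[F] (Fin 2 ⊕ Fin 2 → F)} {a b : F}
variable {M : Subgroup (GL (Fin 2 ⊕ Fin 2) F)}

theorem coeff_zero {A : M2} (hAs : ∀ c : F, A ≠ c • 1) {p q : F} (h : p • A = q • (1 : M2)) : p = 0 ∧ q = 0 := by
  have hp : p = 0 := by
    by_contra hp
    exact hAs (p⁻¹ * q) (by rw [← smul_smul, ← h, inv_smul_smul₀ hp])
  exact ⟨hp, (smul_eq_zero.1 (by rw [← h, hp, zero_smul])).resolve_right one_ne_zero⟩

/-- The plane of a nilpotent map. -/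
theorem full_nil (hF : Frame Φ a b) (h5 : 5 ≤ Fintype.card F) (h2 : (2 : F) ≠ 0) (hM : Over Φ M) {N : M2}
    (h : RefP Φ M 1 N) (hN0 : N ≠ 0) (ht : N.trace = 0) (hd : N.det = 0) : spGL 2 F ≤ M := by
  have ha := hF.1
  have hb := hF.2.1
  have hadj : N.adjugate = -N := by rw [adj_eq, ht, zero_smul, zero_sub]
  have hNN : N * N = 0 := by rw [trace_sq, ht, hd]; simp
  have hNe : ∀ i j, (N * N) i j = 0 := fun i j => by rw [hNN]; rfl
  have hdet : ∀ p : F, (1 + p • N).det = 1 := fun p => by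
    simp only [Matrix.trace_fin_two, Matrix.det_fin_two] at ht hd
    simp [Matrix.det_fin_two]
    linear_combination p * ht + p * p * hd
  obtain ⟨Sg, hSg⟩ : ∃ Sg : F → F → F → Prop, ∀ p q r, Sg p q r ↔
      ∃ g ∈ M, Acts Φ g (1 + p • N) ((b / a * q) • N) (q • N) (1 + r • N) := ⟨_, fun _ _ _ => Iff.rfl⟩
  have hmk : ∀ p q r : F, ∃ g ∈ spGL 2 F, Acts Φ g (1 + p • N) ((b / a * q) • N) (q • N) (1 + r • N) :=
    fun p q r => exists_acts hF ⟨by rw [hdet, det_smul_two, hd]; ring, by rw [hdet, det_smul_two, hd]; ring, by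
      rw [adj_eq (1 + p • N), Matrix.adjugate_smul, hadj]
      simp [Matrix.trace_add, Matrix.trace_smul, ht, add_mul, sub_mul, mul_add, hNN, smul_smul]
      match_scalars
      field_simp
      ring⟩
  have hadd : ∀ {p q r p' q' r' : F}, Sg p q r → Sg p' q' r' → Sg (p + p') (q + q') (r + r') := by
    intro p q r p' q' r' h h'
    obtain ⟨g, hg, hga⟩ := (hSg _ _ _).1 h
    obtain ⟨g', hg', hga'⟩ := (hSg _ _ _).1 h'
    refine (hSg _ _ _).2 ⟨g * g', mul_mem hg hg', ?_⟩
    have := hga.mul hga'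
    simp only [add_mul, mul_add, one_mul, mul_one, smul_mul_assoc, mul_smul_comm, hNN, smul_zero, add_zero,
      zero_add] at this
    convert this using 1 <;> module
  have hneg : ∀ {p q r : F}, Sg p q r → Sg (-p) (-q) (-r) := by
    intro p q r h
    obtain ⟨g, hg, hga⟩ := (hSg _ _ _).1 h
    obtain ⟨g', -, hga'⟩ := hmk (-p) (-q) (-r)
    have h1 : g * g' = 1 := by
      refine Acts.unique (Φ := Φ) (hga.mul hga') ?_
      have h0 := Acts.one (Φ := Φ)
      convert h0 using 1 <;>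
      · simp only [add_mul, mul_add, one_mul, mul_one, smul_mul_assoc, mul_smul_comm, hNN, smul_zero, add_zero,
          zero_add]
        module
    exact (hSg _ _ _).2 ⟨g', by rw [eq_inv_of_mul_eq_one_right h1]; exact inv_mem hg, hga'⟩
  have hsq : ∀ {p q r : F}, Sg p q r → ∀ c : F, c ≠ 0 → Sg (c * c * p) (c * c * q) (c * c * r) := by
    intro p q r h c hc
    obtain ⟨g, hg, hga⟩ := (hSg _ _ _).1 h
    obtain ⟨X, hX, hXN, hNX⟩ := exists_nil_scale hN0 ht hd c c⁻¹
    rw [mul_inv_cancel₀ hc] at hX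
    obtain ⟨k, hk, hka⟩ := exists_pair hF hM X hX 1 (by ring)
    obtain ⟨k', hk', hka'⟩ := exists_pair hF hM X.adjugate (by rw [Matrix.det_adjugate, hX]; simp) 1 (by ring)
    refine (hSg _ _ _).2 ⟨k * g * k', mul_mem (mul_mem hk hg) hk', ?_⟩
    have hXa : X * X.adjugate = 1 := by rw [mul_adj, hX, one_smul]
    have h' : N * X.adjugate = c • N := by
      rw [show N * X.adjugate = c • ((N * X) * X.adjugate) by
        rw [hNX, smul_mul_assoc, smul_smul, mul_inv_cancel₀ hc, one_smul], mul_assoc, hXa, mul_one]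
    have hN' : X * N * X.adjugate = (c * c) • N := by rw [mul_assoc, h', mul_smul_comm, hXN, smul_smul]
    have := (hka.mul hga).mul hka'
    simp only [one_smul, mul_zero, zero_mul, add_zero, zero_add, mul_add, add_mul, mul_one, mul_smul_comm,
      smul_mul_assoc, hXa, hN', smul_smul] at this
    convert this using 1 <;> module
  have hsmul : ∀ {p q r : F}, Sg p q r → ∀ c : F, Sg (c * p) (c * q) (c * r) := by
    intro p q r h c
    have hzero : Sg 0 0 0 := (hSg _ _ _).2 ⟨1, one_mem _, by simpa using Acts.one (Φ := Φ)⟩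
    have hsq' : ∀ d : F, Sg (d * d * p) (d * d * q) (d * d * r) := fun d => by
      by_cases hd : d = 0
      · simpa [hd] using hzero
      · exact hsq h d hd
    have := hadd (hsq' ((c + 1) / 2)) (hneg (hsq' ((c - 1) / 2)))
    convert this using 1 <;> (field_simp; ring)
  have hI : ∀ c : F, Sg c 0 c := fun c => (hSg _ _ _).2 (by
    obtain ⟨k, hk, hka⟩ := exists_pair hF hM (1 + c • N) (hdet c) 1 (by ring)
    exact ⟨k, hk, by simpa using hka⟩)
  have hk0 : Sg 0 2 0 := by
    obtain ⟨j, hj, hja⟩ := h.acts hF (by rw [hd, mul_zero, add_zero]; exact ha)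
    obtain ⟨p, hp, hpa⟩ := exists_pair hF hM (-1 : M2) (by simp [Matrix.det_fin_two]) (-1) (by ring)
    refine (hSg _ _ _).2 ⟨j * p, mul_mem hj hp, ?_⟩
    have := hja.mul hpa
    simp [hd, hadj, ha, smul_smul] at this
    convert this using 1 <;> first
      | simp
      | module
      | (match_scalars; field_simp)
  have hq : ∀ q : F, Sg 0 q 0 := fun q => by simpa [h2] using hsmul hk0 (q / 2)
  obtain ⟨ρ, hρ0, hρ⟩ := exists_slope hF h5
  obtain ⟨x, hx⟩ : ∃ x : F, x * (a + b * (ρ * ρ)) = a := ⟨a / (a + b * (ρ * ρ)), div_mul_cancel₀ _ hρ⟩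
  have hx0 : x ≠ 0 := fun h0 => ha (by rw [← hx, h0, zero_mul])
  obtain ⟨X, hX, hXN, hNX⟩ := exists_nil_scale hN0 ht hd x 1
  rw [mul_one] at hX
  rw [one_smul] at hNX
  obtain ⟨gT, hgT, hgTa, -⟩ := exists_rot hF hM ρ hρ X (by rw [hX]; exact hx)
  obtain ⟨g₀, hg₀, hg₀a⟩ := (hSg _ _ _).1 (hq 1)
  obtain ⟨k, hk⟩ : ∃ k : F, k = ρ * b / a := ⟨_, rfl⟩
  obtain ⟨g₁, -, hg₁a⟩ := hmk (-(2 * k * (x * x))) ((1 - ρ * k) * (x * x)) (2 * k * (x * x))
  have hx' : x = x * x * (1 + ρ * k) := by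
    rw [hk]; linear_combination (norm := (field_simp; ring1)) -(x / a) * hx
  have he : g₁ * gT = gT * g₀ := by
    refine Acts.unique (Φ := Φ) (hg₁a.mul hgTa) ?_
    have h1 := hgTa.mul hg₀a
    simp only [zero_smul, add_zero, mul_one, mul_add, add_mul, one_mul, mul_smul_comm, smul_mul_assoc, hXN, hNX,
      smul_smul] at h1 ⊢
    rw [← hk] at h1 ⊢
    have hkb : b / a * ρ = k := by rw [hk]; ring
    convert h1 using 1 <;> (match_scalars <;> first
      | ring1
      | linear_combination -hx'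
      | linear_combination k * hx' + (1 - ρ * k) * (x * x) * hkb
      | linear_combination (-(b / a)) * hx' - 2 * k * (x * x) * hkb
      | linear_combination (-k) * hx' - x * hkb)
  have h1 : Sg (-(2 * k * (x * x))) ((1 - ρ * k) * (x * x)) (2 * k * (x * x)) :=
    (hSg _ _ _).2 ⟨g₁, by rw [eq_mul_inv_of_mul_eq he]; exact mul_mem (mul_mem hgT hg₀) (inv_mem hgT), hg₁a⟩
  obtain ⟨g, hg, hga⟩ := (hSg _ _ _).1 (hadd (hadd h1 (hneg (hq ((1 - ρ * k) * (x * x))))) (hI (2 * k * (x * x))))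
  simp only [neg_zero, add_zero, add_neg_cancel, neg_add_cancel, mul_zero, zero_smul] at hga
  refine full_of_block hF h5 hM hg hga fun c hc => hN0 ?_
  have hc' : (2 * k * (x * x) + 2 * k * (x * x)) • N = (c - 1) • (1 : M2) := by
    rw [sub_smul, ← hc, one_smul, add_sub_cancel_left]
  have h3 := congrArg Matrix.trace hc'
  rw [Matrix.trace_smul, Matrix.trace_smul, ht] at h3
  simp [h2] at h3
  rw [h3, zero_smul, smul_eq_zero] at hc'
  refine hc'.resolve_left ?_
  rw [hk]
  have : (2 : F) * 2 * (ρ * b / a) * (x * x) ≠ 0 := by simp [h2, hρ0, hb, ha, hx0]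
  intro h0; exact this (by linear_combination h0)

/-- Coincident eigenvalues. -/
theorem full_deg (hF : Frame Φ a b) (h5 : 5 ≤ Fintype.card F) (h2 : (2 : F) ≠ 0) (hM : Over Φ M) {A : M2}
    (h : RefP Φ M 1 A) (hAs : ∀ c : F, A ≠ c • 1) (hδ : a + b * A.det ≠ 0)
    (hdisc : A.trace * A.trace - 4 * A.det = 0) : spGL 2 F ≤ M := by
  have ha := hF.1
  obtain ⟨r, hr⟩ : ∃ r : F, A.trace = 2 * r := ⟨A.trace / 2, by field_simp⟩
  have hr2 : A.det = r * r := by
    have h4 : (2 : F) * 2 ≠ 0 := mul_ne_zero h2 h2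
    refine mul_left_cancel₀ h4 ?_
    rw [hr] at hdisc; linear_combination -hdisc
  obtain ⟨D, hD⟩ : ∃ D : F, D = ((a + b * (r * r)) / a) * ((a + b * (r * r)) / a) := ⟨_, rfl⟩
  rw [hr2] at hδ
  have hD0 : D ≠ 0 := by
    rw [hD]; exact mul_ne_zero (div_ne_zero hδ ha) (div_ne_zero hδ ha)
  obtain ⟨A', hA', hA's, ht, hd⟩ := h.rot hF hM hAs (-r) (by rwa [neg_mul_neg])
    (D := D) (by rw [hD, hr, hr2]; field_simp; ring) hD0
  refine full_nil hF h5 h2 hM hA' (fun e => hA's 0 (by simp [e]))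
    ((mul_eq_zero.1 (ht.trans ?_)).resolve_right hD0) ((mul_eq_zero.1 (hd.trans ?_)).resolve_right hD0)
  · rw [hr, hr2]; field_simp; ring
  · rw [hr, hr2]; ring

/-- The plane is perpendicular to its image. -/
theorem full_semibal (hF : Frame Φ a b) (h5 : 5 ≤ Fintype.card F) (h2 : (2 : F) ≠ 0) (hM : Over Φ M) {A : M2}
    (h : RefP Φ M 1 A) (hAs : ∀ c : F, A ≠ c • 1) (ht : A.trace ≠ 0) (hE : b * A.det = a) : spGL 2 F ≤ M := by
  have ha := hF.1
  have hb := hF.2.1
  have h2a : a + a ≠ 0 := by rw [← two_mul]; exact mul_ne_zero h2 ha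
  obtain ⟨j, hj, hja⟩ := h.acts hF (by rw [hE]; exact h2a)
  rw [hE, sub_self, zero_div, zero_smul] at hja
  obtain ⟨X, g, hg, hX, hga, -⟩ := exists_swap hF hM
  have hXn : X.det ≠ 0 := by rw [hX]; exact div_ne_zero ha hb
  have := hga.mul hja
  simp only [zero_mul, mul_zero, zero_add, add_zero] at this
  refine full_of_block hF h5 hM (mul_mem hg hj) this fun c hc => ?_
  have hc1 := congrArg (fun T : M2 => X.adjugate * T) hc
  simp only [mul_smul_comm, smul_mul_assoc, ← mul_assoc, adj_mul, one_mul, smul_smul] at hc1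
  obtain ⟨e, he⟩ : ∃ e : F, A.adjugate = e • A := by
    refine ⟨(-(2 * b / (a + a)) * X.det)⁻¹ * (c * (b / a) * -(2 * a / (a + a)) * X.det), ?_⟩
    rw [← smul_smul]
    refine (inv_smul_smul₀ (mul_ne_zero (neg_ne_zero.2 (div_ne_zero (mul_ne_zero h2 hb) h2a)) hXn) _).symm.trans ?_
    congr 1
    convert hc1 using 2 <;> ring
  have he1 : e = 1 := by
    have := congrArg Matrix.trace he
    rw [adj_eq, Matrix.trace_sub, Matrix.trace_smul, Matrix.trace_one, Matrix.trace_smul, Fintype.card_fin] at this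
    push_cast at this
    simp only [smul_eq_mul] at this
    exact mul_right_cancel₀ ht (by linear_combination -this)
  rw [he1, one_smul, adj_eq] at he
  refine hAs (A.trace / 2) (smul_right_injective M2 h2 ?_)
  show (2 : F) • A = (2 : F) • ((A.trace / 2) • 1)
  rw [smul_smul, mul_div_cancel₀ _ h2, two_smul, ← sub_eq_iff_eq_add.1 he]

theorem not_scalar_step {A C : M2} (hAs : ∀ c : F, A ≠ c • 1) (hcomm : C * A ≠ A * C) {E : F} (hE : E ≠ 0)
    (hEd : E = b * A.det - a) (ha : a ≠ 0) (h2 : (2 : F) ≠ 0) (hδ : a + b * A.det ≠ 0) (c : F) :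
    E • C - (2 * a) • A ≠ c • (E • 1 + (2 * b) • (A.adjugate * C)) := fun h => by
  obtain ⟨T, hT⟩ : ∃ T : M2, T = E • 1 - (2 * b * c) • A.adjugate := ⟨_, rfl⟩
  obtain ⟨R, hR⟩ : ∃ R : M2, R = (c * E) • 1 + (2 * a) • A := ⟨_, rfl⟩
  have h1 : T * C = R := by
    rw [hT, hR, sub_mul, smul_mul_assoc, one_mul, smul_mul_assoc]
    linear_combination (norm := module) h
  have h1' := congrArg (fun S : M2 => T.adjugate * S) h1
  simp only [← mul_assoc, adj_mul, smul_mul_assoc, one_mul] at h1'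
  have hT' : T.adjugate = E • 1 - (2 * b * c) • A := by
    rw [hT]; ext i j
    fin_cases i <;> fin_cases j <;> simp [Matrix.adjugate_fin_two]
  have hAR : A * (T.adjugate * R) = T.adjugate * R * A := by
    rw [hT', hR]
    simp only [mul_add, add_mul, mul_sub, sub_mul, smul_mul_assoc, mul_smul_comm, one_mul, mul_one, mul_assoc]
  by_cases hd : T.det = 0
  · rw [hd, zero_smul, hT', hR] at h1'
    have h3 : (2 * a * E - 2 * b * (c * c) * E - 4 * a * b * c * A.trace) • A =
        (-(c * (E * E + 4 * a * b * A.det))) • (1 : M2) := by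
      simp only [mul_add, sub_mul, smul_mul_assoc, mul_smul_comm, one_mul, mul_one, trace_sq A] at h1'
      linear_combination (norm := module) (-1 : F) • h1'
    obtain ⟨h4, h5⟩ := coeff_zero hAs h3
    have hc : c = 0 := (mul_eq_zero.1 (neg_eq_zero.1 h5)).resolve_right fun h6 =>
      hδ (mul_self_eq_zero.1 (by rw [hEd] at h6; linear_combination h6))
    rw [hc] at h4
    exact mul_ne_zero (mul_ne_zero h2 ha) hE (by linear_combination h4)
  · refine hcomm (smul_right_injective M2 hd ?_)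
    show T.det • (C * A) = T.det • (A * C)
    rw [← smul_mul_assoc, ← mul_smul_comm, h1', hAR]

/-- Not special. -/
theorem full_generic (hF : Frame Φ a b) (h5 : 5 ≤ Fintype.card F) (h2 : (2 : F) ≠ 0) (hM : Over Φ M) {A : M2}
    (h : RefP Φ M 1 A) (hAs : ∀ c : F, A ≠ c • 1) (hδ : a + b * A.det ≠ 0) (ht : A.trace ≠ 0)
    (hsp : 4 * a * b * (A.trace * A.trace) ≠ (a + b * A.det) * (a + b * A.det) ∨ b * A.det = a) :
    spGL 2 F ≤ M := by
  have ha := hF.1
  have hb := hF.2.1
  by_cases hdisc : A.trace * A.trace - 4 * A.det = 0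
  · exact full_deg hF h5 h2 hM h hAs hδ hdisc
  by_cases hE0 : b * A.det = a
  · exact full_semibal hF h5 h2 hM h hAs ht hE0
  have hsp' := hsp.resolve_right hE0
  obtain ⟨E, hE⟩ : ∃ E : F, E = b * A.det - a := ⟨_, rfl⟩
  have hEn : E ≠ 0 := by rw [hE]; exact sub_ne_zero.2 hE0
  have h4ab : 4 * a * b ≠ 0 := by
    rw [show (4 : F) = 2 * 2 by norm_num]
    exact mul_ne_zero (mul_ne_zero (mul_ne_zero h2 h2) ha) hb
  obtain ⟨τ, hτ⟩ : ∃ τ : F, 4 * a * b * τ = E * E - 4 * a * b * A.det :=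
    ⟨(E * E - 4 * a * b * A.det) / (4 * a * b), mul_div_cancel₀ _ h4ab⟩
  obtain ⟨X, C, hX, hC, hCτ, hns⟩ : ∃ X C : M2, X.det = 1 ∧ C = X * A * X.adjugate ∧
      (A.adjugate * C).trace = τ ∧ ((C = A ∧ τ = 2 * A.det) ∨ C * A ≠ A * C) := by
    by_cases hσ : τ = 2 * A.det
    · exact ⟨1, A, Matrix.det_one, by simp, by
        rw [adj_mul, Matrix.trace_smul, Matrix.trace_one, hσ, Fintype.card_fin, smul_eq_mul]; push_cast; ring,
        Or.inl ⟨rfl, hσ⟩⟩
    · obtain ⟨X, C, h1, h2', h3, h4⟩ := exists_conj h2 A hdisc (σ := 2 * A.det - τ)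
        (sub_ne_zero.2 (Ne.symm hσ)) (fun e => hsp' (by
          rw [hE] at hτ; linear_combination (4 * a * b) * e + hτ))
      exact ⟨X, C, h1, h2', by rw [h3]; ring, Or.inr h4⟩
  obtain ⟨L, hL⟩ : ∃ L : F, L = E * E + 2 * b * E * τ + 4 * (b * b) * (A.det * A.det) := ⟨_, rfl⟩
  obtain ⟨K, hK⟩ : ∃ K : F, K = E * E * A.det - 2 * a * E * τ + 4 * (a * a) * A.det := ⟨_, rfl⟩
  have hLval : 2 * a * L = (a + b * A.det) * (a + b * A.det) * (a + b * A.det) := by
    rw [hL]; rw [hE] at hτ ⊢; linear_combination (b * A.det - a) * hτ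
  have hbK : b * K = a * L := by
    rw [hL, hK]; rw [hE] at hτ ⊢; linear_combination (-(b * A.det - a)) * hτ
  have hL0 : L ≠ 0 := fun e => mul_ne_zero (mul_ne_zero hδ hδ) hδ (by rw [← hLval, e, mul_zero])
  obtain ⟨A', hA', htr, hdet, hsc⟩ := h.step hF hM hδ hX hC hE hCτ.symm hL hK hL0
  refine full_semibal hF h5 h2 hM hA' (fun c hc => ?_) (fun e => ?_) ?_
  · rcases hns with ⟨hCA, hτ'⟩ | hns
    · have h3 := hsc c hc
      rw [hCA, adj_mul] at h3
      have h4 : (E - 2 * a) • A = (c * (E + 2 * b * A.det)) • (1 : M2) := by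
        linear_combination (norm := module) h3
      have h5' := (coeff_zero hAs h4).1
      have hK0 : K = 0 := by rw [hK, hτ']; linear_combination (E - 2 * a) * A.det * h5'
      exact hL0 ((mul_eq_zero.1 (by rw [← hbK, hK0, mul_zero])).resolve_left ha)
    · exact not_scalar_step hAs hns hEn hE ha h2 hδ c (hsc c hc)
  · rw [e, zero_mul] at htr
    refine (mul_ne_zero (mul_ne_zero h2 (mul_ne_zero hδ hδ)) ht) ?_
    rw [hE] at htr hτ
    linear_combination -htr + A.trace * hτ
  · exact mul_right_cancel₀ hL0 (by linear_combination b * hdet + hbK)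

theorem exists_multiplier (h5 : 5 ≤ Fintype.card F) (h2 : (2 : F) ≠ 0) :
    ∃ m : F, m ≠ 0 ∧ m ≠ 1 ∧ m ≠ 2 ∧ m ≠ 3 ∧ m ≠ -2 := by
  classical
  by_cases h3 : (3 : F) = 0
  · obtain ⟨m, -, hm⟩ := Finset.exists_mem_notMem_of_card_lt_card (s := ({0, 1, 2} : Finset F))
      (t := Finset.univ) (lt_of_le_of_lt Finset.card_le_three (by rw [Finset.card_univ]; omega))
    simp only [Finset.mem_insert, Finset.mem_singleton, not_or] at hm
    exact ⟨m, hm.1, hm.2.1, hm.2.2, h3 ▸ hm.1, fun e => hm.2.1 (by linear_combination e - h3)⟩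
  · exact ⟨-1, neg_ne_zero.2 one_ne_zero, fun e => h2 (by linear_combination -e),
      fun e => h3 (by linear_combination -e), fun e => mul_ne_zero h2 h2 (by linear_combination -e),
      fun e => one_ne_zero (by linear_combination e)⟩

/-- Positive trace. -/
theorem full_trace (hF : Frame Φ a b) (h5 : 5 ≤ Fintype.card F) (h2 : (2 : F) ≠ 0) (hM : Over Φ M) {A : M2}
    (h : RefP Φ M 1 A) (hAs : ∀ c : F, A ≠ c • 1) (hδ : a + b * A.det ≠ 0) (ht : A.trace ≠ 0) :
    spGL 2 F ≤ M := by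
  have ha := hF.1
  have hb := hF.2.1
  by_cases hsp : 4 * a * b * (A.trace * A.trace) ≠ (a + b * A.det) * (a + b * A.det) ∨ b * A.det = a
  · exact full_generic hF h5 h2 hM h hAs hδ ht hsp
  simp only [not_or, not_not] at hsp
  obtain ⟨hsp, hE0⟩ := hsp
  by_cases hdisc : A.trace * A.trace - 4 * A.det = 0
  · exact full_deg hF h5 h2 hM h hAs hδ hdisc
  obtain ⟨E, hE⟩ : ∃ E : F, E = b * A.det - a := ⟨_, rfl⟩
  have hEn : E ≠ 0 := by rw [hE]; exact sub_ne_zero.2 hE0
  obtain ⟨δ, hδd⟩ : ∃ δ : F, δ = a + b * A.det := ⟨_, rfl⟩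
  rw [← hδd] at hδ hsp
  by_cases hx : E * E = a * b * (A.trace * A.trace)
  · -- the exceptional point
    have hdet : 4 * A.det = 3 * (A.trace * A.trace) := by
      refine mul_left_cancel₀ (mul_ne_zero ha hb) ?_
      rw [hE] at hx; rw [hδd] at hsp
      linear_combination -hx - hsp
    obtain ⟨m, hm0, hm1, hm2, hm3, hm4⟩ := exists_multiplier h5 h2
    obtain ⟨t, htd⟩ : ∃ t : F, t = A.trace := ⟨_, rfl⟩
    rw [← htd] at hx hsp hdet ht hdisc
    have htt : t * t ≠ 0 := mul_ne_zero ht ht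
    obtain ⟨X, C, hX, hC, hCτ, hns⟩ := exists_conj h2 A (by rw [← htd]; exact hdisc) (σ := (2 - m) * (t * t))
      (mul_ne_zero (sub_ne_zero.2 (Ne.symm hm2)) htt) (by
        rw [← htd, hdet, show (2 - m) * (t * t) + (t * t - 3 * (t * t)) = -m * (t * t) by ring]
        exact mul_ne_zero (neg_ne_zero.2 hm0) htt)
    obtain ⟨τ, hτ⟩ : ∃ τ : F, τ = 2 * A.det - (2 - m) * (t * t) := ⟨_, rfl⟩
    rw [← hτ] at hCτ
    obtain ⟨L, hL⟩ : ∃ L : F, L = E * E + 2 * b * E * τ + 4 * (b * b) * (A.det * A.det) := ⟨_, rfl⟩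
    obtain ⟨K, hK⟩ : ∃ K : F, K = E * E * A.det - 2 * a * E * τ + 4 * (a * a) * A.det := ⟨_, rfl⟩
    have hτ2 : 4 * a * b * τ = E * E - 4 * a * b * A.det + m * (δ * δ) := by
      rw [hτ]; linear_combination -hx + m * hsp + 3 * (a * b) * hdet
    have hLval : 2 * a * L = δ * δ * (δ + m * E) := by
      rw [hL, hδd]; rw [hE, hδd] at hτ2; rw [hE]; linear_combination (b * A.det - a) * hτ2
    have hKval : 2 * b * K = δ * δ * (δ - m * E) := by
      rw [hK, hδd]; rw [hE, hδd] at hτ2; rw [hE]; linear_combination (-(b * A.det - a)) * hτ2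
    have hδE : δ * δ = 4 * (E * E) := by linear_combination -hsp - 4 * hx
    have hne : δ + m * E ≠ 0 := fun e => by
      have h4 : (2 * 2 - m * m) * (E * E) = 0 := by linear_combination (δ - m * E) * e - hδE
      rcases mul_eq_zero.1 h4 with h4 | h4
      · rcases mul_self_eq_mul_self_iff.1 (sub_eq_zero.1 h4) with h | h
        · exact hm2 h.symm
        · exact hm4 (by rw [h, neg_neg])
      · exact mul_ne_zero hEn hEn h4
    have hL0 : L ≠ 0 := fun e => mul_ne_zero (mul_ne_zero hδ hδ) hne (by rw [← hLval, e, mul_zero])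
    obtain ⟨A', hA', htr, hdet', hsc⟩ := h.step hF hM (hδd ▸ hδ) hX hC hE hCτ.symm hL hK hL0
    rw [← htd] at htr
    have htr' : A'.trace * L = t * (δ * δ * (2 - m)) := by
      rw [htr, hδd]; rw [hδd] at hτ2; rw [hE] at hτ2 ⊢; linear_combination (-t) * hτ2
    have hδ' : (a + b * A'.det) * L = δ * δ * δ := by
      refine mul_left_cancel₀ h2 ?_
      linear_combination hLval + hKval + (2 * b) * hdet'
    have hδ'0 : a + b * A'.det ≠ 0 := fun e => mul_ne_zero (mul_ne_zero hδ hδ) hδ (by rw [← hδ', e, zero_mul])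
    refine full_generic hF h5 h2 hM hA' (fun c hc => not_scalar_step hAs hns hEn hE ha h2 (hδd ▸ hδ) c (hsc c hc))
      hδ'0 (fun e => ?_) (Or.inl fun e => ?_)
    · rw [e, zero_mul] at htr'
      exact mul_ne_zero ht (mul_ne_zero (mul_ne_zero hδ hδ) (sub_ne_zero.2 (Ne.symm hm2))) htr'.symm
    · have h6 : ((2 - m) * (2 - m) - 1) * (δ * δ * δ * (δ * δ * δ)) = 0 := by
        have e' := congrArg (fun z => z * (L * L)) e
        linear_combination e' + (-4 * a * b * (A'.trace * L + t * (δ * δ * (2 - m)))) * htr' +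
          ((a + b * A'.det) * L + δ * δ * δ) * hδ' - (δ * δ * (δ * δ)) * ((2 - m) * (2 - m)) * hsp
      rcases mul_eq_zero.1 h6 with h6 | h6
      · rcases mul_self_eq_one_iff.1 (sub_eq_zero.1 h6) with h | h
        · exact hm1 (by linear_combination -h)
        · exact hm3 (by linear_combination -h)
      · simp [hδ] at h6
  · obtain ⟨ρ, hρ⟩ : ∃ ρ : F, ρ = δ / (2 * b * A.trace) := ⟨_, rfl⟩
    have hρ0 : ρ ≠ 0 := by rw [hρ]; exact div_ne_zero hδ (mul_ne_zero (mul_ne_zero h2 hb) ht)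
    have hρt : 2 * b * A.trace * ρ = δ := by rw [hρ, mul_div_cancel₀ _ (mul_ne_zero (mul_ne_zero h2 hb) ht)]
    have hρρ : b * (ρ * ρ) = a := by
      refine mul_left_cancel₀ (mul_ne_zero (mul_ne_zero (mul_ne_zero h2 h2) hb) (mul_ne_zero ht ht)) ?_
      linear_combination (2 * b * A.trace * ρ + δ) * hρt - hsp
    obtain ⟨D, hD⟩ : ∃ D : F, D = δ / (2 * a) := ⟨_, rfl⟩
    have hD0 : D ≠ 0 := by rw [hD]; exact div_ne_zero hδ (mul_ne_zero h2 ha)
    have hDa : 2 * a * D = δ := by rw [hD, mul_div_cancel₀ _ (mul_ne_zero h2 ha)]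
    obtain ⟨A', hA', hA's, htr, hdet⟩ := h.rot hF hM hAs ρ
      (by rw [hρρ, ← two_mul]; exact mul_ne_zero h2 ha) (D := D) (by
        refine mul_left_cancel₀ (mul_ne_zero h2 ha) ?_
        rw [hDa]; field_simp
        linear_combination a * hρt - 2 * b * A.det * hρρ + a * (2 : F) * hδd) hD0
    have htr' : A'.trace * D * a = -2 * ρ * E := by
      rw [htr, hE]; field_simp; linear_combination -A.trace * hρρ
    have hdet' : b * A'.det * D = δ + a * D := by
      have h6 : (2 : F) * (b * A'.det * D) = 2 * (δ + a * D) := by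
        linear_combination (2 * b) * hdet + hρt + 2 * hρρ - hDa - 2 * hδd
      exact mul_left_cancel₀ h2 h6
    have hδ' : a + b * A'.det = 4 * a := mul_right_cancel₀ hD0 (by linear_combination hdet' - hDa)
    have h4a : (4 : F) * a ≠ 0 := by
      rw [show (4 : F) = 2 * 2 by norm_num]; exact mul_ne_zero (mul_ne_zero h2 h2) ha
    refine full_generic hF h5 h2 hM hA' hA's (hδ' ▸ h4a) (fun e => ?_) (Or.inl fun e => hx ?_)
    · rw [e, zero_mul, zero_mul] at htr'
      exact mul_ne_zero (mul_ne_zero (neg_ne_zero.2 h2) hρ0) hEn htr'.symm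
    · rw [hδ'] at e
      refine mul_left_cancel₀ (mul_ne_zero (mul_ne_zero h4a h4a) ha) ?_
      have e' := congrArg (fun z => z * (D * a) * (D * a)) e
      linear_combination a * e' + (-4 * (a * a) * b * (A'.trace * D * a - 2 * ρ * E)) * htr' +
        (-16 * (a * a) * (E * E)) * hρρ + (4 * (a * a * a) * (2 * a * D + δ)) * hDa - (4 * (a * a * a)) * hsp

theorem exists_slope_two (hF : Frame Φ a b) (h5 : 5 ≤ Fintype.card F) {d : F} (hd : a + b * d ≠ 0) :
    ∃ ρ : F, ρ ≠ 0 ∧ a + b * (ρ * ρ) ≠ 0 ∧ a * a + b * b * d * (ρ * ρ) ≠ 0 := by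
  classical
  have ha := hF.1
  have hb := hF.2.1
  by_contra hc
  push Not at hc
  have hroot : ∀ c e : F, c ≠ 0 → ∃ r : F, ∀ x : F, c * (x * x) = e → x = r ∨ x = -r := fun c e hc0 => by
    by_cases h : ∃ r, c * (r * r) = e
    · obtain ⟨r, hr⟩ := h
      exact ⟨r, fun x hx => mul_self_eq_mul_self_iff.1 (mul_left_cancel₀ hc0 (hx.trans hr.symm))⟩
    · exact ⟨0, fun x hx => absurd ⟨x, hx⟩ h⟩
  have hsol : ∀ x : F, x ≠ 0 → b * (x * x) = -a ∨ b * b * d * (x * x) = -(a * a) := fun x hx => by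
    by_cases h : a + b * (x * x) = 0
    · exact Or.inl (by linear_combination h)
    · exact Or.inr (by linear_combination hc x hx h)
  by_cases hd0 : d = 0
  · obtain ⟨s, hs0, hs⟩ := exists_slope hF h5
    exact mul_ne_zero ha ha (by simpa [hd0] using hc s hs0 hs)
  obtain ⟨r₁, hr₁⟩ := hroot b (-a) hb
  obtain ⟨r₂, hr₂⟩ := hroot (b * b * d) (-(a * a)) (mul_ne_zero (mul_ne_zero hb hb) hd0)
  have hsub : (Finset.univ : Finset F) ⊆ {0, r₁, -r₁, r₂, -r₂} := fun x _ => by
    by_cases hx : x = 0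
    · simp [hx]
    · rcases hsol x hx with h | h
      · rcases hr₁ x h with rfl | rfl <;> simp
      · rcases hr₂ x h with rfl | rfl <;> simp
  have hcard : Fintype.card F = 5 := by
    have h := (Finset.card_le_card hsub).trans Finset.card_le_five
    rw [Finset.card_univ] at h
    omega
  have hz : ((5 : ℕ) : F) = 0 := by rw [← hcard]; exact FiniteField.cast_card_eq_zero F
  push_cast at hz
  have h2 : (2 : F) ≠ 0 := fun h => one_ne_zero (α := F) (by linear_combination hz - 2 * h)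
  have hdiff : ∀ u v : F, b * u = -a → b * b * d * v = -(a * a) → u + v ≠ 0 := fun u v h1 h2' h3 => hd (by
    refine mul_left_cancel₀ ha ?_
    rw [mul_zero]
    linear_combination h2' - (b * d) * (b * h3 - h1))
  have hone : ∀ x y : F, x * x + y * y = 0 → x * x ≠ 0 → b * (x * x) = -a → b * (y * y) = -a → False :=
    fun x y h3 h0 h1 h4 => h0 ((mul_eq_zero.1 (by
      linear_combination h1 - h4 + b * h3 : (2 * b) * (x * x) = 0)).resolve_left (mul_ne_zero h2 hb))
  have htwo : ∀ x y : F, x * x + y * y = 0 → x * x ≠ 0 → b * b * d * (x * x) = -(a * a) →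
      b * b * d * (y * y) = -(a * a) → False :=
    fun x y h3 h0 h1 h4 => h0 ((mul_eq_zero.1 (by
      linear_combination h1 - h4 + (b * b * d) * h3 : (2 * (b * b * d)) * (x * x) = 0)).resolve_left
        (mul_ne_zero h2 (mul_ne_zero (mul_ne_zero hb hb) hd0)))
  have h3 : (1 : F) * 1 + 2 * 2 = 0 := by linear_combination hz
  rcases hsol 1 one_ne_zero with h | h <;> rcases hsol 2 h2 with h' | h'
  · exact hone 1 2 h3 (by simp) h h'
  · exact hdiff _ _ h h' h3
  · exact hdiff _ _ h' h (by linear_combination h3)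
  · exact htwo 1 2 h3 (by simp) h h'

/-- Not balanced. -/
theorem full_ref (hF : Frame Φ a b) (h5 : 5 ≤ Fintype.card F) (h2 : (2 : F) ≠ 0) (hM : Over Φ M) {A : M2}
    (h : RefP Φ M 1 A) (hAs : ∀ c : F, A ≠ c • 1) (hδ : a + b * A.det ≠ 0)
    (hbal : ¬ (A.trace = 0 ∧ b * A.det = a)) : spGL 2 F ≤ M := by
  have ha := hF.1
  by_cases ht : A.trace ≠ 0
  · exact full_trace hF h5 h2 hM h hAs hδ ht
  rw [not_not] at ht
  have hE : b * A.det ≠ a := fun e => hbal ⟨ht, e⟩
  obtain ⟨ρ, hρ0, hρ, hρ2⟩ := exists_slope_two hF h5 hδ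
  obtain ⟨D, hD⟩ : ∃ D : F, D = (a * a + b * b * A.det * (ρ * ρ)) / (a * a) := ⟨_, rfl⟩
  have hD0 : D ≠ 0 := by rw [hD]; exact div_ne_zero hρ2 (mul_ne_zero ha ha)
  obtain ⟨A', hA', hA's, htr, hdet⟩ := h.rot hF hM hAs ρ hρ (D := D)
    (by rw [hD, ht]; field_simp; ring) hD0
  rw [ht] at htr hdet
  have htr' : A'.trace * D * a = 2 * ρ * (a - b * A.det) := by rw [htr]; field_simp; ring
  have hδ' : (a + b * A'.det) * (D * a) = (a + b * (ρ * ρ)) * (a + b * A.det) := by
    have : D * (a * a) = a * a + b * b * A.det * (ρ * ρ) := by rw [hD, div_mul_cancel₀ _ (mul_ne_zero ha ha)]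
    linear_combination (b * a) * hdet + this
  refine full_trace hF h5 h2 hM hA' hA's (fun e => ?_) (fun e => ?_)
  · rw [e, zero_mul] at hδ'; exact mul_ne_zero hρ hδ hδ'.symm
  · rw [e, zero_mul, zero_mul] at htr'
    exact mul_ne_zero (mul_ne_zero h2 hρ0) (sub_ne_zero.2 (Ne.symm hE)) htr'.symm

/-- The plane of the first column is not balanced. -/
theorem full_unbal (hF : Frame Φ a b) (h5 : 5 ≤ Fintype.card F) (h2 : (2 : F) ≠ 0) (hM : Over Φ M) {g : G}
    (hg : g ∈ M) {P Q R S : M2} (hga : Acts Φ g P Q R S) (hgP : ¬ IsP Φ g)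
    (hbal : ¬ ((R * P.adjugate).trace = 0 ∧ b * R.det = a * P.det)) : spGL 2 F ≤ M := by
  have ha := hF.1
  have hb := hF.2.1
  suffices key : ∀ (g : G) (P Q R S : M2), g ∈ M → Acts Φ g P Q R S → ¬ IsP Φ g → P.det ≠ 0 →
      ¬ ((R * P.adjugate).trace = 0 ∧ b * R.det = a * P.det) → spGL 2 F ≤ M by
    by_cases hP : P.det = 0
    · obtain ⟨P₀, Q₀, R₀, S₀, hb', h1, -, -⟩ := exists_blocks hF (hM.1 hg)
      obtain ⟨rfl, rfl, rfl, rfl⟩ := hga.blocks hb'
      obtain ⟨X, h, hh, hX, hha, h', hh', hinv, -⟩ := exists_swap hF hM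
      have hR : R.det ≠ 0 := fun e => ha (by rw [← h1, hP, e]; ring)
      refine key (h * g) _ _ _ _ (mul_mem hh hg) (hha.mul hga) (notP_mul_left hh' hinv hgP) ?_ fun e => ?_
      · rw [zero_mul, zero_add, Matrix.det_mul, det_smul_two, hX]
        exact mul_ne_zero (mul_ne_zero (mul_ne_zero (div_ne_zero hb ha) (div_ne_zero hb ha)) (div_ne_zero ha hb)) hR
      · have := e.2
        simp only [zero_mul, zero_add, add_zero, Matrix.det_mul, det_smul_two, hP, hX, mul_zero] at this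
        field_simp at this
        exact hR (mul_left_cancel₀ hb (by rw [mul_zero]; linear_combination -this))
    · exact key g P Q R S hg hga hgP hP hbal
  clear hbal hgP hga hg g P Q R S
  intro g P Q R S hg hga hgP hP hbal
  obtain ⟨P₀, Q₀, R₀, S₀, hb', h1, h2', h3⟩ := exists_blocks hF (hM.1 hg)
  obtain ⟨rfl, rfl, rfl, rfl⟩ := hga.blocks hb'
  obtain ⟨A, hA⟩ : ∃ A : M2, A = P.det⁻¹ • (R * P.adjugate) := ⟨_, rfl⟩
  have hR : R = A * P := by
    rw [hA, smul_mul_assoc, mul_assoc, adj_mul, mul_smul_comm, mul_one, smul_smul, inv_mul_cancel₀ hP, one_smul]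
  by_cases hAs : ∀ c : F, A ≠ c • 1
  · have hδ' : (a + b * A.det) * P.det = a := by
      rw [hR, Matrix.det_mul] at h1; linear_combination h1
    refine full_ref hF h5 h2 hM (by rw [hA]; exact (RefP.of_acts hF hM hg hga).reparam hP) hAs
      (fun e => ha (by rw [← hδ', e, zero_mul])) fun e => hbal ⟨?_, ?_⟩
    · have := e.1
      rw [hA, Matrix.trace_smul, smul_eq_mul] at this
      exact (mul_eq_zero.1 this).resolve_left (inv_ne_zero hP)
    · rw [hR, Matrix.det_mul]; linear_combination P.det * e.2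
  push Not at hAs
  obtain ⟨s, hs⟩ := hAs
  rw [hs, smul_mul_assoc, one_mul] at hR
  subst hR
  simp only [det_smul_two] at h1
  have hμ : a + b * (s * s) ≠ 0 := fun e => ha (by rw [← h1]; linear_combination P.det * e)
  have hQ : Q = (-(s * b / a)) • S := by
    have h4 := congrArg (fun T : M2 => P * T) h3
    simp only [Matrix.adjugate_smul, Fintype.card_fin, Nat.add_one_sub_one, pow_one, mul_add, mul_smul_comm,
      smul_mul_assoc, ← mul_assoc, mul_adj, one_mul, mul_zero, smul_smul] at h4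
    have h5' : (a * P.det) • (Q + (s * b / a) • S) = 0 := by
      rw [smul_add, smul_smul, ← h4]
      congr 2
      field_simp
    rw [neg_smul]
    exact eq_neg_of_add_eq_zero_left ((smul_eq_zero.1 h5').resolve_left (mul_ne_zero ha hP))
  subst hQ
  obtain ⟨T, hT, hTa, T', hT'P, hT'1, -⟩ := exists_rot hF hM s hμ P (by linear_combination h1)
  have hSd : S.det = P.det := by
    simp only [det_smul_two] at h2'
    field_simp at h2'
    refine mul_right_cancel₀ hμ ?_
    have h6 : S.det * (a + b * (s * s)) = a := by linear_combination h2'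
    linear_combination h6 - h1
  obtain ⟨Z, hZ⟩ : ∃ Z : M2, Z = P.det⁻¹ • (P.adjugate * S) := ⟨_, rfl⟩
  have hPZ : P * Z = S := by
    rw [hZ, mul_smul_comm, ← mul_assoc, mul_adj, smul_mul_assoc, one_mul, smul_smul, inv_mul_cancel₀ hP, one_smul]
  obtain ⟨k, -, hka⟩ := exists_acts hF (P := 1) (Q := 0) (R := 0) (S := Z) ⟨by simp, by
    have := congrArg Matrix.det hPZ
    rw [Matrix.det_mul, hSd] at this
    rw [mul_left_cancel₀ hP (this.trans (mul_one _).symm)]; simp, by simp⟩
  have hk : T * k = g := Acts.unique (Φ := Φ) (hTa.mul hka) (by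
    simpa [smul_mul_assoc, hPZ] using hga)
  refine full_of_block hF h5 hM (X := 1) (Y := Z) (k := k) ?_ hka fun c hc => hgP ⟨P, 1, c * -(s * b / a), s, c, ?_⟩
  · rw [eq_inv_mul_of_mul_eq hk]; exact mul_mem (inv_mem hT) hg
  · rw [← hPZ, hc, mul_smul_comm, mul_one, smul_smul] at hga
    simpa [mul_comm c, mul_left_comm] using hga

/-- An element outside gives everything. -/
theorem full (hF : Frame Φ a b) (h5 : 5 ≤ Fintype.card F) (h2 : (2 : F) ≠ 0) (hM : Over Φ M) {g : G}
    (hg : g ∈ M) (hgP : ¬ IsP Φ g) : spGL 2 F ≤ M := by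
  have ha := hF.1
  have hb := hF.2.1
  obtain ⟨P, Q, R, S, hga, h1, h2', h3⟩ := exists_blocks hF (hM.1 hg)
  by_cases hbal : (R * P.adjugate).trace = 0 ∧ b * R.det = a * P.det
  swap
  · exact full_unbal hF h5 h2 hM hg hga hgP hbal
  obtain ⟨ht, hE⟩ := hbal
  have hP : P.det = 2⁻¹ := by
    refine eq_inv_of_mul_eq_one_left (mul_left_cancel₀ ha ?_)
    linear_combination h1 - hE
  have hP0 : P.det ≠ 0 := hP ▸ inv_ne_zero h2
  obtain ⟨A, hA⟩ : ∃ A : M2, A = P.det⁻¹ • (R * P.adjugate) := ⟨_, rfl⟩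
  have hR : R = A * P := by
    rw [hA, smul_mul_assoc, mul_assoc, adj_mul, mul_smul_comm, mul_one, smul_smul, inv_mul_cancel₀ hP0, one_smul]
  subst hR
  have htA : A.trace = 0 := by rw [hA, Matrix.trace_smul, ht, smul_zero]
  rw [Matrix.det_mul] at hE
  have hEA : b * A.det = a := mul_right_cancel₀ hP0 (by linear_combination hE)
  have hΔ : A.det ≠ 0 := fun e => ha (by rw [← hEA, e, mul_zero])
  have hadjA : A.adjugate = -A := by rw [adj_eq, htA, zero_smul, zero_sub]
  have hQ : Q = (b / a) • (A * S) := by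
    have h4 := congrArg (fun T : M2 => P * T) h3
    simp only [Matrix.adjugate_mul_distrib, mul_add, mul_smul_comm, ← mul_assoc, mul_adj, one_mul, mul_zero,
      smul_mul_assoc, smul_smul, hadjA, neg_mul, mul_neg] at h4
    have h5' : (a * P.det) • (Q - (b / a) • (A * S)) = 0 := by
      rw [smul_sub, smul_smul, ← h4, show a * P.det * (b / a) = b * P.det by field_simp]
      module
    exact sub_eq_zero.1 ((smul_eq_zero.1 h5').resolve_left (mul_ne_zero ha hP0))
  subst hQ
  have hS : S.det = 2⁻¹ := by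
    refine eq_inv_of_mul_eq_one_left (mul_left_cancel₀ hb ?_)
    rw [det_smul_two, Matrix.det_mul] at h2'
    field_simp at h2'
    linear_combination (norm := (field_simp; ring1)) (b / a) * h2' - (b * S.det / a) * hEA
  obtain ⟨Z, hZ⟩ : ∃ Z : M2, Z = P.det⁻¹ • (S * P.adjugate) := ⟨_, rfl⟩
  have hSZ : S = Z * P := by
    rw [hZ, smul_mul_assoc, mul_assoc, adj_mul, mul_smul_comm, mul_one, smul_smul, inv_mul_cancel₀ hP0, one_smul]
  have hZd : Z.det = 1 := mul_right_cancel₀ hP0 (by rw [← Matrix.det_mul, ← hSZ, hS, hP, one_mul])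
  subst hSZ
  obtain ⟨s, hs0, hs⟩ := exists_slope hF h5
  obtain ⟨X, hX⟩ := exists_det (a / (a + b * (s * s)))
  obtain ⟨T, hT, hTa, T', hT'P, -, hT'1⟩ := exists_rot hF hM s hs X (by rw [hX, div_mul_cancel₀ _ hs])
  have hXn : X.det ≠ 0 := by rw [hX]; exact div_ne_zero ha hs
  by_cases hw : Z.trace = 0 ∧ (A * Z).trace = 0
  swap
  · refine full_unbal hF h5 h2 hM (mul_mem hg hT) (hga.mul hTa) (notP_mul_right hT'P hT'1 hgP) fun e => hw ?_
    have hL : P * X + (b / a) • (A * (Z * P)) * s • X = (1 + (s * (b / a)) • (A * Z)) * (P * X) := by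
      simp only [add_mul, one_mul, smul_mul_assoc, mul_smul_comm, smul_smul, mul_assoc]
    have hK : A * P * X + Z * P * s • X = (A + s • Z) * (P * X) := by
      simp only [add_mul, smul_mul_assoc, mul_smul_comm, mul_assoc]
    rw [hL, hK, Matrix.det_mul, Matrix.det_mul, Matrix.adjugate_mul_distrib, ← mul_assoc, mul_assoc (A + s • Z),
      mul_adj, mul_smul_comm, mul_one, smul_mul_assoc, Matrix.trace_smul, smul_eq_mul, mul_eq_zero] at e
    have hPX : (P * X).det ≠ 0 := by rw [Matrix.det_mul]; exact mul_ne_zero hP0 hXn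
    have e1 := e.1.resolve_left hPX
    have e2 : b * (A + s • Z).det = a * (1 + (s * (b / a)) • (A * Z)).det :=
      mul_right_cancel₀ hPX (by have h9 := e.2; simp only [Matrix.det_mul] at h9 ⊢; linear_combination h9)
    simp only [Matrix.trace_fin_two, Matrix.det_fin_two] at htA hEA hZd
    have hA11 : A 1 1 = -A 0 0 := by linear_combination htA
    simp [Matrix.trace_fin_two, Matrix.det_fin_two, Matrix.mul_apply, Fin.sum_univ_two, adj00, adj01, adj10, adj11,
      hA11] at e1 e2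
    rw [hA11] at hEA
    constructor
    · refine (mul_eq_zero.1 ?_).resolve_left (mul_ne_zero h2 hs0)
      rw [Matrix.trace_fin_two]
      field_simp at e1
      have e1' : (2 * s * (Z 0 0 + Z 1 1)) * a = 0 := by
        linear_combination e1 - (s * (Z 0 0 + Z 1 1)) * hEA
      exact (mul_eq_zero.1 e1').resolve_right ha
    · simp [Matrix.trace_fin_two, Matrix.mul_apply, Fin.sum_univ_two, hA11]
      field_simp at e2
      have e2' : (2 * s * b * (A 0 0 * Z 0 0 + A 0 1 * Z 1 0 + (A 1 0 * Z 0 1 - A 0 0 * Z 1 1))) * a = 0 := by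
        linear_combination -e2 + (a - s * s * b) * hEA +
          (a * b * (s * s) - s * s * (b * b) * (-(A 0 0 * A 0 0) - A 0 1 * A 1 0)) * hZd
      linear_combination ((mul_eq_zero.1 e2').resolve_right ha |> fun h => (mul_eq_zero.1 h).resolve_left
        (mul_ne_zero (mul_ne_zero h2 hs0) hb))
  -- the quaternion case
  obtain ⟨htZ, htAZ⟩ := hw
  have hAA : A * A = (-A.det) • (1 : M2) := by rw [trace_sq, htA, zero_smul, zero_sub, neg_smul]
  have hZZ : Z * Z = -1 := by rw [trace_sq, htZ, hZd]; simp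
  have hZA : Z * A = -(A * Z) := by
    rw [eq_neg_iff_add_eq_zero]
    simp only [Matrix.trace_fin_two, Matrix.mul_apply, Fin.sum_univ_two] at htA htZ htAZ
    have hA11 : A 1 1 = -A 0 0 := by linear_combination htA
    have hZ11 : Z 1 1 = -Z 0 0 := by linear_combination htZ
    rw [hA11, hZ11] at htAZ
    ext i j
    fin_cases i <;> fin_cases j <;> simp [Matrix.mul_apply, Fin.sum_univ_two, hA11, hZ11] <;>
      first
        | ring1
        | linear_combination htAZ
  have hAA' : ∀ W : M2, A * (A * W) = (-A.det) • W := fun W => by rw [← mul_assoc, hAA, smul_mul_assoc, one_mul]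
  have hZZ' : ∀ W : M2, Z * (Z * W) = -W := fun W => by rw [← mul_assoc, hZZ, neg_one_mul]
  have hZA' : ∀ W : M2, Z * (A * W) = -(A * (Z * W)) := fun W => by rw [← mul_assoc, hZA, neg_mul, mul_assoc]
  obtain ⟨k, hk0, hk⟩ : ∃ k : F, k ≠ 0 ∧ k * k + 2 * A.det ≠ 0 := by
    classical
    by_contra hc
    push Not at hc
    have hsub : (Finset.univ : Finset F) ⊆ {0, 1, -1} := fun x _ => by
      by_cases hx : x = 0 <;> simp [hx]
      exact mul_self_eq_one_iff.1 (by linear_combination hc x hx - hc 1 one_ne_zero)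
    have := (Finset.card_le_card hsub).trans Finset.card_le_three
    rw [Finset.card_univ] at this
    omega
  obtain ⟨Y, hY⟩ : ∃ Y : M2, Y = (-k) • (1 : M2) - A + A * Z := ⟨_, rfl⟩
  have hYd : Y.det = k * k + 2 * A.det := by
    have e : Y.det • (1 : M2) = (k * k + 2 * A.det) • 1 := by
      rw [← mul_adj, adj_eq]
      have htY : Y.trace = -2 * k := by
        rw [hY, Matrix.trace_add, Matrix.trace_sub, Matrix.trace_smul, Matrix.trace_one, htA, htAZ, Fintype.card_fin]
        push_cast; simp; ring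
      rw [htY, hY]
      simp only [mul_sub, sub_mul, mul_add, add_mul, mul_smul_comm, smul_mul_assoc, mul_one, one_mul, mul_assoc,
        hAA, hAA', hZA', hZZ, hZA, mul_neg, smul_sub, smul_add, smul_smul, smul_neg]
      module
    simpa using congrFun (congrFun e 0) 0
  have hd4 : A.trace * A.trace - 4 * A.det ≠ 0 := by
    rw [htA, mul_zero, zero_sub, show (4 : F) = 2 * 2 by norm_num]
    exact neg_ne_zero.2 (mul_ne_zero (mul_ne_zero h2 h2) hΔ)
  obtain ⟨e, heA, he⟩ := exists_cent h2 A hd4 (P.det * Y.det)⁻¹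
  obtain ⟨p, hp, hpa⟩ := exists_pair hF hM (P.adjugate * (Y * e)) (by
    rw [Matrix.det_mul, Matrix.det_adjugate, Matrix.det_mul, he, Fintype.card_fin, pow_one, hYd]
    field_simp
    try exact div_self (by rwa [pow_two])) 1 (by ring)
  have h3g := (hga.mul hpa).mul hga
  have hW : ∀ W : M2, P * (P.adjugate * W) = P.det • W := fun W => by
    rw [← mul_assoc, mul_adj, smul_mul_assoc, one_mul]
  have heA' : ∀ W : M2, e * (A * W) = A * (e * W) := fun W => by rw [← mul_assoc, heA, mul_assoc]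
  obtain ⟨L, hL⟩ : ∃ L : M2, L = (-k) • (1 + Z) + (-2 : F) • (A - A * Z) := ⟨_, rfl⟩
  obtain ⟨K, hK⟩ : ∃ K : M2, K = (-k) • (A - A * Z) := ⟨_, rfl⟩
  have hba : b / a * A.det = 1 := by rw [div_mul_eq_mul_div, hEA, div_self ha]
  simp only [one_smul, mul_zero, add_zero, zero_add, mul_assoc, mul_smul_comm, smul_mul_assoc, hW] at h3g
  have hL' : Y + (b / a) • (A * (Z * (Y * A))) = L := by
    rw [hY, hL]
    simp only [mul_sub, sub_mul, mul_add, add_mul, mul_smul_comm, smul_mul_assoc, mul_one, one_mul, mul_assoc,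
      hAA, hAA', hZA', hZZ, hZA, mul_neg, smul_sub, smul_add, smul_smul, smul_neg, neg_neg]
    match_scalars <;> first
      | ring1
      | linear_combination k * hba
      | linear_combination (-k) * hba
      | linear_combination hba
      | linear_combination -hba
  have hK' : A * Y + Z * (Y * A) = K := by
    rw [hY, hK]
    simp only [mul_sub, sub_mul, mul_add, add_mul, mul_smul_comm, smul_mul_assoc, mul_one, one_mul, mul_assoc,
      hAA, hAA', hZA', hZZ, hZA, mul_neg, smul_sub, smul_add, smul_smul, smul_neg, neg_neg]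
    module
  have hcol : ∃ W : M2, W.det ≠ 0 ∧ ∃ g₃ Q' S', g₃ ∈ M ∧ Acts Φ g₃ (L * W) Q' (K * W) S' := by
    have eL : P.det • (Y * (e * P)) + (b / a) • P.det • (A * (Z * (Y * (e * (A * P))))) = L * (P.det • (e * P)) := by
      rw [← hL']
      simp only [add_mul, mul_smul_comm, smul_mul_assoc, mul_assoc, heA', smul_add, smul_smul]
      module
    have eK : P.det • (A * (Y * (e * P))) + P.det • (Z * (Y * (e * (A * P)))) = K * (P.det • (e * P)) := by
      rw [← hK']
      simp only [add_mul, mul_smul_comm, smul_mul_assoc, mul_assoc, heA', smul_add, smul_smul]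
    rw [eL, eK] at h3g
    refine ⟨P.det • (e * P), ?_, _, _, _, mul_mem hg (mul_mem hp hg), h3g⟩
    rw [det_smul_two, Matrix.det_mul, he]
    exact mul_ne_zero (mul_ne_zero hP0 hP0) (mul_ne_zero (inv_ne_zero (mul_ne_zero hP0 (hYd ▸ hk))) hP0)
  obtain ⟨W, hW0, g₃, Q', S', hg₃, hga₃⟩ := hcol
  have htL : L.trace = -2 * k := by
    rw [hL, Matrix.trace_add, Matrix.trace_smul, Matrix.trace_smul, Matrix.trace_add, Matrix.trace_sub,
      Matrix.trace_one, htA, htAZ, htZ, Fintype.card_fin]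
    push_cast; simp; ring
  have htK : K.trace = 0 := by rw [hK, Matrix.trace_smul, Matrix.trace_sub, htA, htAZ]; simp
  have hKd : K.det = 2 * (k * k) * A.det := by
    have e' : K.det • (1 : M2) = (2 * (k * k) * A.det) • 1 := by
      rw [← mul_adj, adj_eq, htK, hK]
      simp only [zero_smul, zero_sub, mul_neg, mul_sub, sub_mul, mul_smul_comm, smul_mul_assoc, mul_assoc, hAA, hAA',
        hZA', hZZ, hZA, smul_sub, smul_smul, smul_neg, neg_neg, mul_one]
      module
    simpa using congrFun (congrFun e' 0) 0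
  have hLd : L.det = 2 * (k * k) + 8 * A.det := by
    have e' : L.det • (1 : M2) = (2 * (k * k) + 8 * A.det) • 1 := by
      rw [← mul_adj, adj_eq, htL, hL]
      simp only [mul_sub, sub_mul, mul_add, add_mul, mul_smul_comm, smul_mul_assoc, mul_one, one_mul, mul_assoc,
        hAA, hAA', hZA', hZZ, hZZ', hZA, mul_neg, smul_sub, smul_add, smul_smul, smul_neg, neg_neg]
      module
    simpa using congrFun (congrFun e' 0) 0
  refine full_unbal hF h5 h2 hM hg₃ hga₃ (fun ⟨X', p', q', r', s', hP'⟩ => ?_) fun e' => ?_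
  · obtain ⟨hp', -, hr', -⟩ := hga₃.blocks hP'
    have h0 : (r' • L - p' • K) * W = 0 := by
      rw [sub_mul, smul_mul_assoc, smul_mul_assoc, hp', hr', smul_smul, smul_smul, mul_comm, sub_self]
    have h0' : r' • L = p' • K := by
      have := congrArg (fun T : M2 => T * W.adjugate) h0
      simp only [mul_assoc, mul_adj, mul_smul_comm, mul_one, zero_mul, smul_eq_zero, hW0, false_or] at this
      exact sub_eq_zero.1 this
    have hr0 : r' = 0 := by
      have := congrArg Matrix.trace h0'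
      simpa [Matrix.trace_smul, htL, htK, h2, hk0] using this
    rw [hr0, zero_smul] at hr'
    have h9 := congrArg Matrix.det hr'
    rw [Matrix.det_mul, hKd] at h9
    simp [h2, hk0, hΔ, hW0] at h9
  · have e2 := e'.2
    rw [Matrix.det_mul, Matrix.det_mul, hKd, hLd] at e2
    have h8 : (2 * 2 * 2) * (a * A.det) * W.det = 0 := by linear_combination -e2 + (2 * (k * k) * W.det) * hEA
    exact mul_ne_zero (mul_ne_zero (mul_ne_zero (mul_ne_zero h2 h2) h2) (mul_ne_zero ha hΔ)) hW0 h8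

/-- The stabiliser of pure tensors is maximal. -/
theorem tensorTwoTwo_maximal (hF : Frame Φ a b) (h5 : 5 ≤ Fintype.card F) (h2 : (2 : F) ≠ 0) (H : Subgroup G)
    (hH : ∀ g, g ∈ H ↔ g ∈ spGL 2 F ∧ IsP Φ g) : Geo.IsMaximalIn (spGL 2 F) H := by
  refine isMaximalIn_intro (fun g hg => ((hH g).1 hg).1) (fun hle => ?_) fun M hHM hMK g hgM hgH => ?_
  · obtain ⟨g, hg, hga⟩ := exists_acts hF (P := 1) (Q := 0) (R := 0) (S := !![1, 1; 0, 1])
      ⟨by simp, by simp [Matrix.det_fin_two], by simp⟩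
    obtain ⟨X, p, q, r, s, hP⟩ := ((hH g).1 (hle hg)).2
    obtain ⟨h1, -, -, h4⟩ := hga.blocks hP
    have e01 := congrFun (congrFun h1 0) 1
    have e00 := congrFun (congrFun h1 0) 0
    have f01 := congrFun (congrFun h4 0) 1
    simp at e01 e00 f01
    rcases e01 with rfl | h
    · simp at e00
    · rw [h, mul_zero] at f01
      exact one_ne_zero f01
  · exact full hF h5 h2 ⟨hMK, fun x hx hxP => hHM ((hH x).2 ⟨hx, hxP⟩)⟩ hgM
      fun hP => hgH ((hH g).2 ⟨hMK hgM, hP⟩)

end Cfsg.Agent.Classical.TensorTwoTwo
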