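import Cfsg.Agent.Lib.Classical.MaxTensorTwoTwoBase
import Cfsg.Agent.Lib.Classical.MaxTensorTwo

/-!
The tensor stabiliser `Sp₂ ⊗ O₂` in `Sp₄`: reflections of planes `{(x, A x)}` and the ways to move them.
-/

set_option autoImplicit false
set_option linter.unusedSectionVars false

namespace Cfsg.Agent.Classical.TensorTwoTwo

open Matrix Module MaxTv

variable {F : Type*} [Field F]

local notation "U" => (Fin 2 → F)
local notation "V" => (Fin 2 ⊕ Fin 2 → F)
local notation "M2" => Matrix (Fin 2) (Fin 2) F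
local notation "Mn" => Matrix (Fin 2 ⊕ Fin 2) (Fin 2 ⊕ Fin 2) F
local notation "G" => GL (Fin 2 ⊕ Fin 2) F
local notation "B" => sympForm 2 F

/-- `M` contains the reflection in the plane `{Φ (L x, K x)}`. -/
def RefP (Φ : (U × U) ≃ₗ[F] V) (M : Subgroup G) (L K : M2) : Prop :=
  ∃ j ∈ M, (∀ x, (j : Mn) *ᵥ Φ (L *ᵥ x, K *ᵥ x) = -Φ (L *ᵥ x, K *ᵥ x)) ∧
    ∀ w, (∀ x, B w (Φ (L *ᵥ x, K *ᵥ x)) = 0) → (j : Mn) *ᵥ w = w

variable {Φ : ((Fin 2 → F) × (Fin 2 → F)) ≃ₗ[F] (Fin 2 ⊕ Fin 2 → F)} {a b : F}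
variable {M : Subgroup (GL (Fin 2 ⊕ Fin 2) F)}

theorem trace_sq (A : M2) : A * A = A.trace • A - A.det • (1 : M2) := by
  ext i j
  fin_cases i <;> fin_cases j <;>
    simp [Matrix.mul_apply, Fin.sum_univ_two, Matrix.trace_fin_two, Matrix.det_fin_two] <;> ring

theorem adj_eq (A : M2) : A.adjugate = A.trace • (1 : M2) - A := by
  ext i j
  fin_cases i <;> fin_cases j <;> simp [Matrix.trace_fin_two, Matrix.adjugate_fin_two]

theorem adj00 (A : M2) : A.adjugate 0 0 = A 1 1 := by simp [Matrix.adjugate_fin_two]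
theorem adj01 (A : M2) : A.adjugate 0 1 = -A 0 1 := by simp [Matrix.adjugate_fin_two]
theorem adj10 (A : M2) : A.adjugate 1 0 = -A 1 0 := by simp [Matrix.adjugate_fin_two]
theorem adj11 (A : M2) : A.adjugate 1 1 = A 0 0 := by simp [Matrix.adjugate_fin_two]

theorem det_smul_two (c : F) (A : M2) : (c • A).det = c * c * A.det := by
  rw [Matrix.det_smul, Fintype.card_fin, pow_two]

theorem RefP.of_acts (hF : Frame Φ a b) (hM : Over Φ M) {g : G} (hg : g ∈ M) {P Q R S : M2}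
    (hga : Acts Φ g P Q R S) : RefP Φ M P R := by
  obtain ⟨j₀, hj₀, hj₀a⟩ := exists_pair hF hM (-1) (by simp [Matrix.det_fin_two]) (-1) (by ring)
  have hB := mem_spGL.1 (hM.1 hg)
  have hgx : ∀ x, (g : Mn) *ᵥ Φ (x, 0) = Φ (P *ᵥ x, R *ᵥ x) := fun x => by simp [hga x 0]
  refine ⟨g * j₀ * g⁻¹, mul_mem (mul_mem hg hj₀) (inv_mem hg), fun x => ?_, fun w hw => ?_⟩
  · rw [← hgx, Units.val_mul, Units.val_mul, ← Matrix.mulVec_mulVec, ← Matrix.mulVec_mulVec, inv_mulVec_cancel,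
      hj₀a, ← Matrix.mulVec_neg, ← map_neg]
    congr 1
    simp [Matrix.neg_mulVec]
  · obtain ⟨⟨u, v⟩, hu⟩ : ∃ p, Φ p = ((g⁻¹ : G) : Mn) *ᵥ w := ⟨Φ.symm _, Φ.apply_symm_apply _⟩
    have hu0 : u = 0 := by
      refine eq_zero_of_dt fun x => ?_
      have h := hw x
      rw [← hgx, ← mulVec_inv_cancel g w, ← hu, hB, hF.2.2] at h
      have h' : a * dt u x = 0 := by simpa [dt] using h
      rw [dt_swap, (mul_eq_zero.1 h').resolve_left hF.1, neg_zero]
    rw [Units.val_mul, Units.val_mul, ← Matrix.mulVec_mulVec, ← Matrix.mulVec_mulVec, ← hu, hu0, hj₀a]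
    have : Φ ((-1 : M2) *ᵥ (0 : U) + (0 : M2) *ᵥ v, (0 : M2) *ᵥ (0 : U) + ((-1 : F) • (-1 : M2)) *ᵥ v) = Φ (0, v) :=
      by simp
    rw [this, ← hu0, hu, mulVec_inv_cancel]

theorem RefP.map (hM : Over Φ M) {L K : M2} (h : RefP Φ M L K) {k : G} (hk : k ∈ M) {P Q R S : M2}
    (hka : Acts Φ k P Q R S) : RefP Φ M (P * L + Q * K) (R * L + S * K) := by
  obtain ⟨j, hj, hneg, hfix⟩ := h
  have hB := mem_spGL.1 (hM.1 hk)
  have hkx : ∀ x, (k : Mn) *ᵥ Φ (L *ᵥ x, K *ᵥ x) = Φ ((P * L + Q * K) *ᵥ x, (R * L + S * K) *ᵥ x) := fun x => by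
    rw [hka]; simp only [Matrix.add_mulVec, Matrix.mulVec_mulVec]
  refine ⟨k * j * k⁻¹, mul_mem (mul_mem hk hj) (inv_mem hk), fun x => ?_, fun w hw => ?_⟩
  · rw [← hkx, Units.val_mul, Units.val_mul, ← Matrix.mulVec_mulVec, ← Matrix.mulVec_mulVec, inv_mulVec_cancel,
      hneg, Matrix.mulVec_neg]
  · rw [Units.val_mul, Units.val_mul, ← Matrix.mulVec_mulVec, ← Matrix.mulVec_mulVec, hfix _ fun x => ?_,
      mulVec_inv_cancel]
    rw [← hB, mulVec_inv_cancel, hkx]
    exact hw x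

theorem RefP.reparam {L K : M2} (h : RefP Φ M L K) (hL : L.det ≠ 0) :
    RefP Φ M 1 (L.det⁻¹ • (K * L.adjugate)) := by
  obtain ⟨j, hj, hneg, hfix⟩ := h
  have e1 : ∀ x, L *ᵥ ((L.det⁻¹ • L.adjugate) *ᵥ x) = x := fun x => by
    rw [Matrix.mulVec_mulVec, mul_smul_comm, mul_adj, smul_smul, inv_mul_cancel₀ hL, one_smul, Matrix.one_mulVec]
  have e2 : ∀ x, K *ᵥ ((L.det⁻¹ • L.adjugate) *ᵥ x) = (L.det⁻¹ • (K * L.adjugate)) *ᵥ x := fun x => by
    rw [Matrix.mulVec_mulVec, mul_smul_comm]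
  have e3 : ∀ x, (L.det⁻¹ • (K * L.adjugate)) *ᵥ (L *ᵥ x) = K *ᵥ x := fun x => by
    rw [Matrix.mulVec_mulVec, smul_mul_assoc, mul_assoc, adj_mul, mul_smul_comm, mul_one, smul_smul,
      inv_mul_cancel₀ hL, one_smul]
  refine ⟨j, hj, fun x => ?_, fun w hw => hfix w fun x => ?_⟩
  · have := hneg ((L.det⁻¹ • L.adjugate) *ᵥ x)
    rwa [e1, e2, ← Matrix.one_mulVec x, Matrix.mulVec_mulVec, mul_one] at this
  · have := hw (L *ᵥ x)
    rwa [Matrix.one_mulVec, e3] at this

theorem RefP.smul {L K : M2} (h : RefP Φ M L K) {c : F} (hc : c ≠ 0) : RefP Φ M (c • L) (c • K) := by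
  obtain ⟨j, hj, hneg, hfix⟩ := h
  refine ⟨j, hj, fun x => ?_, fun w hw => hfix w fun x => ?_⟩
  · rw [Matrix.smul_mulVec, Matrix.smul_mulVec, ← Prod.smul_mk, map_smul, Matrix.mulVec_smul, hneg, smul_neg]
  · have := hw x
    rw [Matrix.smul_mulVec, Matrix.smul_mulVec, ← Prod.smul_mk, map_smul, sympForm_smul_right] at this
    exact (mul_eq_zero.1 this).resolve_left hc

theorem RefP.acts (hF : Frame Φ a b) {A : M2} (h : RefP Φ M 1 A) (hδ : a + b * A.det ≠ 0) :
    ∃ j ∈ M, Acts Φ j (((b * A.det - a) / (a + b * A.det)) • 1) ((-(2 * b / (a + b * A.det))) • A.adjugate)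
      ((-(2 * a / (a + b * A.det))) • A) (((a - b * A.det) / (a + b * A.det)) • 1) := by
  obtain ⟨j, hj, hneg, hfix⟩ := h
  refine ⟨j, hj, fun x y => ?_⟩
  set δ := a + b * A.det with hδdef
  obtain ⟨z, hz⟩ : ∃ z : U, z = δ⁻¹ • (a • x + b • (A.adjugate *ᵥ y)) := ⟨_, rfl⟩
  have hperp : ∀ x' : U, B (Φ (x - z, y - A *ᵥ z)) (Φ ((1 : M2) *ᵥ x', A *ᵥ x')) = 0 := fun x' => by
    rw [hF.2.2, hz]
    simp [dt, Matrix.mulVec, dotProduct, Fin.sum_univ_two, Matrix.adjugate_fin_two, Matrix.det_fin_two,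
      Matrix.vecHead, Matrix.vecTail]
    simp only [Matrix.det_fin_two] at hδdef
    field_simp
    rw [hδdef]
    ring
  have h1 := hfix _ hperp
  have h2 := hneg z
  rw [Matrix.one_mulVec] at h2
  have e : Φ (x, y) = Φ (x - z, y - A *ᵥ z) + Φ (z, A *ᵥ z) := by
    rw [← map_add, Prod.mk_add_mk, sub_add_cancel, sub_add_cancel]
  rw [e, Matrix.mulVec_add, h1, h2, ← sub_eq_add_neg, ← map_sub]
  congr 1
  rw [hz]
  refine Prod.ext ?_ ?_ <;> funext i <;> fin_cases i <;>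
  · simp [Matrix.mulVec, dotProduct, Fin.sum_univ_two, Matrix.adjugate_fin_two, Matrix.vecHead, Matrix.vecTail]
    simp only [Matrix.det_fin_two] at hδdef
    field_simp
    rw [hδdef, Matrix.det_fin_two]
    ring

/-- Rotating the plane. -/
theorem RefP.rot (hF : Frame Φ a b) (hM : Over Φ M) {A : M2} (h : RefP Φ M 1 A) (hAs : ∀ c : F, A ≠ c • 1) (ρ : F)
    (hρ : a + b * (ρ * ρ) ≠ 0) {D : F} (hD : D = 1 - ρ * b / a * A.trace + (ρ * b / a) * (ρ * b / a) * A.det)
    (hD0 : D ≠ 0) :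
    ∃ A' : M2, RefP Φ M 1 A' ∧ (∀ c : F, A' ≠ c • 1) ∧
      A'.trace * D = A.trace * (1 - ρ * ρ * b / a) + 2 * ρ - 2 * (ρ * b / a) * A.det ∧
      A'.det * D = A.det + ρ * A.trace + ρ * ρ := by
  have ha := hF.1
  obtain ⟨X, hX⟩ := exists_det (a / (a + b * (ρ * ρ)))
  have hX0 : X.det * (a + b * (ρ * ρ)) = a := by rw [hX, div_mul_cancel₀ _ hρ]
  have hXn : X.det ≠ 0 := fun h => ha (by rw [← hX0, h, zero_mul])
  obtain ⟨g, hg, hga, -⟩ := exists_rot hF hM ρ hρ X hX0
  have h1 := h.map hM hg hga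
  obtain ⟨L, hL⟩ : ∃ L : M2, L = 1 - (ρ * b / a) • A := ⟨_, rfl⟩
  obtain ⟨K, hK⟩ : ∃ K : M2, K = ρ • 1 + A := ⟨_, rfl⟩
  have hLd : L.det = D := by
    rw [hL, hD]; simp [Matrix.det_fin_two, Matrix.trace_fin_two]; ring
  rw [show X * 1 + (-(ρ * b / a)) • X * A = X * L by
      rw [hL, mul_sub, mul_smul_comm, smul_mul_assoc, neg_smul, sub_eq_add_neg],
    show ρ • X * 1 + X * A = X * K by rw [hK, mul_add, mul_smul_comm, mul_one, mul_one]] at h1
  have h2 := h1.reparam (by rw [Matrix.det_mul, hLd]; exact mul_ne_zero hXn hD0)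
  refine ⟨_, h2, fun c hc => ?_, ?_, ?_⟩
  · have h3 : X * K = c • (X * L) := by
      have := congrArg (fun T : M2 => T * (X * L)) hc
      simp only [smul_mul_assoc, mul_assoc (X * K), adj_mul, one_mul, mul_smul_comm, mul_one, smul_smul,
        inv_mul_cancel₀ (show (X * L).det ≠ 0 by rw [Matrix.det_mul, hLd]; exact mul_ne_zero hXn hD0), one_smul] at this
      exact this
    have h4 : K = c • L := by
      have := congrArg (fun T : M2 => X.adjugate * T) h3
      simp only [← mul_assoc, adj_mul, smul_mul_assoc, one_mul, mul_smul_comm] at this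
      rw [smul_comm] at this
      exact smul_right_injective _ hXn this
    rw [hK, hL, smul_sub, smul_smul] at h4
    have h5 : (1 + c * (ρ * b / a)) • A = (c - ρ) • (1 : M2) := by
      linear_combination (norm := module) h4
    by_cases h6 : 1 + c * (ρ * b / a) = 0
    · rw [h6, zero_smul, eq_comm, smul_eq_zero, sub_eq_zero] at h5
      rcases h5 with h5 | h5
      · subst h5
        refine hρ ?_
        field_simp at h6
        linear_combination h6
      · exact one_ne_zero h5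
    · exact hAs ((1 + c * (ρ * b / a))⁻¹ * (c - ρ)) (by
        rw [← smul_smul, ← h5, smul_smul, inv_mul_cancel₀ h6, one_smul])
  · have e : (X * K * (X * L).adjugate).trace = X.det * (K * L.adjugate).trace := by
      rw [Matrix.adjugate_mul_distrib, ← mul_assoc, Matrix.trace_mul_comm, ← mul_assoc, ← mul_assoc, adj_mul,
        smul_mul_assoc, one_mul, smul_mul_assoc, Matrix.trace_smul, smul_eq_mul]
    have e2 : (K * L.adjugate).trace = A.trace * (1 - ρ * ρ * b / a) + 2 * ρ - 2 * (ρ * b / a) * A.det := by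
      rw [hK, hL]
      simp [Matrix.trace_fin_two, Matrix.det_fin_two, adj00, adj01, adj10, adj11, Matrix.mul_apply, Fin.sum_univ_two]
      ring
    rw [Matrix.trace_smul, smul_eq_mul, e, Matrix.det_mul, hLd, ← e2]
    field_simp
  · have e2 : K.det = A.det + ρ * A.trace + ρ * ρ := by
      rw [hK]; simp [Matrix.det_fin_two, Matrix.trace_fin_two]; ring
    rw [det_smul_two, Matrix.det_mul (X * K), Matrix.det_adjugate, Matrix.det_mul, Matrix.det_mul, hLd, ← e2]
    simp only [Fintype.card_fin, Nat.add_one_sub_one, pow_one]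
    field_simp

/-- Reflecting the negative of a conjugate plane in the plane of `A`. -/
theorem RefP.step (hF : Frame Φ a b) (hM : Over Φ M) {A : M2} (h : RefP Φ M 1 A) (hδ : a + b * A.det ≠ 0)
    {X : M2} (hX : X.det = 1) {C : M2} (hC : C = X * A * X.adjugate) {E τ L K : F}
    (hE : E = b * A.det - a) (hτ : τ = (A.adjugate * C).trace)
    (hL : L = E * E + 2 * b * E * τ + 4 * (b * b) * (A.det * A.det))
    (hK : K = E * E * A.det - 2 * a * E * τ + 4 * (a * a) * A.det) (hL0 : L ≠ 0) :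
    ∃ A' : M2, RefP Φ M 1 A' ∧
      A'.trace * L = A.trace * (3 * E * E - 4 * a * b * τ + 4 * a * b * A.det) ∧ A'.det * L = K ∧
      ∀ c : F, A' = c • 1 → E • C - (2 * a) • A = c • (E • 1 + (2 * b) • (A.adjugate * C)) := by
  obtain ⟨p, hp, hpa⟩ := exists_pair hF hM X hX (-1) (by ring)
  have h1 : RefP Φ M X (-(X * A)) := by simpa [neg_smul, one_smul, neg_mul] using h.map hM hp hpa
  replace h1 : RefP Φ M 1 (-C) := by
    simpa [hX, hC, neg_mul] using h1.reparam (by rw [hX]; exact one_ne_zero)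
  obtain ⟨j, hj, hja⟩ := h.acts hF hδ
  have h2 := (h1.map hM hj hja).smul hδ
  obtain ⟨L', hL'⟩ : ∃ L' : M2, L' = E • 1 + (2 * b) • (A.adjugate * C) := ⟨_, rfl⟩
  obtain ⟨K', hK'⟩ : ∃ K' : M2, K' = E • C - (2 * a) • A := ⟨_, rfl⟩
  rw [show (a + b * A.det) • (((b * A.det - a) / (a + b * A.det)) • (1 : M2) * 1 +
        (-(2 * b / (a + b * A.det))) • A.adjugate * -C) = L' by
      rw [hL', hE, mul_one, smul_mul_assoc, mul_neg, smul_add, smul_neg, neg_smul, neg_neg, smul_smul, smul_smul,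
        mul_div_cancel₀ _ hδ, mul_div_cancel₀ _ hδ],
    show (a + b * A.det) • ((-(2 * a / (a + b * A.det))) • A * 1 +
        ((a - b * A.det) / (a + b * A.det)) • (1 : M2) * -C) = K' by
      rw [hK', hE, mul_one, smul_mul_assoc, one_mul]
      simp only [smul_add, smul_neg, neg_smul, smul_smul, mul_div_cancel₀ _ hδ]
      module] at h2
  have hCt : C.trace = A.trace := by
    rw [hC, Matrix.trace_mul_comm, ← mul_assoc, adj_mul, hX, one_smul, one_mul]
  have hCd : C.det = A.det := by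
    rw [hC, Matrix.det_mul, Matrix.det_mul, Matrix.det_adjugate, hX]; simp
  have hτ' : τ = A 1 1 * C 0 0 - A 0 1 * C 1 0 - A 1 0 * C 0 1 + A 0 0 * C 1 1 := by
    rw [hτ]; simp [Matrix.trace_fin_two, Matrix.mul_apply, Fin.sum_univ_two, adj00, adj01, adj10, adj11]; ring
  simp only [Matrix.trace_fin_two] at hCt
  simp only [Matrix.det_fin_two] at hCd
  have hL'd : L'.det = L := by
    rw [hL, hL', hτ']
    simp [Matrix.det_fin_two, Matrix.mul_apply, Fin.sum_univ_two, adj00, adj01, adj10, adj11]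
    linear_combination (4 * b * b * (A 0 0 * A 1 1 - A 0 1 * A 1 0)) * hCd
  have hK'd : K'.det = K := by
    rw [hK, hK', hτ']
    simp [Matrix.det_fin_two]
    linear_combination E * E * hCd
  have htr : (K' * L'.adjugate).trace = A.trace * (3 * E * E - 4 * a * b * τ + 4 * a * b * A.det) := by
    rw [hL', hK', hτ']
    simp [Matrix.trace_fin_two, Matrix.det_fin_two, Matrix.mul_apply, Fin.sum_univ_two, adj00, adj01, adj10, adj11]
    linear_combination (E * E + 4 * a * b * (A 0 0 * A 1 1 - A 0 1 * A 1 0)) * hCt +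
      (2 * b * E * (A 0 0 + A 1 1)) * hCd +
      (-2 * (A 0 0 + A 1 1) * E) * hE.trans (by rw [Matrix.det_fin_two])
  have hA' := h2.reparam (by rw [hL'd]; exact hL0)
  refine ⟨_, hA', ?_, ?_, fun c hc => ?_⟩
  · rw [Matrix.trace_smul, smul_eq_mul, htr, hL'd]
    field_simp
  · rw [det_smul_two, Matrix.det_mul, Matrix.det_adjugate, hK'd, hL'd]
    simp only [Fintype.card_fin, Nat.add_one_sub_one, pow_one]
    field_simp
  · rw [← hL', ← hK']
    have h3 := congrArg (fun T : M2 => T * L') hc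
    simpa [mul_assoc, adj_mul, hL'd, smul_smul, hL0] using h3

theorem exists_norm (h2 : (2 : F) ≠ 0) [Fintype F] {c : F} (hc : c ≠ 0) (d : F) :
    ∃ p q : F, p * p + c * (q * q) = d := by
  obtain ⟨p, q, h⟩ := TensorTwo.exists_norm_two h2 (neg_ne_zero.2 hc) d
  exact ⟨p, q, by linear_combination h⟩

/-- An element of given norm in the algebra of `A`. -/
theorem exists_cent [Fintype F] (h2 : (2 : F) ≠ 0) (A : M2) (hd : A.trace * A.trace - 4 * A.det ≠ 0) (d : F) :
    ∃ e : M2, e * A = A * e ∧ e.det = d := by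
  obtain ⟨p, q, h⟩ := exists_norm h2 (c := -(A.trace * A.trace - 4 * A.det))
    (neg_ne_zero.2 hd) d
  refine ⟨(p - q * A.trace) • 1 + (2 * q) • A, by simp [add_mul, mul_add], ?_⟩
  rw [← h]
  simp [Matrix.det_fin_two, Matrix.trace_fin_two]
  ring

/-- A conjugate of `A` at given distance, not commuting with it. -/
theorem exists_conj [Fintype F] (h2 : (2 : F) ≠ 0) (A : M2) (hd : A.trace * A.trace - 4 * A.det ≠ 0) {σ : F}
    (hσ : σ ≠ 0) (hσd : σ + (A.trace * A.trace - 4 * A.det) ≠ 0) :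
    ∃ X C : M2, X.det = 1 ∧ C = X * A * X.adjugate ∧ (A.adjugate * C).trace = 2 * A.det - σ ∧
      C * A ≠ A * C := by
  obtain ⟨t, htA⟩ : ∃ t : F, t = A.trace := ⟨_, rfl⟩
  rw [← htA] at hd hσd
  obtain ⟨u, v, w, hu, hv, hw⟩ : ∃ u v w : F, A 0 0 = t / 2 + u ∧ v = A 0 1 ∧ w = A 1 0 :=
    ⟨A 0 0 - t / 2, _, _, by ring, rfl, rfl⟩
  have hA11 : A 1 1 = t / 2 - u := by
    have : t = A 0 0 + A 1 1 := htA.trans (Matrix.trace_fin_two A)
    field_simp at hu ⊢
    linear_combination (-2 : F) * this - hu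
  obtain ⟨e, he⟩ : ∃ e : F, e * (σ + (t * t - 4 * A.det)) = σ :=
    ⟨σ / (σ + (t * t - 4 * A.det)), div_mul_cancel₀ _ hσd⟩
  have hdd : 4 * (u * u + v * w) = t * t - 4 * A.det := by
    rw [Matrix.det_fin_two, hu, hA11, ← hv, ← hw]; field_simp; ring
  have hd0 : u * u + v * w ≠ 0 := fun h => hd (by rw [← hdd, h, mul_zero])
  obtain ⟨x, y, z, hN, hZ⟩ : ∃ x y z : F, 2 * u * x + v * z + w * y = 0 ∧ x * x + y * z = e := by
    by_cases hv0 : v = 0
    · subst hv0
      have hu0 : u ≠ 0 := fun h => hd0 (by rw [h]; ring)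
      refine ⟨-w / (2 * u), 1, e - (-w / (2 * u)) * (-w / (2 * u)), ?_, by ring⟩
      field_simp; ring
    · obtain ⟨p, q, hpq⟩ := exists_norm h2 (c := -(u * u + v * w) / (v * v))
        (div_ne_zero (neg_ne_zero.2 hd0) (mul_ne_zero hv0 hv0)) e
      refine ⟨p + u * q / v, q, -(2 * u * (p + u * q / v) + w * q) / v, by field_simp; ring, ?_⟩
      rw [← hpq]; field_simp; ring
  have he1 : 1 - e ≠ 0 := fun h => hd (by
    rw [show e = 1 from (sub_eq_zero.1 h).symm] at he; linear_combination he)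
  obtain ⟨T, hTA, hT⟩ := exists_cent h2 A (htA ▸ hd) (1 - e)⁻¹
  obtain ⟨Y, hY00, hY01, hY10, hY11⟩ : ∃ Y : M2, Y 0 0 = 1 + x ∧ Y 0 1 = y ∧ Y 1 0 = z ∧ Y 1 1 = 1 - x :=
    ⟨!![1 + x, y; z, 1 - x], rfl, rfl, rfl, rfl⟩
  have hYd : Y.det = 1 - e := by rw [Matrix.det_fin_two, hY00, hY01, hY10, hY11]; linear_combination -hZ
  refine ⟨Y * T, _, by rw [Matrix.det_mul, hYd, hT, mul_inv_cancel₀ he1], rfl, ?_⟩
  have hC : Y * T * A * (Y * T).adjugate = (1 - e)⁻¹ • (Y * A * Y.adjugate) := by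
    rw [Matrix.adjugate_mul_distrib, mul_assoc Y T A, hTA, ← mul_assoc Y A T, mul_assoc (Y * A) T, ← mul_assoc T,
      mul_adj, hT, smul_mul_assoc, one_mul, mul_smul_comm]
  rw [hC]
  constructor
  · rw [mul_smul_comm, Matrix.trace_smul, smul_eq_mul, inv_mul_eq_iff_eq_mul₀ he1]
    simp [Matrix.trace_fin_two, Matrix.mul_apply, Fin.sum_univ_two, adj00, adj01, adj10, adj11, hu, hA11, ← hv, ← hw,
      Matrix.det_fin_two, hY00, hY01, hY10, hY11]
    simp only [Matrix.det_fin_two, hu, hA11, ← hv, ← hw] at he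
    obtain ⟨r, rfl⟩ : ∃ r : F, t = 2 * r := ⟨t / 2, by field_simp⟩
    simp only [mul_div_cancel_left₀ _ h2] at he ⊢
    linear_combination -(2 * r * r + 2 * (u * u + v * w)) * hZ + (2 * u * x + v * z + w * y) * hN - he
  · intro hcomm
    rw [smul_mul_assoc, mul_smul_comm] at hcomm
    have hc := fun i j => congrFun (congrFun (smul_right_injective _ (inv_ne_zero he1) hcomm) i) j
    have h00 := hc 0 0
    have h01 := hc 0 1
    have h10 := hc 1 0
    simp [hY00, hY01, hY10, hY11, Matrix.mul_apply, Fin.sum_univ_two, adj00, adj01, adj10, adj11, hu, hA11, ← hv, ← hw] at h00 h01 h10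
    have k : ∀ r : F, 4 * (u * u + v * w) * r = 0 → r = 0 := fun r hr =>
      (mul_eq_zero.1 hr).resolve_left (by rw [hdd]; exact hd)
    have hx : x = 0 := k x (by linear_combination h00 + (2 * u + y * w - v * z) * hN)
    have hy : y = 0 := k y (by linear_combination h01 + (2 * v + 2 * (x * v - y * u)) * hN)
    have hz : z = 0 := k z (by linear_combination h10 + (2 * w + 2 * (z * u - x * w)) * hN)
    rw [hx, hy, hz] at hZ
    exact hσ (by rw [← he, ← hZ]; ring)

/-- An element normalising a nilpotent line with given eigenvalues. -/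
theorem exists_nil_scale {N : M2} (hN0 : N ≠ 0) (ht : N.trace = 0) (hd : N.det = 0) (x y : F) :
    ∃ X : M2, X.det = x * y ∧ X * N = x • N ∧ N * X = y • N := by
  obtain ⟨P, hP1, hP2, hP3, hP4⟩ : ∃ P : M2, P * N = N ∧ N * P = 0 ∧ P.trace = 1 ∧ P.det = 0 := by
    simp only [Matrix.trace_fin_two, Matrix.det_fin_two] at ht hd
    have h11 : N 1 1 = -N 0 0 := by linear_combination ht
    by_cases hv : N 0 1 = 0
    · have h00 : N 0 0 = 0 := by
        rw [hv, h11] at hd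
        exact mul_self_eq_zero.1 (by linear_combination (-1 : F) * hd)
      refine ⟨!![0, 0; 0, 1], ?_, ?_, by simp [Matrix.trace_fin_two], by simp [Matrix.det_fin_two]⟩ <;>
      · ext i j; fin_cases i <;> fin_cases j <;> simp [Matrix.mul_apply, Fin.sum_univ_two, hv, h00, h11]
    · refine ⟨!![1, 0; -(N 0 0 / N 0 1), 0], ?_, ?_, by simp [Matrix.trace_fin_two],
        by simp [Matrix.det_fin_two]⟩ <;>
      · ext i j; fin_cases i <;> fin_cases j <;> simp [Matrix.mul_apply, Fin.sum_univ_two, hv, h11] <;> field_simp <;>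
          (first | ring1 | linear_combination hd - N 0 0 * h11 | linear_combination -hd + N 0 0 * h11 |
            linear_combination (-2 : F) * hd + (2 * N 0 0) * h11 | linear_combination (2 : F) * hd - (2 * N 0 0) * h11)
  refine ⟨y • 1 + (x - y) • P, ?_, ?_, ?_⟩
  · simp only [Matrix.trace_fin_two, Matrix.det_fin_two] at hP3 hP4
    simp [Matrix.det_fin_two]
    linear_combination y * (x - y) * hP3 + (x - y) * (x - y) * hP4
  · rw [add_mul, smul_mul_assoc, smul_mul_assoc, hP1, one_mul, ← add_smul]; congr 1; ring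
  · rw [mul_add, mul_smul_comm, mul_smul_comm, hP2, smul_zero, add_zero, mul_one]

end Cfsg.Agent.Classical.TensorTwoTwo
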