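import Cfsg.Agent.Lib.Classical.MaxTensorWreathCz
import Cfsg.Agent.Lib.Classical.MaxTensorOrthApp
import Cfsg.Agent.Lib.Classical.AschEvenCase

/-!
The stabiliser of a tensor square of a three-dimensional orthogonal space is maximal in `Ω₉`.
-/

set_option autoImplicit false
set_option linter.unusedSectionVars false

namespace Cfsg.Agent.Classical.TensorWreath

open Matrix Module MaxTv TensorMax TensorOrth Overfield
open scoped Kronecker
open Cfsg.Agent.Classical.TensorRoot (kg kg_apply kg_isKron)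

variable {F : Type*} [Field F] [Fintype F]

local notation "V" => (Fin 3 × Fin 3 → F)
local notation "Mn" => Matrix (Fin 3 × Fin 3) (Fin 3 × Fin 3) F
local notation "V₂" => (Fin 2 → Fin 3)

/-- Pairs as functions on two points. -/
def pairEquiv : (Fin 2 → Fin 3) ≃ Fin 3 × Fin 3 := finTwoArrowEquiv (Fin 3)

theorem gl_reindex_apply {κ μ : Type} [Fintype κ] [DecidableEq κ] [Fintype μ] [DecidableEq μ] (σ : κ ≃ μ)
    (g : GL κ F) (i j : μ) : (Geo.glReindex σ g : Matrix μ μ F) i j = (g : Matrix κ κ F) (σ.symm i) (σ.symm j) := rfl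

theorem pair_symm (i : Fin 3 × Fin 3) : pairEquiv.symm i 0 = i.1 ∧ pairEquiv.symm i 1 = i.2 := ⟨rfl, rfl⟩

/-- The standard wreath product is the stabiliser of the decomposition. -/
theorem wreath_standard :
    (Geo.tensorWreathStandard 3 2 F).map (Geo.glReindex pairEquiv).toMonoidHom = hSub (F := F) := by
  classical
  refine le_antisymm ?_ fun g hg => ?_
  · rw [Geo.tensorWreathStandard, MonoidHom.map_closure, Subgroup.closure_le]
    rintro _ ⟨g, hg | hg, rfl⟩
    · obtain ⟨gs, hgs⟩ := hg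
      refine Or.inl ⟨gs 0, gs 1, Matrix.ext fun i j => ?_⟩
      show (Geo.glReindex pairEquiv g : Mn) i j = _
      rw [gl_reindex_apply, hgs, Fin.prod_univ_two, Matrix.kroneckerMap_apply]
      simp only [pair_symm]
    · obtain ⟨σ, hσ⟩ := hg
      have hcase : ∀ s : Equiv.Perm (Fin 2), s = 1 ∨ s = Equiv.swap 0 1 := by decide
      rcases hcase σ with rfl | rfl
      · refine Or.inl ?_
        rw [show (Geo.glReindex pairEquiv).toMonoidHom g = 1 from Units.ext (Matrix.ext fun i j => by
          show (Geo.glReindex pairEquiv g : Mn) i j = (1 : Mn) i j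
          rw [gl_reindex_apply, hσ, Matrix.one_apply, Equiv.Perm.coe_one, Function.comp_id]
          simp [eq_comm])]
        exact isKron_one
      · refine Or.inr ?_
        rw [show (Geo.glReindex pairEquiv).toMonoidHom g = tau from Units.ext (Matrix.ext fun i j => by
          show (Geo.glReindex pairEquiv g : Mn) i j = swapMat i j
          rw [gl_reindex_apply, hσ, swapMat, Matrix.of_apply]
          refine if_congr ?_ rfl rfl
          constructor
          · intro e
            exact Prod.ext (by simpa [pair_symm] using congrFun e 0) (by simpa [pair_symm] using congrFun e 1)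
          · rintro rfl
            funext k
            fin_cases k <;> simp [pair_symm]), tau_mul]
        exact isKron_one
  · have hk : ∀ {x : GL (Fin 3 × Fin 3) F}, IsKron x →
        x ∈ (Geo.tensorWreathStandard 3 2 F).map (Geo.glReindex pairEquiv).toMonoidHom := fun {x} hx => by
      obtain ⟨A, B, e⟩ := hx
      refine ⟨(Geo.glReindex pairEquiv).symm x, Subgroup.subset_closure (Or.inl ⟨![A, B], fun i j => ?_⟩),
        (Geo.glReindex pairEquiv).apply_symm_apply x⟩
      show (x : Mn) (pairEquiv i) (pairEquiv j) = _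
      rw [e, Fin.prod_univ_two, Matrix.kroneckerMap_apply]
      rfl
    have ht : (tau : GL (Fin 3 × Fin 3) F) ∈
        (Geo.tensorWreathStandard 3 2 F).map (Geo.glReindex pairEquiv).toMonoidHom := by
      refine ⟨(Geo.glReindex pairEquiv).symm tau, Subgroup.subset_closure (Or.inr ⟨Equiv.swap 0 1, fun i j => ?_⟩),
        (Geo.glReindex pairEquiv).apply_symm_apply tau⟩
      show swapMat (pairEquiv i) (pairEquiv j) = _
      rw [swapMat, Matrix.of_apply]
      refine if_congr ?_ rfl rfl
      constructor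
      · intro e
        have e' : j 0 = i 1 ∧ j 1 = i 0 := Prod.mk.injEq .. ▸ e
        funext k
        fin_cases k <;> simp [e']
      · rintro rfl
        exact Prod.ext (by simp [pairEquiv]) (by simp [pairEquiv])
    rcases hg with h | h
    · exact hk h
    · have := Subgroup.mul_mem _ ht (hk h)
      rwa [← mul_assoc, tau_mul, one_mul] at this

/-- A tensor with three pairings forcing two non-zero coordinates is not pure. -/
theorem Wr.not_inH {h : (Fin 3 → F) → (Fin 3 → F) → F} {f : (Fin 3 × Fin 3 → F) → (Fin 3 × Fin 3 → F) → F}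
    {G M : Subgroup (GL (Fin 3 × Fin 3) F)} (W : Wr h f G M) :
    ∃ g ∈ G, ¬ InH g := by
  have hs := W.hs
  have hV := W.hV
  obtain ⟨a, d, haa, hdd, hda⟩ := hs.exists_hyp W.two (by rw [Fintype.card_fin])
  obtain ⟨w, hw, hww⟩ := hs.exists_aniso W.two (hs.ndOn_perp2 hdd haa hda)
    (Submodule.exists_mem_ne_zero_of_ne_bot fun e => by
      have := hs.finrank_perp2 d a
      rw [e, finrank_bot, Fintype.card_fin] at this
      omega)
  have hwd : h w d = 0 := hw.1
  have hwa : h w a = 0 := hw.2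
  obtain ⟨v, hv⟩ : ∃ v, v = tmul a a := ⟨_, rfl⟩
  obtain ⟨t, ht⟩ : ∃ t, t = tmul w a := ⟨_, rfl⟩
  have hvv : f v v = 0 := by rw [hv, W.ten, haa, zero_mul]
  have htv : f t v = 0 := by rw [hv, ht, W.ten, haa, mul_zero]
  have htt : f t t = 0 := by rw [ht, W.ten, haa, mul_zero]
  have hvt : f v t = 0 := by rw [hV.symm, htv]
  obtain ⟨g, hgi, hgx⟩ := hV.exists_sieg W.two hvv htv
  have hgx' : ∀ x, (g : Mn) *ᵥ x = x + f x v • t - f x t • v := fun x => by
    rw [hgx, htt, zero_div, zero_mul, zero_smul, sub_zero]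
  refine ⟨g, mem_of_cube W.sq W.two hgi fun x => ?_, fun hH => ?_⟩
  · have hd : ∀ y : V, ((g : Mn) - 1) *ᵥ y = f y v • t - f y t • v := fun y => by
      rw [Matrix.sub_mulVec, Matrix.one_mulVec, hgx']
      abel
    rw [hd x, hd (f x v • t - f x t • v)]
    simp [hV.sub_left, hV.smul_left, hvv, htv, hvt, htt]
  obtain ⟨p, r, hpr⟩ : ∃ p r, (g : Mn) *ᵥ tmul d d = tmul p r := by
    rcases hH with ⟨A, B, e⟩ | ⟨A, B, e⟩
    · exact ⟨_, _, by rw [e, kronecker_mulVec]⟩
    · exact ⟨(B : Matrix (Fin 3) (Fin 3) F) *ᵥ d, (A : Matrix (Fin 3) (Fin 3) F) *ᵥ d, by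
        rw [show g = tau * (tau * g) by rw [← mul_assoc, tau_mul, one_mul], Units.val_mul, ← Matrix.mulVec_mulVec, e,
          kronecker_mulVec, tau_tmul]⟩
  have had : h a d = 1 := by rw [hs.symm, hda]
  have e0 : tmul d d + tmul w a = tmul p r := by
    rw [← hpr, hgx', hv, ht, W.ten, W.ten, hda, hs.symm d w, hwd, zero_mul, zero_smul, sub_zero, one_mul, one_smul]
  have key : ∀ x x', h d x * h d x' + h w x * h a x' = h p x * h r x' := fun x x' => by
    rw [← W.ten, ← W.ten, ← hV.add_left, e0, W.ten]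
  have k1 := key a a
  have k2 := key w d
  have k3 := key a d
  rw [hda, hwa, haa, one_mul, zero_mul, add_zero] at k1
  rw [hdd, had, mul_zero, zero_add, mul_one] at k2
  rw [hdd, hwa, mul_zero, zero_mul, add_zero] at k3
  rcases mul_eq_zero.1 k3.symm with e | e
  · rw [e, zero_mul] at k1; exact one_ne_zero k1
  · rw [e, mul_zero] at k2; exact hww k2

variable {ι : Type} [Fintype ι] [DecidableEq ι]

/-- The stabiliser of a tensor square is maximal. -/
theorem orth_tensor_wreath_maximal (Q₀ : (ι → F) → F) (hQ₀ : Geo.IsNondegenerateQuadraticForm Q₀)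
    (hodd : Odd (Fintype.card F)) (hq : 5 ≤ Fintype.card F) (e : ι ≃ (Fin 2 → Fin 3)) (P : GL ι F)
    (f₁ : (Fin 3 → F) → (Fin 3 → F) → F) (hf₁ : Geo.IsSymmetricForm f₁)
    (hT : Geo.IsTensorPowerFormStructure id (QuadraticMap.polar Q₀) f₁ e P) :
    Geo.IsMaximalIn (Geo.omegaGL Q₀) (Geo.tensorWreathSubgroup 3 2 e P ⊓ Geo.omegaGL Q₀) := by
  classical
  obtain ⟨Q, rfl⟩ := MaxTv.exists_form hQ₀
  have h2 : (2 : F) ≠ 0 := MaxTv.two_ne_zero_of_card_odd hodd
  have hnd := MaxTv.nd_of_isNondegenerateQuadraticForm hQ₀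
  obtain ⟨c, hc, hT⟩ := hT
  obtain ⟨e', he'⟩ : ∃ e' : ι ≃ Fin 3 × Fin 3, e' = e.trans pairEquiv := ⟨_, rfl⟩
  set ψ : GL (Fin 3 × Fin 3) F ≃* GL ι F := (Geo.glReindex e'.symm).trans (MulAut.conj P) with hψ
  set E := coordEquiv e' P with hE
  have hcompat : ∀ g t, (ψ g : Matrix ι ι F) *ᵥ E t = E ((g : Mn) *ᵥ t) := fun g t => coord_compat e' P g t
  have hψe : ∀ g : GL (Fin 2 → Fin 3) F, ψ (Geo.glReindex pairEquiv g) = P * Geo.glReindex e.symm g * P⁻¹ := fun g => by
    show P * Geo.glReindex e'.symm (Geo.glReindex pairEquiv g) * P⁻¹ = _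
    congr 2
    refine Units.ext (Matrix.ext fun i j => ?_)
    simp only [gl_reindex_apply, he', Equiv.symm_symm, Equiv.trans_apply, Equiv.symm_apply_apply]
  have hS : Geo.tensorWreathSubgroup 3 2 e P = (hSub (F := F)).map ψ.toMonoidHom := by
    rw [← wreath_standard, Subgroup.map_map, Geo.tensorWreathSubgroup, Subgroup.map_map]
    congr 1
    exact MonoidHom.ext fun g => (hψe g).symm
  obtain ⟨f, hf⟩ : ∃ f : V → V → F, ∀ x y, f x y = c⁻¹ * QuadraticMap.polar ⇑Q (E x) (E y) := ⟨_, fun _ _ => rfl⟩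
  have hV : Sym f :=
    { add_left := fun x y v => by rw [hf, hf, hf, map_add, QuadraticMap.polar_add_left, mul_add]
      smul_left := fun a x v => by rw [hf, hf, map_smul, QuadraticMap.polar_smul_left, smul_eq_mul]; ring
      symm := fun x y => by rw [hf, hf, QuadraticMap.polar_comm]
      eq_zero := fun w hw => E.injective ((OrthAut.eq_zero_of_polar hnd fun z => by
        have h1 := hw (E.symm z)
        rw [hf, E.apply_symm_apply, mul_eq_zero] at h1
        rw [QuadraticMap.polar_comm, h1.resolve_left (inv_ne_zero hc)]).trans E.map_zero.symm) }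
  have hs : Sym f₁ := by simpa using sym_of_symmetricForm hf₁ (one_ne_zero (α := F))
  have hten : ∀ x x' y y', f (tmul x y) (tmul x' y') = f₁ x x' * f₁ y y' := fun x x' y y' => by
    have hval : ∀ u v : Fin 3 → F, E (tmul u v) = (P : Matrix ι ι F) *ᵥ ((fun a => u (a 0) * v (a 1)) ∘ e) :=
      fun u v => by rw [hE, coordEquiv_apply, he']; rfl
    rw [hf, hval, hval, hT, ← mul_assoc, inv_mul_cancel₀ hc, one_mul]
    calc _ = Geo.formOfGram id (Geo.gramMatrix f₁ ⊗ₖ Geo.gramMatrix f₁) (tmul x y) (tmul x' y') := by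
          unfold Geo.formOfGram
          refine Fintype.sum_equiv pairEquiv _ _ fun a => Fintype.sum_equiv pairEquiv _ _ fun b => ?_
          rw [Fin.prod_univ_two, Matrix.kroneckerMap_apply]
          rfl
      _ = _ := by
          rw [← one_mul (Geo.formOfGram id _ _ _), formOfGram_tmul hf₁.bilinear hf₁.bilinear,
            gramMap_dot hf₁.bilinear, gramMap_dot hf₁.bilinear, one_mul, one_mul]
  have hQf : ∀ s, Q (E s) = c / 2 * f s s := fun s => by
    rw [hf, QuadraticMap.polar_self, nsmul_eq_mul]; field_simp; norm_num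
  set G : Subgroup (GL (Fin 3 × Fin 3) F) := (Geo.omegaGL ⇑Q).comap ψ.toMonoidHom with hG
  have hsq : ∀ g ∈ iso f, g * g ∈ G := fun g hg => by
    have hk : ψ g ∈ isometryGroup F ⇑Q := mem_isometryGroup.2 fun x => by
      obtain ⟨s, rfl⟩ := E.surjective x
      rw [hcompat, hQf, hQf, hg]
    have hk2 : (⟨ψ g, hk⟩ : isometryGroup F ⇑Q) * ⟨ψ g, hk⟩ ∈ Omega F ⇑Q := by
      rw [OrthAut.omega_eq_ker hnd (OrthAut.genQ_odd hnd h2), MonoidHom.mem_ker, map_mul]
      exact Prod.ext (Int.units_mul_self _) (Int.units_mul_self _)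
    show ψ (g * g) ∈ Geo.omegaGL ⇑Q
    rw [map_mul]
    exact MaxTv.mem_omegaGL_of hk2
  have hGi : G ≤ iso f := fun g hg s t => by
    have h : ∀ x, Q ((ψ g : Matrix ι ι F) *ᵥ x) = Q x := MaxTv.isometry_of_mem_omegaGL hg
    rw [hf, hf, ← hcompat, ← hcompat, QuadraticMap.polar, QuadraticMap.polar, ← Matrix.mulVec_add, h, h, h]
  have hdet : ∀ g ∈ G, (g : Mn).det = 1 := fun g hg => by
    have h := AschEven.det_one_of_omega (Q := Q) hg
    change ((P * Geo.glReindex e'.symm g * P⁻¹ : GL ι F) : Matrix ι ι F).det = 1 at h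
    rw [Units.val_mul, Units.val_mul, Matrix.det_units_conj] at h
    rw [← h]
    exact (Matrix.det_reindexAlgEquiv F F e'.symm (g : Mn)).symm
  have hW : ∀ M' : Subgroup (GL (Fin 3 × Fin 3) F), M' ≤ G → (∀ g ∈ G, IsKron g → g ∈ M') → Wr f₁ f G M' :=
    fun M' hle hmem =>
      { two := h2
        h5 := hq
        hs := hs
        hV := hV
        ten := hten
        sq := hsq
        gIso := hGi
        gdet := hdet
        le := hle
        mem := hmem }
  refine MaxTv.isMaximalIn_intro (fun g hg => hg.2) ?_ fun M hHM hMK g hg hgH => ?_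
  · intro hle
    obtain ⟨g, hgG, hgH⟩ := (hW G le_rfl fun _ h _ => h).not_inH
    have hin := (hle hgG).1
    rw [hS] at hin
    obtain ⟨k, hk, hke⟩ := hin
    exact hgH (ψ.injective hke ▸ hk)
  have W := hW (M.comap ψ.toMonoidHom) (fun k hk => hMK hk) fun k hk hkk => hHM ⟨hS ▸ ⟨k, Or.inl hkk, rfl⟩, hk⟩
  -- root elements on a line give everything
  have hfull : ∀ N : Subgroup (GL (Fin 3 × Fin 3) F), Wr f₁ f G N → ¬ NoRoot f₁ N →
      Geo.omegaGL ⇑Q ≤ N.map ψ.toMonoidHom := by
    intro N WN hN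
    have hcard : Fintype.card ι = 9 := by simp [Fintype.card_congr e]
    rintro _ ⟨k, hk, rfl⟩
    rw [SetLike.mem_coe, OrthAut.omega_eq_eR hnd h2 (by omega) (OrthAut.exists_singular_three hnd h2 (by omega))] at hk
    induction hk using Subgroup.closure_induction with
    | one => exact Subgroup.one_mem _
    | mul a b _ _ ha hb => rw [map_mul]; exact Subgroup.mul_mem _ ha hb
    | inv a _ ha => rw [map_inv]; exact Subgroup.inv_mem _ ha
    | mem k hk =>
      obtain ⟨x₀, w, h, hk'⟩ := hk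
      obtain ⟨v, hv⟩ := E.surjective x₀
      obtain ⟨t, ht⟩ := E.surjective w
      subst hv ht
      have hvv : f v v = 0 := by rw [hf, QuadraticMap.polar_self, h.1, smul_zero, mul_zero]
      obtain ⟨g', hg', hgx⟩ := WN.ovr.full hN (fun h4 => absurd h4 (by simp)) (fun _ => Fintype.card_fin 3) hvv
        (c • t) (by rw [hV.smul_left, hf, QuadraticMap.polar_comm, h.2, mul_zero, mul_zero])
      have heq : ((isometryGroup F ⇑Q).subtype k : GL ι F) = ψ g' := Units.ext (Matrix.ext_iff_mulVec.2 fun x => by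
        obtain ⟨s, rfl⟩ := E.surjective x
        show OrthAut.ogVal k *ᵥ _ = _
        rw [hk', OrthAut.eMat_mulVec, hcompat, hgx, hV.smul_left, hV.smul_right, hV.smul_right, map_sub, map_sub,
          map_add]
        simp only [map_smul, smul_smul, hf, QuadraticMap.polar_self, nsmul_eq_mul,
          QuadraticMap.polar_comm _ (E v), QuadraticMap.polar_comm _ (E t)]
        match_scalars <;> field_simp <;> ring)
      rw [heq]
      exact Subgroup.mem_map_of_mem _ hg'
  by_cases hN : NoRoot f₁ (M.comap ψ.toMonoidHom)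
  swap
  · obtain ⟨k, hk, rfl⟩ := hfull _ W hN (hMK hg)
    exact fun x hx => by
      obtain ⟨k', hk', rfl⟩ := hfull _ W hN hx
      exact hk'
  by_cases hN' : NoRoot f₁ ((M.comap ψ.toMonoidHom).comap swp)
  swap
  · intro x hx
    obtain ⟨k, rfl⟩ := ψ.surjective x
    have hkG : k ∈ G := hx
    obtain ⟨k', hk', e₁⟩ := hfull _ W.swap hN' (show ψ (swp k) ∈ Geo.omegaGL ⇑Q from W.swp_mem hkG)
    rw [show k' = swp k from ψ.injective e₁, SetLike.mem_coe, Subgroup.mem_comap, swp_swp] at hk'
    exact hk'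
  exfalso
  obtain ⟨μ, t, ht⟩ := exists_trip hs h2
  have S : Std f₁ f G (M.comap ψ.toMonoidHom) μ t := ⟨W, ht, hN, hN'⟩
  obtain ⟨k, rfl⟩ := ψ.surjective g
  exact hgH ⟨hS ▸ ⟨k, S.all_inH hg, rfl⟩, hMK hg⟩

end Cfsg.Agent.Classical.TensorWreath
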