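import Cfsg.Agent.Lib.Classical.MaxTensorOrthBase

/-!
Half turns of a three-dimensional orthogonal space and axes whose norm is in a fixed square class.
-/

set_option autoImplicit false
set_option linter.unusedSectionVars false

namespace Cfsg.Agent.Classical.TensorWreath

open Matrix Module MaxTv TensorOrth

variable {F : Type*} [Field F] [Fintype F]

local notation "V₃" => (Fin 3 → F)
local notation "M₃" => Matrix (Fin 3) (Fin 3) F

/-- The half turn about `a`. -/
def hr {h : (Fin 3 → F) → (Fin 3 → F) → F} (hs : Sym h) (a : Fin 3 → F) : (Fin 3 → F) →ₗ[F] (Fin 3 → F) :=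
  (2 / h a a) • (hs.lin a).smulRight a - LinearMap.id

/-- The norm of `a` is in the square class of `μ`. -/
def Good (h : (Fin 3 → F) → (Fin 3 → F) → F) (μ : F) (a : Fin 3 → F) : Prop :=
  ∃ s : F, s ≠ 0 ∧ h a a = μ * (s * s)

/-- An orthogonal basis of vectors of norm `μ`. -/
structure Trip (h : (Fin 3 → F) → (Fin 3 → F) → F) (μ : F) (t : Fin 3 → Fin 3 → F) : Prop where
  ne : μ ≠ 0
  norm : ∀ i, h (t i) (t i) = μ
  orth : ∀ i j, i ≠ j → h (t i) (t j) = 0

variable {h : (Fin 3 → F) → (Fin 3 → F) → F}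

theorem Good.ne {μ : F} (hμ : μ ≠ 0) {a : V₃} (ha : Good h μ a) : h a a ≠ 0 := by
  obtain ⟨s, hs, e⟩ := ha
  exact e ▸ mul_ne_zero hμ (mul_ne_zero hs hs)

theorem Trip.good {μ : F} {t : Fin 3 → V₃} (ht : Trip h μ t) (i : Fin 3) : Good h μ (t i) :=
  ⟨1, one_ne_zero, by rw [ht.norm, mul_one, mul_one]⟩

theorem Trip.aniso {μ : F} {t : Fin 3 → V₃} (ht : Trip h μ t) (i : Fin 3) : h (t i) (t i) ≠ 0 := by
  rw [ht.norm]; exact ht.ne

variable (hs : Sym h)
include hs

theorem hr_apply (a x : V₃) : hr hs a x = (2 / h a a * h x a) • a - x := by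
  simp [hr, Sym.lin_apply, smul_smul]

theorem hr_self {a : V₃} (ha : h a a ≠ 0) : hr hs a a = a := by
  rw [hr_apply, div_mul_cancel₀ _ ha, two_smul, add_sub_cancel_right]

theorem hr_perp {a x : V₃} (hx : h x a = 0) : hr hs a x = -x := by
  rw [hr_apply, hx, mul_zero, zero_smul, zero_sub]

theorem hr_hr {a : V₃} (ha : h a a ≠ 0) (x : V₃) : hr hs a (hr hs a x) = x := by
  rw [hr_apply hs a x, map_sub, map_smul, hr_self hs ha, hr_apply hs a x, sub_sub_cancel]

theorem hr_iso {a : V₃} (ha : h a a ≠ 0) (x y : V₃) : h (hr hs a x) (hr hs a y) = h x y := by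
  simp only [hr_apply, hs.sub_left, hs.sub_right, hs.smul_left, hs.smul_right, hs.symm a y]
  field_simp
  ring

theorem hr_smul {a : V₃} {c : F} (hc : c ≠ 0) : hr hs (c • a) = hr hs a := by
  refine LinearMap.ext fun x => ?_
  rw [hr_apply, hr_apply, hs.smul_left, hs.smul_right, hs.smul_right, smul_smul]
  congr 2
  field_simp

theorem exists_perp_two (a b : V₃) : ∃ v, v ≠ 0 ∧ h v a = 0 ∧ h v b = 0 := by
  obtain ⟨v, hv, hv0⟩ := Submodule.exists_mem_ne_zero_of_ne_bot (p := hs.perp2 a b) fun e => by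
    have := hs.finrank_perp2 a b
    rw [e, finrank_bot, Fintype.card_fin] at this
    omega
  exact ⟨v, hv0, hv.1, hv.2⟩

variable (h2 : (2 : F) ≠ 0)
include h2

theorem eq_neg_self {v : V₃} (hv : v = -v) : v = 0 := by
  rw [eq_neg_iff_add_eq_zero, ← two_smul F] at hv
  exact (smul_eq_zero.1 hv).resolve_left h2

/-- A half turn is not a scalar. -/
theorem hr_ne_scalar {a : V₃} (ha : h a a ≠ 0) (k : F) : ¬ ∀ x, hr hs a x = k • x := by
  intro e
  obtain ⟨v, hv0, hva, -⟩ := exists_perp_two hs a a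
  have h1 := e a
  have h3 := e v
  rw [hr_self hs ha] at h1
  rw [hr_perp hs hva] at h3
  have hk : k = 1 := by
    have ha0 : a ≠ 0 := fun e0 => ha (by rw [e0, hs.zero_left])
    exact smul_left_injective F ha0 (h1.symm.trans (one_smul F a).symm)
  rw [hk, one_smul] at h3
  exact hv0 (eq_neg_self hs h2 h3.symm)

/-- Proportional half turns are equal. -/
theorem hr_scal {a c : V₃} (ha : h a a ≠ 0) (hc : h c c ≠ 0) {k : F} (e : ∀ x, hr hs a x = k • hr hs c x) :
    hr hs a = hr hs c := by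
  obtain ⟨v, hv0, hva, hvc⟩ := exists_perp_two hs a c
  have h1 := e v
  rw [hr_perp hs hva, hr_perp hs hvc, smul_neg, neg_inj] at h1
  have hk : k = 1 := smul_left_injective F hv0 (h1.symm.trans (one_smul F v).symm)
  exact LinearMap.ext fun x => by rw [e, hk, one_smul]

/-- Half turns commuting up to a scalar commute, and their axes are equal or orthogonal. -/
theorem hr_comm {a c : V₃} (ha : h a a ≠ 0) (hc : h c c ≠ 0) {k : F}
    (e : ∀ x, hr hs a (hr hs c x) = k • hr hs c (hr hs a x)) : hr hs a = hr hs c ∨ h c a = 0 := by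
  obtain ⟨v, hv0, hva, hvc⟩ := exists_perp_two hs a c
  have h1 := e v
  rw [hr_perp hs hvc, map_neg, hr_perp hs hva, neg_neg, map_neg, hr_perp hs hvc, neg_neg] at h1
  have hk : k = 1 := smul_left_injective F hv0 (h1.symm.trans (one_smul F v).symm)
  by_cases hca : h c a = 0
  · exact Or.inr hca
  left
  obtain ⟨w, hw⟩ : ∃ w, w = hr hs a c := ⟨_, rfl⟩
  have hwf : hr hs c w = w := by
    have := e c
    rw [hr_self hs hc, hk, one_smul, ← hw] at this
    exact this.symm
  obtain ⟨l, hl⟩ : ∃ l, l = h w c / h c c := ⟨_, rfl⟩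
  have hwc : w = l • c := by
    rw [hr_apply, show 2 / h c c * h w c = 2 * l by rw [hl]; ring, sub_eq_iff_eq_add, ← two_smul F, ← smul_smul] at hwf
    exact (smul_right_injective _ h2 hwf).symm
  obtain ⟨m, hm⟩ : ∃ m, m = 2 / h a a * h c a := ⟨_, rfl⟩
  have hm0 : m ≠ 0 := hm ▸ mul_ne_zero (div_ne_zero h2 ha) hca
  rw [hw, hr_apply, ← hm] at hwc
  have hma : m • a = (l + 1) • c := by rw [add_smul, one_smul, ← hwc, sub_add_cancel]
  have hl1 : l + 1 ≠ 0 := fun e0 => by
    rw [e0, zero_smul, smul_eq_zero] at hma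
    exact ha (by rw [hma.resolve_left hm0, hs.zero_left])
  rw [← hr_smul hs hm0 (a := a), hma, hr_smul hs hl1]

theorem hr_eq_not_perp {a c : V₃} (hc : h c c ≠ 0) (e : hr hs a = hr hs c) : h c a ≠ 0 := by
  intro h0
  have h1 := LinearMap.congr_fun e c
  rw [hr_perp hs h0, hr_self hs hc] at h1
  exact hc (by rw [eq_neg_self hs h2 h1.symm, hs.zero_left])

/-- The axis of a half turn. -/
theorem hr_line {a c : V₃} (ha : h a a ≠ 0) (hc : h c c ≠ 0) (e : hr hs a = hr hs c) :
    ∃ k : F, k ≠ 0 ∧ c = k • a := by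
  have h1 := LinearMap.congr_fun e c
  rw [hr_self hs hc, hr_apply, sub_eq_iff_eq_add, ← two_smul F, mul_comm, mul_div_assoc', mul_comm _ (2 : F),
    mul_div_assoc, ← smul_smul] at h1
  refine ⟨h c a / h a a, div_ne_zero (hr_eq_not_perp hs h2 hc e) ha, (smul_right_injective _ h2 h1).symm⟩

theorem good_congr {μ : F} {a c : V₃} (ha : Good h μ a) (hμ : μ ≠ 0) (hc : h c c ≠ 0) (e : hr hs a = hr hs c) :
    Good h μ c := by
  obtain ⟨k, hk, rfl⟩ := hr_line hs h2 (ha.ne hμ) hc e
  obtain ⟨s, hs0, hse⟩ := ha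
  exact ⟨k * s, mul_ne_zero hk hs0, by rw [hs.smul_left, hs.smul_right, hse]; ring⟩

/-- Three pairwise orthogonal anisotropic vectors are a basis. -/
theorem ortho_basis {a b c : V₃} (ha : h a a ≠ 0) (hb : h b b ≠ 0) (hc : h c c ≠ 0) (hab : h a b = 0)
    (hac : h a c = 0) (hbc : h b c = 0) (x : V₃) :
    x = (h x a / h a a) • a + (h x b / h b b) • b + (h x c / h c c) • c := by
  have hli : LinearIndependent F ![a, b, c] := by
    refine Fintype.linearIndependent_iff.2 fun g hg i => ?_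
    rw [Fin.sum_univ_three] at hg
    have k0 := congrArg (fun v => h v a) hg
    have k1 := congrArg (fun v => h v b) hg
    have k2 := congrArg (fun v => h v c) hg
    simp only [Matrix.cons_val_zero, Matrix.cons_val_one, Matrix.cons_val, hs.add_left, hs.smul_left,
      hs.zero_left, hab, hac, hbc, hs.symm b a, hs.symm c a, hs.symm c b, mul_zero, add_zero, zero_add] at k0 k1 k2
    fin_cases i
    exacts [(mul_eq_zero.1 k0).resolve_right ha, (mul_eq_zero.1 k1).resolve_right hb,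
      (mul_eq_zero.1 k2).resolve_right hc]
  have htop : Submodule.span F (Set.range ![a, b, c]) = ⊤ :=
    hli.span_eq_top_of_card_eq_finrank' (by rw [Fintype.card_fin, Module.finrank_fin_fun])
  obtain ⟨g, hg⟩ := (Submodule.mem_span_range_iff_exists_fun F).1 (htop ▸ Submodule.mem_top : x ∈ _)
  rw [Fin.sum_univ_three] at hg
  simp only [Matrix.cons_val_zero, Matrix.cons_val_one, Matrix.cons_val] at hg
  rw [← hg]
  simp only [hs.add_left, hs.smul_left, hab, hac, hbc, hs.symm b a, hs.symm c a, hs.symm c b, mul_zero, add_zero,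
    zero_add, mul_div_cancel_right₀ _ ha, mul_div_cancel_right₀ _ hb, mul_div_cancel_right₀ _ hc]

theorem exists_third_axis {a b : V₃} (ha : h a a ≠ 0) (hb : h b b ≠ 0) (hab : h a b = 0) :
    ∃ d, h d d ≠ 0 ∧ h d a = 0 ∧ h d b = 0 := by
  have hW := hs.ndOn_inf_ker hs.ndOn_top (a := a) trivial ha
  have hW2 := hs.ndOn_inf_ker hW (a := b) ⟨trivial, show h b a = 0 by rw [hs.symm, hab]⟩ hb
  obtain ⟨d, hd, hdd⟩ := hs.exists_aniso h2 hW2 (by
    obtain ⟨v, hv0, hva, hvb⟩ := exists_perp_two hs a b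
    exact ⟨v, ⟨⟨trivial, hva⟩, hvb⟩, hv0⟩)
  exact ⟨d, hdd, hd.1.2, hd.2⟩

/-- The product of two half turns with orthogonal axes. -/
theorem hr_mul {a c d : V₃} (ha : h a a ≠ 0) (hc : h c c ≠ 0) (hd : h d d ≠ 0) (hac : h a c = 0) (hda : h d a = 0)
    (hdc : h d c = 0) (x : V₃) : hr hs a (hr hs c x) = hr hs d x := by
  have hca : h c a = 0 := by rw [hs.symm, hac]
  have had : h a d = 0 := by rw [hs.symm, hda]
  have hcd : h c d = 0 := by rw [hs.symm, hdc]
  rw [ortho_basis hs h2 ha hc hd hac had hcd x]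
  simp only [map_add, map_smul, map_neg, hr_self hs ha, hr_self hs hc, hr_self hs hd, hr_perp hs hca, hr_perp hs hac,
    hr_perp hs hda, hr_perp hs hdc, hr_perp hs had, hr_perp hs hcd, neg_neg]

/-- Discriminants. -/
theorem prod_square {μ : F} {t w : Fin 3 → V₃} (ht : Trip h μ t) (r : Fin 3 → F)
    (hw : ∀ i j, h (w i) (w j) = if i = j then μ * r i else 0) : ∃ D : F, r 0 * r 1 * r 2 = D * D := by
  obtain ⟨C, hC⟩ : ∃ C : M₃, C = Matrix.of fun i k => h (w i) (t k) / μ := ⟨_, rfl⟩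
  have hCk : ∀ i k, C i k = h (w i) (t k) / μ := fun i k => by rw [hC]; rfl
  have hμ := ht.ne
  have hbasis : ∀ i, w i = C i 0 • t 0 + C i 1 • t 1 + C i 2 • t 2 := fun i => by
    have := ortho_basis hs h2 (ht.aniso 0) (ht.aniso 1) (ht.aniso 2) (ht.orth 0 1 (by decide))
      (ht.orth 0 2 (by decide)) (ht.orth 1 2 (by decide)) (w i)
    rw [ht.norm, ht.norm, ht.norm, ← hCk, ← hCk, ← hCk] at this
    exact this
  have hCC : C * Cᵀ = Matrix.diagonal r := by
    ext i j
    have h1 : h (w i) (w j) = μ * (C i 0 * C j 0 + C i 1 * C j 1 + C i 2 * C j 2) := by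
      conv_lhs => rw [hbasis i, hbasis j]
      simp only [hs.add_left, hs.add_right, hs.smul_left, hs.smul_right, ht.norm,
        ht.orth 0 1 (by decide), ht.orth 1 0 (by decide), ht.orth 0 2 (by decide), ht.orth 2 0 (by decide),
        ht.orth 1 2 (by decide), ht.orth 2 1 (by decide)]
      ring
    rw [Matrix.mul_apply, Fin.sum_univ_three]
    simp only [Matrix.transpose_apply]
    apply mul_left_cancel₀ hμ
    rw [← h1, hw]
    by_cases hij : i = j
    · subst hij; simp
    · simp [hij]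
  refine ⟨C.det, ?_⟩
  have := congrArg Matrix.det hCC
  rw [Matrix.det_mul, Matrix.det_transpose, Matrix.det_diagonal, Fin.prod_univ_three] at this
  exact this.symm

/-- An orthogonal basis of vectors of equal norm. -/
theorem exists_trip : ∃ μ : F, ∃ t : Fin 3 → V₃, Trip h μ t := by
  obtain ⟨b, c, hbb, hcc, hcb⟩ := hs.exists_hyp h2 (by rw [Fintype.card_fin])
  obtain ⟨e, he, hee⟩ := hs.exists_aniso h2 (hs.ndOn_perp2 hcc hbb hcb) (Submodule.exists_mem_ne_zero_of_ne_bot
    fun e => by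
      have := hs.finrank_perp2 c b
      rw [e, finrank_bot, Fintype.card_fin] at this
      omega)
  have hbc : h b c = 1 := by rw [hs.symm, hcb]
  have hec : h e c = 0 := he.1
  have heb : h e b = 0 := he.2
  obtain ⟨x, y, hxy⟩ := exists_sq_sq h2 (one_ne_zero (α := F)) one_ne_zero 1
  obtain ⟨μ, hμ⟩ : ∃ μ, μ = -h e e := ⟨_, rfl⟩
  obtain ⟨p, hp⟩ : ∃ p, p = b + (-(μ / 2)) • c := ⟨_, rfl⟩
  refine ⟨μ, ![b + (μ / 2) • c, x • e + y • p, (-y) • e + x • p], ⟨hμ ▸ neg_ne_zero.2 hee, fun i => ?_,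
    fun i j hij => ?_⟩⟩
  · fin_cases i <;>
    simp only [Fin.isValue, Matrix.cons_val, hp, hs.add_left, hs.add_right, hs.smul_left, hs.smul_right, hbb, hcc,
      hbc, hcb, hec, heb, hs.symm b e, hs.symm c e, hμ, Fin.zero_eta, Fin.mk_one, Matrix.cons_val_zero,
      Matrix.cons_val_one, Fin.reduceFinMk] <;> field_simp
    · ring
    · linear_combination (4 * h e e) * hxy
    · linear_combination (4 * h e e) * hxy
  · fin_cases i <;> fin_cases j <;> first
      | exact absurd rfl hij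
      | (simp only [Fin.isValue, Matrix.cons_val, hp, hs.add_left, hs.add_right, hs.smul_left, hs.smul_right, hbb, hcc,
          hbc, hcb, hec, heb, hs.symm b e, hs.symm c e, hμ, Fin.zero_eta, Fin.mk_one, Matrix.cons_val_zero,
          Matrix.cons_val_one, Fin.reduceFinMk]; field_simp; ring)

/-- Every good axis lies in a triple. -/
theorem trip_at {μ : F} {t : Fin 3 → V₃} (ht : Trip h μ t) {a : V₃} (ha : Good h μ a) :
    ∃ t' : Fin 3 → V₃, Trip h μ t' ∧ hr hs (t' 0) = hr hs a := by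
  obtain ⟨s, hs0, hse⟩ := ha
  obtain ⟨c, hc⟩ : ∃ c, c = s⁻¹ • a := ⟨_, rfl⟩
  have hcn : h c c = μ := by rw [hc, hs.smul_left, hs.smul_right, hse]; field_simp
  have hca : hr hs c = hr hs a := hc ▸ hr_smul hs (inv_ne_zero hs0)
  suffices hm : ∃ v ε, h v v ≠ 0 ∧ (ε = 1 ∨ ε = -1) ∧ hr hs v (t 0) = (ε : F) • c by
    obtain ⟨v, ε, hv, hε, hvt⟩ := hm
    refine ⟨fun i => hr hs v (t i), ⟨ht.ne, fun i => by rw [hr_iso hs hv, ht.norm], fun i j hij => by
      rw [hr_iso hs hv, ht.orth i j hij]⟩, ?_⟩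
    show hr hs (hr hs v (t 0)) = _
    rw [hvt, hr_smul hs (by rcases hε with rfl | rfl <;> simp), hca]
  by_cases hp : h (c + t 0) (c + t 0) = 0
  · refine ⟨c - t 0, -1, fun hm => ht.ne ?_, Or.inr rfl, ?_⟩
    · rw [hs.add_left, hs.add_right, hs.add_right, hcn, ht.norm] at hp
      rw [hs.sub_left, hs.sub_right, hs.sub_right, hcn, ht.norm] at hm
      have : (2 : F) * (2 * μ) = 0 := by linear_combination hp + hm
      exact (mul_eq_zero.1 ((mul_eq_zero.1 this).resolve_left h2)).resolve_left h2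
    · rw [hs.add_left, hs.add_right, hs.add_right, hcn, ht.norm, hs.symm (t 0) c] at hp
      have e1 : h c (t 0) = -μ :=
        mul_left_cancel₀ h2 (show (2 : F) * h c (t 0) = 2 * -μ by linear_combination hp)
      have hk : 2 / h (c - t 0) (c - t 0) * h (t 0) (c - t 0) = -1 := by
        have hv : h (c - t 0) (c - t 0) = (2 * μ) * 2 := by
          simp only [hs.sub_left, hs.sub_right, hcn, ht.norm, hs.symm (t 0) c, e1]; ring
        have hv' : h (t 0) (c - t 0) = -(2 * μ) := by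
          simp only [hs.sub_right, ht.norm, hs.symm (t 0) c, e1]; ring
        have h2μ : (2 : F) * μ ≠ 0 := mul_ne_zero h2 ht.ne
        rw [hv, hv', show (2 : F) / (2 * μ * 2) * -(2 * μ) = -((2 * μ * 2) / (2 * μ * 2)) by ring,
          div_self (mul_ne_zero h2μ h2)]
      rw [hr_apply, hk]
      module
  · refine ⟨c + t 0, 1, hp, Or.inl rfl, ?_⟩
    simp only [hs.add_left, hs.add_right, hcn, ht.norm, hs.symm (t 0) c] at hp
    rw [hr_apply]
    simp only [hs.add_left, hs.add_right, hcn, ht.norm, hs.symm (t 0) c]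
    match_scalars <;> field_simp <;> ring

/-- The third axis of two good orthogonal axes is good. -/
theorem third_good {μ : F} {t : Fin 3 → V₃} (ht : Trip h μ t) {a d x : V₃} (ha : Good h μ a) (hd : Good h μ d)
    (hx : h x x ≠ 0) (had : h a d = 0) (hxa : h x a = 0) (hxd : h x d = 0) : Good h μ x := by
  obtain ⟨s, hs0, hse⟩ := ha
  obtain ⟨r, hr0, hre⟩ := hd
  obtain ⟨D, hD⟩ := prod_square hs h2 ht (w := ![a, d, x]) ![s * s, r * r, h x x / μ] fun i j => by
    have := ht.ne
    fin_cases i <;> fin_cases j <;>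
      simp [hse, hre, hs.symm d a, hs.symm a x, hs.symm d x, had, hxa, hxd, mul_div_cancel₀ _ this]
  simp only [Matrix.cons_val_zero, Matrix.cons_val_one, Matrix.cons_val] at hD
  have hμ := ht.ne
  have hD0 : D ≠ 0 := fun e => by
    rw [e, mul_zero] at hD
    simp [hs0, hr0, hx, hμ] at hD
  refine ⟨D / (s * r), div_ne_zero hD0 (mul_ne_zero hs0 hr0), ?_⟩
  field_simp at hD ⊢
  linear_combination hD

/-- Similitudes preserve good axes. -/
theorem good_sim {μ : F} {t : Fin 3 → V₃} (ht : Trip h μ t) {ν : F} (hν : ν ≠ 0) (T : V₃ → V₃)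
    (hT : ∀ x y, h (T x) (T y) = ν * h x y) {a : V₃} (ha : Good h μ a) : Good h μ (T a) := by
  obtain ⟨D, hD⟩ := prod_square hs h2 ht (w := fun i => T (t i)) (fun _ => ν) fun i j => by
    rw [hT]
    by_cases hij : i = j
    · subst hij; rw [if_pos rfl, ht.norm, mul_comm]
    · rw [if_neg hij, ht.orth i j hij, mul_zero]
  obtain ⟨s, hs0, hse⟩ := ha
  have hD0 : D ≠ 0 := fun e => by simp [e, hν] at hD
  refine ⟨D / ν * s, mul_ne_zero (div_ne_zero hD0 hν) hs0, ?_⟩
  rw [hT, hse]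
  field_simp
  linear_combination μ * hD

/-- A good half turn is the square of an isometry. -/
theorem exists_quarter {μ : F} {t : Fin 3 → V₃} (ht : Trip h μ t) {a : V₃} (ha : Good h μ a) :
    ∃ q : GL (Fin 3) F, q ∈ iso h ∧ ∀ x, (q : M₃) *ᵥ ((q : M₃) *ᵥ x) = hr hs a x := by
  obtain ⟨t, ht, e0⟩ := trip_at hs h2 ht ha
  have hμ := ht.ne
  let L : V₃ →ₗ[F] V₃ := μ⁻¹ • ((hs.lin (t 0)).smulRight (t 0) + (hs.lin (t 1)).smulRight (t 2) -
    (hs.lin (t 2)).smulRight (t 1))
  have hL : ∀ x, L x = μ⁻¹ • (h x (t 0) • t 0 + h x (t 1) • t 2 - h x (t 2) • t 1) := fun x => by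
    simp [L, Sym.lin_apply]
  have hb := ortho_basis hs h2 (ht.aniso 0) (ht.aniso 1) (ht.aniso 2) (ht.orth 0 1 (by decide))
    (ht.orth 0 2 (by decide)) (ht.orth 1 2 (by decide))
  have hLi : ∀ x y, h (L x) (L y) = h x y := fun x y => by
    conv_rhs => rw [hb x, hb y]
    simp only [hL, hs.smul_left, hs.smul_right, hs.add_left, hs.add_right, hs.sub_left, hs.sub_right, ht.norm,
      ht.orth 0 1 (by decide), ht.orth 1 0 (by decide), ht.orth 0 2 (by decide), ht.orth 2 0 (by decide),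
      ht.orth 1 2 (by decide), ht.orth 2 1 (by decide)]
    field_simp
    ring
  obtain ⟨q, hq⟩ := exists_gl_of_injective L fun x y e => hs.eq_of_forall fun z => by rw [← hLi x, ← hLi y, e]
  refine ⟨q, fun x y => by rw [hq, hq, hLi], fun x => ?_⟩
  rw [← e0, hq, hq, hr_apply, hL x, hL]
  conv_rhs => arg 2; rw [hb x]
  simp only [hs.smul_left, hs.add_left, hs.sub_left, ht.norm, ht.orth 0 1 (by decide), ht.orth 1 0 (by decide),
    ht.orth 0 2 (by decide), ht.orth 2 0 (by decide), ht.orth 1 2 (by decide), ht.orth 2 1 (by decide)]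
  match_scalars <;> field_simp <;> ring

/-- An isometry of order three permuting a triple cyclically. -/
theorem exists_cycle {μ : F} {t : Fin 3 → V₃} (ht : Trip h μ t) :
    ∃ ρ : GL (Fin 3) F, ρ ∈ iso h ∧ (∀ i, (ρ : M₃) *ᵥ t i = t (i + 1)) ∧
      ∀ x, (ρ : M₃) *ᵥ ((ρ : M₃) *ᵥ ((ρ : M₃) *ᵥ x)) = x := by
  have hμ := ht.ne
  let L : V₃ →ₗ[F] V₃ := μ⁻¹ • ((hs.lin (t 0)).smulRight (t 1) + (hs.lin (t 1)).smulRight (t 2) +
    (hs.lin (t 2)).smulRight (t 0))
  have hL : ∀ x, L x = μ⁻¹ • (h x (t 0) • t 1 + h x (t 1) • t 2 + h x (t 2) • t 0) := fun x => by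
    simp [L, Sym.lin_apply]
  have hb := ortho_basis hs h2 (ht.aniso 0) (ht.aniso 1) (ht.aniso 2) (ht.orth 0 1 (by decide))
    (ht.orth 0 2 (by decide)) (ht.orth 1 2 (by decide))
  have hLt : ∀ i, L (t i) = t (i + 1) := fun i => by
    fin_cases i <;> simp [hL, ht.norm, ht.orth, hμ]
  have hLi : ∀ x y, h (L x) (L y) = h x y := fun x y => by
    conv_rhs => rw [hb x, hb y]
    simp only [hL, hs.smul_left, hs.smul_right, hs.add_left, hs.add_right, ht.norm,
      ht.orth 0 1 (by decide), ht.orth 1 0 (by decide), ht.orth 0 2 (by decide), ht.orth 2 0 (by decide),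
      ht.orth 1 2 (by decide), ht.orth 2 1 (by decide)]
    field_simp
  obtain ⟨ρ, hρ⟩ := exists_gl_of_injective L fun x y e => hs.eq_of_forall fun z => by rw [← hLi x, ← hLi y, e]
  refine ⟨ρ, fun x y => by rw [hρ, hρ, hLi], fun i => by rw [hρ, hLt], fun x => ?_⟩
  rw [hρ, hρ, hρ]
  conv_lhs => rw [hb x]
  conv_rhs => rw [hb x]
  simp only [map_add, map_smul, hLt]
  rfl

/-- A good axis with all coordinates non-zero in a triple. -/
theorem exists_skew_axis {μ : F} {t : Fin 3 → V₃} (ht : Trip h μ t) (h5 : 5 ≤ Fintype.card F) :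
    ∃ u, Good h μ u ∧ ∀ i, h u (t i) ≠ 0 := by
  classical
  obtain ⟨r, hr0, hr4⟩ : ∃ r : F, r ≠ 0 ∧ r * r * (r * r) ≠ 4 := by
    by_cases h14 : (1 : F) * 1 * (1 * 1) ≠ 4
    · exact ⟨1, one_ne_zero, h14⟩
    push Not at h14
    have h3 : (3 : F) = 0 := by linear_combination -h14
    by_contra hc
    push Not at hc
    have hne5 : Fintype.card F ≠ 5 := fun e => by
      have := FiniteField.cast_card_eq_zero F
      rw [e] at this
      norm_num at this
      exact h2 (by linear_combination this - h3)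
    have hroots : ∀ x : F, x = 0 ∨ x ∈ ((Polynomial.X ^ 4 - Polynomial.C (4 : F)).roots.toFinset) := fun x => by
      rcases eq_or_ne x 0 with hx | hx
      · exact Or.inl hx
      · right
        rw [Multiset.mem_toFinset, Polynomial.mem_roots (Polynomial.X_pow_sub_C_ne_zero (by norm_num) _)]
        simp only [Polynomial.IsRoot, Polynomial.eval_sub, Polynomial.eval_pow, Polynomial.eval_X, Polynomial.eval_C]
        linear_combination hc x hx
    have hle : Fintype.card F ≤ 5 := by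
      rw [← Finset.card_univ]
      refine (Finset.card_le_card (t := insert 0 ((Polynomial.X ^ 4 - Polynomial.C (4 : F)).roots.toFinset))
        fun x _ => Finset.mem_insert.2 (hroots x)).trans ((Finset.card_insert_le _ _).trans ?_)
      refine Nat.succ_le_succ ((Multiset.toFinset_card_le _).trans ((Polynomial.card_roots' _).trans ?_))
      rw [Polynomial.natDegree_X_pow_sub_C]
    omega
  have h2r : (2 : F) * r ≠ 0 := mul_ne_zero h2 hr0
  obtain ⟨c, hc⟩ : ∃ c, c = (r * r - 2) / (2 * r) := ⟨_, rfl⟩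
  obtain ⟨s, hse⟩ : ∃ s, s = (r * r + 2) / (2 * r) := ⟨_, rfl⟩
  have hc0 : c ≠ 0 := hc ▸ div_ne_zero (fun e => hr4 (by linear_combination (r * r + 2) * e)) h2r
  have hs0 : s ≠ 0 := hse ▸ div_ne_zero (fun e => hr4 (by linear_combination (r * r - 2) * e)) h2r
  refine ⟨t 0 + t 1 + c • t 2, ⟨s, hs0, ?_⟩, fun i => ?_⟩
  · simp only [hs.add_left, hs.add_right, hs.smul_left, hs.smul_right, ht.norm,
      ht.orth 0 1 (by decide), ht.orth 1 0 (by decide), ht.orth 0 2 (by decide), ht.orth 2 0 (by decide),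
      ht.orth 1 2 (by decide), ht.orth 2 1 (by decide), hc, hse]
    field_simp
    ring
  · fin_cases i <;> simp [hs.add_left, hs.smul_left, ht.norm, ht.orth, ht.ne, hc0]

end Cfsg.Agent.Classical.TensorWreath
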