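import Cfsg.Agent.Lib.Classical.MaxTensorOrthCent
import Cfsg.Agent.Lib.Grp.HHCommute
import Cfsg.Agent.Lib.Grp.Coprime

/-!
Centralisers of half turns in overgroups of `O₃ ⊗ O₃` without root elements on a line.
-/

set_option autoImplicit false
set_option linter.unusedSectionVars false
set_option linter.style.haveILetI false

namespace Cfsg.Agent.Classical.TensorOrth

open Matrix Module MaxTv TensorMax Overfield
open scoped Kronecker
open Cfsg.Agent.Classical.TensorRoot (kg kg_apply kg_isKron)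

variable {F : Type*} [Field F] [Fintype F]

section Aux

variable {n : Type} [Fintype n] [DecidableEq n]

/-- An element `x` of order `p ≥ 5` with `(x - 1)³ = 0` centralises every subgroup of coprime order it normalises. -/
theorem commute_of_coprime_cube {p : ℕ} [Fact p.Prime] [CharP F p] (hp5 : 5 ≤ p) {x : GL n F} (hx : x ^ p = 1)
    (hx3 : ((x : Matrix n n F) - 1) ^ 3 = 0) {X : Subgroup (GL n F)}
    (hn : Subgroup.zpowers x ≤ Subgroup.normalizer (X : Set (GL n F)))
    (hcop : (Nat.card (Subgroup.zpowers x)).Coprime (Nat.card X)) : ∀ g ∈ X, g * x = x * g := by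
  classical
  rcases eq_or_ne x 1 with rfl | hx1
  · exact fun g _ => by rw [mul_one, one_mul]
  have hord : orderOf x = p := orderOf_eq_prime hx hx1
  let K := AlgebraicClosure F
  haveI : CharP K p := charP_of_injective_algebraMap (algebraMap F K).injective p
  let ρ : GL n F →* Module.End K (n → K) :=
    ((Matrix.toLinAlgEquiv' (R := K) (n := n)).toAlgHom.toMonoidHom.comp
      (algebraMap F K).mapMatrix.toMonoidHom).comp (Units.coeHom (Matrix n n F))
  have hinj : Function.Injective ρ := fun g g' h => Units.ext (Matrix.map_injective (algebraMap F K).injective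
    ((Matrix.toLinAlgEquiv' (R := K) (n := n)).injective h))
  have hs : (ρ x - 1) ^ 3 = 0 := by
    have h1 : ρ x - 1 = (Matrix.toLinAlgEquiv' (R := K) (n := n))
        ((algebraMap F K).mapMatrix ((x : Matrix n n F) - 1)) := by
      rw [map_sub, map_one, map_sub, map_one]; rfl
    rw [h1, ← map_pow, ← map_pow, hx3, map_zero, map_zero]
  have hle : X ≤ X ⊓ Subgroup.centralizer {x} := Grp.le_of_forall_sylow inf_le_left fun r hr => by
    obtain ⟨Q, hQ, hQn⟩ := Grp.exists_invariant_sylow (Subgroup.zpowers x) X hn hcop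
      (Or.inl inferInstance) r
    refine ⟨Q, hQ, fun g hg => ⟨hQ.1 hg, ?_⟩⟩
    show g ∈ Subgroup.centralizer {x}
    rw [Subgroup.mem_centralizer_singleton_iff]
    by_cases hrp : p = r
    · -- the Sylow subgroup is trivial
      subst hrp
      have h1 : ¬ p ∣ Nat.card X := fun hd => by
        have h2 : p ∣ Nat.card (Subgroup.zpowers x) := by rw [Nat.card_zpowers, hord]
        exact (Fact.out : p.Prime).one_lt.ne' (Nat.eq_one_of_dvd_coprimes hcop h2 hd)
      have hg1 : g = 1 := by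
        obtain ⟨k, hk⟩ := hQ.2.1 ⟨g, hg⟩
        have hk' : g ^ p ^ k = 1 := congrArg Subtype.val hk
        obtain ⟨i, -, hi⟩ := (Nat.dvd_prime_pow (Fact.out : p.Prime)).1 (orderOf_dvd_of_pow_eq_one hk')
        rcases Nat.eq_zero_or_pos i with rfl | hi0
        · exact orderOf_eq_one_iff.1 (by rw [hi, pow_zero])
        · exact absurd ((hi ▸ dvd_pow_self p hi0.ne' : p ∣ orderOf g).trans
            (Subgroup.orderOf_dvd_natCard _ (hQ.1 hg))) h1
      rw [hg1, mul_one, one_mul]
    have := Grp.HHExc.commute_of_norm (K := K) (p := p) (q := r) (by omega) hrp ρ hQ.2.1 (x := x)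
      (hQn (Subgroup.mem_zpowers x)) (m := 0) (by rwa [Nat.zero_add, pow_one]) (s := 3) hs
      (by rw [Nat.zero_add, pow_one]; omega) (Or.inr (Or.inr (Or.inr (by rw [Nat.zero_add, pow_one, pow_zero]; omega))))
      g hg
    have h3 := hinj this
    rw [pow_zero, pow_one, mul_inv_eq_iff_eq_mul] at h3
    exact h3.symm
  exact fun g hg => Subgroup.mem_centralizer_singleton_iff.1 (hle hg).2

/-- Linear maps of a three-dimensional space commuting with all Siegel maps are scalar. -/
theorem scalar_of_sieg_comm_three {h : (n → F) → (n → F) → F} (hs : Sym h) (h2 : (2 : F) ≠ 0)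
    (hn : Fintype.card n = 3) (T : (n → F) →ₗ[F] (n → F))
    (hT : ∀ g ∈ siegGrp h, ∀ x, T ((g : Matrix n n F) *ᵥ x) = (g : Matrix n n F) *ᵥ T x) :
    ∃ μ : F, ∀ x, T x = μ • x := by
  have hline : ∀ z, h z z = 0 → z ≠ 0 → ∃ c : F, T z = c • z := by
    intro z hz hz0
    obtain ⟨u, huu, hu⟩ := hs.exists_partner h2 hz hz0
    have hfix : ∀ y, h y z = 0 →
        h (T z) z • y - h (T z) y • z - (h y y / 2 * h (T z) z) • z = 0 := fun y hy => by
      obtain ⟨g, -, hg⟩ := hs.exists_sieg h2 hz hy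
      have h1 := hT g (Subgroup.subset_closure ⟨z, y, hz, hy, hg⟩) z
      rw [hs.IsSieg_fix hg hz (by rw [hs.symm, hy]), hg] at h1
      linear_combination (norm := abel) -h1
    obtain ⟨y, hy, hyy⟩ := hs.exists_aniso h2 (hs.ndOn_perp2 huu hz hu)
      (Submodule.exists_mem_ne_zero_of_ne_bot fun e => by
        have := hs.finrank_perp2 u z
        rw [e, finrank_bot] at *; omega)
    have h0 : h (T z) z = 0 := by
      have h1 := congrArg (fun v => h v y) (hfix y hy.2)
      simp only [hs.sub_left, hs.smul_left, hs.zero_left, hs.symm z y, (show h y z = 0 from hy.2), mul_zero,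
        sub_zero] at h1
      exact (mul_eq_zero.1 h1).resolve_right hyy
    refine hs.sesq.eq_smul_of_ker hz0 fun x hx => ?_
    have h1 := congrArg (fun v => h v u) (hfix x hx)
    simp only [h0, hs.sub_left, hs.smul_left, hs.zero_left, hs.symm z u, hu, zero_mul, mul_zero, mul_one, zero_sub,
      sub_zero, neg_eq_zero] at h1
    rw [hs.symm, h1]
  obtain ⟨z, c, hz, hcc, hcz⟩ := hs.exists_hyp h2 (by omega)
  have hz0 : z ≠ 0 := fun e => one_ne_zero (by rw [← hcz, e, hs.zero_right])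
  obtain ⟨μ, hμ⟩ := hline z hz hz0
  let p : Submodule F (n → F) := LinearMap.ker (T - μ • LinearMap.id)
  refine ⟨μ, fun x => ?_⟩
  have : x ∈ p := hs.mem_of_iso_all h2 (by omega) (fun v hv => by
    rcases eq_or_ne v 0 with rfl | hv0
    · exact p.zero_mem
    obtain ⟨g, hg, k, hk, hgv⟩ := hs.exists_move_line h2 hn hz0 hz hv0 hv
    show T v - μ • v = 0
    have h1 := hT g hg z
    rw [hgv, hμ, Matrix.mulVec_smul, hgv, map_smul, smul_comm μ k] at h1
    rw [smul_right_injective _ hk h1, sub_self]) x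
  exact sub_eq_zero.1 this

end Aux

variable {α β : Type} [Fintype α] [DecidableEq α] [Fintype β] [DecidableEq β]

local notation "V" => (α × β → F)
local notation "Mn" => Matrix (α × β) (α × β) F
local notation "Ma" => Matrix α α F
local notation "Mb" => Matrix β β F

variable {fA : (α → F) → (α → F) → F} {fB : (β → F) → (β → F) → F}
  {f : (α × β → F) → (α × β → F) → F} {G M : Subgroup (GL (α × β) F)}

variable (hO : Ovr fA fB f G M)
include hO

theorem Ovr.ne_zero_three (hb3 : Fintype.card β = 3) : ∃ y : β → F, y ≠ 0 := by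
  obtain ⟨j⟩ : Nonempty β := Fintype.card_pos_iff.1 (by omega)
  exact ⟨Pi.single j 1, by simp⟩

/-- The middle line is anisotropic. -/
theorem Ovr.aniso_middle_three (hb3 : Fintype.card β = 3) {z u w : β → F} (hz : fB z z = 0) (huu : fB u u = 0)
    (hu : fB u z = 1) (hwu : fB w u = 0) (hwz : fB w z = 0) (hww : fB w w = 0) : w = 0 := by
  have hs := hO.hB
  obtain ⟨c, hc, hcc⟩ := hs.exists_aniso hO.two (hs.ndOn_perp2 huu hz hu)
    (Submodule.exists_mem_ne_zero_of_ne_bot fun e => by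
      have := hs.finrank_perp2 u z
      rw [e, finrank_bot] at *; omega)
  have h1 := hs.three_basis hb3 hz huu hu hc.1 hc.2 hcc w
  rw [hwu, hwz, zero_smul, zero_smul, zero_add, zero_add] at h1
  rw [h1, hs.smul_left, hs.smul_right] at hww
  rcases mul_eq_zero.1 hww with h | h
  · rw [h1, h, zero_smul]
  · rw [h1, (mul_eq_zero.1 h).resolve_right hcc, zero_smul]

theorem Ovr.el_cube {z w : β → F} (hz : fB z z = 0) (hw : fB w z = 0) {g : GL (α × β) F} (hg : IsEl fB g z w) :
    ((g : Mn) - 1) ^ 3 = 0 := by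
  obtain ⟨B, -, hB⟩ := hO.hB.exists_sieg hO.two hz hw
  let N : V →ₗ[F] V := Matrix.toLin' ((g : Mn) - 1)
  have hN : ∀ x y, N (tmul x y) = tmul x (((B : Mb) - 1) *ᵥ y) := fun x y => by
    simp only [N, Matrix.toLin'_apply, Matrix.sub_mulVec, hg x y, hB y, Matrix.one_mulVec, tmul_sub_right]
  have h3 : N.comp (N.comp N) = 0 := ext_pure fun x y => by
    simp only [LinearMap.comp_apply, hN, hO.hB.sieg_cube hO.two hB hz hw, tmul_zero_right, LinearMap.zero_apply]
  exact Matrix.ext_iff_mulVec.2 fun t => by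
    rw [pow_succ, pow_two, ← Matrix.mulVec_mulVec, ← Matrix.mulVec_mulVec, Matrix.zero_mulVec]
    exact LinearMap.congr_fun h3 t

theorem Ovr.el_pow {p : ℕ} [Fact p.Prime] [CharP F p] {z w : β → F} (hz : fB z z = 0) (hw : fB w z = 0)
    {g : GL (α × β) F} (hg : IsEl fB g z w) : g ^ p = 1 :=
  pow_char_eq_one hO.two (hO.el_cube hz hw hg)

/-- The Siegel maps at a singular point of the second factor. -/
theorem Ovr.exists_unipotent_three (hb3 : Fintype.card β = 3) {p : ℕ} [Fact p.Prime] [CharP F p] {z u : β → F}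
    (hz : fB z z = 0) (huu : fB u u = 0) (hu : fB u z = 1) :
    ∃ U : Subgroup (GL (α × β) F), U ≤ M ∧ IsMulCommutative U ∧ (∃ e ∈ U, e ≠ 1) ∧
      (p * p ≤ Fintype.card F → ¬ IsCyclic U) ∧ IsPGroup p U ∧
      ∀ g ∈ U, ∃ w, fB w z = 0 ∧ fB w u = 0 ∧ IsEl fB g z w := by
  classical
  have hs := hO.hB
  obtain ⟨W, hW⟩ : ∃ W, W = hs.perp2 u z := ⟨_, rfl⟩
  have hWm : ∀ w, w ∈ W ↔ fB w u = 0 ∧ fB w z = 0 := fun w => by rw [hW]; rfl
  choose E hEM hE using fun w : W => hO.exists_el hz ((hWm w).1 w.2).2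
  have hEadd : ∀ w w' : W, E (w + w') = E w * E w' := fun w w' =>
    IsEl.unique (hE _) ((hE w).mul hO (hE w') hz ((hWm w).1 w.2).2 ((hWm w').1 w'.2).2)
  let φ : Multiplicative W →* GL (α × β) F :=
    MonoidHom.mk' (fun w => E w.toAdd) fun w w' => hEadd _ _
  have hφi : Function.Injective φ := by
    rw [injective_iff_map_eq_one]
    intro w hw
    refine congrArg Multiplicative.ofAdd (show w.toAdd = 0 from Subtype.ext ?_)
    refine hO.aniso_middle_three hb3 hz huu hu ((hWm _).1 w.toAdd.2).1 ((hWm _).1 w.toAdd.2).2 ?_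
    obtain ⟨i⟩ := hO.nonempty
    have h1 := hE w.toAdd (Pi.single i 1) u
    rw [show E w.toAdd = 1 from hw, Units.val_one, Matrix.one_mulVec, hu, hs.symm u (w.toAdd : β → F),
      ((hWm _).1 w.toAdd.2).1] at h1
    obtain ⟨ξ, hξ⟩ := TensorMax.exists_dual (show (Pi.single i (1 : F) : α → F) ≠ 0 by simp)
    have h3 := congrArg (fun t => fB (lslice ξ t) (w.toAdd : β → F)) h1
    simp only [lslice_tmul, hξ, one_smul, zero_smul, sub_zero, hs.add_left, hs.sub_left, hs.smul_left,
      hs.symm z (w.toAdd : β → F), ((hWm _).1 w.toAdd.2).2, mul_zero] at h3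
    linear_combination -h3
  have hp : IsPGroup p (Multiplicative W) := fun w => ⟨1, by
    rw [pow_one]
    refine congrArg Multiplicative.ofAdd (show p • w.toAdd = 0 from ?_)
    rw [← Nat.cast_smul_eq_nsmul F, CharP.cast_eq_zero, zero_smul]⟩
  have hd : 1 ≤ finrank F W := by
    have := hs.finrank_perp2 u z
    rw [hW]; omega
  have hcard : Fintype.card F ≤ Nat.card W := by
    rw [Module.natCard_eq_pow_finrank (K := F), ← Nat.card_eq_fintype_card]
    exact Nat.le_self_pow (by omega) _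
  refine ⟨φ.range, ?_, ⟨⟨?_⟩⟩, ?_, ?_, hp.of_surjective φ.rangeRestrict φ.rangeRestrict_surjective, ?_⟩
  · rintro _ ⟨w, rfl⟩
    exact hEM _
  · rintro ⟨_, a, rfl⟩ ⟨_, b, rfl⟩
    exact Subtype.ext (by rw [Subgroup.coe_mul, Subgroup.coe_mul, ← map_mul φ, ← map_mul φ, mul_comm])
  · obtain ⟨w, hw, hw0⟩ := Submodule.exists_mem_ne_zero_of_ne_bot (p := W) fun e => by
      rw [e, finrank_bot] at hd; omega
    refine ⟨φ (Multiplicative.ofAdd ⟨w, hw⟩), ⟨_, rfl⟩, fun e => hw0 ?_⟩
    exact congrArg (fun t : Multiplicative W => (t.toAdd : β → F)) (hφi (e.trans (map_one φ).symm))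
  · intro hq hc
    haveI : IsCyclic (Multiplicative W) :=
      isCyclic_of_injective φ.rangeRestrict fun a b e => hφi (congrArg Subtype.val e)
    obtain ⟨g, hg⟩ := IsCyclic.exists_generator (α := Multiplicative W)
    have hle : Nat.card W ≤ p := by
      have h1 : Nat.card (Multiplicative W) = orderOf g := (orderOf_eq_card_of_forall_mem_zpowers hg).symm
      calc Nat.card W = orderOf g := h1
        _ ≤ p := orderOf_le_of_pow_eq_one (Fact.out : p.Prime).pos (congrArg Multiplicative.ofAdd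
          (show p • g.toAdd = 0 by rw [← Nat.cast_smul_eq_nsmul F, CharP.cast_eq_zero, zero_smul]))
    have h2p := (Fact.out : p.Prime).two_le
    nlinarith
  · rintro _ ⟨w, rfl⟩
    exact ⟨_, ((hWm _).1 w.toAdd.2).2, ((hWm _).1 w.toAdd.2).1, hE _⟩

variable (hN : NoRoot fB M)
include hN

/-- The centraliser of a half turn consists of products. -/
theorem Ovr.cent_half_three (hb3 : Fintype.card β = 3) (h3 : Fintype.card α = 3) (h5 : 5 ≤ Fintype.card F) {R : GL (α × β) F} {a : α → F}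
    (hR : IsRm fA R a) (ha : fA a a ≠ 0) {g : GL (α × β) F} (hg : g ∈ M) (hc : g * R = R * g) : IsKron g := by
  classical
  have hs := hO.hB
  have h2 := hO.two
  have ha0 : a ≠ 0 := fun e => ha (by rw [e, hO.hA.zero_left])
  obtain ⟨p, hp⟩ := CharP.exists F
  haveI := hp
  haveI : Fact p.Prime := ⟨(CharP.char_is_prime_or_zero F p).resolve_right (CharP.char_ne_zero_of_finite F p)⟩
  let X : Subgroup (GL (α × β) F) :=
    { carrier := {x | x ∈ M ∧ x * R = R * x ∧ ∀ y, (x : Mn) *ᵥ tmul a y = tmul a y}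
      mul_mem' := fun {x x'} h h' => ⟨mul_mem h.1 h'.1, (Commute.mul_left h.2.1 h'.2.1 : Commute (x * x') R),
        fun y => by rw [Units.val_mul, ← Matrix.mulVec_mulVec, h'.2.2, h.2.2]⟩
      one_mem' := ⟨one_mem M, by rw [one_mul, mul_one], fun y => by simp⟩
      inv_mem' := fun {x} h => ⟨inv_mem h.1, (Commute.inv_left h.2.1 : Commute x⁻¹ R), fun y => by
        conv_lhs => rw [← h.2.2 y, inv_mulVec_cancel]⟩ }
  obtain ⟨z, u, hz, huu, hu⟩ := hs.exists_hyp h2 (by omega)
  have hz0 : z ≠ 0 := fun e => one_ne_zero (by rw [← hu, e, hs.zero_right])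
  obtain ⟨U, hUM, hUc, hUn, hUn', hUp, hUel⟩ := hO.exists_unipotent_three hb3 (p := p) hz huu hu
  haveI := hUc
  have hUR : ∀ e ∈ U, Commute e R := fun e he => by
    obtain ⟨w, -, -, hel⟩ := hUel e he
    refine ext_kron fun x y => ?_
    rw [Units.val_mul, Units.val_mul, ← Matrix.mulVec_mulVec, ← Matrix.mulVec_mulVec, hR.apply_tmul hO, hel, hel,
      hR.apply_tmul hO]
  have hUX : U ≤ Subgroup.normalizer (X : Set (GL (α × β) F)) := by
    have key : ∀ e ∈ U, ∀ x ∈ X, e * x * e⁻¹ ∈ X := fun e he x hx => by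
      refine ⟨mul_mem (mul_mem (hUM he) hx.1) (inv_mem (hUM he)),
        (((hUR e he).mul_left hx.2.1).mul_left (hUR e he).inv_left : Commute (e * x * e⁻¹) R), fun y => ?_⟩
      obtain ⟨w, -, -, hel⟩ := hUel _ (inv_mem he)
      rw [Units.val_mul, Units.val_mul, ← Matrix.mulVec_mulVec, ← Matrix.mulVec_mulVec, hel, hx.2.2, ← hel,
        mulVec_inv_cancel]
    intro e he
    rw [Subgroup.mem_normalizer_iff]
    exact fun x => ⟨key e he x, fun hx => by simpa [mul_assoc] using key _ (inv_mem he) _ hx⟩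
  have haniso : ∀ e ∈ U, e ≠ 1 → ∀ x ∈ X, x * e = e * x → IsKron x := fun e he he1 x hx hxe => by
    obtain ⟨w, hwz, hwu, hel⟩ := hUel e he
    refine hO.cent_kron hN hx.1 hz hz0 hwz (fun h => he1 ?_) hel hxe
    have := hO.aniso_middle_three hb3 hz huu hu hwu hwz h
    subst this
    exact hel.zero hO
  have hunip : ∀ x ∈ X, IsKron x → x ^ p = 1 → x = 1 := fun x hx hxk hxp => by
    obtain ⟨P, hPa, hxP, hPi⟩ := hO.fix_shape hx.1 hxk ha0 hx.2.2
    obtain ⟨y, hy⟩ := hO.ne_zero_three hb3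
    have hpow : ∀ n, ∀ v, ((x ^ n : GL (α × β) F) : Mn) *ᵥ tmul v y = tmul ((P ^ n) *ᵥ v) y := by
      intro n
      induction n with
      | zero => intro v; simp
      | succ n ih =>
        intro v
        rw [pow_succ', Units.val_mul, ← Matrix.mulVec_mulVec, ih, hxP, Matrix.mulVec_mulVec, ← pow_succ']
    have hPp : P ^ p = 1 := Matrix.ext_iff_mulVec.2 fun v => fac_injective hy (by
      show tmul _ y = tmul _ y
      rw [← hpow, hxp, Units.val_one, Matrix.one_mulVec, Matrix.one_mulVec])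
    have hP1 := hO.fix_unipotent h3 hPp ha hPa hPi
    exact ext_kron fun v w => by rw [hxP, hP1, Units.val_one, Matrix.one_mulVec, Matrix.one_mulVec]
  have hXp : ¬ p ∣ Nat.card X := fun hd => by
    obtain ⟨x, hx, hx1, hxp, hxc⟩ := exists_comm_of_prime_dvd hUp hUX hd
    obtain ⟨e, he, he1⟩ := hUn
    exact hx1 (hunip x hx (haniso e he he1 x hx (hxc e he).symm) hxp)
  have hcop : (Nat.card U).Coprime (Nat.card X) := by
    obtain ⟨n, hn⟩ := IsPGroup.iff_card.1 hUp
    rw [hn]
    exact Nat.Coprime.pow_left n ((Fact.out : p.Prime).coprime_iff_not_dvd.2 hXp)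
  have hXk : ∀ x ∈ X, IsKron x := by
    intro x hx
    rcases Nat.lt_or_ge p 5 with hp5 | hp5
    · -- a non-cyclic operator group
      let Kr : Subgroup (GL (α × β) F) :=
        { carrier := {x | IsKron x}
          mul_mem' := fun h h' => IsKron.mul h h'
          one_mem' := kg_one (α := α) (β := β) (F := F) ▸ kg_isKron _ _
          inv_mem' := fun h => h.inv }
      have hq : p * p ≤ Fintype.card F := by
        obtain ⟨n, hpr, hn⟩ := FiniteField.card F p
        rw [hn] at h5 ⊢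
        have h2n : 2 ≤ (n : ℕ) := by
          by_contra hlt
          have hn1 : (n : ℕ) = 1 := by have := n.pos; omega
          rw [hn1, pow_one] at h5
          omega
        calc p * p = p ^ 2 := (_root_.sq p).symm
          _ ≤ p ^ (n : ℕ) := Nat.pow_le_pow_right hpr.pos h2n
      have hle : X ≤ Kr := by
        rw [← Grp.generated_by_centralizers U X (hUn' hq) hUX hcop]
        refine iSup₂_le fun e he => ?_
        rintro x ⟨hx, hxe⟩
        exact haniso e he.1 he.2 x hx (Subgroup.mem_centralizer_iff.1 hxe e rfl).symm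
      exact hle hx
    · obtain ⟨e, he, he1⟩ := hUn
      obtain ⟨w, hwz, -, hel⟩ := hUel e he
      have hU1 : Subgroup.zpowers e ≤ Subgroup.normalizer (X : Set (GL (α × β) F)) :=
        Subgroup.zpowers_le.2 (hUX he)
      exact haniso e he he1 x hx (commute_of_coprime_cube hp5 (hO.el_pow hz hwz hel) (hO.el_cube hz hwz hel) hU1
        (hcop.coprime_dvd_left (Subgroup.card_dvd_of_le (Subgroup.zpowers_le.2 he))) x hx)
  -- the action on `a ⊗ β`
  have hga : ∀ y, (g : Mn) *ᵥ tmul a y = tmul a ((fA a a)⁻¹ • la fA a ((g : Mn) *ᵥ tmul a y)) := fun y =>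
    hR.eq_of_fix hO (by
      rw [Matrix.mulVec_mulVec, ← Units.val_mul, ← hc, Units.val_mul, ← Matrix.mulVec_mulVec, hR.self hO ha])
  let L : (β → F) →ₗ[F] (β → F) := (fA a a)⁻¹ • (la fA a).comp ((Matrix.toLin' (g : Mn)).comp
    ((LinearMap.mk₂ F (fun (u : α → F) (w : β → F) => tmul u w) tmul_add_left tmul_smul_left
      tmul_add_right (fun k u w => tmul_smul_right k u w)) a))
  have hL : ∀ y, (g : Mn) *ᵥ tmul a y = tmul a (L y) := hga
  obtain ⟨Q, hQ⟩ := exists_gl_of_injective L fun y y' e => by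
    have h1 := gl_mulVec_injective g (show (g : Mn) *ᵥ tmul a y = (g : Mn) *ᵥ tmul a y' by rw [hL, hL, e])
    obtain ⟨ξ, hξ⟩ := TensorMax.exists_dual ha0
    have h3' := congrArg (lslice ξ) h1
    rwa [lslice_tmul, lslice_tmul, hξ, one_smul, one_smul] at h3'
  have hgQ : ∀ y, (g : Mn) *ᵥ tmul a y = tmul a ((Q : Mb) *ᵥ y) := fun y => by rw [hQ, hL]
  have hQi : ∀ y y', fB ((Q : Mb) *ᵥ y) ((Q : Mb) *ᵥ y') = fB y y' := fun y y' => by
    have h1 := hO.isoM hg (tmul a y) (tmul a y')
    rw [hgQ, hgQ, hO.ten, hO.ten] at h1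
    exact mul_left_cancel₀ ha h1
  have hRkg : ∀ B : GL β F, kg (1 : GL α F) B * R = R * kg (1 : GL α F) B := fun B => ext_kron fun x y => by
    simp only [Units.val_mul, ← Matrix.mulVec_mulVec, kg_apply, hR.apply_tmul hO, Units.val_one, Matrix.one_mulVec]
  -- normalising the second factor
  have hnorm : ∀ B ∈ siegGrp fB, g * kg (1 : GL α F) B = kg (1 : GL α F) (Q * B * Q⁻¹) * g := by
    intro B hB
    induction hB using Subgroup.closure_induction with
    | mem B hB =>
      obtain ⟨c, w, hcc, hwc, hBx⟩ := hB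
      have hB' : IsSieg fB (Q * B * Q⁻¹) ((Q : Mb) *ᵥ c) ((Q : Mb) *ᵥ w) := fun y => by
        obtain ⟨y', rfl⟩ : ∃ y', (Q : Mb) *ᵥ y' = y := ⟨_, mulVec_inv_cancel Q y⟩
        rw [Units.val_mul, Units.val_mul, ← Matrix.mulVec_mulVec, ← Matrix.mulVec_mulVec, inv_mulVec_cancel, hBx,
          Matrix.mulVec_sub, Matrix.mulVec_sub, Matrix.mulVec_add, Matrix.mulVec_smul, Matrix.mulVec_smul,
          Matrix.mulVec_smul, hQi, hQi, hQi]
      have hBm : B ∈ siegGrp fB := Subgroup.subset_closure ⟨c, w, hcc, hwc, hBx⟩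
      have hB'm : Q * B * Q⁻¹ ∈ siegGrp fB := Subgroup.subset_closure
        ⟨_, _, by rw [hQi, hcc], by rw [hQi, hwc], hB'⟩
      obtain ⟨b, hb⟩ : ∃ b, b = kg (1 : GL α F) B := ⟨_, rfl⟩
      obtain ⟨b', hb'⟩ : ∃ b', b' = kg (1 : GL α F) (Q * B * Q⁻¹) := ⟨_, rfl⟩
      have hbM : b ∈ M := hb ▸ hO.kB hBm
      have hb'M : b' ∈ M := hb' ▸ hO.kB hB'm
      rw [← hb, ← hb']
      obtain ⟨x, hx⟩ : ∃ x, x = g * b * g⁻¹ * b'⁻¹ := ⟨_, rfl⟩
      have hbR : Commute b R := hb ▸ hRkg B
      have hb'R : Commute b' R := hb' ▸ hRkg _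
      have hxX : x ∈ X := by
        refine ⟨hx ▸ mul_mem (mul_mem (mul_mem hg hbM) (inv_mem hg)) (inv_mem hb'M),
          (hx ▸ ((((show Commute g R from hc).mul_left hbR).mul_left (show Commute g R from hc).inv_left).mul_left
            hb'R.inv_left) : Commute x R), fun y => ?_⟩
        obtain ⟨y', rfl⟩ : ∃ y', ((Q * B * Q⁻¹ : GL β F) : Mb) *ᵥ y' = y := ⟨_, mulVec_inv_cancel _ y⟩
        have e1 : (b' : Mn) *ᵥ tmul a y' = tmul a (((Q * B * Q⁻¹ : GL β F) : Mb) *ᵥ y') := by
          rw [hb', kg_apply, Units.val_one, Matrix.one_mulVec]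
        have e2 : ((g⁻¹ : GL (α × β) F) : Mn) *ᵥ tmul a y' = tmul a (((Q⁻¹ : GL β F) : Mb) *ᵥ y') := by
          apply gl_mulVec_injective g
          show (g : Mn) *ᵥ _ = (g : Mn) *ᵥ _
          rw [mulVec_inv_cancel, hgQ, mulVec_inv_cancel]
        rw [hx, Units.val_mul, Units.val_mul, Units.val_mul, ← Matrix.mulVec_mulVec, ← Matrix.mulVec_mulVec,
          ← Matrix.mulVec_mulVec, ← e1, inv_mulVec_cancel, e2, hb, kg_apply, Units.val_one, Matrix.one_mulVec, hgQ,
          e1, Units.val_mul, Units.val_mul, ← Matrix.mulVec_mulVec, ← Matrix.mulVec_mulVec]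
      have hxk := hXk x hxX
      obtain ⟨P, -, hxP, -⟩ := hO.fix_shape hxX.1 hxk ha0 hxX.2.2
      have hxb : Commute x b' := by
        refine ext_kron fun v y => ?_
        simp only [hb', Units.val_mul, ← Matrix.mulVec_mulVec, kg_apply, hxP, Units.val_one, Matrix.one_mulVec]
      have hBp : ∀ {B : GL β F} {c w : β → F}, fB c c = 0 → fB w c = 0 → IsSieg fB B c w → B ^ p = 1 :=
        fun {B c w} h1 h1' hBs => pow_char_eq_one h2 (Matrix.ext_iff_mulVec.2 fun v => by
          rw [pow_succ, pow_two, ← Matrix.mulVec_mulVec, ← Matrix.mulVec_mulVec, hs.sieg_cube h2 hBs h1 h1',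
            Matrix.zero_mulVec])
      have hbp : b ^ p = 1 := by
        rw [hb, ← kg_pow, one_pow, hBp hcc hwc hBx, kg_one]
      have hb'p : b' ^ p = 1 := by
        rw [hb', ← kg_pow, one_pow, hBp (by rw [hQi, hcc]) (by rw [hQi, hwc]) hB', kg_one]
      have hxp : x ^ p = 1 := by
        have e : x * b' = g * b * g⁻¹ := by rw [hx, inv_mul_cancel_right]
        have h1 := congrArg (· ^ p) e
        simp only [hxb.mul_pow, conj_pow, hbp, hb'p, mul_one, mul_inv_cancel] at h1
        exact h1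
      have := hunip x hxX hxk hxp
      rw [hx, mul_inv_eq_one, mul_inv_eq_iff_eq_mul] at this
      exact this
    | one =>
      rw [mul_one Q, mul_inv_cancel, kg_one, mul_one, one_mul]
    | mul B B' _ _ hB hB' =>
      have e : Q * (B * B') * Q⁻¹ = (Q * B * Q⁻¹) * (Q * B' * Q⁻¹) := by group
      rw [e, show kg (1 : GL α F) (B * B') = kg 1 B * kg 1 B' by rw [← kg_mul, one_mul],
        show kg (1 : GL α F) ((Q * B * Q⁻¹) * (Q * B' * Q⁻¹)) = kg 1 (Q * B * Q⁻¹) * kg 1 (Q * B' * Q⁻¹) by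
          rw [← kg_mul, one_mul], ← mul_assoc, hB, mul_assoc, hB', ← mul_assoc]
    | inv B _ hB =>
      have e : Q * B⁻¹ * Q⁻¹ = (Q * B * Q⁻¹)⁻¹ := by group
      have hinv : ∀ C : GL β F, kg (1 : GL α F) C⁻¹ = (kg 1 C)⁻¹ := fun C =>
        eq_inv_of_mul_eq_one_right (by rw [← kg_mul, one_mul, mul_inv_cancel, kg_one])
      rw [e, hinv, hinv, eq_inv_mul_iff_mul_eq, ← mul_assoc, ← hB, mul_inv_cancel_right]
  -- the element is a product
  obtain ⟨k, hk⟩ : ∃ k, k = kg (1 : GL α F) Q⁻¹ * g := ⟨_, rfl⟩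
  have hkcomm : ∀ B ∈ siegGrp fB, ∀ x y, (k : Mn) *ᵥ tmul x ((B : Mb) *ᵥ y) =
      (kg (1 : GL α F) B : Mn) *ᵥ ((k : Mn) *ᵥ tmul x y) := fun B hB x y => by
    have e : k * kg (1 : GL α F) B = kg 1 B * k := by
      rw [hk, mul_assoc, hnorm B hB, ← mul_assoc, ← kg_mul, one_mul, ← mul_assoc (kg 1 B), ← kg_mul, one_mul]
      congr 2
      group
    rw [Matrix.mulVec_mulVec, ← Units.val_mul, ← e, Units.val_mul, ← Matrix.mulVec_mulVec, kg_apply, Units.val_one,
      Matrix.one_mulVec]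
  have hlk : ∀ (B : GL β F) ξ t, lslice ξ ((kg (1 : GL α F) B : Mn) *ᵥ t) = (B : Mb) *ᵥ lslice ξ t := fun B ξ t => by
    refine LinearMap.congr_fun (f := (lslice ξ).comp (Matrix.toLin' (kg (1 : GL α F) B : Mn)))
      (g := (Matrix.toLin' (B : Mb)).comp (lslice ξ)) (ext_pure fun x y => ?_) t
    simp only [LinearMap.comp_apply, Matrix.toLin'_apply, kg_apply, lslice_tmul, Matrix.mulVec_smul, Units.val_one,
      Matrix.one_mulVec]
  have hsc : ∀ (x : α → F) (i : α), ∃ c : F, ∀ y j, ((k : Mn) *ᵥ tmul x y) (i, j) = c * y j := by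
    intro x i
    let T : (β → F) →ₗ[F] (β → F) :=
      (lslice (Pi.single i 1)).comp ((Matrix.toLin' (k : Mn)).comp
        ((LinearMap.mk₂ F (fun (u : α → F) (w : β → F) => tmul u w) tmul_add_left tmul_smul_left
          tmul_add_right (fun k u w => tmul_smul_right k u w)) x))
    have hT : ∀ y, T y = lslice (Pi.single i 1) ((k : Mn) *ᵥ tmul x y) := fun y => rfl
    obtain ⟨c, hc'⟩ := scalar_of_sieg_comm_three hs h2 hb3 T fun B hB y => by
      rw [hT, hT, hkcomm B hB, hlk]
    refine ⟨c, fun y j => ?_⟩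
    have := congrFun (hc' y) j
    simpa [hT, lslice, Pi.single_apply] using this
  choose C hC using hsc
  have hkP : ∀ x y, (k : Mn) *ᵥ tmul x y = tmul (fun i => C x i) y := fun x y => funext fun q => hC x q.1 y q.2
  obtain ⟨y₀, hy₀⟩ := hO.ne_zero_three hb3
  obtain ⟨ψ, hψ⟩ := TensorMax.exists_dual hy₀
  obtain ⟨P, hP⟩ := exists_gl_of_injective ((slice ψ).comp ((Matrix.toLin' (k : Mn)).comp (fac y₀))) fun v v' e => by
    simp only [LinearMap.comp_apply, Matrix.toLin'_apply, fac_apply, hkP, slice_tmul, hψ, one_smul] at e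
    exact fac_injective hy₀ (gl_mulVec_injective k (by
      show (k : Mn) *ᵥ tmul v y₀ = (k : Mn) *ᵥ tmul v' y₀
      rw [hkP, hkP, e]))
  refine isKron_of_apply P Q fun x y => ?_
  have e1 : g = kg (1 : GL α F) Q * k := by rw [hk, ← mul_assoc, ← kg_mul, one_mul, mul_inv_cancel, kg_one, one_mul]
  rw [e1, Units.val_mul, ← Matrix.mulVec_mulVec, hkP, kg_apply, Units.val_one, Matrix.one_mulVec, hP,
    LinearMap.comp_apply, LinearMap.comp_apply, fac_apply, Matrix.toLin'_apply, hkP, slice_tmul, hψ, one_smul]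

end Cfsg.Agent.Classical.TensorOrth
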