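import Cfsg.Agent.Lib.Classical.MaxTensorWreathMove
import Cfsg.Agent.Lib.Classical.MaxTensorOrthHelp
import Cfsg.Agent.Lib.Invol.ZStar
import Cfsg.Agent.Lib.Grp.CoprimeAbelian

/-!
Without root elements on lines an overgroup of `O₃ ⊗ O₃` stabilises the tensor decomposition.
-/

set_option autoImplicit false
set_option linter.unusedSectionVars false
set_option linter.unusedVariables false
set_option linter.style.haveILetI false

namespace Cfsg.Agent.Classical.TensorWreath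

open Matrix Module MaxTv TensorMax TensorOrth Overfield
open scoped Kronecker
open Cfsg.Agent.Classical.TensorRoot (kg kg_apply kg_isKron)

section Groups

variable {Γ : Type*} [Group Γ]

theorem mem_zpowers_invol {z a : Γ} (hz : z * z = 1) (ha : a ∈ Subgroup.zpowers z) : a = 1 ∨ a = z := by
  obtain ⟨k, rfl⟩ := Subgroup.mem_zpowers_iff.1 ha
  have h2 : z ^ (2 : ℤ) = 1 := by rw [zpow_two, hz]
  rcases Int.even_or_odd' k with ⟨m, rfl | rfl⟩
  · exact Or.inl (by rw [_root_.zpow_mul, h2, _root_.one_zpow])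
  · exact Or.inr (by rw [_root_.zpow_add, _root_.zpow_mul, h2, _root_.one_zpow, one_mul, zpow_one])

/-- The four group generated by two commuting involutions. -/
def fourGrp {r s : Γ} (hr : r * r = 1) (hs : s * s = 1) (hc : r * s = s * r) : Subgroup Γ where
  carrier := {x | x = 1 ∨ x = r ∨ x = s ∨ x = r * s}
  one_mem' := Or.inl rfl
  inv_mem' {x} hx := by
    have hri : r⁻¹ = r := inv_eq_of_mul_eq_one_right hr
    have hsi : s⁻¹ = s := inv_eq_of_mul_eq_one_right hs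
    rcases hx with rfl | rfl | rfl | rfl
    · exact Or.inl _root_.inv_one
    · exact Or.inr (Or.inl hri)
    · exact Or.inr (Or.inr (Or.inl hsi))
    · exact Or.inr (Or.inr (Or.inr (by rw [_root_.mul_inv_rev, hri, hsi, hc])))
  mul_mem' {x y} hx hy := by
    have hr' : ∀ a, r * (r * a) = a := fun a => by rw [← mul_assoc, hr, one_mul]
    have hs' : ∀ a, s * (s * a) = a := fun a => by rw [← mul_assoc, hs, one_mul]
    have hc' : ∀ a, s * (r * a) = r * (s * a) := fun a => by rw [← mul_assoc, ← hc, mul_assoc]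
    rcases hx with rfl | rfl | rfl | rfl <;> rcases hy with rfl | rfl | rfl | rfl <;>
      simp [mul_assoc, hr, hs, hr', hs', hc', ← hc, Set.mem_setOf_eq]

theorem four_comm {r s : Γ} (hr : r * r = 1) (hs : s * s = 1) (hc : r * s = s * r) :
    IsMulCommutative (fourGrp hr hs hc) := by
  refine ⟨⟨fun x y => Subtype.ext ?_⟩⟩
  obtain ⟨x, hx⟩ := x
  obtain ⟨y, hy⟩ := y
  show x * y = y * x
  have h1 : Commute r s := hc
  rcases hx with rfl | rfl | rfl | rfl <;> rcases hy with rfl | rfl | rfl | rfl <;>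
    first
      | exact Commute.one_left _
      | exact Commute.one_right _
      | exact rfl
      | exact h1.eq
      | exact h1.symm.eq
      | exact ((Commute.refl _).mul_right h1).eq
      | exact ((Commute.refl _).mul_right h1).symm.eq
      | exact (h1.symm.mul_right (Commute.refl _)).eq
      | exact (h1.symm.mul_right (Commute.refl _)).symm.eq

theorem four_odd {r s : Γ} (hr : r * r = 1) (hs : s * s = 1) (hc : r * s = s * r) (hr1 : r ≠ 1) (hs1 : s ≠ 1)
    (hne : r ≠ s) : ¬ IsCyclic (fourGrp hr hs hc) ∧ Nat.card (fourGrp hr hs hc) = 4 := by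
  classical
  have hrs : r * s ≠ 1 := fun e => hne (by rw [← mul_one r, ← hs, ← mul_assoc, e, one_mul])
  have h1 : r * s ≠ r := fun e => hs1 (mul_eq_left.1 e)
  have h2 : r * s ≠ s := fun e => hr1 (mul_eq_right.1 e)
  have hcard : Nat.card (fourGrp hr hs hc) = 4 := by
    have e : ((fourGrp hr hs hc : Subgroup Γ) : Set Γ) = ↑({1, r, s, r * s} : Finset Γ) := by
      ext x
      simp [fourGrp]
    have h3 := Set.ncard_coe_finset ({1, r, s, r * s} : Finset Γ)
    rw [← e, ← Nat.card_coe_set_eq] at h3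
    rw [show Nat.card (fourGrp hr hs hc) = Nat.card ((fourGrp hr hs hc : Subgroup Γ) : Set Γ) from rfl, h3]
    simp [hr1.symm, hs1.symm, hne, hrs.symm, h1.symm, h2.symm]
  refine ⟨fun hcyc => ?_, hcard⟩
  obtain ⟨g, hg⟩ := IsCyclic.exists_ofOrder_eq_natCard (α := fourGrp hr hs hc)
  rw [hcard] at hg
  have : g ^ 2 = 1 := Subtype.ext (by
    rw [SubgroupClass.coe_pow, pow_two, OneMemClass.coe_one]
    rcases g.2 with e | e | e | e <;> rw [e]
    · exact one_mul 1
    · exact hr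
    · exact hs
    · rw [mul_assoc, ← mul_assoc s r, ← hc, mul_assoc r s s, hs, mul_one, hr])
  exact absurd (Nat.le_of_dvd (by omega) (orderOf_dvd_of_pow_eq_one this)) (by omega)

end Groups

variable {F : Type*} [Field F] [Fintype F]

local notation "V₃" => (Fin 3 → F)
local notation "M₃" => Matrix (Fin 3) (Fin 3) F
local notation "Mn" => Matrix (Fin 3 × Fin 3) (Fin 3 × Fin 3) F
local notation "L₃" => ((Fin 3 → F) →ₗ[F] (Fin 3 → F))
local notation "Tr" => Matrix.trace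

variable {h : (Fin 3 → F) → (Fin 3 → F) → F} {f : (Fin 3 × Fin 3 → F) → (Fin 3 × Fin 3 → F) → F}
  {G M : Subgroup (GL (Fin 3 × Fin 3) F)} {μ : F} {t : Fin 3 → Fin 3 → F}

theorem inH_tc {g : GL (Fin 3 × Fin 3) F} (hg : InH g) : InH (swp g) := by
  rcases hg with h' | h'
  · exact Or.inl (by rw [swp_apply]; exact isKron_tc h')
  · refine Or.inr ?_
    have := isKron_tc h'
    rw [swp_apply]
    rwa [mul_assoc tau (tau * g) tau, ← mul_assoc] at *

theorem inH_one : InH (1 : GL (Fin 3 × Fin 3) F) := Or.inl isKron_one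

theorem inH_mul {g k : GL (Fin 3 × Fin 3) F} (hg : InH g) (hk : InH k) : InH (g * k) :=
  (hSub (F := F)).mul_mem hg hk

theorem inH_inv {g : GL (Fin 3 × Fin 3) F} (hg : InH g) : InH g⁻¹ :=
  (hSub (F := F)).inv_mem hg

/-- The identity or a good half turn. -/
def Fac (hs : Sym h) (μ : F) (P : (Fin 3 → F) →ₗ[F] (Fin 3 → F)) : Prop :=
  P = LinearMap.id ∨ ∃ d, Good h μ d ∧ P = hr hs d

variable (S : Std h f G M μ t)
include S

theorem Std.fac_mul {a : V₃} {P : L₃} (ha : Good h μ a) (hP : Fac S.wr.hs μ P) {k : F}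
    (hk : ∀ x, hr S.wr.hs a (P x) = k • P (hr S.wr.hs a x)) : Fac S.wr.hs μ ((hr S.wr.hs a).comp P) := by
  have hs := S.wr.hs
  have h2 := S.wr.two
  rcases hP with rfl | ⟨c, hc, rfl⟩
  · exact Or.inr ⟨a, ha, LinearMap.comp_id _⟩
  rcases hr_comm hs h2 (ha.ne S.ne) (hc.ne S.ne) hk with e | e
  · left
    rw [← e]
    exact LinearMap.ext fun x => hr_hr hs (ha.ne S.ne) x
  · obtain ⟨d, hd, hda, hdc⟩ := exists_third_axis hs h2 (ha.ne S.ne) (hc.ne S.ne) (by rw [hs.symm, e])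
    exact Or.inr ⟨d, third_good hs h2 S.trip ha hc hd (by rw [hs.symm, e]) hda hdc,
      LinearMap.ext fun x => hr_mul hs h2 (ha.ne S.ne) (hc.ne S.ne) hd (by rw [hs.symm, e]) hda hdc x⟩

theorem Std.fac_inj {P : L₃} (hP : Fac S.wr.hs μ P) : Function.Injective P := by
  rcases hP with rfl | ⟨c, hc, rfl⟩
  exacts [id_inj, hr_inj S.wr (hc.ne S.ne)]

/-- Products of commuting good shapes. -/
theorem Std.mix_mul {z y : GL (Fin 3 × Fin 3) F} {a b : V₃} {P Q : L₃} (ha : Good h μ a) (hb : Good h μ b)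
    (hz : Act z (hr S.wr.hs a) (hr S.wr.hs b)) (hP : Fac S.wr.hs μ P) (hQ : Fac S.wr.hs μ Q) (hy : Act y P Q)
    (hc : z * y = y * z) : z * y = 1 ∨ GoodHT S.wr.hs μ (z * y) ∨ GoodMix S.wr.hs μ (z * y) := by
  have hW := S.wr
  have h1 := hz.mul hy
  have h3 := hy.mul hz
  rw [← hc] at h3
  obtain ⟨k, hk, hk'⟩ := h3.prop h1 ((S.fac_inj hP).comp (hr_inj hW (ha.ne S.ne)))
    ((hr_inj hW (hb.ne S.ne)).comp (S.fac_inj hQ))
  simp only [LinearMap.comp_apply] at hk hk'
  have hk0 : k ≠ 0 := fun e => by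
    have := hk' (Pi.single 0 1)
    rw [e, zero_smul] at this
    have := S.fac_inj hQ (this.trans (map_zero Q).symm)
    have := hr_inj hW (hb.ne S.ne) (this.trans (map_zero _).symm)
    simp at this
  rcases S.fac_mul ha hP hk with e | ⟨c, hc', e⟩ <;>
    rcases S.fac_mul hb hQ (k := k⁻¹) (fun x => by rw [hk', inv_smul_smul₀ hk0]) with e' | ⟨d, hd', e'⟩ <;>
    rw [e, e'] at h1
  · exact Or.inl (h1.unique Act.one)
  · exact Or.inr (Or.inl (Or.inr ⟨d, hd', h1⟩))
  · exact Or.inr (Or.inl (Or.inl ⟨c, hc', h1⟩))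
  · exact Or.inr (Or.inr ⟨c, d, hc', hd', h1⟩)

theorem Std.of_conj_right {g R : GL (Fin 3 × Fin 3) F} {b : V₃} (hg : g ∈ M) (hRM : R ∈ M) (hb : Good h μ b)
    (hR : Act R LinearMap.id (hr S.wr.hs b)) (hj : InH (g * R * g⁻¹)) : InH g := by
  have := S.swap.of_conj (g := swp g) (R := swp R) (a := b)
    (by rw [Subgroup.mem_comap, swp_swp]; exact hg) (by rw [Subgroup.mem_comap, swp_swp]; exact hRM) hb
    (by rw [swp_apply]; exact hR.tc) (by rw [← map_inv, ← map_mul, ← map_mul]; exact inH_tc hj)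
  have := inH_tc this
  rwa [swp_swp] at this

theorem Std.conj_goodHT_right {g R : GL (Fin 3 × Fin 3) F} {b : V₃} (hg : g ∈ M) (hH : InH g) (hb : Good h μ b)
    (hR : Act R LinearMap.id (hr S.wr.hs b)) : GoodHT S.wr.hs μ (g * R * g⁻¹) := by
  have := S.swap.conj_goodHT (g := swp g) (R := swp R) (a := b)
    (by rw [Subgroup.mem_comap, swp_swp]; exact hg) (inH_tc hH) hb (by rw [swp_apply]; exact hR.tc)
  rw [← map_inv, ← map_mul, ← map_mul, swp_apply] at this
  have e : ∀ x : GL (Fin 3 × Fin 3) F, tau * (tau * x * tau) * tau = x := fun x => by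
    rw [← swp_apply, ← swp_apply, swp_swp]
  rcases this with ⟨c, hc, h'⟩ | ⟨c, hc, h'⟩
  · exact Or.inr ⟨c, hc, by have := h'.tc; rwa [e] at this⟩
  · exact Or.inl ⟨c, hc, by have := h'.tc; rwa [e] at this⟩

/-- A product-shaped element commuting with a good product involution commutes with its factors. -/
theorem Std.kron_comm {w z R : GL (Fin 3 × Fin 3) F} {a b : V₃} (hw : w ∈ M) (hk : IsKron w)
    (ha : Good h μ a) (hb : Good h μ b) (hz : Act z (hr S.wr.hs a) (hr S.wr.hs b))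
    (hR : Act R (hr S.wr.hs a) LinearMap.id) (hc : w * z = z * w) : w * R = R * w := by
  have hW := S.wr
  obtain ⟨A, B, ν, hν, hact, hA, hB⟩ := hW.kron_sim (hW.gIso (hW.le hw)) hk
  have h1 := hW.conj_act hact hz (P' := hr hW.hs ((A : M₃) *ᵥ a)) (Q' := hr hW.hs ((B : M₃) *ᵥ b))
    (fun u => (hW.hr_sim hν hA a u).symm) fun v => (hW.hr_sim (inv_ne_zero hν) hB b v).symm
  rw [show w * z * w⁻¹ = z by rw [hc, mul_inv_cancel_right]] at h1
  have e := (S.mix_eq hz h1 (ha.ne S.ne) (hb.ne S.ne) (by rw [hA]; exact mul_ne_zero hν (ha.ne S.ne))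
    (by rw [hB]; exact mul_ne_zero (inv_ne_zero hν) (hb.ne S.ne))).1
  have h3 := hW.conj_act hact hR (P' := hr hW.hs ((A : M₃) *ᵥ a)) (Q' := LinearMap.id)
    (fun u => (hW.hr_sim hν hA a u).symm) fun v => rfl
  rw [← e] at h3
  exact mul_inv_eq_iff_eq_mul.1 (h3.unique hR)

/-- The centraliser of a good product involution stabilises the decomposition. -/
theorem Std.cent_mix {z l : GL (Fin 3 × Fin 3) F} (hz : GoodMix S.wr.hs μ z) (hl : l ∈ M)
    (hlz : l * z = z * l) : InH l := by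
  classical
  obtain ⟨a, b, ha, hb, hzab⟩ := hz
  have hW := S.wr
  have hs := hW.hs
  have h2 := hW.two
  obtain ⟨R, hRM, hR⟩ := S.exists_left ha
  obtain ⟨R', hR'M, hR'⟩ := S.exists_right hb
  have hzRR : z = R * R' := hzab.unique (by have := hR.mul hR'; simpa using this)
  have hRR : R * R = 1 := S.sq_left hR (ha.ne S.ne)
  have hR'R' : R' * R' = 1 := ext_kron fun u v => by
    rw [(hR'.mul hR') u v]; simp [hr_hr hs (hb.ne S.ne)]
  have hcom : R * R' = R' * R := ext_kron fun u v => by rw [(hR.mul hR') u v, (hR'.mul hR) u v]; rfl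
  have hzR : z * R = R * z := by rw [hzRR, mul_assoc, ← hcom]
  have hzR' : z * R = R' := by rw [hzR, hzRR, ← mul_assoc, hRR, one_mul]
  have hzz : z * z = 1 := by rw [hzRR, mul_assoc, ← mul_assoc R' R, ← hcom, mul_assoc, hR'R', mul_one, hRR]
  have hzM : z ∈ M := hzRR ▸ mul_mem hRM hR'M
  have hzH : InH z := Or.inl (hzab.isKron (hr_inj hW (ha.ne S.ne)) (hr_inj hW (hb.ne S.ne)))
  have hR1 : R ≠ 1 := S.ne_one (Or.inl ⟨a, ha.ne S.ne, hR⟩)
  have hR'1 : R' ≠ 1 := S.ne_one (Or.inr ⟨b, hb.ne S.ne, hR'⟩)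
  have hRz : R ≠ z := fun e => hR'1 (by rw [← hzR', ← e, hRR])
  obtain ⟨L, hLdef⟩ : ∃ L, L = M ⊓ Subgroup.centralizer ({z} : Set (GL (Fin 3 × Fin 3) F)) := ⟨_, rfl⟩
  have hL : ∀ x, x ∈ L ↔ x ∈ M ∧ x * z = z * x := fun x => by
    rw [hLdef, Subgroup.mem_inf, Subgroup.mem_centralizer_singleton_iff]
  let z' : L := ⟨z, (hL z).2 ⟨hzM, rfl⟩⟩
  let r : L := ⟨R, (hL R).2 ⟨hRM, hzR.symm⟩⟩
  let K : Subgroup L := Subgroup.zpowers z'
  have hzc : ∀ x : L, x * z' = z' * x := fun x => Subtype.ext ((hL x.1).1 x.2).2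
  haveI hKn : K.Normal := ⟨fun n hn x => by
    obtain ⟨k, rfl⟩ := Subgroup.mem_zpowers_iff.1 hn
    rw [((show Commute x z' from hzc x).zpow_right k).eq, mul_inv_cancel_right]
    exact Subgroup.zpow_mem _ (Subgroup.mem_zpowers z') k⟩
  obtain ⟨π, hπ⟩ : ∃ π : L →* L ⧸ K, π = QuotientGroup.mk' K := ⟨_, rfl⟩
  have hker : ∀ x y : L, π x = π y → (x : GL (Fin 3 × Fin 3) F) = y ∨ (x : GL (Fin 3 × Fin 3) F) = z * y := by
    intro x y e
    rw [hπ] at e
    obtain ⟨w, hw, hwe⟩ := (QuotientGroup.mk'_eq_mk' K).1 e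
    rcases mem_zpowers_invol (show z' * z' = 1 from Subtype.ext hzz) hw with rfl | rfl
    · left; rw [← hwe, mul_one]
    · right
      rw [← hwe, Subgroup.coe_mul, ← mul_assoc, ← ((hL x.1).1 x.2).2, mul_assoc, hzz, mul_one]
  have hconj : ∀ (m y : L), InH (m * y * m⁻¹ : L).1 →
      ((y : GL (Fin 3 × Fin 3) F) ∈ M ∧ ∃ c, Good h μ c ∧ Act (y : GL (Fin 3 × Fin 3) F) (hr hs c) LinearMap.id) →
      InH m.1 := fun m y e ⟨hyM, c, hc, hy⟩ => S.of_conj ((hL m.1).1 m.2).1 hyM hc hy e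
  have hiso : IsIsolatedInvolution (π r) := by
    refine ⟨orderOf_eq_prime ?_ fun e => ?_, fun g hg => ?_⟩
    · rw [← map_pow, pow_two, show r * r = 1 from Subtype.ext hRR, map_one]
    · rcases hker r 1 (e.trans (map_one π).symm) with e | e
      · exact hR1 e
      · exact hRz (by simpa using e)
    obtain ⟨m, rfl⟩ : ∃ m, π m = g := hπ ▸ QuotientGroup.mk'_surjective K g
    rw [← map_inv, ← map_mul, ← map_mul] at hg ⊢
    obtain ⟨R₂, hR₂⟩ : ∃ R₂, R₂ = (m * r * m⁻¹ : L).1 := ⟨_, rfl⟩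
    have hm := (hL m.1).1 m.2
    have hR₂M : R₂ ∈ M := hR₂ ▸ ((hL _).1 (m * r * m⁻¹).2).1
    have hR₂z : R₂ * z = z * R₂ := hR₂ ▸ ((hL _).1 (m * r * m⁻¹).2).2
    have hR₂R₂ : R₂ * R₂ = 1 := by
      rw [hR₂]
      show (m.1 * R * m.1⁻¹) * (m.1 * R * m.1⁻¹) = 1
      rw [show m.1 * R * m.1⁻¹ * (m.1 * R * m.1⁻¹) = m.1 * (R * R) * m.1⁻¹ by group, hRR]
      group
    have hH₂ : InH R₂ := by
      rcases hker (r * (m * r * m⁻¹)) (m * r * m⁻¹ * r) (by rw [map_mul π r, map_mul π (m * r * m⁻¹)]; exact hg.eq) with e | e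
      · exact Or.inl (S.cent_left hR (ha.ne S.ne) hR₂M (by rw [hR₂]; exact e.symm))
      · refine S.of_conj hR₂M hRM ha hR ?_
        have e' : R * R₂ = z * (R₂ * R) := by rw [hR₂]; exact e
        rw [show R₂ * R * R₂⁻¹ = R' by
          rw [inv_eq_of_mul_eq_one_right hR₂R₂, ← hzR', mul_assoc R₂, e', ← mul_assoc R₂ z, hR₂z, mul_assoc z R₂,
            ← mul_assoc R₂ R₂, hR₂R₂, one_mul]]
        exact Or.inl (hR'.isKron id_inj (hr_inj hW (hb.ne S.ne)))
    have hmH : InH m.1 := by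
      rw [hR₂] at hH₂
      exact S.of_conj hm.1 hRM ha hR hH₂
    obtain ⟨R₃, hR₃⟩ : ∃ R₃, R₃ = m.1 * R' * m.1⁻¹ := ⟨_, rfl⟩
    have hprod : z = R₂ * R₃ := by
      rw [hR₂, hR₃]
      show z = m.1 * R * m.1⁻¹ * (m.1 * R' * m.1⁻¹)
      rw [show m.1 * R * m.1⁻¹ * (m.1 * R' * m.1⁻¹) = m.1 * (R * R') * m.1⁻¹ by group, ← hzRR, hm.2,
        mul_inv_cancel_right]
    have h₂ : GoodHT hW.hs μ R₂ := by
      rw [hR₂]
      exact S.conj_goodHT hm.1 hmH ha hR
    have h₃ : GoodHT hW.hs μ R₃ := hR₃ ▸ S.conj_goodHT_right hm.1 hmH hb hR'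
    have hcases : R₂ = R ∨ R₂ = z * R := by
      rcases h₂ with ⟨c, hc, hc'⟩ | ⟨c, hc, hc'⟩ <;> rcases h₃ with ⟨d, hd, hd'⟩ | ⟨d, hd, hd'⟩
      · exfalso
        have := hc'.mul hd'
        rw [← hprod] at this
        obtain ⟨k, -, hk⟩ := hzab.prop this (hr_inj hW (ha.ne S.ne)) (fun x y e => e)
        exact hr_ne_scalar hs h2 (hb.ne S.ne) k hk
      · left
        have := hc'.mul hd'
        rw [← hprod, LinearMap.comp_id, LinearMap.id_comp] at this
        exact hc'.unique ((S.mix_eq hzab this (ha.ne S.ne) (hb.ne S.ne) (hc.ne S.ne) (hd.ne S.ne)).1 ▸ hR)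
      · right
        have := hc'.mul hd'
        rw [← hprod, LinearMap.comp_id, LinearMap.id_comp] at this
        rw [hzR']
        exact hc'.unique ((S.mix_eq hzab this (ha.ne S.ne) (hb.ne S.ne) (hd.ne S.ne) (hc.ne S.ne)).2 ▸ hR')
      · exfalso
        have := hc'.mul hd'
        rw [← hprod] at this
        obtain ⟨k, hk, -⟩ := hzab.prop this (hr_inj hW (ha.ne S.ne)) ((hr_inj hW (hc.ne S.ne)).comp
          (hr_inj hW (hd.ne S.ne)))
        exact hr_ne_scalar hs h2 (ha.ne S.ne) k⁻¹ fun x => by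
          have hk0 : k ≠ 0 := fun e => by
            have := hk (Pi.single 0 1)
            rw [e, zero_smul] at this
            simp at this
          have e1 : x = k • hr hs a x := hk x
          conv_rhs => rw [e1]
          rw [inv_smul_smul₀ hk0]
    rcases hcases with e | e
    · exact congrArg π (Subtype.ext (by rw [hR₂] at e; exact e))
    · rw [show m * r * m⁻¹ = z' * r from Subtype.ext (by rw [hR₂] at e; exact e), map_mul,
        show π z' = 1 by rw [hπ]; exact (QuotientGroup.eq_one_iff _).2 (Subgroup.mem_zpowers z'), one_mul]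
  obtain ⟨N, hNn, hNodd, hN⟩ := ZStar.exists_odd_normal hiso
  obtain ⟨t', ht', e0⟩ := trip_at hs h2 S.trip ha
  obtain ⟨R₁, hR₁M, hR₁⟩ := S.exists_left (ht'.good 1)
  have ha' : Good h μ a := ha
  rw [← e0] at hzab hR
  have hR₁R₁ : R₁ * R₁ = 1 := S.sq_left hR₁ (ht'.aniso 1)
  have h12 : ∀ u, hr hs (t' 0) (hr hs (t' 1) u) = hr hs (t' 2) u ∧ hr hs (t' 1) (hr hs (t' 0) u) = hr hs (t' 2) u :=
    fun u => ⟨hr_mul hs h2 (ht'.aniso 0) (ht'.aniso 1) (ht'.aniso 2) (ht'.orth 0 1 (by decide))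
      (ht'.orth 2 0 (by decide)) (ht'.orth 2 1 (by decide)) u,
      hr_mul hs h2 (ht'.aniso 1) (ht'.aniso 0) (ht'.aniso 2) (ht'.orth 1 0 (by decide))
      (ht'.orth 2 1 (by decide)) (ht'.orth 2 0 (by decide)) u⟩
  have hc01 : R * R₁ = R₁ * R := ext_kron fun u v => by
    rw [(hR.mul hR₁) u v, (hR₁.mul hR) u v]
    simp [(h12 u).1, (h12 u).2]
  have hzR₁ : R₁ * z = z * R₁ := ext_kron fun u v => by
    rw [(hR₁.mul hzab) u v, (hzab.mul hR₁) u v]
    simp [(h12 u).1, (h12 u).2]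
  have hR₂act : Act (R * R₁) (hr hs (t' 2)) LinearMap.id := fun u v => by
    rw [(hR.mul hR₁) u v]
    simp [(h12 u).1]
  let r₁ : L := ⟨R₁, (hL R₁).2 ⟨hR₁M, hzR₁⟩⟩
  have hne : ∀ (y : L) (c : V₃), Good h μ c → Act y.1 (hr hs c) LinearMap.id → π y ≠ 1 := fun y c hc hy e => by
    rcases hker y 1 (e.trans (map_one π).symm) with e | e
    · exact S.ne_one (Or.inl ⟨c, hc.ne S.ne, hy⟩) e
    · have h1 := hW.trace_left (hc.ne S.ne) hy
      rw [e] at h1
      simp only [OneMemClass.coe_one, mul_one] at h1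
      rw [hW.trace_mix (ht'.aniso 0) (hb.ne S.ne) hzab] at h1
      exact hW.trace_ne h1.symm
  have hrr : π r * π r = 1 := by rw [← map_mul, show r * r = 1 from Subtype.ext hRR, map_one]
  have hr₁r₁ : π r₁ * π r₁ = 1 := by rw [← map_mul, show r₁ * r₁ = 1 from Subtype.ext hR₁R₁, map_one]
  have hrc : π r * π r₁ = π r₁ * π r := by
    rw [← map_mul, ← map_mul, show r * r₁ = r₁ * r from Subtype.ext hc01]
  have hA := four_odd hrr hr₁r₁ hrc (hne r _ (ht'.good 0) hR) (hne r₁ _ (ht'.good 1) hR₁) fun e => by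
    refine hne (r * r₁) _ (ht'.good 2) hR₂act ?_
    rw [map_mul, e, hr₁r₁]
  haveI := four_comm hrr hr₁r₁ hrc
  have hcop : (Nat.card (fourGrp hrr hr₁r₁ hrc)).Coprime (Nat.card N) := by
    rw [hA.2, show 4 = 2 ^ 2 from rfl]
    exact Nat.Coprime.pow_left 2 ((Nat.prime_two.coprime_iff_not_dvd).2 (by
      obtain ⟨j, hj⟩ := hNodd
      omega))
  have hgen := Grp.generated_by_centralizers _ N hA.1
    (fun x _ => Subgroup.normalizer_eq_top (H := N) ▸ Subgroup.mem_top x) hcop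
  have hsub : N ≤ ((hSub (F := F)).comap L.subtype).map π := by
    rw [← hgen]
    refine iSup₂_le fun x hx n hn => ?_
    obtain ⟨m, rfl⟩ : ∃ m, π m = n := hπ ▸ QuotientGroup.mk'_surjective K n
    refine Subgroup.mem_map_of_mem π ?_
    have hy : ∃ (y : L) (c : V₃), π y = x ∧ Good h μ c ∧ y.1 ∈ M ∧ Act y.1 (hr hs c) LinearMap.id := by
      rcases hx.1 with e | e | e | e
      · exact absurd e hx.2
      · exact ⟨r, _, e.symm, ht'.good 0, hRM, hR⟩
      · exact ⟨r₁, _, e.symm, ht'.good 1, hR₁M, hR₁⟩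
      · exact ⟨r * r₁, _, by rw [e, map_mul], ht'.good 2, mul_mem hRM hR₁M, hR₂act⟩
    obtain ⟨y, c, rfl, hc, hyM, hy⟩ := hy
    refine hconj m y ?_ ⟨hyM, c, hc, hy⟩
    have hcy := Subgroup.mem_centralizer_singleton_iff.1 hn.2
    have hyH : InH y.1 := Or.inl (hy.isKron (hr_inj hW (hc.ne S.ne)) id_inj)
    rcases hker (m * y * m⁻¹) y (by rw [map_mul, map_mul, map_inv, hcy, mul_inv_cancel_right]) with e | e
    · rwa [e]
    · rw [e]; exact inH_mul hzH hyH
  obtain ⟨l', rfl⟩ : ∃ l' : L, l'.1 = l := ⟨⟨l, (hL l).2 ⟨hl, hlz⟩⟩, rfl⟩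
  obtain ⟨y, hy, hye⟩ := hsub (hN (π l'))
  rw [← map_inv, ← map_mul, ← map_inv, ← map_mul, ← map_mul] at hye
  have hRH : InH R := Or.inl (hR.isKron (hr_inj hW (ht'.aniso 0)) id_inj)
  refine S.of_conj ((hL l'.1).1 l'.2).1 hRM (ht'.good 0) hR ?_
  have hyH : InH y.1 := hy
  have key : InH (r * l' * r⁻¹ * l'⁻¹ : L).1 := by
    rcases hker (r * l' * r⁻¹ * l'⁻¹) y hye.symm with e | e
    · rwa [e]
    · rw [e]; exact inH_mul hzH hyH
  have hri : (r⁻¹ : L) = r := inv_eq_of_mul_eq_one_right (Subtype.ext hRR)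
  have e : l'.1 * R * l'.1⁻¹ = R * (r * l' * r⁻¹ * l'⁻¹ : L).1 := by
    rw [hri]
    show l'.1 * R * l'.1⁻¹ = R * (R * l'.1 * R * l'.1⁻¹)
    rw [← mul_assoc R, ← mul_assoc R, ← mul_assoc R R, hRR, one_mul]
  rw [e]
  exact inH_mul hRH key

/-- Without root elements everything stabilises the decomposition. -/
theorem Std.all_inH {g : GL (Fin 3 × Fin 3) F} (hg : g ∈ M) : InH g := by
  classical
  have hW := S.wr
  have hs := hW.hs
  have ht0 := S.trip.good 0
  obtain ⟨R, hRM, hR⟩ := S.exists_left ht0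
  obtain ⟨R', hR'M, hR'⟩ := S.exists_right ht0
  obtain ⟨z, hz⟩ : ∃ z, z = R * R' := ⟨_, rfl⟩
  have hzact : Act z (hr hW.hs (t 0)) (hr hW.hs (t 0)) := hz ▸ (by simpa using hR.mul hR')
  have hzM : z ∈ M := hz ▸ mul_mem hRM hR'M
  have hzmix : GoodMix hW.hs μ z := ⟨_, _, ht0, ht0, hzact⟩
  have hzK : IsKron z := hzact.isKron (hr_inj hW (S.trip.aniso 0)) (hr_inj hW (S.trip.aniso 0))
  have hzz : z * z = 1 := ext_kron fun u v => by
    rw [(hzact.mul hzact) u v]; simp [hr_hr hs (S.trip.aniso 0)]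
  obtain ⟨j, hj⟩ : ∃ j, j = g * R * g⁻¹ := ⟨_, rfl⟩
  have hjM : j ∈ M := hj ▸ mul_mem (mul_mem hg hRM) (inv_mem hg)
  have hjj : j * j = 1 := by
    rw [hj, show g * R * g⁻¹ * (g * R * g⁻¹) = g * (R * R) * g⁻¹ by group, S.sq_left hR (S.trip.aniso 0)]
    group
  have htz : Tr (z : Mn) = 1 := hW.trace_mix (S.trip.aniso 0) (S.trip.aniso 0) hzact
  have htR : Tr (R : Mn) = -3 := hW.trace_left (S.trip.aniso 0) hR
  suffices hjk : InH j from S.of_conj hg hRM ht0 hR (hj ▸ hjk)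
  obtain ⟨w, hw, hw1, hwz, hwj, k, hk, hzw⟩ := exists_central_invol hzz hjj fun x _ e => by
    have h1 := trace_conj x z
    rw [e, hj, trace_conj, htR, htz] at h1
    exact hW.trace_ne h1
  have hcl : Subgroup.closure ({z, j} : Set _) ≤ M := (Subgroup.closure_le M).2 (by
    rintro x (rfl | rfl)
    exacts [hzM, hjM])
  have hwM := hcl hw
  have hkM := hcl hk
  have hzw2 : z * w * (z * w) = 1 := by
    rcases hzw with e | e <;> rw [e]
    · rw [show k * z * k⁻¹ * (k * z * k⁻¹) = k * (z * z) * k⁻¹ by group, hzz]; group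
    · rw [show k * j * k⁻¹ * (k * j * k⁻¹) = k * (j * j) * k⁻¹ by group, hjj]; group
  have hww : w * w = 1 := by
    rw [mul_assoc, ← mul_assoc w z w, hwz, mul_assoc, ← mul_assoc z z, hzz, one_mul] at hzw2
    exact hzw2
  -- the third involution keeps both factors
  have hwK : IsKron w := by
    rcases S.cent_mix hzmix hwM hwz with e | e
    · exact e
    · exfalso
      have hex : IsKron (tau * (z * w)) := by
        have h1 := (isKron_tc hzK).mul e
        rwa [mul_assoc (tau * z), ← mul_assoc tau tau, tau_mul, one_mul, mul_assoc] at h1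
      rcases hzw with e' | e'
      · exact hW.swap_trace hex hzw2 (by rw [e', trace_conj, htz])
      · rw [e', hj, show k * (g * R * g⁻¹) * k⁻¹ = k * g * R * (k * g)⁻¹ by group] at hex
        exact S.not_exchange (mul_mem hkM hg) hRM ht0 hR hex
  have hwR : w * R = R * w := S.kron_comm hwM hwK ht0 ht0 hzact hR hwz
  have hzwR : z * w * R = R * (z * w) := by
    rw [mul_assoc, hwR, ← mul_assoc, ← mul_assoc, S.kron_comm hzM hzK ht0 ht0 hzact hR rfl]
  have hzwz : z * (z * w) = z * w * z := by rw [mul_assoc, hwz]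
  -- its product with `z` is good
  have hshape : GoodHT hW.hs μ (z * w) ∨ GoodMix hW.hs μ (z * w) := by
    rcases hzw with e | e
    · right
      rw [e]
      refine S.conj_goodMix hkM ?_ hzmix
      have hkR : InH (k⁻¹ * R * k⁻¹⁻¹) := by
        refine S.cent_mix hzmix (mul_mem (mul_mem (inv_mem hkM) hRM) (by rwa [inv_inv])) ?_
        rw [inv_inv]
        rw [e] at hzwR
        calc k⁻¹ * R * k * z = k⁻¹ * (R * (k * z * k⁻¹)) * k := by group
          _ = z * (k⁻¹ * R * k) := by rw [← hzwR]; group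
      have := inH_inv (S.of_conj (inv_mem hkM) hRM ht0 hR hkR)
      rwa [inv_inv] at this
    · left
      rw [e, hj, show k * (g * R * g⁻¹) * k⁻¹ = k * g * R * (k * g)⁻¹ by group]
      refine S.conj_goodHT (mul_mem hkM hg) (S.of_conj (mul_mem hkM hg) hRM ht0 hR (Or.inl ?_)) ht0 hR
      rw [show k * g * R * (k * g)⁻¹ = k * (g * R * g⁻¹) * k⁻¹ by group, ← hj, ← e]
      exact hzK.mul hwK
  have hwe : z * (z * w) = w := by rw [← mul_assoc, hzz, one_mul]
  have hws : z * (z * w) = 1 ∨ GoodHT hW.hs μ (z * (z * w)) ∨ GoodMix hW.hs μ (z * (z * w)) := by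
    rcases hshape with (⟨c, hc, h'⟩ | ⟨c, hc, h'⟩) | ⟨c, d, hc, hd, h'⟩
    · exact S.mix_mul ht0 ht0 hzact (Or.inr ⟨c, hc, rfl⟩) (Or.inl rfl) h' hzwz
    · exact S.mix_mul ht0 ht0 hzact (Or.inl rfl) (Or.inr ⟨c, hc, rfl⟩) h' hzwz
    · exact S.mix_mul ht0 ht0 hzact (Or.inr ⟨c, hc, rfl⟩) (Or.inr ⟨d, hd, rfl⟩) h' hzwz
  rw [hwe] at hws
  rcases hws with e | e | e
  · exact absurd e hw1
  · refine Or.inl (S.cent_ht ?_ hjM hwj.symm)
    rcases e with ⟨c, hc, h'⟩ | ⟨c, hc, h'⟩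
    exacts [Or.inl ⟨c, hc.ne S.ne, h'⟩, Or.inr ⟨c, hc.ne S.ne, h'⟩]
  · exact S.cent_mix e hjM hwj.symm

end Cfsg.Agent.Classical.TensorWreath
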