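import Cfsg.Agent.Lib.Classical.MaxTensorWreathAxis
import Cfsg.Agent.Lib.Classical.MaxTensorWreathCent

/-!
Overgroups of the tensor square of a three-dimensional orthogonal space: product-shaped involutions.
-/

set_option autoImplicit false
set_option linter.unusedSectionVars false
set_option linter.style.haveILetI false

namespace Cfsg.Agent.Classical.TensorWreath

open Matrix Module MaxTv TensorMax TensorOrth Overfield
open scoped Kronecker
open Cfsg.Agent.Classical.TensorRoot (kg kg_apply kg_isKron)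

variable {F : Type*} [Field F] [Fintype F]

local notation "V₃" => (Fin 3 → F)
local notation "M₃" => Matrix (Fin 3) (Fin 3) F
local notation "V" => (Fin 3 × Fin 3 → F)
local notation "Mn" => Matrix (Fin 3 × Fin 3) (Fin 3 × Fin 3) F
local notation "L₃" => ((Fin 3 → F) →ₗ[F] (Fin 3 → F))

/-- The exchange of the two factors as a matrix. -/
def swapMat : Matrix (Fin 3 × Fin 3) (Fin 3 × Fin 3) F := Matrix.of fun i j => if j = i.swap then 1 else 0

theorem swapMat_mul : swapMat * swapMat = (1 : Mn) := by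
  ext i j
  rw [Matrix.mul_apply, Finset.sum_eq_single i.swap (fun b _ hb => by simp [swapMat, hb]) (by simp)]
  simp [swapMat, Matrix.one_apply, eq_comm]

/-- The exchange of the two factors. -/
def tau : GL (Fin 3 × Fin 3) F := ⟨swapMat, swapMat, swapMat_mul, swapMat_mul⟩

theorem tau_mul : (tau : GL (Fin 3 × Fin 3) F) * tau = 1 := Units.ext swapMat_mul

theorem tau_inv : ((tau : GL (Fin 3 × Fin 3) F))⁻¹ = tau := inv_eq_of_mul_eq_one_right tau_mul

theorem tau_mulVec (t : V) (i : Fin 3 × Fin 3) : ((tau : GL (Fin 3 × Fin 3) F) : Mn) *ᵥ t = fun i => t i.swap := by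
  funext k
  show ∑ j, swapMat k j * t j = _
  simp [swapMat]

theorem tau_tmul (u v : V₃) : ((tau : GL (Fin 3 × Fin 3) F) : Mn) *ᵥ tmul u v = tmul v u := by
  rw [tau_mulVec _ (0, 0)]
  funext i
  simp [TensorMax.tmul, mul_comm]

/-- `x` is a product of two maps. -/
def Act (x : GL (Fin 3 × Fin 3) F) (P Q : (Fin 3 → F) →ₗ[F] (Fin 3 → F)) : Prop :=
  ∀ u v, (x : Matrix (Fin 3 × Fin 3) (Fin 3 × Fin 3) F) *ᵥ tmul u v = tmul (P u) (Q v)

theorem Act.mul {x y : GL (Fin 3 × Fin 3) F} {P Q P' Q' : L₃} (h : Act x P Q) (h' : Act y P' Q') :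
    Act (x * y) (P.comp P') (Q.comp Q') := fun u v => by
  rw [Units.val_mul, ← Matrix.mulVec_mulVec, h', h, LinearMap.comp_apply, LinearMap.comp_apply]

theorem Act.unique {x y : GL (Fin 3 × Fin 3) F} {P Q : L₃} (h : Act x P Q) (h' : Act y P Q) : x = y :=
  ext_kron fun u v => by rw [h, h']

theorem Act.one : Act (1 : GL (Fin 3 × Fin 3) F) LinearMap.id LinearMap.id := fun u v => by simp

theorem tmul_right_inj' {u : V₃} (hu : u ≠ 0) {v w : V₃} (e : tmul u v = tmul u w) : v = w := by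
  obtain ⟨ξ, hξ⟩ := TensorMax.exists_dual hu
  have := congrArg (lslice ξ) e
  rwa [lslice_tmul, lslice_tmul, hξ, one_smul, one_smul] at this

/-- Two product shapes of the same element agree up to a scalar. -/
theorem Act.prop {x : GL (Fin 3 × Fin 3) F} {P Q P' Q' : L₃} (h : Act x P Q) (h' : Act x P' Q')
    (hP : Function.Injective P) (hQ' : Function.Injective Q') :
    ∃ k : F, (∀ u, P' u = k • P u) ∧ ∀ v, Q v = k • Q' v := by
  have h0 : (Pi.single (0 : Fin 3) (1 : F) : V₃) ≠ 0 := by simp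
  have hQ0 : Q' (Pi.single 0 1) ≠ 0 := fun e => h0 (hQ' (e.trans (map_zero Q').symm))
  have hP0 : P (Pi.single 0 1) ≠ 0 := fun e => h0 (hP (e.trans (map_zero P).symm))
  obtain ⟨ψ, hψ⟩ := TensorMax.exists_dual hQ0
  have hP' : ∀ u, P' u = (ψ ⬝ᵥ Q (Pi.single 0 1)) • P u := fun u => by
    have := congrArg (slice ψ) ((h' u (Pi.single 0 1)).symm.trans (h u (Pi.single 0 1)))
    rwa [slice_tmul, slice_tmul, hψ, one_smul] at this
  refine ⟨_, hP', fun v => tmul_right_inj' hP0 ?_⟩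
  rw [← h, h', hP', tmul_smul_left, tmul_smul_right]

theorem Act.tc {x : GL (Fin 3 × Fin 3) F} {P Q : L₃} (h : Act x P Q) : Act (tau * x * tau) Q P := fun u v => by
  rw [Units.val_mul, Units.val_mul, ← Matrix.mulVec_mulVec, ← Matrix.mulVec_mulVec, tau_tmul, h, tau_tmul]

theorem act_kg (A B : GL (Fin 3) F) : Act (kg A B) (Matrix.toLin' (A : M₃)) (Matrix.toLin' (B : M₃)) :=
  fun u v => by rw [kg_apply, Matrix.toLin'_apply, Matrix.toLin'_apply]

theorem Act.isKron {x : GL (Fin 3 × Fin 3) F} {P Q : L₃} (h : Act x P Q) (hP : Function.Injective P)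
    (hQ : Function.Injective Q) : IsKron x := by
  obtain ⟨A, hA⟩ := exists_gl_of_injective P hP
  obtain ⟨B, hB⟩ := exists_gl_of_injective Q hQ
  exact isKron_of_apply A B fun u v => by rw [h, hA, hB]

theorem isKron_tc {x : GL (Fin 3 × Fin 3) F} (h : IsKron x) : IsKron (tau * x * tau) := by
  obtain ⟨A, B, e⟩ := h
  exact isKron_of_apply B A fun u v => by
    rw [Units.val_mul, Units.val_mul, ← Matrix.mulVec_mulVec, ← Matrix.mulVec_mulVec, tau_tmul, e, kronecker_mulVec,
      tau_tmul]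

/-- Product shape or product shape followed by the exchange. -/
def InH (g : GL (Fin 3 × Fin 3) F) : Prop := IsKron g ∨ IsKron (tau * g)

/-- The stabiliser of the unordered tensor decomposition. -/
def hSub : Subgroup (GL (Fin 3 × Fin 3) F) where
  carrier := {g | InH g}
  one_mem' := Or.inl (TensorOrth.kg_one (α := Fin 3) (β := Fin 3) (F := F) ▸ kg_isKron _ _)
  inv_mem' {g} hg := by
    rcases hg with h | h
    · exact Or.inl h.inv
    · refine Or.inr ?_
      have := isKron_tc h.inv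
      rwa [_root_.mul_inv_rev, tau_inv, mul_assoc, mul_assoc, tau_mul, mul_one] at this
  mul_mem' {g k} hg hk := by
    rcases hg with h | h <;> rcases hk with h' | h'
    · exact Or.inl (h.mul h')
    · refine Or.inr ?_
      have := (isKron_tc h).mul h'
      rwa [mul_assoc (tau * g), ← mul_assoc tau tau, tau_mul, one_mul, mul_assoc] at this
    · exact Or.inr (by rw [← mul_assoc]; exact h.mul h')
    · refine Or.inl ?_
      have := (isKron_tc h).mul h'
      rwa [← mul_assoc tau tau, tau_mul, one_mul, mul_assoc g tau, ← mul_assoc tau tau, tau_mul, one_mul] at this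

/-- Conjugation by the exchange. -/
def swp : GL (Fin 3 × Fin 3) F →* GL (Fin 3 × Fin 3) F := (MulAut.conj tau).toMonoidHom

theorem swp_apply (x : GL (Fin 3 × Fin 3) F) : swp x = tau * x * tau := by
  show tau * x * tau⁻¹ = _
  rw [tau_inv]

theorem swp_swp (x : GL (Fin 3 × Fin 3) F) : swp (swp x) = x := by
  rw [swp_apply, swp_apply, ← mul_assoc, ← mul_assoc, tau_mul, one_mul, mul_assoc, tau_mul, mul_one]

/-- The setting: `G` contains all squares of isometries, `M` contains the product-shaped elements of `G`. -/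
structure Wr (h : (Fin 3 → F) → (Fin 3 → F) → F) (f : (Fin 3 × Fin 3 → F) → (Fin 3 × Fin 3 → F) → F)
    (G M : Subgroup (GL (Fin 3 × Fin 3) F)) : Prop where
  two : (2 : F) ≠ 0
  h5 : 5 ≤ Fintype.card F
  hs : Sym h
  hV : Sym f
  ten : ∀ x x' y y', f (tmul x y) (tmul x' y') = h x x' * h y y'
  sq : ∀ g ∈ iso f, g * g ∈ G
  gIso : G ≤ iso f
  gdet : ∀ g ∈ G, (g : Matrix (Fin 3 × Fin 3) (Fin 3 × Fin 3) F).det = 1
  le : M ≤ G
  mem : ∀ g ∈ G, IsKron g → g ∈ M

variable {h : (Fin 3 → F) → (Fin 3 → F) → F} {f : (Fin 3 × Fin 3 → F) → (Fin 3 × Fin 3 → F) → F}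
  {G M : Subgroup (GL (Fin 3 × Fin 3) F)}

theorem Wr.ovr (W : Wr h f G M) : Ovr h h f G M where
  two := W.two
  hA := W.hs
  hB := W.hs
  hV := W.hV
  ten := W.ten
  sq := W.sq
  gIso := W.gIso
  le := W.le
  mem := W.mem
  ha := by rw [Fintype.card_fin]
  hb := by rw [Fintype.card_fin]
  hB4 := fun e => by rw [Fintype.card_fin] at e; omega
  hex := fun e => by have := W.h5; omega

theorem Wr.tau_iso (W : Wr h f G M) : (tau : GL (Fin 3 × Fin 3) F) ∈ iso f := by
  have hpure : ∀ (s : V) u v, f ((tau : GL (Fin 3 × Fin 3) F) *ᵥ s : V) (((tau : GL (Fin 3 × Fin 3) F) : Mn) *ᵥ tmul u v) =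
      f s (tmul u v) := fun s u v => by
    have e : (W.hV.lin (((tau : GL (Fin 3 × Fin 3) F) : Mn) *ᵥ tmul u v)).comp
        (Matrix.toLin' ((tau : GL (Fin 3 × Fin 3) F) : Mn)) = W.hV.lin (tmul u v) := ext_pure fun a b => by
      simp only [LinearMap.comp_apply, Matrix.toLin'_apply, Sym.lin_apply, tau_tmul, W.ten, mul_comm]
    have := LinearMap.congr_fun e s
    rwa [LinearMap.comp_apply, Sym.lin_apply, Sym.lin_apply, Matrix.toLin'_apply] at this
  intro s t
  have e : (W.hV.lin (((tau : GL (Fin 3 × Fin 3) F) : Mn) *ᵥ s)).comp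
      (Matrix.toLin' ((tau : GL (Fin 3 × Fin 3) F) : Mn)) = W.hV.lin s := ext_pure fun a b => by
    simp only [LinearMap.comp_apply, Matrix.toLin'_apply, Sym.lin_apply]
    rw [W.hV.symm _ (((tau : GL (Fin 3 × Fin 3) F) : Mn) *ᵥ s), hpure, W.hV.symm]
  have := LinearMap.congr_fun e t
  rw [LinearMap.comp_apply, Sym.lin_apply, Sym.lin_apply, Matrix.toLin'_apply] at this
  rw [W.hV.symm, this, W.hV.symm]

theorem Wr.g_normal (W : Wr h f G M) {g k : GL (Fin 3 × Fin 3) F} (hg : g ∈ iso f) (hk : k ∈ G) :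
    g * k * g⁻¹ ∈ G := by
  have := mul_mem (W.sq _ (mul_mem hg (W.gIso hk))) (mul_mem (inv_mem hk) (W.sq _ (inv_mem hg)))
  convert this using 1
  group

theorem Wr.swp_mem (W : Wr h f G M) {k : GL (Fin 3 × Fin 3) F} (hk : k ∈ G) : swp k ∈ G :=
  W.g_normal W.tau_iso hk

theorem Wr.swap (W : Wr h f G M) : Wr h f G (M.comap swp) :=
  { W with
    le := fun g hg => by
      have := W.swp_mem (W.le hg)
      rwa [swp_swp] at this
    mem := fun g hg hk => W.mem _ (W.swp_mem hg) (by rw [swp_apply]; exact isKron_tc hk) }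

/-- The setting without root elements on lines of either factor, with a fixed triple of axes. -/
structure Std (h : (Fin 3 → F) → (Fin 3 → F) → F) (f : (Fin 3 × Fin 3 → F) → (Fin 3 × Fin 3 → F) → F)
    (G M : Subgroup (GL (Fin 3 × Fin 3) F)) (μ : F) (t : Fin 3 → Fin 3 → F) : Prop where
  wr : Wr h f G M
  trip : Trip h μ t
  noRoot : NoRoot h M
  noRoot' : NoRoot h (M.comap swp)

variable {μ : F} {t : Fin 3 → Fin 3 → F}

theorem Std.swap (S : Std h f G M μ t) : Std h f G (M.comap swp) μ t where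
  wr := S.wr.swap
  trip := S.trip
  noRoot := S.noRoot'
  noRoot' := by
    rw [show (M.comap swp).comap swp = M from Subgroup.ext fun x => by simp [Subgroup.mem_comap, swp_swp]]
    exact S.noRoot

variable (W : Wr h f G M)
include W

theorem hr_inj {a : V₃} (ha : h a a ≠ 0) : Function.Injective (hr W.hs a) := fun x y e => by
  rw [← hr_hr W.hs ha x, e, hr_hr W.hs ha y]

omit W in
theorem id_inj : Function.Injective (LinearMap.id : L₃) := fun _ _ e => e

/-- Similitude factors of a product-shaped isometry. -/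
theorem Wr.kron_sim {x : GL (Fin 3 × Fin 3) F} (hx : x ∈ iso f) (hk : IsKron x) :
    ∃ (A B : GL (Fin 3) F) (ν : F), ν ≠ 0 ∧ Act x (Matrix.toLin' (A : M₃)) (Matrix.toLin' (B : M₃)) ∧
      (∀ u u', h ((A : M₃) *ᵥ u) ((A : M₃) *ᵥ u') = ν * h u u') ∧
      ∀ v v', h ((B : M₃) *ᵥ v) ((B : M₃) *ᵥ v') = ν⁻¹ * h v v' := by
  obtain ⟨A, B, e⟩ := hk
  have hap : ∀ u v, (x : Mn) *ᵥ tmul u v = tmul ((A : M₃) *ᵥ u) ((B : M₃) *ᵥ v) := fun u v => by
    rw [e, kronecker_mulVec]
  obtain ⟨w, -, hw⟩ := W.hs.exists_aniso W.two W.hs.ndOn_top ⟨Pi.single 0 1, trivial, by simp⟩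
  have key : ∀ u u' v v', h ((A : M₃) *ᵥ u) ((A : M₃) *ᵥ u') * h ((B : M₃) *ᵥ v) ((B : M₃) *ᵥ v') =
      h u u' * h v v' := fun u u' v v' => by rw [← W.ten, ← hap, ← hap, hx, W.ten]
  obtain ⟨ν, hν⟩ : ∃ ν, ν = h w w / h ((B : M₃) *ᵥ w) ((B : M₃) *ᵥ w) := ⟨_, rfl⟩
  have hBw : h ((B : M₃) *ᵥ w) ((B : M₃) *ᵥ w) ≠ 0 := fun e0 => by
    have := key w w w w
    rw [e0, mul_zero] at this
    exact mul_ne_zero hw hw this.symm
  have hν0 : ν ≠ 0 := hν ▸ div_ne_zero hw hBw
  have hA : ∀ u u', h ((A : M₃) *ᵥ u) ((A : M₃) *ᵥ u') = ν * h u u' := fun u u' => by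
    rw [hν, div_mul_eq_mul_div, eq_div_iff hBw, key]; ring
  refine ⟨A, B, ν, hν0, fun u v => by rw [hap, Matrix.toLin'_apply, Matrix.toLin'_apply], hA, fun v v' => ?_⟩
  have := key w w v v'
  rw [hA] at this
  rw [eq_inv_mul_iff_mul_eq₀ hν0]
  exact mul_left_cancel₀ hw (by linear_combination this)

/-- A similitude moves half turns to half turns. -/
theorem Wr.hr_sim {A : GL (Fin 3) F} {ν : F} (hν : ν ≠ 0)
    (hA : ∀ u u', h ((A : M₃) *ᵥ u) ((A : M₃) *ᵥ u') = ν * h u u') (a u : V₃) :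
    (A : M₃) *ᵥ hr W.hs a u = hr W.hs ((A : M₃) *ᵥ a) ((A : M₃) *ᵥ u) := by
  rw [hr_apply, hr_apply, Matrix.mulVec_sub, Matrix.mulVec_smul, hA, hA]
  congr 2
  field_simp

/-- Conjugates of half-turn shapes by product-shaped isometries. -/
theorem Wr.conj_act {x y : GL (Fin 3 × Fin 3) F} {A B : GL (Fin 3) F} {P Q P' Q' : L₃}
    (hx : Act x (Matrix.toLin' (A : M₃)) (Matrix.toLin' (B : M₃))) (hy : Act y P Q)
    (hP : ∀ u, P' ((A : M₃) *ᵥ u) = (A : M₃) *ᵥ P u) (hQ : ∀ v, Q' ((B : M₃) *ᵥ v) = (B : M₃) *ᵥ Q v) :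
    Act (x * y * x⁻¹) P' Q' := fun u v => by
  obtain ⟨u', rfl⟩ : ∃ u', (A : M₃) *ᵥ u' = u := ⟨_, mulVec_inv_cancel A u⟩
  obtain ⟨v', rfl⟩ : ∃ v', (B : M₃) *ᵥ v' = v := ⟨_, mulVec_inv_cancel B v⟩
  have e : (x : Mn) *ᵥ tmul u' v' = tmul ((A : M₃) *ᵥ u') ((B : M₃) *ᵥ v') := by
    rw [hx, Matrix.toLin'_apply, Matrix.toLin'_apply]
  rw [Units.val_mul, Units.val_mul, ← Matrix.mulVec_mulVec, ← Matrix.mulVec_mulVec, ← e, inv_mulVec_cancel, hy, hx,
    hP, hQ, Matrix.toLin'_apply, Matrix.toLin'_apply]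

/-- A half turn of the first factor in the standard shape. -/
theorem Wr.isRm_of_act {x : GL (Fin 3 × Fin 3) F} {a : V₃} (hx : Act x (hr W.hs a) LinearMap.id) :
    IsRm h x a := by
  intro s
  refine LinearMap.congr_fun (f := Matrix.toLin' (x : Mn))
    (g := (2 / h a a) • (((LinearMap.mk₂ F (fun (u : Fin 3 → F) (w : Fin 3 → F) => tmul u w) tmul_add_left
      tmul_smul_left tmul_add_right (fun k u w => tmul_smul_right k u w)) a).comp (la h a)) - LinearMap.id)
    (ext_pure fun u w => ?_) s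
  simp only [Matrix.toLin'_apply, LinearMap.sub_apply, LinearMap.smul_apply, LinearMap.comp_apply,
    LinearMap.mk₂_apply, LinearMap.id_apply, W.ovr.la_tmul, hx u w, hr_apply, tmul_smul_right, smul_smul,
    tmul_smul_left, tmul_sub_left]

omit W in
theorem trace_conj (g x : GL (Fin 3 × Fin 3) F) :
    Matrix.trace ((g * x * g⁻¹ : GL (Fin 3 × Fin 3) F) : Mn) = Matrix.trace (x : Mn) := by
  rw [Units.val_mul, Units.val_mul, Matrix.trace_units_conj]

theorem det_trace_hr {a : V₃} (ha : h a a ≠ 0) {A : GL (Fin 3) F} (hA : ∀ u, (A : M₃) *ᵥ u = hr W.hs a u) :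
    (A : M₃).det = 1 ∧ Matrix.trace (A : M₃) = -1 := by
  obtain ⟨w, hw⟩ : ∃ w : V₃, w = fun j => 2 / h a a * h (Pi.single j 1) a := ⟨_, rfl⟩
  have hm : (A : M₃) = Matrix.vecMulVec a w - 1 := by
    refine Matrix.ext fun i j => ?_
    have := congrFun (hA (Pi.single j 1)) i
    rw [Matrix.mulVec_single_one, hr_apply] at this
    simp only [Matrix.col_apply, Pi.sub_apply, Pi.smul_apply, smul_eq_mul] at this
    rw [this, Matrix.sub_apply, Matrix.vecMulVec_apply, hw, Matrix.one_apply, Pi.single_apply, mul_comm]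
  have hwa : w ⬝ᵥ a = 2 := by
    have e : W.hs.lin a a = ∑ j, a j * h (Pi.single j 1) a := by
      conv_lhs => arg 2; rw [← Finset.univ_sum_single a]
      rw [map_sum]
      refine Finset.sum_congr rfl fun j _ => ?_
      rw [show (Pi.single j (a j) : V₃) = a j • Pi.single j 1 by rw [← Pi.single_smul, smul_eq_mul, mul_one],
        map_smul, smul_eq_mul, Sym.lin_apply]
    rw [Sym.lin_apply] at e
    show ∑ j, w j * a j = 2
    calc ∑ j, w j * a j = 2 / h a a * ∑ j, a j * h (Pi.single j 1) a := by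
          rw [Finset.mul_sum, hw]; exact Finset.sum_congr rfl fun j _ => by ring
      _ = 2 := by rw [← e, div_mul_cancel₀ _ ha]
  refine ⟨?_, ?_⟩
  · rw [hm, show Matrix.vecMulVec a w - 1 = -(1 + Matrix.vecMulVec (-a) w) by
      rw [Matrix.neg_vecMulVec]; abel, Matrix.det_neg, Matrix.vecMulVec_eq Unit,
      Matrix.det_one_add_replicateCol_mul_replicateRow, dotProduct_neg, hwa, Fintype.card_fin]
    ring
  · rw [hm, Matrix.trace_sub, Matrix.trace_vecMulVec, dotProduct_comm, hwa, Matrix.trace_one, Fintype.card_fin]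
    ring

theorem Wr.trace_mix {x : GL (Fin 3 × Fin 3) F} {a b : V₃} (ha : h a a ≠ 0) (hb : h b b ≠ 0)
    (hx : Act x (hr W.hs a) (hr W.hs b)) : Matrix.trace (x : Mn) = 1 := by
  obtain ⟨A, hA⟩ := exists_gl_of_injective _ (hr_inj W ha)
  obtain ⟨B, hB⟩ := exists_gl_of_injective _ (hr_inj W hb)
  have : x = kg A B := ext_kron fun u v => by rw [hx, kg_apply, hA, hB]
  subst this
  show Matrix.trace ((A : M₃) ⊗ₖ (B : M₃)) = 1
  rw [Matrix.trace_kronecker, (det_trace_hr W ha hA).2, (det_trace_hr W hb hB).2]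
  ring

theorem Wr.trace_left {x : GL (Fin 3 × Fin 3) F} {a : V₃} (ha : h a a ≠ 0)
    (hx : Act x (hr W.hs a) LinearMap.id) : Matrix.trace (x : Mn) = -3 := by
  obtain ⟨A, hA⟩ := exists_gl_of_injective _ (hr_inj W ha)
  have : x = kg A 1 := ext_kron fun u v => by
    rw [hx, kg_apply, hA, Units.val_one, Matrix.one_mulVec, LinearMap.id_apply]
  subst this
  show Matrix.trace ((A : M₃) ⊗ₖ ((1 : GL (Fin 3) F) : M₃)) = -3
  rw [Matrix.trace_kronecker, (det_trace_hr W ha hA).2, Units.val_one, Matrix.trace_one, Fintype.card_fin]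
  norm_num

theorem Wr.trace_ne : (-3 : F) ≠ 1 := fun e => by
  have : (2 : F) * 2 = 0 := by linear_combination -e
  exact W.two ((mul_eq_zero.1 this).elim id id)

/-- An involutory similitude is a half turn up to sign. -/
theorem Wr.invol_cases {P : L₃} (hP : ∀ u, P (P u) = u) {ν : F} (hsim : ∀ u v, h (P u) (P v) = ν * h u v) :
    ∃ (σ : F) (P' : L₃), (σ = 1 ∨ σ = -1) ∧ (∀ u, P u = σ • P' u) ∧
      (P' = LinearMap.id ∨ ∃ a, h a a ≠ 0 ∧ P' = hr W.hs a) := by
  have hs := W.hs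
  have h2 := W.two
  by_cases h1 : ∀ u, P u = u
  · exact ⟨1, LinearMap.id, Or.inl rfl, fun u => by rw [h1, one_smul, LinearMap.id_apply], Or.inl rfl⟩
  by_cases hm1 : ∀ u, P u = -u
  · exact ⟨-1, LinearMap.id, Or.inr rfl, fun u => by rw [hm1, neg_one_smul, LinearMap.id_apply], Or.inl rfl⟩
  push Not at h1 hm1
  obtain ⟨u₁, hu₁⟩ := h1
  obtain ⟨u₂, hu₂⟩ := hm1
  obtain ⟨p, hp0, hp⟩ : ∃ p, p ≠ 0 ∧ P p = p :=
    ⟨P u₂ + u₂, fun e => hu₂ (eq_neg_of_add_eq_zero_left e), by rw [map_add, hP, add_comm]⟩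
  obtain ⟨m, hm0, hm⟩ : ∃ m, m ≠ 0 ∧ P m = -m :=
    ⟨P u₁ - u₁, sub_ne_zero.2 hu₁, by rw [map_sub, hP, neg_sub]⟩
  have hsplit : ∀ v, ∃ a b, v = a + b ∧ P a = a ∧ P b = -b := fun v =>
    ⟨(2 : F)⁻¹ • (v + P v), (2 : F)⁻¹ • (v - P v), by match_scalars <;> field_simp <;> ring,
      by rw [map_smul, map_add, hP, add_comm], by rw [map_smul, map_sub, hP, ← smul_neg, neg_sub]⟩
  have hν : ν = 1 := by
    by_contra hν
    have hiso : ∀ a b, ((P a = a ∧ P b = b) ∨ (P a = -a ∧ P b = -b)) → h a b = 0 := by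
      intro a b hab
      have h1 : h a b = ν * h a b := by
        rw [← hsim a b]
        rcases hab with ⟨e, e'⟩ | ⟨e, e'⟩
        · rw [e, e']
        · rw [e, e', hs.neg_left, hs.neg_right, neg_neg]
      have : (1 - ν) * h a b = 0 := by linear_combination h1
      exact (mul_eq_zero.1 this).resolve_left (sub_ne_zero.2 (Ne.symm hν))
    have hdep : ∀ q q', q ≠ 0 → h q q = 0 → h q' q' = 0 → h q' q = 0 → ∃ k : F, q' = k • q := by
      intro q q' hq hqq hq'q' hq'q
      obtain ⟨u, huu, hu⟩ := hs.exists_partner h2 hqq hq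
      obtain ⟨c, hc, hcc⟩ := hs.exists_aniso h2 (hs.ndOn_perp2 huu hqq hu)
        (Submodule.exists_mem_ne_zero_of_ne_bot fun e => by
          have := hs.finrank_perp2 u q
          rw [e, finrank_bot, Fintype.card_fin] at this
          omega)
      have hb := hs.three_basis (Fintype.card_fin 3) hqq huu hu hc.1 hc.2 hcc q'
      rw [hq'q, zero_smul, add_zero] at hb
      obtain ⟨l, hl⟩ : ∃ l, l = (h c c)⁻¹ * h q' c := ⟨_, rfl⟩
      rw [← hl] at hb
      have hq := hq'q'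
      rw [hb] at hq
      simp only [hs.add_left, hs.add_right, hs.smul_left, hs.smul_right, hqq, hs.symm q c,
        (show h c q = 0 from hc.2), mul_zero, zero_add, add_zero] at hq
      have hl0 : l = 0 := by simpa [hcc] using hq
      exact ⟨h q' u, by rwa [hl0, zero_smul, add_zero] at hb⟩
    obtain ⟨v, hv0, hvp, hvm⟩ := exists_perp_two hs p m
    refine hv0 (hs.eq_zero v fun w => ?_)
    obtain ⟨a, b, hab, ha, hb⟩ := hsplit w
    obtain ⟨k, hk⟩ := hdep p a hp0 (hiso p p (Or.inl ⟨hp, hp⟩)) (hiso a a (Or.inl ⟨ha, ha⟩))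
      (hiso a p (Or.inl ⟨ha, hp⟩))
    obtain ⟨l, hl⟩ := hdep m b hm0 (hiso m m (Or.inr ⟨hm, hm⟩)) (hiso b b (Or.inr ⟨hb, hb⟩))
      (hiso b m (Or.inr ⟨hb, hm⟩))
    simp only [hab, hk, hl, hs.add_left, hs.add_right, hs.smul_left, hs.smul_right, hs.symm p v, hs.symm m v, hvp, hvm,
      mul_zero, add_zero]
  subst hν
  have hcross : ∀ a b, P a = a → P b = -b → h a b = 0 := fun a b ha hb => by
    have h1 := hsim a b
    rw [ha, hb, hs.neg_right, one_mul] at h1
    exact (mul_eq_zero.1 (show (2 : F) * h a b = 0 by linear_combination -h1)).resolve_left h2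
  -- anisotropic eigenvectors of both kinds
  obtain ⟨a, ha, haa⟩ : ∃ a, P a = a ∧ h a a ≠ 0 := by
    obtain ⟨y, hy⟩ := hs.sesq.exists_left hp0
    obtain ⟨ya, yb, rfl, hya, hyb⟩ := hsplit y
    have hpy : h p ya ≠ 0 := by
      rw [hs.add_left, hs.symm yb p, hcross p yb hp hyb, add_zero, hs.symm] at hy
      exact hy
    by_contra hc
    push Not at hc
    have e := hc (p + ya) (by rw [map_add, hp, hya])
    rw [hs.add_left, hs.add_right, hs.add_right, hc p hp, hc ya hya, hs.symm ya p, zero_add, add_zero] at e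
    exact hpy ((mul_eq_zero.1 ((two_mul _).trans e)).resolve_left h2)
  obtain ⟨b, hb, hbb⟩ : ∃ b, P b = -b ∧ h b b ≠ 0 := by
    obtain ⟨y, hy⟩ := hs.sesq.exists_left hm0
    obtain ⟨ya, yb, rfl, hya, hyb⟩ := hsplit y
    have hmy : h m yb ≠ 0 := by
      rw [hs.add_left, hcross ya m hya hm, zero_add, hs.symm] at hy
      exact hy
    by_contra hc
    push Not at hc
    have e := hc (m + yb) (by rw [map_add, hm, hyb, neg_add])
    rw [hs.add_left, hs.add_right, hs.add_right, hc m hm, hc yb hyb, hs.symm yb m, zero_add, add_zero] at e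
    exact hmy ((mul_eq_zero.1 ((two_mul _).trans e)).resolve_left h2)
  have hab := hcross a b ha hb
  obtain ⟨d, hdd, hda, hdb⟩ := exists_third_axis hs h2 haa hbb hab
  have hba : h b a = 0 := by rw [hs.symm, hab]
  have had : h a d = 0 := by rw [hs.symm, hda]
  have hbd : h b d = 0 := by rw [hs.symm, hdb]
  obtain ⟨l, hl⟩ : ∃ l, l = h (P d) d / h d d := ⟨_, rfl⟩
  have hPd : P d = l • d := by
    have e1 : h (P d) a = 0 := by rw [← ha, hsim, hda, one_mul]
    have e2 : h (P d) b = 0 := by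
      have := hsim d b
      rw [hb, hs.neg_right, hdb, mul_zero, neg_eq_zero] at this
      exact this
    have := ortho_basis hs h2 haa hbb hdd hab had hbd (P d)
    rwa [e1, e2, zero_div, zero_div, zero_smul, zero_smul, zero_add, zero_add, ← hl] at this
  have hll : l * l = 1 := by
    have := hP d
    rw [hPd, map_smul, hPd, smul_smul] at this
    exact smul_left_injective F (fun e => hdd (by rw [e, hs.zero_left])) (this.trans (one_smul F d).symm)
  rcases mul_self_eq_one_iff.1 hll with hl1 | hl1 <;> rw [hl1] at hPd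
  · rw [one_smul] at hPd
    refine ⟨-1, hr hs b, Or.inr rfl, fun u => ?_, Or.inr ⟨b, hbb, rfl⟩⟩
    rw [ortho_basis hs h2 haa hbb hdd hab had hbd u]
    simp only [map_add, map_smul, ha, hb, hPd, hr_self hs hbb, hr_perp hs hab, hr_perp hs hdb]
    module
  · rw [neg_one_smul] at hPd
    refine ⟨1, hr hs a, Or.inl rfl, fun u => ?_, Or.inr ⟨a, haa, rfl⟩⟩
    rw [ortho_basis hs h2 haa hbb hdd hab had hbd u]
    simp only [map_add, map_smul, ha, hb, hPd, hr_self hs haa, hr_perp hs hba, hr_perp hs hda, one_smul]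

/-- Product-shaped involutions of determinant one. -/
theorem Wr.kron_invol {x : GL (Fin 3 × Fin 3) F} (hx : x ∈ G) (hk : IsKron x) (hxx : x * x = 1) :
    x = 1 ∨ (∃ a, h a a ≠ 0 ∧ Act x (hr W.hs a) LinearMap.id) ∨
      (∃ b, h b b ≠ 0 ∧ Act x LinearMap.id (hr W.hs b)) ∨
      ∃ a b, h a a ≠ 0 ∧ h b b ≠ 0 ∧ Act x (hr W.hs a) (hr W.hs b) := by
  obtain ⟨A, B, ν, hν, hact, hA, hB⟩ := W.kron_sim (W.gIso hx) hk
  have h11 := hact.mul hact
  rw [hxx] at h11
  have hAi : Function.Injective (Matrix.toLin' (A : M₃)) := fun u v e => gl_mulVec_injective A (by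
    simpa only [Matrix.toLin'_apply] using e)
  obtain ⟨κ, hκA, hκB⟩ := Act.one.prop h11 id_inj (fun u v e => by
    have hBi : Function.Injective (Matrix.toLin' (B : M₃)) := fun u v e => gl_mulVec_injective B (by
      simpa only [Matrix.toLin'_apply] using e)
    exact hBi (hBi e))
  simp only [LinearMap.comp_apply, Matrix.toLin'_apply, LinearMap.id_apply] at hκA hκB
  have hκ0 : κ ≠ 0 := fun e => by
    have := hκB (Pi.single 0 1)
    rw [e, zero_smul] at this
    exact absurd this (by simp)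
  obtain ⟨c, hc⟩ : ∃ c : F, c * c = κ := by
    have hm : (A : M₃) * (A : M₃) = κ • 1 := Matrix.ext_iff_mulVec.2 fun u => by
      rw [← Matrix.mulVec_mulVec, hκA, Matrix.smul_mulVec, Matrix.one_mulVec]
    have hd := congrArg Matrix.det hm
    rw [Matrix.det_mul, Matrix.det_smul, Matrix.det_one, Fintype.card_fin, mul_one] at hd
    exact ⟨(A : M₃).det / κ, by rw [div_mul_div_comm, hd]; field_simp⟩
  have hc0 : c ≠ 0 := fun e => hκ0 (by rw [← hc, e, zero_mul])
  obtain ⟨P, hP⟩ : ∃ P : L₃, P = c⁻¹ • Matrix.toLin' (A : M₃) := ⟨_, rfl⟩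
  obtain ⟨Q, hQ⟩ : ∃ Q : L₃, Q = c • Matrix.toLin' (B : M₃) := ⟨_, rfl⟩
  have hxPQ : Act x P Q := fun u v => by
    rw [hact, hP, hQ, LinearMap.smul_apply, LinearMap.smul_apply, tmul_smul_left, tmul_smul_right, smul_smul,
      inv_mul_cancel₀ hc0, one_smul]
  have hPP : ∀ u, P (P u) = u := fun u => by
    simp only [hP, LinearMap.smul_apply, Matrix.toLin'_apply, Matrix.mulVec_smul, hκA, smul_smul]
    rw [← hc, show c⁻¹ * (c⁻¹ * (c * c)) = 1 by field_simp, one_smul]
  have hQQ : ∀ v, Q (Q v) = v := fun v => by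
    simp only [hQ, LinearMap.smul_apply, Matrix.toLin'_apply, Matrix.mulVec_smul, smul_smul]
    rw [hc, ← hκB]
  obtain ⟨σ, P', hσ, hPσ, hP'⟩ := W.invol_cases hPP (ν := c⁻¹ * c⁻¹ * ν) fun u v => by
    simp only [hP, LinearMap.smul_apply, Matrix.toLin'_apply, W.hs.smul_left, W.hs.smul_right, hA]; ring
  obtain ⟨ρ, Q', hρ, hQρ, hQ'⟩ := W.invol_cases hQQ (ν := c * c * ν⁻¹) fun u v => by
    simp only [hQ, LinearMap.smul_apply, Matrix.toLin'_apply, W.hs.smul_left, W.hs.smul_right, hB]; ring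
  obtain ⟨s, hs1, hsx⟩ : ∃ s : F, (s = 1 ∨ s = -1) ∧ ∀ u v, (x : Mn) *ᵥ tmul u v = s • tmul (P' u) (Q' v) :=
    ⟨σ * ρ, by rcases hσ with rfl | rfl <;> rcases hρ with rfl | rfl <;> simp, fun u v => by
      rw [hxPQ, hPσ, hQρ, tmul_smul_left, tmul_smul_right, smul_smul]⟩
  have hinj : ∀ R : L₃, (R = LinearMap.id ∨ ∃ a, h a a ≠ 0 ∧ R = hr W.hs a) → Function.Injective R := by
    rintro R (rfl | ⟨a, ha, rfl⟩)
    exacts [id_inj, hr_inj W ha]
  obtain ⟨A', hA'⟩ := exists_gl_of_injective P' (hinj P' hP')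
  obtain ⟨B', hB'⟩ := exists_gl_of_injective Q' (hinj Q' hQ')
  have hdet : ∀ (R : L₃) (A : GL (Fin 3) F), (∀ u, (A : M₃) *ᵥ u = R u) →
      (R = LinearMap.id ∨ ∃ a, h a a ≠ 0 ∧ R = hr W.hs a) → (A : M₃).det = 1 := by
    rintro R A hA (rfl | ⟨a, ha, rfl⟩)
    · rw [show (A : M₃) = 1 from Matrix.ext_iff_mulVec.2 fun u => by rw [hA, Matrix.one_mulVec]; rfl, Matrix.det_one]
    · exact (det_trace_hr W ha hA).1
  have hs1' : s = 1 := by
    have hm : (x : Mn) = s • ((A' : M₃) ⊗ₖ (B' : M₃)) := by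
      refine Matrix.ext_iff_mulVec.2 fun w => ?_
      have := LinearMap.congr_fun (f := Matrix.toLin' (x : Mn))
        (g := s • Matrix.toLin' ((A' : M₃) ⊗ₖ (B' : M₃))) (ext_pure fun u v => by
          rw [Matrix.toLin'_apply, LinearMap.smul_apply, Matrix.toLin'_apply, kronecker_mulVec, hsx, hA', hB']) w
      simpa [Matrix.toLin'_apply, Matrix.smul_mulVec] using this
    have := W.gdet x hx
    rw [hm, Matrix.det_smul, Matrix.det_kronecker, hdet P' A' hA' hP', hdet Q' B' hB' hQ', one_pow, one_mul,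
      mul_one, Fintype.card_prod, Fintype.card_fin] at this
    rcases hs1 with rfl | rfl
    · rfl
    · norm_num at this
      exact absurd (show (2 : F) = 0 by linear_combination -this) W.two
  have hxA : Act x P' Q' := fun u v => by rw [hsx, hs1', one_smul]
  rcases hP' with rfl | ⟨a, ha, rfl⟩ <;> rcases hQ' with rfl | ⟨b, hb, rfl⟩
  · exact Or.inl (hxA.unique Act.one)
  · exact Or.inr (Or.inr (Or.inl ⟨b, hb, hxA⟩))
  · exact Or.inr (Or.inl ⟨a, ha, hxA⟩)
  · exact Or.inr (Or.inr (Or.inr ⟨a, b, ha, hb, hxA⟩))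

/-- An involution exchanging the factors does not have trace one. -/
theorem Wr.swap_trace {x : GL (Fin 3 × Fin 3) F} (hk : IsKron (tau * x)) (hxx : x * x = 1) :
    Matrix.trace (x : Mn) ≠ 1 := by
  obtain ⟨A, B, e⟩ := hk
  have hxkg : x = tau * kg A B := by
    have : tau * x = kg A B := Units.ext (e.trans rfl)
    rw [← this, ← mul_assoc, tau_mul, one_mul]
  have hact := (act_kg A B).tc
  have h11 := hact.mul (act_kg A B)
  rw [mul_assoc, ← hxkg, hxx] at h11
  obtain ⟨κ, hκ, hκ'⟩ := Act.one.prop h11 id_inj (fun u v e => by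
    simp only [LinearMap.comp_apply, Matrix.toLin'_apply] at e
    exact gl_mulVec_injective B (gl_mulVec_injective A e))
  simp only [LinearMap.comp_apply, Matrix.toLin'_apply, LinearMap.id_apply] at hκ hκ'
  have hκκ : κ * κ = 1 := by
    have h1 := hκ' ((A : M₃) *ᵥ Pi.single 0 1)
    rw [hκ (Pi.single 0 1), Matrix.mulVec_smul, smul_smul] at h1
    refine (smul_left_injective F (show (A : M₃) *ᵥ (Pi.single 0 1 : V₃) ≠ 0 from fun e0 => by
      have := gl_mulVec_injective A (e0.trans (Matrix.mulVec_zero _).symm)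
      simp at this) ?_).symm
    show (1 : F) • _ = (κ * κ) • _
    rw [one_smul]
    exact h1
  -- a conjugate of the exchange up to sign
  have hconj : (x : Mn) = κ • ((kg A⁻¹ 1 * tau * (kg A⁻¹ 1)⁻¹ : GL (Fin 3 × Fin 3) F) : Mn) := by
    have hinv : (kg A⁻¹ (1 : GL (Fin 3) F))⁻¹ = kg A 1 := inv_eq_of_mul_eq_one_right (by
      rw [← TensorOrth.kg_mul, inv_mul_cancel, one_mul, TensorOrth.kg_one])
    refine Matrix.ext_iff_mulVec.2 fun w => ?_
    rw [Matrix.smul_mulVec]
    exact LinearMap.congr_fun (f := Matrix.toLin' (x : Mn))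
      (g := κ • Matrix.toLin' ((kg A⁻¹ 1 * tau * (kg A⁻¹ 1)⁻¹ : GL (Fin 3 × Fin 3) F) : Mn)) (ext_pure fun u v => by
        simp only [Matrix.toLin'_apply, LinearMap.smul_apply, hxkg, hinv, Units.val_mul, ← Matrix.mulVec_mulVec,
          kg_apply, tau_tmul, Units.val_one, Matrix.one_mulVec]
        have e1 : (B : M₃) *ᵥ v = κ • ((A⁻¹ : GL (Fin 3) F) : M₃) *ᵥ v := by
          apply gl_mulVec_injective A
          show (A : M₃) *ᵥ _ = (A : M₃) *ᵥ _
          rw [Matrix.mulVec_smul, mulVec_inv_cancel]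
          have := hκ' v
          calc (A : M₃) *ᵥ (B : M₃) *ᵥ v = (κ * κ) • (A : M₃) *ᵥ (B : M₃) *ᵥ v := by rw [hκκ, one_smul]
            _ = κ • v := by rw [← smul_smul, ← this]
        rw [e1, tmul_smul_left]) w
  have htau : Matrix.trace ((tau : GL (Fin 3 × Fin 3) F) : Mn) = 3 := by
    show Matrix.trace swapMat = 3
    have e : (Finset.univ.filter fun x : Fin 3 × Fin 3 => x = x.swap).card = 3 := by decide
    simp [Matrix.trace, swapMat, e]
  rw [hconj, Matrix.trace_smul, trace_conj, htau, smul_eq_mul]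
  intro e0
  rcases mul_self_eq_one_iff.1 hκκ with rfl | rfl
  · exact W.two (by linear_combination e0)
  · exact W.trace_ne (by linear_combination e0)

end Cfsg.Agent.Classical.TensorWreath
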