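import Cfsg.Agent.Lib.Classical.MaxTensorWreathInvol

/-!
Without root elements on lines an overgroup of `O₃ ⊗ O₃` moves good half turns to half turns only from inside the
stabiliser of the tensor decomposition.
-/

set_option autoImplicit false
set_option linter.unusedSectionVars false
set_option linter.style.haveILetI false

namespace Cfsg.Agent.Classical.TensorWreath

open Matrix Module MaxTv TensorMax TensorOrth Overfield
open scoped Kronecker
open Cfsg.Agent.Classical.TensorRoot (kg kg_apply kg_isKron)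

variable {F : Type*} [Field F] [Fintype F]

local notation "V₃" => (Fin 3 → F)
local notation "M₃" => Matrix (Fin 3) (Fin 3) F
local notation "V" => (Fin 3 × Fin 3 → F)
local notation "Mn" => Matrix (Fin 3 × Fin 3) (Fin 3 × Fin 3) F
local notation "L₃" => ((Fin 3 → F) →ₗ[F] (Fin 3 → F))
local notation "Tr" => Matrix.trace

variable {h : (Fin 3 → F) → (Fin 3 → F) → F} {f : (Fin 3 × Fin 3 → F) → (Fin 3 × Fin 3 → F) → F}
  {G M : Subgroup (GL (Fin 3 × Fin 3) F)} {μ : F} {t : Fin 3 → Fin 3 → F}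

/-- A half turn of one of the factors. -/
def HT (hs : Sym h) (x : GL (Fin 3 × Fin 3) F) : Prop :=
  (∃ a, h a a ≠ 0 ∧ Act x (hr hs a) LinearMap.id) ∨ ∃ b, h b b ≠ 0 ∧ Act x LinearMap.id (hr hs b)

/-- A good half turn of one of the factors. -/
def GoodHT (hs : Sym h) (μ : F) (x : GL (Fin 3 × Fin 3) F) : Prop :=
  (∃ a, Good h μ a ∧ Act x (hr hs a) LinearMap.id) ∨ ∃ b, Good h μ b ∧ Act x LinearMap.id (hr hs b)

/-- A product of good half turns of the two factors. -/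
def GoodMix (hs : Sym h) (μ : F) (x : GL (Fin 3 × Fin 3) F) : Prop :=
  ∃ a b, Good h μ a ∧ Good h μ b ∧ Act x (hr hs a) (hr hs b)

theorem swp_isKron {x : GL (Fin 3 × Fin 3) F} (hx : IsKron (swp x)) : IsKron x := by
  have := isKron_tc hx
  rwa [← swp_apply, swp_swp] at this

theorem tau_not_kron : ¬ IsKron (tau : GL (Fin 3 × Fin 3) F) := by
  rintro ⟨A, B, e⟩
  have key : ∀ u v : V₃, tmul v u = tmul ((A : M₃) *ᵥ u) ((B : M₃) *ᵥ v) := fun u v => by
    rw [← tau_tmul u v, e, kronecker_mulVec]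
  have h1 := congrFun (key (Pi.single 0 1) (Pi.single 0 1)) (0, 0)
  have h01 := congrFun (key (Pi.single 0 1) (Pi.single 0 1)) (0, 1)
  have h10 := congrFun (key (Pi.single 1 1) (Pi.single 0 1)) (0, 1)
  simp [TensorMax.tmul] at h1 h01 h10
  rcases h01 with h01 | h01
  · rw [h01, zero_mul] at h1; exact zero_ne_one h1.symm
  · rw [h01, mul_zero] at h10; exact zero_ne_one h10.symm

theorem isKron_one : IsKron (1 : GL (Fin 3 × Fin 3) F) :=
  TensorOrth.kg_one (α := Fin 3) (β := Fin 3) (F := F) ▸ kg_isKron _ _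

variable (S : Std h f G M μ t)
include S

theorem Std.ne : μ ≠ 0 := S.trip.ne

theorem Std.exists_left {a : V₃} (ha : Good h μ a) : ∃ R ∈ M, Act R (hr S.wr.hs a) LinearMap.id := by
  obtain ⟨q, hq, hqa⟩ := exists_quarter S.wr.hs S.wr.two S.trip ha
  have hiso : kg q (1 : GL (Fin 3) F) ∈ iso f :=
    S.wr.ovr.kg_iso (one_mul 1) (fun x x' => by rw [hq, one_mul]) (fun y y' => by simp)
  refine ⟨_, S.wr.mem _ (S.wr.sq _ hiso) ((kg_isKron _ _).mul (kg_isKron _ _)), fun u v => ?_⟩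
  rw [Units.val_mul, ← Matrix.mulVec_mulVec, kg_apply, kg_apply, hqa, Units.val_one, Matrix.one_mulVec,
    Matrix.one_mulVec, LinearMap.id_apply]

theorem Std.exists_right {b : V₃} (hb : Good h μ b) : ∃ R ∈ M, Act R LinearMap.id (hr S.wr.hs b) := by
  obtain ⟨R, hR, hRa⟩ := S.swap.exists_left hb
  refine ⟨swp R, hR, ?_⟩
  rw [swp_apply]
  exact hRa.tc

theorem Std.cent_left {R g : GL (Fin 3 × Fin 3) F} {a : V₃} (hR : Act R (hr S.wr.hs a) LinearMap.id)
    (ha : h a a ≠ 0) (hg : g ∈ M) (hc : g * R = R * g) : IsKron g :=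
  S.wr.ovr.cent_half_three S.noRoot (Fintype.card_fin 3) (Fintype.card_fin 3) S.wr.h5 (S.wr.isRm_of_act hR) ha hg hc

theorem Std.cent_right {R g : GL (Fin 3 × Fin 3) F} {b : V₃} (hR : Act R LinearMap.id (hr S.wr.hs b))
    (hb : h b b ≠ 0) (hg : g ∈ M) (hc : g * R = R * g) : IsKron g := by
  refine swp_isKron (S.swap.cent_left (R := swp R) (g := swp g) ?_ hb ?_ ?_)
  · rw [swp_apply]; exact hR.tc
  · rw [Subgroup.mem_comap, swp_swp]; exact hg
  · rw [← map_mul, hc, map_mul]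

theorem Std.cent_ht {R g : GL (Fin 3 × Fin 3) F} (hR : HT S.wr.hs R) (hg : g ∈ M) (hc : g * R = R * g) :
    IsKron g := by
  rcases hR with ⟨a, ha, h'⟩ | ⟨b, hb, h'⟩
  exacts [S.cent_left h' ha hg hc, S.cent_right h' hb hg hc]

theorem Std.trace_ht {x : GL (Fin 3 × Fin 3) F} (hx : HT S.wr.hs x) : Tr (x : Mn) = -3 := by
  rcases hx with ⟨a, ha, h'⟩ | ⟨b, hb, h'⟩
  · exact S.wr.trace_left ha h'
  · have h1 := S.wr.trace_left hb h'.tc
    rw [← h1]
    conv_rhs => arg 1; rw [show tau * x * tau = tau * x * tau⁻¹ by rw [tau_inv]]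
    rw [trace_conj]

theorem Std.left_eq {x : GL (Fin 3 × Fin 3) F} {a c : V₃} (h1 : Act x (hr S.wr.hs a) LinearMap.id)
    (h3 : Act x (hr S.wr.hs c) LinearMap.id) (ha : h a a ≠ 0) (hc : h c c ≠ 0) : hr S.wr.hs a = hr S.wr.hs c := by
  obtain ⟨k, hk, -⟩ := h1.prop h3 (hr_inj S.wr ha) id_inj
  exact (hr_scal S.wr.hs S.wr.two hc ha hk).symm

theorem Std.right_eq {x : GL (Fin 3 × Fin 3) F} {a c : V₃} (h1 : Act x LinearMap.id (hr S.wr.hs a))
    (h3 : Act x LinearMap.id (hr S.wr.hs c)) (ha : h a a ≠ 0) (hc : h c c ≠ 0) : hr S.wr.hs a = hr S.wr.hs c :=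
  S.left_eq h1.tc h3.tc ha hc

theorem Std.mix_eq {x : GL (Fin 3 × Fin 3) F} {a b c d : V₃} (h1 : Act x (hr S.wr.hs a) (hr S.wr.hs b))
    (h3 : Act x (hr S.wr.hs c) (hr S.wr.hs d)) (ha : h a a ≠ 0) (hb : h b b ≠ 0) (hc : h c c ≠ 0)
    (hd : h d d ≠ 0) : hr S.wr.hs a = hr S.wr.hs c ∧ hr S.wr.hs b = hr S.wr.hs d := by
  obtain ⟨k, hk, hk'⟩ := h1.prop h3 (hr_inj S.wr ha) (hr_inj S.wr hd)
  exact ⟨(hr_scal S.wr.hs S.wr.two hc ha hk).symm, hr_scal S.wr.hs S.wr.two hb hd hk'⟩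

theorem Std.left_right {x : GL (Fin 3 × Fin 3) F} {a b : V₃} (h1 : Act x (hr S.wr.hs a) LinearMap.id)
    (h3 : Act x LinearMap.id (hr S.wr.hs b)) (ha : h a a ≠ 0) (hb : h b b ≠ 0) : False := by
  obtain ⟨k, hk, -⟩ := h3.prop h1 id_inj id_inj
  exact hr_ne_scalar S.wr.hs S.wr.two ha k hk

theorem Std.ne_one {x : GL (Fin 3 × Fin 3) F} (hx : HT S.wr.hs x) : x ≠ 1 := by
  rintro rfl
  rcases hx with ⟨a, ha, h'⟩ | ⟨b, hb, h'⟩
  · obtain ⟨k, hk, -⟩ := Act.one.prop h' id_inj id_inj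
    exact hr_ne_scalar S.wr.hs S.wr.two ha k hk
  · have h'' := h'.tc
    rw [mul_one, tau_mul] at h''
    obtain ⟨k, hk, -⟩ := Act.one.prop h'' id_inj id_inj
    exact hr_ne_scalar S.wr.hs S.wr.two hb k hk

theorem Std.sq_left {x : GL (Fin 3 × Fin 3) F} {a : V₃} (h' : Act x (hr S.wr.hs a) LinearMap.id)
    (ha : h a a ≠ 0) : x * x = 1 := ext_kron fun u v => by
  rw [h'.mul h' u v, LinearMap.comp_apply, hr_hr S.wr.hs ha, Units.val_one, Matrix.one_mulVec]
  rfl

theorem Std.ht_of {x : GL (Fin 3 × Fin 3) F} (hx : x ∈ G) (hk : IsKron x) (hxx : x * x = 1) (h1 : x ≠ 1)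
    (htr : Tr (x : Mn) = -3) : HT S.wr.hs x := by
  rcases S.wr.kron_invol hx hk hxx with e | e | e | ⟨a, b, ha, hb, e⟩
  · exact absurd e h1
  · exact Or.inl e
  · exact Or.inr e
  · rw [S.wr.trace_mix ha hb e] at htr
    exact absurd htr.symm S.wr.trace_ne

theorem Std.mix_of {x : GL (Fin 3 × Fin 3) F} (hx : x ∈ G) (hk : IsKron x) (hxx : x * x = 1)
    (htr : Tr (x : Mn) = 1) : ∃ a b, h a a ≠ 0 ∧ h b b ≠ 0 ∧ Act x (hr S.wr.hs a) (hr S.wr.hs b) := by
  rcases S.wr.kron_invol hx hk hxx with e | e | e | e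
  · rw [e, Units.val_one, Matrix.trace_one, Fintype.card_prod, Fintype.card_fin] at htr
    exact absurd (show (2 : F) * (2 * 2) = 0 by push_cast at htr; linear_combination htr) (mul_ne_zero S.wr.two (mul_ne_zero S.wr.two S.wr.two))
  · exact absurd ((S.trace_ht (Or.inl e)).symm.trans htr) S.wr.trace_ne
  · exact absurd ((S.trace_ht (Or.inr e)).symm.trans htr) S.wr.trace_ne
  · exact e

theorem Std.conj_goodHT {g R : GL (Fin 3 × Fin 3) F} {a : V₃} (hg : g ∈ M) (hH : InH g) (ha : Good h μ a)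
    (hR : Act R (hr S.wr.hs a) LinearMap.id) : GoodHT S.wr.hs μ (g * R * g⁻¹) := by
  have hW := S.wr
  rcases hH with hk | hk
  · obtain ⟨A, B, ν, hν, hact, hA, -⟩ := hW.kron_sim (hW.gIso (hW.le hg)) hk
    exact Or.inl ⟨(A : M₃) *ᵥ a, good_sim hW.hs hW.two S.trip hν _ hA ha,
      hW.conj_act hact hR (fun u => (hW.hr_sim hν hA a u).symm) fun v => rfl⟩
  · obtain ⟨A, B, ν, hν, hact, hA, -⟩ := hW.kron_sim (mul_mem hW.tau_iso (hW.gIso (hW.le hg))) hk
    refine Or.inr ⟨(A : M₃) *ᵥ a, good_sim hW.hs hW.two S.trip hν _ hA ha, ?_⟩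
    have := (hW.conj_act hact hR (P' := hr hW.hs ((A : M₃) *ᵥ a)) (Q' := LinearMap.id)
      (fun u => (hW.hr_sim hν hA a u).symm) fun v => rfl).tc
    rwa [show tau * (tau * g * R * (tau * g)⁻¹) * tau = g * R * g⁻¹ by
      rw [_root_.mul_inv_rev, tau_inv]
      simp only [← mul_assoc, tau_mul, one_mul]
      simp only [mul_assoc, tau_mul, mul_one]] at this

theorem Std.conj_goodMix {g z : GL (Fin 3 × Fin 3) F} (hg : g ∈ M) (hH : InH g) (hz : GoodMix S.wr.hs μ z) :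
    GoodMix S.wr.hs μ (g * z * g⁻¹) := by
  have hW := S.wr
  obtain ⟨a, b, ha, hb, hz⟩ := hz
  rcases hH with hk | hk
  · obtain ⟨A, B, ν, hν, hact, hA, hB⟩ := hW.kron_sim (hW.gIso (hW.le hg)) hk
    exact ⟨(A : M₃) *ᵥ a, (B : M₃) *ᵥ b, good_sim hW.hs hW.two S.trip hν _ hA ha,
      good_sim hW.hs hW.two S.trip (inv_ne_zero hν) _ hB hb,
      hW.conj_act hact hz (fun u => (hW.hr_sim hν hA a u).symm) fun v => (hW.hr_sim (inv_ne_zero hν) hB b v).symm⟩
  · obtain ⟨A, B, ν, hν, hact, hA, hB⟩ := hW.kron_sim (mul_mem hW.tau_iso (hW.gIso (hW.le hg))) hk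
    refine ⟨(B : M₃) *ᵥ b, (A : M₃) *ᵥ a, good_sim hW.hs hW.two S.trip (inv_ne_zero hν) _ hB hb,
      good_sim hW.hs hW.two S.trip hν _ hA ha, ?_⟩
    have := (hW.conj_act hact hz (P' := hr hW.hs ((A : M₃) *ᵥ a)) (Q' := hr hW.hs ((B : M₃) *ᵥ b))
      (fun u => (hW.hr_sim hν hA a u).symm) fun v => (hW.hr_sim (inv_ne_zero hν) hB b v).symm).tc
    rwa [show tau * (tau * g * z * (tau * g)⁻¹) * tau = g * z * g⁻¹ by
      rw [_root_.mul_inv_rev, tau_inv]
      simp only [← mul_assoc, tau_mul, one_mul]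
      simp only [mul_assoc, tau_mul, mul_one]] at this

/-- An isometry moving four good half turns of the second factor to half turns of it is a product. -/
theorem Std.kron_of_axes {g : GL (Fin 3 × Fin 3) F} (hg : g ∈ iso f) {u : V₃} (hu : ∀ i, h u (t i) ≠ 0)
    (hun : h u u ≠ 0)
    (hall : ∀ i, ∃ c E, h c c ≠ 0 ∧ Act E LinearMap.id (hr S.wr.hs (t i)) ∧
      Act (g * E * g⁻¹) LinearMap.id (hr S.wr.hs c))
    (hall' : ∃ c E, h c c ≠ 0 ∧ Act E LinearMap.id (hr S.wr.hs u) ∧ Act (g * E * g⁻¹) LinearMap.id (hr S.wr.hs c)) :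
    IsKron g := by
  classical
  have hW := S.wr
  have hs := hW.hs
  have h2 := hW.two
  have hO := hW.ovr
  choose c E hcn hE hEc using hall
  obtain ⟨v, Eu, hvn, hEu, hEv⟩ := hall'
  -- images of the fixed spaces
  have hmap : ∀ {b c : V₃} {E : GL (Fin 3 × Fin 3) F}, h b b ≠ 0 → h c c ≠ 0 →
      Act E LinearMap.id (hr hW.hs b) → Act (g * E * g⁻¹) LinearMap.id (hr hW.hs c) →
      ∀ x, (g : Mn) *ᵥ tmul x b = tmul ((h c c)⁻¹ • sl h c ((g : Mn) *ᵥ tmul x b)) c := by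
    intro b c E hbb hcc hE hc x
    obtain ⟨w, hw⟩ : ∃ w, w = (g : Mn) *ᵥ tmul x b := ⟨_, rfl⟩
    have hfix : ((g * E * g⁻¹ : GL (Fin 3 × Fin 3) F) : Mn) *ᵥ w = w := by
      rw [hw, Units.val_mul, Units.val_mul, ← Matrix.mulVec_mulVec, ← Matrix.mulVec_mulVec, inv_mulVec_cancel, hE,
        LinearMap.id_apply, hr_self hW.hs hbb]
    have hL : Matrix.toLin' ((g * E * g⁻¹ : GL (Fin 3 × Fin 3) F) : Mn) =
        (2 / h c c) • (fac c).comp (sl h c) - LinearMap.id := ext_pure fun p r => by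
      simp only [Matrix.toLin'_apply, LinearMap.sub_apply, LinearMap.smul_apply, LinearMap.comp_apply,
        LinearMap.id_apply, fac_apply, hO.sl_tmul, hc p r, hr_apply, tmul_sub_right, tmul_smul_right, tmul_smul_left,
        smul_smul]
    have h1 := LinearMap.congr_fun hL w
    simp only [Matrix.toLin'_apply, LinearMap.sub_apply, LinearMap.smul_apply, LinearMap.comp_apply,
      LinearMap.id_apply, fac_apply, hfix] at h1
    rw [← hw, tmul_smul_left]
    refine smul_right_injective _ h2 ?_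
    show (2 : F) • w = (2 : F) • _
    rw [smul_smul, ← div_eq_mul_inv, two_smul]
    linear_combination (norm := module) h1
  have hperp : ∀ i j, i ≠ j → h (c i) (c j) = 0 := fun i j hij => by
    refine (hr_comm hs h2 (hcn j) (hcn i) (k := 1) fun x => ?_).elim (fun e => ?_) id
    rotate_left
    · exfalso
      have e1 : E i = E j := by
        have : g * E i * g⁻¹ = g * E j * g⁻¹ := (hEc i).unique (e ▸ hEc j)
        exact mul_left_cancel (mul_right_cancel this)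
      exact hr_eq_not_perp hs h2 (S.trip.aniso j)
        (S.right_eq (e1 ▸ hE i) (hE j) (S.trip.aniso i) (S.trip.aniso j)) (S.trip.orth j i (Ne.symm hij))
    · have hc : E i * E j = E j * E i := ext_kron fun p r => by
        rw [((hE i).mul (hE j)) p r, ((hE j).mul (hE i)) p r]
        congr 1
        obtain ⟨d, hd, hdi, hdj⟩ := exists_third_axis hs h2 (S.trip.aniso i) (S.trip.aniso j) (S.trip.orth i j hij)
        rw [LinearMap.comp_apply, LinearMap.comp_apply,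
          hr_mul hs h2 (S.trip.aniso i) (S.trip.aniso j) hd (S.trip.orth i j hij) hdi hdj,
          hr_mul hs h2 (S.trip.aniso j) (S.trip.aniso i) hd (S.trip.orth j i (Ne.symm hij)) hdj hdi]
      have hh : g * E j * g⁻¹ * (g * E i * g⁻¹) = g * E i * g⁻¹ * (g * E j * g⁻¹) := by
        rw [show g * E j * g⁻¹ * (g * E i * g⁻¹) = g * (E j * E i) * g⁻¹ by group, ← hc]
        group
      obtain ⟨p, hp⟩ : ∃ p : V₃, p = Pi.single 0 1 := ⟨_, rfl⟩
      have h1 := ((hEc j).mul (hEc i)) p x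
      rw [hh, ((hEc i).mul (hEc j)) p x] at h1
      simp only [LinearMap.comp_apply, LinearMap.id_apply] at h1
      rw [one_smul]
      exact (tmul_right_inj' (by simp [hp]) h1).symm
  obtain ⟨Q, hQ⟩ : ∃ Q : Fin 3 → L₃, ∀ i x, Q i x = (h (c i) (c i))⁻¹ • sl h (c i) ((g : Mn) *ᵥ tmul x (t i)) :=
    ⟨fun i => (h (c i) (c i))⁻¹ • (sl h (c i)).comp ((Matrix.toLin' (g : Mn)).comp (fac (t i))), fun i x => by
      simp [Matrix.toLin'_apply, fac_apply]⟩
  have hgQ : ∀ i x, (g : Mn) *ᵥ tmul x (t i) = tmul (Q i x) (c i) := fun i x => by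
    rw [hQ]; exact hmap (S.trip.aniso i) (hcn i) (hE i) (hEc i) x
  obtain ⟨W', hW'⟩ : ∃ W' : V₃ → V₃, ∀ x, (g : Mn) *ᵥ tmul x u = tmul (W' x) v :=
    ⟨_, fun x => hmap hun hvn hEu hEv x⟩
  have hQinj : ∀ i, Function.Injective (Q i) := fun i x y e => fac_injective
    (show t i ≠ 0 from fun e0 => S.trip.aniso i (by rw [e0, hs.zero_left])) (gl_mulVec_injective g (by
      show (g : Mn) *ᵥ tmul x (t i) = (g : Mn) *ᵥ tmul y (t i)
      rw [hgQ, hgQ, e]))
  obtain ⟨k, hk⟩ : ∃ k : Fin 3 → F, ∀ i, k i = h u (t i) / h (t i) (t i) := ⟨_, fun _ => rfl⟩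
  have hud : u = k 0 • t 0 + k 1 • t 1 + k 2 • t 2 := by
    rw [hk, hk, hk]
    exact ortho_basis hs h2 (S.trip.aniso 0) (S.trip.aniso 1) (S.trip.aniso 2) (S.trip.orth 0 1 (by decide))
      (S.trip.orth 0 2 (by decide)) (S.trip.orth 1 2 (by decide)) u
  have hki : ∀ i, k i ≠ 0 := fun i => hk i ▸ div_ne_zero (hu i) (S.trip.aniso i)
  have hsum : ∀ i x, (k i * h (c i) (c i)) • Q i x = h v (c i) • W' x := fun i x => by
    have e := congrArg (sl h (c i)) (hW' x)
    rw [hud] at e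
    simp only [tmul_add_right, tmul_smul_right, Matrix.mulVec_add, Matrix.mulVec_smul, hgQ, map_add, map_smul,
      hO.sl_tmul, smul_smul] at e
    rw [← e]
    fin_cases i <;> simp [hperp]
  have hv0 : h v (c 0) ≠ 0 := fun e0 => by
    have e := hsum 0 (Pi.single 0 1)
    rw [e0, zero_smul, smul_eq_zero] at e
    have hx := hQinj 0 ((e.resolve_left (mul_ne_zero (hki 0) (hcn 0))).trans (map_zero (Q 0)).symm)
    simp at hx
  obtain ⟨l, hl⟩ : ∃ l : Fin 3 → F, ∀ i x, Q i x = l i • Q 0 x :=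
    ⟨fun i => (k i * h (c i) (c i))⁻¹ * h v (c i) * ((h v (c 0))⁻¹ * (k 0 * h (c 0) (c 0))), fun i x => by
      dsimp only
      rw [mul_assoc, ← smul_smul, ← smul_smul, ← smul_smul, hsum, inv_smul_smul₀ hv0, ← hsum,
        inv_smul_smul₀ (mul_ne_zero (hki i) (hcn i))]⟩
  let B : L₃ := μ⁻¹ • ((l 0) • (hs.lin (t 0)).smulRight (c 0) + (l 1) • (hs.lin (t 1)).smulRight (c 1) +
    (l 2) • (hs.lin (t 2)).smulRight (c 2))
  have hact : Act g (Q 0) B := fun x y => by
    conv_lhs => rw [ortho_basis hs h2 (S.trip.aniso 0) (S.trip.aniso 1) (S.trip.aniso 2)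
      (S.trip.orth 0 1 (by decide)) (S.trip.orth 0 2 (by decide)) (S.trip.orth 1 2 (by decide)) y]
    simp only [B, tmul_add_right, tmul_smul_right, Matrix.mulVec_add, Matrix.mulVec_smul, hgQ, hl 1 x, hl 2 x,
      LinearMap.add_apply, LinearMap.smul_apply, LinearMap.smulRight_apply, Sym.lin_apply, S.trip.norm,
      tmul_smul_left, smul_smul]
    have h00 : l 0 = 1 := by
      have e := hl 0 (Pi.single 0 1)
      have hne : Q 0 (Pi.single 0 1) ≠ 0 := fun e0 => by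
        have := hQinj 0 (e0.trans (map_zero (Q 0)).symm)
        simp at this
      nth_rw 1 [← one_smul F (Q 0 _)] at e
      exact (smul_left_injective F hne e).symm
    rw [h00]
    match_scalars <;> ring
  refine hact.isKron (hQinj 0) fun y y' e => ?_
  have h1 := hact (Pi.single 0 1) y
  have h3 := hact (Pi.single 0 1) y'
  rw [← e] at h3
  exact tmul_right_inj' (by simp) (gl_mulVec_injective g (h1.trans h3.symm))

/-- A good half turn moved to a half turn. -/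
theorem Std.of_half {g R : GL (Fin 3 × Fin 3) F} {a : V₃} (hg : g ∈ M) (ha : Good h μ a)
    (hR : Act R (hr S.wr.hs a) LinearMap.id) (hR' : HT S.wr.hs (g * R * g⁻¹)) : InH g := by
  classical
  have hW := S.wr
  have hs := hW.hs
  have h2 := hW.two
  -- images of good half turns of the second factor
  have hy : ∀ {b : V₃} {E : GL (Fin 3 × Fin 3) F}, Good h μ b → E ∈ M → Act E LinearMap.id (hr hW.hs b) →
      g * E * g⁻¹ ∈ M ∧ HT hW.hs (g * E * g⁻¹) := fun {b E} hb hE hEb => by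
    have hEc : E * R = R * E := ext_kron fun u v => by
      rw [(hEb.mul hR) u v, (hR.mul hEb) u v]; rfl
    have hm : g * E * g⁻¹ ∈ M := mul_mem (mul_mem hg hE) (inv_mem hg)
    refine ⟨hm, S.ht_of (hW.le hm) (S.cent_ht hR' hm ?_) ?_ ?_ ?_⟩
    · rw [show g * E * g⁻¹ * (g * R * g⁻¹) = g * (E * R) * g⁻¹ by group, hEc]; group
    · rw [show g * E * g⁻¹ * (g * E * g⁻¹) = g * (E * E) * g⁻¹ by group,
        show E * E = 1 from ext_kron fun u v => by
          rw [(hEb.mul hEb) u v]; simp [hr_hr hs (hb.ne S.ne)]]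
      group
    · intro e
      have : E = 1 := by
        rw [mul_inv_eq_one] at e
        exact mul_eq_left.1 e
      exact S.ne_one (Or.inr ⟨b, hb.ne S.ne, hEb⟩) this
    · rw [trace_conj]; exact S.trace_ht (Or.inr ⟨b, hb.ne S.ne, hEb⟩)
  choose E hEM hE using fun i => S.exists_right (S.trip.good i)
  obtain ⟨u, hu, hut⟩ := exists_skew_axis hs h2 S.trip hW.h5
  obtain ⟨Eu, hEuM, hEu⟩ := S.exists_right hu
  let Le : GL (Fin 3 × Fin 3) F → Prop := fun x => ∃ c, h c c ≠ 0 ∧ Act (g * x * g⁻¹) (hr hW.hs c) LinearMap.id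
  let Ri : GL (Fin 3 × Fin 3) F → Prop := fun x => ∃ c, h c c ≠ 0 ∧ Act (g * x * g⁻¹) LinearMap.id (hr hW.hs c)
  -- orthogonal axes go to the same factor
  have hsame : ∀ i j, i ≠ j → Le (E i) → Ri (E j) → False := fun i j hij ⟨c, hc, hci⟩ ⟨d, hd, hdj⟩ => by
    obtain ⟨e, he, hei, hej⟩ := exists_third_axis hs h2 (S.trip.aniso i) (S.trip.aniso j) (S.trip.orth i j hij)
    have hge : Good h μ e := third_good hs h2 S.trip (S.trip.good i) (S.trip.good j) he (S.trip.orth i j hij) hei hej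
    have hEe : Act (E i * E j) LinearMap.id (hr hW.hs e) := fun p r => by
      rw [((hE i).mul (hE j)) p r, LinearMap.comp_apply (hr hW.hs (t i)),
        hr_mul hs h2 (S.trip.aniso i) (S.trip.aniso j) he (S.trip.orth i j hij) hei hej]
      rfl
    have h1 := S.trace_ht (hy hge (mul_mem (hEM i) (hEM j)) hEe).2
    have h3 : g * (E i * E j) * g⁻¹ = g * E i * g⁻¹ * (g * E j * g⁻¹) := by group
    rw [h3, hW.trace_mix hc hd (hci.mul hdj)] at h1
    exact hW.trace_ne h1.symm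
  -- the skew axis goes with the others
  have hskew : ∀ i, (Le (E i) → Ri Eu → False) ∧ (Ri (E i) → Le Eu → False) := fun i => by
    have key : g * E i * g⁻¹ * (g * Eu * g⁻¹) = g * Eu * g⁻¹ * (g * E i * g⁻¹) → False := fun e => by
      have e' : E i * Eu = Eu * E i := by
        rw [show g * E i * g⁻¹ * (g * Eu * g⁻¹) = g * (E i * Eu) * g⁻¹ by group,
          show g * Eu * g⁻¹ * (g * E i * g⁻¹) = g * (Eu * E i) * g⁻¹ by group] at e
        exact mul_left_cancel (mul_right_cancel e)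
      rcases hr_comm hs h2 (S.trip.aniso i) (hu.ne S.ne) (k := 1) (fun x => by
        have h1 := ((hE i).mul hEu) (Pi.single 0 1) x
        rw [e', (hEu.mul (hE i)) (Pi.single 0 1) x] at h1
        simp only [LinearMap.comp_apply, LinearMap.id_apply] at h1
        rw [one_smul]
        exact (tmul_right_inj' (by simp) h1).symm) with e1 | e1
      · obtain ⟨k, -, hk⟩ := hr_line hs h2 (S.trip.aniso i) (hu.ne S.ne) e1
        apply hut (i + 1)
        rw [hk, hs.smul_left, S.trip.orth i (i + 1) (by fin_cases i <;> decide), mul_zero]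
      · exact hut i e1
    refine ⟨fun ⟨c, _, hc⟩ ⟨d, _, hd⟩ => key ?_, fun ⟨c, _, hc⟩ ⟨d, _, hd⟩ => key ?_⟩ <;>
      exact ext_kron fun p r => by rw [(hc.mul hd) p r, (hd.mul hc) p r]; rfl
  have hcase : ∀ x, Le x ∨ Ri x ∨ ¬ HT hW.hs (g * x * g⁻¹) := fun x => by
    by_cases hx : HT hW.hs (g * x * g⁻¹)
    · rcases hx with ⟨c, hc, h'⟩ | ⟨c, hc, h'⟩
      exacts [Or.inl ⟨c, hc, h'⟩, Or.inr (Or.inl ⟨c, hc, h'⟩)]
    · exact Or.inr (Or.inr hx)
  have hE' : ∀ i, Le (E i) ∨ Ri (E i) := fun i => by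
    rcases hcase (E i) with e | e | e
    exacts [Or.inl e, Or.inr e, absurd (hy (S.trip.good i) (hEM i) (hE i)).2 e]
  have hEu' : Le Eu ∨ Ri Eu := by
    rcases hcase Eu with e | e | e
    exacts [Or.inl e, Or.inr e, absurd (hy hu hEuM hEu).2 e]
  have hgi := hW.gIso (hW.le hg)
  rcases hE' 0 with h0 | h0
  · have hall : ∀ i, Le (E i) := fun i => (hE' i).resolve_right fun e => by
      rcases eq_or_ne i 0 with rfl | hi
      · obtain ⟨c, hc, hc'⟩ := h0
        obtain ⟨d, hd, hd'⟩ := e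
        exact S.left_right hc' hd' hc hd
      · exact hsame 0 i (Ne.symm hi) h0 e
    have hu0 : Le Eu := hEu'.resolve_right fun e => (hskew 0).1 h0 e
    have conv : ∀ {x : GL (Fin 3 × Fin 3) F} {c : V₃}, Act (g * x * g⁻¹) (hr hW.hs c) LinearMap.id →
        Act (tau * g * x * (tau * g)⁻¹) LinearMap.id (hr hW.hs c) := fun {x c} hx => by
      rw [_root_.mul_inv_rev, tau_inv, show tau * g * x * (g⁻¹ * tau) = tau * (g * x * g⁻¹) * tau by group]
      exact hx.tc
    refine Or.inr (S.kron_of_axes (mul_mem hW.tau_iso hgi) hut (hu.ne S.ne) (fun i => ?_) ?_)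
    · obtain ⟨c, hc, hc'⟩ := hall i
      exact ⟨c, E i, hc, hE i, conv hc'⟩
    · obtain ⟨c, hc, hc'⟩ := hu0
      exact ⟨c, Eu, hc, hEu, conv hc'⟩
  · have hall : ∀ i, Ri (E i) := fun i => (hE' i).resolve_left fun e => by
      rcases eq_or_ne i 0 with rfl | hi
      · obtain ⟨c, hc, hc'⟩ := e
        obtain ⟨d, hd, hd'⟩ := h0
        exact S.left_right hc' hd' hc hd
      · exact hsame i 0 hi e h0
    have hu0 : Ri Eu := hEu'.resolve_left fun e => (hskew 0).2 h0 e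
    refine Or.inl (S.kron_of_axes hgi hut (hu.ne S.ne) (fun i => ?_) ?_)
    · obtain ⟨c, hc, hc'⟩ := hall i
      exact ⟨c, E i, hc, hE i, hc'⟩
    · obtain ⟨c, hc, hc'⟩ := hu0
      exact ⟨c, Eu, hc, hEu, hc'⟩

/-- A good half turn is not conjugate to an involution exchanging the factors. -/
theorem Std.not_exchange {g R : GL (Fin 3 × Fin 3) F} {a : V₃} (hg : g ∈ M) (hRM : R ∈ M) (ha : Good h μ a)
    (hR : Act R (hr S.wr.hs a) LinearMap.id) : ¬ IsKron (tau * (g * R * g⁻¹)) := by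
  classical
  intro hk
  have hW := S.wr
  have hs := hW.hs
  have h2 := hW.two
  have haa := ha.ne S.ne
  obtain ⟨j, hj⟩ : ∃ j, j = g * R * g⁻¹ := ⟨_, rfl⟩
  rw [← hj] at hk
  have hjM : j ∈ M := hj ▸ mul_mem (mul_mem hg hRM) (inv_mem hg)
  have hjj : j * j = 1 := by
    rw [hj, show g * R * g⁻¹ * (g * R * g⁻¹) = g * (R * R) * g⁻¹ by group, S.sq_left hR haa, mul_one, mul_inv_cancel]
  obtain ⟨A, B, ν, hν, hact, hA, hB⟩ := hW.kron_sim (mul_mem hW.tau_iso (hW.gIso (hW.le hjM))) hk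
  have hja : ∀ p r, (j : Mn) *ᵥ tmul p r = tmul ((B : M₃) *ᵥ r) ((A : M₃) *ᵥ p) := fun p r => by
    have e : j = tau * (tau * j) := by rw [← mul_assoc, tau_mul, one_mul]
    rw [e, Units.val_mul, ← Matrix.mulVec_mulVec, hact, tau_tmul, Matrix.toLin'_apply, Matrix.toLin'_apply]
  have hsq : ∀ p r, tmul p r = tmul ((B : M₃) *ᵥ ((A : M₃) *ᵥ p)) ((A : M₃) *ᵥ ((B : M₃) *ᵥ r)) := fun p r => by
    rw [← hja, ← hja, Matrix.mulVec_mulVec, ← Units.val_mul, hjj, Units.val_one, Matrix.one_mulVec]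
  obtain ⟨κ, hκ, -⟩ := (Act.one (F := F)).prop (P' := (Matrix.toLin' (B : M₃)).comp (Matrix.toLin' (A : M₃)))
    (Q' := (Matrix.toLin' (A : M₃)).comp (Matrix.toLin' (B : M₃))) (fun p r => by
      rw [Units.val_one, Matrix.one_mulVec, LinearMap.comp_apply, LinearMap.comp_apply, Matrix.toLin'_apply,
        Matrix.toLin'_apply, Matrix.toLin'_apply, Matrix.toLin'_apply, ← hsq]) id_inj (fun p r e => by
      simp only [LinearMap.comp_apply, Matrix.toLin'_apply] at e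
      exact gl_mulVec_injective B (gl_mulVec_injective A e))
  simp only [LinearMap.comp_apply, Matrix.toLin'_apply, LinearMap.id_apply] at hκ
  -- diagonal elements
  have hAt : ∀ i, Good h μ ((A : M₃) *ᵥ t i) := fun i => good_sim hs h2 S.trip hν _ hA (S.trip.good i)
  choose P hPM hP using fun i => S.exists_left (S.trip.good i)
  choose Q hQM hQ using fun i => S.exists_right (hAt i)
  obtain ⟨d, hd⟩ : ∃ d : Fin 3 → GL (Fin 3 × Fin 3) F, ∀ i, d i = P i * Q i := ⟨_, fun _ => rfl⟩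
  have hdA : ∀ i, Act (d i) (hr hW.hs (t i)) (hr hW.hs ((A : M₃) *ᵥ t i)) := fun i p r => by
    rw [hd, ((hP i).mul (hQ i)) p r]; rfl
  have hdM : ∀ i, d i ∈ M := fun i => hd i ▸ mul_mem (hPM i) (hQM i)
  have hdcomm : ∀ (x : GL (Fin 3 × Fin 3) F) (P Q : L₃), Act x P Q →
      (∀ p, Q ((A : M₃) *ᵥ p) = (A : M₃) *ᵥ P p) → x * j = j * x := fun x P Q hx hPQ => ext_kron fun p r => by
    obtain ⟨r', rfl⟩ : ∃ r', (A : M₃) *ᵥ r' = r := ⟨_, mulVec_inv_cancel A r⟩
    rw [Units.val_mul, Units.val_mul, ← Matrix.mulVec_mulVec, ← Matrix.mulVec_mulVec, hja, hx, hx, hja, hκ, hPQ, hPQ,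
      hκ, map_smul]
  have hdj : ∀ i, d i * j = j * d i := fun i => hdcomm _ _ _ (hdA i) fun p => (hW.hr_sim hν hA (t i) p).symm
  -- pulled back to the centraliser of the half turn
  have hpull : ∀ x ∈ M, x * j = j * x → g⁻¹ * x * g ∈ M ∧ g⁻¹ * x * g * R = R * (g⁻¹ * x * g) := fun x hx e => by
    refine ⟨mul_mem (mul_mem (inv_mem hg) hx) hg, ?_⟩
    rw [hj] at e
    calc g⁻¹ * x * g * R = g⁻¹ * (x * (g * R * g⁻¹)) * g := by group
      _ = R * (g⁻¹ * x * g) := by rw [e]; group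
  obtain ⟨y, hy⟩ : ∃ y : Fin 3 → GL (Fin 3 × Fin 3) F, ∀ i, y i = g⁻¹ * d i * g := ⟨_, fun _ => rfl⟩
  have hyM : ∀ i, y i ∈ M ∧ y i * R = R * y i := fun i => hy i ▸ hpull _ (hdM i) (hdj i)
  have hmix : ∀ i, ∃ c e, h c c ≠ 0 ∧ h e e ≠ 0 ∧ Act (y i) (hr hW.hs c) (hr hW.hs e) := fun i => by
    refine S.mix_of (hW.le (hyM i).1) (S.cent_left hR haa (hyM i).1 (hyM i).2) ?_ ?_
    · rw [hy, show g⁻¹ * d i * g * (g⁻¹ * d i * g) = g⁻¹ * (d i * d i) * g by group,
        show d i * d i = 1 from ext_kron fun p r => by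
          rw [((hdA i).mul (hdA i)) p r, LinearMap.comp_apply, LinearMap.comp_apply, hr_hr hs (S.trip.aniso i),
            hr_hr hs ((hAt i).ne S.ne), Units.val_one, Matrix.one_mulVec]]
      group
    · rw [hy, show g⁻¹ * d i * g = g⁻¹ * d i * g⁻¹⁻¹ by rw [inv_inv], trace_conj]
      exact hW.trace_mix (S.trip.aniso i) ((hAt i).ne S.ne) (hdA i)
  choose c e hcn hen hye using hmix
  have hca : ∀ i, hr hW.hs (c i) = hr hW.hs a ∨ h a (c i) = 0 := fun i => by
    have h1 := (hye i).mul hR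
    rw [(hyM i).2] at h1
    obtain ⟨k, hk, -⟩ := h1.prop (hR.mul (hye i)) (fun p r e => by
      simp only [LinearMap.comp_apply] at e
      exact hr_inj hW haa (hr_inj hW (hcn i) e)) (fun p r e => by
      simp only [LinearMap.comp_apply] at e
      exact hr_inj hW (hen i) e)
    exact (hr_comm hs h2 haa (hcn i) hk).imp_left Eq.symm |>.imp_right fun e => by rw [hs.symm, e]
  -- the cyclic element
  obtain ⟨ρ, hρ, hρt, hρ3⟩ := exists_cycle hs h2 S.trip
  obtain ⟨ρ', hρ'⟩ : ∃ ρ' : GL (Fin 3) F, ρ' = A * ρ * A⁻¹ := ⟨_, rfl⟩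
  have hρ'A : ∀ p, (ρ' : M₃) *ᵥ ((A : M₃) *ᵥ p) = (A : M₃) *ᵥ ((ρ : M₃) *ᵥ p) := fun p => by
    rw [hρ', Units.val_mul, Units.val_mul, ← Matrix.mulVec_mulVec, ← Matrix.mulVec_mulVec, inv_mulVec_cancel]
  have hρ'i : ρ' ∈ iso h := fun p r => by
    obtain ⟨p', rfl⟩ : ∃ p', (A : M₃) *ᵥ p' = p := ⟨_, mulVec_inv_cancel A p⟩
    obtain ⟨r', rfl⟩ : ∃ r', (A : M₃) *ᵥ r' = r := ⟨_, mulVec_inv_cancel A r⟩
    rw [hρ'A, hρ'A, hA, hA, hρ]
  obtain ⟨D, hD⟩ : ∃ D, D = kg ρ ρ' := ⟨_, rfl⟩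
  have hDiso : D ∈ iso f :=
    hD ▸ hW.ovr.kg_iso (one_mul 1) (fun x x' => by rw [hρ, one_mul]) (fun x x' => by rw [hρ'i, one_mul])
  have hD3 : D * D * D = 1 := ext_kron fun p r => by
    obtain ⟨r', rfl⟩ : ∃ r', (A : M₃) *ᵥ r' = r := ⟨_, mulVec_inv_cancel A r⟩
    simp only [hD, Units.val_mul, ← Matrix.mulVec_mulVec, kg_apply, hρ'A, hρ3, Units.val_one, Matrix.one_mulVec]
  have hDM : D ∈ M := by
    refine hW.mem D ?_ (hD ▸ kg_isKron _ _)
    have := hW.sq _ (mul_mem hDiso hDiso)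
    rwa [show D * D * (D * D) = D * D * D * D by group, hD3, one_mul] at this
  have hDact : Act D (Matrix.toLin' (ρ : M₃)) (Matrix.toLin' (ρ' : M₃)) := hD ▸ act_kg _ _
  have hDj : D * j = j * D := hdcomm D _ _ hDact fun p => by rw [Matrix.toLin'_apply, Matrix.toLin'_apply, hρ'A]
  obtain ⟨Y, hY⟩ : ∃ Y, Y = g⁻¹ * D * g := ⟨_, rfl⟩
  have hYM : Y ∈ M ∧ Y * R = R * Y := hY ▸ hpull D hDM hDj
  obtain ⟨A', B', ν', hν', hY', hA', hB'⟩ :=
    hW.kron_sim (hW.gIso (hW.le hYM.1)) (S.cent_left hR haa hYM.1 hYM.2)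
  have hA'a : hr hW.hs ((A' : M₃) *ᵥ a) = hr hW.hs a := by
    have h1 := hW.conj_act hY' hR (P' := hr hW.hs ((A' : M₃) *ᵥ a)) (Q' := LinearMap.id)
      (fun p => (hW.hr_sim hν' hA' a p).symm) fun v => rfl
    rw [show Y * R * Y⁻¹ = R by rw [hYM.2, mul_inv_cancel_right]] at h1
    exact S.left_eq h1 hR (by rw [hA']; exact mul_ne_zero hν' haa) haa
  have hstep : ∀ i, hr hW.hs (c i) = hr hW.hs a → hr hW.hs (c (i + 1)) = hr hW.hs a := fun i hi => by
    have hYy : Y * y i * Y⁻¹ = y (i + 1) := by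
      have hDd : D * d i * D⁻¹ = d (i + 1) := by
        have h1 := hW.conj_act hDact (hdA i) (P' := hr hW.hs ((ρ : M₃) *ᵥ t i))
          (Q' := hr hW.hs ((ρ' : M₃) *ᵥ ((A : M₃) *ᵥ t i)))
          (fun p => (hW.hr_sim one_ne_zero (fun x x' => by rw [hρ, one_mul]) (t i) p).symm)
          fun p => (hW.hr_sim one_ne_zero (fun x x' => by rw [hρ'i, one_mul]) _ p).symm
        rw [hρ'A, hρt] at h1
        exact h1.unique (hdA (i + 1))
      rw [hY, hy, hy, ← hDd]
      group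
    obtain ⟨k, hk, hck⟩ := hr_line hs h2 haa (hcn i) hi.symm
    have h1 := hW.conj_act hY' (hye i) (P' := hr hW.hs ((A' : M₃) *ᵥ c i)) (Q' := hr hW.hs ((B' : M₃) *ᵥ e i))
      (fun p => (hW.hr_sim hν' hA' (c i) p).symm) fun p => (hW.hr_sim (inv_ne_zero hν') hB' (e i) p).symm
    rw [hYy] at h1
    rw [(S.mix_eq (hye (i + 1)) h1 (hcn _) (hen _) (by rw [hA']; exact mul_ne_zero hν' (hcn i))
      (by rw [hB']; exact mul_ne_zero (inv_ne_zero hν') (hen i))).1, hck, Matrix.mulVec_smul, hr_smul hs hk, hA'a]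
  have hprod : y 0 * y 1 = y 2 := by
    rw [hy, hy, hy, show g⁻¹ * d 0 * g * (g⁻¹ * d 1 * g) = g⁻¹ * (d 0 * d 1) * g by group]
    congr 2
    refine ext_kron fun p r => ?_
    rw [((hdA 0).mul (hdA 1)) p r, hdA 2 p r, LinearMap.comp_apply, LinearMap.comp_apply,
      hr_mul hs h2 (S.trip.aniso 0) (S.trip.aniso 1) (S.trip.aniso 2) (S.trip.orth 0 1 (by decide))
        (S.trip.orth 2 0 (by decide)) (S.trip.orth 2 1 (by decide)),
      hr_mul hs h2 ((hAt 0).ne S.ne) ((hAt 1).ne S.ne) ((hAt 2).ne S.ne)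
        (by rw [hA, S.trip.orth 0 1 (by decide), mul_zero]) (by rw [hA, S.trip.orth 2 0 (by decide), mul_zero])
        (by rw [hA, S.trip.orth 2 1 (by decide), mul_zero])]
  have h01 := (hye 0).mul (hye 1)
  rw [hprod] at h01
  obtain ⟨k, hk, -⟩ := (hye 2).prop h01 (hr_inj hW (hcn 2)) (fun p r e' => by
    simp only [LinearMap.comp_apply] at e'
    exact hr_inj hW (hen 1) (hr_inj hW (hen 0) e'))
  simp only [LinearMap.comp_apply] at hk
  by_cases h0 : hr hW.hs (c 0) = hr hW.hs a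
  · have h1 := hstep 0 h0
    rw [show (0 : Fin 3) + 1 = 1 from rfl] at h1
    refine hr_ne_scalar hs h2 (hcn 2) k⁻¹ fun p => ?_
    have e1 := hk p
    rw [h0, h1, hr_hr hs haa] at e1
    have hk0 : k ≠ 0 := fun e0 => by
      have e2 := hk (Pi.single 0 1)
      rw [h0, h1, hr_hr hs haa, e0, zero_smul] at e2
      simp at e2
    conv_rhs => rw [e1]
    rw [inv_smul_smul₀ hk0]
  · have hne : ∀ i, hr hW.hs (c i) ≠ hr hW.hs a := fun i hi => by
      fin_cases i
      · exact h0 hi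
      · exact h0 (hstep 2 (hstep 1 hi))
      · exact h0 (hstep 2 hi)
    have hp : ∀ i, h a (c i) = 0 := fun i => (hca i).resolve_left (hne i)
    refine (hr_comm hs h2 (hcn 0) (hcn 1) (k := 1) fun p => ?_).elim (fun e1 => ?_) (fun e1 => ?_)
    rotate_left
    · have hk' : ∀ p, p = k • hr hW.hs (c 2) p := fun p => by
        have := hk p
        rwa [e1, hr_hr hs (hcn 1)] at this
      refine hr_ne_scalar hs h2 (hcn 2) k⁻¹ fun p => ?_
      conv_rhs => rw [hk' p]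
      rw [inv_smul_smul₀ fun e0 => by
        have := hk' (Pi.single 0 1)
        rw [e0, zero_smul] at this
        simp at this]
    · have hk' : ∀ p, hr hW.hs a p = k • hr hW.hs (c 2) p := fun p => by
        rw [← hk, hr_mul hs h2 (hcn 0) (hcn 1) haa (by rw [hs.symm]; exact e1) (hp 0) (hp 1)]
      exact hne 2 (hr_scal hs h2 haa (hcn 2) hk').symm
    · have hc01 : y 0 * y 1 = y 1 * y 0 := by
        rw [hy, hy, show g⁻¹ * d 0 * g * (g⁻¹ * d 1 * g) = g⁻¹ * (d 0 * d 1) * g by group,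
          show g⁻¹ * d 1 * g * (g⁻¹ * d 0 * g) = g⁻¹ * (d 1 * d 0) * g by group]
        congr 2
        refine ext_kron fun q r => ?_
        rw [((hdA 0).mul (hdA 1)) q r, ((hdA 1).mul (hdA 0)) q r]
        simp only [LinearMap.comp_apply]
        rw [hr_mul hs h2 (S.trip.aniso 0) (S.trip.aniso 1) (S.trip.aniso 2) (S.trip.orth 0 1 (by decide))
            (S.trip.orth 2 0 (by decide)) (S.trip.orth 2 1 (by decide)),
          hr_mul hs h2 (S.trip.aniso 1) (S.trip.aniso 0) (S.trip.aniso 2) (S.trip.orth 1 0 (by decide))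
            (S.trip.orth 2 1 (by decide)) (S.trip.orth 2 0 (by decide)),
          hr_mul hs h2 ((hAt 0).ne S.ne) ((hAt 1).ne S.ne) ((hAt 2).ne S.ne)
            (by rw [hA, S.trip.orth 0 1 (by decide), mul_zero]) (by rw [hA, S.trip.orth 2 0 (by decide), mul_zero])
            (by rw [hA, S.trip.orth 2 1 (by decide), mul_zero]),
          hr_mul hs h2 ((hAt 1).ne S.ne) ((hAt 0).ne S.ne) ((hAt 2).ne S.ne)
            (by rw [hA, S.trip.orth 1 0 (by decide), mul_zero]) (by rw [hA, S.trip.orth 2 1 (by decide), mul_zero])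
            (by rw [hA, S.trip.orth 2 0 (by decide), mul_zero])]
      have h10 := (hye 1).mul (hye 0)
      rw [← hc01] at h10
      obtain ⟨k', hk', -⟩ := h10.prop ((hye 0).mul (hye 1)) (fun q r e' => by
        simp only [LinearMap.comp_apply] at e'
        exact hr_inj hW (hcn 0) (hr_inj hW (hcn 1) e')) (fun q r e' => by
        simp only [LinearMap.comp_apply] at e'
        exact hr_inj hW (hen 1) (hr_inj hW (hen 0) e'))
      simp only [LinearMap.comp_apply] at hk'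
      obtain ⟨v, hv0, hv1, hv2⟩ := exists_perp_two hs (c 0) (c 1)
      have e1 := hk' v
      rw [hr_perp hs hv2, map_neg, hr_perp hs hv1, neg_neg, map_neg, hr_perp hs hv2, neg_neg] at e1
      have : k' = 1 := smul_left_injective F hv0 (e1.symm.trans (one_smul F v).symm)
      rw [hk' p, this]

/-- A good half turn moved into the stabiliser comes from inside it. -/
theorem Std.of_conj {g R : GL (Fin 3 × Fin 3) F} {a : V₃} (hg : g ∈ M) (hRM : R ∈ M) (ha : Good h μ a)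
    (hR : Act R (hr S.wr.hs a) LinearMap.id) (hj : InH (g * R * g⁻¹)) : InH g := by
  rcases hj with hk | hk
  · refine S.of_half hg ha hR (S.ht_of (S.wr.le (mul_mem (mul_mem hg hRM) (inv_mem hg))) hk ?_ ?_ ?_)
    · rw [show g * R * g⁻¹ * (g * R * g⁻¹) = g * (R * R) * g⁻¹ by group, S.sq_left hR (ha.ne S.ne)]
      group
    · intro e
      rw [mul_inv_eq_one] at e
      exact S.ne_one (Or.inl ⟨a, ha.ne S.ne, hR⟩) (mul_eq_left.1 e)
    · rw [trace_conj]; exact S.trace_ht (Or.inl ⟨a, ha.ne S.ne, hR⟩)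
  · exact absurd hk (S.not_exchange hg hRM ha hR)

end Cfsg.Agent.Classical.TensorWreath
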