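import Cfsg.Agent.Lib.Classical.MaxUnitary
import Cfsg.Agent.Lib.Classical.MaxOverfieldMain
import Mathlib.FieldTheory.Finite.Trace
import Mathlib.FieldTheory.ChevalleyWarning

/-!
Hermitian forms over a cubic extension inside Hermitian forms: the form over the extension, singular vectors,
Frobenius coefficients.
-/

set_option autoImplicit false
set_option linter.unusedSectionVars false
set_option linter.style.haveILetI false
set_option quotPrecheck false

namespace Cfsg.Agent.Classical.UnitField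

open Matrix Module MaxTv Cfsg.Agent.Classical.Overfield

variable {F : Type*} [Field F] [Fintype F] {ι : Type} [Fintype ι] [DecidableEq ι]
variable {K : Type*} [Field K] [Fintype K] [Algebra F K] [Module K (ι → F)] [IsScalarTower F K (ι → F)]

local notation "V" => (ι → F)
local notation "tr" => Algebra.trace F K

/-- A Hermitian form over a cubic extension whose trace is the given one. -/
structure UForm (σ : F ≃+* F) (f : (ι → F) → (ι → F) → F) (τ : K ≃+* K) (h : (ι → F) → (ι → F) → K) : Prop where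
  herm : Herm σ f
  deg : finrank F K = 3
  invol : ∀ k, τ (τ k) = k
  base : ∀ a : F, τ (algebraMap F K a) = algebraMap F K (σ a)
  spec : ∀ (k : K) (x y : ι → F), f (k • x) y = Algebra.trace F K (k * h x y)
  adj : ∀ (k : K) (x y : ι → F), f (k • x) y = f x (τ k • y)

theorem finiteK : Module.Finite F K := Module.Finite.of_finite

theorem tr_ne : ∃ s : K, tr s ≠ 0 := by
  haveI := finiteK (F := F) (K := K)
  obtain ⟨s, hs⟩ := Algebra.trace_surjective F K 1
  exact ⟨s, by rw [hs]; exact one_ne_zero⟩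

theorem tr_ext {a b : K} (H : ∀ k : K, tr (k * a) = tr (k * b)) : a = b := by
  by_contra hne
  obtain ⟨s, hs⟩ := tr_ne (F := F) (K := K)
  have := H (s / (a - b))
  rw [← sub_eq_zero, ← map_sub, ← mul_sub, div_mul_cancel₀ _ (sub_ne_zero.2 hne)] at this
  exact hs this

/-- Every functional is a trace. -/
theorem exists_tr (L : K →ₗ[F] F) : ∃ z : K, ∀ k, L k = tr (k * z) := by
  haveI := finiteK (F := F) (K := K)
  let Θ : K →ₗ[F] (K →ₗ[F] F) :=
    { toFun := fun z => (tr).comp (LinearMap.mulRight F z)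
      map_add' := fun a b => LinearMap.ext fun k => by simp [mul_add]
      map_smul' := fun c a => LinearMap.ext fun k => by simp }
  have hΘ : Function.Injective Θ := fun a b h => tr_ext fun k => LinearMap.congr_fun h k
  obtain ⟨z, hz⟩ := (LinearMap.injective_iff_surjective_of_finrank_eq_finrank
    (Subspace.dual_finrank_eq : finrank F (Module.Dual F K) = finrank F K).symm).1 hΘ L
  exact ⟨z, fun k => by rw [← hz]; rfl⟩

namespace UForm

variable {σ : F ≃+* F} {f : (ι → F) → (ι → F) → F} {τ : K ≃+* K} {h : (ι → F) → (ι → F) → K}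
variable (H : UForm σ f τ h)
include H

local notation "hs" => UForm.herm H

/-- The Frobenius of the extension. -/
def φ (_ : UForm σ f τ h) : K →ₐ[F] K := FiniteField.frobeniusAlgHom F K

theorem φ_apply (x : K) : H.φ x = x ^ Fintype.card F := rfl

theorem card_K : Fintype.card K = Fintype.card F ^ 3 := by
  rw [← Nat.card_eq_fintype_card, ← Nat.card_eq_fintype_card, Module.natCard_eq_pow_finrank (K := F), H.deg]

theorem φ_three (x : K) : H.φ (H.φ (H.φ x)) = x := by
  simp only [φ_apply, ← pow_mul]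
  rw [show Fintype.card F * Fintype.card F * Fintype.card F = Fintype.card F ^ 3 by ring, ← H.card_K,
    FiniteField.pow_card]

theorem φ_tau (x : K) : τ (H.φ x) = H.φ (τ x) := by rw [φ_apply, φ_apply, map_pow]

theorem alg_cases (ψ : K →ₐ[F] K) : ∃ i : ℕ, ∀ x, ψ x = x ^ (Fintype.card F ^ i) := by
  obtain ⟨n, rfl⟩ := (FiniteField.bijective_frobeniusAlgHom_pow F K).2 ψ
  exact ⟨n, fun x => by rw [AlgHom.coe_pow, FiniteField.coe_frobeniusAlgHom, pow_iterate]⟩

theorem alg_tau (ψ : K →ₐ[F] K) (x : K) : τ (ψ x) = ψ (τ x) := by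
  obtain ⟨i, hi⟩ := H.alg_cases ψ
  rw [hi, hi, map_pow]

theorem tr_alg (ψ : K →ₐ[F] K) (x : K) : tr (ψ x) = tr x :=
  Algebra.trace_eq_of_algEquiv (AlgEquiv.ofBijective ψ ⟨ψ.injective, (Finite.injective_iff_surjective (f := ψ)).1
    ψ.injective⟩) x

theorem tr_eq (x : K) : algebraMap F K (tr x) = x + H.φ x + H.φ (H.φ x) := by
  rw [FiniteField.algebraMap_trace_eq_sum_pow, H.deg, Finset.sum_range_succ, Finset.sum_range_succ,
    Finset.sum_range_succ, Finset.sum_range_zero, zero_add, pow_zero, pow_one, φ_apply, φ_apply,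
    Nat.card_eq_fintype_card, pow_one, pow_two, pow_mul]

theorem tr_tau (x : K) : tr (τ x) = σ (tr x) := by
  apply (algebraMap F K).injective
  rw [← H.base, H.tr_eq, H.tr_eq, map_add, map_add, H.φ_tau, H.φ_tau, H.φ_tau]

theorem form (x y : V) : f x y = tr (h x y) := by simpa using H.spec 1 x y

theorem add_left (x y z : V) : h (x + y) z = h x z + h y z :=
  tr_ext (F := F) fun k => by rw [← H.spec, mul_add, map_add, ← H.spec, ← H.spec, smul_add, (hs).add_left]

theorem smul_left (s : K) (x y : V) : h (s • x) y = s * h x y :=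
  tr_ext (F := F) fun k => by rw [← H.spec, ← mul_assoc, ← H.spec, smul_smul]

theorem symm (x y : V) : h y x = τ (h x y) :=
  tr_ext (F := F) fun k => by
    rw [← H.spec, show k * τ (h x y) = τ (τ k * h x y) by rw [map_mul, H.invol], H.tr_tau, ← H.spec,
      (hs).herm (k • y) x, H.adj, H.invol]

theorem add_right (x y z : V) : h x (y + z) = h x y + h x z := by
  rw [H.symm, H.add_left, map_add, ← H.symm, ← H.symm]

theorem smul_right (s : K) (x y : V) : h x (s • y) = τ s * h x y := by
  rw [H.symm, H.smul_left, map_mul, ← H.symm]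

theorem zero_left (y : V) : h 0 y = 0 := by simpa using H.smul_left 0 0 y

theorem zero_right (y : V) : h y 0 = 0 := by simpa using H.smul_right 0 y 0

theorem neg_left (x y : V) : h (-x) y = -h x y := by rw [← neg_one_smul K x, H.smul_left, neg_one_mul]

theorem neg_right (x y : V) : h x (-y) = -h x y := by
  rw [← neg_one_smul K y, H.smul_right, map_neg, map_one, neg_one_mul]

theorem sub_left (x y z : V) : h (x - y) z = h x z - h y z := by
  rw [sub_eq_add_neg, H.add_left, H.neg_left, ← sub_eq_add_neg]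

theorem sub_right (x y z : V) : h x (y - z) = h x y - h x z := by
  rw [sub_eq_add_neg, H.add_right, H.neg_right, ← sub_eq_add_neg]

theorem self_fix (x : V) : τ (h x x) = h x x := (H.symm x x).symm

theorem iso_of_zero {x : V} (hx : h x x = 0) : f x x = 0 := by rw [H.form, hx, map_zero]

theorem tau_eq_zero {a : K} : τ a = 0 ↔ a = 0 := τ.map_eq_zero_iff

theorem eq_zero {w : V} (hw : ∀ x, h x w = 0) : w = 0 :=
  (hs).eq_zero w fun x => by rw [H.form, hw, map_zero]

theorem exists_one {w : V} (hw : w ≠ 0) : ∃ x, h x w = 1 := by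
  obtain ⟨x, hx⟩ : ∃ x, h x w ≠ 0 := by
    by_contra hc
    push Not at hc
    exact hw (H.eq_zero hc)
  exact ⟨(h x w)⁻¹ • x, by rw [H.smul_left, inv_mul_cancel₀ hx]⟩

/-- A linear map from a functional and the product. -/
def hlin (H : UForm σ f τ h) (w : ι → F) : (ι → F) →ₗ[K] K where
  toFun x := h x w
  map_add' x y := H.add_left x y w
  map_smul' s x := H.smul_left s x w

theorem hlin_apply (w x : V) : H.hlin w x = h x w := rfl

theorem exists_half : ∃ z : K, z + τ z = 1 := by
  obtain ⟨w, hw⟩ := (hs).exists_trace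
  refine ⟨algebraMap F K (w / (w + σ w)), ?_⟩
  rw [map_div₀ (algebraMap F K), map_div₀ τ, H.base, H.base, map_add σ, (hs).invol, add_comm (σ w) w, ← add_div, ← map_add, div_self ((_root_.map_ne_zero _).2 hw)]

theorem exists_sum {δ : K} (hδ : τ δ = δ) : ∃ s : K, s + τ s = δ := by
  obtain ⟨z, hz⟩ := H.exists_half
  exact ⟨δ * z, by rw [map_mul, hδ, ← mul_add, hz, mul_one]⟩

theorem exists_skewF : ∃ c : F, c ≠ 0 ∧ c + σ c = 0 := (hs).exists_skew

theorem skew_alg {c : F} (hc : c + σ c = 0) : τ (algebraMap F K c) = -algebraMap F K c := by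
  rw [H.base, ← map_neg]
  exact congrArg _ (by linear_combination hc)

/-- The fixed elements span over the base field. -/
theorem span_fix {W : Submodule F K} (hW : ∀ k, τ k = k → k ∈ W) : W = ⊤ := by
  obtain ⟨a, ha⟩ := (hs).exists_moved
  refine Submodule.eq_top_iff'.2 fun k => ?_
  have h1 := hW (k + τ k) (by rw [map_add, H.invol, add_comm])
  have h2 := hW (a • k + τ (a • k)) (by rw [map_add, H.invol, add_comm])
  have h3 := W.sub_mem h2 (W.smul_mem (σ a) h1)
  have e : a • k + τ (a • k) - σ a • (k + τ k) = (a - σ a) • k := by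
    rw [Algebra.smul_def, Algebra.smul_def, Algebra.smul_def, map_mul, H.base, map_sub]
    ring
  rw [e] at h3
  simpa [smul_smul, inv_mul_cancel₀ (sub_ne_zero.2 (Ne.symm ha))] using W.smul_mem (a - σ a)⁻¹ h3

/-- A skew element off a proper subspace. -/
theorem exists_skew_notMem {W : Submodule F K} (hW : W ≠ ⊤) : ∃ e : K, τ e = -e ∧ e ∉ W := by
  obtain ⟨c, hc0, hc⟩ := H.exists_skewF
  by_contra hcon
  push Not at hcon
  refine hW (H.span_fix fun k hk => ?_)
  have h1 := hcon (algebraMap F K c * k) (by rw [map_mul, H.skew_alg hc, hk]; ring)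
  have h2 := W.smul_mem c⁻¹ h1
  rwa [Algebra.smul_def, ← mul_assoc, ← map_mul, inv_mul_cancel₀ hc0, map_one, one_mul] at h2

theorem exists_skew_tr {z : K} (hz : z ≠ 0) : ∃ e : K, τ e = -e ∧ tr (e * z) ≠ 0 := by
  obtain ⟨e, he, hez⟩ := H.exists_skew_notMem (W := LinearMap.ker ((tr).comp (LinearMap.mulRight F z))) fun e => hz (by
    refine tr_ext (F := F) fun k => ?_
    have : k ∈ LinearMap.ker ((tr).comp (LinearMap.mulRight F z)) := e ▸ Submodule.mem_top
    rw [mul_zero, map_zero]
    exact this)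
  exact ⟨e, he, hez⟩

/-- A hyperbolic partner. -/
theorem exists_pair {b : V} (hb0 : b ≠ 0) (hb : h b b = 0) : ∃ b', h b' b' = 0 ∧ h b' b = 1 ∧ h b b' = 1 := by
  obtain ⟨x, hx⟩ := H.exists_one hb0
  obtain ⟨s, hsum⟩ := H.exists_sum (show τ (-h x x) = -h x x by rw [map_neg, H.self_fix])
  have hx' : h b x = 1 := by rw [H.symm, hx, map_one]
  refine ⟨x + s • b, ?_, ?_, ?_⟩
  · rw [H.add_left, H.add_right, H.add_right, H.smul_left, H.smul_right, H.smul_left, H.smul_right, hx, hx', hb]
    linear_combination hsum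
  · rw [H.add_left, H.smul_left, hb, hx, mul_zero, add_zero]
  · rw [H.add_right, H.smul_right, hb, hx', mul_zero, add_zero]

/-- The component orthogonal to a pair. -/
def proj (_ : UForm σ f τ h) (b b' x : ι → F) : ι → F := x - h x b' • b - h x b • b'

theorem proj_left {b b' : V} (hb : h b b = 0) (hbb : h b' b = 1) (x : V) : h (H.proj b b' x) b = 0 := by
  rw [proj, H.sub_left, H.sub_left, H.smul_left, H.smul_left, hb, hbb]; ring

theorem proj_right {b b' : V} (hb' : h b' b' = 0) (hbb : h b b' = 1) (x : V) : h (H.proj b b' x) b' = 0 := by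
  rw [proj, H.sub_left, H.sub_left, H.smul_left, H.smul_left, hb', hbb]; ring

theorem proj_dot {b b' u : V} (x : V) (h1 : h b u = 0) (h2 : h b' u = 0) : h (H.proj b b' x) u = h x u := by
  rw [proj, H.sub_left, H.sub_left, H.smul_left, H.smul_left, h1, h2]; ring

/-- The singular vectors span. -/
theorem sing_span {b : V} (hb0 : b ≠ 0) (hb : h b b = 0) (W : Submodule K V)
    (hW : ∀ x, h x x = 0 → x ∈ W) : W = ⊤ := by
  obtain ⟨b', hb', h1, h2⟩ := H.exists_pair hb0 hb
  refine Submodule.eq_top_iff'.2 fun x => ?_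
  obtain ⟨w, hw⟩ : ∃ w, w = H.proj b b' x := ⟨_, rfl⟩
  have hwb : h w b = 0 := hw ▸ H.proj_left hb h1 x
  have hwb' : h w b' = 0 := hw ▸ H.proj_right hb' h2 x
  have hbw : h b w = 0 := by rw [H.symm, hwb, map_zero]
  have hbw' : h b' w = 0 := by rw [H.symm, hwb', map_zero]
  obtain ⟨s, hsum⟩ := H.exists_sum (show τ (-h w w) = -h w w by rw [map_neg, H.self_fix])
  have hsing : h (w + b + s • b') (w + b + s • b') = 0 := by
    simp only [H.add_left, H.add_right, H.smul_left, H.smul_right, hb, hb', h1, h2, hwb, hwb', hbw, hbw']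
    linear_combination hsum
  have e : x = (w + b + s • b') - b - s • b' + h x b' • b + h x b • b' := by rw [hw, proj]; abel
  rw [e]
  exact W.add_mem (W.add_mem (W.sub_mem (W.sub_mem (hW _ hsing) (hW _ hb)) (W.smul_mem _ (hW _ hb')))
    (W.smul_mem _ (hW _ hb))) (W.smul_mem _ (hW _ hb'))

/-- A singular vector not orthogonal to a given one. -/
theorem exists_sing_ne {b x : V} (hb0 : b ≠ 0) (hb : h b b = 0) (hx : x ≠ 0) : ∃ a, h a a = 0 ∧ h a x ≠ 0 := by
  by_contra hc
  push Not at hc
  refine hx (H.eq_zero fun y => ?_)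
  have := H.sing_span hb0 hb (LinearMap.ker (H.hlin x)) hc
  exact LinearMap.mem_ker.1 (this ▸ Submodule.mem_top : y ∈ LinearMap.ker (H.hlin x))

theorem exists_coef2 {r : K} : ∃ s : K, s ≠ 0 ∧ s * r + τ (s * r) = 0 := by
  rcases eq_or_ne r 0 with rfl | hr
  · exact ⟨1, one_ne_zero, by simp⟩
  obtain ⟨c, hc0, hc⟩ := H.exists_skewF
  refine ⟨algebraMap F K c / r, div_ne_zero ((_root_.map_ne_zero _).2 hc0) hr, ?_⟩
  rw [div_mul_cancel₀ _ hr, H.skew_alg hc, add_neg_cancel]

theorem finiteV : Module.Finite K V := Module.Finite.of_restrictScalars_finite F K _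

/-- A vector orthogonal to a list. -/
theorem exists_perp {m : ℕ} (v : Fin m → ι → F) (hm : m < finrank K V) : ∃ x, x ≠ 0 ∧ ∀ i, h x (v i) = 0 := by
  haveI := H.finiteV
  let L : V →ₗ[K] (Fin m → K) := LinearMap.pi fun i => H.hlin (v i)
  obtain ⟨x, hx, hx0⟩ := Submodule.exists_mem_ne_zero_of_ne_bot (p := LinearMap.ker L) fun e => by
    have h1 := L.finrank_range_add_finrank_ker
    have h2 := Submodule.finrank_le (LinearMap.range L)
    rw [Module.finrank_fin_fun] at h2
    rw [e, finrank_bot] at h1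
    omega
  exact ⟨x, hx0, fun i => congrFun (LinearMap.mem_ker.1 hx) i⟩

theorem exists_norm {t : K} (ht : τ t = t) : ∃ c : K, c * τ c = t := by
  rcases eq_or_ne t 0 with rfl | h0
  · exact ⟨0, zero_mul _⟩
  refine exists_norm_eq (σ := τ.toRingHom) (fun e => ?_) H.invol ht h0
  refine (hs).ne_refl (RingEquiv.ext fun a => (algebraMap F K).injective ?_)
  rw [← H.base]
  exact RingHom.congr_fun e _

/-- An anisotropic vector orthogonal to a pair. -/
theorem exists_aniso_perp {b b' : V} (hb : h b b = 0) (hb' : h b' b' = 0) (h1 : h b' b = 1) (h2 : h b b' = 1)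
    (hd : 3 ≤ finrank K V) : ∃ w, h w b = 0 ∧ h w b' = 0 ∧ h w w ≠ 0 := by
  obtain ⟨w, hw0, hw⟩ := H.exists_perp ![b, b'] (by simpa using (by omega : 2 < finrank K V))
  have hwb : h w b = 0 := hw 0
  have hwb' : h w b' = 0 := hw 1
  rcases eq_or_ne (h w w) 0 with hww | hww
  swap
  · exact ⟨w, hwb, hwb', hww⟩
  obtain ⟨y, hy⟩ := H.exists_one hw0
  obtain ⟨y', hy'⟩ : ∃ y', y' = H.proj b b' y := ⟨_, rfl⟩
  have hy'w : h y' w = 1 := by
    rw [hy', H.proj_dot y (by rw [H.symm, hwb, map_zero]) (by rw [H.symm, hwb', map_zero]), hy]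
  obtain ⟨z, hz⟩ := H.exists_half
  rcases eq_or_ne (h y' y') 0 with hyy | hyy
  · refine ⟨w + z • y', ?_, ?_, ?_⟩
    · rw [H.add_left, H.smul_left, hwb, hy', H.proj_left hb h1]; ring
    · rw [H.add_left, H.smul_left, hwb', hy', H.proj_right hb' h2]; ring
    · rw [H.add_left, H.add_right, H.add_right, H.smul_left, H.smul_right, H.smul_left, H.smul_right, hww, hyy,
        H.symm y' w, hy'w, map_one]
      simp only [mul_zero, mul_one, zero_add, add_zero]
      rw [add_comm, hz]
      exact one_ne_zero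
  · exact ⟨y', hy' ▸ H.proj_left hb h1 y, hy' ▸ H.proj_right hb' h2 y, hyy⟩

/-- A singular vector orthogonal to a pair, not orthogonal to a given one. -/
theorem exists_sing_perp {b b' u : V} (hb : h b b = 0) (hb' : h b' b' = 0) (h1 : h b' b = 1) (h2 : h b b' = 1)
    (hd : 4 ≤ finrank K V) (hu : H.proj b b' u ≠ 0) : ∃ a, h a b = 0 ∧ h a b' = 0 ∧ h a a = 0 ∧ h u a ≠ 0 := by
  obtain ⟨u₀, hu₀⟩ : ∃ u₀, u₀ = H.proj b b' u := ⟨_, rfl⟩
  rw [← hu₀] at hu
  obtain ⟨x, hxb, hxb', hxx⟩ := H.exists_aniso_perp hb hb' h1 h2 (by omega)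
  obtain ⟨y, hy0, hy⟩ := H.exists_perp ![b, b', x] (by simpa using (by omega : 3 < finrank K V))
  have hyb : h y b = 0 := hy 0
  have hyb' : h y b' = 0 := hy 1
  have hyx : h y x = 0 := hy 2
  obtain ⟨w, hwb, hwb', hw0, hww⟩ : ∃ w, h w b = 0 ∧ h w b' = 0 ∧ w ≠ 0 ∧ h w w = 0 := by
    rcases eq_or_ne (h y y) 0 with hyy | hyy
    · exact ⟨y, hyb, hyb', hy0, hyy⟩
    obtain ⟨c, hc⟩ := H.exists_norm (t := -(h y y / h x x)) (by rw [map_neg, map_div₀, H.self_fix, H.self_fix])
    refine ⟨y + c • x, by rw [H.add_left, H.smul_left, hyb, hxb]; ring,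
      by rw [H.add_left, H.smul_left, hyb', hxb']; ring, fun e => hyy ?_, ?_⟩
    · have := congrArg (fun t => h t y) e
      simp only [H.zero_left, H.add_left, H.smul_left, H.symm y x, hyx, map_zero, mul_zero, add_zero] at this
      exact this
    · rw [H.add_left, H.add_right, H.add_right, H.smul_left, H.smul_right, H.smul_left, H.smul_right, H.symm y x,
        hyx, map_zero]
      field_simp at hc
      linear_combination hc
  obtain ⟨w₁, hw₁⟩ := H.exists_one hw0
  obtain ⟨w₂, hw₂⟩ : ∃ w₂, w₂ = H.proj b b' w₁ := ⟨_, rfl⟩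
  have hbw : h b w = 0 := by rw [H.symm, hwb, map_zero]
  have hb'w : h b' w = 0 := by rw [H.symm, hwb', map_zero]
  have hw2w : h w₂ w = 1 := by rw [hw₂, H.proj_dot _ hbw hb'w, hw₁]
  have hww2 : h w w₂ = 1 := by rw [H.symm, hw2w, map_one]
  obtain ⟨s, hsum⟩ := H.exists_sum (show τ (-h w₂ w₂) = -h w₂ w₂ by rw [map_neg, H.self_fix])
  obtain ⟨w', hw'⟩ : ∃ w', w' = w₂ + s • w := ⟨_, rfl⟩
  have hw'w : h w' w = 1 := by rw [hw', H.add_left, H.smul_left, hww, hw2w]; ring
  have hww' : h w w' = 1 := by rw [H.symm, hw'w, map_one]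
  have hw'b : h w' b = 0 := by rw [hw', H.add_left, H.smul_left, hwb, hw₂, H.proj_left hb h1]; ring
  have hw'b' : h w' b' = 0 := by rw [hw', H.add_left, H.smul_left, hwb', hw₂, H.proj_right hb' h2]; ring
  have hw'w' : h w' w' = 0 := by
    rw [hw', H.add_left, H.add_right, H.add_right, H.smul_left, H.smul_right, H.smul_left, H.smul_right, hw2w,
      hww2, hww]
    linear_combination hsum
  have huu : ∀ t, h t b = 0 → h t b' = 0 → h u₀ t = h u t := fun t t1 t2 => by
    rw [hu₀, H.proj_dot _ (by rw [H.symm, t1, map_zero]) (by rw [H.symm, t2, map_zero])]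
  by_contra hcon
  push Not at hcon
  have huw : h u w = 0 := hcon w hwb hwb' hww
  have huw' : h u w' = 0 := hcon w' hw'b hw'b' hw'w'
  refine hu (H.eq_zero fun z => ?_)
  obtain ⟨z₀, hz₀⟩ : ∃ z₀, z₀ = H.proj b b' z := ⟨_, rfl⟩
  have hz₀u : h z₀ u₀ = h z u₀ := by
    rw [hz₀, H.proj_dot _ (by rw [H.symm, hu₀, H.proj_left hb h1, map_zero])
      (by rw [H.symm, hu₀, H.proj_right hb' h2, map_zero])]
  obtain ⟨z₁, hz₁⟩ : ∃ z₁, z₁ = H.proj w w' z₀ := ⟨_, rfl⟩
  obtain ⟨t, ht⟩ := H.exists_sum (show τ (-h z₁ z₁) = -h z₁ z₁ by rw [map_neg, H.self_fix])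
  have hz₁b : h z₁ b = 0 := by
    rw [hz₁, proj, H.sub_left, H.sub_left, H.smul_left, H.smul_left, hwb, hw'b, hz₀, H.proj_left hb h1]; ring
  have hz₁b' : h z₁ b' = 0 := by
    rw [hz₁, proj, H.sub_left, H.sub_left, H.smul_left, H.smul_left, hwb', hw'b', hz₀, H.proj_right hb' h2]; ring
  have e1 : h z₁ w = 0 := hz₁ ▸ H.proj_left hww hw'w z₀
  have e2 : h z₁ w' = 0 := hz₁ ▸ H.proj_right hw'w' hww' z₀
  have hA := hcon (z₁ + w + t • w') (by simp [H.add_left, H.smul_left, hz₁b, hwb, hw'b])
    (by simp [H.add_left, H.smul_left, hz₁b', hwb', hw'b']) (by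
      simp only [H.add_left, H.add_right, H.smul_left, H.smul_right, hww, hw'w', hww', hw'w, e1, e2,
        H.symm z₁ w, H.symm z₁ w', map_zero]
      linear_combination ht)
  rw [H.add_right, H.add_right, H.smul_right, huw, huw', mul_zero, add_zero, add_zero] at hA
  have hu₀z : h u₀ z₁ = 0 := by rw [huu _ hz₁b hz₁b', hA]
  rw [hz₁, proj, H.sub_right, H.sub_right, H.smul_right, H.smul_right, huu _ hwb hwb', huu _ hw'b hw'b', huw,
    huw', mul_zero, mul_zero, sub_zero, sub_zero] at hu₀z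
  rw [← hz₀u, H.symm, hu₀z, map_zero]

/-- A linear endomorphism has three Frobenius coefficients. -/
theorem exists_coeff (T : K →ₗ[F] K) :
    ∃ c₀ c₁ c₂ : K, ∀ x, T x = c₀ * x + c₁ * H.φ x + c₂ * H.φ (H.φ x) := by
  classical
  haveI := finiteK (F := F) (K := K)
  have hb := FiniteField.bijective_frobeniusAlgHom_pow F K
  let Φ : (Fin (finrank F K) → K) →ₗ[F] (K →ₗ[F] K) :=
    { toFun := fun c => ∑ i, (LinearMap.mulLeft F (c i)).comp (FiniteField.frobeniusAlgHom F K ^ (i : ℕ)).toLinearMap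
      map_add' := fun a b => by
        ext x; simp [add_mul, Finset.sum_add_distrib]
      map_smul' := fun a b => by
        ext x; simp [Finset.smul_sum] }
  have hli := (linearIndependent_monoidHom K K).comp
    (fun i : Fin (finrank F K) => ((FiniteField.frobeniusAlgHom F K ^ (i : ℕ)).toRingHom : K →* K))
    (fun i j e => hb.1 (AlgHom.ext fun x => DFunLike.congr_fun e x))
  have hinj : Function.Injective Φ := by
    refine (injective_iff_map_eq_zero Φ).2 fun c hc => funext fun i => ?_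
    refine Fintype.linearIndependent_iff.1 hli c (funext fun x => ?_) i
    have := LinearMap.congr_fun hc x
    simpa [Φ, Finset.sum_apply] using this
  obtain ⟨c, hc⟩ := (LinearMap.injective_iff_surjective_of_finrank_eq_finrank (by
    rw [Module.finrank_pi_fintype, Module.finrank_linearMap, Finset.sum_const, Finset.card_univ, Fintype.card_fin,
      smul_eq_mul])).1 hinj T
  obtain ⟨e⟩ : Nonempty (Fin 3 ≃ Fin (finrank F K)) := ⟨finCongr H.deg.symm⟩
  refine ⟨c ⟨0, by rw [H.deg]; norm_num⟩, c ⟨1, by rw [H.deg]; norm_num⟩, c ⟨2, by rw [H.deg]; norm_num⟩,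
    fun x => ?_⟩
  rw [← hc]
  show (∑ i, (LinearMap.mulLeft F (c i)).comp (FiniteField.frobeniusAlgHom F K ^ (i : ℕ)).toLinearMap) x = _
  rw [LinearMap.sum_apply, ← (finCongr H.deg.symm).sum_comp, Fin.sum_univ_three]
  rfl

end UForm

end Cfsg.Agent.Classical.UnitField
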