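import Cfsg.Agent.Lib.Classical.MaxUnitFieldRad
import Cfsg.Agent.Lib.Classical.MaxOrthFieldBase

/-!
Overgroups of unitary groups over a cubic extension: lines meeting images of lines properly give unexpected
elements; otherwise every element is semilinear.
-/

set_option autoImplicit false
set_option linter.unusedSectionVars false
set_option linter.style.haveILetI false
set_option quotPrecheck false

namespace Cfsg.Agent.Classical.UnitField

open Matrix Module MaxTv

variable {F : Type*} [Field F] [Fintype F] {ι : Type} [Fintype ι] [DecidableEq ι]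
variable {K : Type*} [Field K] [Fintype K] [Algebra F K] [Module K (ι → F)] [IsScalarTower F K (ι → F)]

local notation "V" => (ι → F)
local notation "Mn" => Matrix ι ι F
local notation "tr" => Algebra.trace F K

/-- The image of a line. -/
def img (g : GL ι F) (b : ι → F) : K →ₗ[F] (ι → F) :=
  (Matrix.toLin' (g : Matrix ι ι F)).comp ((LinearMap.toSpanSingleton K (ι → F) b).restrictScalars F)

theorem img_apply (g : GL ι F) (b : V) (k : K) : img g b k = (g : Mn) *ᵥ (k • b) := rfl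

namespace UForm

variable {σ : F ≃+* F} {f : (ι → F) → (ι → F) → F} {τ : K ≃+* K} {h : (ι → F) → (ι → F) → K}
variable (H : UForm σ f τ h)
include H

/-- A skew element of a stable subspace outside another subspace. -/
theorem exists_skew_between {W W' : Submodule F K} (hW : ∀ k ∈ W, τ k ∈ W) {k : K} (hk : k ∈ W) (hk' : k ∉ W') :
    ∃ e ∈ W, τ e = -e ∧ e ∉ W' := by
  obtain ⟨a, ha⟩ := H.herm.exists_moved
  by_contra hc
  push Not at hc
  have h1 := hc (k - τ k) (W.sub_mem hk (hW k hk)) (by rw [map_sub, H.invol, neg_sub])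
  have h2 := hc (a • k - τ (a • k)) (W.sub_mem (W.smul_mem a hk) (hW _ (W.smul_mem a hk)))
    (by rw [map_sub, H.invol, neg_sub])
  refine hk' ?_
  have h3 := W'.sub_mem h2 (W'.smul_mem (σ a) h1)
  have e : a • k - τ (a • k) - σ a • (k - τ k) = (a - σ a) • k := by
    rw [Algebra.smul_def, Algebra.smul_def, Algebra.smul_def, map_mul, H.base, map_sub]
    ring
  rw [e] at h3
  simpa [smul_smul, inv_mul_cancel₀ (sub_ne_zero.2 (Ne.symm ha))] using W'.smul_mem (a - σ a)⁻¹ h3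

theorem finrank_ker_trace : finrank F (LinearMap.ker (Algebra.trace F K)) = 2 := by
  haveI := finiteK (F := F) (K := K)
  have h1 := (Algebra.trace F K).finrank_range_add_finrank_ker
  rw [LinearMap.range_eq_top.2 (Algebra.trace_surjective F K), finrank_top, Module.finrank_self, H.deg] at h1
  omega

/-- Few fixed elements have trace zero. -/
theorem card_trace_zero (S : Set K) (hS : ∀ z ∈ S, τ z = z ∧ tr z = 0) : Nat.card S ≤ Fintype.card F := by
  obtain ⟨a, ha⟩ := H.herm.exists_moved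
  have hle : Nat.card (S × S) ≤ Nat.card (LinearMap.ker (Algebra.trace F K)) := by
    refine Nat.card_le_card_of_injective (fun p => ⟨(p.1 : K) + a • (p.2 : K), LinearMap.mem_ker.2 (by
      rw [map_add, map_smul, (hS _ p.1.2).2, (hS _ p.2.2).2, smul_zero, add_zero])⟩) fun p p' e => ?_
    have e1 : (p.1 : K) + a • (p.2 : K) = (p'.1 : K) + a • (p'.2 : K) := congrArg Subtype.val e
    have e2 := congrArg τ e1
    simp only [Algebra.smul_def, map_add, map_mul, H.base, (hS _ p.1.2).1, (hS _ p.2.2).1, (hS _ p'.1.2).1,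
      (hS _ p'.2.2).1] at e1 e2
    have e3 : algebraMap F K (a - σ a) * ((p.2 : K) - p'.2) = 0 := by
      rw [map_sub]; linear_combination e1 - e2
    have h2 : (p.2 : K) = p'.2 := sub_eq_zero.1 ((mul_eq_zero.1 e3).resolve_left
      ((_root_.map_ne_zero _).2 (sub_ne_zero.2 (Ne.symm ha))))
    exact Prod.ext (Subtype.ext (by rw [h2] at e1; linear_combination e1)) (Subtype.ext h2)
  have hk : Nat.card (LinearMap.ker (Algebra.trace F K)) =
      Nat.card F ^ finrank F (LinearMap.ker (Algebra.trace F K)) := Module.natCard_eq_pow_finrank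
  rw [Nat.card_prod, hk, H.finrank_ker_trace, Nat.card_eq_fintype_card (α := F), pow_two] at hle
  exact Nat.mul_self_le_mul_self_iff.1 hle

end UForm

namespace Over

variable {σ : F ≃+* F} {f : (ι → F) → (ι → F) → F} {τ : K ≃+* K} {h : (ι → F) → (ι → F) → K}
  {M : Subgroup (GL ι F)} (O : Over σ f τ h M)
include O

theorem img_orth {g : GL ι F} (hg : g ∈ M) {b : V} (hb : h b b = 0) (k l : K) :
    f (img g b k) (img g b l) = 0 := by
  rw [img_apply, img_apply, O.iso g hg, O.form.form, O.form.smul_left, O.form.smul_right, hb, mul_zero,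
    mul_zero, map_zero]

theorem img_inj {g : GL ι F} {b : V} (hb : b ≠ 0) : Function.Injective (img (K := K) g b) :=
  fun _ _ e => smul_left_injective K hb (gl_mulVec_injective g e)

/-- The image of a singular line contains a singular vector. -/
theorem exists_sing_img {g : GL ι F} (hg : g ∈ M) {b : V} (hb : h b b = 0) :
    ∃ k : K, k ≠ 0 ∧ h (img g b k) (img g b k) = 0 := by
  classical
  have H := O.form
  obtain ⟨p, hp⟩ := CharP.exists K
  haveI : Fact p.Prime := ⟨CharP.char_is_prime K p⟩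
  letI : Algebra (ZMod p) K := ZMod.algebra K p
  haveI : Module.Finite (ZMod p) K := Module.Finite.of_finite
  let Z₀ : AddSubgroup K :=
    { carrier := {z | τ z = z ∧ tr z = 0}
      add_mem' := fun {a b} ha hb => ⟨by rw [map_add, ha.1, hb.1], by rw [map_add, ha.2, hb.2, add_zero]⟩
      zero_mem' := ⟨map_zero τ, map_zero _⟩
      neg_mem' := fun {a} ha => ⟨by rw [map_neg, ha.1], by rw [map_neg, ha.2, neg_zero]⟩ }
  let Z : Submodule (ZMod p) K := AddSubgroup.toZModSubmodule p Z₀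
  obtain ⟨C, hC⟩ := Submodule.exists_isCompl Z
  let π : K →ₗ[ZMod p] Z := Z.projectionOnto C hC
  let bz := Module.finBasis (ZMod p) Z
  let Φ : (Fin (finrank (ZMod p) K) → ZMod p) ≃ₗ[ZMod p] K := (Module.finBasis (ZMod p) K).equivFun.symm
  let q : (Fin (finrank (ZMod p) K) → ZMod p) → (Fin (finrank (ZMod p) K) → ZMod p) → K :=
    fun x y => h (img g b (Φ x)) (img g b (Φ y))
  have qa : ∀ x x' y, q (x + x') y = q x y + q x' y := fun x x' y => by
    simp only [q, map_add, H.add_left]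
  have qb : ∀ x y y', q x (y + y') = q x y + q x y' := fun x y y' => by
    simp only [q, map_add, H.add_right]
  have qs : ∀ (c : ZMod p) x y, q (c • x) y = c • q x y := fun c x y =>
    ZMod.map_smul (AddMonoidHom.mk' (fun x => q x y) fun a a' => qa a a' y) c x
  have qt : ∀ (c : ZMod p) x y, q x (c • y) = c • q x y := fun c x y =>
    ZMod.map_smul (AddMonoidHom.mk' (fun y => q x y) fun a a' => qb x a a') c y
  let β : Fin (finrank (ZMod p) Z) → LinearMap.BilinForm (ZMod p) (Fin (finrank (ZMod p) K) → ZMod p) := fun i =>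
    LinearMap.mk₂ (ZMod p) (fun x y => bz.equivFun (π (q x y)) i)
      (fun x x' y => by simp only [qa, map_add, Pi.add_apply])
      (fun c x y => by simp only [qs, map_smul, Pi.smul_apply])
      (fun x y y' => by simp only [qb, map_add, Pi.add_apply])
      (fun c x y => by simp only [qt, map_smul, Pi.smul_apply])
  have hdim : 2 * finrank (ZMod p) Z < finrank (ZMod p) K := by
    have h1 : Nat.card Z ≤ Fintype.card F := H.card_trace_zero (S := (Z₀ : Set K)) fun z hz => hz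
    have h2 : Nat.card Z = p ^ finrank (ZMod p) Z := by
      rw [Module.natCard_eq_pow_finrank (K := ZMod p), Nat.card_zmod]
    have h3 : Nat.card K = p ^ finrank (ZMod p) K := by
      rw [Module.natCard_eq_pow_finrank (K := ZMod p), Nat.card_zmod]
    rw [Nat.card_eq_fintype_card, H.card_K] at h3
    rw [h2] at h1
    refine (Nat.pow_lt_pow_iff_right (Fact.out (p := p.Prime)).one_lt).1 ?_
    rw [← h3, mul_comm, pow_mul]
    calc (p ^ finrank (ZMod p) Z) ^ 2 ≤ Fintype.card F ^ 2 := Nat.pow_le_pow_left h1 2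
      _ < Fintype.card F ^ 3 := Nat.pow_lt_pow_right Fintype.one_lt_card (by norm_num)
  obtain ⟨x, -, hx0, hx⟩ := OrthField.exists_common_zero' (W := ⊤) β (fun _ => 0)
    (by rw [finrank_top, Module.finrank_fin_fun]; exact hdim)
  refine ⟨Φ x, fun e => hx0 (Φ.map_eq_zero_iff.1 e), ?_⟩
  have hmem : q x x ∈ Z := ⟨H.self_fix _, by rw [← H.form, O.img_orth hg hb]⟩
  have hz : π (q x x) = 0 := bz.equivFun.map_eq_zero_iff.1 (funext fun i => by
    have := hx i
    rw [LinearMap.zero_apply, add_zero] at this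
    exact this)
  have h4 := Submodule.projectionOnto_apply_left hC ⟨q x x, hmem⟩
  rw [show Z.projectionOnto C hC (q x x) = 0 from hz] at h4
  exact (congrArg Subtype.val h4).symm

omit O in
/-- A vector orthogonal to a hyperbolic pair, not orthogonal to a given one. -/
theorem exists_dual_perp (H : UForm σ f τ h) {b b' u : V} (hb : h b b = 0) (hb' : h b' b' = 0) (h1 : h b' b = 1)
    (h2 : h b b' = 1) (hu : H.proj b b' u ≠ 0) : ∃ a, h a b = 0 ∧ h a b' = 0 ∧ h u a = 1 := by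
  obtain ⟨u₀, hu₀⟩ : ∃ u₀, u₀ = H.proj b b' u := ⟨_, rfl⟩
  rw [← hu₀] at hu
  obtain ⟨y, hy⟩ := H.exists_one hu
  obtain ⟨a, ha⟩ : ∃ a, a = H.proj b b' y := ⟨_, rfl⟩
  have hab : h a b = 0 := ha ▸ H.proj_left hb h1 y
  have hab' : h a b' = 0 := ha ▸ H.proj_right hb' h2 y
  refine ⟨a, hab, hab', ?_⟩
  have e1 : h a u₀ = 1 := by
    rw [ha, H.proj_dot _ (by rw [H.symm, hu₀, H.proj_left hb h1, map_zero])
      (by rw [H.symm, hu₀, H.proj_right hb' h2, map_zero]), hy]
  have e2 : h u₀ a = h u a := by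
    rw [hu₀, H.proj_dot _ (by rw [H.symm, hab, map_zero]) (by rw [H.symm, hab', map_zero])]
  rw [← e2, H.symm, e1, map_one]

/-- An element near the identity on the perpendicular of a singular vector. -/
theorem shift_mem {a c : V} (hc : h c c = 0) (hac : h a c = 0) (θ : K) :
    ∃ t ∈ M, (t : Mn) *ᵥ c = c ∧ ∀ x, h x c = 0 → (t : Mn) *ᵥ x = x + (θ * h x a) • c := by
  have H := O.form
  obtain ⟨a', ha'⟩ : ∃ a', a' = τ θ • a := ⟨_, rfl⟩
  have hxa : ∀ x, h x a' = θ * h x a := fun x => by rw [ha', H.smul_right, H.invol]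
  have hac' : h a' c = 0 := by rw [ha', H.smul_left, hac, mul_zero]
  have hca' : h c a' = 0 := by rw [H.symm, hac', map_zero]
  obtain ⟨ρ, hρ⟩ := H.exists_sum (show τ (-h a' a') = -h a' a' by rw [map_neg, H.self_fix])
  obtain ⟨L₁, hL₁⟩ : ∃ L, L = LinearMap.transvection (H.hlin a' + (ρ + h a' a') • H.hlin c) c := ⟨_, rfl⟩
  obtain ⟨L₂, hL₂⟩ : ∃ L, L = LinearMap.transvection (-H.hlin c) a' := ⟨_, rfl⟩
  have hL : ∀ x, L₁.comp L₂ x = x + (h x a' + ρ * h x c) • c + (-h x c) • a' := fun x => by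
    simp only [hL₁, hL₂, LinearMap.comp_apply, LinearMap.transvection.apply, LinearMap.smul_apply,
      LinearMap.add_apply, LinearMap.neg_apply, UForm.hlin_apply, smul_eq_mul, H.add_left, H.smul_left, hac',
      mul_zero, add_zero]
    match_scalars <;> ring
  have hdet : LinearMap.det (L₁.comp L₂) = 1 := by
    rw [LinearMap.det_comp, hL₁, hL₂, O.det_transvection, O.det_transvection]
    simp only [LinearMap.smul_apply, LinearMap.add_apply, LinearMap.neg_apply, UForm.hlin_apply, smul_eq_mul, hca',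
      hc, hac', mul_zero, add_zero, neg_zero, mul_one]
  obtain ⟨t, ht, htx⟩ := O.mem _ (fun x y => by
    rw [hL, hL]
    simp only [H.add_left, H.add_right, H.smul_left, H.smul_right, hc, hac', hca', mul_zero, add_zero,
      map_add, map_mul, map_neg, H.symm y c, H.symm y a']
    linear_combination (h x c * τ (h y c)) * hρ) hdet
  refine ⟨t, ht, ?_, fun x hx => ?_⟩
  · rw [htx, hL, hc, hca', mul_zero, add_zero, neg_zero, zero_smul, zero_smul, add_zero, add_zero]
  · rw [htx, hL, hx, hxa, mul_zero, add_zero, neg_zero, zero_smul, add_zero]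

/-- A line meeting an image in one dimension gives a line meeting an image in two dimensions. -/
theorem one_to_two {g : GL ι F} (hg : g ∈ M) {b c : V} (hb0 : b ≠ 0) (hb : h b b = 0) (hc : h c c = 0)
    (hgc : (g : Mn) *ᵥ b = c) (hone : ∀ k : K, img g b k ∈ (K ∙ c) → ∃ a : F, k = algebraMap F K a) :
    ∃ g' ∈ M, (g' : Mn) *ᵥ b = b ∧ (∃ k : K, (∀ a : F, k ≠ algebraMap F K a) ∧ img g' b k ∈ (K ∙ b)) ∧
      ∃ j : K, img g' b j ∉ (K ∙ b) := by
  classical
  have H := O.form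
  haveI := finiteK (F := F) (K := K)
  have hc0 : c ≠ 0 := fun e => hb0 (gl_mulVec_injective g (by
    show (g : Mn) *ᵥ b = (g : Mn) *ᵥ 0
    rw [hgc, e, Matrix.mulVec_zero]))
  have hG1 : img g b (1 : K) = c := by rw [img_apply, one_smul, hgc]
  have hGa : ∀ a : F, img g b (algebraMap F K a) = algebraMap F K a • c := fun a => by
    rw [Algebra.algebraMap_eq_smul_one, map_smul, hG1, smul_assoc, one_smul]
  have hstep : ∀ k j : K, ∀ z : K, img g b j + z • c = img g b k → ∃ a : F, z = algebraMap F K a := fun k j z e => by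
    obtain ⟨a, ha⟩ := hone (k - j) (by
      rw [map_sub, ← e, add_sub_cancel_left]
      exact Submodule.smul_mem _ _ (Submodule.mem_span_singleton_self c))
    refine ⟨a, ?_⟩
    have e2 : z • c = algebraMap F K a • c := by rw [← hGa, ← ha, map_sub, ← e, add_sub_cancel_left]
    exact smul_left_injective K hc0 e2
  have finish : ∀ E ∈ M, (E : Mn) *ᵥ c = c → ∀ k : K, (∀ a : F, k ≠ algebraMap F K a) →
      (∃ t : F, (E : Mn) *ᵥ img g b k = img g b k + algebraMap F K t • c) → ∀ j : K, ∀ z : K,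
      (E : Mn) *ᵥ img g b j = img g b j + z • c → (∀ a : F, z ≠ algebraMap F K a) →
      ∃ g' ∈ M, (g' : Mn) *ᵥ b = b ∧ (∃ k : K, (∀ a : F, k ≠ algebraMap F K a) ∧ img g' b k ∈ (K ∙ b)) ∧
        ∃ j : K, img g' b j ∉ (K ∙ b) := by
    intro E hE hEc k hk ⟨t, hEk⟩ j z hEj hz
    refine ⟨g⁻¹ * E * g, mul_mem (mul_mem (inv_mem hg) hE) hg, ?_, ⟨k, hk, ?_⟩, j, fun hj => ?_⟩
    · rw [Units.val_mul, Units.val_mul, ← Matrix.mulVec_mulVec, ← Matrix.mulVec_mulVec, hgc, hEc, ← hgc,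
        inv_mulVec_cancel]
    · rw [img_apply, Units.val_mul, Units.val_mul, ← Matrix.mulVec_mulVec, ← Matrix.mulVec_mulVec, ← img_apply, hEk,
        ← hGa, ← map_add, img_apply, inv_mulVec_cancel]
      exact Submodule.smul_mem _ _ (Submodule.mem_span_singleton_self b)
    · obtain ⟨s, hs⟩ := Submodule.mem_span_singleton.1 hj
      rw [img_apply, Units.val_mul, Units.val_mul, ← Matrix.mulVec_mulVec, ← Matrix.mulVec_mulVec, ← img_apply,
        hEj] at hs
      have e : img g b j + z • c = img g b s := by rw [img_apply g b s, hs, mulVec_inv_cancel]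
      obtain ⟨a, ha⟩ := hstep _ _ _ e
      exact hz a ha
  let η : K →ₗ[F] K := ((H.hlin c).restrictScalars F).comp (img g b)
  have hη : ∀ k, η k = h (img g b k) c := fun k => rfl
  have hηF : ∀ a : F, η (algebraMap F K a) = 0 := fun a => by rw [hη, hGa, H.smul_left, hc, mul_zero]
  by_cases hinj : ∀ k, η k = 0 → ∃ a : F, k = algebraMap F K a
  · have hrange : LinearMap.range η ≤ LinearMap.ker (Algebra.trace F K) := by
      rintro _ ⟨k, rfl⟩
      rw [LinearMap.mem_ker, hη, ← H.form, ← hG1, O.img_orth hg hb]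
    have hker : finrank F (LinearMap.ker η) ≤ 1 := by
      refine le_trans (Submodule.finrank_mono (t := F ∙ (1 : K)) fun k hk => ?_)
        (le_of_eq (finrank_span_singleton one_ne_zero))
      obtain ⟨a, rfl⟩ := hinj k hk
      exact Submodule.mem_span_singleton.2 ⟨a, by rw [Algebra.algebraMap_eq_smul_one]⟩
    have heq : LinearMap.range η = LinearMap.ker (Algebra.trace F K) := Submodule.eq_of_le_of_finrank_le hrange (by
      rw [H.finrank_ker_trace]
      have := η.finrank_range_add_finrank_ker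
      rw [H.deg] at this
      omega)
    obtain ⟨w, hw, hw0⟩ := Submodule.exists_mem_ne_zero_of_ne_bot (p := LinearMap.ker (Algebra.trace F K))
      fun e => by have := H.finrank_ker_trace; rw [e, finrank_bot] at this; omega
    obtain ⟨z, hz, hzs, hz0⟩ := H.exists_skew_between (W := LinearMap.ker (Algebra.trace F K)) (W' := ⊥)
      (fun k hk => by rw [LinearMap.mem_ker, H.tr_tau, LinearMap.mem_ker.1 hk, map_zero]) hw
      (by rwa [Submodule.mem_bot])
    rw [Submodule.mem_bot] at hz0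
    obtain ⟨k, hk⟩ : z ∈ LinearMap.range η := heq ▸ hz
    obtain ⟨E, hE, hEx⟩ := O.root_mem hc (e := z⁻¹) (by rw [map_inv₀, hzs, inv_neg])
    obtain ⟨j, hj⟩ : ∃ j, ∀ a : F, z⁻¹ * η j ≠ algebraMap F K a := by
      by_contra hcon
      push Not at hcon
      have hle : LinearMap.range η ≤ F ∙ z := by
        rintro _ ⟨j, rfl⟩
        obtain ⟨a, ha⟩ := hcon j
        refine Submodule.mem_span_singleton.2 ⟨a, ?_⟩
        rw [Algebra.smul_def, ← ha]
        field_simp
      have := Submodule.finrank_mono hle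
      rw [heq, H.finrank_ker_trace, finrank_span_singleton hz0] at this
      omega
    refine finish E hE (by rw [hEx, hc, mul_zero, zero_smul, add_zero]) k
      (fun a e => hz0 (by rw [← hk, e, hηF])) ⟨1, by rw [hEx, ← hη, hk, inv_mul_cancel₀ hz0, map_one]⟩ j _
      (by rw [hEx, ← hη]) hj
  push Not at hinj
  obtain ⟨k, hk0, hk⟩ := hinj
  obtain ⟨j, hj⟩ : ∃ j, j ∉ Submodule.span F (Set.range ![(1 : K), k]) := by
    by_contra hcon
    push Not at hcon
    have := finrank_range_le_card (R := F) ![(1 : K), k]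
    rw [Set.finrank, Submodule.eq_top_iff'.2 hcon, finrank_top, H.deg, Fintype.card_fin] at this
    omega
  by_cases hηj : η j = 0
  swap
  · obtain ⟨e, hes, hej⟩ := H.exists_skew_notMem (W := F ∙ (η j)⁻¹) fun e => by
      have := finrank_span_singleton (K := F) (inv_ne_zero hηj)
      rw [e, finrank_top, H.deg] at this
      omega
    obtain ⟨E, hE, hEx⟩ := O.root_mem hc hes
    refine finish E hE (by rw [hEx, hc, mul_zero, zero_smul, add_zero]) k hk
      ⟨0, by rw [hEx, ← hη, hk0, mul_zero, map_zero]⟩ j _ (by rw [hEx, ← hη]) fun a ha => hej ?_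
    refine Submodule.mem_span_singleton.2 ⟨a, ?_⟩
    rw [Algebra.smul_def, ← ha]
    field_simp
  obtain ⟨c', hc', hc1, hc2⟩ := H.exists_pair hc0 hc
  have hproj : ∀ i : K, η i = 0 → (∀ a : F, i ≠ algebraMap F K a) → H.proj c c' (img g b i) ≠ 0 :=
    fun i hi hia e => by
    rw [UForm.proj, show h (img g b i) c = 0 from hi, zero_smul, sub_zero, sub_eq_zero] at e
    obtain ⟨a, ha⟩ := hone i (by rw [e]; exact Submodule.smul_mem _ _ (Submodule.mem_span_singleton_self c))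
    exact hia a ha
  obtain ⟨a₁, ha₁c, -, hua⟩ := exists_dual_perp H hc hc' hc1 hc2 (hproj k hk0 hk)
  have hua₁ : h (img g b k) a₁ ≠ 0 := by rw [hua]; exact one_ne_zero
  obtain ⟨A, hA⟩ : ∃ A, A = h (img g b k) a₁ := ⟨_, rfl⟩
  rw [← hA] at hua₁
  obtain ⟨β, hβ⟩ : ∃ β, β = h (img g b j) a₁ / A := ⟨_, rfl⟩
  by_cases hβF : ∀ a : F, β ≠ algebraMap F K a
  · obtain ⟨E, hE, hEc, hEx⟩ := O.shift_mem hc ha₁c A⁻¹
    refine finish E hE hEc k hk ⟨1, by rw [hEx _ hk0, ← hA, inv_mul_cancel₀ hua₁, map_one]⟩ j β ?_ hβF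
    rw [hEx _ hηj, hβ, div_eq_mul_inv, mul_comm A⁻¹]
  push Not at hβF
  obtain ⟨β₀, hβ₀⟩ := hβF
  obtain ⟨i, hi⟩ : ∃ i, i = j - β₀ • k := ⟨_, rfl⟩
  have hηi : η i = 0 := by rw [hi, map_sub, map_smul, hηj, hk0, smul_zero, sub_zero]
  have hia : ∀ a : F, i ≠ algebraMap F K a := fun a e => hj (by
    rw [Submodule.mem_span_range_iff_exists_fun]
    refine ⟨![a, β₀], ?_⟩
    rw [Fin.sum_univ_two]
    show a • (1 : K) + β₀ • k = j
    rw [← Algebra.algebraMap_eq_smul_one, ← e, hi, sub_add_cancel])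
  have hia₁ : h (img g b i) a₁ = 0 := by
    rw [hi, map_sub, map_smul, H.sub_left, ← algebraMap_smul K β₀, H.smul_left, ← hA, ← hβ₀, hβ,
      div_mul_cancel₀ _ hua₁, sub_self]
  obtain ⟨a₂, ha₂c, -, hia⟩ := exists_dual_perp H hc hc' hc1 hc2 (hproj i hηi hia)
  have hia₂ : h (img g b i) a₂ ≠ 0 := by rw [hia]; exact one_ne_zero
  obtain ⟨z₀, hz₀⟩ : ∃ z₀ : K, ∀ a : F, z₀ ≠ algebraMap F K a := ⟨k, hk⟩
  obtain ⟨θ, hθ⟩ : ∃ θ, θ = z₀ / h (img g b i) a₂ := ⟨_, rfl⟩
  obtain ⟨E₂, hE₂, hE₂c, hE₂x⟩ := O.shift_mem hc ha₂c θ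
  obtain ⟨E₁, hE₁, hE₁c, hE₁x⟩ := O.shift_mem hc ha₁c (-(θ * h (img g b k) a₂) / A)
  have hca₁ : h c a₁ = 0 := by rw [H.symm, ha₁c, map_zero]
  have hEx : ∀ x, h x c = 0 → ((E₁ * E₂ : GL ι F) : Mn) *ᵥ x =
      x + (θ * h x a₂ + -(θ * h (img g b k) a₂) / A * h x a₁) • c := fun x hx => by
    rw [Units.val_mul, ← Matrix.mulVec_mulVec, hE₂x x hx, hE₁x _ (by rw [H.add_left, H.smul_left, hc, hx]; ring),
      H.add_left, H.smul_left, hca₁, mul_zero, add_zero, add_smul, add_assoc]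
  refine finish (E₁ * E₂) (mul_mem hE₁ hE₂) (by rw [Units.val_mul, ← Matrix.mulVec_mulVec, hE₂c, hE₁c]) k hk
    ⟨0, by rw [hEx _ hk0, ← hA, div_mul_cancel₀ _ hua₁, add_neg_cancel, map_zero]⟩ i z₀ ?_ hz₀
  rw [hEx _ hηi, hia₁, mul_zero, add_zero, hθ, div_mul_cancel₀ _ hia₂]

/-- A line meeting an image in two dimensions gives an unexpected element. -/
theorem two_to_extra {g : GL ι F} (hg : g ∈ M) {b c : V} (hb0 : b ≠ 0) (hb : h b b = 0) (hc : h c c = 0)
    (hgc : (g : Mn) *ᵥ b = c) {k₁ : K} (hk₁ : ∀ a : F, k₁ ≠ algebraMap F K a)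
    (hk₁c : img g b k₁ ∈ (K ∙ c)) {j : K} (hj : img g b j ∉ (K ∙ c)) : Extra h M c := by
  classical
  have H := O.form
  haveI := finiteK (F := F) (K := K)
  have hc0 : c ≠ 0 := fun e => hb0 (gl_mulVec_injective g (by
    show (g : Mn) *ᵥ b = (g : Mn) *ᵥ 0
    rw [hgc, e, Matrix.mulVec_zero]))
  have hG1 : img g b (1 : K) = c := by rw [img_apply, one_smul, hgc]
  obtain ⟨P, hP⟩ : ∃ P : Submodule F K, P = ((K ∙ c).restrictScalars F).comap (img g b) := ⟨_, rfl⟩
  have hPm : ∀ k, k ∈ P ↔ img g b k ∈ (K ∙ c) := fun k => by rw [hP]; rfl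
  have hjP : j ∉ P := fun e => hj ((hPm j).1 e)
  have h1P : (1 : K) ∈ P := (hPm 1).2 (by rw [hG1]; exact Submodule.mem_span_singleton_self c)
  have hP2 : 2 ≤ finrank F P := by
    have hli : LinearIndependent F ![(1 : K), k₁] := by
      rw [LinearIndependent.pair_iff' one_ne_zero]
      intro a e
      exact hk₁ a (by rw [← e, Algebra.algebraMap_eq_smul_one])
    have := Submodule.finrank_mono (Submodule.span_le.2 (show Set.range ![(1 : K), k₁] ⊆ P by
      rintro _ ⟨i, rfl⟩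
      fin_cases i
      · exact h1P
      · exact (hPm k₁).2 hk₁c))
    rwa [finrank_span_eq_card hli, Fintype.card_fin] at this
  obtain ⟨L₀, hL₀, hL₀P⟩ := Submodule.exists_le_ker_of_notMem hjP
  obtain ⟨L, hL⟩ : ∃ L : K →ₗ[F] F, L = (L₀ j)⁻¹ • L₀ := ⟨_, rfl⟩
  have hLj : L j = 1 := by rw [hL, LinearMap.smul_apply, smul_eq_mul, inv_mul_cancel₀ hL₀]
  have hLP : P = LinearMap.ker L := Submodule.eq_of_le_of_finrank_le
    (fun x hx => by rw [LinearMap.mem_ker, hL, LinearMap.smul_apply, LinearMap.mem_ker.1 (hL₀P hx), smul_zero]) (by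
      have h1 := L.finrank_range_add_finrank_ker
      have h2 : 1 ≤ finrank F (LinearMap.range L) :=
        Submodule.one_le_finrank_iff.2 fun e => one_ne_zero (hLj.symm.trans
          ((Submodule.mem_bot F).1 (e ▸ LinearMap.mem_range_self L j)))
      rw [H.deg] at h1
      omega)
  obtain ⟨z, hz⟩ := exists_tr L
  obtain ⟨χ, hχ⟩ : ∃ χ, χ = τ z := ⟨_, rfl⟩
  have hz0 : z ≠ 0 := fun e => one_ne_zero (hLj.symm.trans (by rw [hz, e, mul_zero, map_zero]))
  have hχ0 : χ ≠ 0 := fun e => hz0 (by rw [← H.invol z, ← hχ, e, map_zero])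
  obtain ⟨u, hu⟩ : ∃ u, u = img g b j := ⟨_, rfl⟩
  have hdec : ∀ k, ∃ p, img g b p = img g b k - L k • u ∧ img g b p ∈ (K ∙ c) := fun k =>
    ⟨k - L k • j, by rw [map_sub, map_smul, hu], (hPm _).1 (by
      rw [hLP, LinearMap.mem_ker, map_sub, map_smul, hLj, smul_eq_mul, mul_one, sub_self])⟩
  have huu : f u u = 0 := hu ▸ O.img_orth hg hb j j
  -- the conjugated root elements
  have hY : ∀ e : K, τ e = -e → tr (e * (χ * z)) = 0 → ∃ Y ∈ M, ∃ p : V, p = img g b (e * χ) ∧ p ∈ (K ∙ c) ∧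
      (∀ k : K, (Y : Mn) *ᵥ img g b k - img g b k = 0) ∧
      (∀ x, ∃ q : K, ((Y : Mn) *ᵥ x - x) = img g b q - f x p • u ∧ img g b q ∈ (K ∙ c)) ∧
      (∀ d : V, (∀ q : K, img g b q ∈ (K ∙ c) → f d (img g b q) = 0) →
        (Y : Mn) *ᵥ d - d = f d u • p) := by
    intro e he hek
    obtain ⟨X, hX, hXx⟩ := O.root_mem hb he
    have hYx : ∀ x, ((g * X * g⁻¹ : GL ι F) : Mn) *ᵥ x - x =
        img g b (e * h (((g⁻¹ : GL ι F) : Mn) *ᵥ x) b) := fun x => by
      rw [Units.val_mul, Units.val_mul, ← Matrix.mulVec_mulVec, ← Matrix.mulVec_mulVec, hXx, Matrix.mulVec_add,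
        mulVec_inv_cancel, add_sub_cancel_left, img_apply]
    have hLe : L (e * χ) = 0 := by rw [hz, mul_assoc, hek]
    refine ⟨g * X * g⁻¹, mul_mem (mul_mem hg hX) (inv_mem hg), _, rfl,
      (hPm _).1 (by rw [hLP]; exact LinearMap.mem_ker.2 hLe), fun k => ?_, fun x => ?_, fun d hd => ?_⟩
    · rw [hYx, img_apply g b k, inv_mulVec_cancel, H.smul_left, hb, mul_zero, mul_zero, map_zero]
    · obtain ⟨q, hq, hqc⟩ := hdec (e * h (((g⁻¹ : GL ι F) : Mn) *ᵥ x) b)
      refine ⟨q, ?_, hqc⟩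
      have hl : L (e * h (((g⁻¹ : GL ι F) : Mn) *ᵥ x) b) = -f x (img g b (e * χ)) := by
        conv_rhs => rw [← mulVec_inv_cancel g x, img_apply, O.iso g hg, H.herm.herm, H.form, ← H.tr_tau,
          H.smul_left, map_mul τ, map_mul τ, he, hχ, H.invol, ← H.symm]
        rw [hz, neg_mul, neg_mul, map_neg, neg_neg]
        congr 1
        ring
      rw [hYx, hq, hl]
      module
    · have hH : h (((g⁻¹ : GL ι F) : Mn) *ᵥ d) b = f d u • χ := by
        refine tr_ext (F := F) fun k => ?_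
        obtain ⟨q, hq, hqc⟩ := hdec (τ k)
        have e1 : f d (img g b (τ k)) = σ (L (τ k)) * f d u := by
          rw [show img g b (τ k) = img g b q + L (τ k) • u by rw [hq, sub_add_cancel], H.herm.add_right, hd q hqc,
            zero_add, H.herm.smul_right]
        have e2 : f d (img g b (τ k)) = tr (k * h (((g⁻¹ : GL ι F) : Mn) *ᵥ d) b) := by
          conv_lhs => rw [← mulVec_inv_cancel g d, img_apply, O.iso g hg, H.form, H.smul_right, H.invol]
        rw [← e2, e1, hz, ← H.tr_tau, map_mul τ, H.invol, ← hχ, mul_smul_comm, map_smul, smul_eq_mul, mul_comm]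
      rw [hYx, hH, mul_smul_comm, map_smul]
  -- the two parameters
  let W : Submodule F K := LinearMap.ker ((Algebra.trace F K).comp (LinearMap.mulRight F (χ * z)))
  have hWm : ∀ e, e ∈ W ↔ tr (e * (χ * z)) = 0 := fun e => LinearMap.mem_ker
  have hWs : ∀ k ∈ W, τ k ∈ W := fun k hk => by
    rw [hWm] at hk ⊢
    rw [show τ k * (χ * z) = τ (k * (χ * z)) by rw [map_mul, map_mul, hχ, H.invol, mul_comm z],
      H.tr_tau, hk, map_zero]
  have hW2 : 2 ≤ finrank F W := by
    have h1 := ((Algebra.trace F K).comp (LinearMap.mulRight F (χ * z))).finrank_range_add_finrank_ker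
    have h2 := (Submodule.finrank_le (LinearMap.range
      ((Algebra.trace F K).comp (LinearMap.mulRight F (χ * z))))).trans (Module.finrank_self F).le
    rw [H.deg] at h1
    show 2 ≤ finrank F (LinearMap.ker _)
    omega
  obtain ⟨w₀, hw₀, hw₀0⟩ := Submodule.exists_mem_ne_zero_of_ne_bot (p := W) fun e => by
    rw [e, finrank_bot] at hW2; omega
  obtain ⟨e, heW, hes, he0⟩ := H.exists_skew_between hWs (W' := ⊥) hw₀ (by rwa [Submodule.mem_bot])
  rw [Submodule.mem_bot] at he0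
  obtain ⟨Y, hYM, p, hp, hpc, hYu, hYd, hYs⟩ := hY e hes ((hWm e).1 heW)
  obtain ⟨s, hs⟩ := Submodule.mem_span_singleton.1 hpc
  have hfs : ∀ r x, f x (r • c) = tr (τ r * h x c) := fun r x => by rw [H.form, H.smul_right]
  have hs0 : s ≠ 0 := fun e0 => by
    rw [e0, zero_smul, hp] at hs
    exact mul_ne_zero he0 hχ0 (O.img_inj hb0 (hs.symm.trans (map_zero _).symm))
  have hperp : ∀ d, h d c = 0 → ∀ q : K, img g b q ∈ (K ∙ c) → f d (img g b q) = 0 := fun d hd q hq => by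
    obtain ⟨r, hr⟩ := Submodule.mem_span_singleton.1 hq
    rw [← hr, hfs, hd, mul_zero, map_zero]
  obtain ⟨y, hy⟩ := Algebra.trace_surjective F K 1
  obtain ⟨χ₀, hχ₀⟩ : ∃ χ₀, tr (τ s * χ₀) = 1 :=
    ⟨y / τ s, by rw [mul_div_cancel₀ _ (fun e0 => hs0 (H.tau_eq_zero.1 e0)), hy]⟩
  by_cases huc : h u c = 0
  · -- a shear moves the image along the line
    obtain ⟨c', hc', hc1, hc2⟩ := H.exists_pair hc0 hc
    have hpu : H.proj c c' u ≠ 0 := fun e0 => hj (by
      rw [UForm.proj, huc, zero_smul, sub_zero, sub_eq_zero] at e0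
      rw [← hu, e0]
      exact Submodule.smul_mem _ _ (Submodule.mem_span_singleton_self c))
    obtain ⟨a, hac, -, hua⟩ := exists_dual_perp H hc hc' hc1 hc2 hpu
    obtain ⟨l, hl⟩ : ∃ l : K, l ∉ F ∙ s := by
      by_contra hcon
      push Not at hcon
      have := Submodule.finrank_mono (show (⊤ : Submodule F K) ≤ F ∙ s from fun k _ => hcon k)
      rw [finrank_top, H.deg, finrank_span_singleton hs0] at this
      omega
    obtain ⟨E, hE, hEc, hEx⟩ := O.shift_mem hc hac l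
    obtain ⟨lc, hlc⟩ : ∃ lc, lc = l • c := ⟨_, rfl⟩
    have hEu : (E : Mn) *ᵥ u = u + lc := by rw [hEx u huc, hua, mul_one, hlc]
    have hEq : ∀ q ∈ (K ∙ c), (E : Mn) *ᵥ q = q := fun q hq => by
      obtain ⟨r, rfl⟩ := Submodule.mem_span_singleton.1 hq
      rw [hEx _ (by rw [H.smul_left, hc, mul_zero]), H.smul_left, show h c a = 0 by rw [H.symm, hac, map_zero],
        mul_zero, mul_zero, zero_smul, add_zero]
    have hEi : ∀ x y, f (((E⁻¹ : GL ι F) : Mn) *ᵥ x) y = f x ((E : Mn) *ᵥ y) := fun x y => by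
      rw [← O.iso E hE, mulVec_inv_cancel]
    have hEc' : ∀ x, h (((E⁻¹ : GL ι F) : Mn) *ᵥ x - x) c = 0 := fun x => by
      refine tr_ext (F := F) fun k => ?_
      have h0 := hEi x (τ k • c)
      rw [hEq _ (Submodule.smul_mem _ _ (Submodule.mem_span_singleton_self c)), hfs, hfs, H.invol] at h0
      rw [H.sub_left, mul_sub, map_sub, h0, sub_self, mul_zero, map_zero]
    have hdu : ∀ x, f (((E⁻¹ : GL ι F) : Mn) *ᵥ x - x) u = f x lc := fun x => by
      rw [H.herm.toSesq.sub_left, hEi, hEu, H.herm.add_right, add_sub_cancel_left]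
    have hYx : ∀ x, ((E * Y * E⁻¹ : GL ι F) : Mn) *ᵥ x = (Y : Mn) *ᵥ x + f x lc • p - f x p • lc := fun x => by
      obtain ⟨z, hz'⟩ : ∃ z, z = ((E⁻¹ : GL ι F) : Mn) *ᵥ x := ⟨_, rfl⟩
      obtain ⟨q, hq, hqc⟩ := hYd z
      have e1 := hYs (z - x) (hperp _ (hz' ▸ hEc' x))
      rw [show f (z - x) u = f x lc from hz' ▸ hdu x, Matrix.mulVec_sub] at e1
      have e2 : (Y : Mn) *ᵥ z = z + (img g b q - f z p • u) := by rw [← hq, add_sub_cancel]
      have e3 : f z p = f x p := by rw [hz', hEi, hEq _ hpc]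
      rw [Units.val_mul, Units.val_mul, ← Matrix.mulVec_mulVec, ← Matrix.mulVec_mulVec, ← hz', e2,
        Matrix.mulVec_add, Matrix.mulVec_sub, Matrix.mulVec_smul, hEq _ hqc, hEu, e3, hz', mulVec_inv_cancel]
      rw [e2, e3] at e1
      linear_combination (norm := module) e1
    have hfix : ∀ v ∈ (K ∙ c), (Y : Mn) *ᵥ v = v := fun v hv => by
      obtain ⟨r, rfl⟩ := Submodule.mem_span_singleton.1 hv
      have := hYs (r • c) (hperp _ (by rw [H.smul_left, hc, mul_zero]))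
      rw [H.form, H.smul_left, show h c u = 0 by rw [H.symm, huc, map_zero], mul_zero, map_zero, zero_smul,
        sub_eq_zero] at this
      exact this
    let T : K →ₗ[F] K := ((Algebra.trace F K).comp (LinearMap.mulLeft F (τ l))).smulRight s -
      ((Algebra.trace F K).comp (LinearMap.mulLeft F (τ s))).smulRight l
    have hT : ∀ k, T k = tr (τ l * k) • s - tr (τ s * k) • l := fun k => by simp [T]
    refine ⟨T, ⟨E * Y * E⁻¹ * Y⁻¹, mul_mem (mul_mem (mul_mem hE hYM) (inv_mem hE)) (inv_mem hYM), fun x => ?_⟩,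
      fun ν => ?_⟩
    · have hYi : ∀ v ∈ (K ∙ c), f (((Y⁻¹ : GL ι F) : Mn) *ᵥ x) v = f x v := fun v hv => by
        rw [← O.iso Y hYM, mulVec_inv_cancel, hfix v hv]
      rw [Units.val_mul, ← Matrix.mulVec_mulVec, hYx, mulVec_inv_cancel, hYi _ hpc,
        hYi lc (hlc ▸ Submodule.smul_mem _ _ (Submodule.mem_span_singleton_self c)), hT, hlc, ← hs, hfs, hfs]
      simp only [sub_smul, smul_assoc]
      abel
    · rcases eq_or_ne ν 0 with rfl | hν
      · refine ⟨χ₀, fun e0 => hl (Submodule.mem_span_singleton.2 ⟨tr (τ l * χ₀), ?_⟩)⟩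
        rw [hT, hχ₀, one_smul, zero_mul, sub_eq_zero] at e0
        exact e0
      by_contra hcon
      push Not at hcon
      have hsub : (⊤ : Submodule F K) ≤ Submodule.span F (Set.range ![s, l]) := fun k _ => by
        have : k = T (k / ν) := by rw [hcon, mul_div_cancel₀ _ hν]
        rw [this, hT]
        exact sub_mem (Submodule.smul_mem _ _ (Submodule.subset_span ⟨0, rfl⟩))
          (Submodule.smul_mem _ _ (Submodule.subset_span ⟨1, rfl⟩))
      have h3 := (Submodule.finrank_mono hsub).trans (finrank_range_le_card (R := F) ![s, l])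
      rw [finrank_top, H.deg, Fintype.card_fin] at h3
      omega
  -- the moving vector is the line itself
  obtain ⟨a, ha, hac, hua⟩ : ∃ a, h a a = 0 ∧ h a c = 0 ∧ h u a ≠ 0 := ⟨c, hc, hc, huc⟩
  have hca : h c a = 0 := by rw [H.symm, hac, map_zero]
  have hau : h a u = τ (h u a) := H.symm u a
  obtain ⟨e', he's, he'⟩ := H.exists_skew_tr (z := h u a * h a u)
    (mul_ne_zero hua (hau ▸ fun e => hua (H.tau_eq_zero.1 e)))
  obtain ⟨E, hE, hEx⟩ := O.root_mem ha he's
  have hEq : ∀ q ∈ (K ∙ c), (E : Mn) *ᵥ q = q := fun q hq => by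
    obtain ⟨s, rfl⟩ := Submodule.mem_span_singleton.1 hq
    rw [hEx, H.smul_left, hca, mul_zero, mul_zero, zero_smul, add_zero]
  have hEi : ∀ x y, f (((E⁻¹ : GL ι F) : Mn) *ᵥ x) y = f x ((E : Mn) *ᵥ y) := fun x y => by
    rw [← O.iso E hE, mulVec_inv_cancel]
  obtain ⟨κ, hκ⟩ : ∃ κ, κ = f ((E : Mn) *ᵥ u) u := ⟨_, rfl⟩
  have hκ' : κ = tr (e' * (h u a * h a u)) := by
    rw [hκ, hEx, H.herm.add_left, huu, zero_add, H.form, H.smul_left, mul_assoc]
  have hκ0 : κ ≠ 0 := hκ' ▸ he'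
  have hκs : σ κ = -κ := by
    rw [hκ', ← H.tr_tau, map_mul τ, map_mul τ, he's, hau, H.invol, neg_mul, map_neg, mul_comm (τ (h u a))]
  obtain ⟨e₁, he₁W, he₁s, he₁⟩ : ∃ e₁ ∈ W, τ e₁ = -e₁ ∧ ((2 : F) = 0 → e₁ ∉ F ∙ e) ∧ ((2 : F) ≠ 0 → e₁ = e) := by
    by_cases h2 : (2 : F) = 0
    · obtain ⟨w₁, hw₁, hw₁e⟩ : ∃ w₁ ∈ W, w₁ ∉ F ∙ e := by
        by_contra hcon
        push Not at hcon
        have := Submodule.finrank_mono (show W ≤ F ∙ e from hcon)
        rw [finrank_span_singleton he0] at this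
        omega
      obtain ⟨e₁, h1, h3, h4⟩ := H.exists_skew_between hWs hw₁ hw₁e
      exact ⟨e₁, h1, h3, fun _ => h4, fun h => absurd h2 h⟩
    · exact ⟨e, heW, hes, fun h => absurd h h2, fun _ => rfl⟩
  obtain ⟨Y₁, hY₁M, p₁, hp₁, hp₁c, hY₁u, hY₁d, hY₁s⟩ := hY e₁ he₁s ((hWm e₁).1 he₁W)
  obtain ⟨Y', hY'⟩ : ∃ Y' : GL ι F, Y' = E * Y₁ * E⁻¹ := ⟨_, rfl⟩
  have hY'M : Y' ∈ M := hY' ▸ mul_mem (mul_mem hE hY₁M) (inv_mem hE)
  obtain ⟨N, hN⟩ : ∃ N : Mn, N = (Y : Mn) - 1 := ⟨_, rfl⟩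
  obtain ⟨N', hN'⟩ : ∃ N' : Mn, N' = (Y' : Mn) - 1 := ⟨_, rfl⟩
  have hNx : ∀ x, N *ᵥ x = (Y : Mn) *ᵥ x - x := fun x => by rw [hN, Matrix.sub_mulVec, Matrix.one_mulVec]
  have hN'x : ∀ x, N' *ᵥ x = (E : Mn) *ᵥ
      ((Y₁ : Mn) *ᵥ (((E⁻¹ : GL ι F) : Mn) *ᵥ x) - ((E⁻¹ : GL ι F) : Mn) *ᵥ x) := fun x => by
    rw [hN', Matrix.sub_mulVec, Matrix.one_mulVec, hY', Units.val_mul, Units.val_mul, ← Matrix.mulVec_mulVec,
      ← Matrix.mulVec_mulVec, Matrix.mulVec_sub, mulVec_inv_cancel]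
  have hu' : (E : Mn) *ᵥ u = u + (e' * h u a) • a := hEx u
  have hN'q : ∀ q : K, img g b q ∈ (K ∙ c) → N' *ᵥ img g b q = 0 := fun q hq => by
    have : ((E⁻¹ : GL ι F) : Mn) *ᵥ img g b q = img g b q := by
      conv_lhs => rw [← hEq _ hq, inv_mulVec_cancel]
    rw [hN'x, this, hY₁u, Matrix.mulVec_zero]
  have hua' : ∀ r : K, ∀ q : K, img g b q ∈ (K ∙ c) → f (u + r • a) (img g b q) = 0 := fun r q hq => by
    obtain ⟨r', hr'⟩ := Submodule.mem_span_singleton.1 hq
    rw [H.herm.add_left, hu, O.img_orth hg hb, zero_add, ← hr', H.form, H.smul_left, H.smul_right, hac, mul_zero,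
      mul_zero, map_zero]
  have hNu' : N *ᵥ ((E : Mn) *ᵥ u) = κ • p := by rw [hNx, hκ, hu', hYs _ (hua' _)]
  have hN'u : N' *ᵥ u = -κ • p₁ := by
    have hEu : ((E⁻¹ : GL ι F) : Mn) *ᵥ u = u + (-(e' * h u a)) • a := gl_mulVec_injective E (by
      show (E : Mn) *ᵥ _ = (E : Mn) *ᵥ _
      rw [mulVec_inv_cancel, hEx (u + _), H.add_left, H.smul_left, ha, mul_zero, add_zero]
      module)
    rw [hN'x, hEu, hY₁s _ (hua' _), ← hEu, hEi, H.herm.herm, ← hκ, hκs, Matrix.mulVec_smul, hEq _ hp₁c]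
  have hN'd : ∀ x, ∃ q : K, N' *ᵥ x = img g b q - f x p₁ • ((E : Mn) *ᵥ u) ∧ img g b q ∈ (K ∙ c) := fun x => by
    obtain ⟨q, hq, hqc⟩ := hY₁d (((E⁻¹ : GL ι F) : Mn) *ᵥ x)
    refine ⟨q, ?_, hqc⟩
    rw [hN'x, hq, Matrix.mulVec_sub, Matrix.mulVec_smul, hEq _ hqc, hEi, hEq _ hp₁c]
  have hNN : ∀ x, N *ᵥ (N *ᵥ x) = 0 := fun x => by
    obtain ⟨q, hq, -⟩ := hYd x
    rw [hNx x, hq, hu, ← map_smul, ← map_sub, hNx, hYu]
  have hN'N' : ∀ x, N' *ᵥ (N' *ᵥ x) = 0 := fun x => by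
    rw [hN'x x, hN'x, inv_mulVec_cancel]
    obtain ⟨q, hq, -⟩ := hY₁d (((E⁻¹ : GL ι F) : Mn) *ᵥ x)
    rw [hq, hu, ← map_smul, ← map_sub, hY₁u, Matrix.mulVec_zero]
  have hA : ∀ x, N *ᵥ (N' *ᵥ x) = -(f x p₁ * κ) • p := fun x => by
    obtain ⟨q, hq, -⟩ := hN'd x
    rw [hq, Matrix.mulVec_sub, Matrix.mulVec_smul, hNu', hNx (img g b q), hYu, zero_sub, smul_smul, neg_smul]
  have hB : ∀ x, N' *ᵥ (N *ᵥ x) = (f x p * κ) • p₁ := fun x => by
    obtain ⟨q, hq, hqc⟩ := hYd x
    rw [hNx x, hq, Matrix.mulVec_sub, Matrix.mulVec_smul, hN'u, hN'q q hqc, zero_sub, smul_smul, mul_neg,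
      neg_smul, neg_neg]
  have hNp : N *ᵥ p = 0 := by rw [hp, hNx, hYu]
  have hNp₁ : N *ᵥ p₁ = 0 := by rw [hp₁, hNx, hYu]
  have hN'p : N' *ᵥ p = 0 := by rw [hp]; exact hN'q _ (hp ▸ hpc)
  have hYv : ∀ x, (Y : Mn) *ᵥ x = x + N *ᵥ x := fun x => by rw [hNx, add_sub_cancel]
  have hY'v : ∀ x, (Y' : Mn) *ᵥ x = x + N' *ᵥ x := fun x => by
    rw [hN', Matrix.sub_mulVec, Matrix.one_mulVec, add_sub_cancel]
  have hYi : ∀ x, ((Y⁻¹ : GL ι F) : Mn) *ᵥ x = x - N *ᵥ x := fun x => gl_mulVec_injective Y (by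
    show (Y : Mn) *ᵥ _ = (Y : Mn) *ᵥ _
    rw [mulVec_inv_cancel, hYv, Matrix.mulVec_sub, hNN, sub_zero, sub_add_cancel])
  have hY'i : ∀ x, ((Y'⁻¹ : GL ι F) : Mn) *ᵥ x = x - N' *ᵥ x := fun x => gl_mulVec_injective Y' (by
    show (Y' : Mn) *ᵥ _ = (Y' : Mn) *ᵥ _
    rw [mulVec_inv_cancel, hY'v, Matrix.mulVec_sub, hN'N', sub_zero, sub_add_cancel])
  have hD : ∀ x, ((Y * Y' * Y⁻¹ * Y'⁻¹ : GL ι F) : Mn) *ᵥ x = x + N *ᵥ (N' *ᵥ x) - N' *ᵥ (N *ᵥ x) := fun x => by
    simp only [Units.val_mul, ← Matrix.mulVec_mulVec, hY'i, hYi, hY'v, hYv, Matrix.mulVec_add, Matrix.mulVec_sub,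
      hNN, hN'N', hA, hB, Matrix.mulVec_smul, hNp, hNp₁, hN'p, smul_zero, Matrix.mulVec_zero]
    module
  obtain ⟨s₁, hs₁⟩ := Submodule.mem_span_singleton.1 hp₁c
  let T : K →ₗ[F] K := -κ • (((Algebra.trace F K).comp (LinearMap.mulLeft F (τ s₁))).smulRight s +
    ((Algebra.trace F K).comp (LinearMap.mulLeft F (τ s))).smulRight s₁)
  have hT : ∀ k, T k = -κ • (tr (τ s₁ * k) • s + tr (τ s * k) • s₁) := fun k => by simp [T]
  refine ⟨T, ⟨Y * Y' * Y⁻¹ * Y'⁻¹, mul_mem (mul_mem (mul_mem hYM hY'M) (inv_mem hYM)) (inv_mem hY'M),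
    fun x => ?_⟩, fun ν => ?_⟩
  · rw [hD, hA, hB, ← hs, ← hs₁, hfs, hfs, hT]
    simp only [add_smul, smul_assoc]
    module
  have hTne : T χ₀ ≠ 0 := by
    rw [hT, hχ₀, one_smul]
    intro e0
    rw [smul_eq_zero] at e0
    have e1 := e0.resolve_left (neg_ne_zero.2 hκ0)
    by_cases h2 : (2 : F) = 0
    · obtain ⟨t, ht⟩ : ∃ t : F, t = -tr (τ s₁ * χ₀) := ⟨_, rfl⟩
      refine he₁.1 h2 (Submodule.mem_span_singleton.2 ⟨t, ?_⟩)
      have e2 : s₁ = t • s := by rw [ht, neg_smul]; exact eq_neg_of_add_eq_zero_right e1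
      have e3 : img g b (e₁ * χ) = img g b (t • (e * χ)) := by
        rw [map_smul, ← hp, ← hp₁, ← hs, ← hs₁, e2, smul_assoc]
      have e4 := O.img_inj hb0 e3
      rw [← smul_mul_assoc] at e4
      exact (mul_right_cancel₀ hχ0 e4).symm
    · have e2 : s₁ = s := smul_left_injective K hc0 (by
        show s₁ • c = s • c
        rw [hs, hs₁, hp, hp₁, he₁.2 h2])
      rw [e2, hχ₀, one_smul, ← two_smul F s] at e1
      exact hs0 ((smul_eq_zero.1 e1).resolve_left h2)
  rcases eq_or_ne ν 0 with rfl | hν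
  · exact ⟨χ₀, by rwa [zero_mul]⟩
  by_contra hcon
  push Not at hcon
  have hsub : (⊤ : Submodule F K) ≤ Submodule.span F (Set.range ![s, s₁]) := fun k _ => by
    have : k = T (k / ν) := by rw [hcon, mul_div_cancel₀ _ hν]
    rw [this, hT]
    refine Submodule.smul_mem _ _ (add_mem (Submodule.smul_mem _ _ ?_) (Submodule.smul_mem _ _ ?_))
    · exact Submodule.subset_span ⟨0, rfl⟩
    · exact Submodule.subset_span ⟨1, rfl⟩
  have h3 := (Submodule.finrank_mono hsub).trans (finrank_range_le_card (R := F) ![s, s₁])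
  rw [finrank_top, H.deg, Fintype.card_fin] at h3
  omega

/-- Without unexpected elements lines go to lines. -/
theorem line_mem (hno : ∀ c, c ≠ 0 → h c c = 0 → ¬ Extra h M c) {g : GL ι F} (hg : g ∈ M) {b : V} (hb0 : b ≠ 0)
    (hb : h b b = 0) : h ((g : Mn) *ᵥ b) ((g : Mn) *ᵥ b) = 0 ∧ ∀ k : K, img g b k ∈ (K ∙ (g : Mn) *ᵥ b) := by
  have H := O.form
  have key : ∀ {b}, b ≠ 0 → h b b = 0 → h ((g : Mn) *ᵥ b) ((g : Mn) *ᵥ b) = 0 →
      ∀ k : K, img g b k ∈ (K ∙ (g : Mn) *ᵥ b) := by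
    intro b hb0 hb hc
    have hc0 : (g : Mn) *ᵥ b ≠ 0 := fun e => hb0 (gl_mulVec_injective g (by simpa using e))
    by_contra hcon
    push Not at hcon
    obtain ⟨j, hj⟩ := hcon
    by_cases hone : ∀ k : K, img g b k ∈ (K ∙ (g : Mn) *ᵥ b) → ∃ a : F, k = algebraMap F K a
    · obtain ⟨g', hg', hg'b, ⟨k, hk, hkb⟩, j', hj'⟩ := O.one_to_two hg hb0 hb hc rfl hone
      exact hno b hb0 hb (O.two_to_extra hg' hb0 hb hb hg'b hk hkb hj')
    · push Not at hone
      obtain ⟨k, hkc, hk⟩ := hone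
      exact hno _ hc0 hc (O.two_to_extra hg hb0 hb hc rfl hk hkc hj)
  obtain ⟨k₀, hk₀, hk₀s⟩ := O.exists_sing_img hg hb
  have hb1 : k₀ • b ≠ 0 := smul_ne_zero hk₀ hb0
  have hbb : h (k₀ • b) (k₀ • b) = 0 := by rw [H.smul_left, H.smul_right, hb, mul_zero, mul_zero]
  have hsing : h ((g : Mn) *ᵥ b) ((g : Mn) *ᵥ b) = 0 := by
    obtain ⟨s, hs⟩ := Submodule.mem_span_singleton.1 (key hb1 hbb hk₀s k₀⁻¹)
    rw [img_apply g (k₀ • b), smul_smul, inv_mul_cancel₀ hk₀, one_smul] at hs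
    rw [← hs, H.smul_left, H.smul_right, show h ((g : Mn) *ᵥ (k₀ • b)) ((g : Mn) *ᵥ (k₀ • b)) = 0 from hk₀s,
      mul_zero, mul_zero]
  exact ⟨hsing, key hb0 hb hsing⟩

/-- Without unexpected elements lines go semilinearly. -/
theorem line_hom (hno : ∀ c, c ≠ 0 → h c c = 0 → ¬ Extra h M c) {g : GL ι F} (hg : g ∈ M) {b : V} (hb0 : b ≠ 0)
    (hb : h b b = 0) : ∃ φ : K →ₐ[F] K, ∀ k : K, (g : Mn) *ᵥ (k • b) = φ k • ((g : Mn) *ᵥ b) := by
  classical
  have H := O.form
  obtain ⟨hc, hall⟩ := O.line_mem hno hg hb0 hb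
  obtain ⟨c, hcdef⟩ : ∃ c, c = (g : Mn) *ᵥ b := ⟨_, rfl⟩
  rw [← hcdef] at hc hall ⊢
  have hc0 : c ≠ 0 := fun e => hb0 (gl_mulVec_injective g (by simpa [hcdef] using e))
  choose γ hγ using fun k => Submodule.mem_span_singleton.1 (hall k)
  have hγ1 : γ 1 = 1 := smul_left_injective K hc0 (by
    show γ 1 • c = (1 : K) • c
    rw [hγ, img_apply, one_smul, one_smul, hcdef])
  let γl : K →ₗ[F] K :=
    { toFun := γ
      map_add' := fun x y => smul_left_injective K hc0 (by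
        show γ (x + y) • c = (γ x + γ y) • c
        rw [add_smul, hγ, hγ, hγ, map_add])
      map_smul' := fun a x => smul_left_injective K hc0 (by
        show γ (a • x) • c = (a • γ x) • c
        rw [smul_assoc, hγ, hγ, map_smul]) }
  obtain ⟨b', hb', h1, h2⟩ := H.exists_pair hb0 hb
  let Hm : K → K := fun χ => h ((g : Mn) *ᵥ (χ • b')) c
  have hskew : ∀ e : K, τ e = -e → ∃ ν : K, ∀ χ, γ (e * χ) = ν * Hm χ := fun e he => by
    obtain ⟨X, hX, hXx⟩ := O.root_mem hb he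
    have hY : ∀ x, ((g * X * g⁻¹ : GL ι F) : Mn) *ᵥ x =
        x + γ (e * h (((g⁻¹ : GL ι F) : Mn) *ᵥ x) b) • c := fun x => by
      rw [Units.val_mul, Units.val_mul, ← Matrix.mulVec_mulVec, ← Matrix.mulVec_mulVec, hXx, Matrix.mulVec_add,
        mulVec_inv_cancel, hγ, img_apply]
    -- the conjugate only depends on the product with `c`
    have hdep : ∀ y, h y b = 0 → h ((g : Mn) *ᵥ y) c = 0 := fun y hy => by
      have hfull : ∀ k, f ((g : Mn) *ᵥ y) (γ k • c) = 0 := fun k => by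
        rw [hγ, img_apply, O.iso g hg, H.form, H.smul_right, hy, mul_zero, map_zero]
      have hsur : Function.Surjective γl := LinearMap.surjective_of_injective fun x y e =>
        O.img_inj hb0 (by rw [← hγ, ← hγ]; exact congrArg (· • c) e)
      refine tr_ext (F := F) fun k => ?_
      obtain ⟨k', hk'⟩ := hsur (τ k)
      have := hfull k'
      rw [show γ k' = τ k from hk', H.form, H.smul_right, H.invol] at this
      rw [this, mul_zero, map_zero]
    have hdep' : ∀ y, h ((g : Mn) *ᵥ y) c = Hm (h y b) := fun y => by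
      have h0 := hdep (y - h y b • b') (by rw [H.sub_left, H.smul_left, h1, mul_one, sub_self])
      rw [Matrix.mulVec_sub, H.sub_left, sub_eq_zero] at h0
      exact h0
    have hHadd : ∀ x y, Hm (x + y) = Hm x + Hm y := fun x y => by
      show h _ c = h _ c + h _ c
      rw [add_smul, Matrix.mulVec_add, H.add_left]
    let Hl : K →ₗ[F] K :=
      { toFun := Hm
        map_add' := hHadd
        map_smul' := fun a x => by
          show h _ c = a • h _ c
          rw [smul_assoc, Matrix.mulVec_smul, ← algebraMap_smul K a ((g : Mn) *ᵥ (x • b')), H.smul_left,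
            Algebra.smul_def] }
    have hHsur : Function.Surjective Hl := LinearMap.surjective_of_injective fun x y e => by
      by_contra hxy
      obtain ⟨k, hk⟩ : ∃ k, tr (τ k * (x - y)) ≠ 0 := by
        obtain ⟨s, hs⟩ := tr_ne (F := F) (K := K)
        exact ⟨τ (s / (x - y)), by rw [H.invol, div_mul_cancel₀ _ (sub_ne_zero.2 hxy)]; exact hs⟩
      have e1 := O.iso g hg ((x - y) • b') (k • b)
      rw [← img_apply g b, ← hγ, H.form, H.smul_right, show h ((g : Mn) *ᵥ ((x - y) • b')) c = Hl (x - y) from rfl,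
        map_sub, show Hl x = Hl y from e, sub_self, mul_zero, map_zero, H.form, H.smul_right, H.smul_left, h1,
        mul_one] at e1
      exact hk e1.symm
    let Hi : K ≃ₗ[F] K := LinearEquiv.ofBijective Hl ⟨(LinearMap.injective_iff_surjective).2 hHsur, hHsur⟩
    let T : K →ₗ[F] K := γl.comp ((LinearMap.mulLeft F e).comp Hi.symm.toLinearMap)
    have hT : InB h M c T := ⟨_, mul_mem (mul_mem hg hX) (inv_mem hg), fun x => by
      rw [hY, show h x c = Hi (h (((g⁻¹ : GL ι F) : Mn) *ᵥ x) b) by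
        conv_lhs => rw [← mulVec_inv_cancel g x, hdep']
        rfl]
      simp [T, γl]⟩
    obtain ⟨ν, hν⟩ : ∃ ν, ∀ χ, T χ = ν * χ := by
      by_contra hcon
      push Not at hcon
      exact hno c hc0 hc ⟨T, hT, hcon⟩
    refine ⟨ν, fun χ => ?_⟩
    have := hν (Hi χ)
    rw [show T (Hi χ) = γ (e * χ) by simp [T, γl]] at this
    exact this
  have hH1 : Hm 1 ≠ 0 := by
    obtain ⟨s, hs⟩ := tr_ne (F := F) (K := K)
    intro e
    refine hs ?_
    have e1 := O.iso g hg (b') (τ s • b)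
    have e2 : h ((g : Mn) *ᵥ b') c = 0 := by simpa [Hm] using e
    rw [← img_apply g b, ← hγ, H.form, H.smul_right, e2, mul_zero, map_zero, H.form, H.smul_right, h1, H.invol,
      mul_one] at e1
    exact e1.symm
  have hmulskew : ∀ e : K, τ e = -e → ∀ χ, γ (e * χ) = γ e * (Hm χ / Hm 1) := fun e he χ => by
    obtain ⟨ν, hν⟩ := hskew e he
    have e1 := hν 1
    rw [mul_one] at e1
    rw [hν, e1]
    field_simp
  have hmulall : ∀ k χ, γ (k * χ) = γ k * (Hm χ / Hm 1) := fun k χ => by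
    let D : K →ₗ[F] K := γl.comp (LinearMap.mulRight F χ) - (LinearMap.mulRight F (Hm χ / Hm 1)).comp γl
    have hk : k ∈ LinearMap.ker D := by
      by_contra hk
      obtain ⟨e, he, hne⟩ := H.exists_skew_notMem (W := LinearMap.ker D) fun e => hk (e ▸ Submodule.mem_top)
      exact hne (LinearMap.mem_ker.2 (by simp [D, γl, hmulskew e he]))
    have := LinearMap.mem_ker.1 hk
    simp only [D, γl, LinearMap.sub_apply, LinearMap.comp_apply, LinearMap.mulRight_apply, LinearMap.coe_mk,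
      AddHom.coe_mk, sub_eq_zero] at this
    exact this
  have hHγ : ∀ χ, Hm χ / Hm 1 = γ χ := fun χ => by
    have := hmulall 1 χ
    rw [one_mul, hγ1, one_mul] at this
    exact this.symm
  refine ⟨AlgHom.ofLinearMap γl hγ1 fun x y => ?_, fun k => ?_⟩
  · show γ (x * y) = γ x * γ y
    rw [hmulall, hHγ]
  · show _ = γ k • c
    rw [hγ, img_apply]

/-- Without unexpected elements every element is semilinear. -/
theorem semilinear {b : V} (hb0 : b ≠ 0) (hb : h b b = 0) (hno : ∀ c, c ≠ 0 → h c c = 0 → ¬ Extra h M c)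
    {g : GL ι F} (hg : g ∈ M) : ∃ φ : K →ₐ[F] K, ∀ (k : K) (x : V), (g : Mn) *ᵥ (k • x) = φ k • ((g : Mn) *ᵥ x) := by
  have H := O.form
  have hequ : ∀ {x y : V}, h x x = 0 → h y y = 0 → h y x = 1 → ∀ {φ ψ : K →ₐ[F] K},
      (∀ k, (g : Mn) *ᵥ (k • x) = φ k • ((g : Mn) *ᵥ x)) → (∀ k, (g : Mn) *ᵥ (k • y) = ψ k • ((g : Mn) *ᵥ y)) →
      ∀ k, ψ k = φ k := by
    intro x y hx hy hyx φ ψ hφ hψ
    have key : ∀ k l, tr (φ k * τ (ψ l) * h ((g : Mn) *ᵥ x) ((g : Mn) *ᵥ y)) = tr (k * τ l) := fun k l => by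
      have e := O.iso g hg (k • x) (l • y)
      rw [hφ, hψ, H.form, H.form, H.smul_left, H.smul_right, H.smul_left, H.smul_right, H.symm y x, hyx, map_one,
        mul_one, ← mul_assoc] at e
      exact e
    have hsur : Function.Surjective φ := (Finite.injective_iff_surjective (f := φ)).1 φ.injective
    have hw : h ((g : Mn) *ᵥ x) ((g : Mn) *ᵥ y) = 1 := by
      refine tr_ext (F := F) fun k' => ?_
      obtain ⟨k, rfl⟩ := hsur k'
      have := key k 1
      rw [map_one ψ, map_one τ, mul_one, mul_one] at this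
      rw [this, mul_one, H.tr_alg]
    intro l
    refine τ.injective (tr_ext (F := F) fun k' => ?_)
    obtain ⟨k, rfl⟩ := hsur k'
    have := key k l
    rw [hw, mul_one] at this
    rw [this, H.alg_tau φ, ← map_mul, H.tr_alg]
  obtain ⟨b', hb', h1, h2⟩ := H.exists_pair hb0 hb
  have hb'0 : b' ≠ 0 := fun e => one_ne_zero (by rw [← h1, e, H.zero_left])
  obtain ⟨φ, hφ⟩ := O.line_hom hno hg hb0 hb
  obtain ⟨φ', hφ'⟩ := O.line_hom hno hg hb'0 hb'
  have hφb' : ∀ k, (g : Mn) *ᵥ (k • b') = φ k • ((g : Mn) *ᵥ b') := fun k => by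
    rw [hφ', hequ hb hb' h1 hφ hφ' k]
  refine ⟨φ, ?_⟩
  let W : Submodule K V :=
    { carrier := {x | ∀ k : K, (g : Mn) *ᵥ (k • x) = φ k • ((g : Mn) *ᵥ x)}
      add_mem' := fun {x y} hx hy k => by
        simp only [smul_add, Matrix.mulVec_add, hx k, hy k]
      zero_mem' := fun k => by simp
      smul_mem' := fun l x hx k => by
        rw [smul_smul, hx (k * l), hx l, map_mul, smul_smul] }
  have hst : ∀ {x y : V}, x ≠ 0 → h x x = 0 → h y y = 0 → h x y ≠ 0 →
      (∀ k, (g : Mn) *ᵥ (k • y) = φ k • ((g : Mn) *ᵥ y)) → x ∈ W := by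
    intro x y hx0 hx hy hxy hyφ
    obtain ⟨x', hx'⟩ : ∃ x', x' = (h x y)⁻¹ • x := ⟨_, rfl⟩
    obtain ⟨ψ, hψ⟩ := O.line_hom hno hg (b := x') (hx' ▸ smul_ne_zero (inv_ne_zero hxy) hx0)
      (by rw [hx', H.smul_left, H.smul_right, hx, mul_zero, mul_zero])
    have hxW : x' ∈ W := fun k => by
      rw [hψ, hequ hy (by rw [hx', H.smul_left, H.smul_right, hx, mul_zero, mul_zero])
        (by rw [hx', H.smul_left, inv_mul_cancel₀ hxy]) hyφ hψ k]
    have := W.smul_mem (h x y) hxW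
    rwa [hx', smul_smul, mul_inv_cancel₀ hxy, one_smul] at this
  have hW : W = ⊤ := H.sing_span hb0 hb W fun x hx => by
    rcases eq_or_ne x 0 with rfl | hx0
    · exact W.zero_mem
    by_cases hxb : h x b = 0
    swap
    · exact hst hx0 hx hb hxb hφ
    by_cases hxb' : h x b' = 0
    swap
    · exact hst hx0 hx hb' hxb' hφb'
    have hbx : h b x = 0 := by rw [H.symm, hxb, map_zero]
    have hsum : x + b ∈ W := hst
      (fun e => one_ne_zero (α := K) (by
        have := congrArg (fun t => h t b') e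
        simp only [H.add_left, hxb', h2, zero_add, H.zero_left] at this
        exact this))
      (by rw [H.add_left, H.add_right, H.add_right, hx, hb, hxb, hbx]; ring) hb'
      (by rw [H.add_left, hxb', h2, zero_add]; exact one_ne_zero) hφb'
    have := W.sub_mem hsum (show b ∈ W from hφ)
    rwa [add_sub_cancel_right] at this
  intro k x
  exact (hW ▸ Submodule.mem_top : x ∈ W) k

end Over

end Cfsg.Agent.Classical.UnitField
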