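import Cfsg.Agent.Lib.Classical.MaxUnitFieldLine

/-!
Normalisers of cubic extension fields are maximal in special unitary groups.
-/

set_option autoImplicit false
set_option linter.unusedSectionVars false
set_option linter.style.haveILetI false
set_option quotPrecheck false

namespace Cfsg.Agent.Classical.UnitField

open Matrix Module MaxTv Cfsg.Agent.Classical.Overfield

namespace UForm

variable {F : Type*} [Field F] [Fintype F] {ι : Type} [Fintype ι] [DecidableEq ι]
variable {K : Type*} [Field K] [Fintype K] [Algebra F K] [Module K (ι → F)] [IsScalarTower F K (ι → F)]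
variable {σ : F ≃+* F} {f : (ι → F) → (ι → F) → F} {τ : K ≃+* K} {h : (ι → F) → (ι → F) → K}

/-- A singular vector. -/
theorem exists_singular (H : UForm σ f τ h) (hd : 2 ≤ finrank K (ι → F)) : ∃ b, b ≠ 0 ∧ h b b = 0 := by
  obtain ⟨x, hx0, -⟩ := H.exists_perp (![] : Fin 0 → ι → F) (by omega)
  rcases eq_or_ne (h x x) 0 with hxx | hxx
  · exact ⟨x, hx0, hxx⟩
  obtain ⟨y, hy0, hy⟩ := H.exists_perp ![x] (by simpa using (by omega : 1 < finrank K (ι → F)))
  have hyx : h y x = 0 := hy 0
  have hxy : h x y = 0 := by rw [H.symm, hyx, map_zero]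
  rcases eq_or_ne (h y y) 0 with hyy | hyy
  · exact ⟨y, hy0, hyy⟩
  obtain ⟨c, hc⟩ := H.exists_norm (t := -(h y y / h x x)) (by rw [map_neg, map_div₀, H.self_fix, H.self_fix])
  refine ⟨y + c • x, fun e => hyy ?_, ?_⟩
  · have := congrArg (fun t => h t y) e
    simpa [H.zero_left, H.add_left, H.smul_left, hxy] using this
  · rw [H.add_left, H.add_right, H.add_right, H.smul_left, H.smul_right, H.smul_left, H.smul_right, hxy, hyx]
    field_simp at hc
    linear_combination hc

end UForm

variable {F : Type*} [Field F] [Fintype F]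

set_option maxHeartbeats 1000000 in
/-- Normalisers of cubic fields closed under adjoints are maximal in special unitary groups. -/
theorem unitary_cubic_overfield_maximal {n q : ℕ} (hF : Fintype.card F = q ^ 2) (hn : 9 ≤ n)
    (K : Subalgebra F (Matrix (Fin n) (Fin n) F)) (hK : Geo.IsFieldSubalgebra 3 K)
    (hac : Geo.IsAdjointClosedFor (hermForm n F q) K) :
    Geo.IsMaximalIn (GU n F q ⊓ Geo.specialLinear (Fin n) F)
      (Geo.subalgebraNormalizer K ⊓ (GU n F q ⊓ Geo.specialLinear (Fin n) F)) := by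
  classical
  have hs := herm_hermForm (n := n) hF
  haveI : Nontrivial ↥K := by
    haveI : Module.Finite F ↥K := Module.finite_of_finrank_pos (by rw [hK.finrank_eq]; norm_num)
    exact Module.nontrivial_of_finrank_pos (R := F) (by rw [hK.finrank_eq]; norm_num)
  letI : CommRing ↥K := { (inferInstance : Ring ↥K) with
    mul_comm := fun a b => Subtype.ext (hK.comm _ a.2 _ b.2) }
  have hfield : IsField ↥K :=
    { exists_pair_ne := exists_pair_ne _
      mul_comm := mul_comm
      mul_inv_cancel := fun {a} ha => by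
        obtain ⟨y, hy, hay⟩ := hK.inv _ a.2 fun h => ha (Subtype.ext h)
        exact ⟨⟨y, hy⟩, Subtype.ext hay⟩ }
  letI : Field ↥K := hfield.toField
  have hsm : ∀ (k : ↥K) (x : Fin n → F), k • x = (k : Matrix (Fin n) (Fin n) F) *ᵥ x := fun _ _ => rfl
  haveI : IsScalarTower F ↥K (Fin n → F) := ⟨fun a k x => by
    rw [hsm, hsm, show ((a • k : ↥K) : Matrix (Fin n) (Fin n) F) = a • (k : Matrix (Fin n) (Fin n) F) from rfl,
      Matrix.smul_mulVec]⟩
  haveI : Fintype ↥K := Fintype.ofFinite _
  have hdesc : Describes K ↥K := fun A => ⟨fun hA => ⟨⟨A, hA⟩, fun x => (hsm ⟨A, hA⟩ x).symm⟩, fun ⟨k, hk⟩ => by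
    have : A = (k : Matrix (Fin n) (Fin n) F) := Matrix.ext_iff_mulVec.2 fun x => (hk x).trans (hsm k x)
    rw [this]; exact k.2⟩
  obtain ⟨f, hf⟩ : ∃ f, f = hermForm n F q := ⟨_, rfl⟩
  rw [← hf] at hac hs
  -- the adjoint
  have hadj : ∀ k : ↥K, ∃ k' : ↥K, ∀ x y : Fin n → F, f (k • x) y = f x (k' • y) := fun k => by
    obtain ⟨k', hk', hkk⟩ := hac _ k.2
    exact ⟨⟨k', hk'⟩, fun x y => by rw [hsm, hsm]; exact hkk x y⟩
  choose adj hadj using hadj
  have huniq : ∀ {a b : ↥K}, (∀ x y : Fin n → F, f x (a • y) = f x (b • y)) → a = b := fun {a b} hab => by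
    refine Subtype.ext (Matrix.ext_iff_mulVec.2 fun y => ?_)
    rw [← hsm, ← hsm]
    exact sub_eq_zero.1 (hs.eq_zero _ fun x => by rw [hs.toSesq.sub_right, hab, sub_self])
  have hinv : ∀ k, adj (adj k) = k := fun k => huniq fun x y => by
    rw [← hadj, hs.herm, ← hadj, ← hs.herm]
  let τ : ↥K ≃+* ↥K :=
    { toFun := adj
      invFun := adj
      left_inv := hinv
      right_inv := hinv
      map_mul' := fun a b => huniq fun x y => by
        rw [← hadj, mul_comm (adj a), mul_smul, mul_smul, ← hadj, ← hadj]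
      map_add' := fun a b => huniq fun x y => by
        rw [← hadj, add_smul, add_smul, hs.add_left, hadj, hadj, ← hs.add_right] }
  have hsadj : ∀ (k : ↥K) (x y : Fin n → F), f (k • x) y = f x (τ k • y) := hadj
  let L₀ : (Fin n → F) → (Fin n → F) → (↥K →ₗ[F] F) := fun x y =>
    { toFun := fun k => f (k • x) y
      map_add' := fun a b => by rw [add_smul, hs.add_left]
      map_smul' := fun a k => by rw [smul_assoc, hs.smul_left]; rfl }
  choose h hh using fun x y => exists_tr (F := F) (L₀ x y)
  have H : UForm (qEquiv hF) f τ h :=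
    { herm := hs
      deg := hK.finrank_eq
      invol := hinv
      base := fun a => huniq fun x y => by
        rw [← hsadj, algebraMap_smul, algebraMap_smul, hs.smul_left, hs.smul_right, hs.invol]
      spec := fun k x y => hh x y k
      adj := hsadj }
  haveI : Module.Free ↥K (Fin n → F) := Module.Free.of_divisionRing _ _
  haveI : Module.Finite F ↥K := Module.Finite.of_finite
  have hcard : 3 * finrank ↥K (Fin n → F) = n := by
    rw [← hK.finrank_eq, Module.finrank_mul_finrank, Module.finrank_fin_fun]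
  have hd : 3 ≤ finrank ↥K (Fin n → F) := by omega
  have h2d : 2 ≤ finrank ↥K (Fin n → F) := by omega
  obtain ⟨b, hb0, hb⟩ := H.exists_singular h2d
  have hOv : ∀ M : Subgroup (GL (Fin n) F),
      Geo.subalgebraNormalizer K ⊓ (GU n F q ⊓ Geo.specialLinear (Fin n) F) ≤ M →
      M ≤ GU n F q ⊓ Geo.specialLinear (Fin n) F → Over (qEquiv hF) f τ h M := fun M hle hMs =>
    { form := H
      dim := hd
      iso := fun g hg => hf ▸ mem_GU.1 (hMs hg).1
      mem := fun L hL hdet => by
        obtain ⟨g, hg, hgd, hgx⟩ := exists_of_linear hdesc h2d L (by rw [hdet, map_one]; exact one_ne_zero)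
        refine ⟨g, hle ⟨hg, mem_GU.2 fun x y => ?_, MonoidHom.mem_ker.2 (Units.ext ?_)⟩, hgx⟩
        · rw [← hf, hgx, hgx, H.form, hL, ← H.form]
        · rw [Matrix.GeneralLinearGroup.val_det_apply, hgd, hdet, map_one]
          rfl }
  refine MaxTv.isMaximalIn_intro inf_le_right (fun hle => ?_) fun M hHM hMK g hgM hgH => ?_
  · obtain ⟨b', hb', h1, h2⟩ := H.exists_pair hb0 hb
    obtain ⟨c, hc0, hc⟩ := H.exists_skewF
    obtain ⟨t, ht, htx⟩ := exists_gu_tv hF (v := b) (hf ▸ H.iso_of_zero hb) hc
    rw [← hf] at htx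
    have htk : ∀ k : ↥K, (t : Matrix (Fin n) (Fin n) F) *ᵥ (k • b') =
        k • b' + algebraMap F ↥K (c * Algebra.trace F ↥K k) • b := fun k => by
      rw [htx, H.form, H.smul_left, h1, mul_one, algebraMap_smul]
    have key : ∀ k : ↥K, algebraMap F ↥K (c * Algebra.trace F ↥K k) =
        k * algebraMap F ↥K (c * Algebra.trace F ↥K 1) := fun k => by
      obtain ⟨s, hs'⟩ := Submodule.mem_span_singleton.1 (normalizer_preserves_lines hdesc (hle ht).1 k b')
      have htb := htk 1
      rw [one_smul] at htb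
      rw [htk, htb] at hs'
      have e1 := congrArg (fun v => h v b) hs'
      have e2 := congrArg (fun v => h v b') hs'
      simp only [H.add_left, H.smul_left, h1, h2, hb, hb', mul_one, mul_zero, add_zero, zero_add] at e1 e2
      rw [e1] at e2
      exact e2.symm
    obtain ⟨y, hy⟩ := Algebra.trace_surjective F ↥K 1
    rcases eq_or_ne (Algebra.trace F ↥K 1) 0 with h3 | h3
    · have := key y
      rw [hy, h3, mul_one, mul_zero, map_zero, mul_zero, map_eq_zero] at this
      exact hc0 this
    · obtain ⟨k, hk, hk0⟩ := Submodule.exists_mem_ne_zero_of_ne_bot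
        (p := LinearMap.ker (Algebra.trace F ↥K)) fun e => by
          have := H.finrank_ker_trace
          rw [e, finrank_bot] at this
          omega
      have := key k
      rw [LinearMap.mem_ker.1 hk, mul_zero, map_zero, eq_comm, mul_eq_zero, map_eq_zero, mul_eq_zero] at this
      rcases this with e | e | e
      · exact hk0 e
      · exact hc0 e
      · exact h3 e
  · have O := hOv M hHM hMK
    by_cases hex : ∃ b₀, b₀ ≠ 0 ∧ h b₀ b₀ = 0 ∧ Extra h M b₀
    · obtain ⟨b₀, hb₀0, hb₀, hE⟩ := hex
      exact guSL_le hF (by omega) fun v hv => hf ▸ O.upt_all hb₀0 hb₀ hE (hf ▸ hv)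
    push Not at hex
    obtain ⟨φ, hφ⟩ := O.semilinear hb0 hb hex hgM
    exact absurd ⟨mem_normalizer_of_lines hdesc h2d fun k a => by
      rw [hφ]; exact Submodule.smul_mem _ _ (Submodule.mem_span_singleton_self _), hMK hgM⟩ hgH

end Cfsg.Agent.Classical.UnitField
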