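import Cfsg.Agent.Lib.Classical.MaxUnitFieldBase

/-!
Overgroups of unitary groups over a cubic extension: root maps, tori, and one unexpected element at a singular
line gives every transvection.
-/

set_option autoImplicit false
set_option linter.unusedSectionVars false
set_option linter.style.haveILetI false
set_option quotPrecheck false

namespace Cfsg.Agent.Classical.UnitField

open Matrix Module MaxTv

variable {F : Type*} [Field F] [Fintype F] {ι : Type} [Fintype ι] [DecidableEq ι]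
variable {K : Type*} [Field K] [Fintype K] [Algebra F K] [Module K (ι → F)] [IsScalarTower F K (ι → F)]

local notation "V" => (ι → F)
local notation "Mn" => Matrix ι ι F
local notation "tr" => Algebra.trace F K

/-- An overgroup of the special unitary group over the extension. -/
structure Over (σ : F ≃+* F) (f : (ι → F) → (ι → F) → F) (τ : K ≃+* K) (h : (ι → F) → (ι → F) → K)
    (M : Subgroup (GL ι F)) : Prop where
  form : UForm σ f τ h
  dim : 3 ≤ finrank K (ι → F)
  iso : ∀ g ∈ M, ∀ x y, f ((g : Matrix ι ι F) *ᵥ x) ((g : Matrix ι ι F) *ᵥ y) = f x y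
  mem : ∀ L : (ι → F) →ₗ[K] (ι → F), (∀ x y, h (L x) (L y) = h x y) → LinearMap.det L = 1 →
    ∃ g ∈ M, ∀ x, (g : Matrix ι ι F) *ᵥ x = L x

/-- Some element of `M` is `x ↦ x + T (h x b) • b`. -/
def InB (h : (ι → F) → (ι → F) → K) (M : Subgroup (GL ι F)) (b : ι → F) (T : K →ₗ[F] K) : Prop :=
  ∃ t ∈ M, ∀ x, (t : Matrix ι ι F) *ᵥ x = x + T (h x b) • b

/-- More than the root elements over the extension. -/
def Extra (h : (ι → F) → (ι → F) → K) (M : Subgroup (GL ι F)) (b : ι → F) : Prop :=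
  ∃ T : K →ₗ[F] K, InB h M b T ∧ ∀ ν : K, ∃ χ, T χ ≠ ν * χ

/-- Frobenius coefficients of the elements at a line. -/
def Coef (h : (ι → F) → (ι → F) → K) (M : Subgroup (GL ι F)) (b : ι → F) (τ : K ≃+* K) (φ : K →ₐ[F] K) (c : K) :
    Prop :=
  ∃ T : K →ₗ[F] K, InB h M b T ∧ ∀ χ, T χ = c * φ χ - φ (φ (τ c)) * φ (φ χ)

namespace Over

variable {σ : F ≃+* F} {f : (ι → F) → (ι → F) → F} {τ : K ≃+* K} {h : (ι → F) → (ι → F) → K}
  {M : Subgroup (GL ι F)} (O : Over σ f τ h M)
include O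

theorem det_transvection (θ : V →ₗ[K] K) (v : V) : LinearMap.det (LinearMap.transvection θ v) = 1 + θ v := by
  haveI := O.form.finiteV
  exact LinearMap.transvection.det θ v

/-- A root element. -/
theorem root_mem {a : V} (ha : h a a = 0) {e : K} (he : τ e = -e) :
    ∃ t ∈ M, ∀ x, (t : Mn) *ᵥ x = x + (e * h x a) • a := by
  have H := O.form
  obtain ⟨g, hg, hgx⟩ := O.mem (LinearMap.transvection (e • H.hlin a) a) (fun x y => by
    simp only [LinearMap.transvection.apply, LinearMap.smul_apply, UForm.hlin_apply, smul_eq_mul, H.add_left,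
      H.add_right, H.smul_left, H.smul_right, ha, map_mul, he, H.symm y a, H.invol]
    ring) (by rw [O.det_transvection, LinearMap.smul_apply, UForm.hlin_apply, ha, smul_zero, add_zero])
  exact ⟨g, hg, fun x => by rw [hgx, LinearMap.transvection.apply]; rfl⟩

/-- A torus element. -/
theorem torus_mem {b : V} (hb0 : b ≠ 0) (hb : h b b = 0) {μ : K} (hμ : μ ≠ 0) :
    ∃ t ∈ M, (t : Mn) *ᵥ b = μ • b ∧ ∀ k : K, ∀ x, (t : Mn) *ᵥ (k • x) = k • ((t : Mn) *ᵥ x) ∧
      h ((t : Mn) *ᵥ x) (μ • b) = h x b := by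
  have H := O.form
  obtain ⟨b', hb', h1, h2⟩ := H.exists_pair hb0 hb
  obtain ⟨w, hwb, hwb', hww⟩ := H.exists_aniso_perp hb hb' h1 h2 (by have := O.dim; omega)
  have hτμ : τ μ ≠ 0 := fun e => hμ (H.tau_eq_zero.1 e)
  have hbw : h b w = 0 := by rw [H.symm, hwb, map_zero]
  have hb'w : h b' w = 0 := by rw [H.symm, hwb', map_zero]
  obtain ⟨L₁, hL₁⟩ : ∃ L, L = LinearMap.transvection ((μ - 1) • H.hlin b') b := ⟨_, rfl⟩
  obtain ⟨L₂, hL₂⟩ : ∃ L, L = LinearMap.transvection (((τ μ)⁻¹ - 1) • H.hlin b) b' := ⟨_, rfl⟩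
  obtain ⟨L₃, hL₃⟩ : ∃ L, L = LinearMap.transvection (((τ μ / μ - 1) / h w w) • H.hlin w) w := ⟨_, rfl⟩
  have hdet : LinearMap.det (L₁.comp (L₂.comp L₃)) = 1 := by
    rw [LinearMap.det_comp, LinearMap.det_comp, hL₁, hL₂, hL₃, O.det_transvection, O.det_transvection,
      O.det_transvection]
    simp only [LinearMap.smul_apply, UForm.hlin_apply, smul_eq_mul, h1, h2, mul_one]
    field_simp
    ring
  have hL : ∀ x, L₁.comp (L₂.comp L₃) x = x + ((μ - 1) * h x b') • b + (((τ μ)⁻¹ - 1) * h x b) • b' +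
      ((τ μ / μ - 1) / h w w * h x w) • w := fun x => by
    simp only [hL₁, hL₂, hL₃, LinearMap.comp_apply, LinearMap.transvection.apply, LinearMap.smul_apply,
      UForm.hlin_apply, smul_eq_mul, H.add_left, H.smul_left, hwb, hwb', hb', mul_zero, add_zero]
    module
  obtain ⟨g, hg, hgx⟩ := O.mem _ (fun x y => by
    rw [hL, hL]
    simp only [H.add_left, H.add_right, H.smul_left, H.smul_right, hb, hb', h1, h2, hwb, hwb', hbw, hb'w,
      mul_zero, add_zero, zero_add, mul_one, map_mul, map_sub, map_div₀, map_inv₀, map_one, H.invol,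
      H.symm y b, H.symm y b', H.symm y w, H.self_fix]
    field_simp
    ring) hdet
  have hgb : (g : Mn) *ᵥ b = μ • b := by
    rw [hgx, hL, h2, hb, hbw, mul_zero, mul_zero, zero_smul, zero_smul, add_zero, add_zero, mul_one, sub_smul,
      one_smul, add_sub_cancel]
  refine ⟨g, hg, hgb, fun k x => ⟨by rw [hgx, hgx, map_smul], ?_⟩⟩
  rw [hgx, hL]
  simp only [H.add_left, H.smul_left, H.smul_right, hb, h1, hwb, mul_zero, add_zero, mul_one]
  field_simp
  ring

theorem inB_zero (b : V) : InB h M b 0 := ⟨1, one_mem M, fun x => by simp⟩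

theorem inB_add {b : V} (hb : h b b = 0) {T T' : K →ₗ[F] K} (hT : InB h M b T) (hT' : InB h M b T') :
    InB h M b (T + T') := by
  obtain ⟨t, ht, htx⟩ := hT
  obtain ⟨t', ht', htx'⟩ := hT'
  refine ⟨t * t', mul_mem ht ht', fun x => ?_⟩
  rw [Units.val_mul, ← Matrix.mulVec_mulVec, htx', htx, O.form.add_left, O.form.smul_left, hb, mul_zero, add_zero,
    LinearMap.add_apply, add_smul]
  abel

theorem inB_neg {b : V} (hb : h b b = 0) {T : K →ₗ[F] K} (hT : InB h M b T) : InB h M b (-T) := by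
  obtain ⟨t, ht, htx⟩ := hT
  refine ⟨t⁻¹, inv_mem ht, fun x => gl_mulVec_injective t ?_⟩
  show (t : Mn) *ᵥ _ = (t : Mn) *ᵥ _
  rw [mulVec_inv_cancel, htx, O.form.add_left, O.form.smul_left, hb, mul_zero, add_zero, LinearMap.neg_apply,
    neg_smul]
  abel

theorem inB_root {b : V} (hb : h b b = 0) {e : K} (he : τ e = -e) : InB h M b (LinearMap.mulLeft F e) := by
  obtain ⟨t, ht, htx⟩ := O.root_mem hb he
  exact ⟨t, ht, htx⟩

theorem inB_torus {b : V} (hb0 : b ≠ 0) (hb : h b b = 0) {μ : K} (hμ : μ ≠ 0) {T : K →ₗ[F] K}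
    (hT : InB h M b T) :
    InB h M b ((LinearMap.mulLeft F μ).comp (T.comp (LinearMap.mulLeft F (τ μ)))) := by
  have H := O.form
  obtain ⟨t, ht, htb, htx⟩ := O.torus_mem hb0 hb hμ
  obtain ⟨u, hu, hux⟩ := hT
  refine ⟨t * u * t⁻¹, mul_mem (mul_mem ht hu) (inv_mem ht), fun x => ?_⟩
  obtain ⟨y, rfl⟩ : ∃ y, (t : Mn) *ᵥ y = x := ⟨_, mulVec_inv_cancel t x⟩
  rw [Units.val_mul, Units.val_mul, ← Matrix.mulVec_mulVec, ← Matrix.mulVec_mulVec, inv_mulVec_cancel, hux,
    Matrix.mulVec_add, (htx (T (h y b)) b).1, htb]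
  have hy : τ μ * h ((t : Mn) *ᵥ y) b = h y b := by rw [← (htx 1 y).2, H.smul_right]
  simp only [LinearMap.comp_apply, LinearMap.mulLeft_apply, hy, smul_smul, mul_comm μ]

theorem extra_smul {b : V} {s : K} (hs : s ≠ 0) (hE : Extra h M b) : Extra h M (s • b) := by
  have H := O.form
  obtain ⟨T, ⟨t, ht, htx⟩, hT⟩ := hE
  have hτs : τ s ≠ 0 := fun e => hs (H.tau_eq_zero.1 e)
  refine ⟨(LinearMap.mulLeft F s⁻¹).comp (T.comp (LinearMap.mulLeft F (τ s)⁻¹)), ⟨t, ht, fun x => ?_⟩, fun ν => ?_⟩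
  · rw [htx, H.smul_right]
    simp only [LinearMap.comp_apply, LinearMap.mulLeft_apply, inv_mul_cancel_left₀ hτs, smul_smul]
    congr 2
    field_simp
  · obtain ⟨χ, hχ⟩ := hT (s * ν * τ s)
    refine ⟨τ s * χ, fun e => hχ ?_⟩
    simp only [LinearMap.comp_apply, LinearMap.mulLeft_apply, inv_mul_cancel_left₀ hτs] at e
    field_simp at e
    linear_combination e

/-- The isometry condition on the coefficients. -/
theorem skew {b : V} (hb0 : b ≠ 0) (hb : h b b = 0) {T : K →ₗ[F] K} (hT : InB h M b T) (χ η : K) :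
    tr (T χ * τ η) + tr (χ * τ (T η)) = 0 := by
  have H := O.form
  obtain ⟨t, ht, htx⟩ := hT
  obtain ⟨b', hb', h1, h2⟩ := H.exists_pair hb0 hb
  have := O.iso t ht (χ • b') (η • b')
  rw [htx, htx, H.form, H.form] at this
  simp only [H.add_left, H.add_right, H.smul_left, H.smul_right, h1, h2, hb, hb', mul_one, mul_zero,
    zero_add, map_add, map_zero, add_zero] at this
  linear_combination this

theorem coef_of {b : V} (hb0 : b ≠ 0) (hb : h b b = 0) {T : K →ₗ[F] K} (hT : InB h M b T)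
    (hne : ∀ ν : K, ∃ χ, T χ ≠ ν * χ) : ∃ c, c ≠ 0 ∧ Coef h M b τ O.form.φ c := by
  have H := O.form
  obtain ⟨c₀, c₁, c₂, hc⟩ := H.exists_coeff T
  have hskew : ∀ χ, T χ + (τ c₀ * χ + H.φ (τ c₂) * H.φ χ + H.φ (H.φ (τ c₁)) * H.φ (H.φ χ)) = 0 := fun χ => by
    refine tr_ext (F := F) fun k => ?_
    have h1 := O.skew hb0 hb hT χ (τ k)
    rw [H.invol, mul_comm (T χ)] at h1
    rw [mul_zero, map_zero, mul_add, map_add]
    have e : tr (χ * τ (T (τ k))) =
        tr (k * (τ c₀ * χ + H.φ (τ c₂) * H.φ χ + H.φ (H.φ (τ c₁)) * H.φ (H.φ χ))) := by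
      rw [hc, map_add τ, map_add τ, map_mul τ, map_mul τ, map_mul τ, H.φ_tau, H.φ_tau, H.φ_tau, H.invol, mul_add, mul_add,
        map_add, map_add, mul_add, mul_add, map_add, map_add]
      have e1 : tr (χ * (τ c₁ * H.φ k)) = tr (k * (H.φ (H.φ (τ c₁)) * H.φ (H.φ χ))) := by
        rw [← H.tr_alg H.φ (χ * (τ c₁ * H.φ k)), ← H.tr_alg H.φ (H.φ (χ * (τ c₁ * H.φ k))), map_mul H.φ,
          map_mul H.φ, map_mul H.φ, map_mul H.φ, H.φ_three]
        congr 1
        ring
      have e2 : tr (χ * (τ c₂ * H.φ (H.φ k))) = tr (k * (H.φ (τ c₂) * H.φ χ)) := by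
        rw [← H.tr_alg H.φ (χ * (τ c₂ * H.φ (H.φ k))), map_mul H.φ, map_mul H.φ, H.φ_three]
        congr 1
        ring
      rw [e1, e2, show χ * (τ c₀ * k) = k * (τ c₀ * χ) by ring]
      abel
    rw [← e]
    exact h1
  obtain ⟨-, -, huniq⟩ : True ∧ True ∧ ∀ a₀ a₁ a₂ : K, (∀ χ, a₀ * χ + a₁ * H.φ χ + a₂ * H.φ (H.φ χ) = 0) →
      a₀ = 0 ∧ a₁ = 0 ∧ a₂ = 0 := by
    refine ⟨trivial, trivial, fun a₀ a₁ a₂ ha => ?_⟩
    have hinj : Function.Injective fun i : Fin 3 => ((FiniteField.frobeniusAlgHom F K ^ (i : ℕ)).toRingHom : K →* K) :=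
      fun i j e => Fin.ext (by
        have := (FiniteField.bijective_frobeniusAlgHom_pow F K).1 (a₁ := ⟨i, by rw [H.deg]; exact i.2⟩)
          (a₂ := ⟨j, by rw [H.deg]; exact j.2⟩) (AlgHom.ext fun x => DFunLike.congr_fun e x)
        simpa using this)
    have h0 := Fintype.linearIndependent_iff.1 ((linearIndependent_monoidHom K K).comp _ hinj) ![a₀, a₁, a₂]
      (funext fun χ => by simpa [Fin.sum_univ_three, UForm.φ, pow_two, ← pow_mul] using ha χ)
    exact ⟨h0 0, h0 1, h0 2⟩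
  obtain ⟨e0, -, e2⟩ := huniq (c₀ + τ c₀) (c₁ + H.φ (τ c₂)) (c₂ + H.φ (H.φ (τ c₁))) fun χ => by
    have := hskew χ
    rw [hc] at this
    linear_combination this
  refine ⟨c₁, fun h1 => ?_, T + -LinearMap.mulLeft F c₀, O.inB_add hb hT
    (O.inB_neg hb (O.inB_root hb (eq_neg_of_add_eq_zero_right e0))), fun χ => ?_⟩
  · obtain ⟨χ, hχ⟩ := hne c₀
    have h2 : c₂ = 0 := by simpa [h1] using e2
    exact hχ (by rw [hc, h1, h2]; ring)
  · rw [LinearMap.add_apply, LinearMap.neg_apply, LinearMap.mulLeft_apply, hc]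
    linear_combination H.φ (H.φ χ) * e2

theorem coef_zero (b : V) : Coef h M b τ O.form.φ 0 := ⟨0, O.inB_zero b, fun χ => by simp⟩

theorem coef_add {b : V} (hb : h b b = 0) {c c' : K} (hc : Coef h M b τ O.form.φ c)
    (hc' : Coef h M b τ O.form.φ c') : Coef h M b τ O.form.φ (c + c') := by
  obtain ⟨T, hT, hTx⟩ := hc
  obtain ⟨T', hT', hTx'⟩ := hc'
  refine ⟨T + T', O.inB_add hb hT hT', fun χ => ?_⟩
  rw [LinearMap.add_apply, hTx, hTx', map_add, map_add, map_add]
  ring

theorem coef_neg {b : V} (hb : h b b = 0) {c : K} (hc : Coef h M b τ O.form.φ c) :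
    Coef h M b τ O.form.φ (-c) := by
  obtain ⟨T, hT, hTx⟩ := hc
  refine ⟨-T, O.inB_neg hb hT, fun χ => ?_⟩
  rw [LinearMap.neg_apply, hTx, map_neg, map_neg, map_neg]
  ring

theorem coef_torus {b : V} (hb0 : b ≠ 0) (hb : h b b = 0) {μ : K} (hμ : μ ≠ 0) {c : K}
    (hc : Coef h M b τ O.form.φ c) : Coef h M b τ O.form.φ (μ * O.form.φ (τ μ) * c) := by
  have H := O.form
  obtain ⟨T, hT, hTx⟩ := hc
  refine ⟨_, O.inB_torus hb0 hb hμ hT, fun χ => ?_⟩
  simp only [LinearMap.comp_apply, LinearMap.mulLeft_apply, hTx, map_mul, H.φ_tau, H.invol, H.φ_three]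
  ring

/-- The torus moves a coefficient everywhere. -/
theorem coef_all {b : V} (hb0 : b ≠ 0) (hb : h b b = 0) {c : K} (hc0 : c ≠ 0) (hc : Coef h M b τ O.form.φ c)
    (d : K) : Coef h M b τ O.form.φ d := by
  classical
  have H := O.form
  obtain ⟨W, hW⟩ : ∃ W : Set K, W = {w | ∃ μ : K, μ ≠ 0 ∧ w = μ * H.φ (τ μ)} := ⟨_, rfl⟩
  let A : AddSubgroup K := AddSubgroup.closure W
  have hmul : ∀ a ∈ A, ∀ w ∈ W, a * w ∈ A := fun a ha w hw => by
    induction ha using AddSubgroup.closure_induction with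
    | mem x hx =>
      rw [hW] at hx hw
      obtain ⟨μ, hμ, rfl⟩ := hx
      obtain ⟨ν, hν, rfl⟩ := hw
      refine AddSubgroup.subset_closure ?_
      rw [hW]
      exact ⟨μ * ν, mul_ne_zero hμ hν, by rw [map_mul, map_mul]; ring⟩
    | zero => rw [zero_mul]; exact A.zero_mem
    | add x y _ _ hx hy => rw [add_mul]; exact A.add_mem hx hy
    | neg x _ hx => rw [neg_mul]; exact A.neg_mem hx
  have hmulA : ∀ a ∈ A, ∀ a' ∈ A, a * a' ∈ A := fun a ha a' ha' => by
    induction ha' using AddSubgroup.closure_induction with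
    | mem x hx => exact hmul a ha x hx
    | zero => rw [mul_zero]; exact A.zero_mem
    | add x y _ _ hx hy => rw [mul_add]; exact A.add_mem hx hy
    | neg x _ hx => rw [mul_neg]; exact A.neg_mem hx
  have hone : (1 : K) ∈ A := AddSubgroup.subset_closure (by rw [hW]; exact ⟨1, one_ne_zero, by simp⟩)
  let R : Subring K :=
    { A with
      one_mem' := hone
      mul_mem' := fun {x y} hx hy => hmulA x hx y hy }
  have hR : IsField R := Finite.isField_of_domain R
  letI : Field R := hR.toField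
  -- the image of the torus is large
  have hker : ∀ μ : K, μ ≠ 0 → μ * H.φ (τ μ) = 1 → ∃ a : F, algebraMap F K a = μ := fun μ hμ e => by
    have e' := congrArg (fun x => H.φ (τ x)) e
    simp only [map_mul, H.φ_tau, H.invol, map_one] at e'
    have hne : H.φ (τ μ) ≠ 0 := fun e0 => by rw [e0, mul_zero] at e; exact zero_ne_one e
    have e2 : H.φ (H.φ μ) = μ := mul_left_cancel₀ hne (by linear_combination e' - e)
    have e3 : H.φ μ = μ := by rw [← e2, H.φ_three, e2]
    obtain ⟨y, hy⟩ := Algebra.trace_surjective F K 1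
    refine ⟨tr (μ * y), ?_⟩
    rw [H.tr_eq, map_mul, map_mul, e3, e3, ← mul_add, ← mul_add, ← H.tr_eq, hy, map_one, mul_one]
  let Ψ : Kˣ →* Kˣ :=
    MonoidHom.mk' (fun μ => μ * Units.map (H.φ.toRingHom.comp τ.toRingHom).toMonoidHom μ)
      (fun a b => by rw [map_mul, mul_mul_mul_comm])
  have hΨ : ∀ μ : Kˣ, ((Ψ μ : Kˣ) : K) = (μ : K) * H.φ (τ (μ : K)) := fun μ => rfl
  have hkc : Nat.card Ψ.ker ≤ Nat.card Fˣ := by
    refine Nat.card_le_card_of_surjective (fun a : Fˣ => if e : Units.map (algebraMap F K).toMonoidHom a ∈ Ψ.ker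
      then ⟨_, e⟩ else 1) fun μ => ?_
    obtain ⟨a, ha⟩ := hker (μ : Kˣ) (Units.ne_zero _) (by
      rw [← hΨ, MonoidHom.mem_ker.1 μ.2, Units.val_one])
    have ha0 : a ≠ 0 := fun e => (μ : Kˣ).ne_zero (by rw [← ha, e, map_zero])
    have e : Units.map (algebraMap F K).toMonoidHom (Units.mk0 a ha0) = (μ : Kˣ) := Units.ext ha
    refine ⟨Units.mk0 a ha0, ?_⟩
    dsimp only
    rw [dif_pos (by rw [e]; exact μ.2)]
    exact Subtype.ext e
  have hrange : Nat.card Ψ.range < Nat.card R := by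
    let ι' : Option Ψ.range → R := fun o => o.elim 0 fun x => ⟨((x : Kˣ) : K), AddSubgroup.subset_closure (by
      obtain ⟨μ, hμ⟩ := x.2
      rw [hW]
      exact ⟨μ, μ.ne_zero, by rw [← hΨ, hμ]⟩)⟩
    have hi : Function.Injective ι' := fun x y e => by
      rcases x with _ | x <;> rcases y with _ | y
      · rfl
      · exact absurd (congrArg Subtype.val e).symm (y : Kˣ).ne_zero
      · exact absurd (congrArg Subtype.val e) (x : Kˣ).ne_zero
      · exact congrArg some (Subtype.ext (Units.ext (congrArg Subtype.val e)))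
    have := Nat.card_le_card_of_injective ι' hi
    rw [Finite.card_option] at this
    omega
  have hall : ∀ x : K, x ∈ A := by
    by_contra hne
    push Not at hne
    obtain ⟨x₀, hx₀⟩ := hne
    letI : Algebra R K := R.subtype.toAlgebra
    have hpow : Nat.card K = Nat.card R ^ finrank R K := Module.natCard_eq_pow_finrank
    have hd1 : 2 ≤ finrank R K := by
      have hpos : 0 < finrank R K := Module.finrank_pos
      by_contra h2
      rw [show finrank R K = 1 by omega, pow_one] at hpow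
      have hb : Function.Bijective (fun x : R => (x : K)) :=
        (Nat.bijective_iff_injective_and_card _).2 ⟨Subtype.val_injective, hpow.symm⟩
      obtain ⟨y, hy⟩ := hb.2 x₀
      exact hx₀ (hy ▸ y.2)
    have hle : Nat.card R ^ 2 ≤ Nat.card K := by
      rw [hpow]; exact Nat.pow_le_pow_right (Nat.card_pos) hd1
    have hsplit := Ψ.ker.card_eq_card_quotient_mul_card_subgroup
    rw [Nat.card_congr (QuotientGroup.quotientKerEquivRange Ψ).toEquiv, Nat.card_units,
      Nat.card_eq_fintype_card (α := K), H.card_K] at hsplit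
    rw [Nat.card_units] at hkc
    rw [Nat.card_eq_fintype_card (α := K), H.card_K] at hle
    obtain ⟨m, hm⟩ : ∃ m, Fintype.card F = m + 2 := ⟨Fintype.card F - 2, by
      have : 1 < Fintype.card F := Fintype.one_lt_card; omega⟩
    rw [Nat.card_eq_fintype_card (α := F), hm] at hkc
    rw [hm] at hsplit hle
    have h1 : (m + 2) ^ 3 = Nat.card Ψ.range * Nat.card Ψ.ker + 1 := by
      have : 1 ≤ (m + 2) ^ 3 := Nat.one_le_pow _ _ (by omega)
      omega
    have hk' : Nat.card Ψ.ker ≤ m + 1 := by omega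
    have h2 : (m + 2) ^ 2 + (m + 2) + 1 ≤ Nat.card Ψ.range := by
      by_contra h3
      push Not at h3
      have h4 := Nat.mul_le_mul (Nat.lt_succ_iff.1 h3) hk'
      nlinarith
    have h5 : ((m + 2) ^ 2 + (m + 2) + 1) ^ 2 ≤ Nat.card R ^ 2 := Nat.pow_le_pow_left (by omega) 2
    nlinarith
  have main : ∀ a ∈ A, Coef h M b τ H.φ (a * c) := fun a ha => by
    induction ha using AddSubgroup.closure_induction with
    | mem x hx =>
      rw [hW] at hx
      obtain ⟨μ, hμ, rfl⟩ := hx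
      exact O.coef_torus hb0 hb hμ hc
    | zero => rw [zero_mul]; exact O.coef_zero b
    | add x y _ _ hx hy => rw [add_mul]; exact O.coef_add hb hx hy
    | neg x _ hx => rw [neg_mul]; exact O.coef_neg hb hx
  have := main _ (hall (d / c))
  rwa [div_mul_cancel₀ _ hc0] at this

/-- An unexpected element gives the transvections at the line. -/
theorem upt_of_extra {b : V} (hb : h b b = 0) (hE : Extra h M b) : UPt σ f M b := by
  have H := O.form
  rcases eq_or_ne b 0 with rfl | hb0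
  · exact UPt.zero H.herm
  obtain ⟨T, hT, hne⟩ := hE
  obtain ⟨c₁, hc1, hc⟩ := O.coef_of hb0 hb hT hne
  intro c hcs
  obtain ⟨T', hT', hTx⟩ := O.coef_all hb0 hb hc1 hc (algebraMap F K c)
  obtain ⟨t, ht, htx⟩ := O.inB_add hb hT' (O.inB_root hb (H.skew_alg hcs))
  refine ⟨t, ht, fun x => ?_⟩
  rw [htx, ← algebraMap_smul K (c * f x b), map_mul, H.form x b, H.tr_eq, LinearMap.add_apply,
    LinearMap.mulLeft_apply, hTx, H.skew_alg hcs, map_neg, map_neg, AlgHom.commutes, AlgHom.commutes]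
  congr 2
  ring

/-- An unexpected element moves to every singular line. -/
theorem extra_move {b c : V} (hb0 : b ≠ 0) (hb : h b b = 0) (hc0 : c ≠ 0) (hc : h c c = 0)
    (hE : Extra h M b) : Extra h M c := by
  have H := O.form
  have step : ∀ {b c : V}, h b b = 0 → h c c = 0 → h c b ≠ 0 → Extra h M b → Extra h M c := by
    intro b c hb hc hcb hE
    obtain ⟨s, hs, hss⟩ := H.exists_coef2 (r := h c b)
    obtain ⟨a, ha⟩ : ∃ a, a = b + s • c := ⟨_, rfl⟩
    have hbc : h b c = τ (h c b) := H.symm c b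
    have haa : h a a = 0 := by
      rw [ha, H.add_left, H.add_right, H.add_right, H.smul_left, H.smul_right, H.smul_left, H.smul_right, hb, hc,
        hbc]
      rw [map_mul] at hss
      linear_combination hss
    have hne : τ s * h b c ≠ 0 :=
      mul_ne_zero (fun e => hs (H.tau_eq_zero.1 e)) (by rw [hbc]; exact fun e => hcb (H.tau_eq_zero.1 e))
    obtain ⟨e, he⟩ : ∃ e, e = -(τ s * h b c)⁻¹ := ⟨_, rfl⟩
    have hes : τ e = -e := by
      rw [he, map_neg, map_inv₀, map_mul, H.invol, hbc, H.invol]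
      rw [map_mul] at hss
      rw [show s * h c b = -(τ s * τ (h c b)) by linear_combination hss, inv_neg]
    obtain ⟨t, ht, htx⟩ := O.root_mem haa hes
    have htb : (t : Mn) *ᵥ b = (-s) • c := by
      have h1 : h b a = τ s * h b c := by rw [ha, H.add_right, H.smul_right, hb, zero_add]
      rw [htx, h1, he, neg_mul, inv_mul_cancel₀ hne, ha]
      module
    obtain ⟨T, ⟨u, hu, hux⟩, hT⟩ := hE
    have htl : ∀ (k : K) (x : V), (t : Mn) *ᵥ (k • x) = k • ((t : Mn) *ᵥ x) := fun k x => by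
      rw [htx, htx, H.smul_left, smul_add, smul_smul]
      congr 2
      ring
    have hth : ∀ x y, h ((t : Mn) *ᵥ x) ((t : Mn) *ᵥ y) = h x y := fun x y => by
      simp only [htx, H.add_left, H.add_right, H.smul_left, H.smul_right, haa, map_mul, hes, H.symm y a, H.invol]
      ring
    have hE' : Extra h M ((-s) • c) := by
      refine ⟨T, ⟨t * u * t⁻¹, mul_mem (mul_mem ht hu) (inv_mem ht), fun x => ?_⟩, hT⟩
      obtain ⟨y, rfl⟩ : ∃ y, (t : Mn) *ᵥ y = x := ⟨_, mulVec_inv_cancel t x⟩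
      rw [Units.val_mul, Units.val_mul, ← Matrix.mulVec_mulVec, ← Matrix.mulVec_mulVec, inv_mulVec_cancel, hux,
        Matrix.mulVec_add, htl, ← htb, hth]
    have := O.extra_smul (s := -s⁻¹) (by simpa using hs) hE'
    rwa [smul_smul, neg_mul_neg, inv_mul_cancel₀ hs, one_smul] at this
  by_cases hcb : h c b = 0
  swap
  · exact step hb hc hcb hE
  obtain ⟨b', hb', h1, h2⟩ := H.exists_pair hb0 hb
  by_cases hcb' : h c b' = 0
  swap
  · exact step hb' hc hcb' (step hb hb' (by rw [h1]; exact one_ne_zero) hE)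
  have hbc : h b c = 0 := by rw [H.symm, hcb, map_zero]
  have hb'c : h b' c = 0 := by rw [H.symm, hcb', map_zero]
  obtain ⟨y, hy⟩ := H.exists_one hc0
  obtain ⟨x, hx⟩ : ∃ x, x = H.proj b b' y := ⟨_, rfl⟩
  have hxc : h x c = 1 := by rw [hx, H.proj_dot _ hbc hb'c, hy]
  have hxb : h x b = 0 := hx ▸ H.proj_left hb h1 y
  have hxb' : h x b' = 0 := hx ▸ H.proj_right hb' h2 y
  obtain ⟨t, ht⟩ := H.exists_sum (show τ (-h x x) = -h x x by rw [map_neg, H.self_fix])
  obtain ⟨z, hz⟩ : ∃ z, z = x + b' + t • b := ⟨_, rfl⟩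
  have hzz : h z z = 0 := by
    simp only [hz, H.add_left, H.add_right, H.smul_left, H.smul_right, hb, hb', h1, h2, hxb, hxb',
      H.symm x b, H.symm x b', map_zero]
    linear_combination ht
  have hzb : h z b = 1 := by simp [hz, H.add_left, H.smul_left, hb, h1, hxb]
  have hzc : h z c = 1 := by simp [hz, H.add_left, H.smul_left, hbc, hb'c, hxc]
  exact step hzz hc (by rw [H.symm, hzc, map_one]; exact one_ne_zero)
    (step hb hzz (by rw [hzb]; exact one_ne_zero) hE)

/-- All transvections. -/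
theorem upt_all {b : V} (hb0 : b ≠ 0) (hb : h b b = 0) (hE : Extra h M b) {v : V} (hv : f v v = 0) :
    UPt σ f M v := by
  have H := O.form
  have hsing : ∀ a, h a a = 0 → UPt σ f M a := fun a ha => by
    rcases eq_or_ne a 0 with rfl | ha0
    · exact UPt.zero H.herm
    exact O.upt_of_extra ha (O.extra_move hb0 hb ha0 ha hE)
  rcases eq_or_ne (h v v) 0 with hd | hd
  · exact hsing v hd
  have hv0 : v ≠ 0 := fun e => hd (by rw [e, H.zero_left])
  obtain ⟨c, hc0, hc⟩ := H.exists_skewF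
  obtain ⟨a₀, ha₀, ha₀v⟩ := H.exists_sing_ne hb0 hb hv0
  obtain ⟨z, hz⟩ : ∃ z, z = -(algebraMap F K c)⁻¹ * h v v := ⟨_, rfl⟩
  have hcK : algebraMap F K c ≠ 0 := (_root_.map_ne_zero _).2 hc0
  have hzs : τ z = -z := by
    rw [hz, map_mul, map_neg, map_inv₀, H.skew_alg hc, inv_neg, H.self_fix]; ring
  have htrz : tr z = 0 := by
    rw [hz, show -(algebraMap F K c)⁻¹ * h v v = (-c⁻¹) • h v v by
      rw [Algebra.smul_def, map_neg, map_inv₀], map_smul, ← H.form, hv, smul_zero]
  obtain ⟨w, hw⟩ := H.exists_half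
  have hr : σ (1 - tr (w * z)) = 1 - tr (w * z) := by
    rw [map_sub, map_one, ← H.tr_tau, map_mul τ, hzs]
    have : tr (w * z) + tr (τ w * z) = 0 := by rw [← map_add, ← add_mul, hw, one_mul, htrz]
    rw [mul_neg, map_neg]
    linear_combination this
  obtain ⟨y, hy⟩ := Algebra.trace_surjective F K 1
  obtain ⟨z₁, hz₁⟩ := H.herm.exists_trace
  obtain ⟨k₀, hk₀⟩ : ∃ k₀, k₀ = ((1 - tr (w * z)) * z₁ / (z₁ + σ z₁)) • y := ⟨_, rfl⟩
  obtain ⟨u, hu⟩ : ∃ u, u = w * z + (k₀ + τ k₀) := ⟨_, rfl⟩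
  have htru : tr u = 1 := by
    rw [hu, map_add, map_add, H.tr_tau, hk₀, map_smul, hy, smul_eq_mul, mul_one, map_div₀ σ, map_mul σ, hr,
      map_add σ, H.herm.invol, add_comm (σ z₁) z₁, ← add_div, ← mul_add, mul_div_assoc, div_self hz₁]
    ring
  have huz : u - τ u = z := by
    rw [hu, map_add, map_add, map_mul, H.invol, hzs]
    linear_combination z * hw
  obtain ⟨a, ha⟩ : ∃ a, a = (u / h a₀ v) • a₀ := ⟨_, rfl⟩
  have haa : h a a = 0 := by rw [ha, H.smul_left, H.smul_right, ha₀, mul_zero, mul_zero]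
  have hav : h a v = u := by rw [ha, H.smul_left, div_mul_cancel₀ _ ha₀v]
  have hfva : f v a = 1 := by rw [H.herm.herm, H.form, hav, htru, map_one]
  obtain ⟨v', hv'⟩ : ∃ v', v' = v + (c * f v a) • a := ⟨_, rfl⟩
  have hv's : h v' v' = 0 := by
    rw [hv', hfva, mul_one, ← algebraMap_smul K c a, H.add_left, H.add_right, H.add_right, H.smul_left,
      H.smul_right, H.smul_left, H.smul_right, haa, hav, H.symm a v, hav, H.skew_alg hc]
    have e : algebraMap F K c * (u - τ u) + h v v = 0 := by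
      rw [huz, hz]; field_simp; ring
    linear_combination e
  have h1 := UPt.add_smul H.herm (hsing v' hv's) (hsing a haa) (H.iso_of_zero haa)
    (c := -c) (by rw [map_neg]; linear_combination -hc)
  have e : v' + (-c * f v' a) • a = v := by
    have e2 : f v' a = 1 := by
      rw [hv', H.herm.add_left, H.herm.smul_left, H.iso_of_zero haa, mul_zero, add_zero, hfva]
    rw [e2, hv', hfva]
    module
  rwa [e] at h1

end Over

end Cfsg.Agent.Classical.UnitField
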