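import Cfsg.Agent.Lib.Classical.MaxUnitary
import Cfsg.Agent.Lib.Classical.MaxOverfieldMain
import Mathlib.FieldTheory.Finite.Trace

/-!
Hermitian planes over an extension of degree three or five inside Hermitian spaces: the form over the extension,
counting, skew maps of the extension and their Frobenius components.
-/

set_option autoImplicit false
set_option linter.unusedSectionVars false
set_option linter.style.haveILetI false
set_option quotPrecheck false

namespace Cfsg.Agent.Classical.UnitFieldTwo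

open Matrix Module MaxTv Cfsg.Agent.Classical.Overfield

variable {F : Type*} [Field F] [Fintype F]
variable {K : Type*} [Field K] [Fintype K] [Algebra F K]

local notation "tr" => Algebra.trace F K

theorem finiteK : Module.Finite F K := Module.Finite.of_finite

theorem tr_ne : ∃ s : K, tr s ≠ 0 := by
  haveI := finiteK (F := F) (K := K)
  obtain ⟨s, hs⟩ := Algebra.trace_surjective F K 1
  exact ⟨s, by rw [hs]; exact one_ne_zero⟩

theorem tr_ext {a b : K} (H : ∀ k : K, tr (k * a) = tr (k * b)) : a = b := by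
  by_contra hne
  obtain ⟨s, hs⟩ := tr_ne (F := F) (K := K)
  have := H (s / (a - b))
  rw [← sub_eq_zero, ← map_sub, ← mul_sub, div_mul_cancel₀ _ (sub_ne_zero.2 hne)] at this
  exact hs this

/-- Every functional is a trace. -/
theorem exists_tr (L : K →ₗ[F] F) : ∃ z : K, ∀ k, L k = tr (k * z) := by
  haveI := finiteK (F := F) (K := K)
  let Θ : K →ₗ[F] (K →ₗ[F] F) :=
    { toFun := fun z => (tr).comp (LinearMap.mulRight F z)
      map_add' := fun a b => LinearMap.ext fun k => by simp [mul_add]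
      map_smul' := fun c a => LinearMap.ext fun k => by simp }
  have hΘ : Function.Injective Θ := fun a b h => tr_ext fun k => LinearMap.congr_fun h k
  obtain ⟨z, hz⟩ := (LinearMap.injective_iff_surjective_of_finrank_eq_finrank
    (Subspace.dual_finrank_eq : finrank F (Module.Dual F K) = finrank F K).symm).1 hΘ L
  exact ⟨z, fun k => by rw [← hz]; rfl⟩

/-- Only base field elements are fixed by the square. -/
def Gen (ψ : K ≃ₐ[F] K) : Prop := ∀ x, ψ (ψ x) = x → ∃ a : F, algebraMap F K a = x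

/-- The Frobenius of the extension. -/
noncomputable def frob (F K : Type*) [Field F] [Fintype F] [Field K] [Fintype K] [Algebra F K] : K ≃ₐ[F] K :=
  AlgEquiv.ofBijective (FiniteField.frobeniusAlgHom F K)
    ⟨(FiniteField.frobeniusAlgHom F K).injective,
      (Finite.injective_iff_surjective (f := FiniteField.frobeniusAlgHom F K)).1
        (FiniteField.frobeniusAlgHom F K).injective⟩

theorem frob_apply (x : K) : frob F K x = x ^ Fintype.card F := rfl

theorem frob_pow_apply (i : ℕ) (x : K) : (frob F K ^ i) x = x ^ (Fintype.card F ^ i) := by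
  induction i generalizing x with
  | zero => simp
  | succ i ih => rw [pow_succ', AlgEquiv.mul_apply, ih, frob_apply, ← pow_mul, ← pow_succ]

/-- A skew map from one component. -/
def skewOp (τ : K ≃+* K) (ψ : K ≃ₐ[F] K) (c : K) : K →ₗ[F] K :=
  (LinearMap.mulLeft F c).comp ψ.toLinearMap - (LinearMap.mulLeft F (ψ.symm (τ c))).comp ψ.symm.toLinearMap

theorem skewOp_apply (τ : K ≃+* K) (ψ : K ≃ₐ[F] K) (c x : K) :
    skewOp τ ψ c x = c * ψ x - ψ.symm (τ c) * ψ.symm x := rfl

theorem skewOp_zero (τ : K ≃+* K) (ψ : K ≃ₐ[F] K) : skewOp τ ψ 0 = 0 := LinearMap.ext fun x => by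
  simp [skewOp_apply]

theorem skewOp_add (τ : K ≃+* K) (ψ : K ≃ₐ[F] K) (c d : K) :
    skewOp τ ψ (c + d) = skewOp τ ψ c + skewOp τ ψ d := LinearMap.ext fun x => by
  simp only [skewOp_apply, LinearMap.add_apply, map_add]; ring

theorem skewOp_neg (τ : K ≃+* K) (ψ : K ≃ₐ[F] K) (c : K) : skewOp τ ψ (-c) = -skewOp τ ψ c := by
  rw [eq_neg_iff_add_eq_zero, ← skewOp_add, neg_add_cancel, skewOp_zero]

/-- Skew for the trace pairing. -/
def IsSkew (τ : K ≃+* K) (T : K →ₗ[F] K) : Prop := ∀ x y, tr (T x * τ y) + tr (x * τ (T y)) = 0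

/-- A Hermitian plane over the extension whose trace is the given form. -/
structure UForm {ι : Type} [Fintype ι] [DecidableEq ι] [Module K (ι → F)] [IsScalarTower F K (ι → F)]
    (r : ℕ) (σ : F ≃+* F) (f : (ι → F) → (ι → F) → F) (τ : K ≃+* K) (h : (ι → F) → (ι → F) → K) : Prop where
  herm : Herm σ f
  deg : finrank F K = r
  size : r = 3 ∧ 9 ≤ Fintype.card F ∨ r = 5 ∧ 4 ≤ Fintype.card F
  invol : ∀ k, τ (τ k) = k
  base : ∀ a : F, τ (algebraMap F K a) = algebraMap F K (σ a)
  spec : ∀ (k : K) (x y : ι → F), f (k • x) y = Algebra.trace F K (k * h x y)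
  adj : ∀ (k : K) (x y : ι → F), f (k • x) y = f x (τ k • y)
  dim : finrank K (ι → F) = 2

namespace UForm

variable {ι : Type} [Fintype ι] [DecidableEq ι] [Module K (ι → F)] [IsScalarTower F K (ι → F)]
variable {r : ℕ} {σ : F ≃+* F} {f : (ι → F) → (ι → F) → F} {τ : K ≃+* K} {h : (ι → F) → (ι → F) → K}
variable (H : UForm r σ f τ h)
include H

local notation "V" => (ι → F)
local notation "hs" => UForm.herm H
local notation "Q" => Fintype.card F

theorem two_le : 2 ≤ r := by rcases H.size with e | e <;> omega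

theorem card_K : Fintype.card K = Q ^ r := by
  rw [← Nat.card_eq_fintype_card, ← Nat.card_eq_fintype_card, Module.natCard_eq_pow_finrank (K := F), H.deg]

theorem frob_pow_deg : frob F K ^ r = 1 := AlgEquiv.ext fun x => by
  rw [frob_pow_apply, ← H.card_K, FiniteField.pow_card]; rfl

theorem alg_cases (ψ : K ≃ₐ[F] K) : ∃ i : ℕ, ∀ x, ψ x = x ^ (Q ^ i) := by
  obtain ⟨n, hn⟩ := (FiniteField.bijective_frobeniusAlgHom_pow F K).2 ψ.toAlgHom
  refine ⟨n, fun x => ?_⟩
  have := DFunLike.congr_fun hn x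
  rw [AlgHom.coe_pow, FiniteField.coe_frobeniusAlgHom, pow_iterate] at this
  exact this.symm

theorem alg_tau (ψ : K ≃ₐ[F] K) (x : K) : τ (ψ x) = ψ (τ x) := by
  obtain ⟨i, hi⟩ := H.alg_cases ψ
  rw [hi, hi, map_pow]

theorem hom_tau (θ : K →+* K) (ψ : K ≃ₐ[F] K) (x : K) : θ (ψ x) = ψ (θ x) := by
  obtain ⟨i, hi⟩ := H.alg_cases ψ
  rw [hi, hi, map_pow]

theorem alg_comm (ψ χ : K ≃ₐ[F] K) (x : K) : ψ (χ x) = χ (ψ x) :=
  (H.hom_tau χ.toAlgHom.toRingHom ψ x).symm

theorem tr_alg (ψ : K ≃ₐ[F] K) (x : K) : tr (ψ x) = tr x := Algebra.trace_eq_of_algEquiv ψ x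

theorem norm_alg (ψ : K ≃ₐ[F] K) (x : K) : Algebra.norm F (ψ x) = Algebra.norm F x :=
  Algebra.norm_eq_of_algEquiv ψ x

theorem tr_eq (x : K) : algebraMap F K (tr x) = ∑ i ∈ Finset.range r, (frob F K ^ i) x := by
  rw [FiniteField.algebraMap_trace_eq_sum_pow, H.deg]
  exact Finset.sum_congr rfl fun i _ => by rw [frob_pow_apply, Nat.card_eq_fintype_card]

theorem tr_tau (x : K) : tr (τ x) = σ (tr x) := by
  apply (algebraMap F K).injective
  rw [← H.base, H.tr_eq, H.tr_eq, map_sum]
  exact Finset.sum_congr rfl fun i _ => (H.alg_tau _ _).symm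

theorem norm_tau (x : K) : Algebra.norm F (τ x) = σ (Algebra.norm F x) := by
  apply (algebraMap F K).injective
  rw [← H.base, FiniteField.algebraMap_norm_eq_prod_pow, FiniteField.algebraMap_norm_eq_prod_pow, map_prod]
  exact Finset.prod_congr rfl fun i _ => (map_pow τ x _).symm

theorem form (x y : V) : f x y = tr (h x y) := by simpa using H.spec 1 x y

theorem add_left (x y z : V) : h (x + y) z = h x z + h y z :=
  tr_ext (F := F) fun k => by rw [← H.spec, mul_add, map_add, ← H.spec, ← H.spec, smul_add, (hs).add_left]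

theorem smul_left (s : K) (x y : V) : h (s • x) y = s * h x y :=
  tr_ext (F := F) fun k => by rw [← H.spec, ← mul_assoc, ← H.spec, smul_smul]

theorem symm (x y : V) : h y x = τ (h x y) :=
  tr_ext (F := F) fun k => by
    rw [← H.spec, show k * τ (h x y) = τ (τ k * h x y) by rw [map_mul, H.invol], H.tr_tau, ← H.spec,
      (hs).herm (k • y) x, H.adj, H.invol]

theorem add_right (x y z : V) : h x (y + z) = h x y + h x z := by
  rw [H.symm, H.add_left, map_add, ← H.symm, ← H.symm]

theorem smul_right (s : K) (x y : V) : h x (s • y) = τ s * h x y := by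
  rw [H.symm, H.smul_left, map_mul, ← H.symm]

theorem zero_left (y : V) : h 0 y = 0 := by simpa using H.smul_left 0 0 y

theorem zero_right (y : V) : h y 0 = 0 := by simpa using H.smul_right 0 y 0

theorem neg_left (x y : V) : h (-x) y = -h x y := by rw [← neg_one_smul K x, H.smul_left, neg_one_mul]

theorem sub_left (x y z : V) : h (x - y) z = h x z - h y z := by
  rw [sub_eq_add_neg, H.add_left, H.neg_left, ← sub_eq_add_neg]

theorem self_fix (x : V) : τ (h x x) = h x x := (H.symm x x).symm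

theorem iso_of_zero {x : V} (hx : h x x = 0) : f x x = 0 := by rw [H.form, hx, map_zero]

theorem tau_eq_zero {a : K} : τ a = 0 ↔ a = 0 := τ.map_eq_zero_iff

theorem eq_zero {w : V} (hw : ∀ x, h x w = 0) : w = 0 :=
  (hs).eq_zero w fun x => by rw [H.form, hw, map_zero]

theorem exists_one {w : V} (hw : w ≠ 0) : ∃ x, h x w = 1 := by
  obtain ⟨x, hx⟩ : ∃ x, h x w ≠ 0 := by
    by_contra hc
    push Not at hc
    exact hw (H.eq_zero hc)
  exact ⟨(h x w)⁻¹ • x, by rw [H.smul_left, inv_mul_cancel₀ hx]⟩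

/-- The product with a vector as a linear map. -/
def hlin (H : UForm r σ f τ h) (w : ι → F) : (ι → F) →ₗ[K] K where
  toFun x := h x w
  map_add' x y := H.add_left x y w
  map_smul' s x := H.smul_left s x w

theorem hlin_apply (w x : V) : H.hlin w x = h x w := rfl

theorem exists_half : ∃ z : F, z + σ z = 1 := by
  obtain ⟨w, hw⟩ := (hs).exists_trace
  refine ⟨w / (w + σ w), ?_⟩
  rw [map_div₀ σ, map_add σ, (hs).invol, add_comm (σ w) w, ← add_div, div_self hw]

theorem exists_sum {δ : K} (hδ : τ δ = δ) : ∃ s : K, s + τ s = δ := by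
  obtain ⟨z, hz⟩ := H.exists_half
  exact ⟨δ * algebraMap F K z, by rw [map_mul, hδ, H.base, ← mul_add, ← map_add, hz, map_one, mul_one]⟩

theorem exists_skewF : ∃ c : F, c ≠ 0 ∧ c + σ c = 0 := (hs).exists_skew

theorem skew_alg {c : F} (hc : c + σ c = 0) : τ (algebraMap F K c) = -algebraMap F K c := by
  rw [H.base, ← map_neg]
  exact congrArg _ (by linear_combination hc)

theorem exists_skewK : ∃ e : K, e ≠ 0 ∧ τ e = -e := by
  obtain ⟨c, hc0, hc⟩ := H.exists_skewF
  exact ⟨algebraMap F K c, (_root_.map_ne_zero _).2 hc0, H.skew_alg hc⟩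

/-- The fixed elements span over the base field. -/
theorem span_fix {W : Submodule F K} (hW : ∀ k, τ k = k → k ∈ W) : W = ⊤ := by
  obtain ⟨a, ha⟩ := (hs).exists_moved
  refine Submodule.eq_top_iff'.2 fun k => ?_
  have h1 := hW (k + τ k) (by rw [map_add, H.invol, add_comm])
  have h2 := hW (a • k + τ (a • k)) (by rw [map_add, H.invol, add_comm])
  have h3 := W.sub_mem h2 (W.smul_mem (σ a) h1)
  have e : a • k + τ (a • k) - σ a • (k + τ k) = (a - σ a) • k := by
    rw [Algebra.smul_def, Algebra.smul_def, Algebra.smul_def, map_mul, H.base, map_sub]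
    ring
  rw [e] at h3
  simpa [smul_smul, inv_mul_cancel₀ (sub_ne_zero.2 (Ne.symm ha))] using W.smul_mem (a - σ a)⁻¹ h3

/-- A fixed element outside a proper subspace. -/
theorem exists_fix_notMem {W : Submodule F K} (hW : W ≠ ⊤) : ∃ s : K, τ s = s ∧ s ∉ W := by
  by_contra hc
  push Not at hc
  exact hW (H.span_fix hc)

/-- The skew elements span over the base field. -/
theorem span_skew {W : Submodule F K} (hW : ∀ e, τ e = -e → e ∈ W) : W = ⊤ := by
  obtain ⟨c, hc0, hc⟩ := H.exists_skewF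
  refine H.span_fix fun k hk => ?_
  have h1 := hW (algebraMap F K c * k) (by rw [map_mul, H.skew_alg hc, hk]; ring)
  have h2 := W.smul_mem c⁻¹ h1
  rwa [Algebra.smul_def, ← mul_assoc, ← map_mul, inv_mul_cancel₀ hc0, map_one, one_mul] at h2

theorem eq_zero_of_skew_tr {z : K} (hz : ∀ e : K, τ e = -e → tr (e * z) = 0) : z = 0 := by
  have hW := H.span_skew (W := LinearMap.ker ((tr).comp (LinearMap.mulRight F z))) hz
  refine tr_ext (F := F) fun k => ?_
  have : k ∈ LinearMap.ker ((tr).comp (LinearMap.mulRight F z)) := hW ▸ Submodule.mem_top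
  rw [mul_zero, map_zero]
  exact this

/-- A skew element orthogonal to few elements. -/
theorem exists_skew_orth {κ : Type*} [Fintype κ] (z : κ → K) (hz : ∀ i, ∃ j, τ (z i) = z j)
    (hκ : Fintype.card κ < r) : ∃ e : K, e ≠ 0 ∧ τ e = -e ∧ ∀ i, tr (e * z i) = 0 := by
  haveI := finiteK (F := F) (K := K)
  let L : K →ₗ[F] (κ → F) := LinearMap.pi fun i => (tr).comp (LinearMap.mulRight F (z i))
  obtain ⟨w, hw, hw0⟩ := Submodule.exists_mem_ne_zero_of_ne_bot (p := LinearMap.ker L) fun e => by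
    have h1 := L.finrank_range_add_finrank_ker
    have h2 := Submodule.finrank_le (LinearMap.range L)
    rw [Module.finrank_fintype_fun_eq_card] at h2
    rw [e, finrank_bot, H.deg] at h1
    omega
  have hmem : ∀ x, (∀ i, tr (x * z i) = 0) → ∀ i, tr (τ x * z i) = 0 := fun x hx i => by
    obtain ⟨j, hj⟩ := hz i
    rw [show τ x * z i = τ (x * z j) by rw [map_mul, ← hj, H.invol], H.tr_tau, hx, map_zero]
  have hwz : ∀ i, tr (w * z i) = 0 := fun i => congrFun (LinearMap.mem_ker.1 hw) i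
  obtain ⟨a, ha⟩ := (hs).exists_moved
  have haw : ∀ i, tr (algebraMap F K a * w * z i) = 0 := fun i => by
    rw [mul_assoc, ← Algebra.smul_def, map_smul, hwz, smul_zero]
  by_cases h1 : w - τ w = 0
  · refine ⟨algebraMap F K a * w - τ (algebraMap F K a * w), fun e => hw0 ?_,
      by rw [map_sub, H.invol, neg_sub], fun i => ?_⟩
    · rw [map_mul, H.base, ← sub_eq_zero.1 h1, ← sub_mul, ← map_sub, mul_eq_zero, map_eq_zero] at e
      exact e.resolve_left (sub_ne_zero.2 (Ne.symm ha))
    · rw [sub_mul, map_sub, haw, hmem _ haw, sub_zero]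
  · exact ⟨w - τ w, h1, by rw [map_sub, H.invol, neg_sub], fun i => by rw [sub_mul, map_sub, hwz, hmem _ hwz, sub_zero]⟩

/-- A moved element and the fixed elements give a bijection. -/
theorem card_fix : Nat.card {s : K // τ s = s} ^ 2 = Fintype.card K := by
  obtain ⟨a, ha⟩ := (hs).exists_moved
  obtain ⟨w, hwdef⟩ : ∃ w, w = algebraMap F K a := ⟨_, rfl⟩
  have hw : w - τ w ≠ 0 := by
    rw [hwdef, H.base, ← map_sub]; exact (_root_.map_ne_zero _).2 (sub_ne_zero.2 (Ne.symm ha))
  rw [pow_two, ← Nat.card_prod, ← Nat.card_eq_fintype_card]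
  refine Nat.card_eq_of_bijective (fun p : {s : K // τ s = s} × {s : K // τ s = s} => (p.1 : K) + p.2 * w)
    ⟨fun p p' e => ?_, fun x => ?_⟩
  · have e2 := congrArg τ e
    simp only [map_add, map_mul, p.1.2, p.2.2, p'.1.2, p'.2.2] at e e2
    have h2 : (p.2 : K) = p'.2 := sub_eq_zero.1 ((mul_eq_zero.1
      (show ((p.2 : K) - p'.2) * (w - τ w) = 0 by linear_combination e - e2)).resolve_right hw)
    exact Prod.ext (Subtype.ext (by rw [h2] at e; linear_combination e)) (Subtype.ext h2)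
  · obtain ⟨b, hb⟩ : ∃ b, b = (x - τ x) / (w - τ w) := ⟨_, rfl⟩
    have hbfix : τ b = b := by rw [hb, map_div₀, map_sub, map_sub, H.invol, H.invol, ← neg_sub x, ← neg_sub w, neg_div_neg_eq]
    refine ⟨(⟨x - b * w, ?_⟩, ⟨b, hbfix⟩), sub_add_cancel _ _⟩
    have e : b * (w - τ w) = x - τ x := by rw [hb, div_mul_cancel₀ _ hw]
    rw [map_sub, map_mul, hbfix]
    linear_combination e

/-- The fixed elements of a number with few skew elements. -/
theorem card_skew_sq : Nat.card {c : F // c + σ c = 0} ^ 2 ≤ Q := by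
  obtain ⟨a, ha⟩ := (hs).exists_moved
  rw [pow_two, ← Nat.card_prod, ← Nat.card_eq_fintype_card]
  refine Nat.card_le_card_of_injective
    (fun p : {c : F // c + σ c = 0} × {c : F // c + σ c = 0} => (p.1 : F) + p.2 * a) fun p p' e => ?_
  have e2 := congrArg σ e
  have q1 : σ p.1 = -p.1 := eq_neg_of_add_eq_zero_right p.1.2
  have q2 : σ p.2 = -p.2 := eq_neg_of_add_eq_zero_right p.2.2
  have q3 : σ p'.1 = -p'.1 := eq_neg_of_add_eq_zero_right p'.1.2
  have q4 : σ p'.2 = -p'.2 := eq_neg_of_add_eq_zero_right p'.2.2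
  simp only [map_add, map_mul, q1, q2, q3, q4] at e e2
  have h2 : (p.2 : F) = p'.2 := sub_eq_zero.1 ((mul_eq_zero.1
    (show ((p.2 : F) - p'.2) * (a - σ a) = 0 by linear_combination e + e2)).resolve_right
      (sub_ne_zero.2 (Ne.symm ha)))
  exact Prod.ext (Subtype.ext (by rw [h2] at e; linear_combination e)) (Subtype.ext h2)

theorem exists_pair {b : V} (hb0 : b ≠ 0) (hb : h b b = 0) : ∃ b', h b' b' = 0 ∧ h b' b = 1 ∧ h b b' = 1 := by
  obtain ⟨x, hx⟩ := H.exists_one hb0
  obtain ⟨s, hsum⟩ := H.exists_sum (show τ (-h x x) = -h x x by rw [map_neg, H.self_fix])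
  have hx' : h b x = 1 := by rw [H.symm, hx, map_one]
  refine ⟨x + s • b, ?_, ?_, ?_⟩
  · rw [H.add_left, H.add_right, H.add_right, H.smul_left, H.smul_right, H.smul_left, H.smul_right, hx, hx', hb]
    linear_combination hsum
  · rw [H.add_left, H.smul_left, hb, hx, mul_zero, add_zero]
  · rw [H.add_right, H.smul_right, hb, hx', mul_zero, add_zero]

theorem finiteV : Module.Finite K V := Module.Finite.of_restrictScalars_finite F K _

/-- Coordinates for a pair. -/
theorem decomp {b b' : V} (hb : h b b = 0) (hb' : h b' b' = 0) (h1 : h b' b = 1) (h2 : h b b' = 1) (x : V) :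
    x = h x b' • b + h x b • b' := by
  haveI := H.finiteV
  let L : V →ₗ[K] K × K := (H.hlin b').prod (H.hlin b)
  have hsur : Function.Surjective L := fun p => ⟨p.1 • b + p.2 • b', Prod.ext
    (show h (p.1 • b + p.2 • b') b' = p.1 by rw [H.add_left, H.smul_left, H.smul_left, h2, hb']; ring)
    (show h (p.1 • b + p.2 • b') b = p.2 by rw [H.add_left, H.smul_left, H.smul_left, h1, hb]; ring)⟩
  have hinj := (LinearMap.injective_iff_surjective_of_finrank_eq_finrank (f := L)
    (by rw [H.dim, Module.finrank_prod, Module.finrank_self])).2 hsur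
  refine hinj (Prod.ext ?_ ?_)
  · show h x b' = h (h x b' • b + h x b • b') b'
    rw [H.add_left, H.smul_left, H.smul_left, h2, hb']; ring
  · show h x b = h (h x b' • b + h x b • b') b
    rw [H.add_left, H.smul_left, H.smul_left, h1, hb]; ring

/-- A singular line is its own perpendicular. -/
theorem mem_line {b w : V} (hb0 : b ≠ 0) (hb : h b b = 0) (hw : h w b = 0) : ∃ k : K, w = k • b := by
  obtain ⟨b', hb', h1, h2⟩ := H.exists_pair hb0 hb
  exact ⟨h w b', by conv_lhs => rw [H.decomp hb hb' h1 h2 w, hw, zero_smul, add_zero]⟩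

theorem exists_norm {t : K} (ht : τ t = t) : ∃ c : K, c * τ c = t := by
  rcases eq_or_ne t 0 with rfl | h0
  · exact ⟨0, zero_mul _⟩
  refine exists_norm_eq (σ := τ.toRingHom) (fun e => ?_) H.invol ht h0
  refine (hs).ne_refl (RingEquiv.ext fun a => (algebraMap F K).injective ?_)
  rw [← H.base]
  exact RingHom.congr_fun e _

/-- A singular vector. -/
theorem exists_singular : ∃ b, b ≠ 0 ∧ h b b = 0 := by
  haveI := H.finiteV
  obtain ⟨x, hx0⟩ : ∃ x : V, x ≠ 0 := by
    haveI : Nontrivial V := Module.nontrivial_of_finrank_pos (R := K) (by rw [H.dim]; norm_num)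
    exact exists_ne 0
  rcases eq_or_ne (h x x) 0 with hxx | hxx
  · exact ⟨x, hx0, hxx⟩
  obtain ⟨y, hy, hy0⟩ := Submodule.exists_mem_ne_zero_of_ne_bot (p := LinearMap.ker (H.hlin x)) fun e => by
    have h1 := (H.hlin x).finrank_range_add_finrank_ker
    have h2 := Submodule.finrank_le (LinearMap.range (H.hlin x))
    rw [e, finrank_bot, H.dim] at h1
    rw [Module.finrank_self] at h2
    omega
  have hyx : h y x = 0 := hy
  have hxy : h x y = 0 := by rw [H.symm, hyx, map_zero]
  rcases eq_or_ne (h y y) 0 with hyy | hyy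
  · exact ⟨y, hy0, hyy⟩
  obtain ⟨c, hc⟩ := H.exists_norm (t := -(h y y / h x x)) (by rw [map_neg, map_div₀, H.self_fix, H.self_fix])
  refine ⟨y + c • x, fun e => hyy ?_, ?_⟩
  · have := congrArg (fun t => h t y) e
    simpa [H.zero_left, H.add_left, H.smul_left, hxy] using this
  · rw [H.add_left, H.add_right, H.add_right, H.smul_left, H.smul_right, H.smul_left, H.smul_right, hxy, hyx]
    field_simp at hc
    linear_combination hc

theorem gen_frob : Gen (frob F K) := fun x hx => by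
  obtain ⟨m, hm⟩ : ∃ m, r + 1 = 2 * m := by rcases H.size with e | e <;> exact ⟨(r + 1) / 2, by omega⟩
  have h2 : ∀ j, (frob F K ^ (2 * j)) x = x := fun j => by
    induction j with
    | zero => rfl
    | succ j ih => rw [mul_add, mul_one, pow_add, AlgEquiv.mul_apply, pow_two (frob F K), AlgEquiv.mul_apply, hx, ih]
  have h1 : frob F K x = x := by
    conv_rhs => rw [← h2 m, ← hm, pow_succ, H.frob_pow_deg, one_mul]
  have hall : ∀ i, (frob F K ^ i) x = x := fun i => by
    induction i with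
    | zero => rfl
    | succ i ih => rw [pow_succ, AlgEquiv.mul_apply, h1, ih]
  haveI := finiteK (F := F) (K := K)
  obtain ⟨y, hy⟩ := Algebra.trace_surjective F K 1
  refine ⟨tr (x * y), ?_⟩
  have e : ∀ i, (frob F K ^ i) (x * y) = x * (frob F K ^ i) y := fun i => by rw [map_mul, hall]
  rw [H.tr_eq, Finset.sum_congr rfl fun i _ => e i, ← Finset.mul_sum, ← H.tr_eq, hy, map_one, mul_one]

theorem gen_fix {ψ : K ≃ₐ[F] K} (hψ : Gen ψ) {x : K} (hx : ψ x = x) : ∃ a : F, algebraMap F K a = x :=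
  hψ x (by rw [hx, hx])

theorem exists_fix_moved {ψ : K ≃ₐ[F] K} (hψ : Gen ψ) : ∃ s, τ s = s ∧ ψ s ≠ s := by
  haveI := finiteK (F := F) (K := K)
  obtain ⟨s, hs', hsW⟩ := H.exists_fix_notMem (W := F ∙ (1 : K)) fun e => by
    have := finrank_span_singleton (K := F) (one_ne_zero : (1 : K) ≠ 0)
    rw [e, finrank_top, H.deg] at this
    have := H.two_le
    omega
  refine ⟨s, hs', fun e => hsW ?_⟩
  obtain ⟨a, ha⟩ := H.gen_fix hψ e
  exact Submodule.mem_span_singleton.2 ⟨a, by rw [Algebra.smul_def, mul_one, ha]⟩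

theorem ker_le_one {ψ : K ≃ₐ[F] K} (hψ : Gen ψ) {a b : K} (hab : a ≠ 0 ∨ b ≠ 0) :
    finrank F (LinearMap.ker (LinearMap.mulLeft F a + (LinearMap.mulLeft F b).comp ψ.toLinearMap)) ≤ 1 := by
  haveI := finiteK (F := F) (K := K)
  rcases eq_or_ne (LinearMap.ker (LinearMap.mulLeft F a + (LinearMap.mulLeft F b).comp ψ.toLinearMap)) ⊥ with e | e
  · rw [e, finrank_bot]; exact zero_le_one
  obtain ⟨x₁, hx₁, hx₁0⟩ := Submodule.exists_mem_ne_zero_of_ne_bot e
  have hx₁' : a * x₁ + b * ψ x₁ = 0 := hx₁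
  have hb : b ≠ 0 := fun e0 => hab.elim (fun ha => hx₁0 (by
    rw [e0, zero_mul, add_zero, mul_eq_zero] at hx₁'; exact hx₁'.resolve_left ha)) (fun hb => hb e0)
  refine le_trans (Submodule.finrank_mono (t := F ∙ x₁) fun x hx => ?_) (le_of_eq (finrank_span_singleton hx₁0))
  have hx' : a * x + b * ψ x = 0 := hx
  obtain ⟨t, ht⟩ := H.gen_fix hψ (x := x / x₁) (by
    rw [map_div₀]
    refine (div_eq_div_iff (fun e0 => hx₁0 ((EmbeddingLike.map_eq_zero_iff (f := ψ)).1 e0)) hx₁0).2
      (mul_left_cancel₀ hb ?_)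
    linear_combination x₁ * hx' - x * hx₁')
  exact Submodule.mem_span_singleton.2 ⟨t, by rw [Algebra.smul_def, ht, div_mul_cancel₀ _ hx₁0]⟩

theorem ker_le_two {ψ : K ≃ₐ[F] K} (hψ : Gen ψ) {a b c : K} (hne : a ≠ 0 ∨ b ≠ 0 ∨ c ≠ 0) :
    finrank F (LinearMap.ker (LinearMap.mulLeft F a + (LinearMap.mulLeft F b).comp ψ.toLinearMap +
      (LinearMap.mulLeft F c).comp (ψ.toLinearMap.comp ψ.toLinearMap))) ≤ 2 := by
  haveI := finiteK (F := F) (K := K)
  obtain ⟨L, hL⟩ : ∃ L, L = LinearMap.mulLeft F a + (LinearMap.mulLeft F b).comp ψ.toLinearMap +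
      (LinearMap.mulLeft F c).comp (ψ.toLinearMap.comp ψ.toLinearMap) := ⟨_, rfl⟩
  have hLx : ∀ x, L x = a * x + b * ψ x + c * ψ (ψ x) := fun x => by rw [hL]; rfl
  rw [← hL]
  rcases eq_or_ne (LinearMap.ker L) ⊥ with e | e
  · rw [e, finrank_bot]; exact zero_le
  obtain ⟨x₁, hx₁, hx₁0⟩ := Submodule.exists_mem_ne_zero_of_ne_bot e
  have hx₁' : a * x₁ + b * ψ x₁ + c * ψ (ψ x₁) = 0 := by rw [← hLx]; exact hx₁
  have hψ0 : ∀ {y : K}, y ≠ 0 → ψ y ≠ 0 := fun {y} hy e0 => hy ((EmbeddingLike.map_eq_zero_iff (f := ψ)).1 e0)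
  have hac : -(a * x₁) ≠ 0 ∨ c * ψ (ψ x₁) ≠ 0 := by
    by_contra hc
    push Not at hc
    have ha : a = 0 := (mul_eq_zero.1 (neg_eq_zero.1 hc.1)).resolve_right hx₁0
    have hc' : c = 0 := (mul_eq_zero.1 hc.2).resolve_right (hψ0 (hψ0 hx₁0))
    rw [ha, hc', zero_mul, zero_mul, zero_add, add_zero, mul_eq_zero] at hx₁'
    exact hne.elim (fun h => h ha) fun h => h.elim (fun h => h (hx₁'.resolve_right (hψ0 hx₁0))) fun h => h hc'
  let Δ : K →ₗ[F] K := (ψ.toLinearMap - LinearMap.id).comp (LinearMap.mulRight F x₁⁻¹)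
  have hΔ : ∀ x, Δ x = ψ (x * x₁⁻¹) - x * x₁⁻¹ := fun x => rfl
  let D := Δ.comp (LinearMap.ker L).subtype
  have h1 := D.finrank_range_add_finrank_ker
  have h2 : finrank F (LinearMap.range D) ≤ 1 := by
    refine le_trans (Submodule.finrank_mono ?_) (H.ker_le_one hψ hac)
    rintro _ ⟨⟨x, hx⟩, rfl⟩
    have hx' : a * x + b * ψ x + c * ψ (ψ x) = 0 := by rw [← hLx]; exact hx
    obtain ⟨y, hy⟩ : ∃ y, y = x * x₁⁻¹ := ⟨_, rfl⟩
    have hxy : x = x₁ * y := by rw [hy]; field_simp
    rw [hxy, map_mul, map_mul] at hx'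
    show -(a * x₁) * Δ x + c * ψ (ψ x₁) * ψ (Δ x) = 0
    rw [hΔ, ← hy, map_sub]
    linear_combination hx' - ψ y * hx₁'
  have h3 : finrank F (LinearMap.ker D) ≤ 1 := by
    refine le_trans (le_of_eq (Submodule.equivMapOfInjective _ (LinearMap.ker L).injective_subtype
      (LinearMap.ker D)).finrank_eq) (le_trans (Submodule.finrank_mono (t := F ∙ x₁) ?_)
      (le_of_eq (finrank_span_singleton hx₁0)))
    rintro _ ⟨⟨x, hx⟩, hxD, rfl⟩
    obtain ⟨t, ht⟩ := H.gen_fix hψ (x := x * x₁⁻¹) (sub_eq_zero.1 hxD)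
    exact Submodule.mem_span_singleton.2 ⟨t, by
      rw [Algebra.smul_def, ht, inv_mul_cancel_right₀ hx₁0]; rfl⟩
  omega

/-- A skew map with one component has small kernel. -/
theorem ker_comp_le_two {ψ : K ≃ₐ[F] K} (hψ : Gen ψ) {e c : K} (hne : e ≠ 0 ∨ c ≠ 0) :
    finrank F (LinearMap.ker (LinearMap.mulLeft F e + skewOp τ ψ c)) ≤ 2 := by
  haveI := finiteK (F := F) (K := K)
  refine le_trans (Submodule.finrank_mono fun x hx => ?_) (H.ker_le_two hψ (a := -τ c) (b := ψ e) (c := ψ c)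
    (hne.elim (fun he => Or.inr (Or.inl fun e0 => he ((EmbeddingLike.map_eq_zero_iff (f := ψ)).1 e0)))
      (fun hc => Or.inl (neg_ne_zero.2 fun e0 => hc (H.tau_eq_zero.1 e0)))))
  have hx' : e * x + (c * ψ x - ψ.symm (τ c) * ψ.symm x) = 0 := hx
  have := congrArg ψ hx'
  simp only [map_add, map_sub, map_mul, AlgEquiv.apply_symm_apply, map_zero] at this
  show -τ c * x + ψ e * ψ x + ψ c * ψ (ψ x) = 0
  linear_combination this

theorem skewOp_symm (ψ : K ≃ₐ[F] K) (c : K) : skewOp τ ψ.symm c = skewOp τ ψ (-ψ (τ c)) :=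
  LinearMap.ext fun x => by
    rw [skewOp_apply, skewOp_apply, AlgEquiv.symm_symm, map_neg, H.alg_tau, H.invol, map_neg,
      AlgEquiv.symm_apply_apply]
    ring

theorem skewOp_one (c : K) : skewOp τ (1 : K ≃ₐ[F] K) c = LinearMap.mulLeft F (c - τ c) :=
  LinearMap.ext fun x => by
    rw [skewOp_apply, LinearMap.mulLeft_apply, sub_mul]; rfl

theorem skewOp_skew (ψ : K ≃ₐ[F] K) (c : K) : IsSkew τ (skewOp τ ψ c) := fun x y => by
  rw [skewOp_apply, skewOp_apply, sub_mul, map_sub, map_sub τ, map_mul τ, map_mul τ, H.alg_tau ψ.symm (τ c),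
    H.invol, H.alg_tau, H.alg_tau, mul_sub, map_sub, ← H.tr_alg ψ (ψ.symm (τ c) * ψ.symm x * τ y),
    ← H.tr_alg ψ (x * (ψ.symm c * ψ.symm (τ y))), map_mul ψ, map_mul ψ, map_mul ψ, map_mul ψ,
    AlgEquiv.apply_symm_apply, AlgEquiv.apply_symm_apply, AlgEquiv.apply_symm_apply, AlgEquiv.apply_symm_apply]
  rw [show τ c * x * ψ (τ y) = x * (τ c * ψ (τ y)) by ring, show ψ x * (c * τ y) = c * ψ x * τ y by ring]
  ring

theorem mulLeft_skew {e : K} (he : τ e = -e) : IsSkew τ (LinearMap.mulLeft F e) := fun x y => by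
  rw [LinearMap.mulLeft_apply, LinearMap.mulLeft_apply, map_mul τ, he,
    show x * (-e * τ y) = -(e * x * τ y) by ring, map_neg, add_neg_cancel]

/-- Skew maps are sums of components. -/
theorem exists_decomp {T : K →ₗ[F] K} (hT : IsSkew τ T) :
    ∃ c : Fin r → K, T = ∑ i : Fin r, skewOp τ (frob F K ^ (i : ℕ)) (c i) := by
  classical
  haveI := finiteK (F := F) (K := K)
  obtain ⟨a, ha⟩ := H.exists_half
  have hb := FiniteField.bijective_frobeniusAlgHom_pow F K
  let Φ : (Fin (finrank F K) → K) →ₗ[F] (K →ₗ[F] K) :=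
    { toFun := fun c => ∑ i, (LinearMap.mulLeft F (c i)).comp (FiniteField.frobeniusAlgHom F K ^ (i : ℕ)).toLinearMap
      map_add' := fun a b => by
        ext x; simp [add_mul, Finset.sum_add_distrib]
      map_smul' := fun a b => by
        ext x; simp [Finset.smul_sum] }
  have hli := (linearIndependent_monoidHom K K).comp
    (fun i : Fin (finrank F K) => ((FiniteField.frobeniusAlgHom F K ^ (i : ℕ)).toRingHom : K →* K))
    (fun i j e => hb.1 (AlgHom.ext fun x => DFunLike.congr_fun e x))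
  have hinj : Function.Injective Φ := by
    refine (injective_iff_map_eq_zero Φ).2 fun c hc => funext fun i => ?_
    refine Fintype.linearIndependent_iff.1 hli c (funext fun x => ?_) i
    have := LinearMap.congr_fun hc x
    simpa [Φ, Finset.sum_apply] using this
  obtain ⟨c, hc⟩ := (LinearMap.injective_iff_surjective_of_finrank_eq_finrank (by
    rw [Module.finrank_pi_fintype, Module.finrank_linearMap, Finset.sum_const, Finset.card_univ, Fintype.card_fin,
      smul_eq_mul])).1 hinj (a • T)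
  refine ⟨fun i => c (finCongr H.deg.symm i), ?_⟩
  have hA : ∀ x, a • T x = ∑ i : Fin r, c (finCongr H.deg.symm i) * (frob F K ^ (i : ℕ)) x := fun x => by
    rw [← LinearMap.smul_apply, ← hc]
    show (∑ i, (LinearMap.mulLeft F (c i)).comp (FiniteField.frobeniusAlgHom F K ^ (i : ℕ)).toLinearMap) x = _
    rw [LinearMap.sum_apply, ← (finCongr H.deg.symm).sum_comp]
    refine Finset.sum_congr rfl fun i _ => ?_
    rw [frob_pow_apply, LinearMap.comp_apply, AlgHom.toLinearMap_apply, AlgHom.coe_pow,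
      FiniteField.coe_frobeniusAlgHom, pow_iterate]
    rfl
  have hB : ∀ x, σ a • T x =
      -∑ i : Fin r, (frob F K ^ (i : ℕ)).symm (τ (c (finCongr H.deg.symm i)) * x) := fun x => by
    refine tr_ext (F := F) fun k => ?_
    have h1 := hT x (τ k)
    rw [H.invol, mul_comm (T x)] at h1
    rw [mul_smul_comm, map_smul, eq_neg_of_add_eq_zero_left h1, smul_neg, mul_neg, map_neg, Finset.mul_sum,
      map_sum, ← map_smul, ← mul_smul_comm, show σ a • τ (T (τ k)) = τ (a • T (τ k)) by
        rw [Algebra.smul_def, Algebra.smul_def, map_mul, H.base], hA, map_sum, Finset.mul_sum, map_sum]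
    refine congrArg _ (Finset.sum_congr rfl fun i _ => ?_)
    rw [map_mul τ, H.alg_tau, H.invol, ← H.tr_alg (frob F K ^ (i : ℕ)) (k * _), map_mul (frob F K ^ (i : ℕ)),
      AlgEquiv.apply_symm_apply]
    congr 1
    ring
  refine LinearMap.ext fun x => ?_
  rw [LinearMap.sum_apply, ← one_smul F (T x), ← ha, add_smul, hA, hB, ← sub_eq_add_neg, ← Finset.sum_sub_distrib]
  exact Finset.sum_congr rfl fun i _ => by rw [skewOp_apply, map_mul]

end UForm

end Cfsg.Agent.Classical.UnitFieldTwo
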