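import Cfsg.Agent.Lib.Classical.MaxUnitFieldTwoSpan

/-!
Overgroups of the unitary group of a plane over a quintic extension: one full component gives a map of small rank,
and so all of the other component.
-/

set_option autoImplicit false
set_option linter.unusedSectionVars false
set_option linter.style.haveILetI false
set_option quotPrecheck false

namespace Cfsg.Agent.Classical.UnitFieldTwo

open Matrix Module MaxTv

variable {F : Type*} [Field F] [Fintype F] {ι : Type} [Fintype ι] [DecidableEq ι]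
variable {K : Type*} [Field K] [Fintype K] [Algebra F K] [Module K (ι → F)] [IsScalarTower F K (ι → F)]

local notation "V" => (ι → F)
local notation "Mn" => Matrix ι ι F
local notation "tr" => Algebra.trace F K

namespace UForm

variable {r : ℕ} {σ : F ≃+* F} {f : (ι → F) → (ι → F) → F} {τ : K ≃+* K} {h : (ι → F) → (ι → F) → K}
variable (H : UForm r σ f τ h)
include H

theorem ker_ge_of_range_le {S : K →ₗ[F] K} {d : ℕ} (hS : finrank F (LinearMap.range S) ≤ d) :
    r ≤ finrank F (LinearMap.ker S) + d := by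
  haveI := finiteK (F := F) (K := K)
  have h1 := S.finrank_range_add_finrank_ker
  rw [H.deg] at h1
  omega

/-- The map of rank three from one component. -/
theorem exists_rank_three (hr : r = 5) {ψ : K ≃ₐ[F] K} (hψ : Gen ψ) :
    ∃ e c : K, τ e = -e ∧ c ≠ 0 ∧ finrank F (LinearMap.ker (LinearMap.mulLeft F e + skewOp τ ψ c)) = 2 := by
  haveI := finiteK (F := F) (K := K)
  obtain ⟨e', he'0, he's, he'⟩ := H.exists_skew_orth (fun _ : Unit => (1 : K))
    (fun _ => ⟨(), map_one τ⟩) (by rw [Fintype.card_unit, hr]; norm_num)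
  have htr : tr e' = 0 := by simpa using he' ()
  obtain ⟨m, hm⟩ : ∃ m, m = e'⁻¹ := ⟨_, rfl⟩
  have hms : τ m = -m := by rw [hm, map_inv₀, he's, inv_neg]
  refine ⟨ψ.symm m + m, -m, by rw [map_add, H.alg_tau, hms, map_neg]; ring,
    neg_ne_zero.2 (hm ▸ inv_ne_zero he'0), ?_⟩
  refine le_antisymm (H.ker_comp_le_two hψ (Or.inr (neg_ne_zero.2 (hm ▸ inv_ne_zero he'0)))) ?_
  let Δ : K →ₗ[F] K := ψ.toLinearMap - LinearMap.id
  have hΔker : LinearMap.ker Δ ≤ F ∙ (1 : K) := fun x hx => by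
    obtain ⟨a, ha⟩ := H.gen_fix hψ (x := x) (sub_eq_zero.1 hx)
    exact Submodule.mem_span_singleton.2 ⟨a, by rw [Algebra.smul_def, mul_one, ha]⟩
  have hΔle : LinearMap.range Δ ≤ LinearMap.ker (Algebra.trace F K) := by
    rintro _ ⟨x, rfl⟩
    show tr (ψ x - x) = 0
    rw [map_sub, H.tr_alg, sub_self]
  have hΔ : LinearMap.range Δ = LinearMap.ker (Algebra.trace F K) := Submodule.eq_of_le_of_finrank_le hΔle (by
    have h1 := Δ.finrank_range_add_finrank_ker
    have h2 := (Algebra.trace F K).finrank_range_add_finrank_ker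
    rw [LinearMap.range_eq_top.2 (Algebra.trace_surjective F K), finrank_top, Module.finrank_self, H.deg] at h2
    have h3 := (Submodule.finrank_mono hΔker).trans_eq (finrank_span_singleton one_ne_zero)
    rw [H.deg] at h1
    omega)
  obtain ⟨x₁, hx₁⟩ : e' ∈ LinearMap.range Δ := hΔ ▸ LinearMap.mem_ker.2 htr
  have hx₁' : ψ x₁ = e' + x₁ := by rw [← hx₁]; show ψ x₁ = ψ x₁ - x₁ + x₁; rw [sub_add_cancel]
  have hind : LinearIndependent F ![(1 : K), x₁] := by
    refine (LinearIndependent.pair_iff' one_ne_zero).2 fun a ha => he'0 ?_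
    rw [← hx₁, ← ha]
    show ψ (a • 1) - a • 1 = 0
    rw [map_smul, map_one, sub_self]
  have hmem : ∀ x, x ∈ Set.range ![(1 : K), x₁] →
      x ∈ LinearMap.ker (LinearMap.mulLeft F (ψ.symm m + m) + skewOp τ ψ (-m)) := by
    rintro _ ⟨i, rfl⟩
    show (ψ.symm m + m) * _ + (-m * ψ _ - ψ.symm (τ (-m)) * ψ.symm _) = 0
    rw [map_neg τ, hms, neg_neg]
    fin_cases i
    · simp
      ring
    · have e1 : ψ.symm e' = x₁ - ψ.symm x₁ := by
        have := congrArg ψ.symm hx₁'
        rw [AlgEquiv.symm_apply_apply, map_add] at this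
        linear_combination -this
      have e2 : ψ.symm m * ψ.symm e' = 1 := by rw [← map_mul, hm, inv_mul_cancel₀ he'0, map_one]
      have e3 : m * e' = 1 := by rw [hm, inv_mul_cancel₀ he'0]
      show (ψ.symm m + m) * x₁ + (-m * ψ x₁ - ψ.symm m * ψ.symm x₁) = 0
      rw [hx₁']
      rw [e1] at e2
      linear_combination e2 - e3
  have h4 := Submodule.finrank_mono (Submodule.span_le.2 hmem)
  rwa [finrank_span_eq_card hind, Fintype.card_fin] at h4

theorem card_skewK : Nat.card {e : K // τ e = -e} = Nat.card {s : K // τ s = s} := by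
  obtain ⟨e₀, he₀, he₀s⟩ := H.exists_skewK
  refine Nat.card_congr ⟨fun e => ⟨(e : K) / e₀, by rw [map_div₀, e.2, he₀s, neg_div_neg_eq]⟩,
    fun s => ⟨(s : K) * e₀, by rw [map_mul, s.2, he₀s, mul_neg]⟩, fun e => Subtype.ext ?_, fun s => Subtype.ext ?_⟩
  · show (e : K) / e₀ * e₀ = e
    rw [div_mul_cancel₀ _ he₀]
  · show (s : K) * e₀ / e₀ = s
    rw [mul_div_cancel_right₀ _ he₀]

end UForm

namespace Over

variable {r : ℕ} {σ : F ≃+* F} {f : (ι → F) → (ι → F) → F} {τ : K ≃+* K} {h : (ι → F) → (ι → F) → K}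
  {M : Subgroup (GL ι F)} (O : Over r σ f τ h M)
include O

/-- A conjugate of a root element at the other line. -/
theorem inB_twist {b b' : V} (hb0 : b ≠ 0) (hb'0 : b' ≠ 0) (hb : h b b = 0) (hb' : h b' b' = 0)
    (h1 : h b' b = 1) (h2 : h b b' = 1) {T S : K →ₗ[F] K} (hT : InB h M b T) (hS : InB h M b' S)
    (hTST : ∀ x, T (S (T x)) = 0) {e : K} (he : τ e = -e) :
    InB h M b' ((LinearMap.id - S.comp T).comp ((LinearMap.mulLeft F e).comp (LinearMap.id - T.comp S))) := by
  have H := O.form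
  obtain ⟨t, ht, htx⟩ := hT
  obtain ⟨s, hs, hsx⟩ := hS
  obtain ⟨u, hu, hux⟩ := O.root_mem hb' he
  have hc1 : ∀ k l : K, h (k • b + l • b') b = l := fun k l => by
    rw [H.add_left, H.smul_left, H.smul_left, hb, h1, mul_zero, zero_add, mul_one]
  have hc2 : ∀ k l : K, h (k • b + l • b') b' = k := fun k l => by
    rw [H.add_left, H.smul_left, H.smul_left, hb', h2, mul_zero, add_zero, mul_one]
  have ht' : ∀ k l : K, (t : Mn) *ᵥ (k • b + l • b') = (k + T l) • b + l • b' := fun k l => by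
    rw [htx, hc1, add_smul]; abel
  have hs' : ∀ k l : K, (s : Mn) *ᵥ (k • b + l • b') = k • b + (l + S k) • b' := fun k l => by
    rw [hsx, hc2, add_smul]; abel
  have hu' : ∀ k l : K, (u : Mn) *ᵥ (k • b + l • b') = k • b + (l + e * k) • b' := fun k l => by
    rw [hux, hc2, add_smul]; abel
  obtain ⟨g, hg⟩ : ∃ g, g = t * s * t⁻¹ := ⟨_, rfl⟩
  have hgM : g ∈ M := hg ▸ mul_mem (mul_mem ht hs) (inv_mem ht)
  have hg' : ∀ k l : K, (g : Mn) *ᵥ (k • b + l • b') = (k + T (S k)) • b + (S k + l - S (T l)) • b' := fun k l => by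
    have e0 : ((t⁻¹ : GL ι F) : Mn) *ᵥ (k • b + l • b') = (k - T l) • b + l • b' := by
      conv_lhs => rw [show k • b + l • b' = (t : Mn) *ᵥ ((k - T l) • b + l • b') by rw [ht', sub_add_cancel]]
      rw [inv_mulVec_cancel]
    rw [hg, Units.val_mul, Units.val_mul, ← Matrix.mulVec_mulVec, ← Matrix.mulVec_mulVec, e0, hs', ht']
    simp only [map_sub, map_add, hTST, sub_zero]
    congr 2 <;> ring
  refine ⟨g * u * g⁻¹, mul_mem (mul_mem hgM hu) (inv_mem hgM), fun x => ?_⟩
  obtain ⟨y, rfl⟩ : ∃ y, (g : Mn) *ᵥ y = x := ⟨_, mulVec_inv_cancel g x⟩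
  rw [Units.val_mul, Units.val_mul, ← Matrix.mulVec_mulVec, ← Matrix.mulVec_mulVec, inv_mulVec_cancel,
    H.decomp hb hb' h1 h2 y, hu', hg', hg', hc2]
  simp only [LinearMap.comp_apply, LinearMap.sub_apply, LinearMap.id_apply, LinearMap.mulLeft_apply, map_add,
    map_sub, hTST, add_zero, sub_zero, add_sub_cancel_right]
  module

set_option maxHeartbeats 1000000 in
/-- A full component gives a member of the other component at the other line. -/
theorem exists_other (hr : r = 5) {b b' : V} (hb0 : b ≠ 0) (hb'0 : b' ≠ 0) (hb : h b b = 0) (hb' : h b' b' = 0)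
    (h1 : h b' b = 1) (h2 : h b b' = 1) {ψ ψ' : K ≃ₐ[F] K} (hψ : Gen ψ)
    (hdec : ∀ T, IsSkew τ T → ∃ e c c', τ e = -e ∧ T = LinearMap.mulLeft F e + skewOp τ ψ c + skewOp τ ψ' c')
    (hF : Full h M b τ ψ) : ∃ c' : K, c' ≠ 0 ∧ InB h M b' (skewOp τ ψ' c') := by
  classical
  have H := O.form
  haveI := finiteK (F := F) (K := K)
  have hF' : Full h M b' τ ψ := O.full_move hb hb' (by rw [h1]; exact one_ne_zero) hF
  by_contra hcon
  push Not at hcon
  have hsmall : ∀ S, InB h M b' S → 3 ≤ finrank F (LinearMap.ker S) → S = 0 := fun S hS hker => by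
    obtain ⟨e, c, c', he, rfl⟩ := hdec S (O.skew hb'0 hb' hS)
    have hc' : c' = 0 := by
      by_contra hne
      refine hcon c' hne ?_
      have := O.inB_sub hb' hS (O.inB_add hb' (O.inB_root hb' he) (hF' c))
      convert this using 1
      abel
    rw [hc', skewOp_zero, add_zero] at hker ⊢
    by_contra hne
    have h4 : e ≠ 0 ∨ c ≠ 0 := by
      by_contra h0
      push Not at h0
      refine hne ?_
      rw [h0.1, h0.2, skewOp_zero, add_zero]
      exact LinearMap.ext fun x => zero_mul x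
    have := H.ker_comp_le_two hψ h4
    omega
  obtain ⟨eT, cT, heT, hcT, hTker⟩ := H.exists_rank_three hr hψ
  obtain ⟨T, hTdef⟩ : ∃ T, T = LinearMap.mulLeft F eT + skewOp τ ψ cT := ⟨_, rfl⟩
  rw [← hTdef] at hTker
  have hT : InB h M b T := hTdef ▸ O.inB_add hb (O.inB_root hb heT) (hF cT)
  have hTs := O.skew hb0 hb hT
  have hTr : finrank F (LinearMap.range T) = 3 := by
    have h3 := T.finrank_range_add_finrank_ker
    rw [hTker, H.deg, hr] at h3
    omega
  let B := Module.finBasisOfFinrankEq F (LinearMap.range T) hTr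
  have hperp : ∀ z, (∀ i, tr (z * τ (B i : K)) = 0) → T z = 0 := fun z hz => by
    have hall : ∀ x, tr (z * τ (T x)) = 0 := fun x => by
      have hsum := congrArg Subtype.val (B.sum_repr ⟨T x, LinearMap.mem_range_self T x⟩)
      rw [Submodule.coe_sum] at hsum
      rw [show T x = _ from hsum.symm, map_sum τ, Finset.mul_sum, map_sum]
      refine Finset.sum_eq_zero fun i _ => ?_
      rw [Submodule.coe_smul, Algebra.smul_def, map_mul τ, H.base, ← Algebra.smul_def, mul_smul_comm, map_smul, hz,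
        smul_zero]
    refine tr_ext (F := F) fun k => ?_
    have h3 := hTs z (τ k)
    rw [hall, add_zero, H.invol, mul_comm] at h3
    rw [h3, mul_zero, map_zero]
  -- elements sending the range into the kernel
  let Zt := {S : K →ₗ[F] K // InB h M b' S ∧ ∀ x, T (S (T x)) = 0}
  let SF := {c : F // c + σ c = 0}
  let D := {e : K // τ e = -e} × K
  let Θ : D → (K →ₗ[F] K) := fun a => LinearMap.mulLeft F (a.1 : K) + skewOp τ ψ a.2
  have hΘ : ∀ a, InB h M b' (Θ a) := fun a => O.inB_add hb' (O.inB_root hb' a.1.2) (hF' a.2)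
  have hΘi : Function.Injective Θ := fun a a' e => by
    by_contra hne
    have h0 : LinearMap.mulLeft F ((a.1 : K) - a'.1) + skewOp τ ψ (a.2 - a'.2) = 0 := by
      refine LinearMap.ext fun x => ?_
      have := LinearMap.congr_fun e x
      simp only [Θ, LinearMap.add_apply, LinearMap.mulLeft_apply, skewOp_apply, map_sub, LinearMap.zero_apply]
        at this ⊢
      linear_combination this
    have h4 := H.ker_comp_le_two hψ (e := (a.1 : K) - a'.1) (c := a.2 - a'.2) (by
      by_contra h5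
      push Not at h5
      exact hne (Prod.ext (Subtype.ext (sub_eq_zero.1 h5.1)) (sub_eq_zero.1 h5.2)))
    rw [h0, LinearMap.ker_zero, finrank_top, H.deg, hr] at h4
    omega
  have hskew : ∀ a x, tr (Θ a x * τ x) + σ (tr (Θ a x * τ x)) = 0 := fun a x => by
    have h3 := O.skew hb'0 hb' (hΘ a) x x
    rw [← H.tr_tau, map_mul τ, H.invol, mul_comm (τ (Θ a x))]
    exact h3
  let Φ : D → SF × SF × SF × F × F × F := fun a =>
    (⟨tr (Θ a (B 0) * τ (B 0 : K)), hskew a _⟩, ⟨tr (Θ a (B 1) * τ (B 1 : K)), hskew a _⟩,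
      ⟨tr (Θ a (B 2) * τ (B 2 : K)), hskew a _⟩, tr (Θ a (B 0) * τ (B 1 : K)), tr (Θ a (B 0) * τ (B 2 : K)),
      tr (Θ a (B 1) * τ (B 2 : K)))
  have hZ : ∀ a a', Φ a = Φ a' → InB h M b' (Θ a - Θ a') ∧ ∀ x, T ((Θ a - Θ a') (T x)) = 0 := fun a a' e => by
    have hS : InB h M b' (Θ a - Θ a') := O.inB_sub hb' (hΘ a) (hΘ a')
    refine ⟨hS, fun x => ?_⟩
    simp only [Φ, Prod.mk.injEq] at e
    obtain ⟨e00, e11, e22, e01, e02, e12⟩ := e
    have hzero : ∀ i j, tr ((Θ a - Θ a') (B i) * τ (B j : K)) = 0 := by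
      have hflip : ∀ i j, tr ((Θ a - Θ a') (B i) * τ (B j : K)) = 0 →
          tr ((Θ a - Θ a') (B j) * τ (B i : K)) = 0 := fun i j h0 => by
        have h3 := O.skew hb'0 hb' hS (B j : K) (B i : K)
        have h4 : tr ((B j : K) * τ ((Θ a - Θ a') (B i : K))) = 0 := by
          rw [show (B j : K) * τ ((Θ a - Θ a') (B i : K)) = τ ((Θ a - Θ a') (B i : K) * τ (B j : K)) by
            rw [map_mul τ, H.invol, mul_comm], H.tr_tau, h0, map_zero]
        rwa [h4, add_zero] at h3
      have k00 : tr ((Θ a - Θ a') (B 0) * τ (B 0 : K)) = 0 := by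
        rw [LinearMap.sub_apply, sub_mul, map_sub, sub_eq_zero]
        exact congrArg Subtype.val e00
      have k11 : tr ((Θ a - Θ a') (B 1) * τ (B 1 : K)) = 0 := by
        rw [LinearMap.sub_apply, sub_mul, map_sub, sub_eq_zero]
        exact congrArg Subtype.val e11
      have k22 : tr ((Θ a - Θ a') (B 2) * τ (B 2 : K)) = 0 := by
        rw [LinearMap.sub_apply, sub_mul, map_sub, sub_eq_zero]
        exact congrArg Subtype.val e22
      have k01 : tr ((Θ a - Θ a') (B 0) * τ (B 1 : K)) = 0 := by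
        rw [LinearMap.sub_apply, sub_mul, map_sub, e01, sub_self]
      have k02 : tr ((Θ a - Θ a') (B 0) * τ (B 2 : K)) = 0 := by
        rw [LinearMap.sub_apply, sub_mul, map_sub, e02, sub_self]
      have k12 : tr ((Θ a - Θ a') (B 1) * τ (B 2 : K)) = 0 := by
        rw [LinearMap.sub_apply, sub_mul, map_sub, e12, sub_self]
      intro i j
      fin_cases i <;> fin_cases j <;>
        first | assumption | exact hflip _ _ k01 | exact hflip _ _ k02 | exact hflip _ _ k12
    have hBz : ∀ i, T ((Θ a - Θ a') (B i : K)) = 0 := fun i => hperp _ (hzero i)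
    have hsum := congrArg Subtype.val (B.sum_repr ⟨T x, LinearMap.mem_range_self T x⟩)
    rw [Submodule.coe_sum] at hsum
    rw [show T x = _ from hsum.symm, map_sum, map_sum]
    exact Finset.sum_eq_zero fun i _ => by rw [Submodule.coe_smul, map_smul, map_smul, hBz, smul_zero]
  haveI : Finite (K →ₗ[F] K) := Finite.of_injective _ DFunLike.coe_injective
  obtain ⟨k, hk⟩ : ∃ k, k = Nat.card {s : K // τ s = s} := ⟨_, rfl⟩
  have hZcard : k < Nat.card Zt := by
    have hle : Nat.card D ≤ Nat.card (Zt × (SF × SF × SF × F × F × F)) := by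
      haveI : Nonempty D := ⟨(⟨0, by rw [map_zero, neg_zero]⟩, 0)⟩
      refine Nat.card_le_card_of_injective (fun a => ((⟨Θ a - Θ (Function.invFun Φ (Φ a)),
        hZ _ _ (Function.invFun_eq ⟨a, rfl⟩).symm⟩ : Zt), Φ a)) fun a a' e => ?_
      obtain ⟨e1, e2⟩ := Prod.mk.injEq _ _ _ _ ▸ e
      have e3 := congrArg Subtype.val e1
      simp only [e2] at e3
      exact hΘi (sub_left_inj.1 e3)
    simp only [D, Nat.card_prod, H.card_skewK, Nat.card_eq_fintype_card (α := K), ← H.card_fix,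
      Nat.card_eq_fintype_card (α := F)] at hle
    rw [← hk] at hle
    obtain ⟨q, hq⟩ : ∃ q, q = Nat.card SF := ⟨_, rfl⟩
    have hq2 : q ^ 2 ≤ Fintype.card F := hq ▸ H.card_skew_sq
    rw [← hq] at hle
    obtain ⟨Q, hQ⟩ : ∃ Q, Q = Fintype.card F := ⟨_, rfl⟩
    rw [← hQ] at hle hq2
    have hk2 : k ^ 2 = Q ^ 5 := by rw [hk, H.card_fix, H.card_K, hr, hQ]
    by_contra hlt
    push Not at hlt
    have hk0 : 0 < k := by
      rcases Nat.eq_zero_or_pos k with e | e
      · rw [e] at hk2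
        exact absurd hk2.symm (pow_ne_zero 5 (by rw [hQ]; exact Fintype.card_ne_zero))
      · exact e
    have h3 : k ^ 2 ≤ q ^ 3 * Q ^ 3 := by
      refine Nat.le_of_mul_le_mul_left (le_trans hle ?_) hk0
      calc _ ≤ k * (q * (q * (q * (Q * (Q * Q))))) := Nat.mul_le_mul_right _ hlt
        _ = _ := by ring
    rw [hk2, show Q ^ 5 = Q ^ 2 * Q ^ 3 by ring] at h3
    have hQ1 : 1 < Q := hQ ▸ Fintype.one_lt_card
    have h4 : Q ^ 2 ≤ q ^ 3 := Nat.le_of_mul_le_mul_right h3 (pow_pos (by omega) 3)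
    have h5 : (Q ^ 2) ^ 2 ≤ Q ^ 3 := by
      calc (Q ^ 2) ^ 2 ≤ (q ^ 3) ^ 2 := Nat.pow_le_pow_left h4 2
        _ = (q ^ 2) ^ 3 := by ring
        _ ≤ Q ^ 3 := Nat.pow_le_pow_left hq2 3
    rw [← pow_mul] at h5
    exact absurd ((Nat.pow_le_pow_iff_right hQ1).1 h5) (by norm_num)
  -- the second differences
  have hbr : ∀ S₁ S₂ : Zt, ∀ y y', T (S₂.1 y) * τ (T (S₁.1 y')) + T (S₁.1 y) * τ (T (S₂.1 y')) = 0 := by
    intro S₁ S₂ y y'
    refine H.eq_zero_of_skew_tr fun e he => ?_
    have hS12 : InB h M b' (S₁.1 + S₂.1) ∧ ∀ x, T ((S₁.1 + S₂.1) (T x)) = 0 :=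
      ⟨O.inB_add hb' S₁.2.1 S₂.2.1, fun x => by rw [LinearMap.add_apply, map_add, S₁.2.2, S₂.2.2, add_zero]⟩
    have q12 := O.inB_twist hb0 hb'0 hb hb' h1 h2 hT hS12.1 hS12.2 he
    have q1 := O.inB_twist hb0 hb'0 hb hb' h1 h2 hT S₁.2.1 S₁.2.2 he
    have q2 := O.inB_twist hb0 hb'0 hb hb' h1 h2 hT S₂.2.1 S₂.2.2 he
    obtain ⟨R, hR⟩ : ∃ R : K →ₗ[F] K, R = S₁.1.comp (T.comp ((LinearMap.mulLeft F e).comp (T.comp S₂.1))) +
        S₂.1.comp (T.comp ((LinearMap.mulLeft F e).comp (T.comp S₁.1))) := ⟨_, rfl⟩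
    have hRin : InB h M b' R := by
      have := O.inB_add hb' (O.inB_sub hb' (O.inB_sub hb' q12 q1) q2) (O.inB_root hb' he)
      convert this using 1
      refine LinearMap.ext fun x => ?_
      simp only [hR, LinearMap.add_apply, LinearMap.sub_apply, LinearMap.comp_apply, LinearMap.id_apply,
        LinearMap.mulLeft_apply, map_add, map_sub, mul_sub, mul_add]
      abel
    have hR0 : R = 0 := hsmall R hRin (by
      have hle : LinearMap.range R ≤ LinearMap.ker T := by
        rintro _ ⟨x, rfl⟩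
        rw [LinearMap.mem_ker, hR, LinearMap.add_apply, map_add]
        simp only [LinearMap.comp_apply, S₁.2.2, S₂.2.2, add_zero]
      have := H.ker_ge_of_range_le ((Submodule.finrank_mono hle).trans_eq hTker)
      omega)
    have hpair : ∀ S S' : Zt, tr (S.1 (T (e * T (S'.1 y))) * τ y') = tr (e * (T (S'.1 y) * τ (T (S.1 y')))) :=
      fun S S' => by
        have h3 := O.skew hb'0 hb' S.2.1 (T (e * T (S'.1 y))) y'
        have h4 := hTs (e * T (S'.1 y)) (S.1 y')
        rw [← mul_assoc]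
        linear_combination h3 - h4
    have h5 : tr (R y * τ y') = 0 := by rw [hR0, LinearMap.zero_apply, zero_mul, map_zero]
    rw [hR, LinearMap.add_apply, add_mul, map_add] at h5
    simp only [LinearMap.comp_apply, LinearMap.mulLeft_apply] at h5
    rw [hpair S₁ S₂, hpair S₂ S₁, ← map_add, ← mul_add] at h5
    exact h5
  obtain ⟨S₀, hS₀ne, hS₀⟩ : ∃ S₀ : Zt, S₀.1 ≠ 0 ∧ ∀ y, T (S₀.1 y) = 0 := by
    by_cases hall : ∀ S : Zt, ∀ y, T (S.1 y) = 0
    · haveI : Nontrivial Zt := Finite.one_lt_card_iff_nontrivial.1 (by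
        have : 0 < k := by
          rw [hk]
          haveI : Nonempty {s : K // τ s = s} := ⟨⟨0, map_zero τ⟩⟩
          exact Nat.card_pos
        omega)
      obtain ⟨S, S', hne⟩ := exists_pair_ne Zt
      by_cases h0 : S.1 = 0
      · exact ⟨S', fun e => hne (Subtype.ext (by rw [h0, e])), hall S'⟩
      · exact ⟨S, h0, hall S⟩
    push Not at hall
    obtain ⟨S, y, hv⟩ := hall
    let j : Zt → {e : K // τ e = -e} := fun S' => ⟨T (S'.1 y) / T (S.1 y), by
      have h3 := hbr S S' y y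
      have hτv : τ (T (S.1 y)) ≠ 0 := fun e => hv (H.tau_eq_zero.1 e)
      rw [map_div₀, neg_div', div_eq_div_iff hτv hv]
      linear_combination h3⟩
    obtain ⟨S₁, S₂, hne, heq⟩ : ∃ S₁ S₂ : Zt, S₁ ≠ S₂ ∧ j S₁ = j S₂ := by
      by_contra h3
      push Not at h3
      have := Nat.card_le_card_of_injective j fun a a' e => by_contra fun hne => h3 a a' hne e
      rw [H.card_skewK, ← hk] at this
      omega
    have hd : InB h M b' (S₁.1 - S₂.1) ∧ ∀ x, T ((S₁.1 - S₂.1) (T x)) = 0 :=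
      ⟨O.inB_sub hb' S₁.2.1 S₂.2.1, fun x => by rw [LinearMap.sub_apply, map_sub, S₁.2.2, S₂.2.2, sub_zero]⟩
    obtain ⟨S₀, hS₀⟩ : ∃ S₀ : Zt, S₀.1 = S₁.1 - S₂.1 := ⟨⟨_, hd⟩, rfl⟩
    have hy : T (S₀.1 y) = 0 := by
      have e := congrArg Subtype.val heq
      rw [hS₀, LinearMap.sub_apply, map_sub, sub_eq_zero]
      exact (div_left_inj' hv).1 e
    refine ⟨S₀, fun e => hne (Subtype.ext (sub_eq_zero.1 (hS₀ ▸ e))), fun y' => ?_⟩
    have h3 := hbr S S₀ y y'
    rw [hy, zero_mul, zero_add, mul_eq_zero] at h3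
    exact H.tau_eq_zero.1 (h3.resolve_left hv)
  refine hS₀ne (hsmall _ S₀.2.1 ?_)
  have hle : LinearMap.range S₀.1 ≤ LinearMap.ker T := by
    rintro _ ⟨x, rfl⟩
    exact hS₀ x
  have := H.ker_ge_of_range_le ((Submodule.finrank_mono hle).trans_eq hTker)
  omega

end Over

end Cfsg.Agent.Classical.UnitFieldTwo
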