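import Cfsg.Agent.Lib.Classical.MaxUnitFieldTwoRad
import Cfsg.Agent.Lib.Classical.MaxOrthFieldBase

/-!
Overgroups of the unitary group of a plane over an extension: without unexpected elements singular lines go to
singular lines, and every element is semilinear.
-/

set_option autoImplicit false
set_option linter.unusedSectionVars false
set_option linter.style.haveILetI false
set_option quotPrecheck false

namespace Cfsg.Agent.Classical.UnitFieldTwo

open Matrix Module MaxTv

variable {F : Type*} [Field F] [Fintype F] {ι : Type} [Fintype ι] [DecidableEq ι]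
variable {K : Type*} [Field K] [Fintype K] [Algebra F K] [Module K (ι → F)] [IsScalarTower F K (ι → F)]

local notation "V" => (ι → F)
local notation "Mn" => Matrix ι ι F
local notation "tr" => Algebra.trace F K

/-- The coordinate of a line. -/
def lineMap (b : ι → F) : K →ₗ[F] (ι → F) := (LinearMap.toSpanSingleton K (ι → F) b).restrictScalars F

theorem lineMap_apply (b : V) (k : K) : lineMap b k = k • b := rfl

/-- The image of a line. -/
def img (g : GL ι F) (b : ι → F) : K →ₗ[F] (ι → F) := (Matrix.toLin' (g : Matrix ι ι F)).comp (lineMap b)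

theorem img_apply (g : GL ι F) (b : V) (k : K) : img g b k = (g : Mn) *ᵥ (k • b) := rfl

namespace UForm

variable {r : ℕ} {σ : F ≃+* F} {f : (ι → F) → (ι → F) → F} {τ : K ≃+* K} {h : (ι → F) → (ι → F) → K}
variable (H : UForm r σ f τ h)
include H

/-- A skew element making a small subspace totally isotropic. -/
theorem exists_skew_sub (D : Submodule F K) (hD : finrank F D ^ 2 < r) :
    ∃ e : K, e ≠ 0 ∧ τ e = -e ∧ ∀ x ∈ D, ∀ y ∈ D, tr (e * (x * τ y)) = 0 := by
  haveI := finiteK (F := F) (K := K)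
  let B := Module.finBasis F D
  obtain ⟨e, he0, hes, he⟩ := H.exists_skew_orth (fun p : Fin (finrank F D) × Fin (finrank F D) =>
    (B p.1 : K) * τ (B p.2 : K)) (fun p => ⟨(p.2, p.1), by rw [map_mul, H.invol, mul_comm]⟩)
    (by rw [Fintype.card_prod, Fintype.card_fin]; rw [pow_two] at hD; exact hD)
  refine ⟨e, he0, hes, fun x hx y hy => ?_⟩
  have hex : ∀ (z : K) (hz : z ∈ D), z = ∑ i, (B.repr ⟨z, hz⟩ i) • (B i : K) := fun z hz => by
    have := congrArg (Subtype.val) (B.sum_repr ⟨z, hz⟩)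
    rw [Submodule.coe_sum] at this
    exact this.symm
  rw [hex x hx, hex y hy, map_sum τ, Finset.sum_mul, Finset.mul_sum, map_sum]
  refine Finset.sum_eq_zero fun i _ => ?_
  rw [Finset.mul_sum, Finset.mul_sum, map_sum]
  refine Finset.sum_eq_zero fun j _ => ?_
  rw [Algebra.smul_def (R := F) (A := K), Algebra.smul_def (R := F) (A := K), map_mul τ, H.base]
  rw [show e * (algebraMap F K (B.repr ⟨x, hx⟩ i) * (B i : K) *
      (algebraMap F K (σ (B.repr ⟨y, hy⟩ j)) * τ (B j : K))) =
      (B.repr ⟨x, hx⟩ i * σ (B.repr ⟨y, hy⟩ j)) • (e * ((B i : K) * τ (B j : K))) by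
        rw [Algebra.smul_def, map_mul]; ring, map_smul, he (i, j), smul_zero]

/-- Few fixed elements have trace zero. -/
theorem card_trace_zero (S : Set K) (hS : ∀ z ∈ S, τ z = z ∧ tr z = 0) :
    Nat.card S ^ 2 ≤ Fintype.card F ^ (r - 1) := by
  obtain ⟨a, ha⟩ := H.herm.exists_moved
  haveI := finiteK (F := F) (K := K)
  have hle : Nat.card (S × S) ≤ Nat.card (LinearMap.ker (Algebra.trace F K)) := by
    refine Nat.card_le_card_of_injective (fun p => ⟨(p.1 : K) + a • (p.2 : K), LinearMap.mem_ker.2 (by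
      rw [map_add, map_smul, (hS _ p.1.2).2, (hS _ p.2.2).2, smul_zero, add_zero])⟩) fun p p' e => ?_
    have e1 : (p.1 : K) + a • (p.2 : K) = (p'.1 : K) + a • (p'.2 : K) := congrArg Subtype.val e
    have e2 := congrArg τ e1
    simp only [Algebra.smul_def, map_add, map_mul, H.base, (hS _ p.1.2).1, (hS _ p.2.2).1, (hS _ p'.1.2).1,
      (hS _ p'.2.2).1] at e1 e2
    have e3 : algebraMap F K (a - σ a) * ((p.2 : K) - p'.2) = 0 := by
      rw [map_sub]; linear_combination e1 - e2
    have h2 : (p.2 : K) = p'.2 := sub_eq_zero.1 ((mul_eq_zero.1 e3).resolve_left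
      ((_root_.map_ne_zero _).2 (sub_ne_zero.2 (Ne.symm ha))))
    exact Prod.ext (Subtype.ext (by rw [h2] at e1; linear_combination e1)) (Subtype.ext h2)
  have hk : finrank F (LinearMap.ker (Algebra.trace F K)) = r - 1 := by
    have h1 := (Algebra.trace F K).finrank_range_add_finrank_ker
    rw [LinearMap.range_eq_top.2 (Algebra.trace_surjective F K), finrank_top, Module.finrank_self, H.deg] at h1
    omega
  rw [Nat.card_prod, (Module.natCard_eq_pow_finrank (K := F) :
    Nat.card (LinearMap.ker (Algebra.trace F K)) = Nat.card F ^ finrank F (LinearMap.ker (Algebra.trace F K))), hk,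
    Nat.card_eq_fintype_card (α := F), ← pow_two] at hle
  exact hle

end UForm

namespace Over

variable {r : ℕ} {σ : F ≃+* F} {f : (ι → F) → (ι → F) → F} {τ : K ≃+* K} {h : (ι → F) → (ι → F) → K}
  {M : Subgroup (GL ι F)} (O : Over r σ f τ h M)
include O

theorem img_orth {g : GL ι F} (hg : g ∈ M) {b : V} (hb : h b b = 0) (k l : K) :
    f (img g b k) (img g b l) = 0 := by
  rw [img_apply, img_apply, O.iso g hg, O.form.form, O.form.smul_left, O.form.smul_right, hb, mul_zero,
    mul_zero, map_zero]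

theorem img_inj {g : GL ι F} {b : V} (hb : b ≠ 0) : Function.Injective (img (K := K) g b) :=
  fun _ _ e => smul_left_injective K hb (gl_mulVec_injective g e)

/-- The image of a singular line is its own perpendicular. -/
theorem mem_img {g : GL ι F} (hg : g ∈ M) {c : V} (hc0 : c ≠ 0) (hc : h c c = 0) {w : V}
    (hw : ∀ k : K, f w (img g c k) = 0) : w ∈ LinearMap.range (img (K := K) g c) := by
  have H := O.form
  obtain ⟨z, rfl⟩ : ∃ z, (g : Mn) *ᵥ z = w := ⟨_, mulVec_inv_cancel g w⟩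
  obtain ⟨k, rfl⟩ := H.mem_line hc0 hc (w := z) (tr_ext (F := F) fun k => by
    rw [mul_zero, map_zero, ← H.invol k, ← H.smul_right, ← H.form, ← O.iso g hg]
    exact hw (τ k))
  exact ⟨k, rfl⟩

/-- The image of a singular line contains a singular vector. -/
theorem exists_sing_img {g : GL ι F} (hg : g ∈ M) {b : V} (hb : h b b = 0) :
    ∃ k : K, k ≠ 0 ∧ h (img g b k) (img g b k) = 0 := by
  classical
  have H := O.form
  obtain ⟨p, hp⟩ := CharP.exists K
  haveI : Fact p.Prime := ⟨CharP.char_is_prime K p⟩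
  letI : Algebra (ZMod p) K := ZMod.algebra K p
  haveI : Module.Finite (ZMod p) K := Module.Finite.of_finite
  let Z₀ : AddSubgroup K :=
    { carrier := {z | τ z = z ∧ tr z = 0}
      add_mem' := fun {a b} ha hb => ⟨by rw [map_add, ha.1, hb.1], by rw [map_add, ha.2, hb.2, add_zero]⟩
      zero_mem' := ⟨map_zero τ, map_zero _⟩
      neg_mem' := fun {a} ha => ⟨by rw [map_neg, ha.1], by rw [map_neg, ha.2, neg_zero]⟩ }
  let Z : Submodule (ZMod p) K := AddSubgroup.toZModSubmodule p Z₀
  obtain ⟨C, hC⟩ := Submodule.exists_isCompl Z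
  let π : K →ₗ[ZMod p] Z := Z.projectionOnto C hC
  let bz := Module.finBasis (ZMod p) Z
  let Φ : (Fin (finrank (ZMod p) K) → ZMod p) ≃ₗ[ZMod p] K := (Module.finBasis (ZMod p) K).equivFun.symm
  let q : (Fin (finrank (ZMod p) K) → ZMod p) → (Fin (finrank (ZMod p) K) → ZMod p) → K :=
    fun x y => h (img g b (Φ x)) (img g b (Φ y))
  have qa : ∀ x x' y, q (x + x') y = q x y + q x' y := fun x x' y => by
    simp only [q, map_add, H.add_left]
  have qb : ∀ x y y', q x (y + y') = q x y + q x y' := fun x y y' => by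
    simp only [q, map_add, H.add_right]
  have qs : ∀ (c : ZMod p) x y, q (c • x) y = c • q x y := fun c x y =>
    ZMod.map_smul (AddMonoidHom.mk' (fun x => q x y) fun a a' => qa a a' y) c x
  have qt : ∀ (c : ZMod p) x y, q x (c • y) = c • q x y := fun c x y =>
    ZMod.map_smul (AddMonoidHom.mk' (fun y => q x y) fun a a' => qb x a a') c y
  let β : Fin (finrank (ZMod p) Z) → LinearMap.BilinForm (ZMod p) (Fin (finrank (ZMod p) K) → ZMod p) := fun i =>
    LinearMap.mk₂ (ZMod p) (fun x y => bz.equivFun (π (q x y)) i)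
      (fun x x' y => by simp only [qa, map_add, Pi.add_apply])
      (fun c x y => by simp only [qs, map_smul, Pi.smul_apply])
      (fun x y y' => by simp only [qb, map_add, Pi.add_apply])
      (fun c x y => by simp only [qt, map_smul, Pi.smul_apply])
  have hdim : 2 * finrank (ZMod p) Z < finrank (ZMod p) K := by
    have h1 : Nat.card Z ^ 2 ≤ Fintype.card F ^ (r - 1) :=
      H.card_trace_zero (S := (Z₀ : Set K)) fun z hz => hz
    have h2 : Nat.card Z = p ^ finrank (ZMod p) Z := by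
      rw [Module.natCard_eq_pow_finrank (K := ZMod p), Nat.card_zmod]
    have h3 : Nat.card K = p ^ finrank (ZMod p) K := by
      rw [Module.natCard_eq_pow_finrank (K := ZMod p), Nat.card_zmod]
    rw [Nat.card_eq_fintype_card, H.card_K] at h3
    rw [h2] at h1
    refine (Nat.pow_lt_pow_iff_right (Fact.out (p := p.Prime)).one_lt).1 ?_
    rw [← h3, mul_comm, pow_mul]
    exact lt_of_le_of_lt h1 (Nat.pow_lt_pow_right Fintype.one_lt_card (by have := H.two_le; omega))
  obtain ⟨x, -, hx0, hx⟩ := OrthField.exists_common_zero' (W := ⊤) β (fun _ => 0)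
    (by rw [finrank_top, Module.finrank_fin_fun]; exact hdim)
  refine ⟨Φ x, fun e => hx0 (Φ.map_eq_zero_iff.1 e), ?_⟩
  have hmem : q x x ∈ Z := ⟨H.self_fix _, by rw [← H.form, O.img_orth hg hb]⟩
  have hz : π (q x x) = 0 := bz.equivFun.map_eq_zero_iff.1 (funext fun i => by
    have := hx i
    rw [LinearMap.zero_apply, add_zero] at this
    exact this)
  have h4 := Submodule.projectionOnto_apply_left hC ⟨q x x, hmem⟩
  rw [show Z.projectionOnto C hC (q x x) = 0 from hz] at h4
  exact (congrArg Subtype.val h4).symm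

/-- The coordinates of a meet of a line and an image of a line. -/
theorem finrank_ker_eta {g : GL ι F} {b c : V} (hb0 : b ≠ 0) (hb : h b b = 0) (hc0 : c ≠ 0) :
    finrank F (LinearMap.ker (((O.form.hlin b).restrictScalars F).comp (img (K := K) g c))) =
      finrank F ((LinearMap.range (img (K := K) g c)).comap (lineMap (K := K) b)) := by
  have H := O.form
  haveI := finiteK (F := F) (K := K)
  obtain ⟨η, hη⟩ : ∃ η : K →ₗ[F] K, η = ((H.hlin b).restrictScalars F).comp (img g c) := ⟨_, rfl⟩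
  rw [← hη]
  rw [(Submodule.equivMapOfInjective _ (O.img_inj (g := g) hc0) (LinearMap.ker η)).finrank_eq,
    (Submodule.equivMapOfInjective (lineMap (K := K) b) (fun _ _ e => smul_left_injective K hb0 e)
      ((LinearMap.range (img (K := K) g c)).comap (lineMap (K := K) b))).finrank_eq]
  refine congrArg (fun W : Submodule F V => finrank F W) (le_antisymm ?_ ?_)
  · rintro _ ⟨k, hk, rfl⟩
    have hk' : h (img g c k) b = 0 := by rw [hη] at hk; exact hk
    obtain ⟨s, hs⟩ := H.mem_line hb0 hb hk'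
    exact ⟨s, show s • b ∈ LinearMap.range (img (K := K) g c) from ⟨k, hs⟩, hs.symm⟩
  · rintro _ ⟨s, ⟨k, hk⟩, rfl⟩
    refine ⟨k, ?_, hk⟩
    show η k = 0
    rw [hη]
    show h (img g c k) b = 0
    rw [hk, lineMap_apply, H.smul_left, hb, mul_zero]

/-- The perpendicular of the meet coordinates is the projection of the image. -/
theorem perp_meet {g : GL ι F} (hg : g ∈ M) {b c : V} (hb0 : b ≠ 0) (hb : h b b = 0) (hc0 : c ≠ 0)
    (hc : h c c = 0) {z : K}
    (hz : ∀ d, lineMap (K := K) b d ∈ LinearMap.range (img (K := K) g c) → tr (d * τ z) = 0) :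
    ∃ k : K, h (img (K := K) g c k) b = z := by
  classical
  have H := O.form
  haveI := finiteK (F := F) (K := K)
  obtain ⟨D, hD⟩ : ∃ D, D = (LinearMap.range (img (K := K) g c)).comap (lineMap (K := K) b) := ⟨_, rfl⟩
  obtain ⟨η, hη⟩ : ∃ η : K →ₗ[F] K, η = ((H.hlin b).restrictScalars F).comp (img g c) := ⟨_, rfl⟩
  let L : K →ₗ[F] Module.Dual F D :=
    { toFun := fun z => ((tr).comp (LinearMap.mulLeft F z)).comp D.subtype
      map_add' := fun a b => LinearMap.ext fun d => by simp [add_mul]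
      map_smul' := fun a b => LinearMap.ext fun d => by simp }
  have hLs : Function.Surjective L := fun φ => by
    obtain ⟨φ', hφ'⟩ := LinearMap.exists_extend φ
    obtain ⟨w, hw⟩ := exists_tr φ'
    refine ⟨w, LinearMap.ext fun d => ?_⟩
    rw [← hφ']
    show tr (w * (d : K)) = φ' (d : K)
    rw [hw, mul_comm]
  have hL : finrank F (LinearMap.ker L) + finrank F D = r := by
    have h1 := L.finrank_range_add_finrank_ker
    rw [LinearMap.range_eq_top.2 hLs, finrank_top, Subspace.dual_finrank_eq, H.deg] at h1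
    omega
  have hmem : ∀ p ∈ LinearMap.range η, τ p ∈ LinearMap.ker L := by
    rintro _ ⟨k, rfl⟩
    refine LinearMap.mem_ker.2 (LinearMap.ext fun d => ?_)
    obtain ⟨l, hl⟩ : (d : K) ∈ (LinearMap.range (img (K := K) g c)).comap (lineMap (K := K) b) := hD ▸ d.2
    have := O.img_orth hg hc l k
    rw [hl, lineMap_apply, H.form, H.smul_left, H.symm] at this
    show tr (τ (η k) * (d : K)) = 0
    rw [hη, mul_comm]
    exact this
  have hcard : Nat.card (LinearMap.ker L) ≤ Nat.card (LinearMap.range η) := by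
    have h1 := η.finrank_range_add_finrank_ker
    rw [hη, O.finrank_ker_eta hb0 hb hc0, ← hη, ← hD, H.deg] at h1
    rw [Module.natCard_eq_pow_finrank (K := F), (Module.natCard_eq_pow_finrank (K := F) : Nat.card (LinearMap.range η) = Nat.card F ^ finrank F (LinearMap.range η)),
      show finrank F (LinearMap.range η) = finrank F (LinearMap.ker L) by omega]
  have hinj : Function.Injective (fun p : LinearMap.range η => (⟨τ p, hmem _ p.2⟩ : LinearMap.ker L)) :=
    fun p p' e => Subtype.ext (τ.injective (congrArg Subtype.val e))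
  obtain ⟨⟨_, k, rfl⟩, hk⟩ := (hinj.bijective_of_nat_card_le hcard).2
    ⟨τ z, LinearMap.mem_ker.2 (LinearMap.ext fun d => by
      show tr (τ z * (d : K)) = 0
      rw [mul_comm]
      exact hz d (show (d : K) ∈ (LinearMap.range (img (K := K) g c)).comap (lineMap (K := K) b) from hD ▸ d.2))⟩
  exact ⟨k, by have := τ.injective (congrArg Subtype.val hk); rwa [hη] at this⟩

/-- A meet of large dimension gives an unexpected element. -/
theorem meet_big (hno : ∀ b, b ≠ 0 → h b b = 0 → ¬ Extra h M b) {g : GL ι F} (hg : g ∈ M) {b c : V}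
    (hb0 : b ≠ 0) (hb : h b b = 0) (hc0 : c ≠ 0) (hc : h c c = 0) {D : Submodule F K}
    (hD : D = (LinearMap.range (img (K := K) g c)).comap (lineMap (K := K) b)) (hD2 : 2 ≤ finrank F D) (hDtop : D ≠ ⊤)
    (hsq : (r - finrank F D) ^ 2 < r) : False := by
  classical
  have H := O.form
  haveI := finiteK (F := F) (K := K)
  let η : K →ₗ[F] K := ((H.hlin b).restrictScalars F).comp (img g c)
  let ζ : K →ₗ[F] K := ((H.hlin c).restrictScalars F).comp (img g⁻¹ b)
  have hηr : finrank F (LinearMap.range η) = r - finrank F D := by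
    have h1 := η.finrank_range_add_finrank_ker
    rw [O.finrank_ker_eta hb0 hb hc0, ← hD, H.deg] at h1
    omega
  have hζr : finrank F (LinearMap.range ζ) = r - finrank F D := by
    have h1 := ζ.finrank_range_add_finrank_ker
    have h2 : LinearMap.ker ζ = D := by
      ext s
      constructor
      · intro hs
        obtain ⟨k, hk⟩ := H.mem_line hc0 hc (w := img g⁻¹ b s) hs
        rw [hD]
        refine ⟨k, ?_⟩
        rw [img_apply, ← hk, img_apply, mulVec_inv_cancel]
        rfl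
      · intro hs
        rw [hD] at hs
        obtain ⟨k, hk⟩ := hs
        show h (img g⁻¹ b s) c = 0
        rw [img_apply, ← lineMap_apply, ← hk, img_apply, inv_mulVec_cancel, H.smul_left, hc, mul_zero]
    rw [h2, H.deg] at h1
    omega
  obtain ⟨e, he0, hes, he⟩ := H.exists_skew_sub (LinearMap.range η) (by rwa [hηr])
  obtain ⟨e', he'0, he's, he'⟩ := H.exists_skew_sub (LinearMap.range ζ) (by rwa [hζr])
  have hη : ∀ k, e * η k ∈ D := fun k => by
    rw [hD]
    refine O.mem_img hg hc0 hc fun l => ?_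
    rw [lineMap_apply, H.form, H.smul_left, H.symm (img g c l) b, mul_assoc]
    exact he _ ⟨k, rfl⟩ _ ⟨l, rfl⟩
  have hζ : ∀ s, η (e' * ζ s) = 0 := fun s => by
    refine tr_ext (F := F) fun l => ?_
    have h1 : f (img g c (e' * ζ s)) (τ l • b) = 0 := by
      conv_lhs => rw [← mulVec_inv_cancel g (τ l • b)]
      rw [img_apply, O.iso g hg, H.form, H.smul_left, H.symm, mul_assoc]
      exact he' _ ⟨s, rfl⟩ _ ⟨τ l, rfl⟩
    rw [H.form, H.smul_right, H.invol] at h1
    rw [mul_zero, map_zero]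
    exact h1
  obtain ⟨u, hu, hux⟩ := O.root_mem hb hes
  obtain ⟨w, hw, hwx⟩ := O.root_mem hc he's
  obtain ⟨u', hu'def⟩ : ∃ u', u' = g * w * g⁻¹ := ⟨_, rfl⟩
  have hu'M : u' ∈ M := hu'def ▸ mul_mem (mul_mem hg hw) (inv_mem hg)
  let ζ' : V →ₗ[F] K := ((H.hlin c).restrictScalars F).comp (Matrix.toLin' ((g⁻¹ : GL ι F) : Mn))
  have hu'x : ∀ x, (u' : Mn) *ᵥ x = x + img g c (e' * ζ' x) := fun x => by
    rw [hu'def, Units.val_mul, Units.val_mul, ← Matrix.mulVec_mulVec, ← Matrix.mulVec_mulVec, hwx,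
      Matrix.mulVec_add, mulVec_inv_cancel]
    rfl
  -- the commutator
  have hdiff : ∀ y, ∃ d : K, ((u * u' : GL ι F) : Mn) *ᵥ y - ((u' * u : GL ι F) : Mn) *ᵥ y = d • b ∧ d ∈ D := by
    intro y
    obtain ⟨s, hs⟩ : ∃ s, s = e * h y b := ⟨_, rfl⟩
    obtain ⟨t, ht⟩ := H.mem_line hb0 hb (w := img g c (e' * ζ s)) (hζ s)
    refine ⟨e * η (e' * ζ' y) - t, ?_, sub_mem (hη _) (by rw [hD]; exact ⟨e' * ζ s, ht⟩)⟩
    rw [Units.val_mul, Units.val_mul, ← Matrix.mulVec_mulVec, ← Matrix.mulVec_mulVec, hux y, ← hs, hu'x, hu'x,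
      hux, map_add ζ', mul_add, map_add, H.add_left, mul_add, add_smul, ← hs, sub_smul, ← ht]
    show _ = (e * h (img g c (e' * ζ' y)) b) • b - img g c (e' * ζ s)
    rw [show ζ' (s • b) = ζ s from rfl]
    abel
  have hcomm : u * u' = u' * u := by
    obtain ⟨z, hz⟩ : ∃ z, z = u * u' * (u' * u)⁻¹ := ⟨_, rfl⟩
    have hzM : z ∈ M := hz ▸ mul_mem (mul_mem hu hu'M) (inv_mem (mul_mem hu'M hu))
    have hzs : ∀ x, ∃ d : K, (z : Mn) *ᵥ x - x = d • b ∧ d ∈ D := fun x => by
      obtain ⟨d, hd, hdD⟩ := hdiff ((((u' * u)⁻¹ : GL ι F) : Mn) *ᵥ x)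
      refine ⟨d, ?_, hdD⟩
      rw [mulVec_inv_cancel] at hd
      rw [hz, Units.val_mul, ← Matrix.mulVec_mulVec]
      exact hd
    obtain ⟨T, hT, hTx⟩ := O.inB_of_sub hb0 hb hzM fun x => ⟨_, (hzs x).choose_spec.1⟩
    obtain ⟨ν, hν⟩ : ∃ ν, ∀ χ, T χ = ν * χ := by
      by_contra hcon
      push Not at hcon
      exact hno b hb0 hb ⟨T, hT, hcon⟩
    obtain ⟨b', hb', h1, h2⟩ := H.exists_pair hb0 hb
    have hTD : ∀ χ, T χ ∈ D := fun χ => by
      obtain ⟨d, hd, hdD⟩ := hzs (χ • b')
      rw [hTx, add_sub_cancel_left, H.smul_left, h1, mul_one] at hd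
      exact smul_left_injective K hb0 hd ▸ hdD
    have hν0 : ν = 0 := by
      by_contra hν0
      refine hDtop (Submodule.eq_top_iff'.2 fun k => ?_)
      have := hTD (k / ν)
      rwa [hν, mul_div_cancel₀ _ hν0] at this
    have hz1 : z = 1 := Units.ext (Matrix.ext_iff_mulVec.2 fun x => by
      rw [hTx, hν, hν0, zero_mul, zero_smul, add_zero, Units.val_one, Matrix.one_mulVec])
    rw [hz] at hz1
    exact mul_inv_eq_one.1 hz1
  -- the action on the line
  let A : K →ₗ[F] K := ((O.form.hlin (Classical.choose (H.exists_pair hb0 hb))).restrictScalars F).comp (img u' b)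
  obtain ⟨b', hb'def⟩ : ∃ b', b' = Classical.choose (H.exists_pair hb0 hb) := ⟨_, rfl⟩
  obtain ⟨hb', h1, h2⟩ : h b' b' = 0 ∧ h b' b = 1 ∧ h b b' = 1 :=
    hb'def ▸ Classical.choose_spec (H.exists_pair hb0 hb)
  have hA : ∀ s, (u' : Mn) *ᵥ (s • b) = A s • b := fun s => by
    obtain ⟨t, ht⟩ := H.mem_line hb0 hb (w := img g c (e' * ζ s)) (hζ s)
    have e1 : (u' : Mn) *ᵥ (s • b) = (s + t) • b := by
      rw [hu'x, show ζ' (s • b) = ζ s from rfl, ht, add_smul]
    show _ = h (img u' b s) (Classical.choose (H.exists_pair hb0 hb)) • b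
    rw [img_apply, e1, ← hb'def, H.smul_left, h2, mul_one]
  have hAe : ∀ χ, A (e * χ) = e * h ((u' : Mn) *ᵥ (χ • b')) b := fun χ => by
    have e1 := congrArg (fun m : GL ι F => (m : Mn) *ᵥ (χ • b')) hcomm
    rw [Units.val_mul, Units.val_mul, ← Matrix.mulVec_mulVec, ← Matrix.mulVec_mulVec, hux, hux,
      Matrix.mulVec_add, hA, H.smul_left, h1, mul_one] at e1
    exact (smul_left_injective K hb0 (add_left_cancel e1)).symm
  have hroot : ∀ e₁ : K, τ e₁ = -e₁ → ∃ ν, ∀ y, A (e₁ / e * y) = ν * A y := fun e₁ he₁ => by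
    obtain ⟨u₁, hu₁, hu₁x⟩ := O.root_mem hb he₁
    obtain ⟨v, hv⟩ : ∃ v, v = u' * u₁ * u'⁻¹ := ⟨_, rfl⟩
    have hvM : v ∈ M := hv ▸ mul_mem (mul_mem hu'M hu₁) (inv_mem hu'M)
    have hvy : ∀ y, (v : Mn) *ᵥ ((u' : Mn) *ᵥ y) = (u' : Mn) *ᵥ y + A (e₁ * h y b) • b := fun y => by
      rw [hv, Units.val_mul, Units.val_mul, ← Matrix.mulVec_mulVec, ← Matrix.mulVec_mulVec, inv_mulVec_cancel,
        hu₁x, Matrix.mulVec_add, hA]
    obtain ⟨T, hT, hTx⟩ := O.inB_of_sub hb0 hb hvM fun x => ⟨A (e₁ * h (((u'⁻¹ : GL ι F) : Mn) *ᵥ x) b), by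
      conv_lhs => rw [← mulVec_inv_cancel u' x, hvy, mulVec_inv_cancel]
      rw [add_sub_cancel_left]⟩
    obtain ⟨ν, hν⟩ : ∃ ν, ∀ χ, T χ = ν * χ := by
      by_contra hcon
      push Not at hcon
      exact hno b hb0 hb ⟨T, hT, hcon⟩
    refine ⟨ν / e, fun y => ?_⟩
    obtain ⟨χ, rfl⟩ : ∃ χ, e * χ = y := ⟨y / e, by rw [mul_div_cancel₀ _ he0]⟩
    have e1 := hTx ((u' : Mn) *ᵥ (χ • b'))
    rw [hvy, H.smul_left, h1, mul_one] at e1
    rw [show e₁ / e * (e * χ) = e₁ * χ by field_simp, hAe,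
      smul_left_injective K hb0 (add_left_cancel e1), hν, ← mul_assoc, div_mul_cancel₀ _ he0]
  let S : Submodule F K :=
    { carrier := {s | ∃ ρ, ∀ y, A (s * y) = ρ * A y}
      add_mem' := fun {s t} ⟨ρ, hρ⟩ ⟨π, hπ⟩ => ⟨ρ + π, fun y => by rw [add_mul, map_add, hρ, hπ, add_mul]⟩
      zero_mem' := ⟨0, fun y => by simp⟩
      smul_mem' := fun a s ⟨ρ, hρ⟩ => ⟨a • ρ, fun y => by rw [smul_mul_assoc, map_smul, hρ, smul_mul_assoc]⟩ }
  have hS : S = ⊤ := H.span_fix fun s hs => by
    obtain ⟨ρ, hρ⟩ := hroot (s * e) (by rw [map_mul, hs, hes, mul_neg])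
    exact ⟨ρ, fun y => by rw [← hρ, mul_div_cancel_right₀ _ he0]⟩
  -- fixed on the meet
  have hu'fix : ∀ k, (u' : Mn) *ᵥ img g c k = img g c k := fun k => by
    rw [hu'x, show ζ' (img g c k) = 0 from by
      show h ((Matrix.toLin' ((g⁻¹ : GL ι F) : Mn)) (img (K := K) g c k)) c = 0
      rw [img_apply, Matrix.toLin'_apply]
      rw [inv_mulVec_cancel, H.smul_left, hc, mul_zero], mul_zero, map_zero, add_zero]
  have hAD : ∀ d ∈ D, A d = d := fun d hd => by
    rw [hD] at hd
    obtain ⟨k, hk⟩ := hd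
    refine smul_left_injective K hb0 ?_
    show A d • b = d • b
    rw [← hA, ← lineMap_apply, ← hk, hu'fix]
  obtain ⟨d, hd, hd0⟩ := Submodule.exists_mem_ne_zero_of_ne_bot (p := D) fun e => by
    rw [e, finrank_bot] at hD2; omega
  obtain ⟨d₂, hd₂, hd₂F⟩ : ∃ d₂ ∈ D, d₂ ∉ F ∙ d := by
    by_contra hcon
    push Not at hcon
    have := Submodule.finrank_mono (R := F) (show D ≤ F ∙ d from hcon)
    rw [finrank_span_singleton hd0] at this
    omega
  let G : Subalgebra F K :=
    { carrier := {s | ∀ y, A (s * y) = s * A y}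
      mul_mem' := fun {s t} hs ht y => by rw [mul_assoc, hs, ht, mul_assoc]
      add_mem' := fun {s t} hs ht y => by rw [add_mul, map_add, hs, ht, add_mul]
      algebraMap_mem' := fun a y => by rw [← Algebra.smul_def, map_smul, ← Algebra.smul_def] }
  have hG : G = ⊤ := by
    haveI : IsSimpleOrder (Subalgebra F K) := Subalgebra.isSimpleOrder_of_finrank_prime F K (by
      rw [H.deg]; rcases H.size with e | e <;> rw [e.1] <;> norm_num)
    refine (eq_bot_or_eq_top G).resolve_left fun hbot => ?_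
    obtain ⟨ρ, hρ⟩ : d₂ / d ∈ S := hS ▸ Submodule.mem_top
    have h3 := hρ d
    rw [div_mul_cancel₀ _ hd0, hAD _ hd₂, hAD _ hd] at h3
    have hmem : d₂ / d ∈ G := fun y => by rw [hρ, h3, mul_div_cancel_right₀ _ hd0]
    rw [hbot, Algebra.mem_bot] at hmem
    obtain ⟨a, ha⟩ := hmem
    refine hd₂F (Submodule.mem_span_singleton.2 ⟨a, ?_⟩)
    rw [Algebra.smul_def, ha, div_mul_cancel₀ _ hd0]
  have hA1 : ∀ y, A y = y := fun y => by
    have h3 : ∀ s, A s = s * A 1 := fun s => by
      have hs : s ∈ G := hG ▸ Algebra.mem_top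
      simpa using hs 1
    have h4 := h3 d
    rw [hAD _ hd] at h4
    have h5 : A 1 = 1 := mul_left_cancel₀ hd0 (by rw [← h4, mul_one])
    rw [h3, h5, mul_one]
  have hin : ∀ k : K, lineMap (K := K) b k ∈ LinearMap.range (img (K := K) g c) := by
    have hsub : ∀ k : K, ∃ s : K, img g c k = s • b := fun k => by
      obtain ⟨c', -, hc1, -⟩ := H.exists_pair hc0 hc
      obtain ⟨s, hs⟩ := O.sub_line_of_fix hb0 hb hu'M (fun l => by rw [hA, hA1])
        ((g : Mn) *ᵥ ((k / e') • c'))
      refine ⟨s, ?_⟩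
      rw [hu'x, add_sub_cancel_left] at hs
      rw [← hs]
      show img g c k = img g c (e' * h (((g⁻¹ : GL ι F) : Mn) *ᵥ ((g : Mn) *ᵥ ((k / e') • c'))) c)
      rw [inv_mulVec_cancel, H.smul_left, hc1, mul_one, mul_div_cancel₀ _ he'0]
    choose s hs using hsub
    have hs_inj : Function.Injective s := fun x y e => O.img_inj hc0 (by rw [hs, hs, e])
    intro k
    obtain ⟨l, rfl⟩ := (Finite.injective_iff_surjective.1 hs_inj) k
    exact ⟨l, hs l⟩
  exact hDtop (by rw [hD]; exact Submodule.eq_top_iff'.2 hin)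

/-- A small meet gives a larger one. -/
theorem meet_step {g : GL ι F} (hg : g ∈ M) {b c : V}
    (hb0 : b ≠ 0) (hb : h b b = 0) (hc0 : c ≠ 0) (hc : h c c = 0) {D : Submodule F K}
    (hD : D = (LinearMap.range (img (K := K) g c)).comap (lineMap (K := K) b))
    (hsq : finrank F D ^ 2 < r) (h2D : finrank F D + finrank F D < r) :
    ∃ g' ∈ M, 2 * finrank F D ≤ finrank F ((LinearMap.range (img (K := K) g' c)).comap (lineMap (K := K) c)) ∧
      (LinearMap.range (img (K := K) g' c)).comap (lineMap (K := K) c) ≠ ⊤ := by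
  classical
  have H := O.form
  haveI := finiteK (F := F) (K := K)
  obtain ⟨e₁, he₁0, he₁s, he₁⟩ := H.exists_skew_sub D hsq
  have hes : τ e₁⁻¹ = -e₁⁻¹ := by rw [map_inv₀, he₁s, inv_neg]
  obtain ⟨u, hu, hux⟩ := O.root_mem hb hes
  let η : K →ₗ[F] K := ((H.hlin b).restrictScalars F).comp (img g c)
  obtain ⟨g', hg'⟩ : ∃ g', g' = g⁻¹ * u * g := ⟨_, rfl⟩
  have hg'k : ∀ k, img g' c k = ((g⁻¹ : GL ι F) : Mn) *ᵥ (img g c k + (e₁⁻¹ * η k) • b) := fun k => by
    rw [img_apply, hg', Units.val_mul, Units.val_mul, ← Matrix.mulVec_mulVec, ← Matrix.mulVec_mulVec, hux]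
    rfl
  refine ⟨g', hg' ▸ mul_mem (mul_mem (inv_mem hg) hu) hg, ?_, ?_⟩
  · let S : Submodule F K := D.comap ((LinearMap.mulLeft F e₁⁻¹).comp η)
    have hS : 2 * finrank F D ≤ finrank F S := by
      let R : S →ₗ[F] D := (((LinearMap.mulLeft F e₁⁻¹).comp η).comp S.subtype).codRestrict D fun s => s.2
      have hRs : Function.Surjective R := fun d => by
        obtain ⟨k, hk⟩ := O.perp_meet hg hb0 hb hc0 hc (z := e₁ * (d : K)) fun d' hd' => by
          have hd'D : d' ∈ D := by rw [hD]; exact hd'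
          rw [map_mul τ, he₁s, show d' * (-e₁ * τ (d : K)) = -(e₁ * (d' * τ (d : K))) by ring, map_neg,
            he₁ _ hd'D _ d.2, neg_zero]
        have hk' : e₁⁻¹ * η k = d := by
          rw [show η k = e₁ * (d : K) from hk, inv_mul_cancel_left₀ he₁0]
        exact ⟨⟨k, show e₁⁻¹ * η k ∈ D by rw [hk']; exact d.2⟩, Subtype.ext hk'⟩
      have h1 := R.finrank_range_add_finrank_ker
      rw [LinearMap.range_eq_top.2 hRs, finrank_top] at h1
      have h2 : finrank F (LinearMap.ker η) ≤ finrank F (LinearMap.ker R) := by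
        have hle : LinearMap.ker η ≤ (LinearMap.ker R).map S.subtype := fun k hk => by
          have hk0 : η k = 0 := hk
          refine ⟨⟨k, show e₁⁻¹ * η k ∈ D by rw [hk0, mul_zero]; exact D.zero_mem⟩, ?_, rfl⟩
          refine LinearMap.mem_ker.2 (Subtype.ext ?_)
          show e₁⁻¹ * η k = 0
          rw [hk0, mul_zero]
        exact le_trans (Submodule.finrank_mono hle)
          (le_of_eq (Submodule.equivMapOfInjective _ S.injective_subtype (LinearMap.ker R)).finrank_eq.symm)
      rw [O.finrank_ker_eta hb0 hb hc0, ← hD] at h2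
      omega
    refine le_trans hS ?_
    rw [(Submodule.equivMapOfInjective _ (O.img_inj (g := g') hc0) S).finrank_eq,
      (Submodule.equivMapOfInjective (lineMap (K := K) c) (fun _ _ e => smul_left_injective K hc0 e)
        ((LinearMap.range (img (K := K) g' c)).comap (lineMap (K := K) c))).finrank_eq]
    refine Submodule.finrank_mono ?_
    rintro _ ⟨k, hk, rfl⟩
    have hk' : e₁⁻¹ * η k ∈ D := hk
    rw [hD] at hk'
    obtain ⟨l, hl⟩ := hk'
    have e1 : img g' c k = (k + l) • c := by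
      rw [hg'k, ← lineMap_apply, ← hl, ← map_add, img_apply, inv_mulVec_cancel]
    exact ⟨k + l, show (k + l) • c ∈ LinearMap.range (img (K := K) g' c) from ⟨k, e1⟩, e1.symm⟩
  · intro htop
    have hall : ∀ k : K, ∃ s : K, img g' c k = s • c := by
      have hsurj : ∀ s : K, ∃ k, img g' c k = s • c := fun s => by
        obtain ⟨k, hk⟩ : s ∈ (LinearMap.range (img (K := K) g' c)).comap (lineMap (K := K) c) := htop ▸ Submodule.mem_top
        exact ⟨k, hk⟩
      choose κ hκ using hsurj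
      have hκi : Function.Injective κ := fun x y e => smul_left_injective K hc0 (by
        show x • c = y • c
        rw [← hκ, ← hκ, e])
      intro k
      obtain ⟨s, rfl⟩ := Finite.injective_iff_surjective.1 hκi k
      exact ⟨s, hκ s⟩
    have hle : LinearMap.range ((LinearMap.mulLeft F e₁⁻¹).comp η) ≤ D := by
      rintro _ ⟨k, rfl⟩
      obtain ⟨s, hs⟩ := hall k
      rw [hg'k] at hs
      have e1 := congrArg (fun x => (g : Mn) *ᵥ x) hs
      rw [mulVec_inv_cancel, ← img_apply] at e1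
      rw [hD]
      refine ⟨s - k, ?_⟩
      rw [map_sub, ← e1, add_sub_cancel_left]
      rfl
    have h1 := ((LinearMap.mulLeft F e₁⁻¹).comp η).finrank_range_add_finrank_ker
    rw [LinearMap.ker_comp, LinearMap.ker_eq_bot.2 (mul_right_injective₀ (inv_ne_zero he₁0)),
      Submodule.comap_bot, O.finrank_ker_eta hb0 hb hc0, ← hD, H.deg] at h1
    have := Submodule.finrank_mono hle
    omega

/-- Without unexpected elements a line and the image of a line meet trivially or coincide. -/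
theorem meet_trivial (hno : ∀ b, b ≠ 0 → h b b = 0 → ¬ Extra h M b) {g : GL ι F} (hg : g ∈ M) {b c : V}
    (hb0 : b ≠ 0) (hb : h b b = 0) (hc0 : c ≠ 0) (hc : h c c = 0) :
    (LinearMap.range (img (K := K) g c)).comap (lineMap (K := K) b) = ⊥ ∨
      (LinearMap.range (img (K := K) g c)).comap (lineMap (K := K) b) = ⊤ := by
  have H := O.form
  haveI := finiteK (F := F) (K := K)
  suffices key : ∀ m : ℕ, ∀ g ∈ M, ∀ b c : V, b ≠ 0 → h b b = 0 → c ≠ 0 → h c c = 0 →
      r ≤ m + finrank F ((LinearMap.range (img (K := K) g c)).comap (lineMap (K := K) b)) →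
      (LinearMap.range (img (K := K) g c)).comap (lineMap (K := K) b) = ⊥ ∨
        (LinearMap.range (img (K := K) g c)).comap (lineMap (K := K) b) = ⊤ from
    key r g hg b c hb0 hb hc0 hc (Nat.le_add_right _ _)
  intro m
  induction m with
  | zero =>
    intro g hg b c hb0 hb hc0 hc hm
    refine Or.inr (Submodule.eq_top_of_finrank_eq (le_antisymm (Submodule.finrank_le _) ?_))
    rw [H.deg]
    omega
  | succ m ih =>
    intro g hg b c hb0 hb hc0 hc hm
    by_contra hcon
    push Not at hcon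
    obtain ⟨D, hD⟩ : ∃ D, D = (LinearMap.range (img (K := K) g c)).comap (lineMap (K := K) b) := ⟨_, rfl⟩
    rw [← hD] at hm hcon
    have h1 : 1 ≤ finrank F D := by
      rw [Nat.one_le_iff_ne_zero]
      exact fun e => hcon.1 (Submodule.finrank_eq_zero.1 e)
    have h2 : finrank F D < r := by
      rw [← H.deg]; exact Submodule.finrank_lt hcon.2
    have hcase : 2 ≤ finrank F D ∧ (r - finrank F D) ^ 2 < r ∨
        finrank F D ^ 2 < r ∧ finrank F D + finrank F D < r := by
      rcases H.size with ⟨hr, -⟩ | ⟨hr, -⟩ <;> rw [hr] at h2 ⊢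
      · rcases (show finrank F D = 1 ∨ finrank F D = 2 by omega) with e | e <;> rw [e] <;> norm_num
      · rcases (show finrank F D = 1 ∨ finrank F D = 2 ∨ finrank F D = 3 ∨ finrank F D = 4 by omega) with
          e | e | e | e <;> rw [e] <;> norm_num
    rcases hcase with ⟨h3, h4⟩ | ⟨h3, h4⟩
    · exact O.meet_big hno hg hb0 hb hc0 hc hD h3 hcon.2 h4
    · obtain ⟨g', hg', hle, hne⟩ := O.meet_step hg hb0 hb hc0 hc hD h3 h4
      rcases ih g' hg' c c hc0 hc hc0 hc (by omega) with e | e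
      · rw [e, finrank_bot] at hle; omega
      · exact hne e

/-- Without unexpected elements lines go to lines. -/
theorem line_mem (hno : ∀ b, b ≠ 0 → h b b = 0 → ¬ Extra h M b) {g : GL ι F} (hg : g ∈ M) {b : V} (hb0 : b ≠ 0)
    (hb : h b b = 0) : h ((g : Mn) *ᵥ b) ((g : Mn) *ᵥ b) = 0 ∧ ∀ k : K, ∃ s : K, img g b k = s • ((g : Mn) *ᵥ b) := by
  classical
  have H := O.form
  obtain ⟨k₀, hk₀, hx⟩ := O.exists_sing_img hg hb
  obtain ⟨x, hxdef⟩ : ∃ x, x = img g b k₀ := ⟨_, rfl⟩
  rw [← hxdef] at hx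
  have hx0 : x ≠ 0 := fun e => hk₀ (O.img_inj hb0 (by rw [← hxdef, e, map_zero]))
  have htop : (LinearMap.range (img (K := K) g b)).comap (lineMap (K := K) x) = ⊤ :=
    (O.meet_trivial hno hg hx0 hx hb0 hb).resolve_left fun e => one_ne_zero (α := K) (by
      have h1 : (1 : K) ∈ (LinearMap.range (img (K := K) g b)).comap (lineMap (K := K) x) :=
        ⟨k₀, by rw [lineMap_apply, one_smul, hxdef]⟩
      rwa [e, Submodule.mem_bot] at h1)
  have hsurj : ∀ s : K, ∃ k, img g b k = s • x := fun s => by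
    obtain ⟨k, hk⟩ : s ∈ (LinearMap.range (img (K := K) g b)).comap (lineMap (K := K) x) := htop ▸ Submodule.mem_top
    exact ⟨k, hk⟩
  choose κ hκ using hsurj
  have hκi : Function.Injective κ := fun a a' e => smul_left_injective K hx0 (by
    show a • x = a' • x
    rw [← hκ, ← hκ, e])
  have hall : ∀ k, ∃ s, img g b k = s • x := fun k => by
    obtain ⟨s, rfl⟩ := Finite.injective_iff_surjective.1 hκi k
    exact ⟨s, hκ s⟩
  obtain ⟨s₁, hs₁⟩ := hall 1
  rw [img_apply, one_smul] at hs₁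
  have hs₁0 : s₁ ≠ 0 := fun e => hb0 (gl_mulVec_injective g (by
    show (g : Mn) *ᵥ b = (g : Mn) *ᵥ 0
    rw [hs₁, e, zero_smul, Matrix.mulVec_zero]))
  refine ⟨by rw [hs₁, H.smul_left, H.smul_right, hx, mul_zero, mul_zero], fun k => ?_⟩
  obtain ⟨s, hs⟩ := hall k
  exact ⟨s / s₁, by rw [hs₁, smul_smul, div_mul_cancel₀ _ hs₁0, hs]⟩

/-- Without unexpected elements every element preserves lines. -/
theorem semilinear {b : V} (hb0 : b ≠ 0) (hb : h b b = 0) (hno : ∀ c, c ≠ 0 → h c c = 0 → ¬ Extra h M c)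
    {g : GL ι F} (hg : g ∈ M) (k : K) (x : V) :
    ∃ s : K, (g : Mn) *ᵥ (k • x) = s • ((g : Mn) *ᵥ x) := by
  classical
  have H := O.form
  obtain ⟨b', hb', h1, h2⟩ := H.exists_pair hb0 hb
  have hb'0 : b' ≠ 0 := fun e => one_ne_zero (α := K) (by rw [← h1, e, H.zero_left])
  obtain ⟨hc, hl⟩ := O.line_mem hno hg hb0 hb
  obtain ⟨hc', hl'⟩ := O.line_mem hno hg hb'0 hb'
  choose φ hφ using hl
  choose ψ hψ using hl'
  have hne : ∀ {v : V}, v ≠ 0 → (g : Mn) *ᵥ v ≠ 0 := fun {v} hv e =>
    hv (gl_mulVec_injective g (by simpa using e))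
  have hind : ∀ {p q : K}, p • ((g : Mn) *ᵥ b) + q • ((g : Mn) *ᵥ b') = 0 → p = 0 ∧ q = 0 := fun {p q} e => by
    rcases eq_or_ne q 0 with rfl | hq
    · rw [zero_smul, add_zero, smul_eq_zero] at e
      exact ⟨e.resolve_right (hne hb0), rfl⟩
    have hφsurj : Function.Surjective φ := Finite.injective_iff_surjective.1 fun x y e' =>
      O.img_inj hb0 (by rw [hφ, hφ, e'])
    obtain ⟨l, hl⟩ := hφsurj (-(q⁻¹ * p))
    have e2 : (g : Mn) *ᵥ b' = img g b l := by
      rw [hφ, hl, neg_smul, ← smul_smul, eq_neg_of_add_eq_zero_left e, smul_neg, smul_smul, inv_mul_cancel₀ hq,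
        one_smul, neg_neg]
    have e3 : b' = l • b := gl_mulVec_injective g e2
    rw [e3, H.smul_left, hb, mul_zero] at h1
    exact absurd h1 zero_ne_one
  have hφadd : ∀ x y, φ (x + y) = φ x + φ y := fun x y => smul_left_injective K (hne hb0) (by
    show φ (x + y) • _ = (φ x + φ y) • _
    rw [add_smul, ← hφ, ← hφ, ← hφ, map_add])
  have hφsmul : ∀ (a : F) x, φ (a • x) = a • φ x := fun a x => smul_left_injective K (hne hb0) (by
    show φ (a • x) • _ = (a • φ x) • _
    rw [smul_assoc, ← hφ, ← hφ, map_smul])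
  have hφ1 : φ 1 = 1 := smul_left_injective K (hne hb0) (by
    show φ 1 • _ = (1 : K) • _
    rw [← hφ, img_apply, one_smul, one_smul])
  have hmul : ∀ e, τ e = -e → ∀ l, ψ (l * e) = φ l * ψ e := fun e he l => by
    obtain ⟨w, hw⟩ : ∃ w, w = b + e • b' := ⟨_, rfl⟩
    have hww : h w w = 0 := by
      rw [hw, H.add_left, H.add_right, H.add_right, H.smul_left, H.smul_right, H.smul_left, H.smul_right, hb, hb',
        h1, h2, he]
      ring
    have hw0 : w ≠ 0 := fun e0 => one_ne_zero (α := K) (by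
      have := congrArg (fun v => h v b') e0
      simp [hw, H.add_left, H.smul_left, hb', h2, H.zero_left] at this)
    obtain ⟨-, hlw⟩ := O.line_mem hno hg hw0 hww
    obtain ⟨m, hm⟩ := hlw l
    rw [img_apply, hw, smul_add, Matrix.mulVec_add, smul_smul, Matrix.mulVec_add, ← img_apply, ← img_apply g b',
      ← img_apply g b' e, hφ, hψ, hψ e, smul_add, smul_smul] at hm
    obtain ⟨e1, e2⟩ := hind (p := φ l - m) (q := ψ (l * e) - m * ψ e) (by
      rw [sub_smul, sub_smul, sub_add_sub_comm, hm, sub_self])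
    rw [sub_eq_zero.1 e2, ← sub_eq_zero.1 e1]
  obtain ⟨e₀, he₀, he₀s⟩ := H.exists_skewK
  have hψe : ψ e₀ ≠ 0 := fun e => he₀ (O.img_inj hb'0 (by rw [hψ, e, zero_smul, map_zero]))
  have hfix : ∀ s, τ s = s → ∀ l, φ (l * s) = φ l * φ s := fun s hs l => by
    have e1 := hmul (s * e₀) (by rw [map_mul, hs, he₀s, mul_neg]) l
    rw [← mul_assoc, hmul e₀ he₀s, hmul e₀ he₀s, ← mul_assoc] at e1
    exact mul_right_cancel₀ hψe e1
  have hφmul : ∀ l s, φ (l * s) = φ l * φ s := fun l s => by
    let W : Submodule F K :=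
      { carrier := {s | φ (l * s) = φ l * φ s}
        add_mem' := fun {x y} (hx : φ (l * x) = φ l * φ x) (hy : φ (l * y) = φ l * φ y) => by
          show φ (l * (x + y)) = φ l * φ (x + y)
          rw [mul_add, hφadd, hφadd, hx, hy, mul_add]
        zero_mem' := by
          show φ (l * 0) = φ l * φ 0
          have h0 : φ 0 = 0 := by simpa using hφadd 0 0
          rw [mul_zero, h0, mul_zero]
        smul_mem' := fun a x (hx : φ (l * x) = φ l * φ x) => by
          show φ (l * (a • x)) = φ l * φ (a • x)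
          rw [mul_smul_comm, hφsmul, hφsmul, hx, mul_smul_comm] }
    have hW := H.span_fix (W := W) fun s hs => hfix s hs l
    exact (Submodule.eq_top_iff'.1 hW s : s ∈ W)
  have hψφ : ∀ l, ψ l = φ l := fun l => by
    have h3 : ψ 1 = 1 := smul_left_injective K (hne hb'0) (by
      show ψ 1 • _ = (1 : K) • _
      rw [← hψ, img_apply, one_smul, one_smul])
    have h4 := hmul e₀ he₀s e₀⁻¹
    rw [inv_mul_cancel₀ he₀, h3] at h4
    have h5 : φ e₀⁻¹ * φ e₀ = 1 := by rw [← hφmul, inv_mul_cancel₀ he₀, hφ1]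
    have h6 : ψ e₀ = φ e₀ := mul_left_cancel₀ (left_ne_zero_of_mul_eq_one h5) (by rw [h5, ← h4])
    have h7 := hmul e₀ he₀s (l / e₀)
    rw [div_mul_cancel₀ _ he₀, h6, ← hφmul, div_mul_cancel₀ _ he₀] at h7
    exact h7
  refine ⟨φ k, ?_⟩
  have hx := H.decomp hb hb' h1 h2 x
  rw [hx, smul_add, smul_smul, smul_smul, Matrix.mulVec_add, Matrix.mulVec_add, ← img_apply, ← img_apply,
    ← img_apply, ← img_apply, hφ, hφ, hψ, hψ, hψφ, hψφ, hφmul, hφmul, smul_add, smul_smul, smul_smul]

end Over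

end Cfsg.Agent.Classical.UnitFieldTwo
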