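import Cfsg.Agent.Lib.Classical.MaxUnitFieldTwoLine
import Cfsg.Agent.Lib.Classical.MaxUnitFieldTwoComp

/-!
Normalisers of extension fields of degree three or five in special unitary groups of twice that degree are
maximal.
-/

set_option autoImplicit false
set_option linter.unusedSectionVars false
set_option linter.style.haveILetI false
set_option quotPrecheck false

namespace Cfsg.Agent.Classical.UnitFieldTwo

open Matrix Module MaxTv Cfsg.Agent.Classical.Overfield

variable {F : Type*} [Field F] [Fintype F]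

namespace UForm

variable {ι : Type} [Fintype ι] [DecidableEq ι]
variable {K : Type*} [Field K] [Fintype K] [Algebra F K] [Module K (ι → F)] [IsScalarTower F K (ι → F)]
variable {r : ℕ} {σ : F ≃+* F} {f : (ι → F) → (ι → F) → F} {τ : K ≃+* K} {h : (ι → F) → (ι → F) → K}
variable (H : UForm r σ f τ h)
include H

theorem decomp_three (hr : r = 3) {T : K →ₗ[F] K} (hT : IsSkew τ T) :
    ∃ e c, τ e = -e ∧ T = LinearMap.mulLeft F e + skewOp τ (frob F K) c := by
  subst hr
  obtain ⟨c, hc⟩ := H.exists_decomp hT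
  refine ⟨c 0 - τ (c 0), c 1 + -frob F K (τ (c 2)), by rw [map_sub, H.invol, neg_sub], ?_⟩
  have e2 : frob F K ^ 2 = (frob F K).symm := eq_inv_of_mul_eq_one_left
    (show frob F K ^ 2 * frob F K = 1 by rw [← pow_succ]; exact H.frob_pow_deg)
  rw [hc, Fin.sum_univ_three, show ((0 : Fin 3) : ℕ) = 0 from rfl, show ((1 : Fin 3) : ℕ) = 1 from rfl,
    show ((2 : Fin 3) : ℕ) = 2 from rfl, pow_zero, pow_one, H.skewOp_one, e2, H.skewOp_symm, skewOp_add]
  abel

theorem decomp_five (hr : r = 5) {T : K →ₗ[F] K} (hT : IsSkew τ T) :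
    ∃ e c c', τ e = -e ∧ T = LinearMap.mulLeft F e + skewOp τ (frob F K) c + skewOp τ (frob F K ^ 2) c' := by
  subst hr
  obtain ⟨c, hc⟩ := H.exists_decomp hT
  refine ⟨c 0 - τ (c 0), c 1 + -frob F K (τ (c 4)), c 2 + -(frob F K ^ 2) (τ (c 3)),
    by rw [map_sub, H.invol, neg_sub], ?_⟩
  have e4 : frob F K ^ 4 = (frob F K).symm := eq_inv_of_mul_eq_one_left
    (show frob F K ^ 4 * frob F K = 1 by rw [← pow_succ]; exact H.frob_pow_deg)
  have e3 : frob F K ^ 3 = (frob F K ^ 2).symm := eq_inv_of_mul_eq_one_left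
    (show frob F K ^ 3 * frob F K ^ 2 = 1 by rw [← pow_add]; exact H.frob_pow_deg)
  rw [hc, Fin.sum_univ_five, show ((0 : Fin 5) : ℕ) = 0 from rfl, show ((1 : Fin 5) : ℕ) = 1 from rfl,
    show ((2 : Fin 5) : ℕ) = 2 from rfl, show ((3 : Fin 5) : ℕ) = 3 from rfl, show ((4 : Fin 5) : ℕ) = 4 from rfl,
    pow_zero, pow_one, H.skewOp_one, e4, e3, H.skewOp_symm, H.skewOp_symm, skewOp_add, skewOp_add]
  abel

end UForm

namespace Over

variable {ι : Type} [Fintype ι] [DecidableEq ι]
variable {K : Type*} [Field K] [Fintype K] [Algebra F K] [Module K (ι → F)] [IsScalarTower F K (ι → F)]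
variable {r : ℕ} {σ : F ≃+* F} {f : (ι → F) → (ι → F) → F} {τ : K ≃+* K} {h : (ι → F) → (ι → F) → K}
  {M : Subgroup (GL ι F)} (O : Over r σ f τ h M)
include O

local notation "V" => (ι → F)
local notation "tr" => Algebra.trace F K

theorem all_of_extra_three (hr : r = 3) {b : V} (hb0 : b ≠ 0) (hb : h b b = 0) (hE : Extra h M b) :
    All h M b τ := by
  have H := O.form
  obtain ⟨T, hT, hne⟩ := hE
  obtain ⟨e, c, he, rfl⟩ := H.decomp_three hr (O.skew hb0 hb hT)
  have hc : c ≠ 0 := by
    rintro rfl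
    obtain ⟨χ, hχ⟩ := hne e
    exact hχ (by simp [skewOp_zero])
  have hF : Full h M b τ (frob F K) := O.full_of_coef hb0 hb H.gen_frob hc (by
    have := O.inB_sub hb hT (O.inB_root hb he)
    rwa [add_sub_cancel_left] at this)
  intro S hS
  obtain ⟨e', c', he', rfl⟩ := H.decomp_three hr hS
  exact O.inB_add hb (O.inB_root hb he') (hF c')

theorem all_of_extra_five (hr : r = 5) {b : V} (hb0 : b ≠ 0) (hb : h b b = 0) (hE : Extra h M b) :
    All h M b τ := by
  have H := O.form
  obtain ⟨φ, hφdef⟩ : ∃ φ, φ = frob F K := ⟨_, rfl⟩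
  obtain ⟨ψ, hψdef⟩ : ∃ ψ, ψ = frob F K ^ 2 := ⟨_, rfl⟩
  have hφ : Gen φ := hφdef ▸ H.gen_frob
  have h5 : ∀ x, φ (φ (φ (φ (φ x)))) = x := fun x => by
    have := DFunLike.congr_fun H.frob_pow_deg x
    rw [hr] at this
    simpa [pow_succ, ← hφdef] using this
  have hψx : ∀ x, ψ x = φ (φ x) := fun x => by rw [hψdef, hφdef, pow_two]; rfl
  have hψ : Gen ψ := fun x hx => by
    rw [hψx, hψx] at hx
    have h1 := congrArg φ hx
    rw [h5] at h1
    exact H.gen_fix hφ h1.symm
  have hdec : ∀ T, IsSkew τ T →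
      ∃ e c c', τ e = -e ∧ T = LinearMap.mulLeft F e + skewOp τ φ c + skewOp τ ψ c' := fun T hT => by
    rw [hφdef, hψdef]; exact H.decomp_five hr hT
  have hdec' : ∀ T, IsSkew τ T →
      ∃ e c c', τ e = -e ∧ T = LinearMap.mulLeft F e + skewOp τ ψ c + skewOp τ φ c' := fun T hT => by
    obtain ⟨e, c, c', he, rfl⟩ := hdec T hT
    exact ⟨e, c', c, he, by abel⟩
  obtain ⟨b', hb', h1, h2⟩ := H.exists_pair hb0 hb
  have hb'0 : b' ≠ 0 := fun e => one_ne_zero (α := K) (by rw [← h1, e, H.zero_left])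
  have other : ∀ {χ χ' : K ≃ₐ[F] K}, Gen χ → Gen χ' → (∀ T, IsSkew τ T →
      ∃ e c c', τ e = -e ∧ T = LinearMap.mulLeft F e + skewOp τ χ c + skewOp τ χ' c') →
      Full h M b τ χ → Full h M b τ χ' := fun hχ hχ' hd hF => by
    obtain ⟨c', hc', hin⟩ := O.exists_other hr hb0 hb'0 hb hb' h1 h2 hχ hd hF
    exact O.full_move hb' hb (by rw [h2]; exact one_ne_zero) (O.full_of_coef hb'0 hb' hχ' hc' hin)
  have hboth : Full h M b τ φ ∧ Full h M b τ ψ := by
    obtain ⟨T, hT, hne⟩ := hE
    obtain ⟨e, c, c', he, rfl⟩ := hdec T (O.skew hb0 hb hT)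
    have hcc : InB h M b (skewOp τ φ c + skewOp τ ψ c') := by
      have := O.inB_sub hb hT (O.inB_root hb he)
      rwa [add_assoc, add_sub_cancel_left] at this
    rcases eq_or_ne c 0 with rfl | hc
    · have hc' : c' ≠ 0 := by
        rintro rfl
        obtain ⟨χ, hχ⟩ := hne e
        exact hχ (by simp [skewOp_zero])
      rw [skewOp_zero, zero_add] at hcc
      have hF := O.full_of_coef hb0 hb hψ hc' hcc
      exact ⟨other hψ hφ hdec' hF, hF⟩
    · obtain ⟨s, hs, hs'⟩ := H.exists_fix_moved hφ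
      have hF := O.full_of_two hb0 hb hφ hψ ⟨s, hs, fun e0 => hs' (φ.injective (e0.trans (hψx s))).symm⟩
        ⟨s, hs, fun e0 => hs' (by
          rw [hψx] at e0
          have h8 : φ (φ s) = s := by
            have h9 := h5 s
            rwa [e0] at h9
          obtain ⟨a, rfl⟩ := hφ s h8
          exact AlgEquiv.commutes _ a)⟩ hc hcc
      exact ⟨hF, other hφ hψ hdec hF⟩
  intro S hS
  obtain ⟨e, c, c', he, rfl⟩ := hdec S hS
  exact O.inB_add hb (O.inB_add hb (O.inB_root hb he) (hboth.1 c)) (hboth.2 c')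

theorem all_of_extra {b : V} (hb0 : b ≠ 0) (hb : h b b = 0) (hE : Extra h M b) : All h M b τ := by
  rcases O.form.size with ⟨hr, -⟩ | ⟨hr, -⟩
  · exact O.all_of_extra_three hr hb0 hb hE
  · exact O.all_of_extra_five hr hb0 hb hE

/-- All skew maps give the transvections of the line. -/
theorem upt_line {b : V} (hA : All h M b τ) (l : K) : UPt σ f M (l • b) := fun c hc => by
  have H := O.form
  let T : K →ₗ[F] K := (c • (tr).comp (LinearMap.mulLeft F (τ l))).smulRight l
  have hTx : ∀ x, T x = (c * tr (τ l * x)) • l := fun x => by simp [T]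
  have hT : IsSkew τ T := fun x y => by
    rw [hTx, hTx, Algebra.smul_def, Algebra.smul_def, map_mul τ, H.base, mul_assoc, ← Algebra.smul_def,
      mul_left_comm x, ← Algebra.smul_def, map_smul, map_smul, smul_eq_mul, smul_eq_mul,
      show l * τ y = τ (τ l * y) by rw [map_mul τ, H.invol], H.tr_tau, mul_comm x (τ l), map_mul σ]
    linear_combination (tr (τ l * x) * σ (tr (τ l * y))) * hc
  obtain ⟨t, ht, htx⟩ := hA T hT
  refine ⟨t, ht, fun x => ?_⟩
  rw [htx, hTx, smul_assoc, H.form, H.smul_right]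

/-- All transvections. -/
theorem upt_all {b : V} (hb0 : b ≠ 0) (hb : h b b = 0) (hE : Extra h M b) {v : V} (hv : f v v = 0) :
    UPt σ f M v := by
  have H := O.form
  obtain ⟨b', hb', h1, h2⟩ := H.exists_pair hb0 hb
  have hb'0 : b' ≠ 0 := fun e => one_ne_zero (α := K) (by rw [← h1, e, H.zero_left])
  have hA := O.all_of_extra hb0 hb hE
  have hA' := O.all_move hb0 hb hb'0 hb' hA
  have hiso : ∀ {a : V}, h a a = 0 → ∀ k l : K, f (k • a) (l • a) = 0 := fun {a} ha k l => by
    rw [H.form, H.smul_left, H.smul_right, ha, mul_zero, mul_zero, map_zero]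
  obtain ⟨k, hk⟩ : ∃ k, k = h v b' := ⟨_, rfl⟩
  obtain ⟨l, hl⟩ : ∃ l, l = h v b := ⟨_, rfl⟩
  have hvd : v = k • b + l • b' := by rw [hk, hl]; exact H.decomp hb hb' h1 h2 v
  have main : ∀ k : K, f (k • b + l • b') (k • b + l • b') = 0 → f (l • b') (k • b) ≠ 0 →
      UPt σ f M (k • b + l • b') := fun k hkv hne => by
    have h3 := UPt.add_smul H.herm (O.upt_line hA' l) (O.upt_line hA k) (hiso hb k k)
      (c := (f (l • b') (k • b))⁻¹) (by
        rw [H.herm.add_left, H.herm.add_right, H.herm.add_right, hiso hb, hiso hb', zero_add, add_zero,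
          H.herm.herm (k • b) (l • b')] at hkv
        rw [map_inv₀, eq_neg_of_add_eq_zero_left hkv, inv_neg, add_neg_cancel])
    rwa [inv_mul_cancel₀ hne, one_smul, add_comm] at h3
  rcases eq_or_ne l 0 with hl0 | hl0
  · rw [hvd, hl0, zero_smul, add_zero]; exact O.upt_line hA k
  rcases eq_or_ne (f (l • b') (k • b)) 0 with h0 | h0
  swap
  · rw [hvd] at hv ⊢; exact main k hv h0
  obtain ⟨s, hs⟩ : ∃ s : K, f (l • b') (s • b) ≠ 0 := by
    obtain ⟨s, hs⟩ := tr_ne (F := F) (K := K)
    exact ⟨τ (s / l), by rw [H.form, H.smul_left, H.smul_right, h1, H.invol, mul_one, mul_comm,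
      div_mul_cancel₀ _ hl0]; exact hs⟩
  obtain ⟨c, hc0, hc⟩ := H.exists_skewF
  obtain ⟨α, hα⟩ : ∃ α, α = f v (s • b) := ⟨_, rfl⟩
  have hα' : α = f (l • b') (s • b) := by
    rw [hα, hvd, H.herm.add_left, hiso hb, zero_add]
  obtain ⟨k', hk'⟩ : ∃ k', k' = k + (c * α) • s := ⟨_, rfl⟩
  have hv' : v + (c * α) • s • b = k' • b + l • b' := by
    rw [hk', add_smul, smul_assoc, hvd]; abel
  have hv0 : f (v + (c * α) • s • b) (v + (c * α) • s • b) = 0 := by
    rw [H.herm.add_left, H.herm.add_right, H.herm.add_right, hv, H.herm.smul_left, H.herm.smul_right,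
      H.herm.smul_left, H.herm.smul_right, ← hα, hiso hb, H.herm.herm (s • b) v, ← hα, map_mul σ]
    linear_combination (α * σ α) * hc
  rw [hv'] at hv0
  have h4 := main k' hv0 (by
    rw [hk', add_smul, smul_assoc, H.herm.add_right, h0, zero_add, H.herm.smul_right, ← hα']
    refine mul_ne_zero ?_ (hα' ▸ hs)
    intro e
    rw [σ.map_eq_zero_iff, mul_eq_zero] at e
    exact e.elim hc0 (hα' ▸ hs))
  rw [← hv'] at h4
  have h6 := UPt.add_smul H.herm h4 (O.upt_line hA s) (hiso hb s s) (c := -c)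
    (by rw [map_neg]; linear_combination -hc)
  have e : v + (c * α) • s • b + (-c * f (v + (c * α) • s • b) (s • b)) • s • b = v := by
    rw [H.herm.add_left, H.herm.smul_left, hiso hb, mul_zero, add_zero, ← hα, neg_mul, neg_smul,
      add_neg_cancel_right]
  rwa [e] at h6

end Over

set_option maxHeartbeats 1000000 in
/-- Normalisers of fields of degree three or five closed under adjoints are maximal in special unitary groups of
twice that dimension. -/
theorem unitary_plane_overfield_maximal {n q r : ℕ} (hF : Fintype.card F = q ^ 2)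
    (hr : r = 3 ∧ 3 ≤ q ∨ r = 5) (hn : n = 2 * r) (K : Subalgebra F (Matrix (Fin n) (Fin n) F))
    (hK : Geo.IsFieldSubalgebra r K) (hac : Geo.IsAdjointClosedFor (hermForm n F q) K) :
    Geo.IsMaximalIn (GU n F q ⊓ Geo.specialLinear (Fin n) F)
      (Geo.subalgebraNormalizer K ⊓ (GU n F q ⊓ Geo.specialLinear (Fin n) F)) := by
  classical
  have hs := herm_hermForm (n := n) hF
  have hr0 : 0 < r := by omega
  haveI : Nontrivial ↥K := by
    haveI : Module.Finite F ↥K := Module.finite_of_finrank_pos (by rw [hK.finrank_eq]; exact hr0)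
    exact Module.nontrivial_of_finrank_pos (R := F) (by rw [hK.finrank_eq]; exact hr0)
  letI : CommRing ↥K := { (inferInstance : Ring ↥K) with
    mul_comm := fun a b => Subtype.ext (hK.comm _ a.2 _ b.2) }
  have hfield : IsField ↥K :=
    { exists_pair_ne := exists_pair_ne _
      mul_comm := mul_comm
      mul_inv_cancel := fun {a} ha => by
        obtain ⟨y, hy, hay⟩ := hK.inv _ a.2 fun h => ha (Subtype.ext h)
        exact ⟨⟨y, hy⟩, Subtype.ext hay⟩ }
  letI : Field ↥K := hfield.toField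
  have hsm : ∀ (k : ↥K) (x : Fin n → F), k • x = (k : Matrix (Fin n) (Fin n) F) *ᵥ x := fun _ _ => rfl
  haveI : IsScalarTower F ↥K (Fin n → F) := ⟨fun a k x => by
    rw [hsm, hsm, show ((a • k : ↥K) : Matrix (Fin n) (Fin n) F) = a • (k : Matrix (Fin n) (Fin n) F) from rfl,
      Matrix.smul_mulVec]⟩
  haveI : Fintype ↥K := Fintype.ofFinite _
  have hdesc : Describes K ↥K := fun A => ⟨fun hA => ⟨⟨A, hA⟩, fun x => (hsm ⟨A, hA⟩ x).symm⟩, fun ⟨k, hk⟩ => by
    have : A = (k : Matrix (Fin n) (Fin n) F) := Matrix.ext_iff_mulVec.2 fun x => (hk x).trans (hsm k x)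
    rw [this]; exact k.2⟩
  obtain ⟨f, hf⟩ : ∃ f, f = hermForm n F q := ⟨_, rfl⟩
  rw [← hf] at hac hs
  -- the adjoint
  have hadj : ∀ k : ↥K, ∃ k' : ↥K, ∀ x y : Fin n → F, f (k • x) y = f x (k' • y) := fun k => by
    obtain ⟨k', hk', hkk⟩ := hac _ k.2
    exact ⟨⟨k', hk'⟩, fun x y => by rw [hsm, hsm]; exact hkk x y⟩
  choose adj hadj using hadj
  have huniq : ∀ {a b : ↥K}, (∀ x y : Fin n → F, f x (a • y) = f x (b • y)) → a = b := fun {a b} hab => by
    refine Subtype.ext (Matrix.ext_iff_mulVec.2 fun y => ?_)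
    rw [← hsm, ← hsm]
    exact sub_eq_zero.1 (hs.eq_zero _ fun x => by rw [hs.toSesq.sub_right, hab, sub_self])
  have hinv : ∀ k, adj (adj k) = k := fun k => huniq fun x y => by
    rw [← hadj, hs.herm, ← hadj, ← hs.herm]
  let τ : ↥K ≃+* ↥K :=
    { toFun := adj
      invFun := adj
      left_inv := hinv
      right_inv := hinv
      map_mul' := fun a b => huniq fun x y => by
        rw [← hadj, mul_comm (adj a), mul_smul, mul_smul, ← hadj, ← hadj]
      map_add' := fun a b => huniq fun x y => by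
        rw [← hadj, add_smul, add_smul, hs.add_left, hadj, hadj, ← hs.add_right] }
  have hsadj : ∀ (k : ↥K) (x y : Fin n → F), f (k • x) y = f x (τ k • y) := hadj
  let L₀ : (Fin n → F) → (Fin n → F) → (↥K →ₗ[F] F) := fun x y =>
    { toFun := fun k => f (k • x) y
      map_add' := fun a b => by rw [add_smul, hs.add_left]
      map_smul' := fun a k => by rw [smul_assoc, hs.smul_left]; rfl }
  choose h hh using fun x y => exists_tr (F := F) (L₀ x y)
  haveI : Module.Free ↥K (Fin n → F) := Module.Free.of_divisionRing _ _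
  haveI : Module.Finite F ↥K := Module.Finite.of_finite
  have hcard : r * finrank ↥K (Fin n → F) = n := by
    rw [← hK.finrank_eq, Module.finrank_mul_finrank, Module.finrank_fin_fun]
  have hd : finrank ↥K (Fin n → F) = 2 := Nat.eq_of_mul_eq_mul_left hr0 (by omega)
  have h2d : 2 ≤ finrank ↥K (Fin n → F) := hd.ge
  have hq : 2 ≤ q := two_le_q hF
  have H : UForm r (qEquiv hF) f τ h :=
    { herm := hs
      deg := hK.finrank_eq
      size := hr.imp (fun e => ⟨e.1, by rw [hF, pow_two]; exact Nat.mul_le_mul e.2 e.2⟩)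
        (fun e => ⟨e, by rw [hF, pow_two]; exact Nat.mul_le_mul hq hq⟩)
      invol := hinv
      base := fun a => huniq fun x y => by
        rw [← hsadj, algebraMap_smul, algebraMap_smul, hs.smul_left, hs.smul_right, hs.invol]
      spec := fun k x y => hh x y k
      adj := hsadj
      dim := hd }
  obtain ⟨b, hb0, hb⟩ := H.exists_singular
  have hOv : ∀ M : Subgroup (GL (Fin n) F),
      Geo.subalgebraNormalizer K ⊓ (GU n F q ⊓ Geo.specialLinear (Fin n) F) ≤ M →
      M ≤ GU n F q ⊓ Geo.specialLinear (Fin n) F → Over r (qEquiv hF) f τ h M := fun M hle hMs =>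
    { form := H
      iso := fun g hg => hf ▸ mem_GU.1 (hMs hg).1
      mem := fun L hL hdet => by
        obtain ⟨g, hg, hgd, hgx⟩ := exists_of_linear hdesc h2d L (by rw [hdet]; exact one_ne_zero)
        refine ⟨g, hle ⟨hg, mem_GU.2 fun x y => ?_, MonoidHom.mem_ker.2 (Units.ext ?_)⟩, hgx⟩
        · rw [← hf, hgx, hgx, H.form, hL, ← H.form]
        · rw [Matrix.GeneralLinearGroup.val_det_apply, hgd, hdet]
          rfl }
  refine MaxTv.isMaximalIn_intro inf_le_right (fun hle => ?_) fun M hHM hMK g hgM hgH => ?_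
  · obtain ⟨b', hb', h1, h2⟩ := H.exists_pair hb0 hb
    obtain ⟨c, hc0, hc⟩ := H.exists_skewF
    obtain ⟨t, ht, htx⟩ := exists_gu_tv hF (v := b) (hf ▸ H.iso_of_zero hb) hc
    rw [← hf] at htx
    have htk : ∀ k : ↥K, (t : Matrix (Fin n) (Fin n) F) *ᵥ (k • b') =
        k • b' + algebraMap F ↥K (c * Algebra.trace F ↥K k) • b := fun k => by
      rw [htx, H.form, H.smul_left, h1, mul_one, algebraMap_smul]
    have key : ∀ k : ↥K, algebraMap F ↥K (c * Algebra.trace F ↥K k) =
        k * algebraMap F ↥K (c * Algebra.trace F ↥K 1) := fun k => by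
      obtain ⟨s, hs'⟩ := Submodule.mem_span_singleton.1 (normalizer_preserves_lines hdesc (hle ht).1 k b')
      have htb := htk 1
      rw [one_smul] at htb
      rw [htk, htb] at hs'
      have e1 := congrArg (fun v => h v b) hs'
      have e2 := congrArg (fun v => h v b') hs'
      simp only [H.add_left, H.smul_left, h1, h2, hb, hb', mul_one, mul_zero, add_zero, zero_add] at e1 e2
      rw [e1] at e2
      exact e2.symm
    obtain ⟨y, hy⟩ := Algebra.trace_surjective F ↥K 1
    rcases eq_or_ne (Algebra.trace F ↥K 1) 0 with h3 | h3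
    · have := key y
      rw [hy, h3, mul_one, mul_zero, map_zero, mul_zero, map_eq_zero] at this
      exact hc0 this
    · obtain ⟨k, hk, hk0⟩ := Submodule.exists_mem_ne_zero_of_ne_bot
        (p := LinearMap.ker (Algebra.trace F ↥K)) fun e => by
          have h4 := (Algebra.trace F ↥K).finrank_range_add_finrank_ker
          rw [LinearMap.range_eq_top.2 (Algebra.trace_surjective F ↥K), finrank_top, Module.finrank_self, H.deg,
            e, finrank_bot] at h4
          omega
      have := key k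
      rw [LinearMap.mem_ker.1 hk, mul_zero, map_zero, eq_comm, mul_eq_zero, map_eq_zero, mul_eq_zero] at this
      rcases this with e | e | e
      · exact hk0 e
      · exact hc0 e
      · exact h3 e
  · have O := hOv M hHM hMK
    by_cases hex : ∃ b₀, b₀ ≠ 0 ∧ h b₀ b₀ = 0 ∧ Extra h M b₀
    · obtain ⟨b₀, hb₀0, hb₀, hE⟩ := hex
      exact guSL_le hF (by omega) fun v hv => hf ▸ O.upt_all hb₀0 hb₀ hE (hf ▸ hv)
    push Not at hex
    refine absurd ⟨mem_normalizer_of_lines hdesc h2d fun k a => ?_, hMK hgM⟩ hgH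
    obtain ⟨s, hs'⟩ := O.semilinear hb0 hb hex hgM k a
    exact Submodule.mem_span_singleton.2 ⟨s, hs'.symm⟩

end Cfsg.Agent.Classical.UnitFieldTwo
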