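import Cfsg.Agent.Lib.Classical.MaxUnitFieldTwoBase

/-!
Overgroups of the unitary group of a plane over an extension: root maps, tori, maps at a singular line and their
transport between lines.
-/

set_option autoImplicit false
set_option linter.unusedSectionVars false
set_option linter.style.haveILetI false
set_option quotPrecheck false

namespace Cfsg.Agent.Classical.UnitFieldTwo

open Matrix Module MaxTv

variable {F : Type*} [Field F] [Fintype F] {ι : Type} [Fintype ι] [DecidableEq ι]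
variable {K : Type*} [Field K] [Fintype K] [Algebra F K] [Module K (ι → F)] [IsScalarTower F K (ι → F)]

local notation "V" => (ι → F)
local notation "Mn" => Matrix ι ι F
local notation "tr" => Algebra.trace F K

/-- An overgroup of the special unitary group of the plane over the extension. -/
structure Over (r : ℕ) (σ : F ≃+* F) (f : (ι → F) → (ι → F) → F) (τ : K ≃+* K) (h : (ι → F) → (ι → F) → K)
    (M : Subgroup (GL ι F)) : Prop where
  form : UForm r σ f τ h
  iso : ∀ g ∈ M, ∀ x y, f ((g : Matrix ι ι F) *ᵥ x) ((g : Matrix ι ι F) *ᵥ y) = f x y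
  mem : ∀ L : (ι → F) →ₗ[K] (ι → F), (∀ x y, h (L x) (L y) = h x y) → Algebra.norm F (LinearMap.det L) = 1 →
    ∃ g ∈ M, ∀ x, (g : Matrix ι ι F) *ᵥ x = L x

/-- Some element of `M` is `x ↦ x + T (h x b) • b`. -/
def InB (h : (ι → F) → (ι → F) → K) (M : Subgroup (GL ι F)) (b : ι → F) (T : K →ₗ[F] K) : Prop :=
  ∃ t ∈ M, ∀ x, (t : Matrix ι ι F) *ᵥ x = x + T (h x b) • b

/-- More than the root elements over the extension. -/
def Extra (h : (ι → F) → (ι → F) → K) (M : Subgroup (GL ι F)) (b : ι → F) : Prop :=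
  ∃ T : K →ₗ[F] K, InB h M b T ∧ ∀ ν : K, ∃ χ, T χ ≠ ν * χ

/-- All maps of one component. -/
def Full (h : (ι → F) → (ι → F) → K) (M : Subgroup (GL ι F)) (b : ι → F) (τ : K ≃+* K) (ψ : K ≃ₐ[F] K) : Prop :=
  ∀ c, InB h M b (skewOp τ ψ c)

/-- All skew maps. -/
def All (h : (ι → F) → (ι → F) → K) (M : Subgroup (GL ι F)) (b : ι → F) (τ : K ≃+* K) : Prop :=
  ∀ T : K →ₗ[F] K, IsSkew τ T → InB h M b T

namespace Over

variable {r : ℕ} {σ : F ≃+* F} {f : (ι → F) → (ι → F) → F} {τ : K ≃+* K} {h : (ι → F) → (ι → F) → K}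
  {M : Subgroup (GL ι F)} (O : Over r σ f τ h M)
include O

theorem det_transvection (θ : V →ₗ[K] K) (v : V) : LinearMap.det (LinearMap.transvection θ v) = 1 + θ v := by
  haveI := O.form.finiteV
  exact LinearMap.transvection.det θ v

/-- A root element. -/
theorem root_mem {a : V} (ha : h a a = 0) {e : K} (he : τ e = -e) :
    ∃ t ∈ M, ∀ x, (t : Mn) *ᵥ x = x + (e * h x a) • a := by
  have H := O.form
  obtain ⟨g, hg, hgx⟩ := O.mem (LinearMap.transvection (e • H.hlin a) a) (fun x y => by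
    simp only [LinearMap.transvection.apply, LinearMap.smul_apply, UForm.hlin_apply, smul_eq_mul, H.add_left,
      H.add_right, H.smul_left, H.smul_right, ha, map_mul, he, H.symm y a, H.invol]
    ring) (by
      rw [O.det_transvection, LinearMap.smul_apply, UForm.hlin_apply, ha, smul_zero, add_zero, map_one])
  exact ⟨g, hg, fun x => by rw [hgx, LinearMap.transvection.apply]; rfl⟩

/-- A torus element. -/
theorem torus_mem {b : V} (hb0 : b ≠ 0) (hb : h b b = 0) {μ : K} (hμ : μ ≠ 0)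
    (hμn : σ (Algebra.norm F μ) = Algebra.norm F μ) :
    ∃ t ∈ M, (t : Mn) *ᵥ b = μ • b ∧ ∀ k : K, ∀ x, (t : Mn) *ᵥ (k • x) = k • ((t : Mn) *ᵥ x) ∧
      h ((t : Mn) *ᵥ x) (μ • b) = h x b := by
  have H := O.form
  obtain ⟨b', hb', h1, h2⟩ := H.exists_pair hb0 hb
  have hτμ : τ μ ≠ 0 := fun e => hμ (H.tau_eq_zero.1 e)
  obtain ⟨L₁, hL₁⟩ : ∃ L, L = LinearMap.transvection ((μ - 1) • H.hlin b') b := ⟨_, rfl⟩
  obtain ⟨L₂, hL₂⟩ : ∃ L, L = LinearMap.transvection (((τ μ)⁻¹ - 1) • H.hlin b) b' := ⟨_, rfl⟩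
  haveI := finiteK (F := F) (K := K)
  have hdet : Algebra.norm F (LinearMap.det (L₁.comp L₂)) = 1 := by
    rw [LinearMap.det_comp, hL₁, hL₂, O.det_transvection, O.det_transvection]
    simp only [LinearMap.smul_apply, UForm.hlin_apply, smul_eq_mul, h1, h2, mul_one, add_sub_cancel]
    have e : Algebra.norm F (μ * (τ μ)⁻¹) * Algebra.norm F (τ μ) = Algebra.norm F μ := by
      rw [← map_mul, inv_mul_cancel_right₀ hτμ]
    rw [H.norm_tau, hμn] at e
    exact mul_right_cancel₀ (Algebra.norm_ne_zero_iff.2 hμ) (e.trans (one_mul _).symm)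
  have hL : ∀ x, L₁.comp L₂ x = x + ((μ - 1) * h x b') • b + (((τ μ)⁻¹ - 1) * h x b) • b' := fun x => by
    simp only [hL₁, hL₂, LinearMap.comp_apply, LinearMap.transvection.apply, LinearMap.smul_apply,
      UForm.hlin_apply, smul_eq_mul, H.add_left, H.smul_left, hb', mul_zero, add_zero]
    module
  obtain ⟨g, hg, hgx⟩ := O.mem _ (fun x y => by
    rw [hL, hL]
    simp only [H.add_left, H.add_right, H.smul_left, H.smul_right, hb, hb', h1, h2,
      mul_zero, add_zero, zero_add, mul_one, map_mul, map_sub, map_inv₀, map_one, H.invol,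
      H.symm y b, H.symm y b']
    field_simp
    ring) hdet
  have hgb : (g : Mn) *ᵥ b = μ • b := by
    rw [hgx, hL, h2, hb, mul_zero, zero_smul, add_zero, mul_one, sub_smul, one_smul, add_sub_cancel]
  refine ⟨g, hg, hgb, fun k x => ⟨by rw [hgx, hgx, map_smul], ?_⟩⟩
  rw [hgx, hL]
  simp only [H.add_left, H.smul_left, H.smul_right, hb, h1, mul_zero, add_zero, mul_one]
  field_simp
  ring

theorem inB_zero (b : V) : InB h M b 0 := ⟨1, one_mem M, fun x => by simp⟩

theorem inB_add {b : V} (hb : h b b = 0) {T T' : K →ₗ[F] K} (hT : InB h M b T) (hT' : InB h M b T') :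
    InB h M b (T + T') := by
  obtain ⟨t, ht, htx⟩ := hT
  obtain ⟨t', ht', htx'⟩ := hT'
  refine ⟨t * t', mul_mem ht ht', fun x => ?_⟩
  rw [Units.val_mul, ← Matrix.mulVec_mulVec, htx', htx, O.form.add_left, O.form.smul_left, hb, mul_zero, add_zero,
    LinearMap.add_apply, add_smul]
  abel

theorem inB_neg {b : V} (hb : h b b = 0) {T : K →ₗ[F] K} (hT : InB h M b T) : InB h M b (-T) := by
  obtain ⟨t, ht, htx⟩ := hT
  refine ⟨t⁻¹, inv_mem ht, fun x => gl_mulVec_injective t ?_⟩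
  show (t : Mn) *ᵥ _ = (t : Mn) *ᵥ _
  rw [mulVec_inv_cancel, htx, O.form.add_left, O.form.smul_left, hb, mul_zero, add_zero, LinearMap.neg_apply,
    neg_smul]
  abel

theorem inB_sub {b : V} (hb : h b b = 0) {T T' : K →ₗ[F] K} (hT : InB h M b T) (hT' : InB h M b T') :
    InB h M b (T - T') := by
  rw [sub_eq_add_neg]; exact O.inB_add hb hT (O.inB_neg hb hT')

theorem inB_root {b : V} (hb : h b b = 0) {e : K} (he : τ e = -e) : InB h M b (LinearMap.mulLeft F e) := by
  obtain ⟨t, ht, htx⟩ := O.root_mem hb he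
  exact ⟨t, ht, htx⟩

theorem inB_torus {b : V} (hb0 : b ≠ 0) (hb : h b b = 0) {μ : K} (hμ : μ ≠ 0)
    (hμn : σ (Algebra.norm F μ) = Algebra.norm F μ) {T : K →ₗ[F] K} (hT : InB h M b T) :
    InB h M b ((LinearMap.mulLeft F μ).comp (T.comp (LinearMap.mulLeft F (τ μ)))) := by
  have H := O.form
  obtain ⟨t, ht, htb, htx⟩ := O.torus_mem hb0 hb hμ hμn
  obtain ⟨u, hu, hux⟩ := hT
  refine ⟨t * u * t⁻¹, mul_mem (mul_mem ht hu) (inv_mem ht), fun x => ?_⟩
  obtain ⟨y, rfl⟩ : ∃ y, (t : Mn) *ᵥ y = x := ⟨_, mulVec_inv_cancel t x⟩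
  rw [Units.val_mul, Units.val_mul, ← Matrix.mulVec_mulVec, ← Matrix.mulVec_mulVec, inv_mulVec_cancel, hux,
    Matrix.mulVec_add, (htx (T (h y b)) b).1, htb]
  have hy : τ μ * h ((t : Mn) *ᵥ y) b = h y b := by rw [← (htx 1 y).2, H.smul_right]
  simp only [LinearMap.comp_apply, LinearMap.mulLeft_apply, hy, smul_smul, mul_comm μ]

/-- Change of the vector on a line. -/
theorem inB_smul {b : V} {s : K} {T : K →ₗ[F] K} (hT : InB h M (s • b) T) :
    InB h M b ((LinearMap.mulLeft F s).comp (T.comp (LinearMap.mulLeft F (τ s)))) := by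
  obtain ⟨t, ht, htx⟩ := hT
  refine ⟨t, ht, fun x => ?_⟩
  rw [htx, O.form.smul_right, smul_smul]
  congr 2
  exact mul_comm _ _

theorem extra_smul {b : V} {s : K} (hs : s ≠ 0) (hE : Extra h M (s • b)) : Extra h M b := by
  obtain ⟨T, hT, hne⟩ := hE
  refine ⟨_, O.inB_smul hT, fun ν => ?_⟩
  have hτs : τ s ≠ 0 := fun e => hs (O.form.tau_eq_zero.1 e)
  obtain ⟨χ, hχ⟩ := hne (ν / (s * τ s))
  refine ⟨(τ s)⁻¹ * χ, fun e => hχ ?_⟩
  simp only [LinearMap.comp_apply, LinearMap.mulLeft_apply, mul_inv_cancel_left₀ hτs] at e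
  field_simp
  field_simp at e
  linear_combination e

theorem isSkew_conj {T : K →ₗ[F] K} (hT : IsSkew τ T) (s : K) :
    IsSkew τ ((LinearMap.mulLeft F s).comp (T.comp (LinearMap.mulLeft F (τ s)))) := fun x y => by
  simp only [LinearMap.comp_apply, LinearMap.mulLeft_apply]
  have := hT (τ s * x) (τ s * y)
  rw [map_mul τ, O.form.invol] at this
  rw [map_mul τ s, show s * T (τ s * x) * τ y = T (τ s * x) * (s * τ y) by ring,
    show x * (τ s * τ (T (τ s * y))) = τ s * x * τ (T (τ s * y)) by ring]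
  exact this

theorem skewOp_conj (ψ : K ≃ₐ[F] K) (c s : K) :
    (LinearMap.mulLeft F s).comp ((skewOp τ ψ c).comp (LinearMap.mulLeft F (τ s))) =
      skewOp τ ψ (s * ψ (τ s) * c) := LinearMap.ext fun x => by
  have H := O.form
  simp only [LinearMap.comp_apply, LinearMap.mulLeft_apply, skewOp_apply, map_mul, H.alg_tau, H.invol,
    AlgEquiv.symm_apply_apply]
  ring

theorem full_smul {b : V} {s : K} (hs : s ≠ 0) {ψ : K ≃ₐ[F] K} (hF : Full h M (s • b) τ ψ) :
    Full h M b τ ψ := fun c => by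
  have hτs : ψ (τ s) ≠ 0 := fun e => hs (O.form.tau_eq_zero.1 ((EmbeddingLike.map_eq_zero_iff (f := ψ)).1 e))
  have := O.inB_smul (hF (c / (s * ψ (τ s))))
  rwa [O.skewOp_conj, mul_div_cancel₀ _ (mul_ne_zero hs hτs)] at this

theorem all_smul {b : V} {s : K} (hs : s ≠ 0) (hA : All h M (s • b) τ) : All h M b τ := fun T hT => by
  have hτs : τ s ≠ 0 := fun e => hs (O.form.tau_eq_zero.1 e)
  have := O.inB_smul (hA _ (O.isSkew_conj hT s⁻¹))
  convert this using 1
  refine LinearMap.ext fun x => ?_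
  simp only [LinearMap.comp_apply, LinearMap.mulLeft_apply, map_inv₀, mul_inv_cancel_left₀ hs,
    inv_mul_cancel_left₀ hτs]

/-- The elements of `M` are isometries on the trace form. -/
theorem skew {b : V} (hb0 : b ≠ 0) (hb : h b b = 0) {T : K →ₗ[F] K} (hT : InB h M b T) : IsSkew τ T := by
  intro χ η
  have H := O.form
  obtain ⟨t, ht, htx⟩ := hT
  obtain ⟨b', hb', h1, h2⟩ := H.exists_pair hb0 hb
  have := O.iso t ht (χ • b') (η • b')
  rw [htx, htx, H.form, H.form] at this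
  simp only [H.add_left, H.add_right, H.smul_left, H.smul_right, h1, h2, hb, hb', mul_one, mul_zero,
    zero_add, map_add, map_zero, add_zero] at this
  linear_combination this

/-- An element of `M` moving along a singular line is of the given kind. -/
theorem inB_of_sub {b : V} (hb0 : b ≠ 0) (hb : h b b = 0) {g : GL ι F} (hg : g ∈ M)
    (hgs : ∀ x, ∃ k : K, (g : Mn) *ᵥ x - x = k • b) :
    ∃ T : K →ₗ[F] K, InB h M b T ∧ ∀ x, (g : Mn) *ᵥ x = x + T (h x b) • b := by
  have H := O.form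
  obtain ⟨b', hb', h1, h2⟩ := H.exists_pair hb0 hb
  have hfix : ∀ l : K, (g : Mn) *ᵥ (l • b) = l • b := fun l => by
    refine sub_eq_zero.1 (H.herm.eq_zero _ fun x => ?_)
    obtain ⟨z, rfl⟩ : ∃ z, (g : Mn) *ᵥ z = x := ⟨_, mulVec_inv_cancel g x⟩
    obtain ⟨k, hk⟩ := hgs z
    rw [H.herm.toSesq.sub_right, O.iso g hg, ← H.herm.toSesq.sub_left,
      show z - (g : Mn) *ᵥ z = -(k • b) by rw [← hk, neg_sub], H.form, H.neg_left, H.smul_left, H.smul_right, hb,
      mul_zero, mul_zero, neg_zero, map_zero]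
  let T : K →ₗ[F] K := ((H.hlin b').restrictScalars F).comp
    ((Matrix.toLin' (g : Mn) - LinearMap.id).comp ((LinearMap.toSpanSingleton K V b').restrictScalars F))
  have hT : ∀ x, (g : Mn) *ᵥ x = x + T (h x b) • b := fun x => by
    obtain ⟨k, hk⟩ := hgs (h x b • b')
    have e : (g : Mn) *ᵥ x - x = (g : Mn) *ᵥ (h x b • b') - h x b • b' := by
      conv_lhs => rw [H.decomp hb hb' h1 h2 x, Matrix.mulVec_add, hfix]
      abel
    show _ = x + h ((g : Mn) *ᵥ (h x b • b') - h x b • b') b' • b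
    rw [hk, H.smul_left, h2, mul_one, ← hk, ← e, add_sub_cancel]
  exact ⟨T, ⟨g, hg, hT⟩, hT⟩

/-- An element fixing a singular line pointwise moves along it. -/
theorem sub_line_of_fix {b : V} (hb0 : b ≠ 0) (hb : h b b = 0) {g : GL ι F} (hg : g ∈ M)
    (hfix : ∀ l : K, (g : Mn) *ᵥ (l • b) = l • b) (x : V) : ∃ k : K, (g : Mn) *ᵥ x - x = k • b := by
  have H := O.form
  refine H.mem_line hb0 hb (tr_ext (F := F) fun k => ?_)
  rw [mul_zero, map_zero, ← H.invol k, ← H.smul_right, ← H.form, H.herm.toSesq.sub_left,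
    ← hfix (τ k), O.iso g hg, hfix, sub_self]

/-- Root elements move maps between lines. -/
theorem transport {b c : V} (hb : h b b = 0) (hc : h c c = 0) (hcb : h c b ≠ 0) :
    ∃ s : K, s ≠ 0 ∧ ∀ T : K →ₗ[F] K, InB h M b T → InB h M (s • c) T := by
  have H := O.form
  obtain ⟨e₀, he₀, he₀s⟩ := H.exists_skewK
  obtain ⟨s, hsdef⟩ : ∃ s, s = e₀ / h c b := ⟨_, rfl⟩
  have hs : s ≠ 0 := hsdef ▸ div_ne_zero he₀ hcb
  have hss : s * h c b + τ (s * h c b) = 0 := by
    rw [hsdef, div_mul_cancel₀ _ hcb, he₀s, add_neg_cancel]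
  obtain ⟨a, ha⟩ : ∃ a, a = b + s • c := ⟨_, rfl⟩
  have hbc : h b c = τ (h c b) := H.symm c b
  have haa : h a a = 0 := by
    rw [ha, H.add_left, H.add_right, H.add_right, H.smul_left, H.smul_right, H.smul_left, H.smul_right, hb, hc,
      hbc]
    rw [map_mul] at hss
    linear_combination hss
  have hne : τ s * h b c ≠ 0 :=
    mul_ne_zero (fun e => hs (H.tau_eq_zero.1 e)) (by rw [hbc]; exact fun e => hcb (H.tau_eq_zero.1 e))
  obtain ⟨e, he⟩ : ∃ e, e = -(τ s * h b c)⁻¹ := ⟨_, rfl⟩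
  have hes : τ e = -e := by
    rw [he, map_neg, map_inv₀, map_mul, H.invol, hbc, H.invol]
    rw [map_mul] at hss
    rw [show s * h c b = -(τ s * τ (h c b)) by linear_combination hss, inv_neg]
  obtain ⟨t, ht, htx⟩ := O.root_mem haa hes
  have htb : (t : Mn) *ᵥ b = (-s) • c := by
    have h1 : h b a = τ s * h b c := by rw [ha, H.add_right, H.smul_right, hb, zero_add]
    rw [htx, h1, he, neg_mul, inv_mul_cancel₀ hne, ha]
    module
  have htl : ∀ (k : K) (x : V), (t : Mn) *ᵥ (k • x) = k • ((t : Mn) *ᵥ x) := fun k x => by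
    rw [htx, htx, H.smul_left, smul_add, smul_smul]
    congr 2
    ring
  have hth : ∀ x y, h ((t : Mn) *ᵥ x) ((t : Mn) *ᵥ y) = h x y := fun x y => by
    simp only [htx, H.add_left, H.add_right, H.smul_left, H.smul_right, haa, map_mul, hes, H.symm y a, H.invol]
    ring
  refine ⟨-s, neg_ne_zero.2 hs, fun T ⟨u, hu, hux⟩ => ⟨t * u * t⁻¹, mul_mem (mul_mem ht hu) (inv_mem ht),
    fun x => ?_⟩⟩
  obtain ⟨y, rfl⟩ : ∃ y, (t : Mn) *ᵥ y = x := ⟨_, mulVec_inv_cancel t x⟩
  rw [Units.val_mul, Units.val_mul, ← Matrix.mulVec_mulVec, ← Matrix.mulVec_mulVec, inv_mulVec_cancel, hux,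
    Matrix.mulVec_add, htl, ← htb, hth]

theorem full_move {b c : V} (hb : h b b = 0) (hc : h c c = 0) (hcb : h c b ≠ 0) {ψ : K ≃ₐ[F] K}
    (hF : Full h M b τ ψ) : Full h M c τ ψ := by
  obtain ⟨s, hs, hT⟩ := O.transport hb hc hcb
  exact O.full_smul hs fun d => hT _ (hF d)

theorem all_move {b c : V} (hb0 : b ≠ 0) (hb : h b b = 0) (hc0 : c ≠ 0) (hc : h c c = 0) (hA : All h M b τ) :
    All h M c τ := by
  by_cases hcb : h c b = 0
  swap
  · obtain ⟨s, hs, hT⟩ := O.transport hb hc hcb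
    exact O.all_smul hs fun T hsk => hT _ (hA T hsk)
  obtain ⟨k, rfl⟩ := O.form.mem_line hb0 hb hcb
  have hk : k ≠ 0 := fun e => hc0 (by rw [e, zero_smul])
  refine O.all_smul (s := k⁻¹) (inv_ne_zero hk) ?_
  rwa [smul_smul, inv_mul_cancel₀ hk, one_smul]

end Over

end Cfsg.Agent.Classical.UnitFieldTwo
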