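import Cfsg.Agent.Lib.Classical.MaxUnitFieldTwoRad

/-!
Overgroups of the unitary group of a plane over an extension: tori make a component full, and two tangled
components separate.
-/

set_option autoImplicit false
set_option linter.unusedSectionVars false
set_option linter.style.haveILetI false
set_option quotPrecheck false

namespace Cfsg.Agent.Classical.UnitFieldTwo

open Matrix Module MaxTv

variable {F : Type*} [Field F] [Fintype F] {ι : Type} [Fintype ι] [DecidableEq ι]
variable {K : Type*} [Field K] [Fintype K] [Algebra F K] [Module K (ι → F)] [IsScalarTower F K (ι → F)]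

local notation "V" => (ι → F)
local notation "tr" => Algebra.trace F K

/-- The allowed torus parameters. -/
def IsTor (σ : F ≃+* F) (μ : K) : Prop := μ ≠ 0 ∧ σ (Algebra.norm F μ) = Algebra.norm F μ

namespace UForm

variable {r : ℕ} {σ : F ≃+* F} {f : (ι → F) → (ι → F) → F} {τ : K ≃+* K} {h : (ι → F) → (ι → F) → K}
variable (H : UForm r σ f τ h)
include H

theorem isTor_mul {μ ν : K} (hμ : IsTor σ μ) (hν : IsTor σ ν) : IsTor σ (μ * ν) :=
  ⟨mul_ne_zero hμ.1 hν.1, by rw [map_mul, map_mul, hμ.2, hν.2]⟩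

theorem isTor_fix {s : K} (hs0 : s ≠ 0) (hs : τ s = s) : IsTor σ s := ⟨hs0, by rw [← H.norm_tau, hs]⟩

theorem isTor_one : IsTor σ (1 : K) := H.isTor_fix one_ne_zero (map_one τ)

theorem isTor_quot (ψ : K ≃ₐ[F] K) {y : K} (hy : y ≠ 0) : IsTor σ (y / ψ y) := by
  haveI := finiteK (F := F) (K := K)
  have hψy : ψ y ≠ 0 := fun e => hy ((EmbeddingLike.map_eq_zero_iff (f := ψ)).1 e)
  refine ⟨div_ne_zero hy hψy, ?_⟩
  have e : Algebra.norm F (y / ψ y) = 1 := by
    have e1 : Algebra.norm F (y / ψ y) * Algebra.norm F (ψ y) = Algebra.norm F y := by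
      rw [← map_mul, div_mul_cancel₀ _ hψy]
    rw [H.norm_alg] at e1
    exact mul_right_cancel₀ (Algebra.norm_ne_zero_iff.2 hy) (e1.trans (one_mul _).symm)
  rw [e, map_one]

/-- Some torus value is not fixed. -/
theorem exists_tor_moved {ψ : K ≃ₐ[F] K} (hψ : Gen ψ) :
    ∃ μ : K, IsTor σ μ ∧ τ (μ * ψ (τ μ)) ≠ μ * ψ (τ μ) := by
  classical
  haveI := finiteK (F := F) (K := K)
  by_contra hcon
  push Not at hcon
  have hτ0 : ∀ {y : K}, y ≠ 0 → τ y ≠ 0 := fun hy e => hy (H.tau_eq_zero.1 e)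
  have hψ0 : ∀ {y : K}, y ≠ 0 → ψ y ≠ 0 := fun hy e => hy ((EmbeddingLike.map_eq_zero_iff (f := ψ)).1 e)
  let g : K → K := fun y => y / τ y / ψ (y / τ y)
  have hg : ∀ y, y ≠ 0 → ∃ a : F, algebraMap F K a = g y ∧ a ^ r = 1 := fun y hy => by
    have hμ := H.isTor_quot ψ hy
    obtain ⟨μ, hμdef⟩ : ∃ μ, μ = y / ψ y := ⟨_, rfl⟩
    rw [← hμdef] at hμ
    have e := hcon μ hμ
    rw [map_mul, H.alg_tau, H.invol] at e
    have hgy : g y = μ / τ μ := by
      have := hτ0 hy
      have := hψ0 hy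
      have := hψ0 (hτ0 hy)
      simp only [g, hμdef, map_div₀, H.alg_tau]
      field_simp
    have hfix : ψ (μ / τ μ) = μ / τ μ := by
      rw [map_div₀ ψ, div_eq_div_iff (hψ0 (hτ0 hμ.1)) (hτ0 hμ.1)]
      linear_combination e
    obtain ⟨a, ha⟩ := H.gen_fix hψ hfix
    refine ⟨a, ha.trans hgy.symm, ?_⟩
    have hn : Algebra.norm F (μ / τ μ) = 1 := by
      have e1 : Algebra.norm F (μ / τ μ) * Algebra.norm F (τ μ) = Algebra.norm F μ := by
        rw [← map_mul, div_mul_cancel₀ _ (hτ0 hμ.1)]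
      rw [H.norm_tau, hμ.2] at e1
      exact mul_right_cancel₀ (Algebra.norm_ne_zero_iff.2 hμ.1) (e1.trans (one_mul _).symm)
    rwa [← ha, Algebra.norm_algebraMap, H.deg] at hn
  let S : Finset K := Finset.univ.filter fun y => y ≠ 0
  let E : Finset K := Finset.univ.filter fun y => y ≠ 0 ∧ g y = 1
  let P : Finset K := Finset.univ.filter fun y => y ≠ 0 ∧ τ y = y
  have hgmul : ∀ x y : K, g (x / y) = g x / g y := fun x y => by
    simp only [g, div_eq_mul_inv, _root_.mul_inv_rev, inv_inv, map_mul, map_inv₀]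
    ring
  -- the values are roots of unity
  have h1 : S.card ≤ E.card * r := by
    refine le_trans (Finset.card_le_mul_card_image (f := g) S E.card fun v hv => ?_) (Nat.mul_le_mul_left _ ?_)
    · obtain ⟨y₀, hy₀, rfl⟩ := Finset.mem_image.1 hv
      have hy₀' : y₀ ≠ 0 := (Finset.mem_filter.1 hy₀).2
      refine Finset.card_le_card_of_injOn (fun y => y / y₀) (fun y hy => ?_) fun x _ y _ e => (div_left_inj' hy₀').1 e
      obtain ⟨hyS, hgy⟩ := Finset.mem_filter.1 hy
      have hy' : y ≠ 0 := (Finset.mem_filter.1 hyS).2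
      refine Finset.mem_filter.2 ⟨Finset.mem_univ _, div_ne_zero hy' hy₀', ?_⟩
      rw [hgmul, hgy, div_self]
      simp only [g]
      exact div_ne_zero (div_ne_zero hy₀' (hτ0 hy₀')) (hψ0 (div_ne_zero hy₀' (hτ0 hy₀')))
    · have hroots : (Polynomial.nthRoots r (1 : F)).toFinset.card ≤ r :=
        le_trans (Multiset.toFinset_card_le _) (Polynomial.card_nthRoots r 1)
      refine le_trans (Finset.card_le_card (t := (Polynomial.nthRoots r (1 : F)).toFinset.image (algebraMap F K)) ?_)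
        (le_trans Finset.card_image_le hroots)
      intro v hv
      obtain ⟨y, hy, rfl⟩ := Finset.mem_image.1 hv
      obtain ⟨a, ha, har⟩ := hg y (Finset.mem_filter.1 hy).2
      exact Finset.mem_image.2 ⟨a, Multiset.mem_toFinset.2
        ((Polynomial.mem_nthRoots (by have := H.two_le; omega)).2 har), ha⟩
  have h2 : E.card ≤ P.card * (Fintype.card F - 1) := by
    refine le_trans (Finset.card_le_mul_card_image (f := fun y => y / τ y) E P.card fun v hv => ?_)
      (Nat.mul_le_mul_left _ ?_)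
    · obtain ⟨y₀, hy₀, rfl⟩ := Finset.mem_image.1 hv
      obtain ⟨-, hy₀', -⟩ := Finset.mem_filter.1 hy₀
      refine Finset.card_le_card_of_injOn (fun y => y / y₀) (fun y hy => ?_) fun x _ y _ e => (div_left_inj' hy₀').1 e
      obtain ⟨hyE, hyv⟩ := Finset.mem_filter.1 hy
      obtain ⟨-, hy', -⟩ := Finset.mem_filter.1 hyE
      refine Finset.mem_filter.2 ⟨Finset.mem_univ _, div_ne_zero hy' hy₀', ?_⟩
      rw [map_div₀, div_eq_div_iff (hτ0 hy₀') hy₀']
      have e : y / τ y = y₀ / τ y₀ := hyv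
      rw [div_eq_div_iff (hτ0 hy') (hτ0 hy₀')] at e
      linear_combination -e
    · have hsub : E.image (fun y => y / τ y) ⊆ (Finset.univ.erase (0 : F)).image (algebraMap F K) := fun v hv => by
        obtain ⟨y, hy, rfl⟩ := Finset.mem_image.1 hv
        obtain ⟨-, hy', hgy⟩ := Finset.mem_filter.1 hy
        have hw : y / τ y ≠ 0 := div_ne_zero hy' (hτ0 hy')
        obtain ⟨a, ha⟩ := H.gen_fix hψ (x := y / τ y) ((eq_of_div_eq_one hgy).symm)
        exact Finset.mem_image.2 ⟨a, Finset.mem_erase.2 ⟨fun e => hw (by rw [← ha, e, map_zero]),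
          Finset.mem_univ _⟩, ha⟩
      refine le_trans (Finset.card_le_card hsub) (le_trans Finset.card_image_le ?_)
      rw [Finset.card_erase_of_mem (Finset.mem_univ _), Finset.card_univ]
  obtain ⟨k, hk⟩ : ∃ k, k = Nat.card {s : K // τ s = s} := ⟨_, rfl⟩
  have hS : S.card = k ^ 2 - 1 := by
    rw [hk, H.card_fix, show S = Finset.univ.erase (0 : K) from Finset.ext fun y => by simp [S],
      Finset.card_erase_of_mem (Finset.mem_univ _), Finset.card_univ]
  have hP : P.card = k - 1 := by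
    rw [hk, Nat.card_eq_fintype_card, Fintype.card_subtype,
      show P = (Finset.univ.filter fun s : K => τ s = s).erase 0 from Finset.ext fun y => by simp [P],
      Finset.card_erase_of_mem (by simp)]
  have hk2 : k ^ 2 = Fintype.card F ^ r := by rw [hk, H.card_fix, H.card_K]
  obtain ⟨Q, hQ⟩ : ∃ Q, Q = Fintype.card F := ⟨_, rfl⟩
  rw [← hQ] at h2 hk2
  have h3 : k ^ 2 - 1 ≤ (k - 1) * (Q - 1) * r := by
    rw [← hS]; rw [hP] at h2; exact h1.trans (Nat.mul_le_mul_right _ h2)
  have hk2' : 2 ≤ k := by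
    by_contra hlt
    have : k ^ 2 ≤ 1 := by rw [pow_two]; exact Nat.mul_le_mul (show k ≤ 1 by omega) (show k ≤ 1 by omega)
    have h4 : 1 < Q ^ r := Nat.one_lt_pow (Nat.ne_of_gt (lt_of_lt_of_le Nat.zero_lt_two H.two_le))
      (hQ ▸ Fintype.one_lt_card)
    omega
  have hQ2 : 2 ≤ Q := hQ ▸ Fintype.one_lt_card
  have h5 : k + 1 ≤ (Q - 1) * r := by
    have hk1 : 0 < k - 1 := by omega
    refine Nat.le_of_mul_le_mul_left ?_ hk1
    rw [← mul_assoc]
    refine le_trans (le_of_eq ?_) h3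
    rw [mul_comm, ← Nat.sq_sub_sq, one_pow]
  have h6 : k ^ 2 < (Q * r) ^ 2 := Nat.pow_lt_pow_left (lt_of_lt_of_le (Nat.lt_succ_self k)
    (h5.trans (Nat.mul_le_mul_right _ (Nat.sub_le _ _)))) (by norm_num)
  rw [hk2] at h6
  rcases H.size with ⟨hr, hQ9⟩ | ⟨hr, hQ4⟩
  · rw [hr] at h6; rw [← hQ] at hQ9
    nlinarith [Nat.mul_le_mul_right (Q * Q) hQ9]
  · rw [hr] at h6; rw [← hQ] at hQ4
    nlinarith [Nat.mul_le_mul_right (Q * Q) (show 64 ≤ Q * Q * Q from
      Nat.mul_le_mul (Nat.mul_le_mul hQ4 hQ4) hQ4)]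

/-- The torus values generate everything additively. -/
theorem span_tor {ψ : K ≃ₐ[F] K} (hψ : Gen ψ) (x : K) :
    x ∈ AddSubgroup.closure {w | ∃ μ : K, IsTor σ μ ∧ w = μ * ψ (τ μ)} := by
  classical
  obtain ⟨W, hW⟩ : ∃ W : Set K, W = {w | ∃ μ : K, IsTor σ μ ∧ w = μ * ψ (τ μ)} := ⟨_, rfl⟩
  rw [← hW]
  let A : AddSubgroup K := AddSubgroup.closure W
  have hmul : ∀ a ∈ A, ∀ w ∈ W, a * w ∈ A := fun a ha w hw => by
    induction ha using AddSubgroup.closure_induction with
    | mem x hx =>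
      rw [hW] at hx hw
      obtain ⟨μ, hμ, rfl⟩ := hx
      obtain ⟨ν, hν, rfl⟩ := hw
      refine AddSubgroup.subset_closure ?_
      rw [hW]
      exact ⟨μ * ν, H.isTor_mul hμ hν, by rw [map_mul, map_mul]; ring⟩
    | zero => rw [zero_mul]; exact A.zero_mem
    | add x y _ _ hx hy => rw [add_mul]; exact A.add_mem hx hy
    | neg x _ hx => rw [neg_mul]; exact A.neg_mem hx
  have hmulA : ∀ a ∈ A, ∀ a' ∈ A, a * a' ∈ A := fun a ha a' ha' => by
    induction ha' using AddSubgroup.closure_induction with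
    | mem x hx => exact hmul a ha x hx
    | zero => rw [mul_zero]; exact A.zero_mem
    | add x y _ _ hx hy => rw [mul_add]; exact A.add_mem hx hy
    | neg x _ hx => rw [mul_neg]; exact A.neg_mem hx
  let P : AddSubgroup K :=
    { carrier := {s | τ s = s}
      add_mem' := fun {a b} (ha : τ a = a) (hb : τ b = b) => by show τ (a + b) = a + b; rw [map_add, ha, hb]
      zero_mem' := map_zero τ
      neg_mem' := fun {a} (ha : τ a = a) => by show τ (-a) = -a; rw [map_neg, ha] }
  let S : Finset K := Finset.univ.filter fun s => s ≠ 0 ∧ τ s = s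
  have himg : ∀ s ∈ S, s * ψ s ∈ A ⊓ P ∧ s * ψ s ≠ 0 := fun s hs => by
    obtain ⟨-, hs0, hsf⟩ := Finset.mem_filter.1 hs
    refine ⟨⟨AddSubgroup.subset_closure ?_, ?_⟩,
      mul_ne_zero hs0 fun e => hs0 ((EmbeddingLike.map_eq_zero_iff (f := ψ)).1 e)⟩
    · rw [hW]; exact ⟨s, H.isTor_fix hs0 hsf, by rw [hsf]⟩
    · show τ (s * ψ s) = s * ψ s
      rw [map_mul, H.alg_tau, hsf]
  let N : Finset K := Finset.univ.filter fun s => s ≠ 0 ∧ s ∈ A ⊓ P
  have h1 : S.card ≤ 2 * N.card := by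
    refine le_trans (Finset.card_le_mul_card_image (f := fun s => s * ψ s) S 2 fun v hv => ?_)
      (Nat.mul_le_mul_left _ (Finset.card_le_card fun v hv => ?_))
    · obtain ⟨s₀, hs₀, rfl⟩ := Finset.mem_image.1 hv
      obtain ⟨-, hs₀0, hs₀f⟩ := Finset.mem_filter.1 hs₀
      refine le_trans (Finset.card_le_card (t := {s₀, -s₀}) fun s hs => ?_) Finset.card_le_two
      obtain ⟨hsS, hse⟩ := Finset.mem_filter.1 hs
      obtain ⟨-, hs0, -⟩ := Finset.mem_filter.1 hsS
      obtain ⟨u, hu⟩ : ∃ u, u = s / s₀ := ⟨_, rfl⟩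
      have hu1 : u * ψ u = 1 := by
        rw [hu, map_div₀, div_mul_div_comm]
        exact (div_eq_one_iff_eq (mul_ne_zero hs₀0 fun e => hs₀0 ((EmbeddingLike.map_eq_zero_iff (f := ψ)).1 e))).2 hse
      have hψu : ψ u = u⁻¹ := eq_inv_of_mul_eq_one_left (by rw [mul_comm]; exact hu1)
      obtain ⟨a, ha⟩ := hψ u (by rw [hψu, map_inv₀, hψu, inv_inv])
      have ha2 : a * a = 1 := (algebraMap F K).injective (by
        rw [map_mul, ha, map_one]
        rw [← ha, AlgEquiv.commutes, ha] at hu1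
        exact hu1)
      have hs' : s = algebraMap F K a * s₀ := by rw [ha, hu, div_mul_cancel₀ _ hs₀0]
      rcases mul_self_eq_one_iff.1 ha2 with rfl | rfl
      · rw [map_one, one_mul] at hs'
        simp [hs']
      · rw [map_neg, map_one, neg_one_mul] at hs'
        simp [hs']
    · obtain ⟨s, hs, rfl⟩ := Finset.mem_image.1 hv
      exact Finset.mem_filter.2 ⟨Finset.mem_univ _, (himg s hs).2, (himg s hs).1⟩
  have hP : P ≤ A := by
    have hdvd := AddSubgroup.card_dvd_of_le (inf_le_right : A ⊓ P ≤ P)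
    have hS : S.card + 1 = Nat.card P := by
      rw [Nat.card_eq_fintype_card, Fintype.card_subtype, ← Finset.card_insert_of_notMem (a := (0 : K))
        (s := S) (by simp [S])]
      congr 1
      ext s
      rcases eq_or_ne s 0 with rfl | hs
      · simp [P.zero_mem]
      · simp [S, hs, P]
    have hN : N.card + 1 = Nat.card ↥(A ⊓ P) := by
      rw [Nat.card_eq_fintype_card, Fintype.card_subtype, ← Finset.card_insert_of_notMem (a := (0 : K))
        (s := N) (by simp [N])]
      congr 1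
      ext s
      rcases eq_or_ne s 0 with rfl | hs
      · simp
      · simp [N, hs]
    obtain ⟨t, ht⟩ := hdvd
    have ht1 : t = 1 := by
      rcases (show t = 0 ∨ t = 1 ∨ 2 ≤ t by omega) with e | e | e
      · rw [e, mul_zero] at ht; omega
      · exact e
      · have h2 := Nat.mul_le_mul_left (Nat.card ↥(A ⊓ P)) e
        rw [← ht] at h2
        omega
    have heq : A ⊓ P = P := AddSubgroup.eq_of_le_of_card_ge inf_le_right (by rw [ht, ht1, mul_one])
    exact heq ▸ inf_le_left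
  obtain ⟨μ, hμ, hw⟩ := H.exists_tor_moved hψ
  obtain ⟨w, hwdef⟩ : ∃ w, w = μ * ψ (τ μ) := ⟨_, rfl⟩
  rw [← hwdef] at hw
  have hwA : w ∈ A := AddSubgroup.subset_closure (by rw [hW]; exact ⟨μ, hμ, hwdef⟩)
  have hw' : w - τ w ≠ 0 := sub_ne_zero.2 (Ne.symm hw)
  obtain ⟨b, hb⟩ : ∃ b, b = (x - τ x) / (w - τ w) := ⟨_, rfl⟩
  have hbP : b ∈ P := by
    show τ b = b
    rw [hb, map_div₀, map_sub, map_sub, H.invol, H.invol, ← neg_sub x, ← neg_sub w, neg_div_neg_eq]
  have haP : x - b * w ∈ P := by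
    have e : b * (w - τ w) = x - τ x := by rw [hb, div_mul_cancel₀ _ hw']
    show τ (x - b * w) = x - b * w
    rw [map_sub, map_mul, show τ b = b from hbP]
    linear_combination e
  have := A.add_mem (hP haP) (hmulA b (hP hbP) w hwA)
  rwa [sub_add_cancel] at this

end UForm

namespace Over

variable {r : ℕ} {σ : F ≃+* F} {f : (ι → F) → (ι → F) → F} {τ : K ≃+* K} {h : (ι → F) → (ι → F) → K}
  {M : Subgroup (GL ι F)} (O : Over r σ f τ h M)
include O

/-- One component gives the whole component. -/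
theorem full_of_coef {b : V} (hb0 : b ≠ 0) (hb : h b b = 0) {ψ : K ≃ₐ[F] K} (hψ : Gen ψ) {c : K} (hc0 : c ≠ 0)
    (hc : InB h M b (skewOp τ ψ c)) : Full h M b τ ψ := fun d => by
  have main : ∀ a ∈ AddSubgroup.closure {w | ∃ μ : K, IsTor σ μ ∧ w = μ * ψ (τ μ)},
      InB h M b (skewOp τ ψ (a * c)) := fun a ha => by
    induction ha using AddSubgroup.closure_induction with
    | mem x hx =>
      obtain ⟨μ, hμ, rfl⟩ := hx
      have := O.inB_torus hb0 hb hμ.1 hμ.2 hc
      rwa [O.skewOp_conj] at this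
    | zero => rw [zero_mul, skewOp_zero]; exact O.inB_zero b
    | add x y _ _ hx hy => rw [add_mul, skewOp_add]; exact O.inB_add hb hx hy
    | neg x _ hx => rw [neg_mul, skewOp_neg]; exact O.inB_neg hb hx
  have := main _ (O.form.span_tor hψ (d / c))
  rwa [div_mul_cancel₀ _ hc0] at this

/-- Two components separate. -/
theorem full_of_two {b : V} (hb0 : b ≠ 0) (hb : h b b = 0) {ψ₁ ψ₂ : K ≃ₐ[F] K} (h1 : Gen ψ₁) (h2 : Gen ψ₂)
    (h12 : ∃ s, τ s = s ∧ ψ₁ s ≠ ψ₂ s) (h21 : ∃ s, τ s = s ∧ ψ₁ (ψ₂ s) ≠ s) {c₁ c₂ : K} (hc0 : c₁ ≠ 0)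
    (hc : InB h M b (skewOp τ ψ₁ c₁ + skewOp τ ψ₂ c₂)) : Full h M b τ ψ₁ := by
  classical
  have H := O.form
  let A : AddSubgroup (K × K) :=
    AddSubgroup.closure {p | ∃ μ : K, IsTor σ μ ∧ p = (μ * ψ₁ (τ μ), μ * ψ₂ (τ μ))}
  have hgen : ∀ {μ : K}, IsTor σ μ → (μ * ψ₁ (τ μ), μ * ψ₂ (τ μ)) ∈ A := fun hμ =>
    AddSubgroup.subset_closure ⟨_, hμ, rfl⟩
  have hmul : ∀ a ∈ A, ∀ a' ∈ A, a * a' ∈ A := fun a ha a' ha' => by
    induction ha' using AddSubgroup.closure_induction with
    | mem x hx =>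
      induction ha using AddSubgroup.closure_induction with
      | mem y hy =>
        obtain ⟨μ, hμ, rfl⟩ := hx
        obtain ⟨ν, hν, rfl⟩ := hy
        convert hgen (H.isTor_mul hν hμ) using 1
        simp only [Prod.mk_mul_mk, map_mul, Prod.mk.injEq]
        constructor <;> ring
      | zero => rw [zero_mul]; exact A.zero_mem
      | add y z _ _ hy hz => rw [add_mul]; exact A.add_mem hy hz
      | neg y _ hy => rw [neg_mul]; exact A.neg_mem hy
    | zero => rw [mul_zero]; exact A.zero_mem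
    | add x y _ _ hx hy => rw [mul_add]; exact A.add_mem hx hy
    | neg x _ hx => rw [mul_neg]; exact A.neg_mem hx
  have hinB : ∀ p ∈ A, InB h M b (skewOp τ ψ₁ (p.1 * c₁) + skewOp τ ψ₂ (p.2 * c₂)) := fun p hp => by
    induction hp using AddSubgroup.closure_induction with
    | mem x hx =>
      obtain ⟨μ, hμ, rfl⟩ := hx
      have := O.inB_torus hb0 hb hμ.1 hμ.2 hc
      rw [LinearMap.add_comp, LinearMap.comp_add, O.skewOp_conj, O.skewOp_conj] at this
      exact this
    | zero => simpa [skewOp_zero] using O.inB_zero b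
    | add x y _ _ hx hy =>
      have := O.inB_add hb hx hy
      simp only [Prod.fst_add, Prod.snd_add, add_mul, skewOp_add]
      convert this using 1
      abel
    | neg x _ hx =>
      have := O.inB_neg hb hx
      simp only [Prod.fst_neg, Prod.snd_neg, neg_mul, skewOp_neg]
      convert this using 1
      abel
  by_cases hpure : ∃ a : K, a ≠ 0 ∧ (a, (0 : K)) ∈ A
  · obtain ⟨a, ha0, ha⟩ := hpure
    have := hinB _ ha
    rw [zero_mul, skewOp_zero, add_zero] at this
    exact O.full_of_coef hb0 hb h1 (mul_ne_zero ha0 hc0) this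
  push Not at hpure
  have hsur : ∀ y : K, ∃ x : K, (x, y) ∈ A := fun y => by
    have hy := H.span_tor h2 y
    induction hy using AddSubgroup.closure_induction with
    | mem x hx =>
      obtain ⟨μ, hμ, rfl⟩ := hx
      exact ⟨_, hgen hμ⟩
    | zero => exact ⟨0, A.zero_mem⟩
    | add x y _ _ hx hy => exact ⟨hx.choose + hy.choose, A.add_mem hx.choose_spec hy.choose_spec⟩
    | neg x _ hx => exact ⟨-hx.choose, A.neg_mem hx.choose_spec⟩
  choose θ hθ using hsur
  have huniq : ∀ {x y : K}, (x, y) ∈ A → θ y = x := fun {x y} hxy => by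
    by_contra hne
    refine hpure (θ y - x) (sub_ne_zero.2 hne) ?_
    have := A.sub_mem (hθ y) hxy
    rwa [Prod.mk_sub_mk, sub_self] at this
  let Θ : K →+* K :=
    { toFun := θ
      map_one' := huniq (by simpa using hgen H.isTor_one)
      map_mul' := fun x y => huniq (hmul _ (hθ x) _ (hθ y))
      map_zero' := huniq A.zero_mem
      map_add' := fun x y => huniq (A.add_mem (hθ x) (hθ y)) }
  have hs : ∀ s, τ s = s → Θ (s * ψ₂ s) = s * ψ₁ s := fun s hs => by
    rcases eq_or_ne s 0 with rfl | hs0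
    · simp
    · refine huniq ?_
      have := hgen (H.isTor_fix hs0 hs)
      rwa [hs] at this
  have hlin : ∀ s, τ s = s → Θ s + Θ (ψ₂ s) = s + ψ₁ s := fun s hs' => by
    have e1 := hs (s + 1) (by rw [map_add, hs', map_one])
    rw [map_add ψ₂, map_add ψ₁, map_one ψ₂, map_one ψ₁, map_mul, map_add, map_add, map_one] at e1
    have e2 := hs s hs'
    rw [map_mul] at e2
    linear_combination e1 - e2
  -- characters of the fixed elements
  let P : Submonoid K :=
    { carrier := {s | τ s = s}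
      mul_mem' := fun {a b} (ha : τ a = a) (hb : τ b = b) => by show τ (a * b) = a * b; rw [map_mul, ha, hb]
      one_mem' := map_one τ }
  let gθ : P →* K := Θ.toMonoidHom.comp P.subtype
  let gθψ : P →* K := (Θ.comp ψ₂.toAlgHom.toRingHom).toMonoidHom.comp P.subtype
  let g1 : P →* K := P.subtype
  let gψ : P →* K := ψ₁.toAlgHom.toRingHom.toMonoidHom.comp P.subtype
  have hrel := linearIndependent_iff.1 (linearIndependent_monoidHom P K)
    (Finsupp.single gθ 1 + Finsupp.single gθψ 1 - Finsupp.single g1 1 - Finsupp.single gψ 1) (by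
      funext x
      simp only [map_sub, map_add, Finsupp.linearCombination_single, one_smul, Pi.sub_apply, Pi.add_apply,
        Pi.zero_apply]
      show Θ (x : K) + Θ (ψ₂ (x : K)) - (x : K) - ψ₁ (x : K) = 0
      linear_combination hlin (x : K) x.2)
  have hne : gθψ ≠ gθ := fun e => by
    obtain ⟨s, hs1, hs2⟩ := H.exists_fix_moved h2
    exact hs2 (Θ.injective (DFunLike.congr_fun e ⟨s, hs1⟩))
  have hcase : gθ = g1 ∨ gθ = gψ := by
    by_contra hcon
    push Not at hcon
    have := DFunLike.congr_fun hrel gθ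
    simp only [Finsupp.sub_apply, Finsupp.add_apply, Finsupp.single_eq_same, Finsupp.zero_apply,
      Finsupp.single_eq_of_ne hne.symm, Finsupp.single_eq_of_ne hcon.1, Finsupp.single_eq_of_ne hcon.2] at this
    simp at this
  exfalso
  rcases hcase with e | e
  · obtain ⟨s, hs1, hs2⟩ := h12
    have e1 : Θ s = s := DFunLike.congr_fun e ⟨s, hs1⟩
    have e2 : Θ (ψ₂ s) = ψ₂ s :=
      DFunLike.congr_fun e ⟨ψ₂ s, show τ (ψ₂ s) = ψ₂ s by rw [H.alg_tau, hs1]⟩
    have e3 := hlin s hs1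
    rw [e1, e2] at e3
    exact hs2 (add_left_cancel e3).symm
  · obtain ⟨s, hs1, hs2⟩ := h21
    have e1 : Θ s = ψ₁ s := DFunLike.congr_fun e ⟨s, hs1⟩
    have e2 : Θ (ψ₂ s) = ψ₁ (ψ₂ s) :=
      DFunLike.congr_fun e ⟨ψ₂ s, show τ (ψ₂ s) = ψ₂ s by rw [H.alg_tau, hs1]⟩
    have e3 := hlin s hs1
    rw [e1, e2] at e3
    exact hs2 (by linear_combination e3)

end Over

end Cfsg.Agent.Classical.UnitFieldTwo
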