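import Cfsg.Agent.Lib.Classical.MaxUnitCircle

/-!
Traces on two circles whose radii have different square classes (a degree bound after Stepanov).
-/

set_option autoImplicit false
set_option linter.unusedSectionVars false

namespace Cfsg.Agent.Classical.MaxUnitFour

open Polynomial MaxTv MaxUnitMon

variable {F : Type*} [Field F] [Fintype F] [DecidableEq F] {σ : F ≃+* F} {q h : ℕ}

theorem fix_pow (hC : Circ σ q) {x : F} (hx : σ x = x) : x ^ q = x := by rw [← hC.apply, hx]

theorem pow_half_sq (hC : Circ σ q) (hh : q = 2 * h + 1) {x : F} (hx : σ x = x) (hx0 : x ≠ 0) :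
    (x ^ h) * x ^ h = 1 := by
  refine mul_left_cancel₀ hx0 ?_
  rw [mul_one, ← pow_add, ← pow_succ', show h + h + 1 = q by omega, fix_pow hC hx]

theorem pow_half_or (hC : Circ σ q) (hh : q = 2 * h + 1) {x : F} (hx : σ x = x) (hx0 : x ≠ 0) :
    x ^ h = 1 ∨ x ^ h = -1 := mul_self_eq_one_iff.1 (pow_half_sq hC hh hx hx0)

/-- Every fixed element is a square. -/
theorem exists_sqrt (hC : Circ σ q) (hh : q = 2 * h + 1) {D : F} (hD : σ D = D) : ∃ S : F, S * S = D := by
  rcases eq_or_ne D 0 with rfl | hD0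
  · exact ⟨0, zero_mul 0⟩
  have h2 : ringChar F ≠ 2 := fun e => by
    have := ringChar.charP F
    have h0 := hC.cast_q
    rw [hh, Nat.cast_add, Nat.cast_mul, Nat.cast_one, show ((2 : ℕ) : F) = 0 by rw [← e]; exact ringChar.Nat.cast_ringChar] at h0
    simp at h0
  obtain ⟨r, hr⟩ := (FiniteField.isSquare_iff h2 hD0).2 (by
    have hq : Fintype.card F / 2 = 2 * h * (h + 1) := by
      rw [hC.hF, hh]
      have : (2 * h + 1) ^ 2 = 2 * (2 * h * (h + 1)) + 1 := by ring
      omega
    rw [hq, pow_mul, show D ^ (2 * h) = 1 by rw [two_mul, pow_add, pow_half_sq hC hh hD hD0], one_pow])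
  exact ⟨r, hr.symm⟩

theorem pow_half_sqrt (hC : Circ σ q) (hh : q = 2 * h + 1) {S : F} (hS0 : S ≠ 0) :
    ((S * S) ^ h = -1 → σ S = -S) ∧ ((S * S) ^ h = 1 → σ S = S) ∧ (σ S = -S → (S * S) ^ h = -1) := by
  have he : σ S = S * (S * S) ^ h := by rw [hC.apply, hh, mul_pow, ← pow_add, ← pow_succ']; ring
  exact ⟨fun e => by rw [he, e]; ring, fun e => by rw [he, e, mul_one], fun e => mul_left_cancel₀ hS0 (by
    rw [← he, e]; ring)⟩

/-- An element of given norm and trace off the fixed field. -/
theorem exists_norm_trace (hC : Circ σ q) (hh : q = 2 * h + 1) {P T : F} (hP : σ P = P) (hT : σ T = T)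
    (hD : (T * T - 4 * P) ^ h = -1) : ∃ z : F, z * σ z = P ∧ z + σ z = T ∧ σ z ≠ z := by
  have hne : (-1 : F) ≠ 1 := fun e => by
    have h0 := hC.cast_q
    rw [hh, Nat.cast_add, Nat.cast_mul, Nat.cast_ofNat, Nat.cast_one,
      show (2 : F) = 0 by linear_combination -e] at h0
    simp at h0
  have h2 : (2 : F) ≠ 0 := fun e => hne (by linear_combination -e)
  obtain ⟨S, hS⟩ := exists_sqrt hC hh (D := T * T - 4 * P) (by simp [hT, hP, map_ofNat])
  have hS0 : S ≠ 0 := by
    rintro rfl
    rcases Nat.eq_zero_or_pos h with rfl | hpos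
    · simp at hD; exact hne hD.symm
    · rw [← hS, mul_zero, zero_pow (by omega)] at hD
      exact one_ne_zero (α := F) (by linear_combination hD)
  have hσS := (pow_half_sqrt hC hh hS0).1 (by rw [hS, hD])
  have hz : σ ((T + S) / 2) = (T - S) / 2 := by rw [map_div₀, map_add, hT, hσS, map_ofNat]; ring
  refine ⟨(T + S) / 2, ?_, ?_, fun e => hS0 ?_⟩
  · rw [hz]; field_simp; linear_combination -hS
  · rw [hz]; field_simp; ring
  · rw [hz] at e; field_simp at e
    exact (mul_eq_zero.1 (show (2 : F) * S = 0 by linear_combination -e)).resolve_left h2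

/-- Half of the fixed field, less one, are traces of the proper circle. -/
theorem card_traces (hC : Circ σ q) (hh : q = 2 * h + 1) {P : F} (hP : σ P = P) (hP0 : P ≠ 0) :
    2 * h ≤ 2 * ((fix σ).filter fun T => (T * T - 4 * P) ^ h = -1).card ∧
    (P ^ h = -1 → 2 * h + 2 ≤ 2 * ((fix σ).filter fun T => (T * T - 4 * P) ^ h = -1).card) := by
  classical
  obtain ⟨z₀, hz₀⟩ := exists_norm_eq (σ := σ.toRingHom) (fun e => by
    obtain ⟨a, ha⟩ := hC.σ_ne
    exact ha (RingHom.congr_fun e a)) hC.invol hP hP0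
  have hz0 : z₀ ≠ 0 := fun e => hP0 (by rw [← hz₀, e, zero_mul])
  let C : Finset F := Finset.univ.filter fun z => z * σ z = P ∧ σ z ≠ z
  let R : Finset F := Finset.univ.filter fun z => z * σ z = P ∧ σ z = z
  have hall : q + 1 ≤ C.card + R.card := by
    rw [← hC.card_mu, ← Finset.card_union_of_disjoint (Finset.disjoint_left.2 fun z h1 h3 => by
      simp only [C, R, Finset.mem_filter] at h1 h3; exact h1.2.2 h3.2.2)]
    refine Finset.card_le_card_of_injOn (fun u => z₀ * u) (fun u hu => ?_) fun a _ b _ e => mul_left_cancel₀ hz0 e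
    have hn : (z₀ * u) * σ (z₀ * u) = P := by
      have hz₀' : z₀ * σ z₀ = P := hz₀
      rw [map_mul]; linear_combination (u * σ u) * hz₀' + P * mem_mu.1 hu
    by_cases hr : σ (z₀ * u) = z₀ * u <;> simp_all [C, R]
  have hR : R.card ≤ 2 := by
    by_contra hc
    obtain ⟨a, b, c, ha, hb, hc', hab, hac, hbc⟩ := Finset.two_lt_card_iff.1 (not_le.1 hc)
    simp only [R, Finset.mem_filter] at ha hb hc'
    have ea : a * a = P := by rw [← ha.2.1, ha.2.2]
    have eb : b * b = P := by rw [← hb.2.1, hb.2.2]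
    have ec : c * c = P := by rw [← hc'.2.1, hc'.2.2]
    have e1 := (mul_self_eq_mul_self_iff.1 (eb.trans ea.symm)).resolve_left (Ne.symm hab)
    have e2 := (mul_self_eq_mul_self_iff.1 (ec.trans ea.symm)).resolve_left (Ne.symm hac)
    exact hbc (e1.trans e2.symm)
  have hle : C.card ≤ 2 * ((fix σ).filter fun T => (T * T - 4 * P) ^ h = -1).card := by
    refine (Finset.card_le_mul_card_image C 2 (f := fun z => z + σ z) fun K _ => ?_).trans
      (Nat.mul_le_mul_left 2 (Finset.card_le_card fun T hT => ?_))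
    · by_contra hc
      obtain ⟨a, b, c, ha, hb, hc', hab, hac, hbc⟩ := Finset.two_lt_card_iff.1 (not_le.1 hc)
      simp only [C, Finset.mem_filter, Finset.mem_univ, true_and] at ha hb hc'
      have key : ∀ x y : F, x * σ x = P → y * σ y = P → x + σ x = K → y + σ y = K → x ≠ y → x + y = K :=
        fun x y hx hy kx ky hxy => mul_left_cancel₀ (sub_ne_zero.2 hxy) (by
          linear_combination hy - hx + x * kx - y * ky)
      exact hbc (add_left_cancel ((key a b ha.1.1 hb.1.1 ha.2 hb.2 hab).trans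
        (key a c ha.1.1 hc'.1.1 ha.2 hc'.2 hac).symm))
    · simp only [C, Finset.mem_image, Finset.mem_filter, Finset.mem_univ, true_and] at hT
      obtain ⟨z, ⟨hzn, hzr⟩, rfl⟩ := hT
      refine Finset.mem_filter.2 ⟨hC.trace_fix z, ?_⟩
      rw [show (z + σ z) * (z + σ z) - 4 * P = (z - σ z) * (z - σ z) by linear_combination (4 : F) * hzn]
      exact (pow_half_sqrt hC hh (sub_ne_zero.2 (Ne.symm hzr))).2.2 (by rw [map_sub, hC.invol, neg_sub])
  refine ⟨by omega, fun hPn => ?_⟩
  have : R = ∅ := Finset.filter_false_of_mem fun z _ hz => by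
    have hz' : z * z = P := by rw [← hz.1, hz.2]
    have hz0' : z ≠ 0 := fun e => hP0 (by rw [← hz', e, zero_mul])
    have h1 : (z * z) ^ h = 1 := by rw [mul_pow]; exact pow_half_sq hC hh hz.2 hz0'
    rw [hz', hPn] at h1
    have h0 := hC.cast_q
    rw [hh, Nat.cast_add, Nat.cast_mul, Nat.cast_ofNat, Nat.cast_one,
      show (2 : F) = 0 by linear_combination -h1] at h0
    simp at h0
  rw [this, Finset.card_empty] at hall
  omega

/-- Nine elements. -/
theorem false_of_nine (hC : Circ σ q) (hq : q = 9) {c d : F} (hc : σ c = c) (hd : σ d = d) (hd0 : d ≠ 0)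
    (hcn : c ^ 4 = -1) (hdn : d ^ 4 = 1)
    (he : ∀ x : F, σ x = x → x ≠ 0 → x ≠ c → x ≠ d → (x * ((x - c) * (x - d))) ^ 4 = -1) : False := by
  have h3 : (3 : F) = 0 := by
    have h0 := hC.cast_q
    rw [hq, show ((9 : ℕ) : F) = 3 * 3 by norm_num] at h0
    exact mul_self_eq_zero.1 h0
  have hne : (-1 : F) ≠ 1 := fun e => one_ne_zero (α := F) (by linear_combination h3 + e)
  have hc0 : c ≠ 0 := fun e => by rw [e, zero_pow (by norm_num)] at hcn; exact one_ne_zero (α := F) (by linear_combination hcn)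
  have hcd : c + d ≠ 0 := fun e => hne (by rw [← hcn, ← hdn, show d = -c by linear_combination e, neg_pow]; norm_num)
  have e1 := he (c + d) (by rw [map_add, hc, hd]) hcd (fun e => hd0 (by linear_combination e))
    (fun e => hc0 (by linear_combination e))
  rw [show (c + d - c) = d by ring, show c + d - d = c by ring, mul_pow, mul_pow, hdn, hcn] at e1
  have e2 := he (-c) (by rw [map_neg, hc]) (neg_ne_zero.2 hc0)
    (fun e => hc0 (mul_left_cancel₀ (show (2 : F) ≠ 0 from fun t => hne (by linear_combination -t)) (by linear_combination -e)))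
    (fun e => hne (by rw [← hcn, ← hdn, ← e, neg_pow]; norm_num))
  rw [show (-c - c) = c by linear_combination (-c) * h3, show -c - d = -(c + d) by ring,
    show -c * (c * -(c + d)) = c * c * (c + d) by ring, mul_pow, mul_pow, hcn] at e2
  exact hne (by linear_combination -e1 - e2)

/-- The degree bound. -/
theorem false_of_large (hC : Circ σ q) (hh : q = 2 * h + 1) (hq : 11 ≤ q) {c d : F} (hc : σ c = c) (hd : σ d = d)
    (hc0 : c ≠ 0) (hd0 : d ≠ 0) (hcd : c ≠ d)
    (he : ∀ x : F, σ x = x → x ≠ 0 → x ≠ c → x ≠ d → (x * ((x - c) * (x - d))) ^ h = -1) : False := by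
  classical
  let e : F[X] := X * ((X - C c) * (X - C d))
  let Φ : F[X] := C 2 * e * (e ^ h + 1) + derivative e * (X ^ q - X)
  have hq0 : (q : F) = 0 := hC.cast_q
  have hh1 : (2 : F) * (h : F) + 1 = 0 := by rw [← hq0, hh]; push_cast; ring
  have hev : ∀ x : F, e.eval x = x * ((x - c) * (x - d)) := fun x => by simp [e]
  have hd1 : ∀ x : F, (derivative Φ).eval x = 2 * (derivative e).eval x * ((e.eval x) ^ h + 1) +
      2 * e.eval x * ((h : F) * (e.eval x) ^ (h - 1) * (derivative e).eval x) +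
      ((derivative (derivative e)).eval x * (x ^ q - x) - (derivative e).eval x) := fun x => by
    simp only [Φ, derivative_add, derivative_mul, derivative_pow, derivative_C, derivative_one, derivative_sub,
      derivative_X, hq0]
    simp
    ring
  have hpow : ∀ y : F, y ^ (h - 1) * y = y ^ h := fun y => by rw [← pow_succ]; congr 1; omega
  have hder0 : (derivative Φ).eval 0 ≠ 0 := by
    rw [hd1, hev, zero_mul, zero_pow (by omega), zero_pow (show q ≠ 0 by omega)]
    have : (derivative e).eval 0 = c * d := by simp [e]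
    rw [this]
    intro e0
    exact mul_ne_zero hc0 hd0 (by linear_combination e0)
  have hΦ0 : Φ ≠ 0 := fun e0 => hder0 (by rw [e0]; simp)
  have hroot : ∀ x ∈ fix σ, Φ.eval x = 0 := fun x hx => by
    have hxq : x ^ q = x := fix_pow hC (mem_fix.1 hx)
    simp only [Φ, eval_add, eval_mul, eval_C, eval_pow, eval_one, eval_sub, eval_X, hxq, sub_self, mul_zero,
      add_zero]
    rw [hev]
    by_cases h0 : x = 0 ∨ x = c ∨ x = d
    · rcases h0 with rfl | rfl | rfl <;> simp
    · push Not at h0
      rw [he x (mem_fix.1 hx) h0.1 h0.2.1 h0.2.2]; ring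
  have hdouble : ∀ x ∈ (fix σ) \ {0, c, d}, 2 ≤ Φ.roots.count x := fun x hx => by
    simp only [Finset.mem_sdiff, Finset.mem_insert, Finset.mem_singleton, not_or] at hx
    rw [count_roots]
    refine (one_lt_rootMultiplicity_iff_isRoot hΦ0).2 ⟨hroot x hx.1, ?_⟩
    have hp := he x (mem_fix.1 hx.1) hx.2.1 hx.2.2.1 hx.2.2.2
    have hp' := hpow (e.eval x)
    rw [hev] at hp'
    rw [IsRoot, hd1, hev, hp, fix_pow hC (mem_fix.1 hx.1)]
    linear_combination 2 * (derivative e).eval x * (h : F) * (hp'.trans hp) - (derivative e).eval x * hh1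
  have hmem : ∀ x ∈ fix σ, 1 ≤ Φ.roots.count x := fun x hx => by
    rw [Multiset.one_le_count_iff_mem, mem_roots hΦ0]; exact hroot x hx
  have hsum : ∑ x ∈ fix σ, Φ.roots.count x ≤ Φ.natDegree :=
    le_trans (by
      rw [← Multiset.toFinset_sum_count_eq]
      exact Finset.sum_le_sum_of_subset fun x hx => Multiset.mem_toFinset.2 (Multiset.one_le_count_iff_mem.1 (hmem x hx)))
      (card_roots' _)
  have hthree : ({0, c, d} : Finset F) ⊆ fix σ := by simp [Finset.insert_subset_iff, mem_fix, hc, hd]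
  rw [← Finset.sum_sdiff hthree] at hsum
  have s1 := Finset.card_nsmul_le_sum _ _ _ hdouble
  have s2 := Finset.card_nsmul_le_sum ({0, c, d} : Finset F) _ 1 fun x hx => hmem x (hthree hx)
  rw [Finset.card_sdiff_of_subset hthree, hC.card_fix, smul_eq_mul] at s1
  rw [Finset.card_eq_three.2 ⟨0, c, d, Ne.symm hc0, Ne.symm hd0, hcd, rfl⟩] at s1 s2
  rw [smul_eq_mul] at s2
  have he3 : e.natDegree ≤ 3 := by
    refine natDegree_mul_le.trans ?_
    have := natDegree_mul_le (p := X - C c) (q := X - C d)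
    simp only [natDegree_X, natDegree_X_sub_C] at this ⊢
    omega
  have hdeg : Φ.natDegree ≤ 3 * h + 3 := by
    refine (natDegree_add_le _ _).trans (max_le ?_ ?_)
    · have h1 := natDegree_C_mul_le (2 : F) e
      have h3 : (e ^ h + 1).natDegree ≤ 3 * h := by
        refine (natDegree_add_le _ _).trans (max_le (natDegree_pow_le.trans (by nlinarith)) (by simp))
      exact natDegree_mul_le.trans (by omega)
    · have h1 := (natDegree_derivative_le e)
      have h3 : (X ^ q - X : F[X]).natDegree ≤ q := (natDegree_sub_le _ _).trans (by simp; omega)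
      exact natDegree_mul_le.trans (by omega)
  omega

/-- Radii of different classes: proper circles with equal non-zero traces. -/
theorem exists_trace (hC : Circ σ q) (hh : q = 2 * h + 1) (hq : 9 ≤ q) {A B : F} (hA : σ A = A) (hB : σ B = B)
    (hAn : A ^ h = -1) (hBn : B ^ h = 1) :
    ∃ T : F, σ T = T ∧ T ≠ 0 ∧ (T * T - 4 * A) ^ h = -1 ∧ (T * T - 4 * B) ^ h = -1 := by
  classical
  have hne : (-1 : F) ≠ 1 := fun e => by
    have h0 := hC.cast_q
    rw [hh, Nat.cast_add, Nat.cast_mul, Nat.cast_ofNat, Nat.cast_one,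
      show (2 : F) = 0 by linear_combination -e] at h0
    simp at h0
  have h2 : (2 : F) ≠ 0 := fun e => hne (by linear_combination -e)
  have h4 : (4 : F) ^ h = 1 := by
    rw [show (4 : F) = 2 * 2 by norm_num, mul_pow]; exact pow_half_sq hC hh (map_ofNat σ 2) h2
  have h40 : (4 : F) ≠ 0 := by rw [show (4 : F) = 2 * 2 by norm_num]; exact mul_ne_zero h2 h2
  have hz : (0 : F) ^ h = 0 := zero_pow (by omega)
  have hA0 : A ≠ 0 := fun e => by rw [e, hz] at hAn; exact neg_ne_zero.2 one_ne_zero hAn.symm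
  have hB0 : B ≠ 0 := fun e => by rw [e, hz] at hBn; exact zero_ne_one hBn
  by_contra hcon
  push Not at hcon
  set c := 4 * A with hcdef
  set d := 4 * B with hddef
  have hc : σ c = c := by rw [hcdef, map_mul, map_ofNat, hA]
  have hd : σ d = d := by rw [hddef, map_mul, map_ofNat, hB]
  have hcn : c ^ h = -1 := by rw [hcdef, mul_pow, h4, one_mul, hAn]
  have hdn : d ^ h = 1 := by rw [hddef, mul_pow, h4, one_mul, hBn]
  have hc0 : c ≠ 0 := mul_ne_zero h40 hA0
  have hd0 : d ≠ 0 := mul_ne_zero h40 hB0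
  set SA := (fix σ).filter fun T => (T * T - c) ^ h = -1 with hSA
  set SB := (fix σ).filter fun T => (T * T - d) ^ h = -1 with hSB
  have hdis : Disjoint SA SB := Finset.disjoint_left.2 fun T h1 h3 => by
    simp only [SA, SB, Finset.mem_filter, mem_fix] at h1 h3
    by_cases hT : T = 0
    · subst hT
      rw [mul_zero, zero_sub, neg_pow, hcn] at h1
      rw [mul_zero, zero_sub, neg_pow, hdn] at h3
      exact hne (by linear_combination -h1.2 - h3.2)
    · exact hcon T h1.1 hT h1.2 h3.2
  have hUn : SA ∪ SB = fix σ := by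
    refine Finset.eq_of_subset_of_card_le (Finset.union_subset (Finset.filter_subset _ _) (Finset.filter_subset _ _)) ?_
    rw [Finset.card_union_of_disjoint hdis, hC.card_fix]
    have e1 := (card_traces hC hh hA hA0).2 hAn
    have e2 := (card_traces hC hh hB hB0).1
    rw [← hcdef, ← hSA] at e1
    rw [← hddef, ← hSB] at e2
    omega
  have hone : ∀ u v : F, σ u = u → σ v = v → u ≠ 0 → v ≠ 0 → (u ^ h = -1 ∨ v ^ h = -1) →
      ¬ (u ^ h = -1 ∧ v ^ h = -1) → (u * v) ^ h = -1 := fun u v hu hv hu0 hv0 h1 h3 => by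
    rw [mul_pow]
    rcases pow_half_or hC hh hu hu0 with a | a <;> rcases pow_half_or hC hh hv hv0 with b | b
    · rcases h1 with h1 | h1
      · exact absurd (h1.symm.trans a) hne
      · exact absurd (h1.symm.trans b) hne
    · rw [a, b, one_mul]
    · rw [a, b, mul_one]
    · exact absurd ⟨a, b⟩ h3
  have hsq : ∀ x : F, σ x = x → x ≠ 0 → x ^ h = 1 → x ≠ d → ((x - c) * (x - d)) ^ h = -1 := by
    intro x hx hx0 hxn hxd
    obtain ⟨T, hT⟩ := exists_sqrt hC hh hx
    have hT0 : T ≠ 0 := fun e => hx0 (by rw [← hT, e, zero_mul])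
    have hTf : σ T = T := (pow_half_sqrt hC hh hT0).2.1 (by rw [hT, hxn])
    have hxc : x ≠ c := fun e => hne (by rw [← hcn, ← e, hxn])
    have hmem : T ∈ SA ∪ SB := hUn.symm ▸ mem_fix.2 hTf
    simp only [Finset.mem_union, SA, SB, Finset.mem_filter, hT] at hmem
    refine hone _ _ (by rw [map_sub, hx, hc]) (by rw [map_sub, hx, hd]) (sub_ne_zero.2 hxc) (sub_ne_zero.2 hxd)
      (hmem.imp And.right And.right) fun hh' => ?_
    have := hcon T hTf hT0
    rw [hT] at this
    exact this hh'.1 hh'.2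
  have he : ∀ x : F, σ x = x → x ≠ 0 → x ≠ c → x ≠ d → (x * ((x - c) * (x - d))) ^ h = -1 := by
    intro x hx hx0 hxc hxd
    rcases pow_half_or hC hh hx hx0 with hxn | hxn
    · rw [mul_pow, hxn, one_mul, hsq x hx hx0 hxn hxd]
    set y := c * d / x with hy
    have hyn : y ^ h = 1 := by rw [hy, div_pow, mul_pow, hcn, hdn, hxn]; simp
    have hy0 : y ≠ 0 := div_ne_zero (mul_ne_zero hc0 hd0) hx0
    have hyd : y ≠ d := fun e => hxc (by rw [hy, div_eq_iff hx0] at e; exact (mul_left_cancel₀ hd0 (by linear_combination -e)))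
    have h1 := hsq y (by rw [hy, map_div₀, map_mul, hc, hd, hx]) hy0 hyn hyd
    rw [show (y - c) * (y - d) = c * d * ((x - c) * (x - d)) / (x * x) by rw [hy]; field_simp; ring,
      div_pow, mul_pow (c * d), mul_pow c d, hcn, hdn, mul_pow x x, hxn] at h1
    rw [mul_pow, hxn]
    linear_combination h1
  rcases eq_or_lt_of_le hq with h9 | h9
  · obtain rfl : h = 4 := by omega
    exact false_of_nine hC h9.symm hc hd hd0 hcn hdn he
  · exact false_of_large hC hh (by omega) hc hd hc0 hd0 (fun e => hne (by rw [← hcn, e, hdn])) he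

end Cfsg.Agent.Classical.MaxUnitFour
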