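import Cfsg.Agent.Lib.Classical.MaxUnitFourLines

/-!
Four coordinates: every non-monomial overgroup of the monomial group of `SU` has an element fixing a
coordinate line.
-/

set_option autoImplicit false
set_option linter.unusedSectionVars false

namespace Cfsg.Agent.Classical.MaxUnitMon

open Matrix Module MaxTv MaxMon MaxUnitFour

variable {F : Type*} [Field F] [Fintype F] [DecidableEq F] {ι : Type} [Fintype ι] [DecidableEq ι]

local notation "V" => (ι → F)
local notation "Mn" => Matrix ι ι F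

/-- The two axes and the pair. -/
def PairCase {R : Type*} [CommRing R] (h : ℕ) (a b c d : R) : Prop :=
  d - c ≠ 0 ∧ ((d - c) * (d - c) - 4 * (a * b)) ^ h = -1

/-- The norms of the derived column. -/
def ColCase {R : Type*} [CommRing R] (h : ℕ) (t a b c d : R) : Prop :=
  1 - t * a + t * (a * a) = 0 ∨
    ((1 - t * a + t * (a * a)) * (t * (a * b)) * (t * (a * c)) * (t * (a * d))) ^ h = 1

/-- The dichotomy for small fields. -/
def SmallCase {R : Type*} [CommRing R] (h : ℕ) (t a b c d : R) : Prop :=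
  PairCase h a b c d ∨ PairCase h a c b d ∨ PairCase h a d b c ∨ PairCase h b c a d ∨ PairCase h b d a c ∨
    PairCase h c d a b ∨ ColCase h t a b c d ∨ ColCase h t b a c d ∨ ColCase h t c a b d ∨ ColCase h t d a b c

theorem small_five : ∀ a b c d : ZMod 5, a ≠ 0 → b ≠ 0 → c ≠ 0 → d ≠ 0 → a + b + c + d = 1 →
    (a * b * c * d) ^ 2 = -1 → SmallCase 2 3 a b c d := by
  unfold SmallCase PairCase ColCase
  decide

theorem small_seven : ∀ a b c d : ZMod 7, a ≠ 0 → b ≠ 0 → c ≠ 0 → d ≠ 0 → a + b + c + d = 1 →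
    (a * b * c * d) ^ 3 = -1 → SmallCase 3 4 a b c d := by
  unfold SmallCase PairCase ColCase
  decide

theorem SmallCase.map {R S : Type*} [CommRing R] [CommRing S] (φ : R →+* S) (hφ : Function.Injective φ) {h : ℕ}
    {t a b c d : R} (H : SmallCase h t a b c d) : SmallCase h (φ t) (φ a) (φ b) (φ c) (φ d) := by
  have h1 : ∀ {x : R}, x ≠ 0 → φ x ≠ 0 := fun hx e => hx (hφ (by rw [e, map_zero]))
  have h2 : ∀ {p q r s : R}, PairCase h p q r s → PairCase h (φ p) (φ q) (φ r) (φ s) := fun {p q r s} H => by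
    refine ⟨by simpa using h1 H.1, ?_⟩
    have := congrArg φ H.2
    simpa [map_ofNat] using this
  have h3 : ∀ {p q r s : R}, ColCase h t p q r s → ColCase h (φ t) (φ p) (φ q) (φ r) (φ s) := fun {p q r s} H => by
    refine H.imp (fun e => ?_) fun e => ?_
    · simpa using congrArg φ e
    · simpa using congrArg φ e
  rcases H with H | H | H | H | H | H | H | H | H | H
  exacts [Or.inl (h2 H), Or.inr (Or.inl (h2 H)), Or.inr (Or.inr (Or.inl (h2 H))),
    Or.inr (Or.inr (Or.inr (Or.inl (h2 H)))), Or.inr (Or.inr (Or.inr (Or.inr (Or.inl (h2 H))))),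
    Or.inr (Or.inr (Or.inr (Or.inr (Or.inr (Or.inl (h2 H)))))),
    Or.inr (Or.inr (Or.inr (Or.inr (Or.inr (Or.inr (Or.inl (h3 H))))))),
    Or.inr (Or.inr (Or.inr (Or.inr (Or.inr (Or.inr (Or.inr (Or.inl (h3 H)))))))),
    Or.inr (Or.inr (Or.inr (Or.inr (Or.inr (Or.inr (Or.inr (Or.inr (Or.inl (h3 H))))))))),
    Or.inr (Or.inr (Or.inr (Or.inr (Or.inr (Or.inr (Or.inr (Or.inr (Or.inr (h3 H)))))))))]

theorem exists_cast {σ : F ≃+* F} {q : ℕ} (hC : Circ σ q) (hq : q.Prime) :
    ∃ φ : ZMod q →+* F, Function.Injective φ ∧ ∀ x, σ x = x → ∃ k, φ k = x := by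
  classical
  have : Fact q.Prime := ⟨hq⟩
  have hchar : CharP F q := by
    have hd : ringChar F ∣ q := ringChar.dvd hC.cast_q
    have := (hq.eq_one_or_self_of_dvd _ hd).resolve_left fun e => (CharP.char_is_prime F (ringChar F)).ne_one e
    exact this ▸ ringChar.charP F
  set φ := ZMod.castHom dvd_rfl F with hφ
  have hinj : Function.Injective φ := φ.injective
  refine ⟨φ, hinj, fun x hx => ?_⟩
  have hsub : Finset.univ.image φ ⊆ fix σ := fun y hy => by
    obtain ⟨k, -, rfl⟩ := Finset.mem_image.1 hy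
    rw [mem_fix, hC.apply, ← map_pow, ZMod.pow_card]
  have := Finset.eq_of_subset_of_card_le hsub (by
    rw [Finset.card_image_of_injective _ hinj, hC.card_fix, Finset.card_univ, ZMod.card])
  obtain ⟨k, -, hk⟩ := Finset.mem_image.1 (this.symm ▸ mem_fix.2 hx : x ∈ Finset.univ.image φ)
  exact ⟨k, hk⟩

variable {σ : F ≃+* F} {q : ℕ} {M : Subgroup (GL ι F)}

namespace Ctx

variable (X : Ctx σ q M)
include X

theorem exists_fix_sqrt {h : ℕ} (hh : q = 2 * h + 1) {P : F} (hP : σ P = P) (hP0 : P ≠ 0) (hPh : P ^ h = 1) :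
    ∃ R : F, σ R = R ∧ R * R = P := by
  obtain ⟨R, hR⟩ := exists_sqrt X.circ hh hP
  exact ⟨R, (pow_half_sqrt X.circ hh fun e => hP0 (by rw [← hR, e, zero_mul])).2.1 (by rw [hR, hPh]), hR⟩

theorem prod_norm (u : ι → F) (e : Fin 4 ≃ ι) : ∏ i : Fin 4, u (e i) * σ (u (e i)) = ∏ j, u j * σ (u j) :=
  Equiv.prod_comp e fun j => u j * σ (u j)

variable (hn : Fintype.card ι = 4) (hq : 4 ≤ q) (hG : ¬ Good M)
include hn hq hG

/-- A derived column. -/
theorem derived {g : GL ι F} (hg : g ∈ M) (hmon : ¬ IsMon (g : Mn)) (a c : ι) {x : F} (hx : x ∈ mu σ)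
    (hx4 : x ^ 4 ≠ 1) : ∃ k ∈ M, ¬ IsMon (k : Mn) ∧
      (∀ j, j ≠ c → (k : Mn) j c * σ ((k : Mn) j c) =
        (2 - x ^ 4 - (x ^ 4)⁻¹) * ((g : Mn) c a * σ ((g : Mn) c a) * ((g : Mn) j a * σ ((g : Mn) j a)))) ∧
      (k : Mn) c c * σ ((k : Mn) c c) = 1 - (2 - x ^ 4 - (x ^ 4)⁻¹) * ((g : Mn) c a * σ ((g : Mn) c a)) +
        (2 - x ^ 4 - (x ^ 4)⁻¹) * ((g : Mn) c a * σ ((g : Mn) c a) * ((g : Mn) c a * σ ((g : Mn) c a))) := by
  have hne : ∀ i j, (g : Mn) i j ≠ 0 := fun i j h => hmon (X.zero_mon hn hq hG hg h)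
  have hx0 := mu_ne hx
  have hsx : σ x = x⁻¹ := mu_inv hx
  obtain ⟨d, hdM, hd⟩ := X.exists_diag_mat (Function.update (fun _ => x) a (x⁻¹ ^ 3)) (fun i => by
      by_cases h : i = a
      · subst h; simpa using zpow_mem_mu (inv_mem_mu hx) 3
      · simpa [h] using hx) (by
    rw [Finset.prod_update_of_mem (Finset.mem_univ a), Finset.prod_const, ← Finset.erase_eq,
      Finset.card_erase_of_mem (Finset.mem_univ a), Finset.card_univ, hn]
    simp [hx0])
  have hdx : ∀ z : V, (d : Mn) *ᵥ z = x • z + ((x⁻¹ ^ 3 - x) * z a) • Pi.single a 1 := fun z => by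
    funext i
    rw [hd, Matrix.mulVec_diagonal]
    rcases eq_or_ne i a with rfl | hia
    · simp; ring
    · simp [hia]
  set k := g * d * g⁻¹ with hk
  have hkc : ∀ j, (k : Mn) j c = (if j = c then x else 0) + (x⁻¹ ^ 3 - x) * σ ((g : Mn) c a) * (g : Mn) j a := fun j => by
    rw [← MaxMon.col_apply (k : Mn) j c, hk, Units.val_mul, Units.val_mul, ← Matrix.mulVec_mulVec,
      ← Matrix.mulVec_mulVec, hdx, Matrix.mulVec_add, Matrix.mulVec_smul, Matrix.mulVec_smul, mulVec_inv_cancel,
      Pi.add_apply, Pi.smul_apply, Pi.smul_apply, MaxMon.col_apply, MaxMon.col_apply, X.inv_apply hg]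
    by_cases h : j = c
    · subst h; simp
    · simp [h]
  have hδ : x⁻¹ ^ 3 - x ≠ 0 := fun e => hx4 (by
    have : x⁻¹ ^ 3 = x := sub_eq_zero.1 e
    rw [inv_pow] at this
    field_simp at this
    linear_combination -this)
  refine ⟨k, mul_mem (mul_mem hg hdM) (inv_mem hg), fun hkm => ?_, fun j hj => ?_, ?_⟩
  · obtain ⟨π, y, -, hπ⟩ := hkm.exists_perm
    obtain ⟨j, -, hj⟩ := Finset.exists_mem_notMem_of_card_lt_card (s := ({c, π c} : Finset ι)) (t := Finset.univ)
      (lt_of_le_of_lt Finset.card_le_two (by rw [Finset.card_univ, hn]; omega))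
    simp only [Finset.mem_insert, Finset.mem_singleton, not_or] at hj
    have h := congrFun (hπ c) j
    rw [MaxMon.col_apply, hkc, if_neg hj.1, zero_add, Pi.single_eq_of_ne hj.2] at h
    exact mul_ne_zero (mul_ne_zero hδ fun e => hne c a (σ.map_eq_zero_iff.1 e)) (hne j a) h
  · rw [hkc, if_neg hj, zero_add]
    simp only [map_mul, map_sub, map_pow, map_inv₀, hsx, X.herm.invol]
    field_simp
    ring
  · rw [hkc, if_pos rfl]
    simp only [map_add, map_mul, map_sub, map_pow, map_inv₀, hsx, X.herm.invol]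
    field_simp
    ring

theorem not_square {g : GL ι F} (hg : g ∈ M) (hmon : ¬ IsMon (g : Mn)) (a : ι) {h : ℕ} (hh : q = 2 * h + 1) :
    (∏ j, (g : Mn) j a * σ ((g : Mn) j a)) ^ h = -1 := by
  have hne : ∀ j, (g : Mn) j a ≠ 0 := fun j e => hmon (X.zero_mon hn hq hG hg e)
  have hP : σ (∏ j, (g : Mn) j a * σ ((g : Mn) j a)) = ∏ j, (g : Mn) j a * σ ((g : Mn) j a) := by
    rw [map_prod]; exact Finset.prod_congr rfl fun j _ => X.norm_fix _
  have hP0 : (∏ j, (g : Mn) j a * σ ((g : Mn) j a)) ≠ 0 := Finset.prod_ne_zero_iff.2 fun j _ => X.norm_ne (hne j)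
  refine (pow_half_or X.circ hh hP hP0).resolve_left fun e1 => ?_
  obtain ⟨R, hR, hRR⟩ := X.exists_fix_sqrt hh hP hP0 e1
  exact X.square_false hn hq hG hg hmon a (Fintype.equivFinOfCardEq hn).symm R hR
    (by rw [X.prod_norm (fun j => (g : Mn) j a)]; exact hRR)

/-- There is an element fixing a coordinate line. -/
theorem good_false {g : GL ι F} (hg : g ∈ M) (hmon : ¬ IsMon (g : Mn)) : False := by
  classical
  obtain ⟨a⟩ : Nonempty ι := Fintype.card_pos_iff.1 (by omega)
  set e := (Fintype.equivFinOfCardEq hn).symm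
  set N : ι → F := fun j => (g : Mn) j a * σ ((g : Mn) j a) with hN
  have hne : ∀ j, (g : Mn) j a ≠ 0 := fun j h => hmon (X.zero_mon hn hq hG hg h)
  have hNf : ∀ j, σ (N j) = N j := fun j => X.norm_fix _
  have hN0 : ∀ j, N j ≠ 0 := fun j => X.norm_ne (hne j)
  rcases Nat.even_or_odd q with ⟨r, hr⟩ | ⟨h, hh⟩
  · -- characteristic two
    have h2 : (2 : F) = 0 := by
      by_contra h2
      have hch : ringChar F ≠ 2 := fun e => h2 (by
        have : ((2 : ℕ) : F) = 0 := by rw [← e]; exact ringChar.Nat.cast_ringChar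
        exact_mod_cast this)
      have hodd := FiniteField.odd_card_of_char_ne_two hch
      rw [X.circ.hF] at hodd
      exact absurd ((Nat.even_pow.2 ⟨⟨r, hr⟩, two_ne_zero⟩)) (Nat.not_even_iff.2 hodd)
    have : CharP F 2 := CharTwo.of_one_ne_zero_of_two_eq_zero one_ne_zero h2
    obtain ⟨R, hR⟩ := FiniteField.isSquare_of_char_two (F := F) (ringChar.eq F 2) (∏ j, N j)
    refine X.square_false hn hq hG hg hmon a e R ?_ (by rw [X.prod_norm (fun j => (g : Mn) j a)]; exact hR.symm)
    have h1 : σ R * σ R = R * R := by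
      rw [← map_mul, ← hR, map_prod]
      exact Finset.prod_congr rfl fun j _ => hNf j
    rcases mul_self_eq_mul_self_iff.1 h1 with h1 | h1
    · exact h1
    · rw [h1]; linear_combination -R * h2
  · -- odd
    have hP := X.not_square hn hq hG hg hmon a hh
    rcases Nat.lt_or_ge q 9 with hq9 | hq9
    · -- five and seven
      have hcases : q = 5 ∨ q = 7 := by omega
      have hsum : N (e 0) + N (e 1) + N (e 2) + N (e 3) = 1 := by
        have h1 := X.iso g hg (Pi.single a 1) (Pi.single a 1)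
        rw [X.dot_self_single] at h1
        rw [← h1, dot, ← Equiv.sum_comp e, Fin.sum_univ_four]
        simp only [hN, MaxMon.col_apply]
      have hprod : N (e 0) * N (e 1) * N (e 2) * N (e 3) = ∏ j, N j := by
        rw [← Equiv.prod_comp e, Fin.prod_univ_four]
      obtain ⟨x, hx, hxj⟩ := exists_circ_gen X.circ
      have hx4 : x ^ 4 ≠ 1 := hxj 4 (by omega) (by omega)
      have hx0 := mu_ne hx
      obtain ⟨t, ht, hsmall⟩ : ∃ t : F, 2 - x ^ 4 - (x ^ 4)⁻¹ = t ∧
          SmallCase h t (N (e 0)) (N (e 1)) (N (e 2)) (N (e 3)) := by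
        rcases hcases with h5 | h7
        · obtain rfl : h = 2 := by omega
          obtain ⟨φ, hφ, hφ'⟩ := exists_cast X.circ (by rw [h5]; norm_num)
          subst h5
          choose k hk using fun i => hφ' _ (hNf (e i))
          have hk0 : ∀ i, k i ≠ 0 := fun i h0 => hN0 (e i) (by rw [← hk i, h0, map_zero])
          have hs := small_five (k 0) (k 1) (k 2) (k 3) (hk0 0) (hk0 1) (hk0 2) (hk0 3)
            (hφ (by simp only [map_add, map_one, hk]; exact hsum))
            (hφ (by simp only [map_mul, map_pow, map_neg, map_one, hk]; rw [hprod]; exact hP))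
          refine ⟨_, rfl, ?_⟩
          have := hs.map φ hφ
          simp only [hk, map_ofNat] at this
          have hl : (x ^ 4) ^ 2 + x ^ 4 + 1 = 0 := by
            refine (mul_eq_zero.1 (show (x ^ 4 - 1) * ((x ^ 4) ^ 2 + x ^ 4 + 1) = 0 by
              linear_combination (x ^ 6 + 1) * X.circ.pow_mu hx)).resolve_left (sub_ne_zero.2 hx4)
          rwa [show 2 - x ^ 4 - (x ^ 4)⁻¹ = 3 by field_simp; linear_combination -hl]
        · obtain rfl : h = 3 := by omega
          obtain ⟨φ, hφ, hφ'⟩ := exists_cast X.circ (by rw [h7]; norm_num)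
          subst h7
          choose k hk using fun i => hφ' _ (hNf (e i))
          have hk0 : ∀ i, k i ≠ 0 := fun i h0 => hN0 (e i) (by rw [← hk i, h0, map_zero])
          have hs := small_seven (k 0) (k 1) (k 2) (k 3) (hk0 0) (hk0 1) (hk0 2) (hk0 3)
            (hφ (by simp only [map_add, map_one, hk]; exact hsum))
            (hφ (by simp only [map_mul, map_pow, map_neg, map_one, hk]; rw [hprod]; exact hP))
          refine ⟨_, rfl, ?_⟩
          have := hs.map φ hφ
          simp only [hk, map_ofNat] at this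
          have hl : x ^ 4 = -1 := (mul_self_eq_one_iff.1 (by
            rw [← pow_add]; exact X.circ.pow_mu hx)).resolve_left hx4
          rwa [show 2 - x ^ 4 - (x ^ 4)⁻¹ = 4 by rw [hl]; norm_num]
      have hpair : ∀ i j k l : Fin 4, Function.Injective ![i, j, k, l] →
          PairCase h (N (e i)) (N (e j)) (N (e k)) (N (e l)) → False := by
        intro i j k l hinj hc
        obtain ⟨z, hz, hzt, hzr⟩ := exists_norm_trace X.circ hh (P := N (e i) * N (e j)) (T := N (e l) - N (e k))
          (by rw [map_mul, hNf, hNf]) (by rw [map_sub, hNf, hNf]) hc.2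
        exact X.trans_false hn hq hG hg hmon a ((Equiv.ofBijective _ (Finite.injective_iff_bijective.1 hinj)).trans e)
          (z := z) hz hzt (by rw [hzt]; exact hc.1) hzr
      have hcol : ∀ i j k l : Fin 4, Function.Injective ![i, j, k, l] →
          ColCase h t (N (e i)) (N (e j)) (N (e k)) (N (e l)) → False := by
        intro i j k l hinj hc
        set e' := (Equiv.ofBijective _ (Finite.injective_iff_bijective.1 hinj)).trans e with he'
        have v0 : e' 0 = e i := rfl
        have v1 : e' 1 = e j := rfl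
        have v2 : e' 2 = e k := rfl
        have v3 : e' 3 = e l := rfl
        obtain ⟨K, hK, hKm, hKo, hKc⟩ := X.derived hn hq hG hg hmon a (e i) hx hx4
        rw [ht] at hKo hKc
        rcases hc with hc | hc
        · refine hKm (X.zero_mon hn hq hG hK (c := e i) (o := e i) ?_)
          by_contra hne'
          exact X.norm_ne hne' (by rw [hKc]; exact hc)
        · have hK' := X.not_square hn hq hG hK hKm (e i) hh
          rw [← Equiv.prod_comp e', Fin.prod_univ_four, v0, v1, v2, v3, hKc,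
            hKo (e j) (fun e0 => absurd (e'.injective (v1.trans (e0.trans v0.symm))) (by decide)),
            hKo (e k) (fun e0 => absurd (e'.injective (v2.trans (e0.trans v0.symm))) (by decide)),
            hKo (e l) (fun e0 => absurd (e'.injective (v3.trans (e0.trans v0.symm))) (by decide))] at hK'
          have h1 : (-1 : F) = 1 := hK'.symm.trans hc
          have h0 := X.circ.cast_q
          rw [hh, Nat.cast_add, Nat.cast_mul, Nat.cast_ofNat, Nat.cast_one,
            show (2 : F) = 0 by linear_combination -h1] at h0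
          simp at h0
      rcases hsmall with H | H | H | H | H | H | H | H | H | H
      exacts [hpair 0 1 2 3 (by decide) H, hpair 0 2 1 3 (by decide) H, hpair 0 3 1 2 (by decide) H,
        hpair 1 2 0 3 (by decide) H, hpair 1 3 0 2 (by decide) H, hpair 2 3 0 1 (by decide) H,
        hcol 0 1 2 3 (by decide) H, hcol 1 0 2 3 (by decide) H, hcol 2 0 1 3 (by decide) H,
        hcol 3 0 1 2 (by decide) H]
    · -- two circles
      set A := N (e 0) * N (e 1) with hA
      set B := N (e 2) * N (e 3) with hB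
      have hAf : σ A = A := by rw [hA, map_mul, hNf, hNf]
      have hBf : σ B = B := by rw [hB, map_mul, hNf, hNf]
      have hAB : A ^ h * B ^ h = -1 := by
        rw [← mul_pow, ← hP]
        congr 1
        rw [← Equiv.prod_comp e, Fin.prod_univ_four, hA, hB]
        simp only [hN]
        ring
      obtain ⟨T, hT, hT0, hTA, hTB⟩ : ∃ T : F, σ T = T ∧ T ≠ 0 ∧ (T * T - 4 * A) ^ h = -1 ∧
          (T * T - 4 * B) ^ h = -1 := by
        rcases pow_half_or X.circ hh hAf (mul_ne_zero (hN0 _) (hN0 _)) with hA1 | hA1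
        · obtain ⟨T, h1, h2, h3, h4⟩ := exists_trace X.circ hh hq9 hBf hAf
            (by rw [hA1, one_mul] at hAB; exact hAB) hA1
          exact ⟨T, h1, h2, h4, h3⟩
        · exact exists_trace X.circ hh hq9 hAf hBf hA1 (by rw [hA1, neg_one_mul, neg_inj] at hAB; exact hAB)
      obtain ⟨z₁, hz₁, ht₁, hr₁⟩ := exists_norm_trace X.circ hh hAf hT hTA
      obtain ⟨z₂, hz₂, ht₂, -⟩ := exists_norm_trace X.circ hh (T := -T) hBf (by rw [map_neg, hT])
        (by rw [neg_mul_neg]; exact hTB)
      exact X.circles_false hn hq hG hg hmon a e hz₁ hz₂ (by rw [ht₁, ht₂, add_neg_cancel]) (by rw [ht₁]; exact hT0) hr₁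

omit hG in
/-- Four coordinates: an element fixing a coordinate line. -/
theorem exists_good_four {g : GL ι F} (hg : g ∈ M) (hmon : ¬ IsMon (g : Mn)) : Good M :=
  by_contra fun hG => X.good_false hn hq hG hg hmon

end Ctx

end Cfsg.Agent.Classical.MaxUnitMon
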