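import Cfsg.Agent.Lib.Classical.MaxUnitMonOdd
import Cfsg.Agent.Lib.Classical.MaxUnitFourArith
import Cfsg.Agent.Lib.Classical.LinFour.Lines

/-!
The monomial group of `SU` in dimension four, for at least four elements: some non-monomial element fixes a
coordinate line.
-/

set_option autoImplicit false
set_option linter.unusedSectionVars false

namespace Cfsg.Agent.Classical.MaxUnitMon

open Matrix Module MaxTv MaxMon

variable {F : Type*} [Field F] [Fintype F] [DecidableEq F] {ι : Type} [Fintype ι] [DecidableEq ι]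

local notation "V" => (ι → F)
local notation "Mn" => Matrix ι ι F

variable {σ : F ≃+* F} {q : ℕ} {M : Subgroup (GL ι F)}

theorem perm_four_free : ∀ π : Equiv.Perm (Fin 4), (∀ i, π i ≠ i) → ∀ i, π (π (π (π i))) = i := by decide

theorem perm_four_free' (hn : Fintype.card ι = 4) (π : Equiv.Perm ι) (h : ∀ i, π i ≠ i) (i : ι) :
    π (π (π (π i))) = i := by
  let e := Fintype.equivFinOfCardEq hn
  have := perm_four_free (e.permCongr π) (fun j hj => h (e.symm j) (e.injective (by simpa using hj))) (e i)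
  simpa using this

/-- A generator of the circle. -/
theorem exists_circ_gen (hC : Circ σ q) : ∃ z ∈ mu σ, ∀ j, 0 < j → j ≤ q → z ^ j ≠ 1 := by
  obtain ⟨g, hg⟩ := IsCyclic.exists_ofOrder_eq_natCard (α := Fˣ)
  have hq := hC.two_le
  have hord : orderOf g = (q - 1) * (q + 1) := by
    rw [hg, Nat.card_units, Nat.card_eq_fintype_card, hC.hF]
    obtain ⟨r, rfl⟩ : ∃ r, q = r + 1 := ⟨q - 1, by omega⟩
    rw [Nat.add_sub_cancel, sq]
    rw [show (r + 1) * (r + 1) = r * (r + 1 + 1) + 1 by ring]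
    omega
  have h1 : ∀ n, orderOf g ∣ n → (g : F) ^ n = 1 := fun n hn => by
    rw [← Units.val_pow_eq_pow_val, orderOf_dvd_iff_pow_eq_one.1 hn, Units.val_one]
  refine ⟨(g : F) ^ (q - 1), ?_, fun j hj hjq e => ?_⟩
  · rw [hC.mem_mu_iff, ← pow_mul]
    exact h1 _ (dvd_of_eq hord)
  · rw [← pow_mul] at e
    have hd : orderOf g ∣ (q - 1) * j := orderOf_dvd_of_pow_eq_one (Units.ext (by simpa using e))
    rw [hord] at hd
    have := Nat.le_of_dvd hj ((Nat.mul_dvd_mul_iff_left (by omega)).1 hd)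
    omega

namespace Ctx

variable (X : Ctx σ q M)
include X

theorem exists_diag_mat (f : ι → F) (hf : ∀ j, f j ∈ mu σ) (hp : ∏ j, f j = 1) :
    ∃ d ∈ M, (d : Mn) = Matrix.diagonal f := by
  obtain ⟨d, hd, hdz⟩ := X.exists_diag_mem f hf hp
  exact ⟨d, hd, Matrix.ext_iff_mulVec.2 fun z => funext fun j => by rw [hdz, Matrix.mulVec_diagonal]⟩

variable (hn : Fintype.card ι = 4) (hq : 4 ≤ q) (hG : ¬ Good M)
include hn hq hG

theorem axis_mon {g : GL ι F} (hg : g ∈ M) {x i : ι} (h : ∀ j, j ≠ i → (g : Mn) j x = 0) : IsMon (g : Mn) :=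
  by_contra fun hmon => hG (X.good_of_axis hg hmon h)

theorem no_two_zeros {g : GL ι F} (hg : g ∈ M) (hmon : ¬ IsMon (g : Mn)) {c a b : ι} (hab : a ≠ b)
    (ha : ((g⁻¹ : GL ι F) : Mn) a c = 0) (hb : ((g⁻¹ : GL ι F) : Mn) b c = 0) : False := by
  obtain ⟨l, hl, hlj⟩ := exists_circ_gen X.circ
  have hl0 := mu_ne hl
  obtain ⟨d, hdM, hd⟩ := X.exists_diag_mat (pairFun a b l) (fun j => by
    unfold pairFun; split_ifs
    exacts [hl, inv_mem_mu hl, one_mem_mu]) (pairFun_prod hab hl0)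
  have hfix : ((g * d * g⁻¹ : GL ι F) : Mn) *ᵥ Pi.single c 1 = Pi.single c 1 := by
    rw [Units.val_mul, Units.val_mul, ← Matrix.mulVec_mulVec, ← Matrix.mulVec_mulVec]
    refine (congrArg ((g : Mn) *ᵥ ·) ?_).trans (mulVec_inv_cancel g _)
    funext i
    rw [hd, Matrix.mulVec_diagonal, MaxMon.col_apply]
    rcases eq_or_ne i a with rfl | hia
    · rw [ha, mul_zero]
    rcases eq_or_ne i b with rfl | hib
    · rw [hb, mul_zero]
    rw [pairFun_other hia hib, one_mul]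
  have hkm : IsMon ((g * d * g⁻¹ : GL ι F) : Mn) := by_contra fun h =>
    hG ⟨_, mul_mem (mul_mem hg hdM) (inv_mem hg), h, c, 1, hfix⟩
  obtain ⟨π, x, -, hπ⟩ := hkm.exists_perm
  have hπc : π c = c := by
    by_contra hne
    have h1 := congrFun ((hπ c).symm.trans hfix) c
    rw [Pi.single_eq_of_ne (Ne.symm hne), Pi.single_eq_same] at h1
    exact zero_ne_one h1
  set Fx := Finset.univ.filter fun j => π j = j with hFx
  have hfx : ∀ r ∈ Fx, x r = 1 := fun r hr => by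
    rw [hFx, Finset.mem_filter] at hr
    by_contra hx1
    have hz : ∀ i, i ≠ a → i ≠ b → ((g⁻¹ : GL ι F) : Mn) i r = 0 := fun i hia hib =>
      (LinFour.fixed_eigen hd hπ hr.2 i).resolve_right (by rw [pairFun_other hia hib]; exact Ne.symm hx1)
    refine LinFour.inv_not_mon hmon ?_
    rcases LinFour.fixed_eigen hd hπ hr.2 a with e | e
    · refine X.axis_mon hn hq hG (inv_mem hg) (x := r) (i := b) fun j hj => ?_
      by_cases hja : j = a
      · rw [hja, e]
      · exact hz j hja hj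
    · refine X.axis_mon hn hq hG (inv_mem hg) (x := r) (i := a) fun j hj => ?_
      by_cases hjb : j = b
      · refine (LinFour.fixed_eigen hd hπ hr.2 j).resolve_right fun e' => hlj 2 (by omega) (by omega) ?_
        rw [hjb, pairFun_right hab] at e'
        rw [pairFun_left] at e
        rw [sq]
        nth_rewrite 2 [e.trans e'.symm]
        exact mul_inv_cancel₀ hl0
      · exact hz j hj hjb
  have htr : (Fx.card : F) = 2 + l + l⁻¹ := by
    rw [← LinFour.trace_pairFun hn hab l, ← hd, ← LinFour.trace_conj g d, LinFour.trace_mon hπ,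
      Finset.sum_congr rfl hfx, Finset.sum_const, nsmul_one]
  have h4 : Fx.card ≤ 4 := hn ▸ Finset.card_le_univ _
  have h1 : 0 < Fx.card := Finset.card_pos.2 ⟨c, by simp [hFx, hπc]⟩
  have h3 : Fx.card ≠ 3 := fun e => by
    have hs : π.support = Fxᶜ := by ext j; simp [hFx]
    exact Equiv.Perm.card_support_ne_one π (by rw [hs, Finset.card_compl, hn, e])
  obtain e | e | e : Fx.card = 1 ∨ Fx.card = 2 ∨ Fx.card = 4 := by omega
  · rw [e, Nat.cast_one] at htr
    refine hlj 3 (by omega) (by omega) ?_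
    have h5 : l * l + l + 1 = 0 := by field_simp at htr; linear_combination -htr
    linear_combination (l - 1) * h5
  · rw [e, Nat.cast_ofNat] at htr
    refine hlj 4 (by omega) (by omega) ?_
    have h5 : l * l + 1 = 0 := by field_simp at htr; linear_combination -htr
    linear_combination (l * l - 1) * h5
  · have huniv : Fx = Finset.univ := Finset.eq_univ_of_card _ (by rw [e, hn])
    have hk1 : g * d * g⁻¹ = 1 := Units.ext (Matrix.ext_iff_mulVec.2 fun z => funext fun j => by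
      have hj : j ∈ Fx := huniv ▸ Finset.mem_univ j
      have h6 := mon_apply hπ z j
      rw [hfx j hj, one_mul] at h6
      rw [Units.val_one, Matrix.one_mulVec]
      rw [hFx, Finset.mem_filter] at hj
      rwa [hj.2] at h6)
    refine hlj 1 one_pos (by omega) ?_
    have h6 : d = 1 := by
      rw [show d = g⁻¹ * (g * d * g⁻¹) * g by simp [mul_assoc], hk1, mul_one, inv_mul_cancel]
    have h7 := congrFun (congrFun (congrArg (fun u : GL ι F => (u : Mn)) h6) a) a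
    simpa [hd, pairFun_left] using h7

/-- An element with a zero entry is monomial. -/
theorem zero_mon {g : GL ι F} (hg : g ∈ M) {c o : ι} (hco : (g : Mn) c o = 0) : IsMon (g : Mn) := by
  by_contra hmon
  have ho : ((g⁻¹ : GL ι F) : Mn) o c = 0 := by rw [X.inv_apply hg, hco, map_zero]
  obtain ⟨μ', hμ, hμj⟩ := exists_circ_gen X.circ
  have hμ0 := mu_ne hμ
  obtain ⟨f, hf⟩ : ∃ f, f = fun i => if i = o then μ'⁻¹ ^ 3 else μ' := ⟨_, rfl⟩
  obtain ⟨d, hdM, hd⟩ := X.exists_diag_mat f (fun i => by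
      rw [hf]; dsimp only; split_ifs
      · simpa using zpow_mem_mu (inv_mem_mu hμ) 3
      · exact hμ) (by
    rw [← Finset.prod_mul_prod_compl {o}, Finset.prod_singleton, Finset.prod_congr rfl (g := fun _ => μ') (fun i hi => by
      simp only [Finset.mem_compl, Finset.mem_singleton] at hi
      rw [hf]; exact if_neg hi), Finset.prod_const, Finset.card_compl, Finset.card_singleton, hn]
    rw [hf]
    simp [hμ0])
  have hdx : ∀ z : V, (d : Mn) *ᵥ z = μ' • z + ((μ'⁻¹ ^ 3 - μ') * z o) • Pi.single o 1 := fun z => by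
    funext i
    rw [hd, Matrix.mulVec_diagonal, hf]
    rcases eq_or_ne i o with rfl | hio
    · simp; ring
    · simp [hio]
  have hkx : ∀ z : V, ((g * d * g⁻¹ : GL ι F) : Mn) *ᵥ z =
      μ' • z + ((μ'⁻¹ ^ 3 - μ') * (((g⁻¹ : GL ι F) : Mn) *ᵥ z) o) • ((g : Mn) *ᵥ Pi.single o 1) := fun z => by
    rw [Units.val_mul, Units.val_mul, ← Matrix.mulVec_mulVec, ← Matrix.mulVec_mulVec, hdx, Matrix.mulVec_add,
      Matrix.mulVec_smul, Matrix.mulVec_smul, mulVec_inv_cancel]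
  have hfix : ((g * d * g⁻¹ : GL ι F) : Mn) *ᵥ Pi.single c 1 = Pi.single c μ' := by
    rw [hkx, MaxMon.col_apply, ho, mul_zero, zero_smul, add_zero, ← Pi.single_smul, smul_eq_mul, mul_one]
  have hkm : IsMon ((g * d * g⁻¹ : GL ι F) : Mn) := by_contra fun h =>
    hG ⟨_, mul_mem (mul_mem hg hdM) (inv_mem hg), h, c, μ', hfix⟩
  obtain ⟨π, x, -, hπ⟩ := hkm.exists_perm
  obtain ⟨j, hj⟩ : ∃ j, ((g⁻¹ : GL ι F) : Mn) o j ≠ 0 := by
    by_contra hc
    push Not at hc
    have h1 := congrFun (inv_mulVec_cancel g (Pi.single o (1 : F))) o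
    rw [Matrix.mulVec, dotProduct, Finset.sum_eq_zero (fun i _ => by rw [hc i, zero_mul]), Pi.single_eq_same] at h1
    exact zero_ne_one h1
  have hne : μ'⁻¹ ^ 3 - μ' ≠ 0 := fun e => hμj 4 (by omega) (by omega) (by
    have : μ'⁻¹ ^ 3 = μ' := sub_eq_zero.1 e
    rw [inv_pow] at this
    field_simp at this
    linear_combination -this)
  have hsupp : ∀ i, i ≠ j → i ≠ π j → (g : Mn) i o = 0 := fun i h1 h2 => by
    have h3 := congrFun ((hπ j).symm.trans (hkx _)) i
    rw [Pi.add_apply, Pi.smul_apply, Pi.smul_apply, MaxMon.col_apply, MaxMon.col_apply, Pi.single_eq_of_ne h1,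
      Pi.single_eq_of_ne h2, smul_zero, zero_add, smul_eq_mul, eq_comm] at h3
    exact (mul_eq_zero.1 h3).resolve_left (mul_ne_zero hne hj)
  obtain ⟨a, b, hab, ha, hb⟩ : ∃ a b, a ≠ b ∧ a ∉ ({j, π j} : Finset ι) ∧ b ∉ ({j, π j} : Finset ι) := by
    have h5 : 1 < ({j, π j} : Finset ι)ᶜ.card := by
      rw [Finset.card_compl, hn]; have := Finset.card_le_two (a := j) (b := π j); omega
    obtain ⟨a, ha, b, hb, hab⟩ := Finset.one_lt_card.1 h5
    exact ⟨a, b, hab, Finset.mem_compl.1 ha, Finset.mem_compl.1 hb⟩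
  simp only [Finset.mem_insert, Finset.mem_singleton, not_or] at ha hb
  refine X.no_two_zeros hn hq hG (inv_mem hg) (LinFour.inv_not_mon hmon) (c := o) hab ?_ ?_ <;> rw [inv_inv]
  exacts [hsupp a ha.1 ha.2, hsupp b hb.1 hb.2]

/-- A monomial conjugate of a non-scalar diagonal element moves all axes. -/
theorem conj_diag {g : GL ι F} (hg : g ∈ M) (hmon : ¬ IsMon (g : Mn)) {d : GL ι F}
    {f : ι → F} (hd : (d : Mn) = Matrix.diagonal f) {a b : ι} (hab : f a ≠ f b)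
    (hk : IsMon ((g * d * g⁻¹ : GL ι F) : Mn)) : (∑ j, f j) = 0 ∧ ∀ i j, f i ^ 4 = f j ^ 4 := by
  obtain ⟨π, x, -, hπ⟩ := hk.exists_perm
  have hmon' := LinFour.inv_not_mon hmon
  have hfree : ∀ r, π r ≠ r := fun r hr => by
    have h := fun s => (LinFour.fixed_eigen hd hπ hr s).resolve_left fun e =>
      hmon' (X.zero_mon hn hq hG (inv_mem hg) e)
    exact hab ((h a).trans (h b).symm)
  refine ⟨?_, fun i j => ?_⟩
  · rw [← Matrix.trace_diagonal, ← hd, ← LinFour.trace_conj g d, LinFour.trace_mon hπ,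
      Finset.filter_eq_empty_iff.2 fun r _ => hfree r, Finset.sum_empty]
  · set k := g * d * g⁻¹
    obtain ⟨r⟩ : Nonempty ι := Fintype.card_pos_iff.1 (by omega)
    have h4 : ((k ^ 4 : GL ι F) : Mn) *ᵥ Pi.single r 1 =
        Pi.single r (x r * x (π r) * x (π (π r)) * x (π (π (π r)))) := by
      have hs : ∀ (s : ι) (c : F), (k : Mn) *ᵥ Pi.single s c = Pi.single (π s) (c * x s) := fun s c => by
        rw [single_eq_smul s c, Matrix.mulVec_smul, hπ, ← Pi.single_smul, smul_eq_mul]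
      rw [pow_succ', pow_succ', pow_succ', pow_one]
      simp only [Units.val_mul, ← Matrix.mulVec_mulVec, hs, one_mul, perm_four_free' hn π hfree]
    have hk4 : k ^ 4 = g * d ^ 4 * g⁻¹ := conj_pow
    have hd4 : ((d ^ 4 : GL ι F) : Mn) = Matrix.diagonal fun i => f i ^ 4 := by
      rw [Units.val_pow_eq_pow_val, hd, Matrix.diagonal_pow]; rfl
    have key : ∀ s, ((g⁻¹ : GL ι F) : Mn) s r * f s ^ 4 =
        ((g⁻¹ : GL ι F) : Mn) s r * (x r * x (π r) * x (π (π r)) * x (π (π (π r)))) := fun s => by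
      have h1 := congrArg (fun z => ((g⁻¹ : GL ι F) : Mn) *ᵥ z) h4
      simp only [hk4, Units.val_mul, ← Matrix.mulVec_mulVec, inv_mulVec_cancel, hd4] at h1
      rw [single_eq_smul r (_ * _), Matrix.mulVec_smul] at h1
      have h2 := congrFun h1 s
      rw [Matrix.mulVec_diagonal, Pi.smul_apply, smul_eq_mul, MaxMon.col_apply] at h2
      linear_combination h2
    have hne : ∀ s, ((g⁻¹ : GL ι F) : Mn) s r ≠ 0 := fun s e => hmon' (X.zero_mon hn hq hG (inv_mem hg) e)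
    exact (mul_left_cancel₀ (hne i) (key i)).trans (mul_left_cancel₀ (hne j) (key j)).symm

/-- Two monomial elements which move one column to orthogonal ones. -/
theorem two_orth {g : GL ι F} (hg : g ∈ M) (hmon : ¬ IsMon (g : Mn)) (a : ι) (e : Fin 4 ≃ ι)
    (π : Equiv.Perm (Fin 4)) (x f : Fin 4 → F) (hx : ∀ i, x i ∈ mu σ) (hf : ∀ i, f i ∈ mu σ)
    (hxp : ((Equiv.Perm.sign π : ℤ) : F) * ∏ i, x i = 1) (hfp : ∏ i, f i = 1) {i₀ j₀ : Fin 4}
    (hne : f i₀ ≠ f j₀)
    (h1 : ∑ i, x i * (g : Mn) (e i) a * σ ((g : Mn) (e (π i)) a) = 0)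
    (h2 : ∑ i, x i * f i * (g : Mn) (e i) a * σ ((g : Mn) (e (π i)) a) = 0) :
    (∑ i, f i) = 0 ∧ ∀ i j, f i ^ 4 = f j ^ 4 := by
  set π' := e.permCongr π
  obtain ⟨m, hm, -, hmz⟩ := X.exists_mon_mem π' (fun j => x (e.symm j)) (fun j => hx _) (by
    rw [Equiv.Perm.sign_permCongr, Equiv.prod_comp e.symm x]; exact hxp)
  obtain ⟨d, hd, hdd⟩ := X.exists_diag_mat (fun j => f (e.symm j)) (fun j => hf _) (by
    rw [Equiv.prod_comp e.symm f]; exact hfp)
  have hmon' := LinFour.inv_not_mon hmon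
  have horth : ∀ k ∈ M, dot σ ((k : Mn) *ᵥ ((g : Mn) *ᵥ Pi.single a 1)) ((g : Mn) *ᵥ Pi.single a 1) = 0 →
      IsMon ((g⁻¹ * k * g : GL ι F) : Mn) := fun k hk h0 => by
    refine X.zero_mon hn hq hG (mul_mem (mul_mem (inv_mem hg) hk) hg) (c := a) (o := a) ?_
    rw [← MaxMon.col_apply ((g⁻¹ * k * g : GL ι F) : Mn) a a, Units.val_mul, Units.val_mul,
      ← Matrix.mulVec_mulVec, ← Matrix.mulVec_mulVec, X.inv_mulVec_apply hg]
    exact h0
  have hsum : ∀ (y : V), (∀ i, y (e (π i)) = x i * (g : Mn) (e i) a) →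
      dot σ y ((g : Mn) *ᵥ Pi.single a 1) = ∑ i, x i * (g : Mn) (e i) a * σ ((g : Mn) (e (π i)) a) := fun y hy => by
    rw [dot, ← Equiv.sum_comp (π.trans e)]
    refine Finset.sum_congr rfl fun i _ => ?_
    rw [Equiv.trans_apply, hy, MaxMon.col_apply]
  have hπe : ∀ i, π' (e i) = e (π i) := fun i => by simp [π']
  have hm1 := horth m hm (by
    rw [hsum ((m : Mn) *ᵥ ((g : Mn) *ᵥ Pi.single a 1)) fun i => by rw [← hπe, hmz, MaxMon.col_apply]; simp, h1])
  have hm2 := horth (m * d) (mul_mem hm hd) (by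
    rw [dot, ← Equiv.sum_comp (π.trans e), ← h2]
    refine Finset.sum_congr rfl fun i _ => ?_
    rw [Equiv.trans_apply, ← hπe, Units.val_mul, ← Matrix.mulVec_mulVec, hmz, hdd, Matrix.mulVec_diagonal,
      MaxMon.col_apply, MaxMon.col_apply]
    simp only [Equiv.symm_apply_apply]
    ring)
  have hk : IsMon ((g⁻¹ * d * g⁻¹⁻¹ : GL ι F) : Mn) := by
    have : g⁻¹ * d * g⁻¹⁻¹ = (g⁻¹ * m * g)⁻¹ * (g⁻¹ * (m * d) * g) := by group
    rw [this, Units.val_mul]
    exact hm1.inv.mul hm2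
  have h := X.conj_diag hn hq hG (inv_mem hg) hmon' hdd (a := e i₀) (b := e j₀) (by simpa using hne) hk
  refine ⟨?_, fun i j => by simpa using h.2 (e i) (e j)⟩
  rw [← Equiv.sum_comp e.symm f]
  exact h.1

theorem div_mem_mu {u v : F} (hu : u * σ u = v * σ v) (hv : v ≠ 0) : u / v ∈ mu σ := by
  rw [mem_mu, map_div₀, div_mul_div_comm, hu, div_self (X.norm_ne hv)]

/-- The product of the norms has no fixed square root. -/
theorem square_false {g : GL ι F} (hg : g ∈ M) (hmon : ¬ IsMon (g : Mn)) (a : ι) (e : Fin 4 ≃ ι) (R : F)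
    (hR : σ R = R) (hRR : R * R = ∏ i : Fin 4, (g : Mn) (e i) a * σ ((g : Mn) (e i) a)) : False := by
  have hne : ∀ i j, (g : Mn) i j ≠ 0 := fun i j h => hmon (X.zero_mon hn hq hG hg h)
  have hi := X.herm.invol
  simp only [Fin.prod_univ_four] at hRR
  set u₀ := (g : Mn) (e 0) a with hu₀
  set u₁ := (g : Mn) (e 1) a with hu₁
  set u₂ := (g : Mn) (e 2) a with hu₂
  set u₃ := (g : Mn) (e 3) a with hu₃
  have n₀ : u₀ ≠ 0 := hne _ _
  have n₁ : u₁ ≠ 0 := hne _ _
  have n₂ : u₂ ≠ 0 := hne _ _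
  have n₃ : u₃ ≠ 0 := hne _ _
  have s₀ : σ u₀ ≠ 0 := fun h => n₀ (σ.map_eq_zero_iff.1 h)
  have s₁ : σ u₁ ≠ 0 := fun h => n₁ (σ.map_eq_zero_iff.1 h)
  have s₂ : σ u₂ ≠ 0 := fun h => n₂ (σ.map_eq_zero_iff.1 h)
  have s₃ : σ u₃ ≠ 0 := fun h => n₃ (σ.map_eq_zero_iff.1 h)
  have hRR' : R * R = u₀ * σ u₀ * (u₁ * σ u₁) * (u₂ * σ u₂) * (u₃ * σ u₃) := hRR
  obtain ⟨s, hs, hsj⟩ := exists_circ_gen X.circ
  have hs0 := mu_ne hs
  set π : Equiv.Perm (Fin 4) := Equiv.swap 0 1 * Equiv.swap 2 3 with hπ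
  have hp0 : π 0 = 1 := by decide
  have hp1 : π 1 = 0 := by decide
  have hp2 : π 2 = 3 := by decide
  have hp3 : π 3 = 2 := by decide
  have hsgn : Equiv.Perm.sign π = 1 := by decide
  have hx1 : -(u₀ * σ u₁) / (u₁ * σ u₀) ∈ mu σ := X.div_mem_mu hn hq hG (by
    simp only [map_neg, map_mul, hi]; ring) (mul_ne_zero n₁ s₀)
  have hx2 : R / (u₀ * σ u₁ * (u₂ * σ u₃)) ∈ mu σ := X.div_mem_mu hn hq hG (by
    simp only [map_mul, hi, hR]; linear_combination hRR')
    (mul_ne_zero (mul_ne_zero n₀ s₁) (mul_ne_zero n₂ s₃))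
  have hx3 : -R / (u₀ * σ u₁ * (u₃ * σ u₂)) ∈ mu σ := X.div_mem_mu hn hq hG (by
    simp only [map_neg, map_mul, hi, hR]; linear_combination hRR')
    (mul_ne_zero (mul_ne_zero n₀ s₁) (mul_ne_zero n₃ s₂))
  have hne2 : s ≠ s⁻¹ := fun h => hsj 2 (by omega) (by omega) (by
    rw [sq]; nth_rewrite 2 [h]; exact mul_inv_cancel₀ hs0)
  obtain ⟨htr, hpow⟩ := X.two_orth hn hq hG hg hmon a e π
    ![1, -(u₀ * σ u₁) / (u₁ * σ u₀), R / (u₀ * σ u₁ * (u₂ * σ u₃)), -R / (u₀ * σ u₁ * (u₃ * σ u₂))]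
    ![s, s, s⁻¹, s⁻¹]
    (fun i => by fin_cases i; exacts [one_mem_mu, hx1, hx2, hx3])
    (fun i => by fin_cases i; exacts [hs, hs, inv_mem_mu hs, inv_mem_mu hs])
    (by
      simp only [hsgn, Units.val_one, Int.cast_one, one_mul, Fin.prod_univ_four, Matrix.cons_val]
      field_simp
      linear_combination hRR')
    (by simp only [Fin.prod_univ_four, Matrix.cons_val]; field_simp) (i₀ := 0) (j₀ := 2) (by simpa using hne2)
    (by
      simp only [Fin.sum_univ_four, hp0, hp1, hp2, hp3, Matrix.cons_val, ← hu₀, ← hu₁, ← hu₂, ← hu₃]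
      field_simp
      ring)
    (by
      simp only [Fin.sum_univ_four, hp0, hp1, hp2, hp3, Matrix.cons_val, ← hu₀, ← hu₁, ← hu₂, ← hu₃]
      field_simp
      ring)
  have h4 := hpow 0 2
  simp only [Matrix.cons_val, inv_pow] at h4
  simp only [Fin.sum_univ_four, Matrix.cons_val] at htr
  by_cases h2 : (2 : F) = 0
  · have h8 : s ^ 8 = 1 := by field_simp at h4; linear_combination h4
    rcases Nat.even_or_odd q with ⟨r, hr⟩ | ⟨r, hr⟩
    · have hg' := pow_gcd_eq_one.2 ⟨h8, X.circ.pow_mu hs⟩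
      have hd : Nat.gcd 8 (q + 1) = 1 := by
        have : Nat.Coprime (2 ^ 3) (q + 1) := Nat.Coprime.pow_left 3
          ((Nat.prime_two.coprime_iff_not_dvd).2 (by omega))
        exact this
      rw [hd] at hg'
      exact hsj 1 one_pos (by omega) hg'
    · have h0 := X.circ.cast_q
      rw [hr, Nat.cast_add, Nat.cast_mul, Nat.cast_ofNat, Nat.cast_one, h2, zero_mul, zero_add] at h0
      exact one_ne_zero h0
  · have h5 : s + s⁻¹ = 0 := (mul_eq_zero.1 (show (2 : F) * (s + s⁻¹) = 0 by linear_combination htr)).resolve_left h2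
    field_simp at h5
    exact hsj 4 (by omega) (by omega) (by linear_combination (s ^ 2 - 1) * h5)

/-- Conjugate pairs with opposite non-zero traces. -/
theorem circles_false {g : GL ι F} (hg : g ∈ M) (hmon : ¬ IsMon (g : Mn)) (a : ι) (e : Fin 4 ≃ ι) {z₁ z₂ : F}
    (h1 : z₁ * σ z₁ = (g : Mn) (e 0) a * σ ((g : Mn) (e 0) a) * ((g : Mn) (e 1) a * σ ((g : Mn) (e 1) a)))
    (h2 : z₂ * σ z₂ = (g : Mn) (e 2) a * σ ((g : Mn) (e 2) a) * ((g : Mn) (e 3) a * σ ((g : Mn) (e 3) a)))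
    (htr : z₁ + σ z₁ + (z₂ + σ z₂) = 0) (hT : z₁ + σ z₁ ≠ 0) (hz : σ z₁ ≠ z₁) : False := by
  have hne : ∀ i j, (g : Mn) i j ≠ 0 := fun i j h => hmon (X.zero_mon hn hq hG hg h)
  have hi := X.herm.invol
  set u₀ := (g : Mn) (e 0) a with hu₀
  set u₁ := (g : Mn) (e 1) a with hu₁
  set u₂ := (g : Mn) (e 2) a with hu₂
  set u₃ := (g : Mn) (e 3) a with hu₃
  have n₀ : u₀ ≠ 0 := hne _ _
  have n₁ : u₁ ≠ 0 := hne _ _
  have n₂ : u₂ ≠ 0 := hne _ _
  have n₃ : u₃ ≠ 0 := hne _ _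
  have s₀ : σ u₀ ≠ 0 := fun h => n₀ (σ.map_eq_zero_iff.1 h)
  have s₁ : σ u₁ ≠ 0 := fun h => n₁ (σ.map_eq_zero_iff.1 h)
  have s₂ : σ u₂ ≠ 0 := fun h => n₂ (σ.map_eq_zero_iff.1 h)
  have s₃ : σ u₃ ≠ 0 := fun h => n₃ (σ.map_eq_zero_iff.1 h)
  have hz0 : z₁ ≠ 0 := fun h => hz (by rw [h, map_zero])
  have hz0' : σ z₁ ≠ 0 := fun h => hz0 (σ.map_eq_zero_iff.1 h)
  set π : Equiv.Perm (Fin 4) := Equiv.swap 0 1 * Equiv.swap 2 3 with hπ
  have hp0 : π 0 = 1 := by decide
  have hp1 : π 1 = 0 := by decide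
  have hp2 : π 2 = 3 := by decide
  have hp3 : π 3 = 2 := by decide
  have hsgn : Equiv.Perm.sign π = 1 := by decide
  have hx0 : z₁ / (u₀ * σ u₁) ∈ mu σ := X.div_mem_mu hn hq hG (by
    simp only [map_mul, hi]; linear_combination h1) (mul_ne_zero n₀ s₁)
  have hx1 : σ z₁ / (u₁ * σ u₀) ∈ mu σ := X.div_mem_mu hn hq hG (by
    simp only [map_mul, hi]; linear_combination h1) (mul_ne_zero n₁ s₀)
  have hx2 : z₂ / (u₂ * σ u₃) ∈ mu σ := X.div_mem_mu hn hq hG (by
    simp only [map_mul, hi]; linear_combination h2) (mul_ne_zero n₂ s₃)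
  have hx3 : σ z₂ / (u₃ * σ u₂) ∈ mu σ := X.div_mem_mu hn hq hG (by
    simp only [map_mul, hi]; linear_combination h2) (mul_ne_zero n₃ s₂)
  have hf0 : σ z₁ / z₁ ∈ mu σ := X.div_mem_mu hn hq hG (by rw [hi]; ring) hz0
  have hf1 : z₁ / σ z₁ ∈ mu σ := X.div_mem_mu hn hq hG (by rw [hi]; ring) hz0'
  obtain ⟨htr', -⟩ := X.two_orth hn hq hG hg hmon a e π
    ![z₁ / (u₀ * σ u₁), σ z₁ / (u₁ * σ u₀), z₂ / (u₂ * σ u₃), σ z₂ / (u₃ * σ u₂)]
    ![σ z₁ / z₁, z₁ / σ z₁, 1, 1]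
    (fun i => by fin_cases i; exacts [hx0, hx1, hx2, hx3])
    (fun i => by fin_cases i; exacts [hf0, hf1, one_mem_mu, one_mem_mu])
    (by
      simp only [hsgn, Units.val_one, Int.cast_one, one_mul, Fin.prod_univ_four, Matrix.cons_val]
      field_simp
      linear_combination (z₂ * σ z₂) * h1 + (u₀ * σ u₀ * (u₁ * σ u₁)) * h2)
    (by simp only [Fin.prod_univ_four, Matrix.cons_val]; field_simp) (i₀ := 0) (j₀ := 2) (by
      simp only [Matrix.cons_val, ne_eq, div_eq_one_iff_eq hz0]; exact hz)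
    (by
      simp only [Fin.sum_univ_four, hp0, hp1, hp2, hp3, Matrix.cons_val, ← hu₀, ← hu₁, ← hu₂, ← hu₃]
      field_simp
      linear_combination htr)
    (by
      simp only [Fin.sum_univ_four, hp0, hp1, hp2, hp3, Matrix.cons_val, ← hu₀, ← hu₁, ← hu₂, ← hu₃]
      field_simp
      linear_combination htr)
  simp only [Fin.sum_univ_four, Matrix.cons_val] at htr'
  field_simp at htr'
  refine hT (pow_eq_zero_iff (n := 2) (by norm_num) |>.1 ?_)
  linear_combination htr'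

/-- A conjugate pair against two axes. -/
theorem trans_false {g : GL ι F} (hg : g ∈ M) (hmon : ¬ IsMon (g : Mn)) (a : ι) (e : Fin 4 ≃ ι) {z : F}
    (h1 : z * σ z = (g : Mn) (e 0) a * σ ((g : Mn) (e 0) a) * ((g : Mn) (e 1) a * σ ((g : Mn) (e 1) a)))
    (htr : z + σ z = (g : Mn) (e 3) a * σ ((g : Mn) (e 3) a) - (g : Mn) (e 2) a * σ ((g : Mn) (e 2) a))
    (hT : z + σ z ≠ 0) (hz : σ z ≠ z) : False := by
  have hne : ∀ i j, (g : Mn) i j ≠ 0 := fun i j h => hmon (X.zero_mon hn hq hG hg h)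
  have hi := X.herm.invol
  set u₀ := (g : Mn) (e 0) a with hu₀
  set u₁ := (g : Mn) (e 1) a with hu₁
  set u₂ := (g : Mn) (e 2) a with hu₂
  set u₃ := (g : Mn) (e 3) a with hu₃
  have n₀ : u₀ ≠ 0 := hne _ _
  have n₁ : u₁ ≠ 0 := hne _ _
  have s₀ : σ u₀ ≠ 0 := fun h => n₀ (σ.map_eq_zero_iff.1 h)
  have s₁ : σ u₁ ≠ 0 := fun h => n₁ (σ.map_eq_zero_iff.1 h)
  have hz0 : z ≠ 0 := fun h => hz (by rw [h, map_zero])
  have hz0' : σ z ≠ 0 := fun h => hz0 (σ.map_eq_zero_iff.1 h)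
  set π : Equiv.Perm (Fin 4) := Equiv.swap 0 1 with hπ
  have hp0 : π 0 = 1 := by decide
  have hp1 : π 1 = 0 := by decide
  have hp2 : π 2 = 2 := by decide
  have hp3 : π 3 = 3 := by decide
  have hsgn : Equiv.Perm.sign π = -1 := by decide
  have hm1 : (-1 : F) ∈ mu σ := by rw [mem_mu, map_neg, map_one]; ring
  have hx0 : z / (u₀ * σ u₁) ∈ mu σ := X.div_mem_mu hn hq hG (by
    simp only [map_mul, hi]; linear_combination h1) (mul_ne_zero n₀ s₁)
  have hx1 : σ z / (u₁ * σ u₀) ∈ mu σ := X.div_mem_mu hn hq hG (by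
    simp only [map_mul, hi]; linear_combination h1) (mul_ne_zero n₁ s₀)
  have hf0 : σ z / z ∈ mu σ := X.div_mem_mu hn hq hG (by rw [hi]; ring) hz0
  have hf1 : z / σ z ∈ mu σ := X.div_mem_mu hn hq hG (by rw [hi]; ring) hz0'
  obtain ⟨htr', -⟩ := X.two_orth hn hq hG hg hmon a e π
    ![z / (u₀ * σ u₁), σ z / (u₁ * σ u₀), 1, -1] ![σ z / z, z / σ z, 1, 1]
    (fun i => by fin_cases i; exacts [hx0, hx1, one_mem_mu, hm1])
    (fun i => by fin_cases i; exacts [hf0, hf1, one_mem_mu, one_mem_mu])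
    (by
      simp only [hsgn, Units.val_neg, Units.val_one, Int.cast_neg, Int.cast_one, Fin.prod_univ_four, Matrix.cons_val]
      field_simp
      linear_combination h1)
    (by simp only [Fin.prod_univ_four, Matrix.cons_val]; field_simp) (i₀ := 0) (j₀ := 2) (by
      simp only [Matrix.cons_val, ne_eq, div_eq_one_iff_eq hz0]; exact hz)
    (by
      simp only [Fin.sum_univ_four, hp0, hp1, hp2, hp3, Matrix.cons_val, ← hu₀, ← hu₁, ← hu₂, ← hu₃]
      field_simp
      linear_combination htr)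
    (by
      simp only [Fin.sum_univ_four, hp0, hp1, hp2, hp3, Matrix.cons_val, ← hu₀, ← hu₁, ← hu₂, ← hu₃]
      field_simp
      linear_combination htr)
  simp only [Fin.sum_univ_four, Matrix.cons_val] at htr'
  field_simp at htr'
  refine hT (pow_eq_zero_iff (n := 2) (by norm_num) |>.1 ?_)
  linear_combination htr'

end Ctx

end Cfsg.Agent.Classical.MaxUnitMon
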