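import Cfsg.Agent.Lib.Classical.MaxHermitian

/-!
Hermitian forms over finite fields: determinant-one isometries are products of transvections.
-/

set_option autoImplicit false
set_option linter.unusedSectionVars false

namespace Cfsg.Agent.Classical.MaxTv

open Matrix Module

variable {F : Type*} [Field F] {ι : Type} [Fintype ι] [DecidableEq ι]

local notation "V" => (ι → F)
local notation "Mn" => Matrix ι ι F

/-- All transvections at `v` preserving the Hermitian form are in `M`. -/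
def UPt (σ : F ≃+* F) (f : (ι → F) → (ι → F) → F) (M : Subgroup (GL ι F)) (v : ι → F) : Prop :=
  ∀ c : F, c + σ c = 0 → ∃ t ∈ M, ∀ x, (t : Mn) *ᵥ x = x + (c * f x v) • v

/-- `W` and the set `U` are orthogonal and together give everything. -/
structure Split (f : (ι → F) → (ι → F) → F) (W U : Submodule F (ι → F)) : Prop where
  dec : ∀ x, ∃ w ∈ W, x - w ∈ U
  orth : ∀ w ∈ W, ∀ z ∈ U, f w z = 0

variable {σ : F ≃+* F} {f : (ι → F) → (ι → F) → F} {W U : Submodule F (ι → F)}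

namespace Herm

variable (hs : Herm σ f)
include hs

theorem exists_trace_eq {a : F} (ha : σ a = a) : ∃ c : F, c + σ c = a := by
  obtain ⟨z, hz⟩ := hs.exists_trace
  refine ⟨a / (z + σ z) * z, ?_⟩
  rw [map_mul, map_div₀, ha, map_add, hs.invol, add_comm (σ z), ← mul_add, div_mul_cancel₀ _ hz]

theorem split_mem (h : Split f W U) {x : V} (hx : ∀ z ∈ U, f x z = 0) : x ∈ W := by
  obtain ⟨w, hw, hxw⟩ := h.dec x
  suffices x - w = 0 by rwa [sub_eq_zero.1 this]
  refine hs.eq_zero _ fun y => ?_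
  obtain ⟨w', hw', hyw⟩ := h.dec y
  have h1 : f (x - w) (y - w') = 0 := by
    rw [hs.toSesq.sub_left, hx _ hyw, h.orth w hw _ hyw, sub_zero]
  have h2 : f (x - w) w' = 0 := hs.refl _ _ (h.orth w' hw' _ hxw)
  rw [hs.toSesq.sub_right, h2, sub_zero] at h1
  exact hs.refl _ _ h1

theorem split_nd (h : Split f W U) {w : V} (hw : w ∈ W) (hw0 : w ≠ 0) : ∃ x ∈ W, f x w ≠ 0 := by
  by_contra hc
  push Not at hc
  refine hw0 (hs.eq_zero _ fun y => ?_)
  obtain ⟨w', hw', hyw⟩ := h.dec y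
  rw [← sub_add_cancel y w', hs.add_left, hs.refl _ _ (h.orth w hw _ hyw), hc w' hw', add_zero]

/-- A subspace of isotropic vectors is totally isotropic. -/
theorem perp_of_iso {T : Submodule F V} (h : ∀ v ∈ T, f v v = 0) : ∀ a ∈ T, ∀ b ∈ T, f a b = 0 :=
  fun a ha b hb => by
  by_contra hne
  obtain ⟨z, hz⟩ := hs.exists_trace
  refine hz ?_
  have := h _ (add_mem ha (T.smul_mem (σ (z / f a b)) hb))
  rw [hs.add_left, hs.add_right, hs.add_right, hs.smul_left, hs.smul_left, hs.smul_right, hs.smul_right,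
    h a ha, h b hb, hs.herm b a, ← map_mul, hs.invol, div_mul_cancel₀ _ hne, mul_zero, mul_zero] at this
  linear_combination this

theorem exists_aniso_of_nd {T : Submodule F V} (hnd : ∀ w ∈ T, w ≠ 0 → ∃ x ∈ T, f x w ≠ 0) (hT : T ≠ ⊥) :
    ∃ y ∈ T, f y y ≠ 0 := by
  by_contra hc
  push Not at hc
  obtain ⟨w, hw, hw0⟩ := Submodule.exists_mem_ne_zero_of_ne_bot hT
  obtain ⟨x, hx, hxw⟩ := hnd w hw hw0
  exact hxw (hs.perp_of_iso hc x hx w hw)

theorem nd_inf_ker {T : Submodule F V} (hnd : ∀ w ∈ T, w ≠ 0 → ∃ x ∈ T, f x w ≠ 0) {u : V} (hu : u ∈ T)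
    (huu : f u u ≠ 0) : ∀ w ∈ T ⊓ LinearMap.ker (hs.toSesq.lin u), w ≠ 0 →
      ∃ x ∈ T ⊓ LinearMap.ker (hs.toSesq.lin u), f x w ≠ 0 := by
  rintro w ⟨hw, hwu⟩ hw0
  have hwu' : f u w = 0 := hs.refl _ _ (LinearMap.mem_ker.1 hwu)
  obtain ⟨x, hx, hxw⟩ := hnd w hw hw0
  refine ⟨x - (f x u / f u u) • u, ⟨sub_mem hx (T.smul_mem _ hu), LinearMap.mem_ker.2 ?_⟩, ?_⟩
  · show f (x - (f x u / f u u) • u) u = 0
    rw [hs.toSesq.sub_left, hs.smul_left, div_mul_cancel₀ _ huu, sub_self]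
  · rwa [hs.toSesq.sub_left, hs.smul_left, hwu', mul_zero, sub_zero]

theorem exists_norm_in [Finite F] {T : Submodule F V} (hnd : ∀ w ∈ T, w ≠ 0 → ∃ x ∈ T, f x w ≠ 0) (hT : T ≠ ⊥)
    {t : F} (ht : σ t = t) : ∃ y ∈ T, f y y = t := by
  obtain ⟨y, hy, hyy⟩ := hs.exists_aniso_of_nd hnd hT
  obtain ⟨c, hc⟩ := hs.exists_norm (t := t / f y y) (by rw [map_div₀, ht, hs.self_fixed])
  refine ⟨c • y, T.smul_mem c hy, ?_⟩
  rw [hs.smul_left, hs.smul_right, ← mul_assoc, hc, div_mul_cancel₀ _ hyy]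

theorem split_inf_ker (h : Split f W U) {u : V} (hu : u ∈ W) (huu : f u u = 1) :
    Split f (W ⊓ LinearMap.ker (hs.toSesq.lin u)) (U ⊔ F ∙ u) where
  dec x := by
    obtain ⟨w, hw, hxw⟩ := h.dec x
    refine ⟨w - f w u • u, ⟨sub_mem hw (W.smul_mem _ hu), LinearMap.mem_ker.2 ?_⟩, ?_⟩
    · show f (w - f w u • u) u = 0
      rw [hs.toSesq.sub_left, hs.smul_left, huu, mul_one, sub_self]
    · rw [show x - (w - f w u • u) = (x - w) + f w u • u by abel]
      exact Submodule.add_mem_sup hxw (Submodule.smul_mem _ _ (Submodule.mem_span_singleton_self u))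
  orth w hw z hz := by
    obtain ⟨a, ha, b, hb, rfl⟩ := Submodule.mem_sup.1 hz
    obtain ⟨k, rfl⟩ := Submodule.mem_span_singleton.1 hb
    rw [hs.add_right, hs.smul_right, h.orth w hw.1 a ha, show f w u = 0 from LinearMap.mem_ker.1 hw.2, mul_zero,
      add_zero]

end Herm

/-- Determinant of `1` plus a map of rank two. -/
theorem det_rank_two {g : Mn} {a b φ ψ : V} (hg : ∀ x, g *ᵥ x = x + (φ ⬝ᵥ x) • a + (ψ ⬝ᵥ x) • b) :
    g.det = (1 + φ ⬝ᵥ a) * (1 + ψ ⬝ᵥ b) - (φ ⬝ᵥ b) * (ψ ⬝ᵥ a) := by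
  let A : Matrix ι (Fin 2) F := Matrix.of fun i k => ![a i, b i] k
  let B : Matrix (Fin 2) ι F := Matrix.of ![φ, ψ]
  have : g = 1 + A * B := Matrix.ext_iff_mulVec.2 fun x => by
    rw [hg, Matrix.add_mulVec, Matrix.one_mulVec, ← Matrix.mulVec_mulVec]
    funext i
    show x i + (φ ⬝ᵥ x) * a i + (ψ ⬝ᵥ x) * b i = x i + ∑ k, A i k * (B *ᵥ x) k
    rw [Fin.sum_univ_two]
    show _ = x i + (a i * (φ ⬝ᵥ x) + b i * (ψ ⬝ᵥ x))
    ring
  rw [this, Matrix.det_one_add_mul_comm, Matrix.det_fin_two]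
  have e : ∀ r s : Fin 2, (B * A) r s = (![φ, ψ] r) ⬝ᵥ (![a, b] s) := fun r s => by
    rw [Matrix.mul_apply]
    fin_cases r <;> fin_cases s <;> rfl
  simp only [Matrix.add_apply, e, Matrix.cons_val_zero, Matrix.cons_val_one, Matrix.one_apply_eq,
    Matrix.one_apply_ne (show (0 : Fin 2) ≠ 1 by decide), Matrix.one_apply_ne (show (1 : Fin 2) ≠ 0 by decide),
    zero_add]

section Gen

variable (hs : Herm σ f) {M : Subgroup (GL ι F)} (hT : ∀ v, f v v = 0 → UPt σ f M v)
include hs hT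

/-- A transvection of `M` with its properties. -/
theorem exists_utv {v : V} {c : F} (hv : f v v = 0) (hc : c + σ c = 0) :
    ∃ t ∈ M, (∀ x y, f ((t : Mn) *ᵥ x) ((t : Mn) *ᵥ y) = f x y) ∧ t ∈ Geo.specialLinear ι F ∧
      ∀ x, (t : Mn) *ᵥ x = x + (c * f x v) • v := by
  obtain ⟨t, ht, htx⟩ := hT v hv c hc
  refine ⟨t, ht, isometry_tv hs.toSesq hv (hs.tv_cond hc v) htx, det_tv (φ := c • fn f v) (v := v) (fun x => ?_) ?_, htx⟩
  · rw [htx, smul_dotProduct, fn_dot hs.toSesq, smul_eq_mul]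
  · rw [smul_dotProduct, fn_dot hs.toSesq, hv, smul_zero]

/-- One step between vectors of norm one. -/
theorem utv_move {W : Submodule F V} {u u' : V} (hu : u ∈ W) (hu' : u' ∈ W) (h1 : f u u = 1) (h2 : f u' u' = 1)
    (htr : f u u' + σ (f u u') = 2) (hne : f u u' ≠ 1) :
    ∃ t ∈ M, (∀ x y, f ((t : Mn) *ᵥ x) ((t : Mn) *ᵥ y) = f x y) ∧ (t : Mn) *ᵥ u = u' ∧
      (∀ z, (∀ w ∈ W, f z w = 0) → (t : Mn) *ᵥ z = z) ∧ t ∈ Geo.specialLinear ι F := by
  have ha : f (u' - u) (u' - u) = 0 := by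
    rw [hs.toSesq.sub_left, hs.toSesq.sub_right, hs.toSesq.sub_right, h1, h2, hs.herm u' u]
    linear_combination -htr
  have hua : f u (u' - u) = f u u' - 1 := by rw [hs.toSesq.sub_right, h1]
  obtain ⟨t, ht, hti, htd, htx⟩ := exists_utv hs hT (c := (f u u' - 1)⁻¹) ha (by
    have : σ (f u u' - 1) = -(f u u' - 1) := by rw [map_sub, map_one]; linear_combination htr
    rw [map_inv₀, this, inv_neg, add_neg_cancel])
  refine ⟨t, ht, hti, ?_, fun z hz => ?_, htd⟩
  · rw [htx, hua, inv_mul_cancel₀ (sub_ne_zero.2 hne), one_smul, add_sub_cancel]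
  · rw [htx, hz _ (sub_mem hu' hu), mul_zero, zero_smul, add_zero]

/-- Transvections are transitive on vectors of norm one. -/
theorem utv_transitive [Finite F] (hn : 5 ≤ Fintype.card ι) (hsp : Split f W U) (hk : 3 ≤ finrank F W) {u u' : V} (hu : u ∈ W)
    (hu' : u' ∈ W) (h1 : f u u = 1) (h2 : f u' u' = 1) :
    ∃ t ∈ M, (∀ x y, f ((t : Mn) *ᵥ x) ((t : Mn) *ᵥ y) = f x y) ∧ (t : Mn) *ᵥ u = u' ∧
      (∀ z, (∀ w ∈ W, f z w = 0) → (t : Mn) *ᵥ z = z) ∧ t ∈ Geo.specialLinear ι F := by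
  let R : V → V → Prop := fun a b => ∃ t ∈ M, (∀ x y, f ((t : Mn) *ᵥ x) ((t : Mn) *ᵥ y) = f x y) ∧
    (t : Mn) *ᵥ a = b ∧ (∀ z, (∀ w ∈ W, f z w = 0) → (t : Mn) *ᵥ z = z) ∧ t ∈ Geo.specialLinear ι F
  have hR : ∀ {a b c : V}, R a b → R b c → R a c := fun {a b c} ha hb => by
    obtain ⟨s, hsM, hsi, hsa, hsz, hsd⟩ := ha
    obtain ⟨t, htM, hti, htb, htz, htd⟩ := hb
    exact ⟨t * s, mul_mem htM hsM, fun x y => by rw [Units.val_mul, ← Matrix.mulVec_mulVec, ← Matrix.mulVec_mulVec,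
        hti, hsi], by rw [Units.val_mul, ← Matrix.mulVec_mulVec, hsa, htb],
      fun z hz => by rw [Units.val_mul, ← Matrix.mulVec_mulVec, hsz z hz, htz z hz], mul_mem htd hsd⟩
  show R u u'
  obtain ⟨τ, hτ0, hτ⟩ := hs.exists_skew
  have hβtr : (1 + τ) + σ (1 + τ) = 2 := by rw [map_add, map_one]; linear_combination hτ
  have hβ1 : (1 + τ) ≠ 1 := fun e => hτ0 (by linear_combination e)
  have hndW : ∀ w ∈ W, w ≠ 0 → ∃ x ∈ W, f x w ≠ 0 := fun w hw hw0 => hs.split_nd hsp hw hw0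
  have hdim : ∀ a : V, 2 ≤ finrank F (W ⊓ LinearMap.ker (hs.toSesq.lin a) : Submodule F V) := fun a => by
    have := finrank_le_inf_ker_add_one W (hs.toSesq.lin a); omega
  have hne2 : ∀ T : Submodule F V, 1 ≤ finrank F T → T ≠ ⊥ := fun T hT e => by
    rw [e, finrank_bot] at hT; omega
  -- adding an isotropic vector
  have hunip : ∀ a w : V, a ∈ W → w ∈ W → f a a = 1 → f w a = 0 → f w w = 0 → R a (a + w) := by
    intro a w ha hw ha1 hwa hww
    obtain ⟨v, ⟨hva, hvw⟩, hvv⟩ := hs.exists_norm_vec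
      (S := LinearMap.ker (hs.toSesq.lin a) ⊓ LinearMap.ker (hs.toSesq.lin w)) (t := 1) (by
        have := finrank_le_inf_ker_add_one (LinearMap.ker (hs.toSesq.lin a)) (hs.toSesq.lin w)
        have := card_le_finrank_ker_add_one (hs.toSesq.lin a)
        omega) (map_one σ)
    have hva' : f v a = 0 := LinearMap.mem_ker.1 hva
    have hvw' : f v w = 0 := LinearMap.mem_ker.1 hvw
    obtain ⟨z, hz⟩ := hs.exists_trace_eq (a := (1 : F)) (map_one σ)
    obtain ⟨y, hy⟩ := hs.exists_norm (t := -(z * σ z)) (by rw [map_neg, map_mul, hs.invol, mul_comm])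
    set w' := τ⁻¹ • w with hw'
    have hw'w : f w' w' = 0 := by rw [hw', hs.smul_left, hs.smul_right, hww, mul_zero, mul_zero]
    have hw'a : f w' a = 0 := by rw [hw', hs.smul_left, hwa, mul_zero]
    have hw'v : f w' v = 0 := by rw [hw', hs.smul_left, hs.refl _ _ hvw', mul_zero]
    have hD : ∀ p : V, f p p = 0 → f w' p = 0 → ∃ t ∈ M,
        (∀ x y, f ((t : Mn) *ᵥ x) ((t : Mn) *ᵥ y) = f x y) ∧ t ∈ Geo.specialLinear ι F ∧
        ∀ x, (t : Mn) *ᵥ x = x + (τ * f x w') • p + (τ * f x p) • w' := fun p hp hwp => by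
      have hτn : -τ + σ (-τ) = 0 := by rw [map_neg]; linear_combination -hτ
      have hpw : f p w' = 0 := hs.refl _ _ hwp
      obtain ⟨t₁, h₁, i₁, d₁, x₁⟩ := exists_utv hs hT (v := w' + p) (c := τ) (by
        rw [hs.add_left, hs.add_right, hs.add_right, hw'w, hp, hwp, hpw]; ring) hτ
      obtain ⟨t₂, h₂, i₂, d₂, x₂⟩ := exists_utv hs hT (v := w') (c := -τ) hw'w hτn
      obtain ⟨t₃, h₃, i₃, d₃, x₃⟩ := exists_utv hs hT (v := p) (c := -τ) hp hτn
      refine ⟨t₁ * t₂ * t₃, mul_mem (mul_mem h₁ h₂) h₃, fun x y => ?_, mul_mem (mul_mem d₁ d₂) d₃, fun x => ?_⟩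
      · simp only [Units.val_mul, ← Matrix.mulVec_mulVec, i₁, i₂, i₃]
      · simp only [Units.val_mul, ← Matrix.mulVec_mulVec, x₁, x₂, x₃, hs.add_left, hs.add_right, hs.smul_left,
          hw'w, hp, hwp, hpw]
        match_scalars <;> ring
    set p := z • a + y • v with hp
    set r := (1 - z) • a + (-y) • v with hr
    have hpi : f p p = 0 := by
      rw [hp]
      simp only [hs.add_left, hs.add_right, hs.smul_left, hs.smul_right, ha1, hvv, hva', hs.refl _ _ hva']
      linear_combination hy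
    have hri : f r r = 0 := by
      rw [hr]
      simp only [hs.add_left, hs.add_right, hs.smul_left, hs.smul_right, ha1, hvv, hva', hs.refl _ _ hva', map_sub,
        map_one, map_neg]
      linear_combination hy - hz
    have hwp : f w' p = 0 := by rw [hp, hs.add_right, hs.smul_right, hs.smul_right, hw'a, hw'v]; ring
    have hwr : f w' r = 0 := by rw [hr, hs.add_right, hs.smul_right, hs.smul_right, hw'a, hw'v]; ring
    have hpr : p + r = a := by rw [hp, hr]; module
    have hfa : ∀ x, f x a = f x p + f x r := fun x => by rw [← hs.add_right, hpr]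
    clear_value p r
    obtain ⟨t₁, h₁, i₁, d₁, x₁⟩ := hD p hpi hwp
    obtain ⟨t₂, h₂, i₂, d₂, x₂⟩ := hD r hri hwr
    have hform : ∀ x, ((t₁ * t₂ : GL ι F) : Mn) *ᵥ x =
        x + (τ * f x w') • a + (τ * f x a + τ * f x w' * (τ * f r p)) • w' := fun x => by
      rw [Units.val_mul, ← Matrix.mulVec_mulVec, x₂, x₁]
      simp only [hs.add_left, hs.smul_left, hw'w, hwp, hs.refl _ _ hwr]
      rw [hfa, ← hpr]
      match_scalars <;> ring
    refine ⟨t₁ * t₂, mul_mem h₁ h₂, fun x y => by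
      rw [Units.val_mul, ← Matrix.mulVec_mulVec, ← Matrix.mulVec_mulVec, i₁, i₂], ?_, fun x hx => ?_, mul_mem d₁ d₂⟩
    · rw [hform, hs.refl _ _ hw'a, ha1, hw', smul_smul]
      congr 1
      · simp
      · rw [show (τ * 1 + τ * 0 * (τ * f r p)) * τ⁻¹ = 1 by field_simp; ring, one_smul]
    · rw [hform, hw', hs.smul_right, hx w hw, hx a ha]
      simp
  -- generic pairs
  have hgen : ∀ a b : V, a ∈ W → b ∈ W → f a a = 1 → f b b = 1 → ∀ α : F, ∀ w ∈ W, f w a = 0 → f w w ≠ 0 →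
      b = α • a + w → R a b := by
    intro a b ha hb ha1 hb1 α w hw hwa hww hbe
    have hndA := hs.nd_inf_ker hndW ha (by rw [ha1]; exact one_ne_zero)
    obtain ⟨z, hz, hza, hzz, hzw⟩ : ∃ z ∈ W, f z a = 0 ∧ f z z = 1 - (1 + τ) * σ (1 + τ) ∧
        f z w = (1 + τ) - (1 + τ) * σ α := by
      set t := 1 - (1 + τ) * σ (1 + τ) with ht
      have htf : σ t = t := by rw [ht, map_sub, map_mul, hs.invol, map_one]; ring
      set d := (1 + τ) - (1 + τ) * σ α with hd
      have hndB := hs.nd_inf_ker hndA (u := w) ⟨hw, LinearMap.mem_ker.2 hwa⟩ hww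
      have hB : 1 ≤ finrank F
          (W ⊓ LinearMap.ker (hs.toSesq.lin a) ⊓ LinearMap.ker (hs.toSesq.lin w) : Submodule F V) := by
        have := finrank_le_inf_ker_add_one (W ⊓ LinearMap.ker (hs.toSesq.lin a)) (hs.toSesq.lin w)
        have := hdim a
        omega
      obtain ⟨y, ⟨⟨hy, hya⟩, hyw⟩, hyy⟩ := hs.exists_norm_in hndB (hne2 _ hB)
        (t := t - d * σ d / f w w) (by
          rw [map_sub, htf, map_div₀, map_mul, hs.invol, hs.self_fixed]; ring)
      have hya' : f y a = 0 := LinearMap.mem_ker.1 hya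
      have hyw' : f y w = 0 := LinearMap.mem_ker.1 hyw
      refine ⟨(d / f w w) • w + y, add_mem (W.smul_mem _ hw) hy, ?_, ?_, ?_⟩
      · rw [hs.add_left, hs.smul_left, hwa, hya']; ring
      · rw [hs.add_left, hs.add_right, hs.add_right, hs.smul_left, hs.smul_left, hs.smul_right, hs.smul_right,
          hs.refl _ _ hyw', hyw', hyy, map_div₀, hs.self_fixed]
        field_simp
        ring
      · rw [hs.add_left, hs.smul_left, hyw', add_zero, div_mul_cancel₀ _ hww]
    set m := (1 + τ) • a + z with hm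
    have hmW : m ∈ W := add_mem (W.smul_mem _ ha) hz
    have hm1 : f m m = 1 := by
      rw [hm, hs.add_left, hs.add_right, hs.add_right, hs.smul_left, hs.smul_left, hs.smul_right, hs.smul_right,
        ha1, hza, hs.refl _ _ hza, hzz]
      ring
    have ham : f a m = σ (1 + τ) := by
      rw [hm, hs.add_right, hs.smul_right, ha1, hs.refl _ _ hza, mul_one, add_zero]
    have hmb : f m b = 1 + τ := by
      rw [hm, hbe, hs.add_left, hs.add_right, hs.add_right, hs.smul_left, hs.smul_left, hs.smul_right, hs.smul_right,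
        ha1, hza, hs.refl _ _ hwa, hzw]
      ring
    exact hR (utv_move hs hT ha hmW ha1 hm1 (by rw [ham, hs.invol, add_comm, hβtr])
        (fun e => hβ1 (σ.injective (by rw [← ham, e, map_one]))))
      (utv_move hs hT hmW hb hm1 hb1 (by rw [hmb, hβtr]) (by rw [hmb]; exact hβ1))
  have hortho : ∀ a b : V, a ∈ W → b ∈ W → f a a = 1 → f b b = 1 → f b a = 0 → R a b := fun a b ha hb ha1 hb1 hba =>
    hgen a b ha hb ha1 hb1 0 b hb hba (by rw [hb1]; exact one_ne_zero) (by rw [zero_smul, zero_add])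
  have hscal : ∀ (a : V) (ζ : F), a ∈ W → f a a = 1 → ζ * σ ζ = 1 → R a (ζ • a) := fun a ζ ha ha1 hζ => by
    obtain ⟨y, ⟨hy, hya⟩, hyy⟩ := hs.exists_norm_in (hs.nd_inf_ker hndW ha (by rw [ha1]; exact one_ne_zero))
      (hne2 _ (le_trans (by omega) (hdim a))) (t := 1) (map_one σ)
    have hya' : f y a = 0 := LinearMap.mem_ker.1 hya
    have hζ1 : f (ζ • a) (ζ • a) = 1 := by rw [hs.smul_left, hs.smul_right, ha1, mul_one, hζ]
    exact hR (hortho a y ha hy ha1 hyy hya')
      (hortho y (ζ • a) hy (W.smul_mem _ ha) hyy hζ1 (by rw [hs.smul_left, hs.refl _ _ hya', mul_zero]))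
  set α := f u' u with hα
  set w := u' - α • u with hw
  have hwu : f w u = 0 := by rw [hw, hs.toSesq.sub_left, hs.smul_left, h1, mul_one, sub_self]
  have hu'e : u' = α • u + w := by rw [hw, add_sub_cancel]
  by_cases hw0 : w = 0
  · rw [hw0, add_zero] at hu'e
    rw [hu'e] at h2 ⊢
    refine hscal u α hu h1 ?_
    rwa [hs.smul_left, hs.smul_right, h1, mul_one] at h2
  by_cases hww : f w w ≠ 0
  · exact hgen u u' hu hu' h1 h2 α w (sub_mem hu' (W.smul_mem _ hu)) hwu hww hu'e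
  push Not at hww
  have hαn : α * σ α = 1 := by
    rw [hu'e] at h2
    simpa [hs.add_left, hs.add_right, hs.smul_left, hs.smul_right, h1, hww, hwu, hs.refl _ _ hwu] using h2
  rw [hu'e]
  exact hR (hscal u α hu h1 hαn) (hunip (α • u) w (W.smul_mem _ hu) (sub_mem hu' (W.smul_mem _ hu))
    (by rw [hs.smul_left, hs.smul_right, h1, mul_one, hαn]) (by rw [hs.smul_right, hwu, mul_zero]) hww)

/-- The plane case. -/
theorem mem_of_plane [Finite F] (hsp : Split f W U) (hk : finrank F W = 2) {g : GL ι F}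
    (hgi : ∀ x y, f ((g : Mn) *ᵥ x) ((g : Mn) *ᵥ y) = f x y) (hgd : g ∈ Geo.specialLinear ι F)
    (hgU : ∀ z ∈ U, (g : Mn) *ᵥ z = z) : g ∈ M := by
  obtain ⟨e, he, he0, hee⟩ := hs.exists_iso (S := W) (by omega)
  obtain ⟨x, hx, hxe⟩ := hs.split_nd hsp he he0
  obtain ⟨e', he', hfe, hff⟩ : ∃ e' ∈ W, f e' e = 1 ∧ f e' e' = 0 := by
    set x' := (f x e)⁻¹ • x with hx'
    have hxe' : f x' e = 1 := by rw [hx', hs.smul_left, inv_mul_cancel₀ hxe]
    have hx'W : x' ∈ W := W.smul_mem _ hx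
    clear_value x'
    obtain ⟨d, hd⟩ := hs.exists_trace_eq (a := -f x' x') (by rw [map_neg, hs.self_fixed])
    refine ⟨x' + d • e, add_mem hx'W (W.smul_mem _ he),
      by rw [hs.add_left, hs.smul_left, hee, mul_zero, add_zero, hxe'], ?_⟩
    rw [hs.add_left, hs.add_right, hs.add_right, hs.smul_left, hs.smul_left, hs.smul_right, hs.smul_right, hxe',
      hee, hs.herm e x', hxe', map_one]
    linear_combination hd
  have hef : f e e' = 1 := by rw [hs.herm, hfe, map_one]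
  -- coordinates
  have hW : ∀ y ∈ W, y = f y e' • e + f y e • e' := fun y hy => by
    have hli : W ≤ Submodule.span F ({e, e'} : Set V) := by
      have hle : Submodule.span F ({e, e'} : Set V) ≤ W := Submodule.span_le.2 (by
        rintro z (rfl | rfl) <;> assumption)
      refine (Submodule.eq_of_le_of_finrank_le hle ?_).ge
      have hli : LinearIndependent F ![e, e'] := by
        rw [LinearIndependent.pair_iff]
        intro s r hsr
        constructor
        · have := congrArg (fun z => f z e') hsr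
          simpa [hs.add_left, hs.smul_left, hef, hff, hs.toSesq.zero_left] using this
        · have := congrArg (fun z => f z e) hsr
          simpa [hs.add_left, hs.smul_left, hfe, hee, hs.toSesq.zero_left] using this
      have := finrank_span_eq_card hli
      rw [Matrix.range_cons_cons_empty, Fintype.card_fin] at this
      omega
    obtain ⟨s, r, hsr⟩ := Submodule.mem_span_pair.1 (hli hy)
    rw [← hsr]
    simp [hs.add_left, hs.smul_left, hef, hff, hfe, hee]
  have hfix : ∀ z, f z e = 0 → f z e' = 0 → (g : Mn) *ᵥ z = z := fun z h1 h2 => by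
    obtain ⟨w, hw, hzw⟩ := hsp.dec z
    have hw1 : f w e = 0 := by
      have := h1
      rwa [← sub_add_cancel z w, hs.add_left, hs.refl _ _ (hsp.orth e he _ hzw), zero_add] at this
    have hw2 : f w e' = 0 := by
      have := h2
      rwa [← sub_add_cancel z w, hs.add_left, hs.refl _ _ (hsp.orth e' he' _ hzw), zero_add] at this
    have : w = 0 := by rw [hW w hw, hw1, hw2]; simp
    rw [this, sub_zero] at hzw
    exact hgU z hzw
  have hgW : ∀ y ∈ W, (g : Mn) *ᵥ y ∈ W := fun y hy => hs.split_mem hsp fun z hz => by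
    rw [← hgU z hz, hgi]; exact hsp.orth y hy z hz
  -- the group of the plane
  let P : GL ι F → Prop := fun k => (∀ x y, f ((k : Mn) *ᵥ x) ((k : Mn) *ᵥ y) = f x y) ∧
    k ∈ Geo.specialLinear ι F ∧ (∀ z, f z e = 0 → f z e' = 0 → (k : Mn) *ᵥ z = z) ∧
    (∀ y ∈ W, (k : Mn) *ᵥ y ∈ W)
  have hPmul : ∀ {k l : GL ι F}, P k → P l → P (k * l) := fun {k l} hk hl =>
    ⟨fun x y => by rw [Units.val_mul, ← Matrix.mulVec_mulVec, ← Matrix.mulVec_mulVec, hk.1, hl.1],
      mul_mem hk.2.1 hl.2.1, fun z h1 h2 => by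
        rw [Units.val_mul, ← Matrix.mulVec_mulVec, hl.2.2.1 z h1 h2, hk.2.2.1 z h1 h2],
      fun y hy => by rw [Units.val_mul, ← Matrix.mulVec_mulVec]; exact hk.2.2.2 _ (hl.2.2.2 y hy)⟩
  have htr : ∀ v, (v = e ∨ v = e') → ∀ c : F, c + σ c = 0 →
      ∃ t ∈ M, P t ∧ ∀ x, (t : Mn) *ᵥ x = x + (c * f x v) • v := fun v hv c hc => by
    have hvW : v ∈ W := by rcases hv with rfl | rfl <;> assumption
    obtain ⟨t, ht, hti, htd, htx⟩ := exists_utv hs hT (v := v) (by rcases hv with rfl | rfl <;> assumption) hc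
    exact ⟨t, ht, ⟨hti, htd, fun z h1 h2 => by
      rw [htx]; rcases hv with rfl | rfl <;> simp [h1, h2],
      fun y hy => by rw [htx]; exact add_mem hy (W.smul_mem _ hvW)⟩, htx⟩
  obtain ⟨τ, hτ0, hτ⟩ := hs.exists_skew
  have hinv : ∀ {s : F}, s + σ s = 0 → -1 / s + σ (-1 / s) = 0 := fun {s} hs' => by
    rw [map_div₀, map_neg, map_one, show σ s = -s by linear_combination hs']; ring
  -- the Weyl element
  have hN : ∀ s : F, s ≠ 0 → s + σ s = 0 → ∃ n ∈ M, P n ∧ (n : Mn) *ᵥ e = (-1 / s) • e' ∧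
      (n : Mn) *ᵥ e' = s • e := fun s hs0 hs' => by
    obtain ⟨t₁, ht₁, hP₁, h₁⟩ := htr e (Or.inl rfl) s hs'
    obtain ⟨t₂, ht₂, hP₂, h₂⟩ := htr e' (Or.inr rfl) (-1 / s) (hinv hs')
    refine ⟨t₁ * (t₂ * t₁), mul_mem ht₁ (mul_mem ht₂ ht₁), hPmul hP₁ (hPmul hP₂ hP₁), ?_, ?_⟩
    · rw [Units.val_mul, Units.val_mul, ← Matrix.mulVec_mulVec, ← Matrix.mulVec_mulVec, h₁ e, hee]
      simp only [mul_zero, zero_smul, add_zero]
      rw [h₂, hef, h₁]
      simp only [hs.add_left, hs.smul_left, hee, hfe]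
      match_scalars <;> field_simp <;> ring
    · rw [Units.val_mul, Units.val_mul, ← Matrix.mulVec_mulVec, ← Matrix.mulVec_mulVec, h₁ e', hfe, h₂]
      simp only [hs.add_left, hs.smul_left, hff, hef]
      rw [h₁]
      simp only [hs.add_left, hs.smul_left, hee, hfe]
      match_scalars <;> field_simp <;> ring
  suffices H : ∀ k : GL ι F, P k → (∃ l : F, (k : Mn) *ᵥ e = l • e) → k ∈ M by
    have hPg : P g := ⟨hgi, hgd, hfix, hgW⟩
    have hge := hW _ (hgW e he)
    set a := f ((g : Mn) *ᵥ e) e'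
    set b := f ((g : Mn) *ᵥ e) e with hb
    by_cases hb0 : b = 0
    · exact H g hPg ⟨a, by rw [hge, hb0]; simp⟩
    have hab : a * σ b + b * σ a = 0 := by
      have := hgi e e
      rw [hge, hee] at this
      simp only [hs.add_left, hs.add_right, hs.smul_left, hs.smul_right, hee, hff, hef, hfe] at this
      linear_combination this
    have hsb : σ b ≠ 0 := σ.map_ne_zero_iff.2 hb0
    obtain ⟨t, ht, hPt, htx⟩ := htr e (Or.inl rfl) (-a / b) (by
      rw [map_div₀, map_neg]; field_simp; linear_combination -hab)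
    obtain ⟨n, hn, hPn, hne, hne'⟩ := hN τ hτ0 hτ
    have h1 : n * t * g ∈ M := H _ (hPmul (hPmul hPn hPt) hPg) ⟨b * τ, by
      rw [Units.val_mul, Units.val_mul, ← Matrix.mulVec_mulVec, ← Matrix.mulVec_mulVec, hge, htx]
      simp only [hs.add_left, hs.smul_left, hee, hfe, Matrix.mulVec_add, Matrix.mulVec_smul, hne, hne']
      match_scalars <;> field_simp <;> ring⟩
    have h2 := mul_mem (inv_mem (mul_mem hn ht)) h1
    rwa [inv_mul_cancel_left] at h2
  rintro k hPk ⟨l, hke⟩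
  have hke' := hW _ (hPk.2.2.2 e' he')
  set a' := f ((k : Mn) *ᵥ e') e'
  set μ := f ((k : Mn) *ᵥ e') e
  have h1 : l * σ μ = 1 := by
    have := hPk.1 e e'
    rw [hke, hke', hef] at this
    simp only [hs.add_right, hs.smul_left, hs.smul_right, hee, hef] at this
    linear_combination this
  have hl : l ≠ 0 := left_ne_zero_of_mul_eq_one h1
  have hμ : μ ≠ 0 := fun e0 => by rw [e0, map_zero, mul_zero] at h1; exact zero_ne_one h1
  have h2 : a' * σ μ + μ * σ a' = 0 := by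
    have := hPk.1 e' e'
    rw [hke', hff] at this
    simp only [hs.add_left, hs.add_right, hs.smul_left, hs.smul_right, hee, hff, hef, hfe] at this
    linear_combination this
  have hsμ : σ μ ≠ 0 := σ.map_ne_zero_iff.2 hμ
  obtain ⟨t, ht, hPt, htx⟩ := htr e (Or.inl rfl) (-a' / μ) (by
    rw [map_div₀, map_neg]; field_simp; linear_combination -h2)
  have hP' := hPmul hPt hPk
  have hd1 : ((t * k : GL ι F) : Mn) *ᵥ e = l • e := by
    rw [Units.val_mul, ← Matrix.mulVec_mulVec, hke, htx, hs.smul_left, hee]; simp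
  have hd2 : ((t * k : GL ι F) : Mn) *ᵥ e' = μ • e' := by
    rw [Units.val_mul, ← Matrix.mulVec_mulVec, hke', htx]
    simp only [hs.add_left, hs.smul_left, hee, hfe]
    match_scalars <;> field_simp <;> ring
  have hform : ∀ k' : GL ι F, P k' → ∀ p r : F, (k' : Mn) *ᵥ e = p • e → (k' : Mn) *ᵥ e' = r • e' →
      ∀ x, (k' : Mn) *ᵥ x = x + ((p - 1) • fn f e' ⬝ᵥ x) • e + ((r - 1) • fn f e ⬝ᵥ x) • e' := fun k' hk' p r hp hr x => by
    have hz := hk'.2.2.1 (x - f x e' • e - f x e • e')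
      (by rw [hs.toSesq.sub_left, hs.toSesq.sub_left, hs.smul_left, hs.smul_left, hee, hfe]; ring)
      (by rw [hs.toSesq.sub_left, hs.toSesq.sub_left, hs.smul_left, hs.smul_left, hef, hff]; ring)
    rw [Matrix.mulVec_sub, Matrix.mulVec_sub, Matrix.mulVec_smul, Matrix.mulVec_smul, hp, hr] at hz
    rw [smul_dotProduct, smul_dotProduct, fn_dot hs.toSesq, fn_dot hs.toSesq,
      show (k' : Mn) *ᵥ x = ((k' : Mn) *ᵥ x - f x e' • p • e - f x e • r • e') + f x e' • p • e + f x e • r • e' by abel,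
      hz]
    simp only [smul_eq_mul]
    module
  have hdet : l * μ = 1 := by
    have h := det_rank_two (hform _ hP' l μ hd1 hd2)
    have hd : ((t * k : GL ι F) : Mn).det = 1 := congrArg Units.val (MonoidHom.mem_ker.1 hP'.2.1)
    rw [hd, smul_dotProduct, smul_dotProduct, smul_dotProduct, smul_dotProduct, fn_dot hs.toSesq, fn_dot hs.toSesq,
      fn_dot hs.toSesq, fn_dot hs.toSesq, hef, hfe, hee, hff] at h
    simp only [smul_eq_mul] at h
    linear_combination -h
  have hlfix : σ l = l := by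
    have h1' := congrArg σ h1
    rw [map_mul, hs.invol, map_one] at h1'
    exact mul_right_cancel₀ hμ (by rw [h1', hdet])
  -- the torus
  have hls : -τ + σ (-τ) = 0 := by rw [map_neg]; linear_combination -hτ
  have hls' : l * τ + σ (l * τ) = 0 := by rw [map_mul, hlfix]; linear_combination l * hτ
  obtain ⟨n₁, hn₁, hPn₁, h₁e, h₁e'⟩ := hN (-τ) (neg_ne_zero.2 hτ0) hls
  obtain ⟨n₂, hn₂, hPn₂, h₂e, h₂e'⟩ := hN (l * τ) (mul_ne_zero hl hτ0) hls'
  have hd1' : ((n₂ * n₁ : GL ι F) : Mn) *ᵥ e = l • e := by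
    rw [Units.val_mul, ← Matrix.mulVec_mulVec, h₁e, Matrix.mulVec_smul, h₂e', smul_smul]
    congr 1; field_simp
  have hd2' : ((n₂ * n₁ : GL ι F) : Mn) *ᵥ e' = μ • e' := by
    rw [Units.val_mul, ← Matrix.mulVec_mulVec, h₁e', Matrix.mulVec_smul, h₂e, smul_smul,
      show μ = l⁻¹ from eq_inv_of_mul_eq_one_right hdet]
    congr 1; field_simp
  have heq : t * k = n₂ * n₁ := Units.ext (Matrix.ext_iff_mulVec.2 fun x => by
    rw [hform _ hP' l μ hd1 hd2, hform _ (hPmul hPn₂ hPn₁) l μ hd1' hd2'])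
  have h3 := mul_mem (inv_mem ht) (heq ▸ mul_mem hn₂ hn₁ : t * k ∈ M)
  rwa [inv_mul_cancel_left] at h3

/-- Determinant-one isometries are products of transvections. -/
theorem mem_of_isometry [Finite F] (hn : 5 ≤ Fintype.card ι) {g : GL ι F}
    (hgi : ∀ x y, f ((g : Mn) *ᵥ x) ((g : Mn) *ᵥ y) = f x y) (hgd : g ∈ Geo.specialLinear ι F) : g ∈ M := by
  suffices H : ∀ (d : ℕ) (W U : Submodule F V), Split f W U → finrank F W = d + 2 → ∀ g : GL ι F,
      (∀ x y, f ((g : Mn) *ᵥ x) ((g : Mn) *ᵥ y) = f x y) → g ∈ Geo.specialLinear ι F →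
      (∀ z ∈ U, (g : Mn) *ᵥ z = z) → g ∈ M by
    refine H (Fintype.card ι - 2) ⊤ ⊥ ⟨fun x => ⟨x, trivial, by simp⟩, fun w _ z hz => ?_⟩
      (by rw [finrank_top, Module.finrank_pi]; omega) g hgi hgd fun z hz => ?_
    · rw [(Submodule.mem_bot F).1 hz, hs.toSesq.zero_right]
    · rw [(Submodule.mem_bot F).1 hz, Matrix.mulVec_zero]
  intro d
  induction d with
  | zero => exact fun W U hsp hk g hgi hgd hgU => mem_of_plane hs hT hsp hk hgi hgd hgU
  | succ d ih =>
    intro W U hsp hk g hgi hgd hgU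
    have hnd : ∀ w ∈ W, w ≠ 0 → ∃ x ∈ W, f x w ≠ 0 := fun w hw hw0 => hs.split_nd hsp hw hw0
    obtain ⟨u, hu, huu⟩ := hs.exists_norm_in hnd (fun e => by rw [e, finrank_bot] at hk; omega) (map_one σ)
    have hgu : (g : Mn) *ᵥ u ∈ W := hs.split_mem hsp fun z hz => by
      rw [← hgU z hz, hgi]; exact hsp.orth u hu z hz
    obtain ⟨t, ht, hti, htu, htz, htd⟩ :=
      utv_transitive hs hT hn hsp (by omega) hgu hu (by rw [hgi, huu]) huu
    have h1 : t * g ∈ M := by
      refine ih _ _ (hs.split_inf_ker hsp hu huu) ?_ _ (fun x y => by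
        rw [Units.val_mul, ← Matrix.mulVec_mulVec, ← Matrix.mulVec_mulVec, hti, hgi]) (mul_mem htd hgd) ?_
      · have h1 := finrank_le_inf_ker_add_one W (hs.toSesq.lin u)
        have h2 : W ⊓ LinearMap.ker (hs.toSesq.lin u) < W := lt_of_le_of_ne inf_le_left fun e => by
          have : f u u = 0 := LinearMap.mem_ker.1 ((e.ge hu).2)
          rw [huu] at this
          exact one_ne_zero this
        have := Submodule.finrank_lt_finrank_of_lt h2
        omega
      · intro z hz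
        obtain ⟨a, ha, b, hb, rfl⟩ := Submodule.mem_sup.1 hz
        obtain ⟨c, rfl⟩ := Submodule.mem_span_singleton.1 hb
        rw [Units.val_mul, ← Matrix.mulVec_mulVec, Matrix.mulVec_add, hgU a ha, Matrix.mulVec_smul,
          Matrix.mulVec_add, Matrix.mulVec_smul, htu, htz a fun w hw => hs.refl _ _ (hsp.orth w hw a ha)]
    have h2 := mul_mem (inv_mem ht) h1
    rwa [inv_mul_cancel_left] at h2

end Gen

end Cfsg.Agent.Classical.MaxTv
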