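import Cfsg.Agent.Lib.Classical.MaxUnitCircle
import Cfsg.Agent.Lib.Classical.MaxMonomial

/-!
The monomial group of `SU`: the context, monomial elements, single transvections.
-/

set_option autoImplicit false
set_option linter.unusedSectionVars false

namespace Cfsg.Agent.Classical.MaxUnitMon

open Matrix Module MaxTv MaxMon

variable {F : Type*} [Field F] [Fintype F] [DecidableEq F] {ι : Type} [Fintype ι] [DecidableEq ι]

local notation "V" => (ι → F)
local notation "Mn" => Matrix ι ι F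

/-- The standard Hermitian form. -/
def dot (σ : F ≃+* F) (x y : ι → F) : F := ∑ i, x i * σ (y i)

/-- `M` contains the monomial isometries of determinant one and consists of isometries. -/
structure Ctx (σ : F ≃+* F) (q : ℕ) (M : Subgroup (GL ι F)) : Prop where
  circ : Circ σ q
  herm : Herm σ (dot (ι := ι) σ)
  mon : ∀ m : GL ι F, IsMon (m : Mn) → (∀ x y, dot σ ((m : Mn) *ᵥ x) ((m : Mn) *ᵥ y) = dot σ x y) →
    (m : Mn).det = 1 → m ∈ M
  iso : ∀ g ∈ M, ∀ x y, dot σ ((g : Mn) *ᵥ x) ((g : Mn) *ᵥ y) = dot σ x y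
  card : (Fintype.card ι = 6 ∧ 3 ≤ q) ∨ Fintype.card ι = 10 ∨ 12 ≤ Fintype.card ι ∨ Fintype.card ι = 8 ∨
    (Fintype.card ι = 4 ∧ q ≠ 3) ∨ Fintype.card ι = 9

/-- A single transvection in `M`. -/
def Tr1 (σ : F ≃+* F) (M : Subgroup (GL ι F)) (v : ι → F) (c : F) : Prop :=
  ∃ t ∈ M, ∀ x, (t : Mn) *ᵥ x = x + (c * dot σ x v) • v

/-- The non-zero coordinates. -/
def supp (v : ι → F) : Finset ι := Finset.univ.filter fun i => v i ≠ 0

variable {σ : F ≃+* F} {q : ℕ} {M : Subgroup (GL ι F)}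

theorem mem_supp {v : V} {i : ι} : i ∈ supp v ↔ v i ≠ 0 := by simp [supp]

theorem eq_zero_of_notMem {v : V} {i : ι} (h : i ∉ supp v) : v i = 0 := by simpa [supp] using h

theorem dot_single_right (x : V) (i : ι) (a : F) : dot σ x (Pi.single i a) = x i * σ a := by
  rw [dot, Finset.sum_eq_single i (fun j _ hj => by simp [Pi.single_eq_of_ne hj]) (by simp)]
  simp

theorem dot_single_left (x : V) (i : ι) (a : F) : dot σ (Pi.single i a) x = a * σ (x i) := by
  rw [dot, Finset.sum_eq_single i (fun j _ hj => by simp [Pi.single_eq_of_ne hj]) (by simp)]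
  simp

theorem single_eq_smul (i : ι) (a : F) : (Pi.single i a : V) = a • Pi.single i 1 := by
  rw [← Pi.single_smul, smul_eq_mul, mul_one]

theorem dot_eq_sum_supp {x y : V} {S : Finset ι} (h : ∀ i, i ∉ S → x i = 0) :
    dot σ x y = ∑ i ∈ S, x i * σ (y i) :=
  (Finset.sum_subset (Finset.subset_univ S) fun i _ hi => by rw [h i hi, zero_mul]).symm

theorem Tr1.of_upt {v : V} (h : UPt σ (dot σ) M v) {c : F} (hc : c + σ c = 0) : Tr1 σ M v c := h c hc

namespace Ctx

variable (X : Ctx σ q M)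
include X

theorem two_le_q : 2 ≤ q := X.circ.two_le

theorem norm_fix (a : F) : σ (a * σ a) = a * σ a := by rw [map_mul, X.herm.invol, mul_comm]

theorem norm_ne {a : F} (ha : a ≠ 0) : a * σ a ≠ 0 :=
  mul_ne_zero ha fun e => ha (σ.map_eq_zero_iff.1 e)

theorem dot_self_single (i : ι) : dot σ (Pi.single i 1) (Pi.single i (1 : F)) = 1 := by
  rw [dot_single_left]; simp

/-- Monomial elements of `M`. -/
theorem exists_mon_mem (π : Equiv.Perm ι) (x : ι → F) (hx : ∀ j, x j ∈ mu σ)
    (hdet : ((Equiv.Perm.sign π : ℤ) : F) * ∏ j, x j = 1) :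
    ∃ m ∈ M, (∀ j, (m : Mn) *ᵥ Pi.single j 1 = Pi.single (π j) (x j)) ∧
      ∀ (z : V) j, ((m : Mn) *ᵥ z) (π j) = x j * z j := by
  obtain ⟨g, hg, hgm, hgd⟩ := exists_mon π x fun j => mu_ne (hx j)
  have hz := fun z j => mon_apply hg z j
  refine ⟨g, X.mon g hgm (fun a b => ?_) (by rw [hgd]; exact_mod_cast hdet), hg, hz⟩
  simp only [dot]
  rw [← Equiv.sum_comp π]
  refine Finset.sum_congr rfl fun j _ => ?_
  rw [hz, hz, map_mul]
  linear_combination (a j * σ (b j)) * mem_mu.1 (hx j)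

theorem exists_diag_mem (x : ι → F) (hx : ∀ j, x j ∈ mu σ) (hprod : ∏ j, x j = 1) :
    ∃ d ∈ M, ∀ (z : V) j, ((d : Mn) *ᵥ z) j = x j * z j := by
  obtain ⟨d, hd, -, hz⟩ := X.exists_mon_mem 1 x hx (by simpa using hprod)
  exact ⟨d, hd, fun z j => by simpa using hz z j⟩

/-- A diagonal element with one absorbing place. -/
theorem exists_diag_fix (x : ι → F) (hx : ∀ j, x j ∈ mu σ) (o : ι) :
    ∃ d ∈ M, ∀ z : V, z o = 0 → (d : Mn) *ᵥ z = x * z := by
  set x' := Function.update x o (∏ j ∈ Finset.univ.erase o, x j)⁻¹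
  have hprod : ∏ j, x' j = 1 := by
    rw [Finset.prod_update_of_mem (Finset.mem_univ o), ← Finset.erase_eq]
    exact inv_mul_cancel₀ (Finset.prod_ne_zero_iff.2 fun j _ => mu_ne (hx j))
  obtain ⟨d, hd, hdz⟩ := X.exists_diag_mem x' (fun j => by
    by_cases h : j = o
    · subst h; simp only [x', Function.update_self]; exact inv_mem_mu (prod_mem_mu _ _ fun i _ => hx i)
    · simp only [x', Function.update_of_ne h]; exact hx j) hprod
  refine ⟨d, hd, fun z hz => funext fun j => ?_⟩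
  rw [hdz, Pi.mul_apply]
  by_cases h : j = o
  · subst h; rw [hz, mul_zero, mul_zero]
  · simp only [x', Function.update_of_ne h]

theorem tr1_map {v : V} {c : F} (h : Tr1 σ M v c) {g : GL ι F} (hg : g ∈ M) :
    Tr1 σ M ((g : Mn) *ᵥ v) c := by
  obtain ⟨t, ht, htx⟩ := h
  refine ⟨g * t * g⁻¹, mul_mem (mul_mem hg ht) (inv_mem hg), fun x => ?_⟩
  rw [Units.val_mul, Units.val_mul, ← Matrix.mulVec_mulVec, ← Matrix.mulVec_mulVec, htx, Matrix.mulVec_add,
    Matrix.mulVec_smul, mulVec_inv_cancel, ← X.iso g hg, mulVec_inv_cancel]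

theorem tr1_smul {v : V} {a c : F} : Tr1 σ M (a • v) c ↔ Tr1 σ M v (c * (a * σ a)) := by
  have h : ∀ x : V, (c * dot σ x (a • v)) • a • v = (c * (a * σ a) * dot σ x v) • v := fun x => by
    rw [X.herm.smul_right, smul_smul]; congr 1; ring
  simp only [Tr1, h]

theorem tr1_add {v : V} {c c' : F} (hv : dot σ v v = 0) (h : Tr1 σ M v c) (h' : Tr1 σ M v c') :
    Tr1 σ M v (c + c') := by
  obtain ⟨t, ht, htx⟩ := h
  obtain ⟨t', ht', htx'⟩ := h'
  refine ⟨t * t', mul_mem ht ht', fun x => ?_⟩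
  rw [Units.val_mul, ← Matrix.mulVec_mulVec, htx', htx, X.herm.add_left, X.herm.smul_left, hv]
  match_scalars <;> ring

theorem tr1_add_smul {v w : V} {c c' : F} (hv : Tr1 σ M v c) (hw : Tr1 σ M w c') :
    Tr1 σ M (v + (c' * dot σ v w) • w) c := by
  obtain ⟨t, ht, htx⟩ := hw
  have := X.tr1_map hv ht
  rwa [htx] at this

theorem upt_map {v : V} (h : UPt σ (dot σ) M v) {g : GL ι F} (hg : g ∈ M) :
    UPt σ (dot σ) M ((g : Mn) *ᵥ v) := h.map X.herm hg (X.iso g hg)

theorem iso_add_smul {v w : V} {c : F} (hv : dot σ v v = 0) (hw : dot σ w w = 0) (hc : c + σ c = 0) :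
    dot σ (v + (c * dot σ v w) • w) (v + (c * dot σ v w) • w) = 0 := by
  simp only [X.herm.add_left, X.herm.add_right, X.herm.smul_left, X.herm.smul_right, hv, hw, map_mul,
    ← X.herm.herm]
  linear_combination (dot σ v w * dot σ w v) * hc

theorem sum_norm_supp {v : V} (hv : dot σ v v = 0) : ∑ i ∈ supp v, v i * σ (v i) = 0 := by
  rw [← dot_eq_sum_supp fun i hi => eq_zero_of_notMem hi, hv]

theorem two_le_supp {v : V} (hv : dot σ v v = 0) (hv0 : v ≠ 0) : 2 ≤ (supp v).card := by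
  by_contra h
  obtain ⟨i, hi⟩ := Function.ne_iff.1 hv0
  have hs : supp v = {i} := Finset.eq_singleton_iff_unique_mem.2 ⟨mem_supp.2 hi, fun j hj =>
    Finset.card_le_one.1 (by omega) j hj i (mem_supp.2 hi)⟩
  have := X.sum_norm_supp hv
  rw [hs, Finset.sum_singleton] at this
  exact X.norm_ne hi this

/-- Rotations of one part against the other, up to a scalar, give all transvections at the vector. -/
theorem rotate' {v p r : V} {c₀ : F} (h : Tr1 σ M v c₀) (hv : dot σ v v = 0) (hvpr : v = p + r)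
    (hpr : dot σ p r = 0) (hp : dot σ p p ≠ 0)
    (hrot : ∀ z ∈ mu σ, ∃ g ∈ M, ∃ w ∈ mu σ, (g : Mn) *ᵥ p = (w * z) • p ∧ (g : Mn) *ᵥ r = w • r)
    (hc : c₀ + σ c₀ = 0) (hc0 : c₀ ≠ 0) (hκ : c₀ * dot σ p p ≠ -1) : UPt σ (dot σ) M v := by
  classical
  have hs := X.herm
  set N := dot σ p p with hN
  have hNf : σ N = N := hs.self_fixed p
  have hrp : dot σ r p = 0 := hs.refl _ _ hpr
  have hrr : dot σ r r = -N := by
    rw [hvpr, hs.add_left, hs.add_right, hs.add_right, hpr, hrp, add_zero, zero_add] at hv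
    exact eq_neg_of_add_eq_zero_right hv
  set κ := c₀ * N with hκdef
  have hκs : σ κ = -κ := by rw [hκdef, map_mul, hNf]; linear_combination N * hc
  set R : F → F := fun z => (1 + κ * (z - 1)) * σ (1 + κ * (z - 1)) with hR
  -- the multiplicative step
  have hmul : ∀ z ∈ mu σ, R z ≠ 0 ∧ ∀ c, Tr1 σ M v c → Tr1 σ M v (c * R z) := by
    intro z hz
    obtain ⟨g, hg, w, hw, hgp, hgr⟩ := hrot z hz
    obtain ⟨t, ht, htx⟩ := h
    set e := κ * (z - 1) with he
    have hgv : (g : Mn) *ᵥ v = w • (z • p + r) := by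
      rw [hvpr, Matrix.mulVec_add, hgp, hgr, smul_add, smul_smul]
    have himg : (t : Mn) *ᵥ ((g : Mn) *ᵥ v) = w • ((z + e) • p + (1 + e) • r) := by
      rw [htx, hgv]
      have : c₀ * dot σ (w • (z • p + r)) v = w * e := by
        rw [hs.smul_left, hvpr, hs.add_left, hs.add_right, hs.add_right, hs.smul_left, hs.smul_left, hpr, hrp, hrr,
          ← hN, he, hκdef]
        ring
      rw [this, hvpr]
      module
    have hiso := X.iso t ht ((g : Mn) *ᵥ v) ((g : Mn) *ᵥ v)
    rw [X.iso g hg, hv, himg] at hiso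
    simp only [hs.add_left, hs.add_right, hs.smul_left, hs.smul_right, hpr, hrp, hrr, ← hN] at hiso
    have heq : (z + e) * σ (z + e) = (1 + e) * σ (1 + e) := by
      refine mul_right_cancel₀ hp (mul_left_cancel₀ (X.norm_ne (mu_ne hw)) ?_)
      linear_combination hiso
    have hne : 1 + e ≠ 0 := fun e0 => by
      rw [e0, zero_mul, mul_eq_zero, σ.map_eq_zero_iff, or_self] at heq
      have hz1 : z = 1 := by linear_combination heq - e0
      rw [he, hz1, sub_self, mul_zero, add_zero] at e0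
      exact one_ne_zero e0
    refine ⟨X.norm_ne hne, fun c hcM => ?_⟩
    set z' := (z + e) / (1 + e) with hz'
    have hz'm : z' ∈ mu σ := by
      rw [mem_mu, hz', map_div₀, div_mul_div_comm, heq]
      exact div_self (X.norm_ne hne)
    obtain ⟨g', hg', w', hw', hg'p, hg'r⟩ := hrot z' hz'm
    have hu : w * w'⁻¹ ∈ mu σ := mul_mem_mu hw (inv_mem_mu hw')
    have himg' : (t : Mn) *ᵥ ((g : Mn) *ᵥ v) = (g' : Mn) *ᵥ ((w * w'⁻¹ * (1 + e)) • v) := by
      have hw0 := mu_ne hw'
      rw [himg, Matrix.mulVec_smul, hvpr, Matrix.mulVec_add, hg'p, hg'r, smul_add, smul_add, smul_smul, smul_smul,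
        smul_smul, smul_smul, hz']
      congr 2 <;> field_simp
    have h1 := X.tr1_map (X.tr1_map hcM (mul_mem ht hg)) (inv_mem hg')
    rw [Units.val_mul, ← Matrix.mulVec_mulVec, himg', inv_mulVec_cancel, X.tr1_smul] at h1
    have hcoef : c * (w * w'⁻¹ * (1 + e) * σ (w * w'⁻¹ * (1 + e))) = c * R z := by
      rw [map_mul σ (w * w'⁻¹) (1 + e)]
      simp only [hR, ← he]
      linear_combination (c * ((1 + e) * σ (1 + e))) * mem_mu.1 hu
    rwa [hcoef] at h1
  -- the multipliers form the fixed field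
  set S := (fix σ).filter fun x => ∀ c, Tr1 σ M v c → Tr1 σ M v (c * x) with hS
  have hSmem : ∀ x, x ∈ S ↔ σ x = x ∧ ∀ c, Tr1 σ M v c → Tr1 σ M v (c * x) := fun x => by
    simp [hS, mem_fix]
  have hadd : ∀ x y, x ∈ S → y ∈ S → x + y ∈ S := fun x y hx hy => by
    rw [hSmem] at hx hy ⊢
    exact ⟨by rw [map_add, hx.1, hy.1], fun c hcM => by
      rw [mul_add]; exact X.tr1_add hv (hx.2 c hcM) (hy.2 c hcM)⟩
  have hmulS : ∀ x y, x ∈ S → y ∈ S → x * y ∈ S := fun x y hx hy => by
    rw [hSmem] at hx hy ⊢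
    exact ⟨by rw [map_mul, hx.1, hy.1], fun c hcM => by
      rw [← mul_assoc]; exact hy.2 _ (hx.2 c hcM)⟩
  have h0 : (0 : F) ∈ S := by
    rw [hSmem]
    exact ⟨map_zero σ, fun c _ => ⟨1, one_mem M, fun x => by simp⟩⟩
  have h1 : (1 : F) ∈ S := by rw [hSmem]; exact ⟨map_one σ, fun c hcM => by rwa [mul_one]⟩
  have hneg : ∀ x ∈ S, -x ∈ S := fun x hx => by
    obtain ⟨p', hp'⟩ := CharP.exists F
    have hpos : 0 < p' := (CharP.char_is_prime F p').pos
    have hn : ∀ m : ℕ, (m : F) ∈ S := fun m => by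
      induction m with
      | zero => simpa using h0
      | succ m ih => rw [Nat.cast_succ]; exact hadd _ _ ih h1
    have : ((p' - 1 : ℕ) : F) = -1 := by
      rw [Nat.cast_sub hpos, CharP.cast_eq_zero, Nat.cast_one, zero_sub]
    have := hmulS _ _ (hn (p' - 1)) hx
    rwa [‹((p' - 1 : ℕ) : F) = -1›, neg_one_mul] at this
  have hsub : ∀ x y, x ∈ S → y ∈ S → x - y ∈ S := fun x y hx hy => by
    rw [sub_eq_add_neg]; exact hadd _ _ hx (hneg y hy)
  have hRS : insert 0 ((mu σ).image R) ⊆ S := by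
    intro x hx
    rcases Finset.mem_insert.1 hx with rfl | hx
    · exact h0
    obtain ⟨z, hz, rfl⟩ := Finset.mem_image.1 hx
    rw [hSmem]
    exact ⟨X.norm_fix _, (hmul z hz).2⟩
  have hcardS : q + 3 ≤ 2 * S.card := by
    have hle := Finset.card_le_card hRS
    rw [Finset.card_insert_of_notMem (fun hx => by
      obtain ⟨z, hz, e⟩ := Finset.mem_image.1 hx
      exact (hmul z hz).1 e)] at hle
    have hne : κ + κ * κ ≠ 0 := by
      rw [show κ + κ * κ = κ * (1 + κ) by ring]
      exact mul_ne_zero (mul_ne_zero hc0 hp) fun e => hκ (by linear_combination e)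
    have h2 := le_two_mul_card_image (σ := σ) hne (1 - 2 * (κ * κ)) R fun z hz => by
      simp only [hR, map_add, map_mul, map_sub, map_one, hκs]
      linear_combination -(κ * κ) * mem_mu.1 hz
    rw [X.circ.card_mu] at h2
    omega
  have hSfix : S = fix σ := by
    by_contra hne
    obtain ⟨θ, hθ, hθS⟩ := Finset.exists_of_ssubset ((Finset.filter_subset _ _).ssubset_of_ne hne)
    have hinv : ∀ x ∈ S, x ≠ 0 → x⁻¹ ∈ S := fun x hx hx0 => by
      have hp : ∀ m : ℕ, x ^ m ∈ S := fun m => by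
        induction m with
        | zero => simpa using h1
        | succ m ih => rw [pow_succ]; exact hmulS _ _ ih hx
      have : x * x ^ (Fintype.card F - 2) = 1 := by
        rw [← pow_succ', show Fintype.card F - 2 + 1 = Fintype.card F - 1 by
          have := Fintype.one_lt_card (α := F); omega, FiniteField.pow_card_sub_one_eq_one x hx0]
      rw [← eq_inv_of_mul_eq_one_right this]
      exact hp _
    have hle : (S ×ˢ S).card ≤ (fix σ).card := by
      refine Finset.card_le_card_of_injOn (fun xy => xy.1 + θ * xy.2) (fun xy hxy => ?_) fun a ha b hb e => ?_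
      · simp only [Finset.coe_product, Set.mem_prod, Finset.mem_coe, hSmem] at hxy
        simp only [Finset.mem_coe, mem_fix, map_add, map_mul, hxy.1.1, hxy.2.1, mem_fix.1 hθ]
      · simp only [Finset.coe_product, Set.mem_prod, Finset.mem_coe] at ha hb
        by_cases h2 : a.2 = b.2
        · refine Prod.ext ?_ h2
          simp only [h2] at e
          exact add_right_cancel e
        · refine absurd ?_ hθS
          have : θ = (a.1 - b.1) * (b.2 - a.2)⁻¹ := by
            rw [eq_mul_inv_iff_mul_eq₀ (sub_ne_zero.2 (Ne.symm h2))]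
            simp only at e
            linear_combination -e
          rw [this]
          exact hmulS _ _ (hsub _ _ ha.1 hb.1) (hinv _ (hsub _ _ hb.2 ha.2) (sub_ne_zero.2 (Ne.symm h2)))
    rw [Finset.card_product, X.circ.card_fix] at hle
    nlinarith
  intro c hcs
  have hxf : σ (c / c₀) = c / c₀ := by
    rw [map_div₀, show σ c = -c by linear_combination hcs, show σ c₀ = -c₀ by linear_combination hc, neg_div_neg_eq]
  have := ((hSmem _).1 (hSfix.ge (mem_fix.2 hxf))).2 c₀ h
  rw [mul_div_cancel₀ _ hc0] at this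
  exact this

/-- Rotations of one part of the vector give all transvections at it. -/
theorem rotate {v p r : V} {c₀ : F} (h : Tr1 σ M v c₀) (hv : dot σ v v = 0) (hvpr : v = p + r)
    (hpr : dot σ p r = 0) (hp : dot σ p p ≠ 0)
    (hrot : ∀ z ∈ mu σ, ∃ g ∈ M, (g : Mn) *ᵥ p = z • p ∧ (g : Mn) *ᵥ r = r)
    (hc : c₀ + σ c₀ = 0) (hc0 : c₀ ≠ 0) (hκ : c₀ * dot σ p p ≠ -1) : UPt σ (dot σ) M v :=
  X.rotate' h hv hvpr hpr hp (fun z hz => by
    obtain ⟨g, hg, h1, h2⟩ := hrot z hz
    exact ⟨g, hg, 1, one_mem_mu, by rwa [one_mul], by rwa [one_smul]⟩) hc hc0 hκ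

end Ctx

end Cfsg.Agent.Classical.MaxUnitMon
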