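import Cfsg.Agent.Lib.Classical.MaxUnitMonSix

/-!
Eight coordinates in odd characteristic: a further element of `M` yields one fixing a coordinate line.
Four pairs of coordinates; two of them with different norms in one square class move the product of a
vanishing sum through all classes modulo fourth powers.
-/

set_option autoImplicit false
set_option linter.unusedSectionVars false

namespace Cfsg.Agent.Classical.MaxUnitMon

variable {F : Type*} [Field F] [Fintype F] [DecidableEq F] {σ : F ≃+* F} {q : ℕ}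

namespace Circ

variable (hC : Circ σ q)
include hC

/-- One element represents all classes modulo fourth powers. -/
theorem exists_class_gen (h2 : (2 : F) ≠ 0) :
    ∃ e ∈ mu σ, ∀ U ∈ mu σ, ∃ i : Fin 4, ∃ v ∈ mu σ, U * e ^ (i : ℕ) = v ^ 4 := by
  classical
  obtain ⟨k, hk, hk2⟩ := hC.exists_half_order h2
  obtain ⟨e, he, hek⟩ : ∃ e ∈ mu σ, e ^ k ≠ 1 := by
    by_contra hcon
    push Not at hcon
    have h : mu σ ⊆ (Polynomial.nthRoots k (1 : F)).toFinset := fun z hz => by
      rw [Multiset.mem_toFinset, Polynomial.mem_nthRoots (by omega)]; exact hcon z hz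
    have := ((Finset.card_le_card h).trans (Multiset.toFinset_card_le _)).trans
      (Polynomial.card_nthRoots k (1 : F))
    rw [hC.card_mu] at this
    omega
  have hek' : e ^ k = -1 := (hC.sq_or hk he).resolve_left hek
  -- every element is a square or becomes one after multiplying by `e`
  have hsq : ∀ U ∈ mu σ, ∃ j : ℕ, j < 2 ∧ ∃ v ∈ mu σ, U * e ^ j = v ^ 2 := fun U hU => by
    rcases hC.sq_or hk hU with h | h
    · obtain ⟨v, hv, hv'⟩ := hC.root_of_pow two_pos hk hU h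
      exact ⟨0, by norm_num, v, hv, by rw [hv', pow_zero, mul_one]⟩
    · obtain ⟨v, hv, hv'⟩ := hC.root_of_pow two_pos hk (mul_mem_mu hU he) (by rw [mul_pow, h, hek']; ring)
      exact ⟨1, by norm_num, v, hv, by rw [hv', pow_one]⟩
  refine ⟨e, he, fun U hU => ?_⟩
  obtain ⟨j, hj, v, hv, hUv⟩ := hsq U hU
  obtain ⟨l, hl, w, hw, hvw⟩ := hsq v hv
  refine ⟨⟨j + 2 * l, by omega⟩, w, hw, ?_⟩
  show U * e ^ (j + 2 * l) = w ^ 4
  rw [pow_add, ← mul_assoc, hUv, mul_comm 2 l, pow_mul, ← mul_pow, hvw, ← pow_mul]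

/-- Two elements of different norms: the ratio map is onto the circle. -/
theorem exists_ratio {a b : F} (hne : a * σ a ≠ b * σ b) {t : F} (ht : t ∈ mu σ) :
    ∃ y ∈ mu σ, a + b * y ≠ 0 ∧ (a + b * y) / σ (a + b * y) / y = t := by
  have htt := mem_mu.1 ht
  have hden : b - t * σ a ≠ 0 := fun e => hne (by
    have e' := sub_eq_zero.1 e
    have h := congrArg σ e'
    rw [map_mul, hC.invol] at h
    rw [h, e']
    linear_combination -(a * σ a) * htt)
  set y := (t * σ b - a) / (b - t * σ a) with hy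
  have hy' : y * (b - t * σ a) = t * σ b - a := by rw [hy, div_mul_cancel₀ _ hden]
  have hym : y ∈ mu σ := by
    rw [mem_mu]
    have h := congrArg σ hy'
    rw [map_mul, map_sub, map_mul, map_sub, map_mul, hC.invol, hC.invol] at h
    have hnum : t * σ b - a ≠ 0 := fun e0 => hne (by
      have e1 : a = t * σ b := (sub_eq_zero.1 e0).symm
      rw [e1, map_mul, hC.invol]
      linear_combination (b * σ b) * htt)
    have hN : σ y * (t * σ b - a) = b - t * σ a := by linear_combination t * h + (σ y * a + b) * htt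
    refine mul_right_cancel₀ hnum ?_
    linear_combination y * hN + hy'
  obtain ⟨hS, hS', -⟩ := hC.ten_h_mem hne hym
  refine ⟨y, hym, hS, ?_⟩
  have hs0 : σ (a + b * y) ≠ 0 := fun e => hS (σ.map_eq_zero_iff.1 e)
  rw [div_eq_iff (mu_ne hym), div_eq_iff hs0, map_add, map_mul]
  linear_combination hy' - (t * σ b) * mem_mu.1 hym

/-- The second solution of a pair. -/
theorem exists_flip {a b w z y : F} (hw : a * b = w * w) (ha : a ≠ 0) (hb : b ≠ 0) (hz : z ∈ mu σ)
    (hy : y ∈ mu σ) (hS : a + b * y ≠ 0) :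
    ∃ z' ∈ mu σ, ∃ y' ∈ mu σ, z' * (a + b * y') = z * (a + b * y) ∧
      z' * z' * y' = z * z * y * ((a + b * y) / σ (a + b * y) / y * (σ w / w)) ^ 2 := by
  have ha' : σ a ≠ 0 := fun e => ha (σ.map_eq_zero_iff.1 e)
  have hb' : σ b ≠ 0 := fun e => hb (σ.map_eq_zero_iff.1 e)
  have hw0 : w ≠ 0 := fun e => mul_ne_zero ha hb (by rw [hw, e, mul_zero])
  have hzs := mem_mu.1 hz
  have hys := mem_mu.1 hy
  have hsy : σ y = y⁻¹ := mu_inv hy
  have hsz : σ z = z⁻¹ := mu_inv hz
  have hz0 := mu_ne hz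
  have hy0 := mu_ne hy
  have hsw : σ a * σ b = σ w * σ w := by rw [← map_mul, ← map_mul, hw]
  set S := a + b * y with hSdef
  have hS' : σ S ≠ 0 := fun e => hS (σ.map_eq_zero_iff.1 e)
  have hX : z * S ≠ 0 := mul_ne_zero hz0 hS
  refine ⟨(z * S) / σ (z * S) * σ z * (σ a / a), mul_mem_mu (mul_mem_mu (hC.theta_mem hX) (hC.conj_mem hz)) ?_,
    σ y * (σ b / b) * (a / σ a), mul_mem_mu (mul_mem_mu (hC.conj_mem hy) ?_) (hC.theta_mem ha), ?_, ?_⟩
  · rw [← inv_div]; exact inv_mem_mu (hC.theta_mem ha)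
  · rw [← inv_div]; exact inv_mem_mu (hC.theta_mem hb)
  · have e : σ S = σ a + σ b * σ y := by rw [hSdef, map_add, map_mul]
    rw [map_mul, hsz]
    field_simp
    rw [e]
    ring
  · rw [map_mul, hsz, hsy]
    field_simp
    linear_combination hsw * (w * w) - (σ w * σ w) * hw

/-- Four pairs, two with different norms in one square class: vanishing sums whose product is an eighth
power, avoiding few pairs of ratios. -/
theorem eight_pairs (h2 : (2 : F) ≠ 0) (hq : 5 ≤ q) {a b : Fin 4 → F} (ha : ∀ k, a k ≠ 0) (hb : ∀ k, b k ≠ 0)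
    (hne₀ : a 0 * σ (a 0) ≠ b 0 * σ (b 0)) (hne₁ : a 1 * σ (a 1) ≠ b 1 * σ (b 1))
    (hsq₀ : IsSquare (a 0 * b 0)) (hsq₁ : IsSquare (a 1 * b 1)) (T : Finset (F × F)) (hT : T.card ≤ 8) :
    ∃ z y : Fin 4 → F, (∀ k, z k ∈ mu σ) ∧ (∀ k, y k ∈ mu σ) ∧ ∑ k, z k * (a k + b k * y k) = 0 ∧
      (∃ v ∈ mu σ, ∏ k, z k * z k * y k = v ^ 8) ∧ (y 2, y 3) ∉ T := by
  classical
  obtain ⟨k, hk, hk2⟩ := hC.exists_half_order h2
  obtain ⟨e, he, hgen⟩ := hC.exists_class_gen h2
  obtain ⟨w₀, hw₀⟩ := hsq₀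
  obtain ⟨w₁, hw₁⟩ := hsq₁
  have hw0 : ∀ {x y w : F}, x ≠ 0 → y ≠ 0 → x * y = w * w → σ w / w ∈ mu σ := fun {x y w} hx hy h => by
    rw [← inv_div]
    exact inv_mem_mu (hC.theta_mem fun e => mul_ne_zero hx hy (by rw [h, e, mul_zero]))
  have hs₀ := hw0 (ha 0) (hb 0) hw₀
  have hs₁ := hw0 (ha 1) (hb 1) hw₁
  obtain ⟨y₀, hy₀, hS₀, hh₀⟩ := hC.exists_ratio hne₀ (hC.div_mem he hs₀)
  obtain ⟨y₁, hy₁, hS₁, hh₁⟩ := hC.exists_ratio hne₁ (hC.div_mem (mul_mem_mu he he) hs₁)
  -- the third ratio meets few bad pairs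
  set E := (mu σ).erase (-(a 2) / b 2) with hE
  have hEc : q ≤ E.card := by
    have := Finset.pred_card_le_card_erase (s := mu σ) (a := -(a 2) / b 2)
    rw [hC.card_mu] at this
    rw [hE]; omega
  obtain ⟨y₂, hy₂E, hbad⟩ : ∃ y₂ ∈ E, (T.filter fun p => p.1 = y₂).card + 1 < k := by
    by_contra hcon
    push Not at hcon
    have h1 : (E.biUnion fun y => T.filter fun p => p.1 = y).card = ∑ y ∈ E, (T.filter fun p => p.1 = y).card :=
      Finset.card_biUnion fun x _ y _ hxy => Finset.disjoint_filter.2 fun p _ h1 h2 => hxy (h1.symm.trans h2)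
    have h2 : (E.biUnion fun y => T.filter fun p => p.1 = y).card ≤ T.card :=
      Finset.card_le_card (Finset.biUnion_subset.2 fun y _ => Finset.filter_subset _ _)
    have h3 : E.card * (k - 1) ≤ ∑ y ∈ E, (T.filter fun p => p.1 = y).card := by
      rw [← smul_eq_mul]
      exact Finset.card_nsmul_le_sum _ _ _ fun y hy => by have := hcon y hy; omega
    have h4 : 5 * 2 ≤ E.card * (k - 1) := Nat.mul_le_mul (by omega) (by omega)
    omega
  have hy₂ : y₂ ∈ mu σ := Finset.mem_of_mem_erase hy₂E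
  have hS₂ : a 2 + b 2 * y₂ ≠ 0 := fun h => Finset.ne_of_mem_erase hy₂E (by
    rw [eq_div_iff (hb 2)]; linear_combination h)
  -- the fourth ratio fixes the square class
  set P := y₀ * y₁ * y₂ with hP
  have hPm : P ∈ mu σ := mul_mem_mu (mul_mem_mu hy₀ hy₁) hy₂
  set Sq := (mu σ).image fun u : F => u * u with hSq
  have hSqc : k ≤ Sq.card := by
    have hb := Finset.card_le_mul_card_image (f := fun w : F => w * w) (mu σ) 2 fun v _ => by
      refine le_trans (Finset.card_le_card (t := (Polynomial.nthRoots 2 v).toFinset) fun w hw => ?_)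
        ((Multiset.toFinset_card_le _).trans (Polynomial.card_nthRoots 2 v))
      rw [Multiset.mem_toFinset, Polynomial.mem_nthRoots (by norm_num), pow_two]
      exact (Finset.mem_filter.1 hw).2
    rw [hC.card_mu] at hb
    rw [hSq]; omega
  obtain ⟨s, hs, hsb⟩ := Finset.exists_mem_notMem_of_card_lt_card
    (s := insert (P * (-(a 3) / b 3)) ((T.filter fun p => p.1 = y₂).image fun p => P * p.2)) (t := Sq) (by
      refine lt_of_le_of_lt (Finset.card_insert_le _ _) ?_
      have := Finset.card_image_le (s := T.filter fun p => p.1 = y₂) (f := fun p => P * p.2)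
      omega)
  obtain ⟨u, hu, rfl⟩ := Finset.mem_image.1 hs
  simp only [Finset.mem_insert, Finset.mem_image, Finset.mem_filter, not_or, not_exists, not_and] at hsb
  set y₃ := u * u / P with hy₃def
  have hy₃ : y₃ ∈ mu σ := hC.div_mem (mul_mem_mu hu hu) hPm
  have hPy : P * y₃ = u * u := by rw [hy₃def, mul_div_cancel₀ _ (mu_ne hPm)]
  have hS₃ : a 3 + b 3 * y₃ ≠ 0 := fun h => hsb.1 (by
    rw [← hPy]
    congr 1
    rw [eq_div_iff (hb 3)]; linear_combination h)
  obtain ⟨z₀, hz₀, z₁, hz₁, z₂, hz₂, z₃, hz₃, hsum⟩ := hC.exists_four hS₀ hS₁ hS₂ hS₃ 0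
  set U := z₀ * z₁ * z₂ * z₃ * u with hU
  have hUm : U ∈ mu σ := mul_mem_mu (mul_mem_mu (mul_mem_mu (mul_mem_mu hz₀ hz₁) hz₂) hz₃) hu
  obtain ⟨i, v, hv, hiv⟩ := hgen U hUm
  obtain ⟨z₀', hz₀', y₀', hy₀', e₀, f₀⟩ := hC.exists_flip hw₀ (ha 0) (hb 0) hz₀ hy₀ hS₀
  obtain ⟨z₁', hz₁', y₁', hy₁', e₁, f₁⟩ := hC.exists_flip hw₁ (ha 1) (hb 1) hz₁ hy₁ hS₁
  rw [hh₀, div_mul_cancel₀ _ (mu_ne hs₀)] at f₀
  rw [hh₁, div_mul_cancel₀ _ (mu_ne hs₁)] at f₁
  have havoid : (y₂, y₃) ∉ T := fun h => hsb.2 (y₂, y₃) ⟨h, rfl⟩ hPy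
  have main : ∀ (m₀ m₁ : ℕ) (A B C D : F), A ∈ mu σ → B ∈ mu σ → C ∈ mu σ → D ∈ mu σ →
      A * (a 0 + b 0 * C) = z₀ * (a 0 + b 0 * y₀) → B * (a 1 + b 1 * D) = z₁ * (a 1 + b 1 * y₁) →
      A * A * C = z₀ * z₀ * y₀ * (e ^ m₀) ^ 2 → B * B * D = z₁ * z₁ * y₁ * (e ^ m₁) ^ 2 →
      U * e ^ (m₀ + m₁) = v ^ 4 →
      ∃ z y : Fin 4 → F, (∀ k, z k ∈ mu σ) ∧ (∀ k, y k ∈ mu σ) ∧ ∑ k, z k * (a k + b k * y k) = 0 ∧
        (∃ v ∈ mu σ, ∏ k, z k * z k * y k = v ^ 8) ∧ (y 2, y 3) ∉ T := by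
    intro m₀ m₁ A B C D hA hB hC' hD eA eB fA fB hv4
    refine ⟨![A, B, z₂, z₃], ![C, D, y₂, y₃], fun k => ?_, fun k => ?_, ?_, ⟨v, hv, ?_⟩, havoid⟩
    · fin_cases k; exacts [hA, hB, hz₂, hz₃]
    · fin_cases k; exacts [hC', hD, hy₂, hy₃]
    · rw [Fin.sum_univ_four]
      show A * (a 0 + b 0 * C) + B * (a 1 + b 1 * D) + z₂ * (a 2 + b 2 * y₂) + z₃ * (a 3 + b 3 * y₃) = 0
      rw [eA, eB]
      linear_combination hsum
    · rw [Fin.prod_univ_four]
      show A * A * C * (B * B * D) * (z₂ * z₂ * y₂) * (z₃ * z₃ * y₃) = _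
      rw [fA, fB, show v ^ 8 = (v ^ 4) ^ 2 by ring, ← hv4, hU, pow_add]
      rw [hP] at hPy
      linear_combination ((e ^ m₀) ^ 2 * (e ^ m₁) ^ 2 * (z₀ * z₁ * z₂ * z₃) ^ 2) * hPy
  fin_cases i
  · exact main 0 0 z₀ z₁ y₀ y₁ hz₀ hz₁ hy₀ hy₁ rfl rfl (by simp) (by simp) hiv
  · exact main 1 0 z₀' z₁ y₀' y₁ hz₀' hz₁ hy₀' hy₁ e₀ rfl (by rw [f₀, pow_one]) (by simp) hiv
  · exact main 0 2 z₀ z₁' y₀ y₁' hz₀ hz₁' hy₀ hy₁' rfl e₁ (by simp) (by rw [f₁, ← pow_two e]) hiv
  · exact main 1 2 z₀' z₁' y₀' y₁' hz₀' hz₁' hy₀' hy₁' e₀ e₁ (by rw [f₀, pow_one]) (by rw [f₁, ← pow_two e]) hiv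

end Circ

/-- Two disjoint unequal pairs inside the two classes of eight values, no value taken four times. -/
theorem exists_two_pairs {ι : Type} [Fintype ι] [DecidableEq ι] (hn : Fintype.card ι = 8) (f : ι → F)
    (p : ι → Prop) [DecidablePred p] (h4 : ∀ S : Finset ι, S.card = 4 → ∃ x ∈ S, ∃ y ∈ S, f x ≠ f y) :
    ∃ a b c d : ι, a ≠ b ∧ a ≠ c ∧ a ≠ d ∧ b ≠ c ∧ b ≠ d ∧ c ≠ d ∧ f a ≠ f b ∧ f c ≠ f d ∧
      (p a ↔ p b) ∧ (p c ↔ p d) := by
  set P := Finset.univ.filter fun i => p i with hP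
  have hmemP : ∀ i, i ∈ P ↔ p i := fun i => by simp [hP]
  have hsmall : ∀ S : Finset ι, (∀ x ∈ S, ∀ y ∈ S, f x = f y) → S.card ≤ 3 := fun S hS => by
    by_contra hlt
    obtain ⟨T, hTS, hT⟩ := Finset.exists_subset_card_eq (show 4 ≤ S.card by omega)
    obtain ⟨x, hx, y, hy, hxy⟩ := h4 T hT
    exact hxy (hS x (hTS hx) y (hTS hy))
  have hne : ∀ {x y : ι}, f x ≠ f y → x ≠ y := fun h e => h (by rw [e])
  -- a large class
  have hbig : ∀ S : Finset ι, 5 ≤ S.card → ∃ a ∈ S, ∃ b ∈ S, ∃ c ∈ S, ∃ d ∈ S,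
      a ≠ b ∧ a ≠ c ∧ a ≠ d ∧ b ≠ c ∧ b ≠ d ∧ c ≠ d ∧ f a ≠ f b ∧ f c ≠ f d := by
    intro S hS
    obtain ⟨a, ha⟩ := Finset.card_pos.1 (show 0 < S.card by omega)
    obtain ⟨b, hb, hab⟩ : ∃ b ∈ S, f a ≠ f b := by
      by_contra h
      push Not at h
      have := hsmall S fun x hx y hy => (h x hx).symm.trans (h y hy)
      omega
    set R := (S.erase a).erase b with hR
    have hRc : 3 ≤ R.card := by
      have h1 := Finset.pred_card_le_card_erase (s := S.erase a) (a := b)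
      have h2 := Finset.pred_card_le_card_erase (s := S) (a := a)
      rw [hR]; omega
    have hRm : ∀ x ∈ R, x ∈ S ∧ x ≠ a ∧ x ≠ b := fun x hx => by
      simp only [hR, Finset.mem_erase] at hx; exact ⟨hx.2.2, hx.2.1, hx.1⟩
    by_cases hRd : ∃ c ∈ R, ∃ d ∈ R, f c ≠ f d
    · obtain ⟨c, hc, d, hd, hcd⟩ := hRd
      exact ⟨a, ha, b, hb, c, (hRm c hc).1, d, (hRm d hd).1, hne hab, Ne.symm (hRm c hc).2.1, Ne.symm (hRm d hd).2.1,
        Ne.symm (hRm c hc).2.2, Ne.symm (hRm d hd).2.2, hne hcd, hab, hcd⟩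
    push Not at hRd
    obtain ⟨r, hr, r', hr', hrr⟩ := Finset.one_lt_card.1 (show 1 < R.card by omega)
    have hout : ∀ x, x ∉ R → f x ≠ f r := fun x hx e => by
      have := hsmall (insert x R) fun u hu v hv => by
        have key : ∀ u ∈ insert x R, f u = f r := fun u hu => by
          rcases Finset.mem_insert.1 hu with rfl | hu
          · exact e
          · exact hRd u hu r hr
        rw [key u hu, key v hv]
      rw [Finset.card_insert_of_notMem hx] at this
      omega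
    have har : f a ≠ f r := hout a fun h => (hRm a h).2.1 rfl
    have hbr : f b ≠ f r' := by rw [hRd r' hr' r hr]; exact hout b fun h => (hRm b h).2.2 rfl
    exact ⟨a, ha, r, (hRm r hr).1, b, hb, r', (hRm r' hr').1, hne har, hne hab, Ne.symm (hRm r' hr').2.1,
      (hRm r hr).2.2, hrr, hne hbr, har, hbr⟩
  have hcard : P.card + Pᶜ.card = 8 := by rw [Finset.card_add_card_compl, hn]
  by_cases h1 : 5 ≤ P.card
  · obtain ⟨a, ha, b, hb, c, hc, d, hd, h⟩ := hbig P h1
    rw [hmemP] at ha hb hc hd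
    exact ⟨a, b, c, d, h.1, h.2.1, h.2.2.1, h.2.2.2.1, h.2.2.2.2.1, h.2.2.2.2.2.1, h.2.2.2.2.2.2.1,
      h.2.2.2.2.2.2.2, iff_of_true ha hb, iff_of_true hc hd⟩
  by_cases h3 : 5 ≤ Pᶜ.card
  · obtain ⟨a, ha, b, hb, c, hc, d, hd, h⟩ := hbig Pᶜ h3
    rw [Finset.mem_compl, hmemP] at ha hb hc hd
    exact ⟨a, b, c, d, h.1, h.2.1, h.2.2.1, h.2.2.2.1, h.2.2.2.2.1, h.2.2.2.2.2.1, h.2.2.2.2.2.2.1,
      h.2.2.2.2.2.2.2, iff_of_false ha hb, iff_of_false hc hd⟩
  obtain ⟨a, ha, b, hb, hab⟩ := h4 P (by omega)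
  obtain ⟨c, hc, d, hd, hcd⟩ := h4 Pᶜ (by omega)
  rw [Finset.mem_compl, hmemP] at hc hd
  rw [hmemP] at ha hb
  exact ⟨a, b, c, d, hne hab, fun e => hc (e ▸ ha), fun e => hd (e ▸ ha), fun e => hc (e ▸ hb),
    fun e => hd (e ▸ hb), hne hcd, hab, hcd, iff_of_true ha hb, iff_of_false hc hd⟩

open Matrix Module MaxTv MaxMon

variable {ι : Type} [Fintype ι] [DecidableEq ι]

local notation "V" => (ι → F)
local notation "Mn" => Matrix ι ι F

variable {M : Subgroup (GL ι F)}

namespace Ctx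

variable (X : Ctx σ q M)
include X

/-- Conjugates of diagonal elements fixing at least four of eight places are monomial only for involutions. -/
theorem sq_eq_one_of_mon (hn : Fintype.card ι = 8) {g : GL ι F} (hg : g ∈ M) (hz : ∀ a b, (g : Mn) a b ≠ 0)
    {d : ι → F} (hd : ∀ j, d j ∈ mu σ) {W : Finset ι} (hW : 4 ≤ W.card) (hW1 : ∀ j ∈ W, d j = 1)
    (hns : ∃ j, d j ≠ 1) {D : GL ι F} (hD : ∀ (z : V) j, ((D : Mn) *ᵥ z) j = d j * z j)
    (hmon : IsMon ((g * D * g⁻¹ : GL ι F) : Mn)) : ∀ j, d j * d j = 1 := by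
  classical
  obtain ⟨π, y, hy, hπ⟩ := hmon.exists_perm
  set k := g * D * g⁻¹ with hk
  have hkg : ∀ z : V, (k : Mn) *ᵥ ((g : Mn) *ᵥ z) = (g : Mn) *ᵥ ((D : Mn) *ᵥ z) := fun z => by
    rw [hk, Units.val_mul, Units.val_mul, ← Matrix.mulVec_mulVec, ← Matrix.mulVec_mulVec, inv_mulVec_cancel]
  have hcol : ∀ c j, d j * ((g⁻¹ : GL ι F) : Mn) j c = y c * ((g⁻¹ : GL ι F) : Mn) j (π c) := fun c j => by
    have h1 := congrArg (fun z => (((g⁻¹ : GL ι F) : Mn) *ᵥ z) j) (hπ c)
    simp only [hk, Units.val_mul, ← Matrix.mulVec_mulVec, inv_mulVec_cancel] at h1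
    rw [hD, MaxMon.col_apply, single_eq_smul (π c), Matrix.mulVec_smul, Pi.smul_apply, smul_eq_mul,
      MaxMon.col_apply] at h1
    exact h1
  have hvne : ∀ a b, ((g⁻¹ : GL ι F) : Mn) a b ≠ 0 := fun a b => by
    rw [X.inv_apply hg]; exact fun e => hz b a (σ.map_eq_zero_iff.1 e)
  obtain ⟨j₁, hj₁⟩ := hns
  obtain ⟨j₀, hj₀⟩ := Finset.card_pos.1 (show 0 < W.card by omega)
  have hfree : ∀ c, π c ≠ c := fun c e => by
    have e0 := hcol c j₀
    have e1 := hcol c j₁
    rw [e] at e0 e1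
    rw [hW1 j₀ hj₀] at e0
    exact hj₁ ((mul_right_cancel₀ (hvne _ _) e1).trans (mul_right_cancel₀ (hvne _ _) e0).symm)
  by_cases h2 : ∀ c, π (π c) = c
  · intro j
    obtain ⟨c⟩ : Nonempty ι := ⟨j⟩
    have key : ∀ i, d i * d i = y c * y (π c) := fun i => by
      refine mul_right_cancel₀ (hvne i c) ?_
      have e1 := hcol c i
      have e2 := hcol (π c) i
      rw [h2 c] at e2
      linear_combination (d i) * e1 + (y c) * e2
    rw [key j, ← key j₀, hW1 j₀ hj₀, one_mul]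
  exfalso
  push Not at h2
  obtain ⟨c, hc⟩ := h2
  -- three points meet every orbit
  have horb : ∃ b e : ι, b ≠ c ∧ e ≠ c ∧ e ≠ b ∧ ∀ x, π.SameCycle c x ∨ π.SameCycle b x ∨ π.SameCycle e x := by
    have hout : ∀ {a x}, ¬ π.SameCycle a x → ¬ π.SameCycle a (π x) := fun {a x} h h' =>
      h ((Equiv.Perm.sameCycle_apply_right).1 h')
    have hsc : ∀ a, π.SameCycle a (π a) := fun a =>
      (Equiv.Perm.sameCycle_apply_right).2 (Equiv.Perm.SameCycle.refl π a)
    have hS3 : ({c, π c, π (π c)} : Finset ι).card = 3 := Finset.card_eq_three.2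
      ⟨c, π c, π (π c), Ne.symm (hfree c), fun e => hc e.symm, Ne.symm (hfree (π c)), rfl⟩
    have hS3' : ∀ x ∈ ({c, π c, π (π c)} : Finset ι), π.SameCycle c x := fun x hx => by
      simp only [Finset.mem_insert, Finset.mem_singleton] at hx
      rcases hx with rfl | rfl | rfl
      exacts [Equiv.Perm.SameCycle.refl π _, hsc c, (Equiv.Perm.sameCycle_apply_right).2 (hsc c)]
    have hcard : ∀ S : Finset ι, S.card ≤ 8 := fun S => hn ▸ Finset.card_le_univ S
    by_cases hall : ∀ x, π.SameCycle c x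
    · obtain ⟨b, -, hb⟩ := Finset.exists_mem_notMem_of_card_lt_card (s := ({c} : Finset ι)) (t := Finset.univ)
        (by rw [Finset.card_singleton, Finset.card_univ, hn]; norm_num)
      obtain ⟨e, -, he⟩ := Finset.exists_mem_notMem_of_card_lt_card (s := ({c, b} : Finset ι)) (t := Finset.univ)
        (lt_of_le_of_lt Finset.card_le_two (by rw [Finset.card_univ, hn]; norm_num))
      simp only [Finset.mem_singleton] at hb
      simp only [Finset.mem_insert, Finset.mem_singleton, not_or] at he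
      exact ⟨b, e, hb, he.1, he.2, fun x => Or.inl (hall x)⟩
    push Not at hall
    obtain ⟨b, hb⟩ := hall
    have hbc : b ≠ c := fun e => hb (e ▸ Equiv.Perm.SameCycle.refl π c)
    by_cases hall2 : ∀ x, π.SameCycle c x ∨ π.SameCycle b x
    · obtain ⟨e, -, he⟩ := Finset.exists_mem_notMem_of_card_lt_card (s := ({c, b} : Finset ι)) (t := Finset.univ)
        (lt_of_le_of_lt Finset.card_le_two (by rw [Finset.card_univ, hn]; norm_num))
      simp only [Finset.mem_insert, Finset.mem_singleton, not_or] at he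
      exact ⟨b, e, hbc, he.1, he.2, fun x => (hall2 x).imp id Or.inl⟩
    push Not at hall2
    obtain ⟨e, hec, heb⟩ := hall2
    refine ⟨b, e, hbc, fun h => hec (h ▸ Equiv.Perm.SameCycle.refl π c),
      fun h => heb (h ▸ Equiv.Perm.SameCycle.refl π b), fun x => ?_⟩
    by_contra hx
    push Not at hx
    have d1 : Disjoint ({c, π c, π (π c)} : Finset ι) {b, π b} := Finset.disjoint_left.2 fun u hu hu' => by
      rcases Finset.mem_insert.1 hu' with h | h
      · exact hb (h ▸ hS3' _ hu)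
      · exact hout hb (Finset.mem_singleton.1 h ▸ hS3' _ hu)
    have d2 : Disjoint (({c, π c, π (π c)} : Finset ι) ∪ {b, π b}) {e, π e} := Finset.disjoint_left.2 fun u hu hu' => by
      have hbx : π.SameCycle c u ∨ π.SameCycle b u := by
        rcases Finset.mem_union.1 hu with h | h
        · exact Or.inl (hS3' _ h)
        · rcases Finset.mem_insert.1 h with h | h
          · exact Or.inr (h ▸ Equiv.Perm.SameCycle.refl π _)
          · exact Or.inr (by rw [Finset.mem_singleton.1 h]; exact hsc b)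
      rcases Finset.mem_insert.1 hu' with h | h
      · rw [h] at hbx; exact hbx.elim hec heb
      · rw [Finset.mem_singleton.1 h] at hbx; exact hbx.elim (hout hec) (hout heb)
    have d3 : Disjoint ((({c, π c, π (π c)} : Finset ι) ∪ {b, π b}) ∪ {e, π e}) {x, π x} :=
      Finset.disjoint_left.2 fun z hz hz' => by
        have hzz : π.SameCycle c z ∨ π.SameCycle b z ∨ π.SameCycle e z := by
          rcases Finset.mem_union.1 hz with h | h
          · rcases Finset.mem_union.1 h with h | h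
            · exact Or.inl (hS3' _ h)
            · rcases Finset.mem_insert.1 h with h | h
              · exact Or.inr (Or.inl (h ▸ Equiv.Perm.SameCycle.refl π _))
              · exact Or.inr (Or.inl (by rw [Finset.mem_singleton.1 h]; exact hsc b))
          · rcases Finset.mem_insert.1 h with h | h
            · exact Or.inr (Or.inr (h ▸ Equiv.Perm.SameCycle.refl π _))
            · exact Or.inr (Or.inr (by rw [Finset.mem_singleton.1 h]; exact hsc e))
        rcases Finset.mem_insert.1 hz' with h | h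
        · rw [h] at hzz; exact hzz.elim hx.1 fun h => h.elim hx.2.1 hx.2.2
        · rw [Finset.mem_singleton.1 h] at hzz
          exact hzz.elim (hout hx.1) fun h => h.elim (hout hx.2.1) (hout hx.2.2)
    have h9 := hcard (((({c, π c, π (π c)} : Finset ι) ∪ {b, π b}) ∪ {e, π e}) ∪ {x, π x})
    rw [Finset.card_union_of_disjoint d3, Finset.card_union_of_disjoint d2, Finset.card_union_of_disjoint d1, hS3,
      Finset.card_pair (Ne.symm (hfree b)), Finset.card_pair (Ne.symm (hfree e)),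
      Finset.card_pair (Ne.symm (hfree x))] at h9
    omega
  obtain ⟨b, e, hbc, hec, heb, hcov⟩ := horb
  -- a fixed vector vanishing at the three points
  let L : (↥W → F) →ₗ[F] (Fin 3 → F) :=
    (Matrix.of fun (s : Fin 3) (i : ↥W) => (g : Mn) (![c, b, e] s) i).mulVecLin
  obtain ⟨γ, hγ, hγ0⟩ := Submodule.exists_mem_ne_zero_of_ne_bot
    (LinearMap.ker_ne_bot_of_finrank_lt (f := L) (by simp; omega))
  set x : V := fun j => if h : j ∈ W then γ ⟨j, h⟩ else 0 with hx
  set u := (g : Mn) *ᵥ x with hu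
  have hDx : (D : Mn) *ᵥ x = x := funext fun j => by
    rw [hD]
    by_cases h : j ∈ W
    · rw [hW1 j h, one_mul]
    · simp [hx, h]
  have hku : (k : Mn) *ᵥ u = u := by rw [hu, hkg, hDx]
  have hrec : ∀ j, u (π j) = y j * u j := fun j => by
    have := mon_apply hπ u j
    rwa [hku] at this
  have hu3 : ∀ s : Fin 3, u (![c, b, e] s) = 0 := fun s => by
    have h := congrFun (LinearMap.mem_ker.1 hγ) s
    rw [hu, Matrix.mulVec, dotProduct, ← Finset.sum_subset (Finset.subset_univ W) (fun j _ hj => by simp [hx, hj]),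
      ← Finset.sum_coe_sort W]
    simp only [L, Matrix.mulVecLin_apply, Matrix.mulVec, dotProduct, Matrix.of_apply, Pi.zero_apply] at h
    rw [← h]
    exact Finset.sum_congr rfl fun i _ => by simp [hx]
  have hprop : ∀ {a z}, π.SameCycle a z → u a = 0 → u z = 0 := fun {a z} h ha => by
    obtain ⟨i, rfl⟩ := h.exists_nat_pow_eq
    clear h
    induction i with
    | zero => simpa using ha
    | succ i ih => rw [pow_succ', Equiv.Perm.mul_apply, hrec, ih, mul_zero]
  have hu0 : u = 0 := funext fun z => by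
    rcases hcov z with h | h | h
    exacts [hprop h (hu3 0), hprop h (hu3 1), hprop h (hu3 2)]
  have hx0 : x = 0 := gl_mulVec_injective g (show (g : Mn) *ᵥ x = (g : Mn) *ᵥ 0 by
    rw [Matrix.mulVec_zero, ← hu, hu0])
  exact hγ0 (funext fun i => by simpa [hx] using congrFun hx0 i)

/-- Eight coordinates: some non-monomial element fixes a coordinate line. -/
theorem good_eight (hn : Fintype.card ι = 8) (hq : 3 ≤ q) (h2 : (2 : F) ≠ 0) {g : GL ι F} (hg : g ∈ M)
    (hz : ∀ a b, (g : Mn) a b ≠ 0) : Good M := by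
  classical
  have hs := X.herm
  obtain ⟨i, c, hic⟩ : ∃ i c : ι, i ≠ c := Fintype.exists_pair_of_one_lt_card (by omega)
  set C : ι → F := fun j => (g : Mn) i j * σ ((g : Mn) c j) with hC
  have hC0 : ∀ j, C j ≠ 0 := fun j => mul_ne_zero (hz i j) fun e => hz c j (σ.map_eq_zero_iff.1 e)
  have hCsum : ∑ j, C j = 0 := X.row_orth hg hic
  by_cases hP : ∃ a b, C a * σ (C a) = C b * σ (C b) ∧ C a ≠ C b
  · obtain ⟨a, b, hn', hne⟩ := hP
    have hab : a ≠ b := fun e => hne (by rw [e])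
    set l := C b / C a with hl
    have hlm : l ∈ mu σ := by
      rw [mem_mu, hl, map_div₀, div_mul_div_comm, ← hn',
        div_self (mul_ne_zero (hC0 a) fun e => hC0 a (σ.map_eq_zero_iff.1 e))]
    have hl1 : l ≠ 1 := fun e => hne (by rw [hl, div_eq_one_iff_eq (hC0 a)] at e; exact e.symm)
    refine X.good_of_conj (by omega) hq h2 hg (d := pairFun a b l) (fun j => ?_) (pairFun_prod hab (mu_ne hlm)) (i := i)
      (c := c) ?_ fun D hD => X.not_mon_pair (by omega) hg (fun j => hz j a) hab (x := 1)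
        (fun j h1 h3 => pairFun_other h1 h3) (by rw [pairFun_left]; exact hl1) hD
    · by_cases h1 : j = a
      · subst h1; rw [pairFun_left]; exact hlm
      by_cases h3 : j = b
      · subst h3; rw [pairFun_right hab]; exact inv_mem_mu hlm
      · rw [pairFun_other h1 h3]; exact one_mem_mu
    · have h1 : ∑ j, C j * (pairFun a b l j - 1) = 0 := by
        rw [Fintype.sum_eq_add a b hab (fun j hj => by rw [pairFun_other hj.1 hj.2, sub_self, mul_zero]),
          pairFun_left, pairFun_right hab, hl, inv_div]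
        have := hC0 a
        have := hC0 b
        field_simp
        ring
      simp only [mul_sub, mul_one, Finset.sum_sub_distrib] at h1
      rwa [hCsum, sub_zero] at h1
  push Not at hP
  by_cases h4 : ∃ a b p r, a ≠ b ∧ a ≠ p ∧ a ≠ r ∧ b ≠ p ∧ b ≠ r ∧ p ≠ r ∧ C a = C b ∧ C a = C p ∧ C a = C r
  · obtain ⟨a, b, p, r, hab, hap, har, hbp, hbr, hpr, e1, e2, e3⟩ := h4
    obtain ⟨z, hzm, y, hym, hz1, hy1, -, hskew⟩ := X.circ.exists_masses (map_one σ) (map_one σ) one_ne_zero one_ne_zero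
    have hsum0 : z + σ z + (y + σ y) = 4 := by
      simp only [one_mul, map_add, map_sub, map_one, hs.invol] at hskew
      linear_combination hskew
    set d : ι → F := fun j => if j = a then z else if j = b then σ z else if j = p then y else
      if j = r then σ y else 1 with hd
    have hdo : ∀ j, j ∉ ({a, b, p, r} : Finset ι) → d j = 1 := fun j hj => by
      simp only [Finset.mem_insert, Finset.mem_singleton, not_or] at hj
      simp [d, hj.1, hj.2.1, hj.2.2.1, hj.2.2.2]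
    have hdm : ∀ j, d j ∈ mu σ := fun j => by
      simp only [d]
      split_ifs
      exacts [hzm, X.circ.conj_mem hzm, hym, X.circ.conj_mem hym, one_mem_mu]
    have hsub : ∀ f : ι → F, (∀ j, j ∉ ({a, b, p, r} : Finset ι) → f j = 0) →
        ∑ j, f j = f a + f b + f p + f r := fun f hf => by
      rw [← Finset.sum_subset (Finset.subset_univ ({a, b, p, r} : Finset ι)) fun j _ hj => hf j hj,
        Finset.sum_insert (by simp [hab, hap, har]), Finset.sum_insert (by simp [hbp, hbr]), Finset.sum_pair hpr]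
      ring
    refine X.good_of_conj (by omega) hq h2 hg hdm ?_ (i := i) (c := c) ?_ fun D hD hmon => ?_
    · rw [← Finset.prod_subset (Finset.subset_univ ({a, b, p, r} : Finset ι)) fun j _ hj => hdo j hj,
        Finset.prod_insert (by simp [hab, hap, har]), Finset.prod_insert (by simp [hbp, hbr]), Finset.prod_pair hpr]
      simp only [d, if_true, if_neg (Ne.symm hab), if_neg (Ne.symm hap), if_neg (Ne.symm har), if_neg (Ne.symm hbp),
        if_neg (Ne.symm hbr), if_neg (Ne.symm hpr)]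
      linear_combination (y * σ y) * mem_mu.1 hzm + mem_mu.1 hym
    · have h1 : ∑ j, C j * (d j - 1) = 0 := by
        rw [hsub _ fun j hj => by rw [hdo j hj, sub_self, mul_zero]]
        simp only [d, if_true, if_neg (Ne.symm hab), if_neg (Ne.symm hap), if_neg (Ne.symm har),
          if_neg (Ne.symm hbp), if_neg (Ne.symm hbr), if_neg (Ne.symm hpr), ← e1, ← e2, ← e3]
        linear_combination (C a) * hsum0
      simp only [mul_sub, mul_one, Finset.sum_sub_distrib, hCsum, sub_zero] at h1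
      exact h1
    · have hda : d a = z := by simp [d]
      have hdp : d p = y := by simp [d, Ne.symm hap, Ne.symm hbp]
      have h := X.sq_eq_one_of_mon hn hg hz hdm (W := ({a, b, p, r} : Finset ι)ᶜ) (by
          have := Finset.card_le_four (a := a) (b := b) (c := p) (d := r)
          rw [Finset.card_compl, hn]; omega)
        (fun j hj => hdo j (Finset.mem_compl.1 hj)) ⟨a, by rw [hda]; exact hz1⟩ hD hmon
      have hz' := h a
      have hy' := h p
      rw [hda] at hz'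
      rw [hdp] at hy'
      have ez : z = -1 := (mul_self_eq_one_iff.1 hz').resolve_left hz1
      have ey : y = -1 := (mul_self_eq_one_iff.1 hy').resolve_left hy1
      rw [ez, ey, map_neg, map_one] at hsum0
      exact mul_ne_zero (mul_ne_zero h2 h2) h2 (by linear_combination -hsum0)
  push Not at h4
  have h4' : ∀ S : Finset ι, S.card = 4 → ∃ x ∈ S, ∃ y ∈ S, C x ≠ C y := fun S hS => by
    obtain ⟨a, b, p, r, hab, hap, har, hbp, hbr, hpr, rfl⟩ := Finset.card_eq_four.1 hS
    by_contra h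
    push Not at h
    exact h4 a b p r hab hap har hbp hbr hpr (h a (by simp) b (by simp)) (h a (by simp) p (by simp))
      (h a (by simp) r (by simp))
  -- at least three norms
  have hq5 : 5 ≤ q := by
    by_contra hlt
    obtain ⟨k, hk, -⟩ := X.circ.exists_half_order h2
    obtain rfl : q = 3 := by omega
    obtain ⟨w, -, hw⟩ := Finset.exists_lt_card_fiber_of_mul_lt_card_of_maps_to (s := (Finset.univ : Finset ι))
      (t := (fix σ).erase 0) (f := fun j => C j * σ (C j)) (n := 3)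
      (fun j _ => Finset.mem_erase.2 ⟨X.norm_ne (hC0 j), mem_fix.2 (X.norm_fix _)⟩)
      (by rw [Finset.card_erase_of_mem (by simp [mem_fix]), X.circ.card_fix, Finset.card_univ, hn]; norm_num)
    obtain ⟨S, hS, hSc⟩ := Finset.exists_subset_card_eq (Nat.succ_le_of_lt hw)
    obtain ⟨x, hx, y, hy, hxy⟩ := h4' S hSc
    exact hxy (hP x y ((Finset.mem_filter.1 (hS hx)).2.trans (Finset.mem_filter.1 (hS hy)).2.symm))
  obtain ⟨a, b, p, r, hab, hap, har, hbp, hbr, hpr, hCab, hCpr, hab', hpr'⟩ :=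
    exists_two_pairs hn C (fun j => IsSquare (C j)) h4'
  have hF2 : ringChar F ≠ 2 := fun hr => h2 (by
    have := ringChar.of_eq hr
    exact_mod_cast CharP.cast_eq_zero F 2)
  have hsqprod : ∀ {a b : ι}, (IsSquare (C a) ↔ IsSquare (C b)) → IsSquare (C a * C b) := fun {a b} hiff => by
    rw [FiniteField.isSquare_iff hF2 (mul_ne_zero (hC0 a) (hC0 b)), mul_pow]
    rcases FiniteField.pow_dichotomy hF2 (hC0 a) with ha' | ha' <;>
      rcases FiniteField.pow_dichotomy hF2 (hC0 b) with hb' | hb' <;> rw [ha', hb']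
    · rw [one_mul]
    · exact absurd ((FiniteField.isSquare_iff hF2 (hC0 b)).1 (hiff.1 ((FiniteField.isSquare_iff hF2 (hC0 a)).2 ha')))
        (by rw [hb']; exact fun h => h2 (by linear_combination -h))
    · exact absurd ((FiniteField.isSquare_iff hF2 (hC0 a)).1 (hiff.2 ((FiniteField.isSquare_iff hF2 (hC0 b)).2 hb')))
        (by rw [ha']; exact fun h => h2 (by linear_combination -h))
    · ring
  obtain ⟨f₁, f₂, f₃, f₄, h12, h13, h14, h23, h24, h34, hf⟩ :=
    Finset.card_eq_four.1 (show (({a, b, p, r} : Finset ι)ᶜ).card = 4 by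
      rw [Finset.card_compl, hn, Finset.card_insert_of_notMem (by simp [hab, hap, har]),
        Finset.card_insert_of_notMem (by simp [hbp, hbr]), Finset.card_pair hpr])
  let w : Fin 4 × Fin 2 → ι := fun x => ![![a, b], ![p, r], ![f₁, f₂], ![f₃, f₄]] x.1 x.2
  have hwsurj : Function.Surjective w := fun j => by
    by_cases h : j ∈ ({a, b, p, r} : Finset ι)
    · simp only [Finset.mem_insert, Finset.mem_singleton] at h
      rcases h with rfl | rfl | rfl | rfl
      exacts [⟨(0, 0), rfl⟩, ⟨(0, 1), rfl⟩, ⟨(1, 0), rfl⟩, ⟨(1, 1), rfl⟩]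
    · have h' : j ∈ ({f₁, f₂, f₃, f₄} : Finset ι) := hf ▸ Finset.mem_compl.2 h
      simp only [Finset.mem_insert, Finset.mem_singleton] at h'
      rcases h' with rfl | rfl | rfl | rfl
      exacts [⟨(2, 0), rfl⟩, ⟨(2, 1), rfl⟩, ⟨(3, 0), rfl⟩, ⟨(3, 1), rfl⟩]
  let E : Fin 4 × Fin 2 ≃ ι :=
    Equiv.ofBijective w ((Fintype.bijective_iff_surjective_and_card w).2 ⟨hwsurj, by simp [hn]⟩)
  let v : ι → ι → F := fun p j => ((g⁻¹ : GL ι F) : Mn) j p
  obtain ⟨z, y, hzm, hym, hsum, ⟨s, hs8, hprod⟩, havoid⟩ := X.circ.eight_pairs h2 hq5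
    (a := fun k => C (E (k, 0))) (b := fun k => C (E (k, 1))) (fun k => hC0 _) (fun k => hC0 _)
    (fun e => hCab (hP a b e)) (fun e => hCpr (hP p r e)) (hsqprod hab') (hsqprod hpr')
    (Finset.univ.image fun x => (v x (E (2, 1)) * v c (E (2, 0)) / (v x (E (2, 0)) * v c (E (2, 1))),
      v x (E (3, 1)) * v c (E (3, 0)) / (v x (E (3, 0)) * v c (E (3, 1)))))
    (Finset.card_image_le.trans (by rw [Finset.card_univ, hn]))
  let d : ι → F := fun j => (if (E.symm j).2 = 0 then z (E.symm j).1 else z (E.symm j).1 * y (E.symm j).1) * s⁻¹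
  have hd0 : ∀ k, d (E (k, 0)) = z k * s⁻¹ := fun k => by simp [d]
  have hd1 : ∀ k, d (E (k, 1)) = z k * y k * s⁻¹ := fun k => by simp [d]
  have hdm : ∀ j, d j ∈ mu σ := fun j => by
    simp only [d]
    refine mul_mem_mu ?_ (inv_mem_mu hs8)
    split_ifs
    exacts [hzm _, mul_mem_mu (hzm _) (hym _)]
  refine X.good_of_conj (by omega) hq h2 hg hdm ?_ (i := i) (c := c) ?_ fun D hD hmon => havoid ?_
  · rw [← E.prod_comp, Fintype.prod_prod_type,
      Finset.prod_congr rfl (g := fun k => z k * z k * y k * (s⁻¹ * s⁻¹)) (fun k _ => by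
        rw [Fin.prod_univ_two, hd0, hd1]; ring),
      Finset.prod_mul_distrib, hprod, Finset.prod_const, Finset.card_univ, Fintype.card_fin,
      show s ^ 8 * (s⁻¹ * s⁻¹) ^ 4 = (s * s⁻¹) ^ 8 by ring, mul_inv_cancel₀ (mu_ne hs8), one_pow]
  · show ∑ j, C j * d j = 0
    rw [← E.sum_comp, Fintype.sum_prod_type,
      Finset.sum_congr rfl (g := fun k => s⁻¹ * (z k * (C (E (k, 0)) + C (E (k, 1)) * y k))) (fun k _ => by
        rw [Fin.sum_univ_two, hd0, hd1]; ring), ← Finset.mul_sum, hsum, mul_zero]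
  · obtain ⟨x, y', hy', hrel⟩ := X.col_of_mon hg hdm hD hmon c
    refine Finset.mem_image.2 ⟨x, Finset.mem_univ _, ?_⟩
    have hvne : ∀ l j, v l j ≠ 0 := fun l j => by
      simp only [v, X.inv_apply hg]; exact fun e => hz l j (σ.map_eq_zero_iff.1 e)
    have hy0 : y' ≠ 0 := fun e => by simp [e] at hy'
    have key : ∀ k, v x (E (k, 1)) * v c (E (k, 0)) / (v x (E (k, 0)) * v c (E (k, 1))) = y k := fun k => by
      have r0 := hrel (E (k, 0))
      have r1 := hrel (E (k, 1))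
      rw [hd0] at r0
      rw [hd1] at r1
      rw [← X.inv_apply hg, ← X.inv_apply hg] at r0 r1
      rw [div_eq_iff (mul_ne_zero (hvne _ _) (hvne _ _))]
      refine mul_left_cancel₀ hy0 ?_
      show y' * (((g⁻¹ : GL ι F) : Mn) (E (k, 1)) x * ((g⁻¹ : GL ι F) : Mn) (E (k, 0)) c) =
        y' * (y k * (((g⁻¹ : GL ι F) : Mn) (E (k, 0)) x * ((g⁻¹ : GL ι F) : Mn) (E (k, 1)) c))
      linear_combination -(((g⁻¹ : GL ι F) : Mn) (E (k, 0)) c) * r1 +
        (y k * ((g⁻¹ : GL ι F) : Mn) (E (k, 1)) c) * r0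
    rw [Prod.mk.injEq]
    exact ⟨key 2, key 3⟩

end Ctx

end Cfsg.Agent.Classical.MaxUnitMon
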