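import Cfsg.Agent.Lib.Classical.MaxUnitMonSpread

/-!
The monomial group of `SU` and one further element in characteristic two.
-/

set_option autoImplicit false
set_option linter.unusedSectionVars false

namespace Cfsg.Agent.Classical.MaxUnitMon

open Matrix Module MaxTv MaxMon

variable {F : Type*} [Field F] [Fintype F] [DecidableEq F] {ι : Type} [Fintype ι] [DecidableEq ι]

local notation "V" => (ι → F)
local notation "Mn" => Matrix ι ι F

variable {σ : F ≃+* F} {q : ℕ} {M : Subgroup (GL ι F)}

theorem supp_pair {p r : ι} (hpr : p ≠ r) {a b : F} (ha : a ≠ 0) (hb : b ≠ 0) :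
    supp (Pi.single p a + Pi.single r b : V) = {p, r} := by
  ext j
  by_cases hjp : j = p
  · subst hjp; simp [mem_supp, ha, hpr]
  by_cases hjr : j = r
  · subst hjr; simp [mem_supp, hb, Ne.symm hpr]
  · simp [mem_supp, hjp, hjr]

theorem mulVec_pair (g : GL ι F) (p r : ι) (a b : F) (x : ι) :
    ((g : Mn) *ᵥ (Pi.single p a + Pi.single r b : V)) x = a * (g : Mn) x p + b * (g : Mn) x r := by
  rw [Matrix.mulVec_add, single_eq_smul p a, single_eq_smul r b, Matrix.mulVec_smul, Matrix.mulVec_smul,
    Pi.add_apply, Pi.smul_apply, Pi.smul_apply, MaxMon.col_apply, MaxMon.col_apply, smul_eq_mul, smul_eq_mul]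

theorem exists_perm_map {s t : Finset ι} (h : s.card = t.card) : ∃ π : Equiv.Perm ι, ∀ i, π i ∈ t ↔ i ∈ s := by
  let e : {i // i ∈ s} ≃ {i // i ∈ t} := Finset.equivOfCardEq h
  refine ⟨e.extendSubtype, fun i => ⟨fun hi => ?_, fun hi => e.extendSubtype_mem i hi⟩⟩
  by_contra hs
  exact e.extendSubtype_not_mem i hs hi

namespace Ctx

variable (X : Ctx σ q M)
include X

theorem iso_pair (h2 : (2 : F) = 0) {p r : ι} (hpr : p ≠ r) {ρ : F} (hρ : ρ ∈ mu σ) :
    dot σ (Pi.single p 1 + Pi.single r ρ : V) (Pi.single p 1 + Pi.single r ρ) = 0 := by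
  simp only [X.herm.add_left, X.herm.add_right, dot_single_left, Pi.single_eq_same, Pi.single_eq_of_ne hpr,
    Pi.single_eq_of_ne hpr.symm, map_zero, mul_zero, map_one]
  linear_combination mem_mu.1 hρ + h2

/-- The transposition transvections. -/
theorem tr1_pair (h2 : (2 : F) = 0) {p r : ι} (hpr : p ≠ r) {ρ : F} (hρ : ρ ∈ mu σ) :
    Tr1 σ M (Pi.single p 1 + Pi.single r ρ) 1 := by
  classical
  set x : ι → F := Function.update (Function.update 1 p ρ) r ρ⁻¹ with hx
  obtain ⟨m, hm, -, hmz⟩ := X.exists_mon_mem (Equiv.swap p r) x (fun j => by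
    by_cases hjr : j = r
    · subst hjr; simpa [hx] using inv_mem_mu hρ
    by_cases hjp : j = p
    · subst hjp; simpa [hx, hjr] using hρ
    · simp [hx, hjp, hjr, one_mem_mu]) (by
    rw [Equiv.Perm.sign_swap hpr, Fintype.prod_eq_mul p r hpr (fun j hj => by simp [hx, hj.1, hj.2])]
    simp [hx, hpr, mu_ne hρ]
    linear_combination -h2)
  refine ⟨m, hm, fun z => funext fun j => ?_⟩
  obtain ⟨i, rfl⟩ : ∃ i, j = Equiv.swap p r i := ⟨Equiv.swap p r j, by simp⟩
  rw [hmz, X.herm.add_right, dot_single_right, dot_single_right, map_one, one_mul, mul_one, mu_inv hρ]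
  by_cases hip : i = p
  · subst hip
    simp [hx, hpr, Ne.symm hpr]
    field_simp [mu_ne hρ]
    linear_combination -(z r) * h2
  by_cases hir : i = r
  · subst hir
    simp [hx, hpr]
    linear_combination -(z p) * h2
  · simp [hx, hip, hir, Equiv.swap_apply_of_ne_of_ne hip hir]

theorem supp_col (g : GL ι F) (j : ι) : supp (fun x => (g : Mn) x j) ≠ ∅ := fun e => by
  have hz : ∀ x, (g : Mn) x j = 0 := fun x => eq_zero_of_notMem (v := fun x => (g : Mn) x j) (by rw [e]; simp)
  have := congrFun (gl_mulVec_injective g (show (g : Mn) *ᵥ Pi.single j 1 = (g : Mn) *ᵥ 0 by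
    rw [Matrix.mulVec_zero]; funext x; rw [MaxMon.col_apply, hz]; rfl)) j
  simp at this

theorem exists_big_image (h2 : (2 : F) = 0) {g : GL ι F} (hg : g ∈ M) (hmon : ¬ IsMon (g : Mn)) :
    ∃ p r, p ≠ r ∧ ∃ ρ ∈ mu σ, 3 ≤ (supp ((g : Mn) *ᵥ (Pi.single p 1 + Pi.single r ρ : V))).card := by
  classical
  by_contra hc
  push Not at hc
  set U : ι → Finset ι := fun p => supp fun x => (g : Mn) x p with hU
  have hbound : ∀ p r, p ≠ r → q * (U p ∪ U r).card ≤ 2 * (q + 1) := by
    intro p r hpr
    set w : F → V := fun ρ => (g : Mn) *ᵥ (Pi.single p 1 + Pi.single r ρ)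
    have hw : ∀ ρ ∈ mu σ, (supp (w ρ)).card ≤ 2 := fun ρ hρ => by
      exact Nat.lt_succ_iff.1 (hc p r hpr ρ hρ)
    have h1 : ∀ x ∈ U p ∪ U r, q ≤ ((mu σ).filter fun ρ => w ρ x ≠ 0).card := by
      intro x hx
      have h := Finset.card_filter_add_card_filter_not (s := mu σ) (fun ρ => w ρ x ≠ 0)
      rw [X.circ.card_mu] at h
      have : ((mu σ).filter fun ρ => ¬ w ρ x ≠ 0).card ≤ 1 := Finset.card_le_one.2 fun ρ hρ ρ' hρ' => by
        simp only [Finset.mem_filter, not_not, w, mulVec_pair, one_mul] at hρ hρ'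
        by_contra hne
        have hr : (g : Mn) x r = 0 := by
          have : (ρ - ρ') * (g : Mn) x r = 0 := by linear_combination hρ.2 - hρ'.2
          exact (mul_eq_zero.1 this).resolve_left (sub_ne_zero.2 hne)
        have hp : (g : Mn) x p = 0 := by simpa [hr] using hρ.2
        simp [hU, mem_supp, hp, hr] at hx
      omega
    calc q * (U p ∪ U r).card = ∑ x ∈ U p ∪ U r, q := by rw [Finset.sum_const, smul_eq_mul, mul_comm]
      _ ≤ ∑ x ∈ U p ∪ U r, ((mu σ).filter fun ρ => w ρ x ≠ 0).card := Finset.sum_le_sum h1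
      _ = ∑ ρ ∈ mu σ, ((U p ∪ U r).filter fun x => w ρ x ≠ 0).card := by
        simp only [Finset.card_filter]; rw [Finset.sum_comm]
      _ ≤ ∑ ρ ∈ mu σ, 2 := Finset.sum_le_sum fun ρ hρ => le_trans (Finset.card_le_card fun x hx =>
        mem_supp.2 (Finset.mem_filter.1 hx).2) (hw ρ hρ)
      _ = 2 * (q + 1) := by rw [Finset.sum_const, X.circ.card_mu, smul_eq_mul, mul_comm]
  have h3 : ∀ p r, p ≠ r → (U p ∪ U r).card ≤ 3 := fun p r hpr => by
    have h := hbound p r hpr
    have := X.two_le_q
    nlinarith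
  have hall : ∀ p, ¬ ∀ r, U r ⊆ U p ∨ False := by
    intro p hp
    have hp' : ∀ r, U r ⊆ U p := fun r => (hp r).resolve_right id
    obtain ⟨b, hb⟩ : ∃ b, b ≠ p := Fintype.exists_ne_of_one_lt_card (by have := X.card; omega) p
    have hlt : (U p).card < Fintype.card ι := by
      have := (Finset.card_le_card (Finset.subset_union_left (s₂ := U b))).trans (h3 p b (Ne.symm hb))
      have := X.card
      omega
    obtain ⟨i, -, hi⟩ := Finset.exists_mem_notMem_of_card_lt_card (s := U p) (t := Finset.univ)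
      (by rwa [Finset.card_univ])
    have h1 := congrFun (congrFun (g.mul_inv) i) i
    rw [Matrix.mul_apply, Matrix.one_apply_eq, Finset.sum_eq_zero fun j _ => by
      rw [show (g : Mn) i j = 0 from eq_zero_of_notMem (v := fun x => (g : Mn) x j) fun h => hi (hp' j h),
        zero_mul]] at h1
    exact zero_ne_one h1
  refine hmon fun p => ?_
  by_contra hp
  push Not at hp
  have hp2 : 2 ≤ (U p).card := by
    obtain ⟨i₁, hi₁⟩ := Finset.nonempty_iff_ne_empty.2 (X.supp_col g p)
    obtain ⟨i₂, hne, hi₂⟩ := hp i₁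
    exact Finset.one_lt_card.2 ⟨i₂, mem_supp.2 hi₂, i₁, hi₁, hne⟩
  rcases Nat.lt_or_ge 2 q with hq | hq
  · refine hall p fun r => Or.inl ?_
    by_cases hrp : r = p
    · rw [hrp]
    have h := hbound p r (Ne.symm hrp)
    have hle : (U p ∪ U r).card ≤ 2 := by nlinarith
    have := Finset.eq_of_subset_of_card_le (Finset.subset_union_left (s₂ := U r)) (hle.trans hp2)
    rw [this]
    exact Finset.subset_union_right
  · obtain rfl : q = 2 := le_antisymm hq X.two_le_q
    have hp3 : 3 ≤ (U p).card := by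
      by_contra hlt
      obtain ⟨a, b, hab, he⟩ := Finset.card_eq_two.1 (show (U p).card = 2 by omega)
      have hn : ∀ y : F, y ≠ 0 → y * σ y = 1 := fun y hy => by
        have hm : y * σ y ∈ fix σ := mem_fix.2 (X.norm_fix y)
        have hfix : ({0, 1} : Finset F) = fix σ := Finset.eq_of_subset_of_card_le
          (by simp [Finset.insert_subset_iff, mem_fix]) (by rw [X.circ.card_fix, Finset.card_pair zero_ne_one])
        rw [← hfix, Finset.mem_insert, Finset.mem_singleton] at hm
        exact hm.resolve_left (X.norm_ne hy)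
      have h1 := X.iso g hg (Pi.single p 1) (Pi.single p 1)
      rw [X.dot_self_single, dot_eq_sum_supp (S := U p) fun i hi => by
        rw [MaxMon.col_apply]; exact eq_zero_of_notMem (v := fun x => (g : Mn) x p) hi] at h1
      rw [he, Finset.sum_pair hab, MaxMon.col_apply, MaxMon.col_apply,
        hn _ ((mem_supp (v := fun x => (g : Mn) x p)).1 (by show a ∈ U p; rw [he]; simp)),
        hn _ ((mem_supp (v := fun x => (g : Mn) x p)).1 (by show b ∈ U p; rw [he]; simp))] at h1
      exact one_ne_zero (by linear_combination h2 - h1)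
    refine hall p fun r => Or.inl ?_
    by_cases hrp : r = p
    · rw [hrp]
    have := Finset.eq_of_subset_of_card_le (Finset.subset_union_left (s₂ := U r))
      ((h3 p r (Ne.symm hrp)).trans hp3)
    rw [this]
    exact Finset.subset_union_right

/-- Even `q` at least four. -/
theorem upt_even (h5 : 5 ≤ Fintype.card ι) (hq : 3 ≤ q) (h2 : (2 : F) = 0) {g : GL ι F} (hg : g ∈ M) (hmon : ¬ IsMon (g : Mn)) :
    ∀ u, dot σ u u = 0 → UPt σ (dot σ) M u := by
  obtain ⟨p, r, hpr, ρ, hρ, h3⟩ := X.exists_big_image h2 hg hmon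
  refine X.upt_of_tr1 hq (X.tr1_map (X.tr1_pair h2 hpr hρ) hg) ?_ (fun e => ?_) (by
    rw [map_one]; linear_combination h2) one_ne_zero (Or.inl h3) (Or.inr ⟨h2, h5⟩)
  · rw [X.iso g hg, X.iso_pair h2 hpr hρ]
  · rw [e, show supp (0 : V) = ∅ by ext; simp [mem_supp], Finset.card_empty] at h3; omega

/-- Monomial elements are transitive on the vectors with a given support size, for `q = 2`. -/
theorem exists_map_supp (hn : ∀ y : F, y ≠ 0 → y ∈ mu σ) {v w : V} (hvw : (supp w).card = (supp v).card)
    (hlt : (supp w).card < Fintype.card ι) : ∃ m ∈ M, (m : Mn) *ᵥ w = v := by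
  classical
  obtain ⟨π, hπ⟩ := exists_perm_map hvw
  obtain ⟨o, ho⟩ := X.exists_notMem hlt
  set x : ι → F := fun i => if w i = 0 then 1 else v (π i) / w i
  have hx : ∀ i, x i ∈ mu σ := fun i => by
    simp only [x]
    split_ifs with h
    · exact one_mem_mu
    · exact hn _ (div_ne_zero (mem_supp.1 ((hπ i).2 (mem_supp.2 h))) h)
  set ε : F := ((Equiv.Perm.sign π : ℤ) : F) with hε
  have hε2 : ε * ε = 1 := by rcases Int.units_eq_one_or (Equiv.Perm.sign π) with h | h <;> simp [hε, h]
  have hεm : ε ∈ mu σ := by rw [mem_mu, hε, map_intCast]; exact hε2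
  set P := ∏ j ∈ Finset.univ.erase o, x j
  have hPm : P ∈ mu σ := prod_mem_mu _ _ fun j _ => hx j
  obtain ⟨m, hm, -, hmz⟩ := X.exists_mon_mem π (Function.update x o (ε * P)⁻¹) (fun j => by
    by_cases h : j = o
    · subst h; simpa using inv_mem_mu (mul_mem_mu hεm hPm)
    · simpa [h] using hx j) (by
    rw [Finset.prod_update_of_mem (Finset.mem_univ o), ← Finset.erase_eq, ← hε]
    have := mu_ne hεm
    have := mu_ne hPm
    field_simp
    rfl)
  refine ⟨m, hm, funext fun j => ?_⟩
  obtain ⟨i, rfl⟩ : ∃ i, j = π i := ⟨π.symm j, by simp⟩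
  rw [hmz]
  by_cases hi : w i = 0
  · rw [hi, mul_zero, eq_comm]
    exact eq_zero_of_notMem fun h => mem_supp.1 ((hπ i).1 h) hi
  · have hio : i ≠ o := fun e => hi (e ▸ ho)
    simp [x, hio, hi]

/-- `q = 2`. -/
theorem upt_two (h5 : 5 ≤ Fintype.card ι) (hq : q = 2) (h2 : (2 : F) = 0) {g : GL ι F} (hg : g ∈ M) (hmon : ¬ IsMon (g : Mn)) :
    ∀ u, dot σ u u = 0 → UPt σ (dot σ) M u := by
  classical
  subst hq
  have hs := X.herm
  have hfix : ∀ c : F, σ c = c → c = 0 ∨ c = 1 := fun c hc => by
    have he : ({0, 1} : Finset F) = fix σ := Finset.eq_of_subset_of_card_le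
      (by simp [Finset.insert_subset_iff, mem_fix]) (by rw [X.circ.card_fix, Finset.card_pair zero_ne_one])
    have := mem_fix.2 hc
    rw [← he, Finset.mem_insert, Finset.mem_singleton] at this
    exact this
  have hnorm : ∀ y : F, y ≠ 0 → y * σ y = 1 := fun y hy => (hfix _ (X.norm_fix y)).resolve_left (X.norm_ne hy)
  have hn : ∀ y : F, y ≠ 0 → y ∈ mu σ := fun y hy => mem_mu.2 (hnorm y hy)
  have hupt : ∀ v, Tr1 σ M v 1 → UPt σ (dot σ) M v := fun v h c hc => by
    rcases hfix c (by linear_combination hc - c * h2) with rfl | rfl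
    · exact ⟨1, one_mem M, fun x => by simp⟩
    · exact h
  have hcast : ∀ v : V, dot σ v v = 0 → ((supp v).card : F) = 0 := fun v hv => by
    rw [← X.sum_norm_supp hv, Finset.sum_congr rfl fun i hi => hnorm _ (mem_supp.1 hi)]
    simp
  have heven : ∀ v : V, dot σ v v = 0 → Even (supp v).card := fun v hv => by
    by_contra h
    obtain ⟨m, hm⟩ := Nat.not_even_iff_odd.1 h
    have := hcast v hv
    rw [hm] at this
    push_cast at this
    exact one_ne_zero (by linear_combination this - (m : F) * h2)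
  have hpairs : ∀ v : V, dot σ v v = 0 → (supp v).card = 2 → UPt σ (dot σ) M v := fun v hv hv2 => by
    obtain ⟨p, r, hpr, he⟩ := Finset.card_eq_two.1 hv2
    have hlt : (supp (Pi.single p 1 + Pi.single r 1 : V)).card < Fintype.card ι := by
      rw [supp_pair hpr one_ne_zero one_ne_zero, Finset.card_pair hpr]; have := X.card; omega
    obtain ⟨m, hm, hmv⟩ := X.exists_map_supp hn (v := v) (w := Pi.single p 1 + Pi.single r 1)
      (by rw [supp_pair hpr one_ne_zero one_ne_zero, he]) hlt
    exact hmv ▸ X.upt_map (hupt _ (X.tr1_pair h2 hpr one_mem_mu)) hm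
  obtain ⟨ω, hω, hω1, -, hω2⟩ := X.circ.trace_exists (∅ : Finset F) (by simp)
  have hω3 : ω + σ ω = 1 := (hfix _ (mem_fix.1 (X.circ.trace_fix ω))).resolve_left fun e =>
    hω2 (by linear_combination e - h2)
  have hωm : σ ω ∈ mu σ := by rw [mem_mu, hs.invol, mul_comm]; exact mem_mu.1 hω
  have hω1' : σ ω ≠ 1 := fun e => hω1 (by rw [← hs.invol ω, e, map_one])
  -- descend
  have hdesc : ∀ v : V, UPt σ (dot σ) M v → dot σ v v = 0 → ∀ B C : Finset ι, B ⊆ supp v → C ⊆ supp v →
      Disjoint B C → Odd B.card → Odd C.card →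
      ((∃ o, v o = 0) ∨ (3 ∣ B.card ∧ 3 ∣ C.card)) →
      ∃ w, UPt σ (dot σ) M w ∧ dot σ w w = 0 ∧ (supp w).card = B.card + C.card := by
    intro v hU hv B C hB hC hdis hBo hCo hdet
    set x : ι → F := fun i => if i ∈ B then ω else if i ∈ C then σ ω else 1 with hx
    have hxm : ∀ i, x i ∈ mu σ := fun i => by
      simp only [hx]; split_ifs
      exacts [hω, hωm, one_mem_mu]
    obtain ⟨d, hd, hdv⟩ : ∃ d ∈ M, (d : Mn) *ᵥ v = x * v := by
      rcases hdet with ⟨o, ho⟩ | ⟨hB3, hC3⟩
      · obtain ⟨d, hd, hdz⟩ := X.exists_diag_fix x hxm o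
        exact ⟨d, hd, hdz v ho⟩
      · obtain ⟨d, hd, hdz⟩ := X.exists_diag_mem x hxm (by
          simp only [hx]
          rw [Finset.prod_ite, Finset.prod_ite, Finset.prod_const, Finset.prod_const, Finset.prod_const_one,
            mul_one]
          have e1 : (Finset.univ.filter fun i => i ∈ B) = B := by ext; simp
          have e2 : ((Finset.univ.filter fun i => i ∉ B).filter fun i => i ∈ C) = C := by
            ext i
            simp only [Finset.mem_filter, Finset.mem_univ, true_and]
            exact ⟨fun h => h.2, fun h => ⟨fun hb => Finset.disjoint_left.1 hdis hb h, h⟩⟩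
          rw [e1, e2]
          obtain ⟨b, hb⟩ := hB3
          obtain ⟨c, hc⟩ := hC3
          rw [hb, hc, pow_mul, pow_mul, X.circ.pow_mu hω, X.circ.pow_mu hωm, one_pow, one_pow, one_mul])
        exact ⟨d, hd, funext fun i => by rw [hdz]; rfl⟩
    have hf : dot σ v (x * v) = 1 := by
      have h1 : dot σ v (x * v) = ∑ i ∈ supp v, σ (x i) := by
        rw [dot_eq_sum_supp fun i hi => eq_zero_of_notMem hi]
        exact Finset.sum_congr rfl fun i hi => by
          rw [Pi.mul_apply, map_mul]; linear_combination (σ (x i)) * hnorm _ (mem_supp.1 hi)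
      rw [h1, ← Finset.sum_sdiff (Finset.union_subset hB hC), Finset.sum_union hdis,
        Finset.sum_congr rfl (g := fun _ => (1 : F)) (fun i hi => by
          simp only [Finset.mem_sdiff, Finset.mem_union, not_or] at hi
          simp [hx, hi.2.1, hi.2.2]),
        Finset.sum_congr rfl (s₂ := B) (g := fun _ => σ ω) (fun i hi => by simp [hx, hi]),
        Finset.sum_congr rfl (s₂ := C) (g := fun _ => ω) (fun i hi => by
          simp [hx, hi, Finset.disjoint_right.1 hdis hi, hs.invol])]
      simp only [Finset.sum_const, nsmul_eq_mul, mul_one]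
      obtain ⟨b, hb⟩ := hBo
      obtain ⟨c, hc⟩ := hCo
      have hcard := Finset.card_sdiff_of_subset (Finset.union_subset hB hC)
      rw [Finset.card_union_of_disjoint hdis] at hcard
      have hle := Finset.card_le_card (Finset.union_subset hB hC)
      rw [Finset.card_union_of_disjoint hdis] at hle
      obtain ⟨m, hm⟩ := heven v hv
      rw [show (supp v \ (B ∪ C)).card = 2 * (m - b - c - 1) by omega, hb, hc]
      push_cast
      linear_combination hω3 + (((m - b - c - 1 : ℕ) : F) + b * σ ω + c * ω) * h2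
    refine ⟨v + (1 * dot σ v (x * v)) • (x * v), hU.add_smul hs (hdv ▸ X.upt_map hU hd)
      (by rw [← hdv, X.iso d hd, hv]) (by rw [map_one]; linear_combination h2),
      X.iso_add_smul hv (by rw [← hdv, X.iso d hd, hv]) (by rw [map_one]; linear_combination h2), ?_⟩
    rw [← Finset.card_union_of_disjoint hdis]
    congr 1
    ext i
    have hi' : (v + (1 * dot σ v (x * v)) • (x * v)) i = v i * (1 + x i) := by simp [hf]; ring
    rw [mem_supp, hi', mul_ne_zero_iff, Finset.mem_union]
    constructor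
    · rintro ⟨-, h⟩
      by_contra hcon
      push Not at hcon
      exact h (by simp only [hx, if_neg hcon.1, if_neg hcon.2]; linear_combination h2)
    · intro h
      refine ⟨mem_supp.1 (h.elim (fun h => hB h) fun h => hC h), fun e => ?_⟩
      by_cases hiB : i ∈ B
      · exact hω1 (by simp only [hx, if_pos hiB] at e; linear_combination e - h2)
      · exact hω1' (by simp only [hx, if_neg hiB, if_pos (h.resolve_left hiB)] at e; linear_combination e - h2)
  have hsub : ∀ (v : V) (b c : ℕ), b + c ≤ (supp v).card → ∃ B C : Finset ι, B ⊆ supp v ∧ C ⊆ supp v ∧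
      Disjoint B C ∧ B.card = b ∧ C.card = c := fun v b c h => by
    obtain ⟨B, hB, hBc⟩ := Finset.exists_subset_card_eq (show b ≤ (supp v).card by omega)
    obtain ⟨C, hC, hCc⟩ := Finset.exists_subset_card_eq (s := supp v \ B) (n := c)
      (by rw [Finset.card_sdiff_of_subset hB]; omega)
    exact ⟨B, C, hB, hC.trans Finset.sdiff_subset,
      Finset.disjoint_right.2 fun i hi => (Finset.mem_sdiff.1 (hC hi)).2, hBc, hCc⟩
  -- a vector of support four
  obtain ⟨v₄, hv₄U, hv₄, hv₄c⟩ : ∃ v, UPt σ (dot σ) M v ∧ dot σ v v = 0 ∧ (supp v).card = 4 := by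
    obtain ⟨p, r, hpr, ρ, hρ, h3⟩ := X.exists_big_image h2 hg hmon
    set v := (g : Mn) *ᵥ (Pi.single p 1 + Pi.single r ρ : V)
    have hv : dot σ v v = 0 := by rw [X.iso g hg, X.iso_pair h2 hpr hρ]
    have hU : UPt σ (dot σ) M v := hupt _ (X.tr1_map (X.tr1_pair h2 hpr hρ) hg)
    have h6 : ∀ w : V, UPt σ (dot σ) M w → dot σ w w = 0 → (supp w).card = 6 →
        ∃ u, UPt σ (dot σ) M u ∧ dot σ u u = 0 ∧ (supp u).card = 4 := fun w hwU hw hwc => by
      obtain ⟨B, C, hB, hC, hd, hb, hc⟩ := hsub w 1 3 (by omega)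
      obtain ⟨u, hu⟩ := hdesc w hwU hw B C hB hC hd (by rw [hb]; decide) (by rw [hc]; decide)
        (Or.inl (X.exists_notMem (by have := X.card; omega)))
      exact ⟨u, hu.1, hu.2.1, by rw [hu.2.2, hb, hc]⟩
    obtain ⟨m, hm⟩ := heven v hv
    rcases lt_trichotomy (supp v).card 6 with h | h | h
    · exact ⟨v, hU, hv, by omega⟩
    · exact h6 v hU hv h
    · obtain ⟨B, C, hB, hC, hd, hb, hc⟩ := hsub v 3 3 (by omega)
      obtain ⟨w, hwU, hw, hwc⟩ := hdesc v hU hv B C hB hC hd (by rw [hb]; decide) (by rw [hc]; decide)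
        (Or.inr ⟨by rw [hb], by rw [hc]⟩)
      exact h6 w hwU hw (by rw [hwc, hb, hc])
  intro v hv
  induction hk : (supp v).card using Nat.strong_induction_on generalizing v with
  | _ k ih =>
    rcases eq_or_ne v 0 with rfl | hv0
    · exact UPt.zero hs
    have h2' := X.two_le_supp hv hv0
    obtain ⟨m, hm⟩ := heven v hv
    rcases Nat.lt_or_ge (supp v).card 6 with h | h
    · rcases Nat.lt_or_ge (supp v).card 4 with h' | h'
      · exact hpairs v hv (by omega)
      · obtain ⟨g', hg', hgv⟩ := X.exists_map_supp hn (v := v) (w := v₄) (by omega) (by have := X.card; omega)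
        exact hgv ▸ X.upt_map hv₄U hg'
    obtain ⟨U, hU, hUc⟩ := Finset.exists_subset_card_eq (show 4 ≤ (supp v).card by omega)
    let u : Fin 4 → ι := fun i => (U.equivFinOfCardEq hUc).symm i
    have hu : Function.Injective u := Subtype.val_injective.comp (U.equivFinOfCardEq hUc).symm.injective
    have huv : ∀ i, v (u i) ≠ 0 := fun i => mem_supp.1 (hU ((U.equivFinOfCardEq hUc).symm i).2)
    set w : V := Pi.single (u 0) (σ ω * v (u 0)) + Pi.single (u 1) (ω * v (u 1)) + Pi.single (u 2) (v (u 2))
      + Pi.single (u 3) (v (u 3)) with hw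
    have hwj : ∀ j, w j = if j = u 0 then σ ω * v (u 0) else if j = u 1 then ω * v (u 1)
        else if j = u 2 then v (u 2) else if j = u 3 then v (u 3) else 0 := fun j => by
      simp only [hw, Pi.add_apply, Pi.single_apply]
      split_ifs <;> simp_all [hu.eq_iff]
    have hws : supp w = Finset.univ.image u := by
      ext j
      by_cases hj : ∃ i, u i = j
      · obtain ⟨i, rfl⟩ := hj
        simp only [mem_supp, hwj, hu.eq_iff, Finset.mem_image, Finset.mem_univ, true_and, exists_eq,
          iff_true]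
        fin_cases i <;> simp [mu_ne hω, mu_ne hωm, huv]
      · push Not at hj
        simp [mem_supp, hwj, Ne.symm (hj 0), Ne.symm (hj 1), Ne.symm (hj 2), Ne.symm (hj 3), hj]
    have hwc : (supp w).card = 4 := by
      rw [hws, Finset.card_image_of_injective _ hu, Finset.card_univ, Fintype.card_fin]
    have hwi : dot σ w w = 0 := by
      rw [dot_eq_sum_supp fun j hj => eq_zero_of_notMem hj, Finset.sum_congr rfl fun j hj =>
        hnorm _ (mem_supp.1 hj), Finset.sum_const, hwc, nsmul_eq_mul]
      push_cast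
      linear_combination 2 * h2
    set y := v + w with hy
    have hsum : ∀ a : V, dot σ a w = ∑ i : Fin 4, a (u i) * σ (w (u i)) := fun a => by
      rw [hs.herm, dot_eq_sum_supp (S := Finset.univ.image u) fun j hj => eq_zero_of_notMem (hws ▸ hj),
        Finset.sum_image fun i _ i' _ e => hu e, map_sum]
      exact Finset.sum_congr rfl fun i _ => by rw [map_mul, hs.invol, mul_comm]
    have hfv : dot σ v w = 1 := by
      rw [hsum, Fin.sum_univ_four]
      simp only [hwj, hu.eq_iff, Fin.reduceEq, if_false, if_true, map_mul, hs.invol]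
      linear_combination ω * hnorm _ (huv 0) + σ ω * hnorm _ (huv 1) + hnorm _ (huv 2) + hnorm _ (huv 3) + hω3 + h2
    have hyw : dot σ y w = 1 := by rw [hy, hs.add_left, hfv, hwi, add_zero]
    have hyi : dot σ y y = 0 := by
      have := X.iso_add_smul (c := (1 : F)) hv hwi (by rw [map_one]; linear_combination h2)
      rwa [hfv, mul_one, one_smul] at this
    have hys : (supp y).card < k := by
      refine hk ▸ Finset.card_lt_card (Finset.ssubset_iff_of_subset (fun j hj => ?_) |>.2
        ⟨u 2, mem_supp.2 (huv 2), fun h => mem_supp.1 h ?_⟩)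
      · rw [mem_supp] at hj ⊢
        intro e
        refine hj ?_
        have hj' : j ∉ supp w := fun h' => by
          rw [hws, Finset.mem_image] at h'
          obtain ⟨i, -, rfl⟩ := h'
          exact huv i e
        rw [hy, Pi.add_apply, e, eq_zero_of_notMem hj', add_zero]
      · rw [hy, Pi.add_apply, hwj]
        simp only [hu.eq_iff, Fin.reduceEq, if_false, if_true]
        linear_combination (v (u 2)) * h2
    obtain ⟨g', hg', hgw⟩ := X.exists_map_supp hn (v := w) (w := v₄) (by omega) (by have := X.card; omega)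
    have := (ih _ hys y hyi rfl).add_smul hs (hgw ▸ X.upt_map hv₄U hg') hwi (c := 1)
      (by rw [map_one]; linear_combination h2)
    rw [hyw, mul_one, one_smul, hy, add_assoc] at this
    have hww : w + w = 0 := funext fun j => by
      show w j + w j = 0
      linear_combination (w j) * h2
    rwa [hww, add_zero] at this

end Ctx

end Cfsg.Agent.Classical.MaxUnitMon
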