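import Cfsg.Agent.Lib.Classical.MaxUnitCircle

/-!
Ten elements of norm one with a vanishing weighted sum and product one, in odd characteristic: pairs with chosen
ratios, and the second solution of a pair moves the product.
-/

set_option autoImplicit false
set_option linter.unusedSectionVars false

namespace Cfsg.Agent.Classical.MaxUnitMon

open Finset

variable {F : Type*} [Field F] [Fintype F] [DecidableEq F] {σ : F ≃+* F} {q : ℕ}

namespace Circ

variable (hC : Circ σ q)
include hC

theorem neg_one_mem : (-1 : F) ∈ mu σ := by rw [mem_mu, map_neg, map_one]; ring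

theorem pow_mem {z : F} (hz : z ∈ mu σ) (r : ℕ) : z ^ r ∈ mu σ := by
  simpa using zpow_mem_mu hz (r : ℤ)

theorem div_mem {a b : F} (ha : a ∈ mu σ) (hb : b ∈ mu σ) : a / b ∈ mu σ := by
  rw [div_eq_mul_inv]; exact mul_mem_mu ha (inv_mem_mu hb)

theorem conj_mem {a : F} (ha : a ∈ mu σ) : σ a ∈ mu σ := by
  rw [mem_mu, hC.invol, mul_comm]; exact mem_mu.1 ha

theorem theta_mem {S : F} (hS : S ≠ 0) : S / σ S ∈ mu σ := by
  rw [mem_mu, map_div₀, hC.invol, div_mul_div_comm, mul_comm, div_self]
  exact mul_ne_zero (fun e => hS (σ.map_eq_zero_iff.1 e)) hS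

/-- Roots in the circle. -/
theorem root_of_pow {r m : ℕ} (hr : 0 < r) (hm : r * m = q + 1) {z : F} (hz : z ∈ mu σ) (hzm : z ^ m = 1) :
    ∃ w ∈ mu σ, w ^ r = z := by
  classical
  have hm0 : 0 < m := by
    rcases Nat.eq_zero_or_pos m with e | e
    · rw [e, mul_zero] at hm; omega
    · exact e
  have h1 := Finset.card_le_mul_card_image (f := fun w : F => w ^ r) (mu σ) r fun v _ => by
    refine le_trans (Finset.card_le_card (t := (Polynomial.nthRoots r v).toFinset) fun w hw => ?_)
      ((Multiset.toFinset_card_le _).trans (Polynomial.card_nthRoots r v))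
    rw [Multiset.mem_toFinset, Polynomial.mem_nthRoots hr]
    exact (Finset.mem_filter.1 hw).2
  rw [hC.card_mu, ← hm] at h1
  have h2 : (mu σ).image (fun w : F => w ^ r) = (Polynomial.nthRoots m (1 : F)).toFinset := by
    refine Finset.eq_of_subset_of_card_le (fun v hv => ?_) ?_
    · obtain ⟨w, hw, rfl⟩ := Finset.mem_image.1 hv
      rw [Multiset.mem_toFinset, Polynomial.mem_nthRoots hm0, ← pow_mul, hm, hC.pow_mu hw]
    · exact ((Multiset.toFinset_card_le _).trans (Polynomial.card_nthRoots m 1)).trans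
        (Nat.le_of_mul_le_mul_left h1 hr)
  have h3 : z ∈ (mu σ).image (fun w : F => w ^ r) := by
    rw [h2, Multiset.mem_toFinset, Polynomial.mem_nthRoots hm0]; exact hzm
  exact Finset.mem_image.1 h3

theorem roots_coprime {r : ℕ} (hr : Nat.Coprime r (q + 1)) {z : F} (hz : z ∈ mu σ) :
    ∃ w ∈ mu σ, w ^ r = z := by
  classical
  have hinj : Set.InjOn (fun w : F => w ^ r) (mu σ : Set F) := fun a ha b hb e => by
    have hb0 := mu_ne hb
    have h1 : (a / b) ^ r = 1 := by
      rw [div_pow, show a ^ r = b ^ r from e, div_self (pow_ne_zero _ hb0)]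
    have h2 := hC.pow_mu (hC.div_mem ha hb)
    have h3 : orderOf (a / b) ∣ Nat.gcd r (q + 1) :=
      Nat.dvd_gcd (orderOf_dvd_of_pow_eq_one h1) (orderOf_dvd_of_pow_eq_one h2)
    rw [hr.gcd_eq_one, Nat.dvd_one, orderOf_eq_one_iff, div_eq_one_iff_eq hb0] at h3
    exact h3
  have h : (mu σ).image (fun w : F => w ^ r) = mu σ := Finset.eq_of_subset_of_card_le
    (fun v hv => by
      obtain ⟨w, hw, rfl⟩ := Finset.mem_image.1 hv
      exact hC.pow_mem hw r) (by rw [Finset.card_image_of_injOn hinj])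
  exact Finset.mem_image.1 (h.symm ▸ hz)

theorem exists_half_order (h2 : (2 : F) ≠ 0) : ∃ k, 2 * k = q + 1 ∧ 2 ≤ k := by
  rcases Nat.even_or_odd (q + 1) with ⟨k, hk⟩ | ⟨k, hk⟩
  · exact ⟨k, by omega, by have := hC.two_le; omega⟩
  · have h1 := hC.pow_mu hC.neg_one_mem
    rw [hk, pow_succ, pow_mul, neg_one_sq, one_pow, one_mul] at h1
    exact absurd (by linear_combination -h1) h2

theorem sq_or {k : ℕ} (hk : 2 * k = q + 1) {z : F} (hz : z ∈ mu σ) : z ^ k = 1 ∨ z ^ k = -1 :=
  mul_self_eq_one_iff.1 (by rw [← pow_add, ← two_mul, hk, hC.pow_mu hz])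

/-- Many elements of each square class. -/
theorem exists_class (h2 : (2 : F) ≠ 0) {t : F} (ht : t ∈ mu σ) (b : F) :
    ∃ y ∈ mu σ, y ≠ b ∧ ∃ u ∈ mu σ, t * y = u * u := by
  classical
  have hb := Finset.card_le_mul_card_image (f := fun w : F => w * w) (mu σ) 2 fun v _ => by
    refine le_trans (Finset.card_le_card (t := (Polynomial.nthRoots 2 v).toFinset) fun w hw => ?_)
      ((Multiset.toFinset_card_le _).trans (Polynomial.card_nthRoots 2 v))
    rw [Multiset.mem_toFinset, Polynomial.mem_nthRoots (by norm_num), pow_two]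
    exact (Finset.mem_filter.1 hw).2
  rw [hC.card_mu] at hb
  obtain ⟨k, hk, hk2⟩ := hC.exists_half_order h2
  obtain ⟨v, hv, hvb⟩ := Finset.exists_mem_ne (show 1 < ((mu σ).image fun w : F => w * w).card by omega) (t * b)
  obtain ⟨u, hu, rfl⟩ := Finset.mem_image.1 hv
  refine ⟨u * u / t, hC.div_mem (mul_mem_mu hu hu) ht, fun e => hvb ?_, u, hu, ?_⟩
  · rw [← e, mul_div_cancel₀ _ (mu_ne ht)]
  · rw [mul_div_cancel₀ _ (mu_ne ht)]

/-- Subset products of four non-trivial fifth roots of unity. -/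
theorem exists_subset_prod {a : Fin 4 → F} (ha : ∀ k, a k ^ 5 = 1) (ha1 : ∀ k, a k ≠ 1) {x : F} (hx : x ^ 5 = 1) :
    ∃ s : Finset (Fin 4), x * ∏ k ∈ s, a k = 1 := by
  classical
  let A : Finset (Fin 4) → Finset F := fun s => s.powerset.image fun t => x * ∏ k ∈ t, a k
  have hA : ∀ s, A s ⊆ (Polynomial.nthRoots 5 (1 : F)).toFinset := fun s v hv => by
    obtain ⟨t, -, rfl⟩ := Finset.mem_image.1 hv
    rw [Multiset.mem_toFinset, Polynomial.mem_nthRoots (by norm_num), mul_pow, hx, one_mul, ← Finset.prod_pow]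
    exact Finset.prod_eq_one fun k _ => ha k
  have h5 : ∀ s, (A s).card ≤ 5 := fun s =>
    (Finset.card_le_card (hA s)).trans ((Multiset.toFinset_card_le _).trans (Polynomial.card_nthRoots 5 1))
  have key : ∀ s : Finset (Fin 4), (1 : F) ∈ A s ∨ s.card + 1 ≤ (A s).card := by
    intro s
    induction s using Finset.induction with
    | empty =>
      refine Or.inr (Finset.card_pos.2 ⟨x, Finset.mem_image.2 ⟨∅, by simp, by simp⟩⟩)
    | @insert k s hk ih =>
      have hsub : A s ⊆ A (insert k s) :=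
        Finset.image_subset_image (Finset.powerset_mono.2 (Finset.subset_insert k s))
      rcases ih with h1 | h1
      · exact Or.inl (hsub h1)
      by_cases hcl : ∀ v ∈ A s, v * a k ∈ A s
      · -- a set closed under a generator is everything
        refine Or.inl (hsub ?_)
        have hxs : x ∈ A s := Finset.mem_image.2 ⟨∅, by simp, by simp⟩
        have hpow : ∀ i : ℕ, x * a k ^ i ∈ A s := fun i => by
          induction i with
          | zero => simpa using hxs
          | succ i ih => rw [pow_succ, ← mul_assoc]; exact hcl _ ih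
        have hord : orderOf (a k) = 5 := orderOf_eq_prime (hp := ⟨by norm_num⟩) (ha k) (ha1 k)
        have himg : (Finset.range 5).image (fun i => x * a k ^ i) = (Polynomial.nthRoots 5 (1 : F)).toFinset := by
          refine Finset.eq_of_subset_of_card_le (fun v hv => ?_) ?_
          · obtain ⟨i, -, rfl⟩ := Finset.mem_image.1 hv
            exact hA s (hpow i)
          · rw [Finset.card_image_of_injOn fun i hi j hj e => ?_, Finset.card_range]
            · exact (Multiset.toFinset_card_le _).trans (Polynomial.card_nthRoots 5 1)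
            · have hx0 : x ≠ 0 := fun e0 => by rw [e0, zero_pow (by norm_num)] at hx; exact zero_ne_one hx
              simp only [Finset.coe_range, Set.mem_Iio] at hi hj
              exact pow_injOn_Iio_orderOf (by rw [hord]; exact hi) (by rw [hord]; exact hj) (mul_left_cancel₀ hx0 e)
        obtain ⟨i, -, hi⟩ := Finset.mem_image.1 (himg.symm ▸
          (show (1 : F) ∈ (Polynomial.nthRoots 5 (1 : F)).toFinset by
            rw [Multiset.mem_toFinset, Polynomial.mem_nthRoots (by norm_num)]; exact one_pow 5))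
        exact hi ▸ hpow i
      push Not at hcl
      obtain ⟨v, hv, hvn⟩ := hcl
      refine Or.inr ?_
      rw [Finset.card_insert_of_notMem hk]
      refine le_trans (Nat.succ_le_succ h1) (Finset.card_lt_card ((Finset.ssubset_iff_of_subset hsub).2
        ⟨v * a k, ?_, hvn⟩))
      obtain ⟨t, ht, rfl⟩ := Finset.mem_image.1 hv
      refine Finset.mem_image.2 ⟨insert k t, Finset.mem_powerset.2 (Finset.insert_subset_insert k
        (Finset.mem_powerset.1 ht)), ?_⟩
      rw [Finset.prod_insert fun hkt => hk (Finset.mem_powerset.1 ht hkt)]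
      ring
  have hone : (1 : F) ∈ A Finset.univ := by
    rcases key Finset.univ with h1 | h1
    · exact h1
    rw [Finset.card_univ, Fintype.card_fin] at h1
    have heq : A Finset.univ = (Polynomial.nthRoots 5 (1 : F)).toFinset :=
      Finset.eq_of_subset_of_card_le (hA _)
        (((Multiset.toFinset_card_le _).trans (Polynomial.card_nthRoots 5 1)).trans h1)
    rw [heq, Multiset.mem_toFinset, Polynomial.mem_nthRoots (by norm_num)]
    exact one_pow 5
  obtain ⟨t, -, ht⟩ := Finset.mem_image.1 hone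
  exact ⟨t, ht⟩

/-- Sums of five circles. -/
theorem exists_sum_five {S : Fin 5 → F} (hS : ∀ k, S k ≠ 0) :
    ∃ z : Fin 5 → F, (∀ k, z k ∈ mu σ) ∧ ∑ k, z k * S k = 0 := by
  obtain ⟨d, hd, hsum⟩ := hC.exists_sum (S := (Finset.univ : Finset (Fin 5))) (by simp) (fun k _ => hS k) 0
  exact ⟨d, hd, by rw [← hsum]; exact Finset.sum_congr rfl fun k _ => mul_comm _ _⟩

/-- Five pairs, one with equal norms. -/
theorem ten_pairs_equal (h2 : (2 : F) ≠ 0) {α β : Fin 5 → F} (hα : ∀ k, α k ≠ 0) (hβ : ∀ k, β k ≠ 0)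
    (heq : α 4 * σ (α 4) = β 4 * σ (β 4)) (T : Finset (Fin 4 → F)) (hT : T.card ≤ 10) :
    ∃ z y : Fin 5 → F, (∀ k, z k ∈ mu σ) ∧ (∀ k, y k ∈ mu σ) ∧ ∑ k, z k * (α k + β k * y k) = 0 ∧
      ∏ k, z k * z k * y k = 1 ∧ (fun k : Fin 4 => y k.castSucc) ∉ T := by
  classical
  obtain ⟨k2, hk2, hk2'⟩ := hC.exists_half_order h2
  set y₄ := -(α 4) / β 4 with hy₄
  have hy₄m : y₄ ∈ mu σ := by
    rw [mem_mu, hy₄, map_div₀, map_neg, div_mul_div_comm, neg_mul_neg, heq]
    exact div_self (mul_ne_zero (hβ 4) fun e => hβ 4 (σ.map_eq_zero_iff.1 e))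
  let G : Fin 3 → Finset F := fun k => (mu σ).erase (-(α k.castSucc.castSucc) / β k.castSucc.castSucc)
  have hG : 10 < (Fintype.piFinset G).card := by
    rw [Fintype.card_piFinset]
    have : ∀ k, 3 ≤ (G k).card := fun k => by
      have h := Finset.pred_card_le_card_erase (s := mu σ) (a := -(α k.castSucc.castSucc) / β k.castSucc.castSucc)
      rw [hC.card_mu] at h
      simp only [G]
      omega
    calc 10 < ∏ _k : Fin 3, 3 := by simp
      _ ≤ _ := Finset.prod_le_prod' fun k _ => this k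
  obtain ⟨w, hw, hwT⟩ := Finset.exists_mem_notMem_of_card_lt_card
    (s := T.image fun v => fun k : Fin 3 => v k.castSucc) (lt_of_le_of_lt (Finset.card_image_le.trans hT) hG)
  rw [Fintype.mem_piFinset] at hw
  have hwm : ∀ k, w k ∈ mu σ := fun k => Finset.mem_of_mem_erase (hw k)
  have htm : w 0 * w 1 * w 2 * y₄ ∈ mu σ := mul_mem_mu (mul_mem_mu (mul_mem_mu (hwm 0) (hwm 1)) (hwm 2)) hy₄m
  obtain ⟨y₃, hy₃m, hy₃b, u, hu, hu'⟩ := hC.exists_class h2 htm (-(α 3) / β 3)
  let y : Fin 5 → F := ![w 0, w 1, w 2, y₃, y₄]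
  have hy : ∀ k, y k ∈ mu σ := fun k => by
    fin_cases k
    exacts [hwm 0, hwm 1, hwm 2, hy₃m, hy₄m]
  let S : Fin 4 → F := fun k => α k.castSucc + β k.castSucc * y k.castSucc
  have hS : ∀ k, S k ≠ 0 := fun k e => by
    have he : y k.castSucc = -(α k.castSucc) / β k.castSucc := by
      rw [eq_div_iff (hβ _)]; simp only [S] at e; linear_combination e
    fin_cases k
    exacts [(Finset.mem_erase.1 (hw 0)).1 he, (Finset.mem_erase.1 (hw 1)).1 he,
      (Finset.mem_erase.1 (hw 2)).1 he, hy₃b he]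
  obtain ⟨d, hd, hsum⟩ := hC.exists_sum (S := (Finset.univ : Finset (Fin 4))) (by simp) (fun k _ => hS k) 0
  set P := d 0 * d 1 * d 2 * d 3 with hP
  have hPm : P ∈ mu σ := mul_mem_mu (mul_mem_mu (mul_mem_mu (hd 0) (hd 1)) (hd 2)) (hd 3)
  refine ⟨![d 0, d 1, d 2, d 3, (u * P)⁻¹], y, fun k => ?_, hy, ?_, ?_, fun hT' => hwT ?_⟩
  · fin_cases k
    exacts [hd 0, hd 1, hd 2, hd 3, inv_mem_mu (mul_mem_mu hu hPm)]
  · have h5 : α 4 + β 4 * y₄ = 0 := by rw [hy₄, mul_div_cancel₀ _ (hβ 4), add_neg_cancel]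
    rw [Fin.sum_univ_four] at hsum
    rw [Fin.sum_univ_five]
    simp only [y, S, Fin.castSucc_zero, Fin.castSucc_one, Matrix.cons_val_zero, Matrix.cons_val_one,
      Matrix.cons_val] at hsum ⊢
    rw [h5, mul_zero, add_zero]
    simp only [show (2 : Fin 4).castSucc = (2 : Fin 5) from rfl, show (3 : Fin 4).castSucc = (3 : Fin 5) from rfl,
      Matrix.cons_val] at hsum
    linear_combination hsum
  · rw [Fin.prod_univ_five]
    simp only [y, Matrix.cons_val_zero, Matrix.cons_val_one, Matrix.cons_val]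
    have h0 := mu_ne (mul_mem_mu hu hPm)
    rw [_root_.mul_inv_rev]
    have hu0 := mu_ne hu
    have hP0 := mu_ne hPm
    field_simp
    rw [hP] at *
    linear_combination (d 0 * d 1 * d 2 * d 3) ^ 2 * hu'
  · refine Finset.mem_image.2 ⟨_, hT', funext fun k => ?_⟩
    fin_cases k <;> rfl

theorem ten_h_mem {α β : F} (hne : α * σ α ≠ β * σ β) {y : F} (hy : y ∈ mu σ) :
    α + β * y ≠ 0 ∧ σ α * y + σ β ≠ 0 ∧ (α + β * y) / (σ α * y + σ β) ∈ mu σ := by
  have h1 : α + β * y ≠ 0 := fun e => hne (by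
    have e' : α = -(β * y) := eq_neg_of_add_eq_zero_left e
    rw [e', map_neg, map_mul]
    linear_combination (β * σ β) * mem_mu.1 hy)
  have h3 : σ α * y + σ β = y * σ (α + β * y) := by
    rw [map_add, map_mul]; linear_combination (-σ β) * mem_mu.1 hy
  refine ⟨h1, by rw [h3]; exact mul_ne_zero (mu_ne hy) fun e => h1 (σ.map_eq_zero_iff.1 e), ?_⟩
  rw [h3, div_mul_eq_div_div_swap]
  exact hC.div_mem (hC.theta_mem h1) hy

/-- Five pairs with different norms, four of them in one square class. -/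
theorem ten_pairs_distinct (h2 : (2 : F) ≠ 0) {α β : Fin 5 → F}
    (hne : ∀ k, α k * σ (α k) ≠ β k * σ (β k)) (hsq : ∀ k : Fin 4, IsSquare (α k.castSucc * β k.castSucc))
    (hα : ∀ k, α k ≠ 0) (hβ : ∀ k, β k ≠ 0) (T : Finset (Fin 4 → F)) (hT : T.card ≤ 10) :
    ∃ z y : Fin 5 → F, (∀ k, z k ∈ mu σ) ∧ (∀ k, y k ∈ mu σ) ∧ ∑ k, z k * (α k + β k * y k) = 0 ∧
      ∏ k, z k * z k * y k = 1 ∧ (fun k : Fin 4 => y k.castSucc) ∉ T := by
  classical
  obtain ⟨k2, hk2, hk2'⟩ := hC.exists_half_order h2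
  -- it is enough to make the product a tenth power
  suffices H : ∃ z y : Fin 5 → F, (∀ k, z k ∈ mu σ) ∧ (∀ k, y k ∈ mu σ) ∧ ∑ k, z k * (α k + β k * y k) = 0 ∧
      (fun k : Fin 4 => y k.castSucc) ∉ T ∧ ∃ w ∈ mu σ, ∏ k, z k * z k * y k = w ^ 10 by
    obtain ⟨z, y, hz, hy, hsum, hyT, w, hw, hP⟩ := H
    have hw0 := mu_ne hw
    refine ⟨fun k => z k / w, y, fun k => hC.div_mem (hz k) hw, hy, ?_, ?_, hyT⟩
    · rw [show ∑ k, z k / w * (α k + β k * y k) = (∑ k, z k * (α k + β k * y k)) / w by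
        rw [Finset.sum_div]; exact Finset.sum_congr rfl fun k _ => by ring, hsum, zero_div]
    · rw [show ∏ k, z k / w * (z k / w) * y k = (∏ k, z k * z k * y k) / w ^ 10 by
        simp only [Fin.prod_univ_five]; field_simp, hP, div_self (pow_ne_zero _ hw0)]
  have hS : ∀ k {v : F}, v ∈ mu σ → α k + β k * v ≠ 0 := fun k v hv => (hC.ten_h_mem (hne k) hv).1
  -- ratios with a square product
  have hbuild : ∀ w : Fin 4 → F, (∀ k, w k ∈ mu σ) → ∃ y : Fin 5 → F, (∀ k, y k ∈ mu σ) ∧
      (∀ k : Fin 4, y k.castSucc = w k) ∧ ∃ u ∈ mu σ, ∏ k, y k = u * u := fun w hw => by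
    obtain ⟨y₄, hy₄, -, u, hu, hu'⟩ := hC.exists_class h2
      (mul_mem_mu (mul_mem_mu (mul_mem_mu (hw 0) (hw 1)) (hw 2)) (hw 3)) 0
    refine ⟨![w 0, w 1, w 2, w 3, y₄], fun k => ?_, fun k => ?_, u, hu, ?_⟩
    · fin_cases k
      exacts [hw 0, hw 1, hw 2, hw 3, hy₄]
    · fin_cases k <;> rfl
    · rw [Fin.prod_univ_five]; exact hu'
  by_cases h5 : 5 ∣ q + 1
  swap
  · have hco : Nat.Coprime 5 (q + 1) := (Nat.Prime.coprime_iff_not_dvd (by norm_num)).2 h5
    have hG : 10 < (Fintype.piFinset fun _ : Fin 4 => mu σ).card := by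
      rw [Fintype.card_piFinset, Finset.prod_const, Finset.card_univ, Fintype.card_fin, hC.card_mu]
      calc 10 < 3 ^ 4 := by norm_num
        _ ≤ (q + 1) ^ 4 := Nat.pow_le_pow_left (by have := hC.two_le; omega) 4
    obtain ⟨w, hw, hwT⟩ := Finset.exists_mem_notMem_of_card_lt_card (lt_of_le_of_lt hT hG)
    rw [Fintype.mem_piFinset] at hw
    obtain ⟨y, hy, hyw, u, hu, hu'⟩ := hbuild w hw
    obtain ⟨z, hz, hsum⟩ := hC.exists_sum_five (S := fun k => α k + β k * y k) fun k => hS k (hy k)
    obtain ⟨v, hv, hv'⟩ := hC.roots_coprime hco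
      (mul_mem_mu (prod_mem_mu Finset.univ z fun k _ => hz k) hu)
    refine ⟨z, y, hz, hy, hsum, by simpa [hyw] using hwT, v, hv, ?_⟩
    rw [Finset.prod_mul_distrib, Finset.prod_mul_distrib, hu', show 10 = 5 * 2 from rfl, pow_mul, hv']
    ring
  obtain ⟨m, hm⟩ := h5
  have hm1 : 2 ≤ m := by
    rcases (show m ≤ 1 ∨ 2 ≤ m by omega) with h | h
    · interval_cases m <;> omega
    · exact h
  -- the change of a pair
  let κ : Fin 4 → F := fun k => σ (α k.castSucc * β k.castSucc) / (α k.castSucc * β k.castSucc)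
  let hh : Fin 4 → F → F := fun k v =>
    (α k.castSucc + β k.castSucc * v) / (σ (α k.castSucc) * v + σ (β k.castSucc))
  let D : Fin 4 → F → F := fun k v => hh k v * hh k v * κ k
  let γ : Fin 4 → F := fun k =>
    σ (β k.castSucc) * α k.castSucc / (β k.castSucc * σ (α k.castSucc))
  have hκ : ∀ k, ∃ s ∈ mu σ, κ k = s * s := fun k => by
    obtain ⟨s, hs⟩ := hsq k
    have hs0 : s ≠ 0 := fun e => mul_ne_zero (hα k.castSucc) (hβ k.castSucc) (by rw [hs, e, mul_zero])
    refine ⟨σ s / s, ?_, by simp only [κ]; rw [hs, map_mul, div_mul_div_comm]⟩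
    rw [← inv_div]; exact inv_mem_mu (hC.theta_mem hs0)
  have hγ : ∀ k, γ k ∈ mu σ := fun k => by
    simp only [γ]
    rw [show σ (β k.castSucc) * α k.castSucc / (β k.castSucc * σ (α k.castSucc)) =
      (α k.castSucc / σ (α k.castSucc)) * (β k.castSucc / σ (β k.castSucc))⁻¹ by rw [inv_div]; ring]
    exact mul_mem_mu (hC.theta_mem (hα _)) (inv_mem_mu (hC.theta_mem (hβ _)))
  let G : Fin 4 → Finset F := fun k => (mu σ).filter fun v => D k v ^ m ≠ 1
  have hGcard : ∀ k, 4 ≤ (G k).card := fun k => by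
    obtain ⟨s, hs, hs'⟩ := hκ k
    have hbad : ((mu σ).filter fun v => D k v ^ m = 1).card ≤ 2 * m := by
      refine le_trans (Finset.card_le_card_of_injOn (t := (Polynomial.nthRoots (2 * m) ((κ k ^ m)⁻¹)).toFinset)
        (hh k) (fun v hv => ?_) fun a ha b hb e => ?_) ((Multiset.toFinset_card_le _).trans (Polynomial.card_nthRoots _ _))
      · simp only [Finset.coe_filter, Set.mem_setOf_eq] at hv
        rw [Finset.mem_coe, Multiset.mem_toFinset, Polynomial.mem_nthRoots (by omega)]
        refine eq_inv_of_mul_eq_one_left ?_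
        rw [pow_mul, pow_two, ← mul_pow]
        exact hv.2
      · simp only [Finset.coe_filter, Set.mem_setOf_eq] at ha hb
        simp only [hh] at e
        rw [div_eq_div_iff (hC.ten_h_mem (hne _) ha.1).2.1 (hC.ten_h_mem (hne _) hb.1).2.1] at e
        have h0 : (a - b) * (β k.castSucc * σ (β k.castSucc) - α k.castSucc * σ (α k.castSucc)) = 0 := by
          linear_combination e
        exact sub_eq_zero.1 ((mul_eq_zero.1 h0).resolve_right (sub_ne_zero.2 (Ne.symm (hne _))))
    have h := Finset.card_filter_add_card_filter_not (s := mu σ) (fun v => D k v ^ m = 1)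
    rw [hC.card_mu] at h
    simp only [G, ne_eq]
    omega
  have hG : 16 * 10 < (Fintype.piFinset G).card := by
    rw [Fintype.card_piFinset]
    calc 16 * 10 < ∏ _k : Fin 4, 4 := by simp
      _ ≤ _ := Finset.prod_le_prod' fun k _ => hGcard k
  let fl : Finset (Fin 4) → (Fin 4 → F) → Fin 4 → F := fun s w k => if k ∈ s then σ (w k) * γ k else w k
  have hflinj : ∀ s, Function.Injective (fl s) := fun s a b e => funext fun k => by
    have h := congrFun e k
    simp only [fl] at h
    split_ifs at h with hks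
    · exact σ.injective (mul_right_cancel₀ (mu_ne (hγ k)) h)
    · exact h
  have hbadT : ((Finset.univ : Finset (Finset (Fin 4))).biUnion fun s =>
      (Fintype.piFinset G).filter fun w => fl s w ∈ T).card ≤ 16 * 10 := by
    refine le_trans (Finset.card_biUnion_le) (le_trans (Finset.sum_le_card_nsmul _ _ 10 fun s _ => ?_) (by simp))
    exact le_trans (Finset.card_le_card_of_injOn (fl s) (fun w hw => (Finset.mem_filter.1 hw).2)
      ((hflinj s).injOn)) hT
  obtain ⟨w, hw, hwT⟩ := Finset.exists_mem_notMem_of_card_lt_card (lt_of_le_of_lt hbadT hG)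
  have hwT' : ∀ s, fl s w ∉ T := fun s h => hwT (Finset.mem_biUnion.2 ⟨s, Finset.mem_univ _,
    Finset.mem_filter.2 ⟨hw, h⟩⟩)
  rw [Fintype.mem_piFinset] at hw
  have hwm : ∀ k, w k ∈ mu σ := fun k => (Finset.mem_filter.1 (hw k)).1
  obtain ⟨y, hy, hyw, u, hu, hu'⟩ := hbuild w hwm
  obtain ⟨z, hz, hsum⟩ := hC.exists_sum_five (S := fun k => α k + β k * y k) fun k => hS k (hy k)
  have hDm : ∀ k, D k (w k) ∈ mu σ := fun k => by
    obtain ⟨s, hs, hs'⟩ := hκ k
    simp only [D, hh, hs']
    exact mul_mem_mu (mul_mem_mu (hC.ten_h_mem (hne _) (hwm k)).2.2 (hC.ten_h_mem (hne _) (hwm k)).2.2)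
      (mul_mem_mu hs hs)
  have hPm : ∏ k, z k * z k * y k ∈ mu σ :=
    prod_mem_mu _ _ fun k _ => mul_mem_mu (mul_mem_mu (hz k) (hz k)) (hy k)
  obtain ⟨t, ht⟩ := hC.exists_subset_prod (a := fun k => D k (w k) ^ m)
    (fun k => by rw [← pow_mul, mul_comm, ← hm, hC.pow_mu (hDm k)]) (fun k => (Finset.mem_filter.1 (hw k)).2)
    (x := (∏ k, z k * z k * y k) ^ m) (by rw [← pow_mul, mul_comm, ← hm, hC.pow_mu hPm])
  -- the flipped pairs
  let zf : Fin 4 → F := fun k =>
    (z k.castSucc * (α k.castSucc + β k.castSucc * w k)) /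
      σ (z k.castSucc * (α k.castSucc + β k.castSucc * w k)) * σ (α k.castSucc * z k.castSucc) / α k.castSucc
  let z' : Fin 5 → F := Fin.lastCases (z 4) fun k => if k ∈ t then zf k else z k.castSucc
  let y' : Fin 5 → F := Fin.lastCases (y 4) fun k => if k ∈ t then σ (w k) * γ k else w k
  have hσw : ∀ k, σ (w k) = (w k)⁻¹ := fun k => mu_inv (hwm k)
  have hσz : ∀ k : Fin 4, σ (z k.castSucc) = (z k.castSucc)⁻¹ := fun k => mu_inv (hz _)
  have hzfm : ∀ k, zf k ∈ mu σ := fun k => by
    simp only [zf]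
    rw [mul_div_assoc]
    refine mul_mem_mu (hC.theta_mem (mul_ne_zero (mu_ne (hz _)) (hS _ (hwm k)))) ?_
    rw [map_mul, show σ (α k.castSucc) * σ (z k.castSucc) / α k.castSucc =
      σ (z k.castSucc) * (α k.castSucc / σ (α k.castSucc))⁻¹ by rw [inv_div]; ring]
    exact mul_mem_mu (hC.conj_mem (hz _)) (inv_mem_mu (hC.theta_mem (hα _)))
  have hflip : ∀ k, zf k * (α k.castSucc + β k.castSucc * (σ (w k) * γ k)) =
      z k.castSucc * (α k.castSucc + β k.castSucc * w k) ∧
      zf k * zf k * (σ (w k) * γ k) = z k.castSucc * z k.castSucc * w k * D k (w k) := fun k => by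
    have hz0 := mu_ne (hz k.castSucc)
    have hw0 := mu_ne (hwm k)
    have ha := hα k.castSucc
    have hb := hβ k.castSucc
    have ha' : σ (α k.castSucc) ≠ 0 := fun e => ha (σ.map_eq_zero_iff.1 e)
    have hb' : σ (β k.castSucc) ≠ 0 := fun e => hb (σ.map_eq_zero_iff.1 e)
    have hS0 := hS k.castSucc (hwm k)
    obtain ⟨-, hden, -⟩ := hC.ten_h_mem (hne k.castSucc) (hwm k)
    have hden' : σ (α k.castSucc) + σ (β k.castSucc) * (w k)⁻¹ ≠ 0 := fun e => hden (by
      have := congrArg (· * w k) e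
      simp only [add_mul, mul_assoc, inv_mul_cancel₀ hw0, mul_one, zero_mul] at this
      exact this)
    have hden'' : w k * σ (α k.castSucc) + σ (β k.castSucc) ≠ 0 := by rw [mul_comm]; exact hden
    constructor
    · simp only [zf, γ, map_mul, map_add, hσw, hσz]
      field_simp
      try (rw [div_self hden''])
    · simp only [zf, γ, D, hh, κ, map_mul, map_add, hσw, hσz]
      field_simp
      try (rw [div_self hden''])
      try ring
  have h4 : (4 : Fin 5) = Fin.last 4 := rfl
  refine ⟨z', y', fun k => ?_, fun k => ?_, ?_, ?_, ?_⟩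
  · refine Fin.lastCases ?_ (fun k => ?_) k
    · simp only [z', Fin.lastCases_last]; exact hz 4
    · simp only [z', Fin.lastCases_castSucc]; split_ifs; exacts [hzfm k, hz _]
  · refine Fin.lastCases ?_ (fun k => ?_) k
    · simp only [y', Fin.lastCases_last]; exact hy 4
    · simp only [y', Fin.lastCases_castSucc]; split_ifs; exacts [mul_mem_mu (hC.conj_mem (hwm k)) (hγ k), hwm k]
  · rw [← hsum, Fin.sum_univ_castSucc, Fin.sum_univ_castSucc (f := fun k => z k * (α k + β k * y k))]
    congr 1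
    · refine Finset.sum_congr rfl fun k _ => ?_
      simp only [z', y', Fin.lastCases_castSucc, hyw]
      split_ifs
      · exact (hflip k).1
      · rfl
  · simpa [y', fl, Fin.lastCases_castSucc] using hwT' t
  have hprod : ∏ k, z' k * z' k * y' k = (∏ k, z k * z k * y k) * ∏ k ∈ t, D k (w k) := by
    rw [Fin.prod_univ_castSucc, Fin.prod_univ_castSucc (f := fun k => z k * z k * y k)]
    simp only [z', y', Fin.lastCases_last, Fin.lastCases_castSucc, h4, hyw]
    rw [← Finset.prod_mul_prod_compl t, ← Finset.prod_mul_prod_compl t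
      (fun k : Fin 4 => z k.castSucc * z k.castSucc * w k),
      Finset.prod_congr rfl (g := fun k : Fin 4 => z k.castSucc * z k.castSucc * w k * D k (w k))
        (fun k hk => by simp only [if_pos hk]; exact (hflip k).2),
      Finset.prod_mul_distrib,
      Finset.prod_congr rfl (s₂ := tᶜ) (g := fun k : Fin 4 => z k.castSucc * z k.castSucc * w k)
        (fun k hk => by simp only [if_neg (Finset.mem_compl.1 hk)])]
    ring
  rw [hprod]
  -- a tenth power
  choose sκ hsκ hsκ' using hκ
  obtain ⟨U, hU, hU'⟩ : ∃ U ∈ mu σ, (∏ k, z k * z k * y k) * ∏ k ∈ t, D k (w k) = U * U := by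
    refine ⟨(∏ k, z k) * u * ∏ k ∈ t, hh k (w k) * sκ k, mul_mem_mu (mul_mem_mu
      (prod_mem_mu _ _ fun k _ => hz k) hu) (prod_mem_mu _ _ fun k _ => mul_mem_mu
        (hC.ten_h_mem (hne k.castSucc) (hwm k)).2.2 (hsκ k)), ?_⟩
    rw [Finset.prod_mul_distrib, Finset.prod_mul_distrib, hu']
    simp only [D, hsκ', Finset.prod_mul_distrib]
    ring
  rw [hU']
  have hUm : (U * U) ^ m = 1 := by rw [← hU', mul_pow, ← Finset.prod_pow t]; exact ht
  have hU1 : U ^ m = 1 := by
    rcases mul_self_eq_one_iff.1 (show U ^ m * U ^ m = 1 by rw [← mul_pow, hUm]) with h | h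
    · exact h
    · exfalso
      have h6 := hC.pow_mu hU
      rw [hm, mul_comm, pow_mul, h, show (5 : ℕ) = 2 * 2 + 1 from rfl, pow_succ, pow_mul, neg_one_sq, one_pow,
        one_mul] at h6
      exact h2 (by linear_combination -h6)
  obtain ⟨v, hv, hv'⟩ := hC.root_of_pow (by norm_num) hm.symm hU hU1
  exact ⟨v, hv, by rw [show (10 : ℕ) = 5 * 2 from rfl, pow_mul, hv', pow_two]⟩

/-- Ten coefficients: a vanishing sum of product one avoiding few ratio vectors. -/
theorem exists_zero_sum_ten {ι : Type} [Fintype ι] [DecidableEq ι] (hn : Fintype.card ι = 10) (h2 : (2 : F) ≠ 0)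
    {c : ι → F} (hc : ∀ j, c j ≠ 0) (bad : Finset (ι → F)) (hbad : bad.card ≤ 10) :
    ∃ d : ι → F, (∀ j, d j ∈ mu σ) ∧ ∏ j, d j = 1 ∧ ∑ j, c j * d j = 0 ∧
      ∀ w ∈ bad, ∀ s : F, s ≠ 0 → ∃ j, d j ≠ s * w j := by
  classical
  obtain ⟨e, he⟩ : ∃ e : Fin 5 × Fin 2 ≃ ι,
      c (e (4, 0)) * σ (c (e (4, 0))) = c (e (4, 1)) * σ (c (e (4, 1))) ∨
      (∀ k : Fin 5, c (e (k, 0)) * σ (c (e (k, 0))) ≠ c (e (k, 1)) * σ (c (e (k, 1)))) ∧
        ∀ k : Fin 4, IsSquare (c (e (k.castSucc, 0)) * c (e (k.castSucc, 1))) := by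
    obtain ⟨e₀⟩ : Nonempty (Fin 5 × Fin 2 ≃ ι) := ⟨Fintype.equivOfCardEq (by simp [hn])⟩
    by_cases heq : ∃ a b, a ≠ b ∧ c a * σ (c a) = c b * σ (c b)
    · obtain ⟨a, b, hab, hab'⟩ := heq
      obtain ⟨π, hπa, hπb⟩ : ∃ π : Equiv.Perm ι, π (e₀ (4, 0)) = a ∧ π (e₀ (4, 1)) = b := by
        refine ⟨(Equiv.swap (e₀ (4, 0)) a).trans (Equiv.swap (Equiv.swap (e₀ (4, 0)) a (e₀ (4, 1))) b), ?_, by simp⟩
        rw [Equiv.trans_apply, Equiv.swap_apply_left, Equiv.swap_apply_of_ne_of_ne ?_ hab]
        intro e'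
        have := (Equiv.swap (e₀ (4, 0)) a).injective
          (show Equiv.swap (e₀ (4, 0)) a (e₀ (4, 0)) = Equiv.swap (e₀ (4, 0)) a (e₀ (4, 1)) by
            rw [Equiv.swap_apply_left]; exact e')
        simp at this
      exact ⟨e₀.trans π, Or.inl (by simp only [Equiv.trans_apply, hπa, hπb]; exact hab')⟩
    push Not at heq
    have key : ∀ k : ℕ, k ≤ 4 → ∃ p : Fin k → Fin 2 → ι, Function.Injective (fun x : Fin k × Fin 2 => p x.1 x.2) ∧
        ∀ i, IsSquare (c (p i 0) * c (p i 1)) := by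
      intro k
      induction k with
      | zero => exact fun _ => ⟨finZeroElim, fun x => x.1.elim0, fun i => i.elim0⟩
      | succ k ih =>
        intro hk
        obtain ⟨p, hp, hsq⟩ := ih (by omega)
        let U : Finset ι := (Finset.univ.image fun x : Fin k × Fin 2 => p x.1 x.2)ᶜ
        have hU : 2 < U.card := by
          rw [Finset.card_compl, Finset.card_image_of_injective _ hp, Finset.card_univ, Fintype.card_prod,
            Fintype.card_fin, Fintype.card_fin, hn]
          omega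
        obtain ⟨a, ha, b, hb, hab, hcls⟩ := Finset.exists_ne_map_eq_of_card_lt_of_maps_to
          (s := U) (t := (Finset.univ : Finset Bool)) (f := fun j => decide (IsSquare (c j)))
          (by simpa using hU) fun j _ => Finset.mem_univ _
        have hsqab : IsSquare (c a * c b) := by
          have hiff : IsSquare (c a) ↔ IsSquare (c b) := by simpa using hcls
          have hF2 : ringChar F ≠ 2 := fun hr => h2 (by
            have := ringChar.of_eq hr
            exact_mod_cast CharP.cast_eq_zero F 2)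
          rw [FiniteField.isSquare_iff hF2 (mul_ne_zero (hc a) (hc b)), mul_pow]
          rcases FiniteField.pow_dichotomy hF2 (hc a) with ha' | ha' <;>
            rcases FiniteField.pow_dichotomy hF2 (hc b) with hb' | hb' <;> rw [ha', hb']
          · rw [one_mul]
          · exact absurd ((FiniteField.isSquare_iff hF2 (hc b)).1 (hiff.1 ((FiniteField.isSquare_iff hF2 (hc a)).2 ha')))
              (by rw [hb']; exact fun h => h2 (by linear_combination -h))
          · exact absurd ((FiniteField.isSquare_iff hF2 (hc a)).1 (hiff.2 ((FiniteField.isSquare_iff hF2 (hc b)).2 hb')))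
              (by rw [ha']; exact fun h => h2 (by linear_combination -h))
          · ring
        have hout : ∀ {j}, j ∈ U → ∀ i l, p i l ≠ j := fun {j} hj i l e => (Finset.mem_compl.1 hj)
          (Finset.mem_image.2 ⟨(i, l), Finset.mem_univ _, e⟩)
        refine ⟨Fin.snoc p ![a, b], ?_, fun i => ?_⟩
        · rintro ⟨i, l⟩ ⟨i', l'⟩ h
          refine Fin.lastCases ?_ (fun i => ?_) i h <;> refine Fin.lastCases ?_ (fun i' => ?_) i'
          · simp only [Fin.snoc_last]
            intro h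
            fin_cases l <;> fin_cases l' <;> simp_all [Ne.symm hab]
          · simp only [Fin.snoc_last, Fin.snoc_castSucc]
            intro h
            fin_cases l
            · exact absurd h.symm (hout ha i' l')
            · exact absurd h.symm (hout hb i' l')
          · simp only [Fin.snoc_last, Fin.snoc_castSucc]
            intro h
            fin_cases l'
            · exact absurd h (hout ha i l)
            · exact absurd h (hout hb i l)
          · simp only [Fin.snoc_castSucc]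
            intro h
            have := hp (a₁ := (i, l)) (a₂ := (i', l')) h
            rw [Prod.mk.injEq] at this
            rw [this.1, this.2]
        · refine Fin.lastCases ?_ (fun i => ?_) i
          · simpa only [Fin.snoc_last, Matrix.cons_val_zero, Matrix.cons_val_one] using hsqab
          · simpa only [Fin.snoc_castSucc] using hsq i
    obtain ⟨p, hp, hsq⟩ := key 4 le_rfl
    let U : Finset ι := (Finset.univ.image fun x : Fin 4 × Fin 2 => p x.1 x.2)ᶜ
    have hU : U.card = 2 := by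
      rw [Finset.card_compl, Finset.card_image_of_injective _ hp, Finset.card_univ, Fintype.card_prod,
        Fintype.card_fin, Fintype.card_fin, hn]
    obtain ⟨a, b, hab, hUab⟩ := Finset.card_eq_two.1 hU
    have hout : ∀ {j}, j ∈ U → ∀ i l, p i l ≠ j := fun {j} hj i l e => (Finset.mem_compl.1 hj)
      (Finset.mem_image.2 ⟨(i, l), Finset.mem_univ _, e⟩)
    let E : Fin 5 × Fin 2 → ι := fun x => Fin.snoc (α := fun _ => Fin 2 → ι) p ![a, b] x.1 x.2
    have hEi : Function.Injective E := by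
      rintro ⟨i, l⟩ ⟨i', l'⟩ h
      refine Fin.lastCases ?_ (fun i => ?_) i h <;> refine Fin.lastCases ?_ (fun i' => ?_) i'
      · simp only [E, Fin.snoc_last]
        intro h
        fin_cases l <;> fin_cases l' <;> simp_all [Ne.symm hab]
      · simp only [E, Fin.snoc_last, Fin.snoc_castSucc]
        intro h
        fin_cases l
        · exact absurd h.symm (hout (by simp [hUab]) i' l')
        · exact absurd h.symm (hout (by simp [hUab]) i' l')
      · simp only [E, Fin.snoc_last, Fin.snoc_castSucc]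
        intro h
        fin_cases l'
        · exact absurd h (hout (by simp [hUab]) i l)
        · exact absurd h (hout (by simp [hUab]) i l)
      · simp only [E, Fin.snoc_castSucc]
        intro h
        have := hp (a₁ := (i, l)) (a₂ := (i', l')) h
        rw [Prod.mk.injEq] at this
        rw [this.1, this.2]
    refine ⟨Equiv.ofBijective E ((Fintype.bijective_iff_injective_and_card _).2 ⟨hEi, by simp [hn]⟩),
      Or.inr ⟨fun k => heq _ _ fun e' => absurd (hEi e') (by simp), fun k => ?_⟩⟩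
    simpa [E, Fin.snoc_castSucc] using hsq k
  set α : Fin 5 → F := fun k => c (e (k, 0)) with hαdef
  set β : Fin 5 → F := fun k => c (e (k, 1)) with hβdef
  let R : (ι → F) → Fin 4 → F := fun w k => w (e (k.castSucc, 1)) / w (e (k.castSucc, 0))
  obtain ⟨z, y, hz, hy, hsum, hprod, hyT⟩ : ∃ z y : Fin 5 → F, (∀ k, z k ∈ mu σ) ∧ (∀ k, y k ∈ mu σ) ∧
      ∑ k, z k * (α k + β k * y k) = 0 ∧ ∏ k, z k * z k * y k = 1 ∧
        (fun k : Fin 4 => y k.castSucc) ∉ bad.image R := by
    rcases he with he | ⟨h1, h2'⟩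
    · exact hC.ten_pairs_equal h2 (α := α) (β := β) (fun k => hc _) (fun k => hc _) he _ (Finset.card_image_le.trans hbad)
    · exact hC.ten_pairs_distinct h2 h1 h2' (fun k => hc _) (fun k => hc _) _ (Finset.card_image_le.trans hbad)
  let d : ι → F := fun j => if (e.symm j).2 = 0 then z (e.symm j).1 else z (e.symm j).1 * y (e.symm j).1
  have hd0 : ∀ k, d (e (k, 0)) = z k := fun k => by simp [d]
  have hd1 : ∀ k, d (e (k, 1)) = z k * y k := fun k => by simp [d]
  refine ⟨d, fun j => ?_, ?_, ?_, fun w hw s hs => ?_⟩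
  · simp only [d]; split_ifs; exacts [hz _, mul_mem_mu (hz _) (hy _)]
  · rw [← e.prod_comp, Fintype.prod_prod_type, ← hprod]
    exact Finset.prod_congr rfl fun k _ => by rw [Fin.prod_univ_two, hd0, hd1, mul_assoc]
  · rw [← e.sum_comp, Fintype.sum_prod_type, ← hsum]
    exact Finset.sum_congr rfl fun k _ => by rw [Fin.sum_univ_two, hd0, hd1, hαdef, hβdef]; ring
  · by_contra hall
    push Not at hall
    refine hyT (Finset.mem_image.2 ⟨w, hw, funext fun k => ?_⟩)
    have e0 := hall (e (k.castSucc, 0))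
    have e1 := hall (e (k.castSucc, 1))
    rw [hd0] at e0
    rw [hd1, e0] at e1
    have hw0 : w (e (k.castSucc, 0)) ≠ 0 := fun h0 => mu_ne (hz k.castSucc) (by rw [e0, h0, mul_zero])
    simp only [R]
    rw [div_eq_iff hw0]
    exact mul_left_cancel₀ hs (by linear_combination -e1)

end Circ

end Cfsg.Agent.Classical.MaxUnitMon
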