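import Cfsg.Agent.Lib.Classical.MaxUnitMonEven
import Cfsg.Agent.Lib.Classical.MaxUnitMonTen

/-!
The monomial group of `SU`: elements with a zero entry give one fixing a coordinate line.
-/

set_option autoImplicit false
set_option linter.unusedSectionVars false

namespace Cfsg.Agent.Classical.MaxUnitMon

open Matrix Module MaxTv MaxMon

variable {F : Type*} [Field F] [Fintype F] [DecidableEq F] {ι : Type} [Fintype ι] [DecidableEq ι]

local notation "V" => (ι → F)
local notation "Mn" => Matrix ι ι F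

variable {σ : F ≃+* F} {q : ℕ} {M : Subgroup (GL ι F)}

namespace Ctx

variable (X : Ctx σ q M)
include X

theorem inv_apply {g : GL ι F} (hg : g ∈ M) (i c : ι) :
    ((g⁻¹ : GL ι F) : Mn) i c = σ ((g : Mn) c i) := by
  have h := X.iso g hg (((g⁻¹ : GL ι F) : Mn) *ᵥ Pi.single c 1) (Pi.single i 1)
  rw [mulVec_inv_cancel, dot_single_left, dot_single_right, MaxMon.col_apply, MaxMon.col_apply,
    map_one, one_mul, mul_one] at h
  exact h.symm

theorem inv_mulVec_apply {g : GL ι F} (hg : g ∈ M) (z : V) (i : ι) :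
    (((g⁻¹ : GL ι F) : Mn) *ᵥ z) i = dot σ z ((g : Mn) *ᵥ Pi.single i 1) := by
  have h := X.iso g hg (((g⁻¹ : GL ι F) : Mn) *ᵥ z) (Pi.single i 1)
  rw [mulVec_inv_cancel, dot_single_right, map_one, mul_one] at h
  exact h.symm

theorem not_mon_inv {g : GL ι F} (hmon : ¬ IsMon (g : Mn)) : ¬ IsMon ((g⁻¹ : GL ι F) : Mn) := fun h =>
  hmon (by simpa using h.inv)

/-- A non-monomial element fixing a coordinate line. -/
def Good (M : Subgroup (GL ι F)) : Prop :=
  ∃ k ∈ M, ¬ IsMon (k : Mn) ∧ ∃ c ν, (k : Mn) *ᵥ Pi.single c 1 = Pi.single c ν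

theorem good_of_axis {g : GL ι F} (hg : g ∈ M) (hmon : ¬ IsMon (g : Mn)) {x i : ι}
    (h : ∀ j, j ≠ i → (g : Mn) j x = 0) : Good M := by
  classical
  have hcol : (g : Mn) *ᵥ Pi.single x 1 = Pi.single i ((g : Mn) i x) := funext fun j => by
    rw [MaxMon.col_apply]
    by_cases hj : j = i
    · subst hj; simp
    · rw [Pi.single_eq_of_ne hj, h j hj]
  set π := Equiv.swap i x
  set ε : F := ((Equiv.Perm.sign π : ℤ) : F) with hε
  have hε2 : ε * ε = 1 := by rcases Int.units_eq_one_or (Equiv.Perm.sign π) with h | h <;> simp [hε, h]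
  have hεm : ε ∈ mu σ := by rw [mem_mu, hε, map_intCast]; exact hε2
  obtain ⟨m, hm, hmc, hmz⟩ := X.exists_mon_mem π (Function.update 1 i ε) (fun j => by
    by_cases hj : j = i
    · subst hj; simpa using hεm
    · simp [hj, one_mem_mu]) (by rw [Finset.prod_update_of_mem (Finset.mem_univ i)]; simpa [← hε] using hε2)
  refine ⟨m * g, mul_mem hm hg, fun hmg => hmon ?_, x, (g : Mn) i x * ε, ?_⟩
  · have hmmon : IsMon (m : Mn) := isMon_of_cols fun j => ⟨π j, _, hmc j⟩
    have := hmmon.inv.mul hmg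
    rwa [← Units.val_mul, inv_mul_cancel_left] at this
  · rw [Units.val_mul, ← Matrix.mulVec_mulVec, hcol, single_eq_smul i, Matrix.mulVec_smul, hmc,
      Function.update_self, ← Pi.single_smul, smul_eq_mul, Equiv.swap_apply_left]

theorem pair_cases (hq : 3 ≤ q) {g : GL ι F} (hg : g ∈ M) {a b c : ι} (hab : a ≠ b)
    (ha : ((g⁻¹ : GL ι F) : Mn) a c = 0) (hb : ((g⁻¹ : GL ι F) : Mn) b c = 0) :
    Good M ∨ ∃ S : Finset ι, S.card ≤ 2 ∧ ∀ i ∉ S, (g : Mn) i a = 0 ∧ (g : Mn) i b = 0 := by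
  classical
  obtain ⟨l, hl, hl2, hl3⟩ := X.circ.exists_generic hq
  have hl0 := mu_ne hl
  obtain ⟨d, hdM, hd⟩ := X.exists_diag_mem (pairFun a b l) (fun i => by
    by_cases h1 : i = a
    · subst h1; rw [pairFun_left]; exact hl
    by_cases h2 : i = b
    · subst h2; rw [pairFun_right hab]; exact inv_mem_mu hl
    · rw [pairFun_other h1 h2]; exact one_mem_mu) (pairFun_prod hab hl0)
  have hdx : ∀ z : V, (d : Mn) *ᵥ z =
      z + ((l - 1) * z a) • Pi.single a 1 + ((l⁻¹ - 1) * z b) • Pi.single b 1 := fun z => by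
    funext i
    rw [hd]
    rcases eq_or_ne i a with rfl | hia
    · simp [pairFun_left, Pi.single_eq_of_ne hab]; ring
    rcases eq_or_ne i b with rfl | hib
    · simp [pairFun_right hab, Pi.single_eq_of_ne hab.symm]; ring
    simp [pairFun_other hia hib, Pi.single_eq_of_ne hia, Pi.single_eq_of_ne hib]
  set k := g * d * g⁻¹ with hk
  have hkx : ∀ z : V, (k : Mn) *ᵥ z =
      z + ((l - 1) * ((Pi.single a 1 ᵥ* ((g⁻¹ : GL ι F) : Mn)) ⬝ᵥ z)) • ((g : Mn) *ᵥ Pi.single a 1)
        + ((l⁻¹ - 1) * ((Pi.single b 1 ᵥ* ((g⁻¹ : GL ι F) : Mn)) ⬝ᵥ z)) • ((g : Mn) *ᵥ Pi.single b 1) :=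
    fun z => by
      rw [hk, Units.val_mul, Units.val_mul, ← Matrix.mulVec_mulVec, ← Matrix.mulVec_mulVec, hdx,
        Matrix.mulVec_add, Matrix.mulVec_add, Matrix.mulVec_smul, Matrix.mulVec_smul, mulVec_inv_cancel,
        ← Matrix.dotProduct_mulVec, ← Matrix.dotProduct_mulVec, single_dotProduct, single_dotProduct,
        one_mul, one_mul]
  by_cases hmon : IsMon (k : Mn)
  · refine Or.inr ?_
    obtain ⟨S, hS, hS'⟩ := mon_rankTwo hmon hl0 hl2 hl3 hkx (by rw [vecMul_inv_dot]; simp)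
      (by rw [vecMul_inv_dot]; simp [Pi.single_eq_of_ne hab, Pi.single_eq_of_ne hab.symm])
      (by rw [vecMul_inv_dot]; simp [Pi.single_eq_of_ne hab, Pi.single_eq_of_ne hab.symm])
      (by rw [vecMul_inv_dot]; simp)
    exact ⟨S, hS, fun i hi => by simpa [MaxMon.col_apply] using hS' i hi⟩
  · refine Or.inl ⟨k, mul_mem (mul_mem hg hdM) (inv_mem hg), hmon, c, 1, ?_⟩
    rw [hkx, ← Matrix.dotProduct_mulVec, ← Matrix.dotProduct_mulVec, single_dotProduct, single_dotProduct,
      MaxMon.col_apply, MaxMon.col_apply, ha, hb]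
    simp

/-- Two zeros in a column of the inverse. -/
theorem good_of_two_zeros (h5 : 5 ≤ Fintype.card ι) (hq : 3 ≤ q) {g : GL ι F} (hg : g ∈ M) (hmon : ¬ IsMon (g : Mn)) {a b c : ι}
    (hab : a ≠ b) (ha : ((g⁻¹ : GL ι F) : Mn) a c = 0) (hb : ((g⁻¹ : GL ι F) : Mn) b c = 0) : Good M := by
  classical
  by_contra hG
  obtain ⟨S, hS, hS'⟩ := (X.pair_cases hq hg hab ha hb).resolve_left hG
  obtain ⟨s₁, -, hs₁⟩ : ∃ i, True ∧ (g : Mn) i a ≠ 0 := by
    by_contra h
    push Not at h
    exact X.supp_col g a (Finset.eq_empty_of_forall_notMem fun i hi => mem_supp.1 hi (h i trivial))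
  have hs₁S : s₁ ∈ S := by_contra fun h => hs₁ (hS' s₁ h).1
  -- the coordinate plane goes to a coordinate plane
  have hspan : ∃ α β : F, (g : Mn) *ᵥ (α • Pi.single a 1 + β • Pi.single b 1) = Pi.single s₁ 1 := by
    obtain ⟨s₂, hs₂⟩ : ∃ s₂, S ⊆ {s₁, s₂} := by
      rcases (S.erase s₁).eq_empty_or_nonempty with h | ⟨s₂, hs₂⟩
      · exact ⟨s₁, fun x hx => by
          by_cases hxs : x = s₁
          · simp [hxs]
          · exact absurd (Finset.mem_erase.2 ⟨hxs, hx⟩) (by rw [h]; simp)⟩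
      · refine ⟨s₂, fun x hx => ?_⟩
        by_cases hxs : x = s₁
        · simp [hxs]
        · have : (S.erase s₁).card ≤ 1 := by rw [Finset.card_erase_of_mem hs₁S]; omega
          simp [Finset.card_le_one.1 this x (Finset.mem_erase.2 ⟨hxs, hx⟩) s₂ hs₂]
    set A := (g : Mn) s₁ a
    set B := (g : Mn) s₁ b
    set C := (g : Mn) s₂ a
    set D := (g : Mn) s₂ b
    have hval : ∀ (α β : F) x, ((g : Mn) *ᵥ (α • Pi.single a 1 + β • Pi.single b 1)) x =
        α * (g : Mn) x a + β * (g : Mn) x b := fun α β x => by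
      rw [Matrix.mulVec_add, Matrix.mulVec_smul, Matrix.mulVec_smul, Pi.add_apply, Pi.smul_apply, Pi.smul_apply,
        MaxMon.col_apply, MaxMon.col_apply, smul_eq_mul, smul_eq_mul]
    have hkill : ∀ α β : F, α * A + β * B = 0 → α * C + β * D = 0 → α = 0 ∧ β = 0 := fun α β h1 h2 => by
      have h0 : α • Pi.single a 1 + β • Pi.single b 1 = (0 : V) := gl_mulVec_injective g (by
        show (g : Mn) *ᵥ _ = (g : Mn) *ᵥ 0
        rw [Matrix.mulVec_zero]
        funext x
        rw [hval]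
        by_cases hx1 : x = s₁
        · rw [hx1]; exact h1
        by_cases hx2 : x = s₂
        · rw [hx2]; exact h2
        · have hxS : x ∉ S := fun h => by simpa [hx1, hx2] using hs₂ h
          rw [(hS' x hxS).1, (hS' x hxS).2]
          simp)
      exact ⟨by simpa [hab] using congrFun h0 a, by simpa [Ne.symm hab] using congrFun h0 b⟩
    have hne12 : s₁ ≠ s₂ := fun e => by
      have := (hkill (-B) A (by ring) (by
        show -B * (g : Mn) s₂ a + A * (g : Mn) s₂ b = 0
        rw [← e]; ring)).2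
      exact hs₁ this
    have hdet : A * D - B * C ≠ 0 := fun e => by
      have h := hkill (-B) A (by ring) (by linear_combination e)
      exact hs₁ h.2
    refine ⟨D / (A * D - B * C), -C / (A * D - B * C), funext fun x => ?_⟩
    rw [hval]
    by_cases hx1 : x = s₁
    · rw [hx1, Pi.single_eq_same]
      show _ * A + _ * B = _
      rw [div_mul_eq_mul_div, div_mul_eq_mul_div, ← add_div, div_eq_one_iff_eq hdet]
      ring
    by_cases hx2 : x = s₂
    · rw [hx2, Pi.single_eq_of_ne (Ne.symm hne12)]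
      show _ * C + _ * D = _
      rw [div_mul_eq_mul_div, div_mul_eq_mul_div, ← add_div, div_eq_zero_iff]
      left
      ring
    · have hxS : x ∉ S := fun h => by simpa [hx1, hx2] using hs₂ h
      rw [(hS' x hxS).1, (hS' x hxS).2, Pi.single_eq_of_ne hx1]
      ring
  obtain ⟨α, β, hαβ⟩ := hspan
  have hzero : ∀ x, x ≠ a → x ≠ b → ((g⁻¹ : GL ι F) : Mn) x s₁ = 0 := fun x hxa hxb => by
    have h1 := congrArg (fun z => (((g⁻¹ : GL ι F) : Mn) *ᵥ z) x) hαβ
    simp only [inv_mulVec_cancel, MaxMon.col_apply] at h1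
    rw [← h1]
    simp [hxa, hxb]
  obtain ⟨x, -, hx⟩ := Finset.exists_mem_notMem_of_card_lt_card (s := ({a, b} : Finset ι)) (t := Finset.univ)
    (lt_of_le_of_lt Finset.card_le_two (by rw [Finset.card_univ]; have := X.card; omega))
  obtain ⟨y, -, hy⟩ := Finset.exists_mem_notMem_of_card_lt_card (s := ({a, b, x} : Finset ι)) (t := Finset.univ)
    (lt_of_le_of_lt Finset.card_le_three (by rw [Finset.card_univ]; have := X.card; omega))
  obtain ⟨z, -, hz⟩ := Finset.exists_mem_notMem_of_card_lt_card (s := ({a, b, x, y} : Finset ι)) (t := Finset.univ)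
    (lt_of_le_of_lt Finset.card_le_four (by rw [Finset.card_univ]; have := X.card; omega))
  simp only [Finset.mem_insert, Finset.mem_singleton, not_or] at hx hy hz
  obtain ⟨i₁, hi₁⟩ : ∃ i, (g : Mn) i x ≠ 0 := by
    by_contra h
    push Not at h
    exact X.supp_col g x (Finset.eq_empty_of_forall_notMem fun i hi => mem_supp.1 hi (h i))
  by_cases hax : ∀ j, j ≠ i₁ → (g : Mn) j x = 0
  · exact hG (X.good_of_axis hg hmon hax)
  push Not at hax
  obtain ⟨i₂, hne, hi₂⟩ := hax
  have hout : ∀ w, w ≠ a → w ≠ b → w ≠ x → ∀ i, i ≠ i₁ → i ≠ i₂ → (g : Mn) i x = 0 ∧ (g : Mn) i w = 0 := by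
    intro w hwa hwb hwx i h1 h2
    obtain ⟨T, hT, hT'⟩ := (X.pair_cases hq hg (Ne.symm hwx) (hzero x hx.1 hx.2) (hzero w hwa hwb)).resolve_left hG
    refine hT' i fun hi => ?_
    have hsub : ({i, i₁, i₂} : Finset ι) ⊆ T := by
      intro j hj
      simp only [Finset.mem_insert, Finset.mem_singleton] at hj
      rcases hj with rfl | rfl | rfl
      · exact hi
      · by_contra hj; exact hi₁ (hT' _ hj).1
      · by_contra hj; exact hi₂ (hT' _ hj).1
    have := Finset.card_le_card hsub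
    rw [Finset.card_eq_three.2 ⟨i, i₁, i₂, h1, h2, hne.symm, rfl⟩] at this
    omega
  have hinj : Function.Injective ![x, y, z] := by
    intro p r h
    fin_cases p <;> fin_cases r <;> simp_all
  obtain ⟨w, hw0, hw1, hw2, hws⟩ := exists_ker ((g : Mn) i₁) ((g : Mn) i₂) ![x, y, z] hinj
  refine hw0 (gl_mulVec_injective g ?_)
  show (g : Mn) *ᵥ w = (g : Mn) *ᵥ 0
  rw [Matrix.mulVec_zero]
  funext i
  show (g : Mn) i ⬝ᵥ w = 0
  by_cases h1 : i = i₁
  · rw [h1]; exact hw1
  by_cases h2 : i = i₂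
  · rw [h2]; exact hw2
  refine Finset.sum_eq_zero fun j _ => ?_
  by_cases hj : ∃ p, j = ![x, y, z] p
  · obtain ⟨p, rfl⟩ := hj
    fin_cases p
    · simp [(hout y hy.1 hy.2.1 hy.2.2 i h1 h2).1]
    · simp [(hout y hy.1 hy.2.1 hy.2.2 i h1 h2).2]
    · simp [(hout z hz.1 hz.2.1 hz.2.2.1 i h1 h2).2]
  · push Not at hj
    rw [hws j hj, mul_zero]

/-- A column with small support. -/
theorem good_of_small_col (h5 : 5 ≤ Fintype.card ι) (hq : 3 ≤ q) {g : GL ι F} (hg : g ∈ M) (hmon : ¬ IsMon (g : Mn)) {i : ι}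
    {S : Finset ι} (hS : S.card ≤ 4) (h : ∀ j, j ∉ S → (g : Mn) j i = 0) : Good M := by
  obtain ⟨a, -, ha⟩ := Finset.exists_mem_notMem_of_card_lt_card (s := S) (t := Finset.univ)
    (by rw [Finset.card_univ]; have := X.card; omega)
  obtain ⟨b, -, hb⟩ := Finset.exists_mem_notMem_of_card_lt_card (s := insert a S) (t := Finset.univ)
    (lt_of_le_of_lt (Finset.card_insert_le _ _) (by rw [Finset.card_univ]; have := X.card; omega))
  rw [Finset.mem_insert, not_or] at hb
  exact X.good_of_two_zeros (by omega) hq (inv_mem hg) (X.not_mon_inv hmon) (Ne.symm hb.1) (c := i)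
    (by rw [inv_inv]; exact h a ha) (by rw [inv_inv]; exact h b hb.2)

/-- One zero entry. -/
theorem good_of_zero (h5 : 5 ≤ Fintype.card ι) (hq : 3 ≤ q) (h2 : (2 : F) ≠ 0) {g : GL ι F} (hg : g ∈ M) (hmon : ¬ IsMon (g : Mn))
    {c i : ι} (hci : (g : Mn) c i = 0) : Good M := by
  classical
  set v := ((g⁻¹ : GL ι F) : Mn) *ᵥ Pi.single c 1 with hv
  have hvi : v i = 0 := by rw [hv, MaxMon.col_apply, X.inv_apply hg, hci, map_zero]
  have hgv : (g : Mn) *ᵥ v = Pi.single c 1 := mulVec_inv_cancel g _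
  set u := (g : Mn) *ᵥ Pi.single i 1 with hu
  by_cases hx : ∃ x ∈ mu σ, x ^ Fintype.card ι ≠ 1
  · obtain ⟨x, hx, hxn⟩ := hx
    obtain ⟨d, hd, hdz⟩ := X.exists_diag_mem
      (Function.update (fun _ => x) i (x ^ (Fintype.card ι - 1))⁻¹) (fun j => by
        by_cases hj : j = i
        · subst hj; simpa using inv_mem_mu (show x ^ (Fintype.card ι - 1) ∈ mu σ by
            simpa using zpow_mem_mu hx ((Fintype.card ι - 1 : ℕ) : ℤ))
        · simpa [hj] using hx) (by
        rw [Finset.prod_update_of_mem (Finset.mem_univ i), Finset.prod_const, ← Finset.erase_eq,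
          Finset.card_erase_of_mem (Finset.mem_univ i), Finset.card_univ,
          inv_mul_cancel₀ (pow_ne_zero _ (mu_ne hx))])
    set xi := (x ^ (Fintype.card ι - 1))⁻¹ with hxi
    set k := g * d * g⁻¹ with hk
    have hxne : xi - x ≠ 0 := fun e => hxn (by
      have h1 : x * x ^ (Fintype.card ι - 1) = 1 := by
        calc x * x ^ (Fintype.card ι - 1) = xi * x ^ (Fintype.card ι - 1) := by rw [sub_eq_zero.1 e]
          _ = 1 := inv_mul_cancel₀ (pow_ne_zero _ (mu_ne hx))
      rwa [← pow_succ', show Fintype.card ι - 1 + 1 = Fintype.card ι by have := X.card; omega] at h1)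
    have hdform : ∀ z : V, (d : Mn) *ᵥ z = x • z + ((xi - x) * z i) • Pi.single i 1 := fun z => funext fun j => by
      rw [hdz]
      by_cases hj : j = i
      · subst hj; simp; ring
      · simp [hj]
    have hkz : ∀ z : V, (k : Mn) *ᵥ z = x • z + ((xi - x) * dot σ z u) • u := fun z => by
      rw [hk, Units.val_mul, Units.val_mul, ← Matrix.mulVec_mulVec, ← Matrix.mulVec_mulVec, hdform,
        Matrix.mulVec_add, Matrix.mulVec_smul, Matrix.mulVec_smul, mulVec_inv_cancel, ← hu,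
        X.inv_mulVec_apply hg, ← hu]
    by_cases hkm : IsMon (k : Mn)
    · obtain ⟨π, y, -, hπ⟩ := hkm.exists_perm
      refine X.good_of_small_col (by omega) hq hg hmon (i := i) (S := supp u) ?_ fun j hj => ?_
      · by_contra hlt
        obtain ⟨a, b, b', ha, hb, hb', hab, hab', hbb'⟩ := Finset.two_lt_card_iff.1 (show 2 < (supp u).card by omega)
        rw [mem_supp] at ha hb hb'
        have hval : ∀ j, j ≠ a → ((k : Mn) *ᵥ Pi.single a 1) j = (xi - x) * σ (u a) * u j := fun j hj => by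
          rw [hkz, dot_single_left]; simp [hj]
        have hne : ∀ j, j ≠ a → u j ≠ 0 → π a = j := fun j hj huj => by
          by_contra h
          have := hval j hj
          rw [hπ, Pi.single_eq_of_ne (Ne.symm h), eq_comm, mul_eq_zero, mul_eq_zero] at this
          rcases this with (e | e) | e
          exacts [hxne e, ha (σ.map_eq_zero_iff.1 e), huj e]
        exact hbb' ((hne b (Ne.symm hab) hb).symm.trans (hne b' (Ne.symm hab') hb'))
      · have := eq_zero_of_notMem hj
        rwa [hu, MaxMon.col_apply] at this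
    · refine ⟨k, mul_mem (mul_mem hg hd) (inv_mem hg), hkm, c, x, ?_⟩
      rw [hkz, ← X.inv_mulVec_apply hg, ← hv, hvi]
      simp [← Pi.single_smul]
  push Not at hx
  have hqn : q + 1 ≤ Fintype.card ι := by
    rw [← X.circ.card_mu]
    refine le_trans (Finset.card_le_card (t := (Polynomial.nthRoots (Fintype.card ι) (1 : F)).toFinset) fun z hz => ?_)
      ((Multiset.toFinset_card_le _).trans (Polynomial.card_nthRoots _ _))
    rw [Multiset.mem_toFinset, Polynomial.mem_nthRoots (by have := X.card; omega)]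
    exact hx z hz
  by_cases hz2 : ∃ j, j ≠ i ∧ v j = 0
  · obtain ⟨j, hji, hvj⟩ := hz2
    rw [hv, MaxMon.col_apply] at hvj hvi
    exact X.good_of_two_zeros (by omega) hq hg hmon hji hvj hvi
  push Not at hz2
  obtain ⟨p, hp, r, hr, hpr, hnorm⟩ := Finset.exists_ne_map_eq_of_card_lt_of_maps_to
    (s := Finset.univ.erase i) (t := (fix σ).erase 0) (f := fun j => v j * σ (v j)) (by
      rw [Finset.card_erase_of_mem (Finset.mem_univ i), Finset.card_univ,
        Finset.card_erase_of_mem (by simp [mem_fix]), X.circ.card_fix]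
      omega) (fun j hj => by
      rw [Finset.mem_coe, Finset.mem_erase] at hj ⊢
      exact ⟨X.norm_ne (hz2 j hj.1), mem_fix.2 (X.norm_fix _)⟩)
  simp only [Finset.mem_erase] at hp hr
  set ξ := v r / v p with hξ
  have hξm : ξ ∈ mu σ := by
    rw [mem_mu, hξ, map_div₀, div_mul_div_comm, ← hnorm, div_self (X.norm_ne (hz2 p hp.1))]
  have hm1 : (-1 : F) ∈ mu σ := by rw [mem_mu, map_neg, map_one]; ring
  obtain ⟨d, hd, -, hdz⟩ := X.exists_mon_mem (Equiv.swap p r)
    (Function.update (Function.update (Function.update 1 p ξ) r ξ⁻¹) i (-1)) (fun j => by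
      by_cases hji : j = i
      · subst hji; simpa using hm1
      by_cases hjr : j = r
      · subst hjr; simpa [hji] using inv_mem_mu hξm
      by_cases hjp : j = p
      · subst hjp; simpa [hji, hjr] using hξm
      · simp [hji, hjr, hjp, one_mem_mu]) (by
    rw [Equiv.Perm.sign_swap hpr, ← Finset.prod_subset (Finset.subset_univ ({i, p, r} : Finset ι)) fun j _ hj => by
        simp only [Finset.mem_insert, Finset.mem_singleton, not_or] at hj
        simp [hj.1, hj.2.1, hj.2.2],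
      Finset.prod_insert (by simp [Ne.symm hp.1, Ne.symm hr.1]), Finset.prod_pair hpr]
    simp [hp.1, hr.1, hpr, mu_ne hξm])
  set α : V := Pi.single i (-2) with hα
  set β : V := Pi.single p ξ - Pi.single r 1 with hβ
  set w : V := Pi.single r 1 - Pi.single p ξ⁻¹ with hw
  have hdform : ∀ z : V, (d : Mn) *ᵥ z = z + (α ⬝ᵥ z) • Pi.single i 1 + (β ⬝ᵥ z) • w := fun z => funext fun j => by
    obtain ⟨j, rfl⟩ : ∃ j', j = Equiv.swap p r j' := ⟨Equiv.swap p r j, by simp⟩
    rw [hdz]
    simp only [hα, hβ, hw, single_dotProduct, sub_dotProduct, Pi.add_apply, Pi.smul_apply, Pi.sub_apply,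
      smul_eq_mul]
    have hξ0 := mu_ne hξm
    by_cases hjp : j = p
    · subst hjp; simp [Ne.symm hp.1, hp.1, hpr, Ne.symm hpr, Ne.symm hr.1, hr.1]
    by_cases hjr : j = r
    · subst hjr
      simp [Ne.symm hp.1, hp.1, hpr, Ne.symm hpr, Ne.symm hr.1, hr.1]
      field_simp
      ring
    rw [Equiv.swap_apply_of_ne_of_ne hjp hjr]
    by_cases hji : j = i
    · subst hji; simp [hjp, hjr]; ring
    · simp [hji, hjp, hjr]
  have hdd : ∀ z : V, (d : Mn) *ᵥ ((d : Mn) *ᵥ z) = z := fun z => funext fun j => by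
    obtain ⟨j, rfl⟩ : ∃ j', j = Equiv.swap p r j' := ⟨Equiv.swap p r j, by simp⟩
    rw [hdz]
    obtain ⟨j, rfl⟩ : ∃ j', j = Equiv.swap p r j' := ⟨Equiv.swap p r j, by simp⟩
    rw [hdz, Equiv.swap_apply_self]
    have hξ0 := mu_ne hξm
    by_cases hjp : j = p
    · subst hjp; simp [hp.1, hpr, Ne.symm hpr, hr.1, hξ0]
    by_cases hjr : j = r
    · subst hjr; simp [hp.1, hpr, hr.1, hξ0]
    rw [Equiv.swap_apply_of_ne_of_ne hjp hjr]
    by_cases hji : j = i
    · subst hji; simp
    · simp [hji, hjp, hjr]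
  have hdv : (d : Mn) *ᵥ v = v := by
    rw [hdform, hα, hβ, single_dotProduct, sub_dotProduct, single_dotProduct, single_dotProduct, hvi, hξ,
      div_mul_cancel₀ _ (hz2 p hp.1)]
    simp
  set k := g * d * g⁻¹ with hk
  have hkx : ∀ z : V, (k : Mn) *ᵥ z = z + ((α ᵥ* ((g⁻¹ : GL ι F) : Mn)) ⬝ᵥ z) • u
      + ((β ᵥ* ((g⁻¹ : GL ι F) : Mn)) ⬝ᵥ z) • ((g : Mn) *ᵥ w) := fun z => by
    rw [hk, Units.val_mul, Units.val_mul, ← Matrix.mulVec_mulVec, ← Matrix.mulVec_mulVec, hdform,
      Matrix.mulVec_add, Matrix.mulVec_add, Matrix.mulVec_smul, Matrix.mulVec_smul, mulVec_inv_cancel,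
      ← Matrix.dotProduct_mulVec, ← Matrix.dotProduct_mulVec, hu]
  by_cases hkm : IsMon (k : Mn)
  · obtain ⟨S, hS, hS'⟩ := mon_involution hkm (fun z => by
      rw [hk, Units.val_mul, Units.val_mul, ← Matrix.mulVec_mulVec, ← Matrix.mulVec_mulVec,
        ← Matrix.mulVec_mulVec, ← Matrix.mulVec_mulVec, inv_mulVec_cancel, hdd, mulVec_inv_cancel]) hkx
    refine X.good_of_small_col (by omega) hq hg hmon (i := i) hS fun j hj => ?_
    have h1 := hS' u j hj
    rw [hkx] at h1
    have hu1 : (α ᵥ* ((g⁻¹ : GL ι F) : Mn)) ⬝ᵥ u = -2 := by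
      rw [hu, vecMul_inv_dot, hα, single_dotProduct]; simp
    have hu2 : (β ᵥ* ((g⁻¹ : GL ι F) : Mn)) ⬝ᵥ u = 0 := by
      rw [hu, vecMul_inv_dot, hβ, sub_dotProduct, single_dotProduct, single_dotProduct]
      simp [hp.1, hr.1]
    rw [hu1, hu2] at h1
    simp only [Pi.add_apply, Pi.smul_apply, smul_eq_mul, zero_mul, add_zero] at h1
    have h3 : u j = 0 := by
      have : (2 : F) * u j = 0 := by linear_combination -h1
      exact (mul_eq_zero.1 this).resolve_left h2
    rwa [hu, MaxMon.col_apply] at h3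
  · refine ⟨k, mul_mem (mul_mem hg hd) (inv_mem hg), hkm, c, 1, ?_⟩
    rw [hk, Units.val_mul, Units.val_mul, ← Matrix.mulVec_mulVec, ← Matrix.mulVec_mulVec, ← hv, hdv, hgv]

end Ctx

end Cfsg.Agent.Classical.MaxUnitMon
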