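import Cfsg.Agent.Lib.Classical.MaxUnitCircle

/-!
Nine elements of norm one with a vanishing weighted sum and product one: five and four vanish separately, and
opposite powers of the product fix it.
-/

set_option autoImplicit false
set_option linter.unusedSectionVars false

namespace Cfsg.Agent.Classical.MaxUnitMon

open Finset

variable {F : Type*} [Field F] [Fintype F] [DecidableEq F] {σ : F ≃+* F} {q : ℕ}

namespace Circ

variable (hC : Circ σ q)
include hC

/-- Values shared by two pairs of circles. -/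
theorem exists_common {a b c e : F} (ha : a ≠ 0) (hb : b ≠ 0) (hc : c ≠ 0) (he : e ≠ 0) (T : F) :
    ∃ U : Finset F, q + 2 ≤ U.card ∧ ∀ u ∈ U, ∃ w ∈ mu σ, ∃ x ∈ mu σ, ∃ y ∈ mu σ, ∃ z ∈ mu σ,
      a * w + b * x = u ∧ u + (c * y + e * z) = T := by
  classical
  set S := (Finset.univ.filter fun u => ∃ α ∈ mu σ, ∃ β ∈ mu σ, a * α + b * β = u)
  set S' := (Finset.univ.filter fun u => ∃ α ∈ mu σ, ∃ β ∈ mu σ, c * α + e * β = u)
  have h1 : (S'.image fun u => T - u).card = S'.card :=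
    Finset.card_image_of_injective _ fun u u' h => sub_right_injective h
  have h2 := Finset.card_union_add_card_inter S (S'.image fun u => T - u)
  have h3 := Finset.card_le_univ (S ∪ S'.image fun u => T - u)
  rw [hC.hF] at h3
  have h4 : q ^ 2 + q + 2 ≤ 2 * S.card := hC.le_card_two ha hb
  have h5 : q ^ 2 + q + 2 ≤ 2 * S'.card := hC.le_card_two hc he
  refine ⟨S ∩ S'.image fun u => T - u, by omega, fun u hu => ?_⟩
  rw [Finset.mem_inter, Finset.mem_image] at hu
  obtain ⟨h6, u', h7, h8⟩ := hu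
  simp only [S, S', Finset.mem_filter, Finset.mem_univ, true_and] at h6 h7
  obtain ⟨w, hw, x, hx, e1⟩ := h6
  obtain ⟨y, hy, z, hz, e2⟩ := h7
  exact ⟨w, hw, x, hx, y, hy, z, hz, e1, by linear_combination e2 - h8⟩

/-- Five coefficients: many solutions with last entry one. -/
theorem exists_five_many {a : Fin 5 → F} (ha : ∀ k, a k ≠ 0) :
    ∃ U : Finset F, q + 2 ≤ U.card ∧ ∀ u ∈ U, ∃ x : Fin 5 → F, (∀ k, x k ∈ mu σ) ∧ x 4 = 1 ∧
      ∑ k, a k * x k = 0 ∧ a 0 * x 0 + a 1 * x 1 = u := by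
  obtain ⟨U, hU, h⟩ := hC.exists_common (ha 0) (ha 1) (ha 2) (ha 3) (-(a 4))
  refine ⟨U, hU, fun u hu => ?_⟩
  obtain ⟨w, hw, x, hx, y, hy, z, hz, e1, e2⟩ := h u hu
  refine ⟨![w, x, y, z, 1], fun k => ?_, rfl, ?_, e1⟩
  · fin_cases k
    exacts [hw, hx, hy, hz, one_mem_mu]
  · rw [Fin.sum_univ_five]
    simp only [Matrix.cons_val_zero, Matrix.cons_val_one, Matrix.cons_val]
    linear_combination e1 + e2

/-- Four coefficients: two solutions in different directions. -/
theorem exists_four_two {b : Fin 4 → F} (hb : ∀ k, b k ≠ 0) :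
    ∃ y : Fin 2 → Fin 4 → F, (∀ l k, y l k ∈ mu σ) ∧ (∀ l, ∑ k, b k * y l k = 0) ∧
      ∀ l l' (s : F), (∀ k, y l' k = s * y l k) → l = l' := by
  classical
  obtain ⟨U, hU, h⟩ := hC.exists_common (hb 0) (hb 1) (hb 2) (hb 3) 0
  obtain ⟨v, hv⟩ := Finset.card_pos.1 (show 0 < U.card by omega)
  obtain ⟨v', hv', hvv⟩ := Finset.exists_mem_notMem_of_card_lt_card (s := (mu σ).image fun s => s * v) (t := U)
    (lt_of_le_of_lt Finset.card_image_le (by rw [hC.card_mu]; omega))
  obtain ⟨w, hw, x, hx, y, hy, z, hz, e1, e2⟩ := h v hv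
  obtain ⟨w', hw', x', hx', y', hy', z', hz', e1', e2'⟩ := h v' hv'
  refine ⟨![![w, x, y, z], ![w', x', y', z']], fun l k => ?_, fun l => ?_, fun l l' s hs => ?_⟩
  · fin_cases l <;> fin_cases k
    exacts [hw, hx, hy, hz, hw', hx', hy', hz']
  · fin_cases l <;> simp [Fin.sum_univ_four]
    · linear_combination e1 + e2
    · linear_combination e1' + e2'
  · have h0 := hs 0
    have h1 := hs 1
    fin_cases l <;> fin_cases l' <;> simp at h0 h1 ⊢
    · refine hvv (Finset.mem_image.2 ⟨s, ?_, by linear_combination b 0 * (-h0) + b 1 * (-h1) + e1' - s * e1⟩)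
      rw [show s = w' * w⁻¹ by rw [h0, mul_inv_cancel_right₀ (mu_ne hw)]]
      exact mul_mem_mu hw' (inv_mem_mu hw)
    · have hs0 : s ≠ 0 := fun e => mu_ne hw (by rw [h0, e, zero_mul])
      have hsm : s ∈ mu σ := by
        rw [show s = w * w'⁻¹ by rw [h0, mul_inv_cancel_right₀ (mu_ne hw')]]
        exact mul_mem_mu hw (inv_mem_mu hw')
      refine hvv (Finset.mem_image.2 ⟨s⁻¹, inv_mem_mu hsm, ?_⟩)
      rw [← e1, h0, h1, ← e1']
      field_simp

/-- Nine coefficients: a vanishing sum of product one avoiding few ratio vectors. -/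
theorem exists_zero_sum_nine {ι : Type} [Fintype ι] [DecidableEq ι] (hn : Fintype.card ι = 9) (hq : 3 ≤ q)
    {c : ι → F} (hc : ∀ j, c j ≠ 0) (bad : Finset (ι → F)) (hbad : bad.card ≤ 9) :
    ∃ d : ι → F, (∀ j, d j ∈ mu σ) ∧ ∏ j, d j = 1 ∧ ∑ j, c j * d j = 0 ∧
      ∀ w ∈ bad, ∀ s : F, s ≠ 0 → ∃ j, d j ≠ s * w j := by
  classical
  obtain ⟨e⟩ : Nonempty (Fin 5 ⊕ Fin 4 ≃ ι) := ⟨Fintype.equivOfCardEq (by simp [hn])⟩
  obtain ⟨U, hU, hx⟩ := hC.exists_five_many (a := fun k => c (e (Sum.inl k))) fun k => hc _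
  choose! x hxm hx4 hxs hxu using hx
  obtain ⟨y, hym, hys, hyi⟩ := hC.exists_four_two (b := fun k => c (e (Sum.inr k))) fun k => hc _
  -- one of the candidates avoids all the ratio vectors
  obtain ⟨⟨u, l⟩, hul, hav⟩ : ∃ p ∈ U ×ˢ (Finset.univ : Finset (Fin 2)), ∀ w ∈ bad, ∀ s t : F, s ≠ 0 → t ≠ 0 →
      ¬ ((∀ k, x p.1 k = s * w (e (Sum.inl k))) ∧ ∀ k, y p.2 k = t * w (e (Sum.inr k))) := by
    by_contra hcon
    push Not at hcon
    choose! g hg s t hs ht hA hB using hcon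
    have hle := Finset.card_le_card_of_injOn g hg fun p hp p' hp' he => ?_
    · rw [Finset.card_product, Finset.card_univ, Fintype.card_fin] at hle
      omega
    rw [Finset.mem_coe] at hp hp'
    have h4 := hA p hp 4
    have h4' := hA p' hp' 4
    rw [← he] at h4'
    rw [hx4 _ (Finset.mem_product.1 hp).1] at h4
    rw [hx4 _ (Finset.mem_product.1 hp').1] at h4'
    have hw4 : g p (e (Sum.inl 4)) ≠ 0 := fun e0 => one_ne_zero (by rw [h4, e0, mul_zero])
    have hss : s p = s p' := mul_right_cancel₀ hw4 (h4.symm.trans h4')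
    refine Prod.ext ?_ (hyi p.2 p'.2 (t p' / t p) fun k => ?_)
    · rw [← hxu _ (Finset.mem_product.1 hp).1, ← hxu _ (Finset.mem_product.1 hp').1, hA p hp 0, hA p hp 1,
        hA p' hp' 0, hA p' hp' 1, ← he, hss]
    · rw [hB p hp k, hB p' hp' k, ← he, ← mul_assoc, div_mul_cancel₀ _ (ht p hp)]
  have hu := (Finset.mem_product.1 hul).1
  set P := (∏ k, x u k) * ∏ k, y l k with hP
  have hPm : P ∈ mu σ := mul_mem_mu (prod_mem_mu _ _ fun k _ => hxm u hu k) (prod_mem_mu _ _ fun k _ => hym l k)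
  have hP0 := mu_ne hPm
  let d : ι → F := fun j => Sum.elim (fun k => P⁻¹ * x u k) (fun k => P * y l k) (e.symm j)
  have hdA : ∀ k, d (e (Sum.inl k)) = P⁻¹ * x u k := fun k => by simp [d]
  have hdB : ∀ k, d (e (Sum.inr k)) = P * y l k := fun k => by simp [d]
  refine ⟨d, fun j => ?_, ?_, ?_, fun w hw s hs => ?_⟩
  · simp only [d]
    rcases e.symm j with k | k
    · exact mul_mem_mu (inv_mem_mu hPm) (hxm u hu k)
    · exact mul_mem_mu hPm (hym l k)
  · rw [← e.prod_comp, Fintype.prod_sum_type]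
    simp only [hdA, hdB, Finset.prod_mul_distrib, Finset.prod_const, Finset.card_univ, Fintype.card_fin]
    rw [show P⁻¹ ^ 5 * (∏ k, x u k) * (P ^ 4 * ∏ k, y l k) = P⁻¹ ^ 5 * P ^ 4 * P by rw [hP]; ring]
    field_simp
  · rw [← e.sum_comp, Fintype.sum_sum_type]
    simp only [hdA, hdB, mul_left_comm (c _), ← Finset.mul_sum, hxs u hu, hys l, mul_zero, add_zero]
  · by_contra hall
    push Not at hall
    refine hav w hw (P * s) (P⁻¹ * s) (mul_ne_zero hP0 hs) (mul_ne_zero (inv_ne_zero hP0) hs) ⟨fun k => ?_, fun k => ?_⟩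
    · have := hall (e (Sum.inl k))
      rw [hdA] at this
      rw [mul_assoc, ← this, ← mul_assoc, mul_inv_cancel₀ hP0, one_mul]
    · have := hall (e (Sum.inr k))
      rw [hdB] at this
      rw [mul_assoc, ← this, ← mul_assoc, inv_mul_cancel₀ hP0, one_mul]

end Circ

end Cfsg.Agent.Classical.MaxUnitMon
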