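import Cfsg.Agent.Lib.Classical.MaxUnitMonEight
import Cfsg.Agent.Lib.Classical.MaxUnitMonNine

/-!
The monomial group of `SU` and one further element in odd characteristic.
-/

set_option autoImplicit false
set_option linter.unusedSectionVars false

namespace Cfsg.Agent.Classical.MaxUnitMon

open Matrix Module MaxTv MaxMon

variable {F : Type*} [Field F] [Fintype F] [DecidableEq F] {ι : Type} [Fintype ι] [DecidableEq ι]

local notation "V" => (ι → F)
local notation "Mn" => Matrix ι ι F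

variable {σ : F ≃+* F} {q : ℕ} {M : Subgroup (GL ι F)}

theorem four_pow_gt : ∀ k : ℕ, 2 * k + 13 < 4 ^ (k + 2)
  | 0 => by norm_num
  | k + 1 => by
    have := four_pow_gt k
    have : 4 ^ (k + 1 + 2) = 4 * 4 ^ (k + 2) := by rw [pow_succ']
    omega

namespace Ctx

variable (X : Ctx σ q M)
include X

/-- In odd characteristic some non-monomial element fixes a coordinate line. -/
theorem exists_good (h5 : 5 ≤ Fintype.card ι) (hq : 3 ≤ q) (h2 : (2 : F) ≠ 0) {g : GL ι F} (hg : g ∈ M) (hmon : ¬ IsMon (g : Mn)) :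
    Good M := by
  classical
  by_cases hz : ∃ a b, (g : Mn) a b = 0
  · obtain ⟨a, b, hab⟩ := hz
    exact X.good_of_zero (by omega) hq h2 hg hmon hab
  push Not at hz
  obtain ⟨c, i, hci⟩ : ∃ c i : ι, c ≠ i := Fintype.exists_pair_of_one_lt_card (by have := X.card; omega)
  have hvne : ∀ a b, ((g⁻¹ : GL ι F) : Mn) a b ≠ 0 := fun a b => by
    rw [X.inv_apply hg]; exact fun e => hz b a (σ.map_eq_zero_iff.1 e)
  have hconj : ∀ (d : ι → F) (D : GL ι F), (∀ (z : V) j, ((D : Mn) *ᵥ z) j = d j * z j) →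
      ((g * D * g⁻¹ : GL ι F) : Mn) i c = ∑ j, ((g : Mn) i j * σ ((g : Mn) c j)) * d j := fun d D hDz => by
    rw [← MaxMon.col_apply ((g * D * g⁻¹ : GL ι F) : Mn) i c, Units.val_mul, Units.val_mul, ← Matrix.mulVec_mulVec,
      ← Matrix.mulVec_mulVec, Matrix.mulVec, dotProduct]
    refine Finset.sum_congr rfl fun j _ => ?_
    rw [hDz, MaxMon.col_apply, X.inv_apply hg]
    ring
  rcases X.card with ⟨hn6, -⟩ | hn10 | hn12 | hn8 | ⟨hn4, -⟩ | hn9
  rotate_left 4
  · omega
  · -- nine coordinates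
    obtain ⟨d, hd, hprod, hsum, hbad⟩ := X.circ.exists_zero_sum_nine hn9 hq
      (c := fun j => (g : Mn) i j * σ ((g : Mn) c j))
      (fun j => mul_ne_zero (hz i j) fun e => hz c j (σ.map_eq_zero_iff.1 e))
      (Finset.univ.image fun c' j => ((g⁻¹ : GL ι F) : Mn) j c' / ((g⁻¹ : GL ι F) : Mn) j c)
      (Finset.card_image_le.trans (by rw [Finset.card_univ, hn9]))
    obtain ⟨D, hD, hDz⟩ := X.exists_diag_mem d hd hprod
    refine X.good_of_zero (by omega) hq h2 (mul_mem (mul_mem hg hD) (inv_mem hg)) (fun hkm => ?_)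
      ((hconj d D hDz).trans hsum)
    obtain ⟨π, y, hy, hπ⟩ := hkm.exists_perm
    obtain ⟨j, hj⟩ := hbad _ (Finset.mem_image.2 ⟨π c, Finset.mem_univ _, rfl⟩) (y c) (hy c)
    apply hj
    have h1 := congrArg (fun z => (((g⁻¹ : GL ι F) : Mn) *ᵥ z) j) (hπ c)
    simp only [Units.val_mul, ← Matrix.mulVec_mulVec, inv_mulVec_cancel] at h1
    rw [hDz, MaxMon.col_apply, single_eq_smul (π c), Matrix.mulVec_smul, Pi.smul_apply, smul_eq_mul,
      MaxMon.col_apply] at h1
    rw [mul_div_assoc', eq_div_iff (hvne j c)]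
    exact h1
  · exact X.good_six hn6 hq h2 hg hz
  · -- ten coordinates: avoid the ratio vectors of the columns of the inverse
    obtain ⟨d, hd, hprod, hsum, hbad⟩ := X.circ.exists_zero_sum_ten hn10 h2
      (c := fun j => (g : Mn) i j * σ ((g : Mn) c j))
      (fun j => mul_ne_zero (hz i j) fun e => hz c j (σ.map_eq_zero_iff.1 e))
      (Finset.univ.image fun c' j => ((g⁻¹ : GL ι F) : Mn) j c' / ((g⁻¹ : GL ι F) : Mn) j c)
      (Finset.card_image_le.trans (by rw [Finset.card_univ, hn10]))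
    obtain ⟨D, hD, hDz⟩ := X.exists_diag_mem d hd hprod
    refine X.good_of_zero (by omega) hq h2 (mul_mem (mul_mem hg hD) (inv_mem hg)) (fun hkm => ?_)
      ((hconj d D hDz).trans hsum)
    obtain ⟨π, y, hy, hπ⟩ := hkm.exists_perm
    obtain ⟨j, hj⟩ := hbad _ (Finset.mem_image.2 ⟨π c, Finset.mem_univ _, rfl⟩) (y c) (hy c)
    apply hj
    have h1 := congrArg (fun z => (((g⁻¹ : GL ι F) : Mn) *ᵥ z) j) (hπ c)
    simp only [Units.val_mul, ← Matrix.mulVec_mulVec, inv_mulVec_cancel] at h1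
    rw [hDz, MaxMon.col_apply, single_eq_smul (π c), Matrix.mulVec_smul, Pi.smul_apply, smul_eq_mul,
      MaxMon.col_apply] at h1
    rw [mul_div_assoc', eq_div_iff (hvne j c)]
    exact h1
  swap
  · exact X.good_eight hn8 hq h2 hg hz
  obtain ⟨J, -, hJ⟩ := Finset.exists_subset_card_eq (s := (Finset.univ : Finset ι))
    (n := Fintype.card ι / 2 - 3) (by rw [Finset.card_univ]; omega)
  obtain ⟨j₀, hj₀⟩ := Finset.card_pos.1 (show 0 < J.card by omega)
  set J' := J.erase j₀
  -- avoid the ratios of the other columns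
  let r : ι → ((j : ι) → j ∈ J' → F) := fun c' j _ =>
    ((g⁻¹ : GL ι F) : Mn) j c' * ((g⁻¹ : GL ι F) : Mn) j₀ c /
      (((g⁻¹ : GL ι F) : Mn) j₀ c' * ((g⁻¹ : GL ι F) : Mn) j c)
  have hcount : (Finset.univ.image r).card < (J'.pi fun _ => mu σ).card := by
    refine lt_of_le_of_lt Finset.card_image_le ?_
    rw [Finset.card_univ, Finset.card_pi, Finset.prod_const, X.circ.card_mu,
      Finset.card_erase_of_mem hj₀, hJ]
    have h13 := hn12
    obtain ⟨k, hk⟩ : ∃ k, Fintype.card ι / 2 = k + 6 := ⟨Fintype.card ι / 2 - 6, by omega⟩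
    rw [show Fintype.card ι / 2 - 3 - 1 = k + 2 by omega]
    have h4 := four_pow_gt k
    exact lt_of_lt_of_le (by omega) (Nat.pow_le_pow_left (show 4 ≤ q + 1 by omega) _)
  obtain ⟨ρ', hρ', hρ''⟩ := Finset.exists_mem_notMem_of_card_lt_card hcount
  rw [Finset.mem_pi] at hρ'
  obtain ⟨d, e, he, hd, hdJ, hprod, hsum⟩ := X.circ.exists_zero_sum hn12 (J := J) (by omega)
    (ρ := fun j => if h : j ∈ J' then ρ' j h else 1) (fun j => by
      split_ifs with h
      · exact hρ' j h
      · exact one_mem_mu)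
    (c := fun j => (g : Mn) i j * σ ((g : Mn) c j))
    (fun j _ => mul_ne_zero (hz i j) fun e => hz c j (σ.map_eq_zero_iff.1 e))
  obtain ⟨D, hD, hDz⟩ := X.exists_diag_mem d hd hprod
  set k := g * D * g⁻¹ with hk
  have hkM : k ∈ M := mul_mem (mul_mem hg hD) (inv_mem hg)
  have hki : (k : Mn) i c = 0 := by
    rw [← MaxMon.col_apply (k : Mn) i c, hk, Units.val_mul, Units.val_mul, ← Matrix.mulVec_mulVec,
      ← Matrix.mulVec_mulVec, Matrix.mulVec, dotProduct, ← hsum]
    refine Finset.sum_congr rfl fun j _ => ?_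
    rw [hDz, MaxMon.col_apply, X.inv_apply hg]
    ring
  refine X.good_of_zero (by omega) hq h2 hkM (fun hkm => hρ'' ?_) hki
  obtain ⟨π, y, hy, hπ⟩ := hkm.exists_perm
  have hrel : ∀ j, d j * ((g⁻¹ : GL ι F) : Mn) j c = y c * ((g⁻¹ : GL ι F) : Mn) j (π c) := fun j => by
    have h1 := congrArg (fun z => (((g⁻¹ : GL ι F) : Mn) *ᵥ z) j) (hπ c)
    simp only [hk, Units.val_mul, ← Matrix.mulVec_mulVec, inv_mulVec_cancel] at h1
    rw [hDz, MaxMon.col_apply, single_eq_smul (π c), Matrix.mulVec_smul, Pi.smul_apply, smul_eq_mul,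
      MaxMon.col_apply] at h1
    exact h1
  refine Finset.mem_image.2 ⟨π c, Finset.mem_univ _, funext fun j => funext fun hj => ?_⟩
  have hj' : j ∈ J := Finset.mem_of_mem_erase hj
  have e1 := hrel j
  have e0 := hrel j₀
  rw [hdJ j hj', dif_pos hj] at e1
  rw [hdJ j₀ hj₀, dif_neg (Finset.notMem_erase j₀ J), mul_one] at e0
  show _ / _ = ρ' j hj
  rw [div_eq_iff (mul_ne_zero (hvne _ _) (hvne _ _))]
  refine mul_left_cancel₀ (hy c) ?_
  linear_combination -(((g⁻¹ : GL ι F) : Mn) j₀ c) * e1 + (ρ' j hj * ((g⁻¹ : GL ι F) : Mn) j c) * e0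

/-- A non-monomial element fixing a coordinate line gives all transvections in odd characteristic. -/
theorem upt_of_good (hq : 3 ≤ q) (h2 : (2 : F) ≠ 0) (hG : Good M) :
    ∀ u, dot σ u u = 0 → UPt σ (dot σ) M u := by
  classical
  have hs := X.herm
  obtain ⟨k, hkM, hkm, c, ν, hkc⟩ := hG
  have hνm : ν ∈ mu σ := by
    have := X.iso k hkM (Pi.single c 1) (Pi.single c 1)
    rw [hkc, X.dot_self_single, dot_single_left, Pi.single_eq_same] at this
    exact mem_mu.2 this
  have hrow : ∀ j, j ≠ c → (k : Mn) c j = 0 := fun j hj => by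
    have := X.iso k hkM (Pi.single j 1) (Pi.single c 1)
    rw [hkc, dot_single_right, dot_single_right, MaxMon.col_apply, Pi.single_eq_of_ne (Ne.symm hj), zero_mul,
      mul_eq_zero] at this
    exact this.resolve_right fun e => mu_ne hνm (σ.map_eq_zero_iff.1 e)
  -- pseudo-reflections with a compensation at `c`
  let IsE : V → Prop := fun u => ∀ l ∈ mu σ, ∃ E ∈ M, ∀ z : V,
    (E : Mn) *ᵥ z = z + ((l - 1) * dot σ z u) • u + ((l⁻¹ - 1) * z c) • Pi.single c 1
  have hdiagE : ∀ j, j ≠ c → IsE (Pi.single j 1) := fun j hj l hl => by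
    obtain ⟨d, hd, hdz⟩ := X.exists_diag_mem (pairFun j c l) (fun i => by
      by_cases h1 : i = j
      · subst h1; rw [pairFun_left]; exact hl
      by_cases h2' : i = c
      · subst h2'; rw [pairFun_right hj]; exact inv_mem_mu hl
      · rw [pairFun_other h1 h2']; exact one_mem_mu) (pairFun_prod hj (mu_ne hl))
    refine ⟨d, hd, fun z => funext fun i => ?_⟩
    rw [hdz, dot_single_right, map_one, mul_one]
    by_cases h1 : i = j
    · subst h1; simp [pairFun_left, hj]; ring
    by_cases h2' : i = c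
    · subst h2'; simp [pairFun_right hj, Ne.symm hj]; ring
    · simp [pairFun_other h1 h2', h1, h2']
  have hmapE : ∀ u, IsE u → ∀ h ∈ M, ∀ κ, (h : Mn) *ᵥ Pi.single c 1 = Pi.single c κ →
      IsE ((h : Mn) *ᵥ u) := by
    intro u hu h hh κ hhc l hl
    obtain ⟨E, hE, hEz⟩ := hu l hl
    have hκ : κ * σ κ = 1 := by
      have := X.iso h hh (Pi.single c 1) (Pi.single c 1)
      rwa [hhc, X.dot_self_single, dot_single_left, Pi.single_eq_same] at this
    refine ⟨h * E * h⁻¹, mul_mem (mul_mem hh hE) (inv_mem hh), fun z => ?_⟩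
    have e1 : dot σ (((h⁻¹ : GL ι F) : Mn) *ᵥ z) u = dot σ z ((h : Mn) *ᵥ u) := by
      rw [← X.iso h hh, mulVec_inv_cancel]
    have e2 : (((h⁻¹ : GL ι F) : Mn) *ᵥ z) c = z c * σ κ := by
      rw [X.inv_mulVec_apply hh, hhc, dot_single_right]
    rw [Units.val_mul, Units.val_mul, ← Matrix.mulVec_mulVec, ← Matrix.mulVec_mulVec, hEz, Matrix.mulVec_add,
      Matrix.mulVec_add, Matrix.mulVec_smul, Matrix.mulVec_smul, mulVec_inv_cancel, hhc, e1, e2]
    congr 1
    rw [← Pi.single_smul, ← Pi.single_smul, smul_eq_mul, smul_eq_mul]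
    congr 1
    linear_combination ((l⁻¹ - 1) * z c) * hκ
  -- a column of `k` off the axes
  obtain ⟨j, hjc, a, hja, hoff⟩ : ∃ j, j ≠ c ∧ ∃ a, (k : Mn) a j ≠ 0 ∧ ∃ b, b ≠ a ∧ (k : Mn) b j ≠ 0 := by
    by_contra h
    push Not at h
    refine hkm fun j => ?_
    by_cases hjc : j = c
    · refine ⟨c, fun i hi => ?_⟩
      rw [hjc, ← MaxMon.col_apply (k : Mn) i c, hkc, Pi.single_eq_of_ne hi]
    · by_cases hz : ∀ i, (k : Mn) i j = 0
      · exact ⟨c, fun i _ => hz i⟩
      · push Not at hz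
        obtain ⟨a, ha⟩ := hz
        exact ⟨a, h j hjc a ha⟩
  set u := (k : Mn) *ᵥ Pi.single j 1 with hu
  have huE : IsE u := hmapE _ (hdiagE j hjc) k hkM ν hkc
  have huc : u c = 0 := by rw [hu, MaxMon.col_apply, hrow j hjc]
  have huu : dot σ u u = 1 := by rw [hu, X.iso k hkM, X.dot_self_single]
  -- a second vector
  obtain ⟨v, hvE, hvc, hvv, hG0, hG1⟩ : ∃ v, IsE v ∧ v c = 0 ∧ dot σ v v = 1 ∧
      dot σ u v * σ (dot σ u v) ≠ 0 ∧ dot σ u v * σ (dot σ u v) ≠ 1 := by
    by_cases hN : ∃ i, u i ≠ 0 ∧ u i * σ (u i) ≠ 1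
    · obtain ⟨i, hi, hi1⟩ := hN
      have hic : i ≠ c := fun e => hi (e ▸ huc)
      refine ⟨Pi.single i 1, hdiagE i hic, by simp [Ne.symm hic], X.dot_self_single i, ?_, ?_⟩
      · rw [dot_single_right, map_one, mul_one]; exact X.norm_ne hi
      · rw [dot_single_right, map_one, mul_one]; exact hi1
    push Not at hN
    obtain ⟨b, hba, hjb⟩ := hoff
    have hua : u a ≠ 0 := by rwa [hu, MaxMon.col_apply]
    have hub : u b ≠ 0 := by rwa [hu, MaxMon.col_apply]
    obtain ⟨z, hz, hz1, hzT, hz2⟩ := X.circ.trace_exists ({5 / 2} : Finset F) (by simp; omega)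
    rw [Finset.mem_singleton] at hzT
    obtain ⟨d, hd, -, hdz⟩ := X.exists_mon_mem 1
      (Function.update (Function.update (Function.update 1 a z) b z) c (z * z)⁻¹) (fun i => by
        by_cases h1 : i = c
        · subst h1; simpa using inv_mem_mu (mul_mem_mu hz hz)
        by_cases h3 : i = b
        · subst h3; simpa [h1] using hz
        by_cases h4 : i = a
        · subst h4; simpa [h1, h3] using hz
        · simp [h1, h3, h4, one_mem_mu]) (by
      have hac : a ≠ c := fun e => hua (e ▸ huc)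
      have hbc : b ≠ c := fun e => hub (e ▸ huc)
      rw [← Finset.prod_subset (Finset.subset_univ ({a, b, c} : Finset ι)) fun i _ hi => by
          simp only [Finset.mem_insert, Finset.mem_singleton, not_or] at hi
          simp [hi.1, hi.2.1, hi.2.2],
        Finset.prod_insert (by simp [hac, Ne.symm hba]), Finset.prod_pair hbc]
      simp [hac, hbc, Ne.symm hba]
      field_simp [mu_ne hz])
    have hdc : (d : Mn) *ᵥ Pi.single c 1 = Pi.single c (z * z)⁻¹ := funext fun i => by
      have := hdz (Pi.single c 1) i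
      simp only [Equiv.Perm.one_apply] at this
      rw [this]
      by_cases h1 : i = c
      · subst h1; simp
      · simp [h1]
    set v := (d : Mn) *ᵥ u with hv
    have hvi : ∀ i, v i = (Function.update (Function.update 1 a z) b z : ι → F) i * u i := fun i => by
      have := hdz u i
      simp only [Equiv.Perm.one_apply] at this
      rw [hv, this]
      by_cases h1 : i = c
      · subst h1; rw [huc, mul_zero, mul_zero]
      · rw [Function.update_of_ne h1]
    have hab : dot σ u v = 2 * σ z - 1 := by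
      have hac : a ≠ b := Ne.symm hba
      have hsum : dot σ u v - dot σ u u = (σ z - 1) * (u a * σ (u a)) + (σ z - 1) * (u b * σ (u b)) := by
        rw [dot, dot, ← Finset.sum_sub_distrib,
          Finset.sum_eq_add_of_mem a b (Finset.mem_univ _) (Finset.mem_univ _) hac]
        · simp [hvi, hac]; ring
        · intro i _ hi
          simp [hvi, hi.1, hi.2]
      rw [huu, hN a hua, hN b hub] at hsum
      linear_combination hsum
    have hG : dot σ u v * σ (dot σ u v) = 5 - 2 * (z + σ z) := by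
      rw [hab, map_sub, map_mul, hs.invol, map_ofNat, map_one]
      linear_combination 4 * mem_mu.1 hz
    refine ⟨v, hmapE u huE d hd _ hdc, by rw [hvi, huc, mul_zero], by rw [hv, X.iso d hd, huu], ?_, ?_⟩
    · rw [hG]
      exact fun e => hzT (by rw [eq_div_iff h2]; linear_combination -e)
    · rw [hG]
      exact fun e => hz2 (mul_left_cancel₀ h2 (by linear_combination -e))
  set φ := dot σ u v with hφ
  set G := φ * σ φ with hGdef
  obtain ⟨a', ha', e', he', hA2, hpair⟩ := X.circ.exists_eigen_pair (G := G)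
    (by rw [hGdef]; exact X.norm_fix _) hG0
  set l := e' * a' with hl
  set m := e' * σ a' with hm
  have hlm : l ∈ mu σ := mul_mem_mu he' ha'
  have hmm : m ∈ mu σ := mul_mem_mu he' (by rw [mu_inv ha']; exact inv_mem_mu ha')
  have hEA : e' + σ e' - (a' + σ a') ≠ 0 := fun e => hA2 (by rw [e, zero_mul] at hpair; linear_combination hpair)
  have hprod : l * m = e' ^ 2 := by rw [hl, hm]; linear_combination e' ^ 2 * mem_mu.1 ha'
  have hcond : l + m + (l - 1) * (m - 1) * G = 2 * e' := by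
    rw [hl, hm]
    linear_combination e' * hpair + (e' ^ 2 * G) * mem_mu.1 ha' - G * mem_mu.1 he'
  have hm1 : m ≠ 1 := fun e => hEA (by
    have : a' = e' := by rw [hm, mu_inv ha'] at e; field_simp [mu_ne ha'] at e; linear_combination -e
    rw [this]; ring)
  have hφ0 : φ ≠ 0 := fun e => hG0 (by rw [hGdef, e, zero_mul])
  obtain ⟨E₁, hE₁, hE₁z⟩ := huE l hlm
  obtain ⟨E₂, hE₂, hE₂z⟩ := hvE m hmm
  set T := E₁ * E₂ with hT
  have hTM : T ∈ M := mul_mem hE₁ hE₂
  have hsingle_u : dot σ (Pi.single c 1) u = 0 := by rw [dot_single_left, huc, map_zero, mul_zero]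
  have hTz : ∀ z : V, z c = 0 → (T : Mn) *ᵥ z = z + ((m - 1) * dot σ z v) • v +
      ((l - 1) * (dot σ z u + (m - 1) * dot σ z v * σ φ)) • u := fun z hz => by
    rw [hT, Units.val_mul, ← Matrix.mulVec_mulVec, hE₂z, hE₁z]
    have hvu : dot σ v u = σ φ := by rw [hs.herm v u]
    simp only [hz, mul_zero, zero_smul, add_zero, hs.add_left, hs.smul_left, hvu, Pi.add_apply, Pi.smul_apply,
      Pi.zero_apply, hvc, smul_zero]
  set δ := (m - 1) * φ with hδ
  set γ := e' - m with hγ
  set y := γ • u + δ • v with hy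
  have hTu : (T : Mn) *ᵥ u = e' • u + y := by
    rw [hTz u huc, huu, ← hφ, hy, hγ, hδ]
    match_scalars <;> first | ring1 | linear_combination hcond | linear_combination -hcond
  have hTy : (T : Mn) *ᵥ y = e' • y := by
    rw [hTz y (by simp [hy, huc, hvc])]
    have e1 : dot σ y v = γ * φ + δ := by rw [hy, hs.add_left, hs.smul_left, hs.smul_left, hvv, ← hφ, mul_one]
    have e2 : dot σ y u = γ + δ * σ φ := by
      rw [hy, hs.add_left, hs.smul_left, hs.smul_left, huu, hs.herm v u, ← hφ, mul_one]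
    rw [e1, e2, hy, hγ, hδ]
    match_scalars
    · linear_combination (e' - m) * hcond - 0 * hprod + ((l - 1) * (m - 1) * G) * 0 +
        m * hcond - hprod
    · ring
  clear_value y
  have hy0 : y ≠ 0 := by
    intro e
    have e1 := congrArg (fun x => dot σ x v) e
    have e2 := congrArg (fun x => dot σ x u) e
    simp only [hy, hs.add_left, hs.smul_left, hs.toSesq.zero_left, hvv, huu, ← hφ, hs.herm v u, mul_one] at e1 e2
    exact mul_ne_zero (mul_ne_zero (sub_ne_zero.2 hm1) hφ0) (sub_ne_zero.2 hG1)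
      (by linear_combination φ * e2 - e1)
  have hyy : dot σ y y = 0 ∧ dot σ u y ≠ 0 := by
    have hTi := X.iso T hTM
    have h1 := hTi u y
    rw [hTu, hTy, hs.add_left, hs.smul_left, hs.smul_right, hs.smul_right] at h1
    have hee := mem_mu.1 he'
    have hyy0 : dot σ y y = 0 := by
      refine (mul_eq_zero.1 (show σ e' * dot σ y y = 0 by linear_combination h1 - dot σ u y * hee)).resolve_left
        fun e => mu_ne he' (σ.map_eq_zero_iff.1 e)
    refine ⟨hyy0, fun h0 => hy0 ?_⟩
    have h0' := hs.refl _ _ h0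
    have hδ0 : δ ≠ 0 := mul_ne_zero (sub_ne_zero.2 hm1) hφ0
    have hyv : dot σ y v = 0 := by
      have hh := hyy0
      nth_rw 2 [hy] at hh
      rw [hs.add_right, hs.smul_right, hs.smul_right, h0', mul_zero, zero_add, mul_eq_zero] at hh
      exact hh.resolve_left fun e => hδ0 (σ.map_eq_zero_iff.1 e)
    rw [hy, hs.add_left, hs.smul_left, hs.smul_left, hvv, ← hφ, mul_one] at hyv
    rw [hy, hs.add_left, hs.smul_left, hs.smul_left, huu, hs.herm v u, ← hφ, mul_one] at h0'
    exact absurd (by linear_combination φ * h0' - hyv)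
      (mul_ne_zero (mul_ne_zero (sub_ne_zero.2 hm1) hφ0) (sub_ne_zero.2 hG1))
  obtain ⟨hyy, huy⟩ := hyy
  have hyu : dot σ y u ≠ 0 := fun e => huy (hs.refl _ _ e)
  set K := T ^ (q + 1)
  have hpow : ∀ r : ℕ, ((T ^ r : GL ι F) : Mn) *ᵥ u = e' ^ r • (u + ((r : F) / e') • y) ∧
      ((T ^ r : GL ι F) : Mn) *ᵥ y = e' ^ r • y ∧
      ((T ^ r : GL ι F) : Mn) *ᵥ Pi.single c 1 = (l * m)⁻¹ ^ r • (Pi.single c 1 : V) ∧
      ∀ x : V, x c = 0 → dot σ x u = 0 → dot σ x v = 0 → ((T ^ r : GL ι F) : Mn) *ᵥ x = x := by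
    have he0 := mu_ne he'
    have hTc : (T : Mn) *ᵥ Pi.single c 1 = (l * m)⁻¹ • Pi.single c 1 := by
      have h1 : dot σ (Pi.single c 1) v = 0 := by rw [dot_single_left, hvc, map_zero, mul_zero]
      rw [hT, Units.val_mul, ← Matrix.mulVec_mulVec, hE₂z, h1, hE₁z]
      simp only [mul_zero, zero_smul, add_zero, hs.add_left, hs.smul_left, hsingle_u, Pi.add_apply, Pi.smul_apply,
        Pi.single_eq_same, smul_eq_mul, mul_one, mul_inv]
      match_scalars
      ring
    intro r
    induction r with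
    | zero =>
      refine ⟨by simp, by simp, ?_, by simp⟩
      rw [pow_zero, Units.val_one, Matrix.one_mulVec, pow_zero, one_smul]
    | succ r ih =>
      obtain ⟨i1, i2, i3, i4⟩ := ih
      refine ⟨?_, ?_, ?_, fun x hx hxu hxv => ?_⟩
      · rw [pow_succ', Units.val_mul, ← Matrix.mulVec_mulVec, i1, Matrix.mulVec_smul, Matrix.mulVec_add,
          Matrix.mulVec_smul, hTu, hTy]
        match_scalars <;> push_cast <;> field_simp <;> ring
      · rw [pow_succ', Units.val_mul, ← Matrix.mulVec_mulVec, i2, Matrix.mulVec_smul, hTy, smul_smul, ← pow_succ]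
      · rw [pow_succ', Units.val_mul, ← Matrix.mulVec_mulVec, i3, Matrix.mulVec_smul, hTc, smul_smul, ← pow_succ]
      · rw [pow_succ', Units.val_mul, ← Matrix.mulVec_mulVec, i4 x hx hxu hxv, hTz x hx, hxu, hxv]
        simp
  obtain ⟨p1, p2, p3, p4⟩ := hpow (q + 1)
  rw [X.circ.pow_mu he', Nat.cast_succ, X.circ.cast_q, zero_add, one_smul] at p1
  rw [X.circ.pow_mu he', one_smul] at p2
  rw [inv_pow, X.circ.pow_mu (mul_mem_mu hlm hmm), inv_one, one_smul] at p3
  set c₀ := (1 / e') / dot σ u y with hc₀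
  have hKz : ∀ z : V, (K : Mn) *ᵥ z = z + (c₀ * dot σ z y) • y := fun z => by
    set z₁ := z - z c • Pi.single c 1 with hz₁
    set α := dot σ z₁ y / dot σ u y
    set β := (dot σ z₁ u - α) / dot σ y u
    set x := z₁ - α • u - β • y with hx
    have hyc : y c = 0 := by simp [hy, huc, hvc]
    have hxc : x c = 0 := by simp [hx, hz₁, huc, hyc]
    have hxy : dot σ x y = 0 := by
      rw [hx, hs.toSesq.sub_left, hs.toSesq.sub_left, hs.smul_left, hs.smul_left, hyy, mul_zero, sub_zero,
        div_mul_cancel₀ _ huy, sub_self]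
    have hxu : dot σ x u = 0 := by
      rw [hx, hs.toSesq.sub_left, hs.toSesq.sub_left, hs.smul_left, hs.smul_left, huu, mul_one,
        div_mul_cancel₀ _ hyu, sub_self]
    have hxv : dot σ x v = 0 := by
      have hh := hxy
      rw [hy, hs.add_right, hs.smul_right, hs.smul_right, hxu, mul_zero, zero_add, mul_eq_zero] at hh
      exact hh.resolve_left fun e => mul_ne_zero (sub_ne_zero.2 hm1) hφ0 (σ.map_eq_zero_iff.1 e)
    have hcy : dot σ (Pi.single c 1) y = 0 := by rw [dot_single_left, hyc, map_zero, mul_zero]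
    have hz : z = x + α • u + β • y + z c • Pi.single c 1 := by rw [hx, hz₁]; abel
    have hzy : dot σ z y = α * dot σ u y := by
      conv_lhs => rw [hz]
      simp only [hs.add_left, hs.smul_left, hxy, hyy, hcy, mul_zero, zero_add, add_zero]
    rw [hzy]
    conv_lhs => rw [hz]
    rw [Matrix.mulVec_add, Matrix.mulVec_add, Matrix.mulVec_add, Matrix.mulVec_smul, Matrix.mulVec_smul,
      Matrix.mulVec_smul, p1, p2, p3, p4 x hxc hxu hxv]
    nth_rw 2 [hz]
    have hcc : c₀ * (α * dot σ u y) = α * (1 / e') := by rw [hc₀]; field_simp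
    rw [hcc]
    module
  have hc0 : c₀ ≠ 0 := div_ne_zero (div_ne_zero one_ne_zero (mu_ne he')) huy
  have hcs : c₀ + σ c₀ = 0 := by
    have h1 := X.iso K (pow_mem hTM _) u u
    rw [hKz, hs.add_left, hs.add_right, hs.add_right, hs.smul_left, hs.smul_left, hs.smul_right, hs.smul_right,
      hyy, map_mul, ← hs.herm y u, huu] at h1
    refine mul_right_cancel₀ (b := dot σ u y * dot σ y u) (mul_ne_zero huy hyu) ?_
    linear_combination h1
  exact X.upt_of_tr1 hq ⟨K, pow_mem hTM _, hKz⟩ hyy hy0 hcs hc0 (Or.inr h2) (Or.inl (lt_of_lt_of_le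
    (Finset.card_lt_card (Finset.ssubset_univ_iff.2 fun e => mem_supp.1 (e ▸ Finset.mem_univ c)
      (by simp [hy, huc, hvc]))) (Finset.card_univ (α := ι)).le))

/-- Odd `q`. -/
theorem upt_odd (h5 : 5 ≤ Fintype.card ι) (hq : 3 ≤ q) (h2 : (2 : F) ≠ 0) {g : GL ι F} (hg : g ∈ M)
    (hmon : ¬ IsMon (g : Mn)) : ∀ u, dot σ u u = 0 → UPt σ (dot σ) M u :=
  X.upt_of_good hq h2 (X.exists_good h5 hq h2 hg hmon)

end Ctx

end Cfsg.Agent.Classical.MaxUnitMon
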