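import Cfsg.Agent.Lib.Classical.MaxUnitCircle

/-!
The fields with twenty-five and eleven elements: finite lemmas for six coordinates.
-/

set_option autoImplicit false
set_option linter.unusedSectionVars false

namespace Cfsg.Agent.Classical.MaxUnitMon

/-- Pairs standing for `a + b √2` over `ZMod 5`. -/
abbrev Z25 := ZMod 5 × ZMod 5

namespace Z25

def mul' (x y : Z25) : Z25 := (x.1 * y.1 + 2 * x.2 * y.2, x.1 * y.2 + x.2 * y.1)

def conj' (x : Z25) : Z25 := (x.1, -x.2)

def nm (x : Z25) : ZMod 5 := x.1 * x.1 - 2 * x.2 * x.2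

/-- The circle. -/
def circle : List Z25 := [(1, 0), (3, 2), (2, 2), (4, 0), (2, 3), (3, 3)]

/-- The ratios not reached with two equal weights. -/
def miss : List Z25 := [(0, 2), (0, 3), (1, 0), (1, 2), (1, 3), (2, 0), (2, 1), (2, 4), (3, 1), (3, 4)]

/-- A move on three weights. -/
def tri (a b c : Z25) : Bool :=
  circle.any fun x => circle.any fun y =>
    !(x == (1, 0) && y == (1, 0)) &&
      (mul' (x - (1, 0)) a + mul' (y - (1, 0)) b + mul' (conj' (mul' x y) - (1, 0)) c == (0, 0))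

theorem tri_or_miss : ∀ w : Z25, w ≠ (0, 0) → tri (1, 0) (1, 0) w = true ∨ w ∈ miss := by decide +kernel

/-- Equal norms only for equal elements. -/
def sep (x y : Z25) : Bool := !(nm x == nm y) || x == y

theorem four_miss : ∀ x ∈ miss, ∀ y ∈ miss, ∀ z ∈ miss, ∀ w ∈ miss,
    (!(x + y + z + w == (3, 0) && sep x y && sep x z && sep x w && sep y z && sep y w && sep z w) ||
      (tri (1, 0) x y || tri (1, 0) x z || tri (1, 0) x w || tri (1, 0) y z || tri (1, 0) y w ||
        tri (1, 0) z w)) = true := by decide +kernel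

theorem sep_of {x y : Z25} (h : nm x = nm y → x = y) : sep x y = true := by
  by_cases e : nm x = nm y
  · simp [sep, h e]
  · simp [sep, e]

theorem two_ne_sq : ∀ a : ZMod 5, a * a ≠ 2 := by decide

theorem circle_nm : ∀ x ∈ circle, nm x = 1 := by decide +kernel

end Z25

variable {F : Type*} [Field F] [Fintype F] [DecidableEq F] {σ : F ≃+* F} {q : ℕ}

namespace Circ

open Finset

variable (hC : Circ σ q)
include hC

theorem exists_model_five (hq : q = 5) :
    ∃ ev : Z25 → F, Function.Bijective ev ∧ (∀ x y, ev (x + y) = ev x + ev y) ∧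
      (∀ x y, ev (x - y) = ev x - ev y) ∧ (∀ x y, ev (Z25.mul' x y) = ev x * ev y) ∧
      (∀ x, σ (ev x) = ev (Z25.conj' x)) ∧ ev (1, 0) = 1 ∧ ev (3, 0) = -2 ∧
      (∀ x, ev x * σ (ev x) = ev (Z25.nm x, 0)) ∧ (∀ a : ZMod 5, σ (ev (a, 0)) = ev (a, 0)) := by
  classical
  subst hq
  haveI : Fact (Nat.Prime 5) := ⟨by norm_num⟩
  have h5 : ((5 : ℕ) : F) = 0 := hC.cast_q
  haveI : CharP F 5 := (CharP.charP_iff_prime_eq_zero (by norm_num)).2 h5
  let φ := ZMod.castHom (dvd_refl 5) F
  have h2 : ringChar F ≠ 2 := by rw [ringChar.eq F 5]; norm_num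
  have h2F : (2 : F) ≠ 0 := Ring.two_ne_zero h2
  obtain ⟨s, hs⟩ : IsSquare (2 : F) := by
    rw [FiniteField.isSquare_iff h2 h2F, hC.hF]
    calc (2 : F) ^ (5 ^ 2 / 2) = ((4096 : ℕ) : F) := by norm_num
      _ = 1 := by rw [show (4096 : ℕ) = 5 * 819 + 1 from rfl, Nat.cast_add, Nat.cast_mul, h5, zero_mul, zero_add,
          Nat.cast_one]
  have h5' : (5 : F) = 0 := by exact_mod_cast h5
  have hσs : σ s = -s := by
    rw [hC.apply]
    linear_combination -(s * (s * s + 2)) * hs + s * h5'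
  have hφ : ∀ a, σ (φ a) = φ a := fun a => by
    obtain ⟨n, rfl⟩ := ZMod.natCast_zmod_surjective (n := 5) a
    rw [map_natCast, map_natCast]
  refine ⟨fun x => φ x.1 + φ x.2 * s, ?_, fun x y => ?_, fun x y => ?_, fun x y => ?_, fun x => ?_, by simp,
    ?_, fun x => ?_, fun a => by simp [hφ]⟩
  · refine (Fintype.bijective_iff_injective_and_card _).2 ⟨fun x y e => ?_, ?_⟩
    · simp only at e
      by_cases hb : x.2 = y.2
      · rw [hb] at e
        exact Prod.ext (φ.injective (add_right_cancel e)) hb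
      · exfalso
        have hne : φ (x.2 - y.2) ≠ 0 := fun h => hb (sub_eq_zero.1 (φ.injective (h.trans (map_zero φ).symm)))
        have hs' : s = φ ((y.1 - x.1) / (x.2 - y.2)) := by
          rw [map_div₀, eq_div_iff hne, map_sub, map_sub]
          linear_combination e
        refine Z25.two_ne_sq ((y.1 - x.1) / (x.2 - y.2)) (φ.injective ?_)
        rw [map_mul, ← hs', ← hs, map_ofNat]
    · rw [hC.hF, Fintype.card_prod, ZMod.card]
      norm_num
  · simp only [Prod.fst_add, Prod.snd_add, map_add]; ring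
  · simp only [Prod.fst_sub, Prod.snd_sub, map_sub]; ring
  · simp only [Z25.mul', map_add, map_mul, map_ofNat]
    linear_combination (φ x.2 * φ y.2) * hs
  · simp only [Z25.conj', map_add, map_mul, map_neg, hφ, hσs]; ring
  · simp only [map_zero, zero_mul, add_zero, map_ofNat]
    linear_combination h5'
  · simp only [Z25.nm, map_add, map_mul, map_sub, map_zero, map_ofNat, hφ, hσs]
    linear_combination (φ x.2 * φ x.2) * hs

/-- Six weights in the field with twenty-five elements. -/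
theorem six_five (hq : q = 5) {ι : Type} [Fintype ι] [DecidableEq ι] (hn : Fintype.card ι = 6) {c : ι → F}
    (hc : ∀ j, c j ≠ 0) (hsum : ∑ j, c j = 0)
    (hcompat : ∀ a b, c a * σ (c a) = c b * σ (c b) → c a = c b) :
    ∃ d : ι → F, (∀ j, d j ∈ mu σ) ∧ ∏ j, d j = 1 ∧ ∑ j, c j * d j = 0 ∧ (∃ j, d j ≠ 1) ∧
      3 ≤ (Finset.univ.filter fun j => d j = 1).card := by
  classical
  obtain ⟨ev, hev, hadd, hsub, hmul, hconj, hone, hm2, hnm, -⟩ := hC.exists_model_five hq
  -- two equal weights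
  obtain ⟨a, -, b, -, hab, hnab⟩ := Finset.exists_ne_map_eq_of_card_lt_of_maps_to (s := (Finset.univ : Finset ι))
    (t := (fix σ).erase 0) (f := fun j => c j * σ (c j)) (by
      rw [Finset.card_univ, hn, Finset.card_erase_of_mem (by simp [mem_fix]), hC.card_fix, hq]; norm_num)
    (fun j _ => Finset.mem_coe.2 (Finset.mem_erase.2
      ⟨mul_ne_zero (hc j) fun e => hc j (σ.map_eq_zero_iff.1 e),
        mem_fix.2 (by rw [map_mul, hC.invol, mul_comm])⟩))
  have hcab := hcompat a b hnab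
  have e0 : ev (0, 0) = 0 := by
    have h := hadd (0, 0) (0, 0)
    rw [show ((0, 0) : Z25) + (0, 0) = (0, 0) from rfl] at h
    linear_combination -h
  obtain ⟨W, hW⟩ : ∃ W : ι → Z25, ∀ j, ev (W j) = c j / c a := ⟨fun j => _, fun j => (hev.2 (c j / c a)).choose_spec⟩
  have hWa : W a = (1, 0) := hev.1 (by rw [hW, hone, div_self (hc a)])
  have hWb : W b = (1, 0) := hev.1 (by rw [hW, hone, ← hcab, div_self (hc a)])
  have hW0 : ∀ j, W j ≠ (0, 0) := fun j e => by
    have h := hW j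
    rw [e, e0, eq_comm, div_eq_zero_iff] at h
    exact h.elim (hc j) (hc a)
  -- from a move to the answer
  have hmove : ∀ p r t, p ≠ r → p ≠ t → r ≠ t → Z25.tri (W p) (W r) (W t) = true →
      ∃ d : ι → F, (∀ j, d j ∈ mu σ) ∧ ∏ j, d j = 1 ∧ ∑ j, c j * d j = 0 ∧ (∃ j, d j ≠ 1) ∧
        3 ≤ (Finset.univ.filter fun j => d j = 1).card := by
    intro p r t hpr hpt hrt h
    simp only [Z25.tri, List.any_eq_true, Bool.and_eq_true, Bool.not_eq_true', beq_iff_eq] at h
    obtain ⟨x, hx, y, hy, hxy, he⟩ := h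
    have hm : ∀ z ∈ Z25.circle, ev z ∈ mu σ := fun z hz => by
      rw [mem_mu, hnm, Z25.circle_nm z hz, hone]
    have hX := hm x hx
    have hY := hm y hy
    have he' := congrArg ev he
    rw [hadd, hadd, hmul, hmul, hmul, hsub, hsub, hsub, ← hconj, hmul, hone, e0, hW, hW, hW,
      mu_inv (mul_mem_mu hX hY)] at he'
    set d : ι → F := fun j => if j = p then ev x else if j = r then ev y else if j = t then (ev x * ev y)⁻¹ else 1
    have hdo : ∀ j, j ∉ ({p, r, t} : Finset ι) → d j = 1 := fun j hj => by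
      simp only [Finset.mem_insert, Finset.mem_singleton, not_or] at hj
      simp [d, hj.1, hj.2.1, hj.2.2]
    refine ⟨d, fun j => ?_, ?_, ?_, ?_, ?_⟩
    · simp only [d]
      split_ifs
      exacts [hX, hY, inv_mem_mu (mul_mem_mu hX hY), one_mem_mu]
    · rw [← Finset.prod_subset (Finset.subset_univ ({p, r, t} : Finset ι)) fun j _ hj => hdo j hj,
        Finset.prod_insert (by simp [hpr, hpt]), Finset.prod_pair hrt]
      simp [d, Ne.symm hpr, Ne.symm hpt, Ne.symm hrt]
      field_simp [mu_ne hX, mu_ne hY]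
    · have h1 : ∑ j, c j * (d j - 1) = 0 := by
        rw [← Finset.sum_subset (Finset.subset_univ ({p, r, t} : Finset ι)) fun j _ hj => by
            rw [hdo j hj, sub_self, mul_zero],
          Finset.sum_insert (by simp [hpr, hpt]), Finset.sum_pair hrt]
        simp only [d, if_true, if_neg (Ne.symm hpr), if_neg (Ne.symm hpt), if_neg (Ne.symm hrt)]
        have := congrArg (c a * ·) he'
        simp only [mul_zero] at this
        have hca := hc a
        field_simp at this ⊢
        linear_combination this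
      simp only [mul_sub, mul_one, Finset.sum_sub_distrib, hsum, sub_zero] at h1
      exact h1
    · by_contra hall
      push Not at hall
      have ep : ev x = ev (1, 0) := by rw [hone]; simpa [d] using hall p
      have er : ev y = ev (1, 0) := by rw [hone]; simpa [d, Ne.symm hpr] using hall r
      rw [hev.1 ep, hev.1 er] at hxy
      simp at hxy
    · refine le_trans ?_ (Finset.card_le_card (s := ({p, r, t} : Finset ι)ᶜ) fun j hj => ?_)
      · rw [Finset.card_compl, hn, Finset.card_insert_of_notMem (by simp [hpr, hpt]), Finset.card_pair hrt]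
      · exact Finset.mem_filter.2 ⟨Finset.mem_univ _, hdo j (Finset.mem_compl.1 hj)⟩
  -- the four others
  have hRc : (Finset.univ \ {a, b} : Finset ι).card = 4 := by
    rw [Finset.card_sdiff_of_subset (Finset.subset_univ _), Finset.card_univ, hn, Finset.card_pair hab]
  let u : Fin 4 → ι := fun p => ((Finset.univ \ {a, b} : Finset ι).equivFinOfCardEq hRc).symm p
  have huinj : Function.Injective u := Subtype.val_injective.comp (Equiv.injective _)
  have hu : ∀ p, u p ≠ a ∧ u p ≠ b := fun p => by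
    have h : u p ∈ (Finset.univ \ {a, b} : Finset ι) :=
      (((Finset.univ \ {a, b} : Finset ι).equivFinOfCardEq hRc).symm p).2
    simp only [Finset.mem_sdiff, Finset.mem_insert, Finset.mem_singleton, not_or] at h
    exact h.2
  have himg : Finset.univ.image u = Finset.univ \ {a, b} := Finset.eq_of_subset_of_card_le
    (fun j hj => by
      obtain ⟨p, -, rfl⟩ := Finset.mem_image.1 hj
      exact (((Finset.univ \ {a, b} : Finset ι).equivFinOfCardEq hRc).symm p).2)
    (by rw [Finset.card_image_of_injective _ huinj, hRc]; simp)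
  by_cases hex : ∃ p, Z25.tri (1, 0) (1, 0) (W (u p)) = true
  · obtain ⟨p, hp⟩ := hex
    exact hmove a b (u p) hab (Ne.symm (hu p).1) (Ne.symm (hu p).2) (by rw [hWa, hWb]; exact hp)
  push Not at hex
  have hmiss : ∀ p, W (u p) ∈ Z25.miss := fun p => (Z25.tri_or_miss _ (hW0 _)).resolve_left (hex p)
  have hsum4 : W (u 0) + W (u 1) + W (u 2) + W (u 3) = (3, 0) := hev.1 (by
    rw [hadd, hadd, hadd, hW, hW, hW, hW, hm2, ← add_div, ← add_div, ← add_div, div_eq_iff (hc a)]
    have h := hsum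
    rw [← Finset.sum_sdiff (Finset.subset_univ ({a, b} : Finset ι)), Finset.sum_pair hab, ← himg,
      Finset.sum_image (fun p _ r _ e => huinj e), Fin.sum_univ_four, ← hcab] at h
    linear_combination h)
  have hnmW : ∀ j l, Z25.nm (W j) = Z25.nm (W l) → W j = W l := fun j l e => by
    have h1 : c j / c a * σ (c j / c a) = c l / c a * σ (c l / c a) := by rw [← hW, ← hW, hnm, hnm, e]
    refine hev.1 ?_
    rw [hW, hW, hcompat j l ?_]
    have hσa : σ (c a) ≠ 0 := fun e => hc a (σ.map_eq_zero_iff.1 e)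
    have hca := hc a
    rw [map_div₀, map_div₀] at h1
    field_simp at h1
    linear_combination h1
  have hfin : ∀ p r : Fin 4, p ≠ r → Z25.tri (1, 0) (W (u p)) (W (u r)) = true →
      ∃ d : ι → F, (∀ j, d j ∈ mu σ) ∧ ∏ j, d j = 1 ∧ ∑ j, c j * d j = 0 ∧ (∃ j, d j ≠ 1) ∧
        3 ≤ (Finset.univ.filter fun j => d j = 1).card := fun p r hpr h =>
    hmove a (u p) (u r) (Ne.symm (hu p).1) (Ne.symm (hu r).1) (fun e => hpr (huinj e)) (by rw [hWa]; exact h)
  have h4 := Z25.four_miss _ (hmiss 0) _ (hmiss 1) _ (hmiss 2) _ (hmiss 3)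
  simp only [hsum4, Z25.sep_of (hnmW _ _), beq_self_eq_true, Bool.and_self, Bool.not_true, Bool.false_or,
    Bool.or_eq_true, or_assoc] at h4
  rcases h4 with h | h | h | h | h | h
  exacts [hfin 0 1 (by decide) h, hfin 0 2 (by decide) h, hfin 0 3 (by decide) h, hfin 1 2 (by decide) h,
    hfin 1 3 (by decide) h, hfin 2 3 (by decide) h]

end Circ

/-- Six values in `ZMod 11` summing to one with one repetition and nothing to cancel. -/
theorem eleven_one_repeat : ∀ a b c d : ZMod 11,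
    ((fun e =>
      let l : List (ZMod 11) := [a, b, c, d, e]
      let bad : ZMod 11 → Bool := fun s => s == 0 || s == 6 || s == 1
      decide (l.all (fun t => t != 0 && t != 6) && [b, c, d, e].Nodup) && !bad (a + a) &&
        !(bad (a + b) || bad (a + c) || bad (a + d) || bad (a + e) || bad (b + c) || bad (b + d) || bad (b + e) ||
          bad (c + d) || bad (c + e) || bad (d + e))) (1 - (a + a + b + c + d))) = true →
    a = 8 ∧ b ∈ ({1, 2, 7, 8} : Finset (ZMod 11)) ∧ c ∈ ({1, 2, 7, 8} : Finset (ZMod 11)) ∧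
      d ∈ ({1, 2, 7, 8} : Finset (ZMod 11)) ∧ 1 - (a + a + b + c + d) ∈ ({1, 2, 7, 8} : Finset (ZMod 11)) := by
  decide +kernel

/-- The weights attached to rows `i` and `c`. -/
def wt {ι : Type} [DecidableEq ι] (N : ι → ZMod 11) (i c : ι) (j : ι) : ZMod 11 :=
  if j = i ∨ j = c then 4 * N j - 2 else 4 * N j

/-- The pattern used at `q = 11`. -/
theorem eleven_pattern {ι : Type} [Fintype ι] [DecidableEq ι] (hn : Fintype.card ι = 6) (N : ι → ZMod 11)
    (h0 : ∀ j, N j ≠ 0) (h6 : ∀ j, N j ≠ 6) (hsum : ∑ j, N j = 1) :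
    ∃ i c, i ≠ c ∧ ((∃ a b, a ≠ b ∧ wt N i c a = -wt N i c b) ∨
      ((∀ p, p ≠ c → N p = N c → 4 * N c ≠ 1) ∧
        ∃ a b e f, a ≠ b ∧ a ≠ e ∧ a ≠ f ∧ b ≠ e ∧ b ≠ f ∧ e ≠ f ∧
          wt N i c a = wt N i c b ∧ wt N i c e = wt N i c f)) := by
  classical
  -- a place outside two given ones
  have hout : ∀ a b : ι, ∃ j, j ≠ a ∧ j ≠ b := fun a b => by
    obtain ⟨j, -, hj⟩ := Finset.exists_mem_notMem_of_card_lt_card (s := ({a, b} : Finset ι)) (t := Finset.univ)
      (lt_of_le_of_lt Finset.card_le_two (by rw [Finset.card_univ, hn]; norm_num))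
    exact ⟨j, by simpa [not_or] using hj⟩
  by_cases hneg : ∃ a b, a ≠ b ∧ (N a + N b = 0 ∨ N a + N b = 6 ∨ N a + N b = 1)
  · obtain ⟨a, b, hab, h | h | h⟩ := hneg
    · obtain ⟨i, hia, hib⟩ := hout a b
      obtain ⟨c, -, hc⟩ := Finset.exists_mem_notMem_of_card_lt_card (s := ({a, b, i} : Finset ι))
        (t := Finset.univ) (lt_of_le_of_lt Finset.card_le_three (by rw [Finset.card_univ, hn]; norm_num))
      simp only [Finset.mem_insert, Finset.mem_singleton, not_or] at hc
      refine ⟨i, c, Ne.symm hc.2.2, Or.inl ⟨a, b, hab, ?_⟩⟩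
      simp only [wt, Ne.symm hia, Ne.symm hib, Ne.symm hc.1, Ne.symm hc.2.1, or_self, if_false]
      linear_combination 4 * h
    · obtain ⟨c, hca, hcb⟩ := hout a b
      refine ⟨a, c, Ne.symm hca, Or.inl ⟨a, b, hab, ?_⟩⟩
      simp only [wt, true_or, if_true, Ne.symm hab, Ne.symm hcb, or_self, if_false]
      have h24 : (24 : ZMod 11) = 2 := rfl
      linear_combination 4 * h + h24
    · refine ⟨a, b, hab, Or.inl ⟨a, b, hab, ?_⟩⟩
      simp only [wt, true_or, or_true, if_true]
      linear_combination 4 * h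
  push Not at hneg
  have hoth : ∀ i c j, j ≠ i → j ≠ c → wt N i c j = 4 * N j := fun i c j h1 h2 => by simp [wt, h1, h2]
  by_cases htwo : ∃ a b e f, a ≠ b ∧ a ≠ e ∧ a ≠ f ∧ b ≠ e ∧ b ≠ f ∧ e ≠ f ∧ N a = N b ∧ N e = N f
  · obtain ⟨a, b, e, f, hab, hae, haf, hbe, hbf, hef, h1, h2⟩ := htwo
    have hR : (Finset.univ \ {a, b, e, f} : Finset ι).card = 2 := by
      rw [Finset.card_sdiff_of_subset (Finset.subset_univ _), Finset.card_univ, hn]
      simp [hab, hae, haf, hbe, hbf, hef]
    obtain ⟨x, y, hxy, hR'⟩ := Finset.card_eq_two.1 hR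
    have hxo : x ∈ Finset.univ \ ({a, b, e, f} : Finset ι) := by rw [hR']; simp
    have hyo : y ∈ Finset.univ \ ({a, b, e, f} : Finset ι) := by rw [hR']; simp
    simp only [Finset.mem_sdiff, Finset.mem_univ, true_and, Finset.mem_insert, Finset.mem_singleton, not_or] at hxo hyo
    have h41 : ∀ t : ZMod 11, 4 * t = 1 ↔ t = 3 := by decide
    by_cases hy : ∀ p, p ≠ y → N p = N y → 4 * N y ≠ 1
    · refine ⟨x, y, hxy, Or.inr ⟨hy, a, b, e, f, hab, hae, haf, hbe, hbf, hef, ?_, ?_⟩⟩
      · rw [hoth _ _ _ (Ne.symm hxo.1) (Ne.symm hyo.1), hoth _ _ _ (Ne.symm hxo.2.1) (Ne.symm hyo.2.1), h1]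
      · rw [hoth _ _ _ (Ne.symm hxo.2.2.1) (Ne.symm hyo.2.2.1), hoth _ _ _ (Ne.symm hxo.2.2.2) (Ne.symm hyo.2.2.2),
          h2]
    by_cases hx : ∀ p, p ≠ x → N p = N x → 4 * N x ≠ 1
    · refine ⟨y, x, Ne.symm hxy, Or.inr ⟨hx, a, b, e, f, hab, hae, haf, hbe, hbf, hef, ?_, ?_⟩⟩
      · rw [hoth _ _ _ (Ne.symm hyo.1) (Ne.symm hxo.1), hoth _ _ _ (Ne.symm hyo.2.1) (Ne.symm hxo.2.1), h1]
      · rw [hoth _ _ _ (Ne.symm hyo.2.2.1) (Ne.symm hxo.2.2.1), hoth _ _ _ (Ne.symm hyo.2.2.2) (Ne.symm hxo.2.2.2),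
          h2]
    push Not at hx hy
    obtain ⟨-, -, -, ex⟩ := hx
    obtain ⟨-, -, -, ey⟩ := hy
    rw [h41] at ex ey
    -- three pairs; one value is not three
    have hS : N a + N b + N e + N f + N x + N y = 1 := by
      rw [← Finset.sum_sdiff (Finset.subset_univ ({a, b, e, f} : Finset ι)), hR', Finset.sum_pair hxy] at hsum
      simp [hab, hae, haf, hbe, hbf, hef] at hsum
      linear_combination hsum
    have hne : N a ≠ 3 ∨ N e ≠ 3 := by
      by_contra hc
      push Not at hc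
      rw [← h1, ← h2, hc.1, hc.2, ex, ey] at hS
      exact absurd hS (by decide)
    rcases hne with hne | hne
    · refine ⟨a, b, hab, Or.inr ⟨fun p _ _ => fun h => hne (by rw [h1]; exact (h41 _).1 h), e, f, x, y, hef,
        Ne.symm hxo.2.2.1, Ne.symm hyo.2.2.1, Ne.symm hxo.2.2.2, Ne.symm hyo.2.2.2, hxy, ?_, ?_⟩⟩
      · rw [hoth _ _ _ (Ne.symm hae) (Ne.symm hbe), hoth _ _ _ (Ne.symm haf) (Ne.symm hbf), h2]
      · rw [hoth _ _ _ hxo.1 hxo.2.1, hoth _ _ _ hyo.1 hyo.2.1, ex, ey]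
    · refine ⟨e, f, hef, Or.inr ⟨fun p _ _ => fun h => hne (by rw [h2]; exact (h41 _).1 h), a, b, x, y, hab,
        Ne.symm hxo.1, Ne.symm hyo.1, Ne.symm hxo.2.1, Ne.symm hyo.2.1, hxy, ?_, ?_⟩⟩
      · rw [hoth _ _ _ hae haf, hoth _ _ _ hbe hbf, h1]
      · rw [hoth _ _ _ hxo.2.2.1 hxo.2.2.2, hoth _ _ _ hyo.2.2.1 hyo.2.2.2, ex, ey]
  push Not at htwo
  -- one repetition
  have hsgn : ∀ t s : ZMod 11, t ≠ 0 → s ≠ 0 → min t.val (11 - t.val) = min s.val (11 - s.val) →
      t = s ∨ t + s = 0 := by decide +kernel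
  obtain ⟨a, -, b, -, hab, hcl⟩ := Finset.exists_ne_map_eq_of_card_lt_of_maps_to (s := (Finset.univ : Finset ι))
    (t := Finset.Icc 1 5) (f := fun j => min (N j).val (11 - (N j).val)) (by simp [hn]) (fun j _ => by
      have h : ∀ t : ZMod 11, t ≠ 0 → min t.val (11 - t.val) ∈ Finset.Icc 1 5 := by decide +kernel
      exact h _ (h0 j))
  have hNab : N a = N b := (hsgn _ _ (h0 a) (h0 b) hcl).resolve_right (hneg a b hab).1
  have hR : (Finset.univ \ {a, b} : Finset ι).card = 4 := by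
    rw [Finset.card_sdiff_of_subset (Finset.subset_univ _), Finset.card_univ, hn, Finset.card_pair hab]
  let u : Fin 4 → ι := fun p => ((Finset.univ \ {a, b} : Finset ι).equivFinOfCardEq hR).symm p
  have huinj : Function.Injective u := Subtype.val_injective.comp (Equiv.injective _)
  have hu : ∀ p, u p ≠ a ∧ u p ≠ b := fun p => by
    have h : u p ∈ (Finset.univ \ {a, b} : Finset ι) :=
      (((Finset.univ \ {a, b} : Finset ι).equivFinOfCardEq hR).symm p).2
    simp only [Finset.mem_sdiff, Finset.mem_insert, Finset.mem_singleton, not_or] at h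
    exact h.2
  have himg : Finset.univ.image u = Finset.univ \ {a, b} := Finset.eq_of_subset_of_card_le
    (fun j hj => by
      obtain ⟨p, -, rfl⟩ := Finset.mem_image.1 hj
      exact (((Finset.univ \ {a, b} : Finset ι).equivFinOfCardEq hR).symm p).2)
    (by rw [Finset.card_image_of_injective _ huinj, hR]; simp)
  have hdist : Function.Injective fun p => N (u p) := fun p r e => by
    by_contra hne
    exact htwo a b (u p) (u r) hab (Ne.symm (hu p).1) (Ne.symm (hu r).1) (Ne.symm (hu p).2) (Ne.symm (hu r).2)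
      (fun h => hne (huinj h)) hNab e
  have hlast : 1 - (N a + N a + N (u 0) + N (u 1) + N (u 2)) = N (u 3) := by
    rw [← Finset.sum_sdiff (Finset.subset_univ ({a, b} : Finset ι)), Finset.sum_pair hab, ← himg,
      Finset.sum_image (fun p _ r _ e => huinj e), Fin.sum_univ_four, ← hNab] at hsum
    linear_combination -hsum
  have hsums : ∀ {j l : ι}, j ≠ l → ¬ (N j + N l = 0) ∧ ¬ (N j + N l = 6) ∧ ¬ (N j + N l = 1) := fun h => hneg _ _ h
  have key := eleven_one_repeat (N a) (N (u 0)) (N (u 1)) (N (u 2)) (by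
    simp only [hlast]
    have hs1 := hsums hab
    rw [← hNab] at hs1
    have hne : ∀ {p r : Fin 4}, p ≠ r → ¬ N (u p) = N (u r) := fun h e => h (hdist e)
    have hpa : ∀ p, a ≠ u p := fun p => Ne.symm (hu p).1
    have hpp : ∀ {p r : Fin 4}, p ≠ r → u p ≠ u r := fun h e => h (huinj e)
    simp [h0, h6, hs1, hsums (hpa 0), hsums (hpa 1), hsums (hpa 2), hsums (hpa 3),
      hsums (hpp (show (0 : Fin 4) ≠ 1 by decide)), hsums (hpp (show (0 : Fin 4) ≠ 2 by decide)),
      hsums (hpp (show (0 : Fin 4) ≠ 3 by decide)), hsums (hpp (show (1 : Fin 4) ≠ 2 by decide)),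
      hsums (hpp (show (1 : Fin 4) ≠ 3 by decide)), hsums (hpp (show (2 : Fin 4) ≠ 3 by decide)),
      hne (show (0 : Fin 4) ≠ 1 by decide), hne (show (0 : Fin 4) ≠ 2 by decide),
      hne (show (0 : Fin 4) ≠ 3 by decide), hne (show (1 : Fin 4) ≠ 2 by decide),
      hne (show (1 : Fin 4) ≠ 3 by decide), hne (show (2 : Fin 4) ≠ 3 by decide)])
  rw [hlast] at key
  obtain ⟨ha8, k0, k1, k2, k3⟩ := key
  have hall : ∀ v ∈ ({1, 2, 7, 8} : Finset (ZMod 11)), ∃ p, N (u p) = v := by
    have heq : Finset.univ.image (fun p => N (u p)) = ({1, 2, 7, 8} : Finset (ZMod 11)) :=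
      Finset.eq_of_subset_of_card_le (fun v hv => by
        obtain ⟨p, -, rfl⟩ := Finset.mem_image.1 hv
        fin_cases p
        exacts [k0, k1, k2, k3]) (by
        rw [Finset.card_image_of_injective _ hdist, Finset.card_univ, Fintype.card_fin]; decide)
    intro v hv
    rw [← heq] at hv
    obtain ⟨p, -, hp⟩ := Finset.mem_image.1 hv
    exact ⟨p, hp⟩
  obtain ⟨p1, e1⟩ := hall 1 (by decide)
  obtain ⟨p2, e2⟩ := hall 2 (by decide)
  obtain ⟨p7, e7⟩ := hall 7 (by decide)
  have h12 : u p1 ≠ u p2 := fun e => by rw [e, e2] at e1; exact absurd e1 (by decide)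
  have h17 : u p1 ≠ u p7 := fun e => by rw [e, e7] at e1; exact absurd e1 (by decide)
  have h27 : u p2 ≠ u p7 := fun e => by rw [e, e7] at e2; exact absurd e2 (by decide)
  refine ⟨u p2, u p7, h27, Or.inr ⟨fun p _ _ => by rw [e7]; decide, u p1, u p7, a, b, h17, (hu p1).1, (hu p1).2,
    (hu p7).1, (hu p7).2, hab, ?_, ?_⟩⟩
  · rw [hoth _ _ _ h12 h17, wt, if_pos (Or.inr rfl), e1, e7]; decide
  · rw [hoth _ _ _ (Ne.symm (hu p2).1) (Ne.symm (hu p7).1), hoth _ _ _ (Ne.symm (hu p2).2) (Ne.symm (hu p7).2),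
      hNab]

end Cfsg.Agent.Classical.MaxUnitMon
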