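import Cfsg.Agent.Lib.Classical.MaxUnitMonTen

/-!
Six elements of norm one with a vanishing weighted sum and a product that is a sixth power: four weights are fixed
by the involution and two are arbitrary.
-/

set_option autoImplicit false
set_option linter.unusedSectionVars false

namespace Cfsg.Agent.Classical.MaxUnitMon

open Finset

variable {F : Type*} [Field F] [Fintype F] [DecidableEq F] {σ : F ≃+* F} {q : ℕ}

namespace Circ

variable (hC : Circ σ q)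
include hC

theorem conj_div_mem {c : F} (hc : c ≠ 0) : σ c / c ∈ mu σ := by
  have h := hC.theta_mem (S := σ c) (fun e => hc (σ.map_eq_zero_iff.1 e))
  rwa [hC.invol] at h

/-- An element of the circle with non-trivial twelfth power. -/
theorem exists_twelfth (hq : ¬ (q + 1) ∣ 12) : ∃ z ∈ mu σ, z ^ 12 ≠ 1 := by
  classical
  by_contra hc
  push Not at hc
  set d := 12 % (q + 1) with hd
  have hd0 : 0 < d := Nat.pos_of_ne_zero fun e => hq (Nat.dvd_of_mod_eq_zero e)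
  have hsub : mu σ ⊆ (Polynomial.nthRoots d (1 : F)).toFinset := fun z hz => by
    rw [Multiset.mem_toFinset, Polynomial.mem_nthRoots hd0]
    have h := hc z hz
    rwa [← Nat.mod_add_div 12 (q + 1), pow_add, pow_mul, hC.pow_mu hz, one_pow, mul_one] at h
  have h := (Finset.card_le_card hsub).trans ((Multiset.toFinset_card_le _).trans (Polynomial.card_nthRoots _ _))
  rw [hC.card_mu] at h
  have := Nat.mod_lt 12 (show 0 < q + 1 by omega)
  omega

/-- Sixth roots in the circle. -/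
theorem sixth_root {h : ℕ} (hh : 2 * h = q + 1) {z : F} (hz : z ∈ mu σ) (hz2 : z ^ h = 1)
    (hz3 : ∀ k, 6 * k = q + 1 → z ^ k = 1) : ∃ w ∈ mu σ, w ^ 6 = z := by
  by_cases h3 : 3 ∣ q + 1
  · obtain ⟨k, hk⟩ : 6 ∣ q + 1 :=
      (show Nat.Coprime 2 3 by norm_num).mul_dvd_of_dvd_of_dvd (Dvd.intro h hh) h3
    exact hC.root_of_pow (by norm_num) hk.symm hz (hz3 k hk.symm)
  · obtain ⟨u, hu, huz⟩ := hC.root_of_pow two_pos hh hz hz2
    obtain ⟨w, hw, hwu⟩ := hC.roots_coprime ((Nat.Prime.coprime_iff_not_dvd Nat.prime_three).2 h3) hu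
    exact ⟨w, hw, by rw [show (6 : ℕ) = 3 * 2 from rfl, pow_mul, hwu, huz]⟩

/-- A pair with two solutions of different classes. -/
theorem exists_pair_shape {k : ℕ} (hk : 6 * k = q + 1) {a b : F} (ha : a ≠ 0) (hb : b ≠ 0)
    (hn : a * σ a ≠ b * σ b) (hκ : (σ a / a * (σ b / b)) ^ (3 * k) = 1) :
    ∃ u v u' v' t : F, u ∈ mu σ ∧ v ∈ mu σ ∧ u' ∈ mu σ ∧ v' ∈ mu σ ∧ t ≠ 0 ∧ u ≠ v ∧
      (σ a = a → σ b = b → u' ≠ v') ∧ a * u + b * v = t ∧ a * u' + b * v' = t ∧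
      ((u' * v') / (u * v)) ^ (3 * k) = 1 ∧ ((u' * v') / (u * v)) ^ k ≠ 1 := by
  classical
  have hσa : σ a ≠ 0 := σ.map_ne_zero_iff.2 ha
  have hσb : σ b ≠ 0 := σ.map_ne_zero_iff.2 hb
  set κ := σ a / a * (σ b / b) with hκd
  have hκ0 : κ ≠ 0 := mul_ne_zero (div_ne_zero hσa ha) (div_ne_zero hσb hb)
  have ht : ∀ r ∈ mu σ, a * r + b ≠ 0 ∧ σ a + σ b * r ≠ 0 := fun r hr => by
    have h1 : a * r + b ≠ 0 := fun e => by
      have e1 : b = -(a * r) := by linear_combination e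
      refine hn ?_
      rw [e1, map_neg, map_mul]
      linear_combination -(a * σ a) * mem_mu.1 hr
    refine ⟨h1, fun e => h1 (σ.map_eq_zero_iff.1 ?_)⟩
    rw [map_add, map_mul]
    linear_combination σ r * e - σ b * mem_mu.1 hr
  set y : F → F := fun r => (a * r + b) / (σ a + σ b * r) with hy
  have hinj : Set.InjOn y (mu σ : Set F) := fun r hr r' hr' e => by
    rw [hy] at e
    simp only at e
    rw [div_eq_div_iff (ht r hr).2 (ht r' hr').2] at e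
    have : (r - r') * (a * σ a - b * σ b) = 0 := by linear_combination e
    exact sub_eq_zero.1 ((mul_eq_zero.1 this).resolve_right (sub_ne_zero.2 hn))
  obtain ⟨r, hr, hr1, hrig⟩ : ∃ r ∈ mu σ, r ≠ 1 ∧ (κ * y r ^ 2) ^ k ≠ 1 := by
    by_contra hcon
    push Not at hcon
    have hk0 : 0 < 2 * k := by omega
    have hsub : ((mu σ).erase 1).image y ⊆ (Polynomial.nthRoots (2 * k) ((κ ^ k)⁻¹)).toFinset := fun v hv => by
      obtain ⟨r, hr, rfl⟩ := Finset.mem_image.1 hv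
      rw [Finset.mem_erase] at hr
      rw [Multiset.mem_toFinset, Polynomial.mem_nthRoots hk0, ← mul_right_inj' (pow_ne_zero k hκ0),
        mul_inv_cancel₀ (pow_ne_zero k hκ0), pow_mul, ← mul_pow]
      exact hcon r hr.2 hr.1
    have h := (Finset.card_le_card hsub).trans ((Multiset.toFinset_card_le _).trans (Polynomial.card_nthRoots _ _))
    rw [Finset.card_image_of_injOn (hinj.mono fun x hx => Finset.mem_of_mem_erase hx),
      Finset.card_erase_of_mem one_mem_mu, hC.card_mu] at h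
    omega
  set t := a * r + b with htd
  have ht0 : t ≠ 0 := (ht r hr).1
  have hσt : σ t ≠ 0 := σ.map_ne_zero_iff.2 ht0
  have hθ : t / σ t ∈ mu σ := hC.theta_mem ht0
  refine ⟨r, 1, t / σ t * (σ a / a) * σ r, t / σ t * (σ b / b), t, hr, one_mem_mu,
    mul_mem_mu (mul_mem_mu hθ (hC.conj_div_mem ha)) (hC.conj_mem hr), mul_mem_mu hθ (hC.conj_div_mem hb), ht0, hr1,
    fun hsa hsb e => ?_, by rw [htd, mul_one], ?_, ?_⟩
  · rw [hsa, hsb, div_self ha, div_self hb, mul_one] at e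
    have hr' := mul_left_cancel₀ (div_ne_zero ht0 hσt) (e.trans (mul_one _).symm)
    exact hr1 (by rw [← hC.invol r, hr', map_one])
  · have e : σ t = σ a * σ r + σ b := by rw [htd, map_add, map_mul]
    field_simp
    linear_combination -e
  · have hyr : y r = t / (σ t * r) := by
      rw [hy]
      show t / (σ a + σ b * r) = _
      congr 1
      rw [htd, map_add, map_mul]
      linear_combination -(σ a) * mem_mu.1 hr
    have hm : t / σ t * (σ a / a) * σ r * (t / σ t * (σ b / b)) / (r * 1) = κ * y r ^ 2 := by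
      have hr0 := mu_ne hr
      rw [hyr, hκd, mu_inv hr]
      field_simp
    rw [hm]
    refine ⟨?_, hrig⟩
    have hy2 : y r ∈ mu σ := by
      rw [hyr, div_mul_eq_div_div]; exact hC.div_mem hθ hr
    rw [mul_pow, hκ, one_mul, ← pow_mul, show 2 * (3 * k) = q + 1 by omega, hC.pow_mu hy2]

/-- Six weights, four of them fixed, with a sign condition on the other two. -/
theorem six_odd (h2 : (2 : F) ≠ 0) {k : ℕ} (hk : 6 * k = q + 1) {r₁ r₂ r₃ r₄ ζ₁ ζ₂ : F} (h₁ : σ r₁ = r₁) (h₂ : σ r₂ = r₂)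
    (h₃ : σ r₃ = r₃) (h₄ : σ r₄ = r₄) (hr₁ : r₁ ≠ 0) (hr₂ : r₂ ≠ 0) (hr₃ : r₃ ≠ 0) (hr₄ : r₄ ≠ 0)
    (hζ₁ : ζ₁ ≠ 0) (hζ₂ : ζ₂ ≠ 0) (h12 : r₁ * r₁ ≠ r₂ * r₂) (h31 : r₃ * r₃ ≠ ζ₁ * σ ζ₁)
    (hp₁ : (σ ζ₁ / ζ₁) ^ (3 * k) = 1) (hp₂ : (σ ζ₂ / ζ₂) ^ (3 * k) = -1) :
    ∃ x : Fin 6 → F, (∀ p, x p ∈ mu σ) ∧
      r₁ * x 0 + r₂ * x 1 + r₃ * x 2 + ζ₁ * x 3 + r₄ * x 4 + ζ₂ * x 5 = 0 ∧ x 0 ≠ x 1 ∧
      ∃ w ∈ mu σ, w ^ 6 = ∏ p, x p := by
  classical
  obtain ⟨u, v, u', v', t, hu, hv, hu', hv', ht, huv, huv', e, e', hm3, hm1⟩ := hC.exists_pair_shape hk hr₁ hr₂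
    (by rwa [h₁, h₂]) (by rw [h₁, h₂, div_self hr₁, div_self hr₂, one_mul, one_pow])
  obtain ⟨s, o, s', o', t₂, hs, ho, hs', ho', ht₂, -, -, f, f', hn3, hn1⟩ := hC.exists_pair_shape hk hr₃ hζ₁
    (by rwa [h₃]) (by rw [h₃, div_self hr₃, one_mul]; exact hp₁)
  obtain ⟨α, hα, β, hβ, g, hg, g', hg', hsum⟩ := hC.exists_four ht ht₂ hr₄ hζ₂ 0
  -- a second solution of the last pair, with the other sign
  set S := r₄ * g + ζ₂ * g' with hS
  have hS0 : S ≠ 0 := fun h0 => by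
    have hρ : g / g' ∈ mu σ := hC.div_mem hg hg'
    have e1 : σ ζ₂ / ζ₂ = σ (g / g') / (g / g') := by
      rw [show ζ₂ = -(r₄ * (g / g')) by
        rw [mul_div_assoc', eq_neg_iff_add_eq_zero, ← mul_right_inj' (mu_ne hg')]
        field_simp [mu_ne hg']
        linear_combination h0, map_neg, map_mul, h₄, neg_div_neg_eq, mul_div_mul_left _ _ hr₄]
    rw [e1, mu_inv hρ, div_eq_mul_inv, ← pow_two, ← pow_mul, show 2 * (3 * k) = q + 1 by omega,
      hC.pow_mu (inv_mem_mu hρ)] at hp₂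
    exact h2 (by linear_combination hp₂)
  have hσS : σ S ≠ 0 := σ.map_ne_zero_iff.2 hS0
  have hθ : S / σ S ∈ mu σ := hC.theta_mem hS0
  set G := S / σ S * σ g
  set G' := S / σ S * (σ ζ₂ / ζ₂) * σ g'
  have hG : G ∈ mu σ := mul_mem_mu hθ (hC.conj_mem hg)
  have hG' : G' ∈ mu σ := mul_mem_mu (mul_mem_mu hθ (hC.conj_div_mem hζ₂)) (hC.conj_mem hg')
  have hGS : r₄ * G + ζ₂ * G' = S := by
    have e : σ S = r₄ * σ g + σ ζ₂ * σ g' := by rw [hS, map_add, map_mul, map_mul, h₄]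
    simp only [G, G']
    field_simp
    linear_combination -e
  have hsign : (G * G') ^ (3 * k) = -(g * g') ^ (3 * k) := by
    have e1 : G * G' = (S / σ S / (g * g')) ^ 2 * (σ ζ₂ / ζ₂) * (g * g') := by
      simp only [G, G', mu_inv hg, mu_inv hg']
      field_simp [mu_ne hg, mu_ne hg']
    rw [e1, mul_pow, mul_pow, ← pow_mul, show 2 * (3 * k) = q + 1 by omega,
      hC.pow_mu (hC.div_mem hθ (mul_mem_mu hg hg')), hp₂]
    ring
  have h3k : 2 * (3 * k) = q + 1 := by omega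
  have hbase : ∀ {z : F}, z ∈ mu σ → (z ^ 2) ^ (3 * k) = 1 := fun hz => by
    rw [← pow_mul, h3k]; exact hC.pow_mu hz
  set P₀ := α * u * (α * v) * (β * s * (β * o))
  have hP₀ : P₀ ∈ mu σ := mul_mem_mu (mul_mem_mu (mul_mem_mu hα hu) (mul_mem_mu hα hv))
    (mul_mem_mu (mul_mem_mu hβ hs) (mul_mem_mu hβ ho))
  obtain ⟨γ, hγ, γ', hγ', hγS, hγP⟩ : ∃ γ ∈ mu σ, ∃ γ' ∈ mu σ, r₄ * γ + ζ₂ * γ' = S ∧
      (P₀ * (γ * γ')) ^ (3 * k) = 1 := by
    rcases hC.sq_or h3k (mul_mem_mu hP₀ (mul_mem_mu hg hg')) with h | h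
    · exact ⟨g, hg, g', hg', rfl, h⟩
    · refine ⟨G, hG, G', hG', hGS, ?_⟩
      rw [mul_pow, hsign]
      rw [mul_pow] at h
      linear_combination -h
  set m := u' * v' / (u * v)
  set n := s' * o' / (s * o)
  have hm : m ∈ mu σ := hC.div_mem (mul_mem_mu hu' hv') (mul_mem_mu hu hv)
  have hn : n ∈ mu σ := hC.div_mem (mul_mem_mu hs' ho') (mul_mem_mu hs ho)
  set A := (P₀ * (γ * γ')) ^ k
  have hcube : ∀ x : F, x ^ (3 * k) = 1 → (x ^ k) ^ 3 = 1 := fun x hx => by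
    rw [← pow_mul, mul_comm]; exact hx
  -- three cube roots of unity
  have hroot : ∀ {a b : F}, a ^ 3 = 1 → b ^ 3 = 1 → a ≠ 1 → b ≠ 1 → a * b = 1 ∨ b = a := fun {a b} ha hb ha1 hb1 => by
    have e1 : a ^ 2 + a + 1 = 0 :=
      (mul_eq_zero.1 (show (a - 1) * (a ^ 2 + a + 1) = 0 by linear_combination ha)).resolve_left (sub_ne_zero.2 ha1)
    have e2 : b ^ 2 + b + 1 = 0 :=
      (mul_eq_zero.1 (show (b - 1) * (b ^ 2 + b + 1) = 0 by linear_combination hb)).resolve_left (sub_ne_zero.2 hb1)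
    rcases mul_eq_zero.1 (show (b - a) * (b + a + 1) = 0 by linear_combination e2 - e1) with h | h
    · exact Or.inr (sub_eq_zero.1 h)
    · exact Or.inl (by linear_combination a * h - e1)
  have hfin : ∀ a b c d : F, a ∈ mu σ → b ∈ mu σ → c ∈ mu σ → d ∈ mu σ → r₁ * a + r₂ * b = t →
      r₃ * c + ζ₁ * d = t₂ → a ≠ b → (α * a * (α * b) * (β * c * (β * d)) * (γ * γ')) ^ k = 1 →
      ∃ x : Fin 6 → F, (∀ p, x p ∈ mu σ) ∧
        r₁ * x 0 + r₂ * x 1 + r₃ * x 2 + ζ₁ * x 3 + r₄ * x 4 + ζ₂ * x 5 = 0 ∧ x 0 ≠ x 1 ∧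
        ∃ w ∈ mu σ, w ^ 6 = ∏ p, x p := by
    intro a b c d ha hb hc hd hab hcd hne hP
    refine ⟨![α * a, α * b, β * c, β * d, γ, γ'], fun p => ?_, ?_,
      fun e => hne (mul_left_cancel₀ (mu_ne hα) e), ?_⟩
    · fin_cases p
      exacts [mul_mem_mu hα ha, mul_mem_mu hα hb, mul_mem_mu hβ hc, mul_mem_mu hβ hd, hγ, hγ']
    · show r₁ * (α * a) + r₂ * (α * b) + r₃ * (β * c) + ζ₁ * (β * d) + r₄ * γ + ζ₂ * γ' = 0
      linear_combination hsum + α * hab + β * hcd + hγS + hS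
    · rw [show (∏ p, (![α * a, α * b, β * c, β * d, γ, γ'] : Fin 6 → F) p) =
          α * a * (α * b) * (β * c * (β * d)) * (γ * γ') by simp [Fin.prod_univ_succ]; ring]
      exact hC.root_of_pow (by norm_num) hk (mul_mem_mu (mul_mem_mu (mul_mem_mu (mul_mem_mu hα ha)
        (mul_mem_mu hα hb)) (mul_mem_mu (mul_mem_mu hβ hc) (mul_mem_mu hβ hd))) (mul_mem_mu hγ hγ')) hP
  have hu0 := mu_ne hu
  have hv0 := mu_ne hv
  have hs0 := mu_ne hs
  have ho0 := mu_ne ho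
  by_cases hA : A = 1
  · exact hfin u v s o hu hv hs ho e f huv hA
  have h3A : A ^ 3 = 1 := hcube _ hγP
  rcases hroot h3A (hcube m hm3) hA hm1 with h | h
  · refine hfin u' v' s o hu' hv' hs ho e' f (huv' h₁ h₂) ?_
    rw [← h, ← mul_pow]
    congr 1
    simp only [P₀, m]
    field_simp
  rcases hroot h3A (hcube n hn3) hA hn1 with h' | h'
  · refine hfin u v s' o' hu hv hs' ho' e f' huv ?_
    rw [← h', ← mul_pow]
    congr 1
    simp only [P₀, n]
    field_simp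
  refine hfin u' v' s' o' hu' hv' hs' ho' e' f' (huv' h₁ h₂) ?_
  rw [← h3A, show A ^ 3 = A * m ^ k * n ^ k by rw [h, h']; ring, ← mul_pow, ← mul_pow]
  congr 1
  simp only [P₀, m, n]
  field_simp

end Circ

end Cfsg.Agent.Classical.MaxUnitMon
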