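import Cfsg.Agent.Lib.Classical.MaxUnitMonGood
import Cfsg.Agent.Lib.Classical.MaxUnitMonSixSolve
import Cfsg.Agent.Lib.Classical.MaxUnitMonSixSmall

/-!
Six coordinates in odd characteristic: a further element of `M` yields one fixing a coordinate line.
-/

set_option autoImplicit false
set_option linter.unusedSectionVars false

namespace Cfsg.Agent.Classical.MaxUnitMon

open Matrix Module MaxTv MaxMon

variable {F : Type*} [Field F] [Fintype F] [DecidableEq F] {ι : Type} [Fintype ι] [DecidableEq ι]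

local notation "V" => (ι → F)
local notation "Mn" => Matrix ι ι F

variable {σ : F ≃+* F} {q : ℕ} {M : Subgroup (GL ι F)}

/-- A monomial map differing from a scalar on a plane moves few coordinates. -/
theorem mon_scalar_two {k : GL ι F} (hk : IsMon (k : Mn)) {x : F} {u w α β : V}
    (hkx : ∀ z : V, (k : Mn) *ᵥ z = x • z + (α ⬝ᵥ z) • u + (β ⬝ᵥ z) • w)
    {z₀ : V} (hα : α ⬝ᵥ z₀ ≠ 0) (hβ : β ⬝ᵥ z₀ = 0) :
    ∃ S : Finset ι, S.card ≤ 4 ∧ ∀ i ∉ S, u i = 0 := by
  classical
  obtain ⟨π, y, hy, hπ⟩ := hk.exists_perm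
  set S := Finset.univ.filter fun j => ¬ (π j = j ∧ y j = x) with hS
  refine ⟨S, ?_, fun i hi => ?_⟩
  swap
  · simp only [hS, Finset.mem_filter, Finset.mem_univ, true_and, not_not] at hi
    have h1 := mon_apply hπ z₀ i
    rw [hi.1, hi.2, hkx, hβ, zero_smul, add_zero, Pi.add_apply, Pi.smul_apply, Pi.smul_apply, smul_eq_mul,
      smul_eq_mul, add_eq_left] at h1
    exact (mul_eq_zero.1 h1).resolve_left hα
  -- no orbit fits in the places where the order increases
  have hgen : ∀ f : ι → ℤ, (S.filter fun j => π j = j ∨ f j < f (π j)).card ≤ 2 := by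
    intro f
    by_contra hc
    obtain ⟨a, b, c, ha, hb, hc', hab, hac, hbc⟩ := Finset.two_lt_card_iff.1 (not_le.1 hc)
    obtain ⟨z, hz0, hzα, hzβ, hzs⟩ := exists_ker α β ![a, b, c] (by
      intro p q h
      fin_cases p <;> fin_cases q <;> simp_all)
    have hfix : ∀ j, x * z (π j) = y j * z j := fun j => by
      have := mon_apply hπ z j
      rwa [hkx, hzα, hzβ, zero_smul, zero_smul, add_zero, add_zero, Pi.smul_apply, smul_eq_mul] at this
    obtain ⟨j₀, hj₀⟩ : ∃ j, z j ≠ 0 := by
      by_contra hcon; push Not at hcon; exact hz0 (funext hcon)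
    obtain ⟨j, hj, hmax⟩ := Finset.exists_max_image (supp z) f ⟨j₀, mem_supp.2 hj₀⟩
    rw [mem_supp] at hj
    have hjT : j ∈ S.filter fun j => π j = j ∨ f j < f (π j) := by
      by_contra hjT
      exact hj (hzs j fun p e => hjT (by subst e; fin_cases p <;> assumption))
    rw [Finset.mem_filter] at hjT
    obtain ⟨hjS, hor⟩ := hjT
    have hmv : π j ≠ j := fun e => by
      have h1 := hfix j
      rw [e] at h1
      exact (Finset.mem_filter.1 hjS).2 ⟨e, (mul_right_cancel₀ hj h1).symm⟩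
    have hne : z (π j) ≠ 0 := fun e => by
      have h1 := hfix j
      rw [e, mul_zero, eq_comm, mul_eq_zero] at h1
      exact h1.elim (hy j) hj
    exact absurd (hmax _ (mem_supp.2 hne)) (not_le.2 (hor.resolve_left hmv))
  let f : ι → ℤ := fun j => ((Fintype.equivFin ι j : ℕ) : ℤ)
  have hf : Function.Injective f := fun a b e => (Fintype.equivFin ι).injective (Fin.ext (Int.ofNat.inj e))
  have hsub : S ⊆ (S.filter fun j => π j = j ∨ f j < f (π j)) ∪
      (S.filter fun j => π j = j ∨ -f j < -f (π j)) := fun j hj => by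
    rw [Finset.mem_union]
    rcases lt_trichotomy (f j) (f (π j)) with h | h | h
    · exact Or.inl (Finset.mem_filter.2 ⟨hj, Or.inr h⟩)
    · exact Or.inl (Finset.mem_filter.2 ⟨hj, Or.inl (hf h).symm⟩)
    · exact Or.inr (Finset.mem_filter.2 ⟨hj, Or.inr (neg_lt_neg h)⟩)
  have := Finset.card_le_card hsub
  have := Finset.card_union_le (S.filter fun j => π j = j ∨ f j < f (π j))
    (S.filter fun j => π j = j ∨ -f j < -f (π j))
  have := hgen f
  have := hgen fun j => -f j
  omega

namespace Ctx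

variable (X : Ctx σ q M)
include X

theorem row_norm {g : GL ι F} (hg : g ∈ M) (p : ι) : ∑ j, (g : Mn) p j * σ ((g : Mn) p j) = 1 := by
  have h := X.iso _ (inv_mem hg) (Pi.single p 1) (Pi.single p 1)
  rw [X.dot_self_single] at h
  rw [← h, dot]
  refine Finset.sum_congr rfl fun j _ => ?_
  rw [MaxMon.col_apply, X.inv_apply hg, X.herm.invol, mul_comm]

theorem row_orth {g : GL ι F} (hg : g ∈ M) {i c : ι} (hic : i ≠ c) :
    ∑ j, (g : Mn) i j * σ ((g : Mn) c j) = 0 := by
  have h := X.iso _ (inv_mem hg) (Pi.single c 1) (Pi.single i 1)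
  rw [dot_single_left, Pi.single_eq_of_ne (Ne.symm hic), map_zero, mul_zero] at h
  rw [← h, dot]
  refine Finset.sum_congr rfl fun j _ => ?_
  rw [MaxMon.col_apply, MaxMon.col_apply, X.inv_apply hg, X.inv_apply hg, X.herm.invol, mul_comm]

/-- Conjugates of diagonal elements moving two places are not monomial. -/
theorem not_mon_pair (h6 : 6 ≤ Fintype.card ι) {k : GL ι F} (hk : k ∈ M) {a b : ι}
    (hka : ∀ j, (k : Mn) j a ≠ 0) (hab : a ≠ b) {d : ι → F} {x : F} (hd : ∀ j, j ≠ a → j ≠ b → d j = x)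
    (hda : d a ≠ x) {D : GL ι F} (hD : ∀ (z : V) j, ((D : Mn) *ᵥ z) j = d j * z j) :
    ¬ IsMon ((k * D * k⁻¹ : GL ι F) : Mn) := by
  classical
  intro hmon
  set A := (k : Mn) *ᵥ Pi.single a 1 with hA
  set B := (k : Mn) *ᵥ Pi.single b 1 with hB
  set α : V := (d a - x) • (Pi.single a 1 ᵥ* ((k⁻¹ : GL ι F) : Mn)) with hα
  set β : V := (d b - x) • (Pi.single b 1 ᵥ* ((k⁻¹ : GL ι F) : Mn)) with hβ
  have hform : ∀ w : V, (D : Mn) *ᵥ w =
      x • w + ((d a - x) * w a) • Pi.single a 1 + ((d b - x) * w b) • Pi.single b 1 := fun w => funext fun j => by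
    rw [hD]
    by_cases hja : j = a
    · subst hja; simp [hab]; ring
    by_cases hjb : j = b
    · subst hjb; simp [hja]; ring
    · simp [hd j hja hjb, hja, hjb]
  have hkx : ∀ z : V, ((k * D * k⁻¹ : GL ι F) : Mn) *ᵥ z = x • z + (α ⬝ᵥ z) • A + (β ⬝ᵥ z) • B := fun z => by
    rw [hA, hB, hα, hβ, Units.val_mul, Units.val_mul, ← Matrix.mulVec_mulVec, ← Matrix.mulVec_mulVec, hform,
      Matrix.mulVec_add, Matrix.mulVec_add, Matrix.mulVec_smul, Matrix.mulVec_smul, Matrix.mulVec_smul,
      mulVec_inv_cancel, smul_dotProduct, smul_dotProduct, ← Matrix.dotProduct_mulVec, ← Matrix.dotProduct_mulVec,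
      single_dotProduct, single_dotProduct, one_mul, one_mul, smul_eq_mul, smul_eq_mul]
  obtain ⟨S, hS, hS'⟩ := mon_scalar_two hmon hkx (z₀ := A)
    (by rw [hα, smul_dotProduct, hA, vecMul_inv_dot]; simpa [sub_eq_zero] using hda)
    (by rw [hβ, smul_dotProduct, hA, vecMul_inv_dot]; simp [Ne.symm hab])
  obtain ⟨j, -, hj⟩ := Finset.exists_mem_notMem_of_card_lt_card (s := S) (t := Finset.univ)
    (by rw [Finset.card_univ]; omega)
  exact hka j (by rw [← MaxMon.col_apply (k : Mn) j a]; exact hS' j hj)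

/-- A conjugate of a diagonal element with a zero entry. -/
theorem good_of_conj (h5 : 5 ≤ Fintype.card ι) (hq : 3 ≤ q) (h2 : (2 : F) ≠ 0) {k : GL ι F} (hk : k ∈ M) {d : ι → F}
    (hd : ∀ j, d j ∈ mu σ) (hprod : ∏ j, d j = 1) {i c : ι}
    (hsum : ∑ j, (k : Mn) i j * σ ((k : Mn) c j) * d j = 0)
    (hnm : ∀ D : GL ι F, (∀ (z : V) j, ((D : Mn) *ᵥ z) j = d j * z j) → ¬ IsMon ((k * D * k⁻¹ : GL ι F) : Mn)) :
    Good M := by
  obtain ⟨D, hD, hDz⟩ := X.exists_diag_mem d hd hprod
  refine X.good_of_zero (by omega) hq h2 (mul_mem (mul_mem hk hD) (inv_mem hk)) (hnm D hDz) (c := i) (i := c) ?_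
  rw [← MaxMon.col_apply ((k * D * k⁻¹ : GL ι F) : Mn) i c, ← hsum, Units.val_mul, Units.val_mul,
    ← Matrix.mulVec_mulVec, ← Matrix.mulVec_mulVec, Matrix.mulVec, dotProduct]
  refine Finset.sum_congr rfl fun j _ => ?_
  rw [hDz, MaxMon.col_apply, X.inv_apply hk]
  ring

/-- What a monomial conjugate says about two rows. -/
theorem col_of_mon {k : GL ι F} (hk : k ∈ M) {d : ι → F} (hd : ∀ j, d j ∈ mu σ) {D : GL ι F}
    (hD : ∀ (z : V) j, ((D : Mn) *ᵥ z) j = d j * z j) (hmon : IsMon ((k * D * k⁻¹ : GL ι F) : Mn)) (c : ι) :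
    ∃ p y, y * σ y = 1 ∧ ∀ j, d j * σ ((k : Mn) c j) = y * σ ((k : Mn) p j) := by
  obtain ⟨π, y, -, hπ⟩ := hmon.exists_perm
  have hrel : ∀ j, d j * σ ((k : Mn) c j) = y c * σ ((k : Mn) (π c) j) := fun j => by
    have h1 := congrArg (fun z => (((k⁻¹ : GL ι F) : Mn) *ᵥ z) j) (hπ c)
    simp only [Units.val_mul, ← Matrix.mulVec_mulVec, inv_mulVec_cancel] at h1
    rw [hD, MaxMon.col_apply, X.inv_apply hk, single_eq_smul (π c), Matrix.mulVec_smul, Pi.smul_apply, smul_eq_mul,
      MaxMon.col_apply, X.inv_apply hk] at h1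
    exact h1
  refine ⟨π c, y c, ?_, hrel⟩
  have h : ∑ j, (d j * σ ((k : Mn) c j)) * σ (d j * σ ((k : Mn) c j)) =
      ∑ j, (y c * σ ((k : Mn) (π c) j)) * σ (y c * σ ((k : Mn) (π c) j)) := by simp only [hrel]
  have e1 : ∀ j, (d j * σ ((k : Mn) c j)) * σ (d j * σ ((k : Mn) c j)) = (k : Mn) c j * σ ((k : Mn) c j) :=
    fun j => by
      rw [map_mul, X.herm.invol]
      linear_combination ((k : Mn) c j * σ ((k : Mn) c j)) * mem_mu.1 (hd j)
  have e2 : ∀ j, (y c * σ ((k : Mn) (π c) j)) * σ (y c * σ ((k : Mn) (π c) j)) =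
      y c * σ (y c) * ((k : Mn) (π c) j * σ ((k : Mn) (π c) j)) := fun j => by
    rw [map_mul, X.herm.invol]; ring
  rw [Finset.sum_congr rfl fun j _ => e1 j, Finset.sum_congr rfl fun j _ => e2 j, ← Finset.mul_sum,
    X.row_norm hk, X.row_norm hk, mul_one] at h
  exact h.symm

/-- Twenty-five elements. -/
theorem good_five (hn : Fintype.card ι = 6) (h2 : (2 : F) ≠ 0) (hq5 : q = 5) {g : GL ι F} (hg : g ∈ M)
    (hz : ∀ a b, (g : Mn) a b ≠ 0) : Good M := by
  classical
  have hq : 3 ≤ q := by omega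
  have hs := X.herm
  set C : ι → ι → ι → F := fun i c j => (g : Mn) i j * σ ((g : Mn) c j) with hC
  have hC0 : ∀ i c j, C i c j ≠ 0 := fun i c j => mul_ne_zero (hz i j) fun e => hz c j (σ.map_eq_zero_iff.1 e)
  by_cases hP : ∃ i c a b, i ≠ c ∧ C i c a * σ (C i c a) = C i c b * σ (C i c b) ∧ C i c a ≠ C i c b
  · obtain ⟨i, c, a, b, hic, hn', hne⟩ := hP
    have hab : a ≠ b := fun e => hne (by rw [e])
    set l := C i c b / C i c a with hl
    have hlm : l ∈ mu σ := by
      rw [mem_mu, hl, map_div₀, div_mul_div_comm, ← hn',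
        div_self (mul_ne_zero (hC0 i c a) fun e => hC0 i c a (σ.map_eq_zero_iff.1 e))]
    have hl1 : l ≠ 1 := fun e => hne (by rw [hl, div_eq_one_iff_eq (hC0 i c a)] at e; exact e.symm)
    refine X.good_of_conj (by omega) hq h2 hg (d := pairFun a b l) (fun j => ?_) (pairFun_prod hab (mu_ne hlm)) (i := i)
      (c := c) ?_ fun D hD => X.not_mon_pair hn.ge hg (fun j => hz j a) hab (x := 1)
        (fun j h1 h3 => pairFun_other h1 h3) (by rw [pairFun_left]; exact hl1) hD
    · by_cases h1 : j = a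
      · subst h1; rw [pairFun_left]; exact hlm
      by_cases h3 : j = b
      · subst h3; rw [pairFun_right hab]; exact inv_mem_mu hlm
      · rw [pairFun_other h1 h3]; exact one_mem_mu
    · have h1 : ∑ j, C i c j * (pairFun a b l j - 1) = 0 := by
        rw [Fintype.sum_eq_add a b hab (fun j hj => by rw [pairFun_other hj.1 hj.2, sub_self, mul_zero]),
          pairFun_left, pairFun_right hab, hl, inv_div]
        have := hC0 i c a
        have := hC0 i c b
        field_simp
        ring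
      simp only [mul_sub, mul_one, Finset.sum_sub_distrib] at h1
      rwa [X.row_orth hg hic, sub_zero] at h1
  push Not at hP
  obtain ⟨i, c, hic⟩ : ∃ i c : ι, i ≠ c := Fintype.exists_pair_of_one_lt_card (by omega)
  obtain ⟨d, hd, hprod, hsum, ⟨j₁, hj₁⟩, hJ⟩ := X.circ.six_five hq5 hn (c := C i c) (hC0 i c)
    (X.row_orth hg hic) (fun a b => hP i c a b hic)
  refine X.good_of_conj (by omega) hq h2 hg hd hprod hsum fun D hD hmon => ?_
  obtain ⟨p, y, hy, hrel⟩ := X.col_of_mon hg hd hD hmon c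
  set J := Finset.univ.filter fun j => d j = 1 with hJdef
  obtain ⟨j₀, hj₀⟩ := Finset.card_pos.1 (show 0 < J.card by omega)
  rw [hJdef, Finset.mem_filter] at hj₀
  have hσne : ∀ j, σ ((g : Mn) c j) ≠ 0 := fun j e => hz c j (σ.map_eq_zero_iff.1 e)
  have hpc : p ≠ c := fun e => by
    subst e
    have e0 := mul_right_cancel₀ (hσne j₀) (hrel j₀)
    rw [hj₀.2] at e0
    exact hj₁ ((mul_right_cancel₀ (hσne j₁) (hrel j₁)).trans e0.symm)
  have hgp : ∀ j, (g : Mn) p j = y * σ (d j) * (g : Mn) c j := fun j => by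
    have h := congrArg σ (hrel j)
    rw [map_mul, map_mul, hs.invol, hs.invol] at h
    linear_combination -y * h - (g : Mn) p j * hy
  set N : ι → F := fun j => (g : Mn) c j * σ ((g : Mn) c j) with hN
  have hNf : ∀ j, σ (N j) = N j := fun j => X.norm_fix _
  have hN0 : ∀ j, N j ≠ 0 := fun j => X.norm_ne (hz c j)
  have hCp : ∀ j, C p c j = y * (σ (d j) * N j) := fun j => by simp only [hC, hN]; rw [hgp]; ring
  have hy0 : y ≠ 0 := fun e => by simp [e] at hy
  set T := Finset.univ.filter fun j => σ (d j) ≠ d j with hT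
  have hnorm : ∀ j, C p c j * σ (C p c j) = N j * N j := fun j => by
    rw [hCp, map_mul, map_mul, hs.invol, hNf]
    linear_combination (σ (d j) * d j * N j * N j) * hy + (N j * N j) * mem_mu.1 (hd j)
  have h4 : ∀ j, (N j * N j) * (N j * N j) = 1 := fun j => by
    have h := hNf j
    rw [X.circ.apply, hq5] at h
    refine mul_left_cancel₀ (hN0 j) ?_
    linear_combination h
  -- all the ratios are real
  have hTe : T = ∅ := by
    by_contra hne
    obtain ⟨t, ht⟩ := Finset.nonempty_iff_ne_empty.2 hne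
    have hneq : ∀ s ∈ T, N s * N s = -(N j₀ * N j₀) := fun s hs' => by
      rw [hT, Finset.mem_filter] at hs'
      rcases mul_self_eq_mul_self_iff.1 ((h4 s).trans (h4 j₀).symm) with e | e
      · have h := hP p c s j₀ hpc ((hnorm s).trans (e.trans (hnorm j₀).symm))
        rw [hCp, hCp] at h
        have h' := mul_left_cancel₀ hy0 h
        rw [hj₀.2, map_one, one_mul] at h'
        have h'' := congrArg σ h'
        rw [map_mul, hs.invol, hNf, hNf, ← h'] at h''
        exact absurd (mul_right_cancel₀ (hN0 s) h'').symm hs'.2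
      · exact e
    have hTeq : ∀ s ∈ T, C p c s = C p c t := fun s hs' =>
      hP p c s t hpc (by rw [hnorm, hnorm, hneq s hs', hneq t ht])
    have hsum0 := X.row_orth hg hpc
    change ∑ j, C p c j = 0 at hsum0
    rw [← Finset.sum_filter_add_sum_filter_not Finset.univ (fun j => σ (d j) ≠ d j), ← hT,
      Finset.sum_congr rfl hTeq, Finset.sum_const, nsmul_eq_mul] at hsum0
    simp only [hCp, ← Finset.mul_sum] at hsum0
    set R := ∑ j ∈ Finset.univ.filter (fun j => ¬ σ (d j) ≠ d j), σ (d j) * N j with hR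
    have hRf : σ R = R := by
      rw [hR, map_sum]
      refine Finset.sum_congr rfl fun j hj => ?_
      rw [Finset.mem_filter, not_not] at hj
      rw [map_mul, hs.invol, hNf, hj.2]
    have hm0 : ((T.card : ℕ) : F) ≠ 0 := by
      have hle : T.card ≤ 3 := by
        have hdis : Disjoint T J := Finset.disjoint_left.2 fun j hj hj' => by
          rw [hT, Finset.mem_filter] at hj
          rw [hJdef, Finset.mem_filter] at hj'
          exact hj.2 (by rw [hj'.2, map_one])
        have := Finset.card_le_card (Finset.subset_univ (T ∪ J))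
        rw [Finset.card_union_of_disjoint hdis, Finset.card_univ, hn] at this
        omega
      have hpos : 0 < T.card := Finset.card_pos.2 ⟨t, ht⟩
      haveI : CharP F 5 := (CharP.charP_iff_prime_eq_zero (by norm_num)).2 (by rw [← hq5]; exact X.circ.cast_q)
      rw [Ne, CharP.cast_eq_zero_iff F 5]
      omega
    have hw : (T.card : F) * (σ (d t) * N t) + R = 0 := by
      refine mul_left_cancel₀ hy0 ?_
      linear_combination hsum0
    have hw' := congrArg σ hw
    rw [map_add, map_mul, map_mul, map_natCast, hs.invol, hNf, hRf, map_zero, ← hw] at hw'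
    exact (Finset.mem_filter.1 ht).2 (mul_right_cancel₀ (hN0 t) (mul_left_cancel₀ hm0 (add_right_cancel hw'))).symm
  have hpm : ∀ j, d j = 1 ∨ d j = -1 := fun j => by
    have h : σ (d j) = d j := by_contra fun h => by
      have : j ∈ T := Finset.mem_filter.2 ⟨Finset.mem_univ _, h⟩
      rw [hTe] at this; simp at this
    have := mem_mu.1 (hd j)
    rw [h] at this
    exact mul_self_eq_one_iff.1 this
  set S := Finset.univ.filter fun j => d j ≠ 1 with hS
  have hSm : ∀ j ∈ S, d j = -1 := fun j hj => (hpm j).resolve_left (Finset.mem_filter.1 hj).2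
  have hScard : S.card = 2 := by
    have hle : S.card + J.card = 6 := by
      rw [hS, hJdef, add_comm, Finset.card_filter_add_card_filter_not, Finset.card_univ, hn]
    have hp := hprod
    rw [← Finset.prod_subset (Finset.subset_univ S) (fun j _ hj => by simpa [hS] using hj),
      Finset.prod_congr rfl hSm, Finset.prod_const] at hp
    have hpos : 0 < S.card := Finset.card_pos.2 ⟨j₁, Finset.mem_filter.2 ⟨Finset.mem_univ _, hj₁⟩⟩
    rcases Nat.even_or_odd S.card with he | ho
    · obtain ⟨r, hr⟩ := he; omega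
    · rw [ho.neg_one_pow] at hp
      exact absurd (by linear_combination -hp) h2
  obtain ⟨a, b, hab, hSab⟩ := Finset.card_eq_two.1 hScard
  refine X.not_mon_pair hn.ge hg (fun j => hz j a) hab (x := 1) (fun j h1 h3 => ?_) ?_ hD hmon
  · by_contra h
    have : j ∈ S := Finset.mem_filter.2 ⟨Finset.mem_univ _, h⟩
    rw [hSab] at this; simp [h1, h3] at this
  · have : a ∈ S := by rw [hSab]; simp
    exact (Finset.mem_filter.1 this).2

set_option maxHeartbeats 1000000 in
/-- Six coordinates: some non-monomial element fixes a coordinate line. -/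
theorem good_six (hn : Fintype.card ι = 6) (hq : 3 ≤ q) (h2 : (2 : F) ≠ 0) {g : GL ι F} (hg : g ∈ M)
    (hz : ∀ a b, (g : Mn) a b ≠ 0) : Good M := by
  classical
  by_cases hq5 : q = 5
  · exact X.good_five hn h2 hq5 hg hz
  have hs := X.herm
  obtain ⟨h, hh, -⟩ := X.circ.exists_half_order h2
  -- a multiple of a pseudo-reflection
  obtain ⟨l, hlm, hl1, hlq, x, hx, hxl⟩ : ∃ l ∈ mu σ, l ≠ 1 ∧ (σ l ≠ l ∨ (l = -1 ∧ (q = 3 ∨ q = 11))) ∧
      ∃ x ∈ mu σ, x ^ 6 * l = 1 := by
    by_cases h12 : (q + 1) ∣ 12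
    · have hle := Nat.le_of_dvd (by norm_num) h12
      have hq' : q = 3 ∨ q = 11 := by
        have : q < 12 := by omega
        interval_cases q <;> omega
      obtain ⟨x, hx, hx2⟩ := X.circ.root_of_pow two_pos hh X.circ.neg_one_mem (by
        rcases hq' with rfl | rfl
        · obtain rfl : h = 2 := by omega
          norm_num
        · obtain rfl : h = 6 := by omega
          norm_num)
      exact ⟨-1, X.circ.neg_one_mem, fun e => h2 (by linear_combination -e), Or.inr ⟨rfl, hq'⟩, x, hx,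
        by rw [show (6 : ℕ) = 2 * 3 from rfl, pow_mul, hx2]; ring⟩
    · obtain ⟨z, hzm, hz12⟩ := X.circ.exists_twelfth h12
      have hlm : z ^ 6 ∈ mu σ := X.circ.pow_mem hzm 6
      refine ⟨z ^ 6, hlm, fun e => hz12 (by linear_combination (z ^ 6 + 1) * e),
        Or.inl fun e => hz12 ?_, z⁻¹, inv_mem_mu hzm,
        by rw [inv_pow, inv_mul_cancel₀ (pow_ne_zero _ (mu_ne hzm))]⟩
      have := mem_mu.1 hlm
      rw [e] at this
      linear_combination this
  obtain ⟨a, a', haa'⟩ : ∃ a a' : ι, a ≠ a' := Fintype.exists_pair_of_one_lt_card (by omega)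
  obtain ⟨D₀, hD₀, hD₀z⟩ := X.exists_diag_mem (fun j => if j = a then x * l else x) (fun j => by
    split_ifs
    exacts [mul_mem_mu hx hlm, hx]) (by
    rw [Finset.prod_ite, Finset.prod_const, Finset.prod_const, Finset.filter_eq', if_pos (Finset.mem_univ a),
      Finset.card_singleton, Finset.filter_ne', Finset.card_erase_of_mem (Finset.mem_univ a), Finset.card_univ, hn]
    linear_combination hxl)
  set u := (g : Mn) *ᵥ Pi.single a 1 with hu
  have hu0 : ∀ j, u j ≠ 0 := fun j => by rw [hu, MaxMon.col_apply]; exact hz j a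
  have hσu0 : ∀ j, σ (u j) ≠ 0 := fun j e => hu0 j (σ.map_eq_zero_iff.1 e)
  set k := g * D₀ * g⁻¹ with hk
  have hkM : k ∈ M := mul_mem (mul_mem hg hD₀) (inv_mem hg)
  have hknm : ¬ IsMon (k : Mn) := X.not_mon_pair hn.ge hg (fun j => hz j a) haa' (x := x)
    (fun j h1 _ => by simp [h1]) (by simp [mul_eq_left₀ (mu_ne hx), hl1]) hD₀z
  have hkent : ∀ p j, (k : Mn) p j = x * ((if p = j then 1 else 0) + (l - 1) * (u p * σ (u j))) := fun p j => by
    have hform : ∀ w : V, (D₀ : Mn) *ᵥ w = x • w + (x * (l - 1) * w a) • Pi.single a 1 := fun w => funext fun m => by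
      rw [hD₀z]
      by_cases hm : m = a
      · subst hm; simp; ring
      · simp [hm]
    rw [← MaxMon.col_apply (k : Mn) p j, hk, Units.val_mul, Units.val_mul, ← Matrix.mulVec_mulVec,
      ← Matrix.mulVec_mulVec, hform, Matrix.mulVec_add, Matrix.mulVec_smul, Matrix.mulVec_smul, mulVec_inv_cancel,
      ← hu, MaxMon.col_apply, X.inv_apply hg]
    simp only [Pi.add_apply, Pi.smul_apply, smul_eq_mul, Pi.single_apply, hu, MaxMon.col_apply]
    ring
  set N : ι → F := fun j => u j * σ (u j) with hNdef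
  have hN0 : ∀ j, N j ≠ 0 := fun j => X.norm_ne (hu0 j)
  have hNf : ∀ j, σ (N j) = N j := fun j => X.norm_fix _
  have hNsum : ∑ j, N j = 1 := by
    have := X.iso g hg (Pi.single a 1) (Pi.single a 1)
    rw [X.dot_self_single, ← hu] at this
    exact this
  set e : ι → F := fun j => 1 + (l - 1) * N j with he
  by_cases he0 : ∃ j, e j = 0
  · obtain ⟨j, hj⟩ := he0
    refine X.good_of_zero (by omega) hq h2 hkM hknm (c := j) (i := j) ?_
    rw [hkent, if_pos rfl, show (1 : F) + (l - 1) * (u j * σ (u j)) = e j from rfl, hj, mul_zero]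
  push Not at he0
  have hkne : ∀ p j, (k : Mn) p j ≠ 0 := fun p j => by
    rw [hkent]
    by_cases hpj : p = j
    · subst hpj; rw [if_pos rfl]; exact mul_ne_zero (mu_ne hx) (he0 p)
    · rw [if_neg hpj, zero_add]
      exact mul_ne_zero (mu_ne hx) (mul_ne_zero (sub_ne_zero.2 hl1) (mul_ne_zero (hu0 p) (hσu0 j)))
  set L := (l - 1) * (σ l - 1) with hL
  have hLf : σ L = L := by rw [hL, map_mul, map_sub, map_sub, map_one, hs.invol, mul_comm]
  have hσl1 : σ l ≠ 1 := fun e => hl1 (by rw [← hs.invol l, e, map_one])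
  have hL0 : L ≠ 0 := mul_ne_zero (sub_ne_zero.2 hl1) (sub_ne_zero.2 hσl1)
  -- the weights of two rows
  let W : ι → ι → ι → F := fun i c j =>
    if j = i then (σ l - 1) * e i else if j = c then (l - 1) * σ (e c) else L * N j
  have hW : ∀ i c, i ≠ c → ∀ j, (k : Mn) i j * σ ((k : Mn) c j) = u i * σ (u c) * W i c j := fun i c hic j => by
    rw [hkent, hkent]
    by_cases hji : j = i
    · subst hji
      simp [W, he, hNdef, Ne.symm hic, map_mul, hs.invol]
      linear_combination ((σ l - 1) * σ (u c) * u j * (1 + (l - 1) * (u j * σ (u j)))) * mem_mu.1 hx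
    by_cases hjc : j = c
    · subst hjc
      simp [W, he, hNdef, hji, Ne.symm hji, map_mul, hs.invol]
      linear_combination ((l - 1) * σ (u j) * u i * (1 + (σ l - 1) * (σ (u j) * u j))) * mem_mu.1 hx
    · simp [W, hji, hjc, Ne.symm hji, Ne.symm hjc, map_mul, hs.invol, hL, hNdef]
      linear_combination ((l - 1) * (σ l - 1) * u i * σ (u j) * σ (u c) * u j) * mem_mu.1 hx
  have hWsum : ∀ i c, i ≠ c → ∑ j, W i c j = 0 := fun i c hic => by
    have h := X.row_orth hkM hic
    rw [Finset.sum_congr rfl fun j _ => hW i c hic j, ← Finset.mul_sum, mul_eq_zero] at h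
    exact h.resolve_left (mul_ne_zero (hu0 i) (hσu0 c))
  have hfin : ∀ i c, i ≠ c → ∀ d : ι → F, (∀ j, d j ∈ mu σ) → ∏ j, d j = 1 → ∑ j, W i c j * d j = 0 →
      (∀ D : GL ι F, (∀ (z : V) j, ((D : Mn) *ᵥ z) j = d j * z j) → ¬ IsMon ((k * D * k⁻¹ : GL ι F) : Mn)) →
      Good M := fun i c hic d hd hp hsum hnm => X.good_of_conj (by omega) hq h2 hkM hd hp (i := i) (c := c) (by
        rw [Finset.sum_congr rfl fun j _ => show _ = u i * σ (u c) * (W i c j * d j) by rw [hW i c hic j]; ring,
          ← Finset.mul_sum, hsum, mul_zero]) hnm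
  -- equal rows
  have hrows : ∀ (c : ι) (d : ι → F), (∀ j, d j ∈ mu σ) → (∃ j j', d j ≠ d j') →
      (∀ p, p ≠ c → N p = N c → L * (N c * N c) ≠ e c * σ (e c)) →
      ∀ D : GL ι F, (∀ (z : V) j, ((D : Mn) *ᵥ z) j = d j * z j) → ¬ IsMon ((k * D * k⁻¹ : GL ι F) : Mn) := by
    intro c d hd ⟨j₁, j₂, hne⟩ hB D hD hmon
    obtain ⟨p, y, hy, hrel⟩ := X.col_of_mon hkM hd hD hmon c
    have hσk : ∀ j, σ ((k : Mn) c j) ≠ 0 := fun j e' => hkne c j (σ.map_eq_zero_iff.1 e')
    have hpc : p ≠ c := fun e' => by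
      subst e'
      exact hne ((mul_right_cancel₀ (hσk j₁) (hrel j₁)).trans (mul_right_cancel₀ (hσk j₂) (hrel j₂)).symm)
    have hnorm : ∀ j, (k : Mn) c j * σ ((k : Mn) c j) = (k : Mn) p j * σ ((k : Mn) p j) := fun j => by
      have h := congrArg (fun t => t * σ t) (hrel j)
      simp only [map_mul, hs.invol] at h
      linear_combination h - ((k : Mn) c j * σ ((k : Mn) c j)) * mem_mu.1 (hd j) +
        ((k : Mn) p j * σ ((k : Mn) p j)) * hy
    have hoff : ∀ {r j : ι}, r ≠ j → (k : Mn) r j * σ ((k : Mn) r j) = L * (N r * N j) := fun {r j} hrj => by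
      rw [hkent, if_neg hrj, zero_add]
      simp [map_mul, hs.invol, hL, hNdef]
      linear_combination ((l - 1) * (σ l - 1) * u r * σ (u j) * σ (u r) * u j) * mem_mu.1 hx
    have hdiag : (k : Mn) c c * σ ((k : Mn) c c) = e c * σ (e c) := by
      rw [hkent, if_pos rfl, show (1 : F) + (l - 1) * (u c * σ (u c)) = e c from rfl, map_mul]
      linear_combination (e c * σ (e c)) * mem_mu.1 hx
    obtain ⟨j, -, hj⟩ := Finset.exists_mem_notMem_of_card_lt_card (s := ({p, c} : Finset ι)) (t := Finset.univ)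
      (lt_of_le_of_lt Finset.card_le_two (by rw [Finset.card_univ, hn]; norm_num))
    simp only [Finset.mem_insert, Finset.mem_singleton, not_or] at hj
    have h := hnorm j
    rw [hoff (Ne.symm hj.2), hoff (Ne.symm hj.1)] at h
    have hNpc : N p = N c := (mul_right_cancel₀ (hN0 j) (mul_left_cancel₀ hL0 h)).symm
    refine hB p hpc hNpc ?_
    have h' := hnorm c
    rw [hdiag, hoff hpc, hNpc] at h'
    exact h'.symm
  rcases hlq with hl | ⟨rfl, hq'⟩
  · -- the generic case
    set θ : F → F := fun t => σ t / t with hθ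
    have hθm : ∀ j, θ (e j) ∈ mu σ := fun j => X.circ.conj_div_mem (he0 j)
    have hσl : σ l - 1 ≠ 0 := sub_ne_zero.2 hσl1
    have hl0 : l - 1 ≠ 0 := sub_ne_zero.2 hl1
    have hprod : ∀ i c, θ ((σ l - 1) * e i) * θ ((l - 1) * σ (e c)) = θ (e i) / θ (e c) := fun i c => by
      have := he0 i
      have := he0 c
      have : σ (e c) ≠ 0 := fun e' => he0 c (σ.map_eq_zero_iff.1 e')
      simp only [hθ, map_mul, map_sub, map_one, hs.invol]
      field_simp
    have hnr : ∀ i, θ ((σ l - 1) * e i) ≠ 1 := fun i e' => by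
      simp only [hθ] at e'
      rw [div_eq_one_iff_eq (mul_ne_zero hσl (he0 i)), he, map_mul, map_sub, map_one, hs.invol, map_add, map_mul,
        map_sub, map_one, hNf] at e'
      exact hl (by linear_combination -e')
    have hWf : ∀ i c j, j ≠ i → j ≠ c → σ (W i c j) = W i c j := fun i c j h1 h3 => by
      simp [W, h1, h3, map_mul, hLf, hNf]
    have whole : ∀ i c, i ≠ c → ∀ v ∈ mu σ, v ^ 6 = θ (e i) / θ (e c) → Good M := by
      intro i c hic v hv hv6
      set d : ι → F := fun j => (if j = i then θ (W i c i) else if j = c then θ (W i c c) else 1) * v⁻¹ with hd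
      have hWi : W i c i = (σ l - 1) * e i := by simp [W]
      have hWc : W i c c = (l - 1) * σ (e c) := by simp [W, Ne.symm hic]
      have hW0 : W i c i ≠ 0 ∧ W i c c ≠ 0 := by
        rw [hWi, hWc]
        exact ⟨mul_ne_zero hσl (he0 i), mul_ne_zero hl0 fun e' => he0 c (σ.map_eq_zero_iff.1 e')⟩
      refine hfin i c hic d (fun j => ?_) ?_ ?_ fun D hD => X.not_mon_pair hn.ge hkM (fun j => hkne j i) hic
        (x := v⁻¹) (fun j h1 h3 => by simp [d, h1, h3]) (by
          simp only [d, if_true, hWi]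
          exact fun e' => hnr i ((mul_eq_right₀ (inv_ne_zero (mu_ne hv))).1 e')) hD
      · simp only [d]
        refine mul_mem_mu ?_ (inv_mem_mu hv)
        split_ifs
        exacts [X.circ.conj_div_mem hW0.1, X.circ.conj_div_mem hW0.2, one_mem_mu]
      · simp only [d]
        rw [Finset.prod_mul_distrib, Finset.prod_const, Finset.card_univ, hn,
          Fintype.prod_eq_mul i c hic (fun j hj => by simp [hj.1, hj.2]), if_pos rfl, if_neg (Ne.symm hic),
          if_pos rfl, hWi, hWc, hprod, ← hv6, inv_pow, mul_inv_cancel₀ (pow_ne_zero _ (mu_ne hv))]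
      · have h := congrArg (fun t => σ t * v⁻¹) (hWsum i c hic)
        simp only [map_sum, map_zero, zero_mul, Finset.sum_mul] at h
        rw [← h]
        refine Finset.sum_congr rfl fun j _ => ?_
        simp only [d]
        by_cases h1 : j = i
        · subst h1
          rw [if_pos rfl, ← mul_assoc]
          simp only [hθ]
          rw [mul_div_cancel₀ _ hW0.1]
        by_cases h3 : j = c
        · subst h3
          rw [if_neg h1, if_pos rfl, ← mul_assoc]
          simp only [hθ]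
          rw [mul_div_cancel₀ _ hW0.2]
        · rw [if_neg h1, if_neg h3, one_mul, hWf i c j h1 h3]
    have hdivm : ∀ i c, θ (e i) / θ (e c) ∈ mu σ := fun i c => X.circ.div_mem (hθm i) (hθm c)
    by_cases h3 : 3 ∣ q + 1
    swap
    · obtain ⟨i, -, c, -, hic, heq⟩ := Finset.exists_ne_map_eq_of_card_lt_of_maps_to
        (s := (Finset.univ : Finset ι)) (t := ({1, -1} : Finset F)) (f := fun j => θ (e j) ^ h)
        (lt_of_le_of_lt Finset.card_le_two (by rw [Finset.card_univ, hn]; norm_num))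
        (fun j _ => by
          rw [Finset.mem_coe, Finset.mem_insert, Finset.mem_singleton]; exact X.circ.sq_or hh (hθm j))
      obtain ⟨v, hv, hv6⟩ := X.circ.sixth_root hh (hdivm i c)
        (by rw [div_pow, heq, div_self (pow_ne_zero _ (mu_ne (hθm c)))])
        (fun k hk => absurd ⟨2 * k, by omega⟩ h3)
      exact whole i c hic v hv hv6
    obtain ⟨m, hm⟩ : 6 ∣ q + 1 := (show Nat.Coprime 2 3 by norm_num).mul_dvd_of_dvd_of_dvd (Dvd.intro h hh) h3
    have h3m : 2 * (3 * m) = q + 1 := by omega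
    by_cases hdup : ∃ i c, i ≠ c ∧ θ (e i) ^ m = θ (e c) ^ m
    · obtain ⟨i, c, hic, heq⟩ := hdup
      obtain ⟨v, hv, hv6⟩ := X.circ.root_of_pow (by norm_num) hm.symm (hdivm i c)
        (by rw [div_pow, heq, div_self (pow_ne_zero _ (mu_ne (hθm c)))])
      exact whole i c hic v hv hv6
    push Not at hdup
    have hinjN : ∀ i c, i ≠ c → N i ≠ N c := fun i c hic e' => hdup i c hic (by simp only [he, e'])
    -- two rows of different sign
    obtain ⟨i, c, hic, hodd⟩ : ∃ i c, i ≠ c ∧ (θ (e i) / θ (e c)) ^ (3 * m) = -1 := by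
      by_contra hcon
      push Not at hcon
      obtain ⟨i₀, -⟩ : ∃ i₀ : ι, True := ⟨a, trivial⟩
      have hall : ∀ j, (θ (e j) ^ m) ^ 3 = (θ (e i₀) ^ m) ^ 3 := fun j => by
        by_cases hj : j = i₀
        · rw [hj]
        · rcases X.circ.sq_or h3m (hdivm j i₀) with hr | hr
          · rw [div_pow, div_eq_one_iff_eq (pow_ne_zero _ (mu_ne (hθm i₀)))] at hr
            rw [← pow_mul, ← pow_mul, mul_comm m, hr]
          · exact absurd hr (hcon j i₀ hj)
      have h1 : (Finset.univ.image fun j => θ (e j) ^ m) ⊆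
          (Polynomial.nthRoots 3 ((θ (e i₀) ^ m) ^ 3)).toFinset := fun v hv => by
        obtain ⟨j, -, rfl⟩ := Finset.mem_image.1 hv
        rw [Multiset.mem_toFinset, Polynomial.mem_nthRoots (by norm_num)]
        exact hall j
      have h4 := (Finset.card_le_card h1).trans ((Multiset.toFinset_card_le _).trans (Polynomial.card_nthRoots _ _))
      rw [Finset.card_image_of_injective _ (fun i c e' => by_contra fun hic => hdup i c hic e'), Finset.card_univ,
        hn] at h4
      omega
    obtain ⟨P, Q, hPQ, hP, hQ, hP1, hQ1⟩ : ∃ P Q, P ≠ Q ∧ ((P = i ∧ Q = c) ∨ (P = c ∧ Q = i)) ∧ True ∧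
        θ (W i c P) ^ (3 * m) = 1 ∧ θ (W i c Q) ^ (3 * m) = -1 := by
      have hz1 : θ (W i c i) ∈ mu σ := X.circ.conj_div_mem (by simp [W, hσl, he0])
      have hz2 : θ (W i c c) ∈ mu σ := X.circ.conj_div_mem (by simp [W, Ne.symm hic, hl0, he0])
      have hpq : θ (W i c i) ^ (3 * m) * θ (W i c c) ^ (3 * m) = -1 := by
        rw [← mul_pow, show θ (W i c i) * θ (W i c c) = θ (e i) / θ (e c) by simp [W, Ne.symm hic, hprod]]
        exact hodd
      rcases X.circ.sq_or h3m hz1 with hr | hr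
      · exact ⟨i, c, hic, Or.inl ⟨rfl, rfl⟩, trivial, hr, by rw [hr, one_mul] at hpq; exact hpq⟩
      · refine ⟨c, i, Ne.symm hic, Or.inr ⟨rfl, rfl⟩, trivial, ?_, hr⟩
        rw [hr] at hpq
        linear_combination -hpq
    have hPo : ∀ j, (j ≠ P ∧ j ≠ Q) → j ≠ i ∧ j ≠ c := fun j hj => by
      rcases hP with ⟨rfl, rfl⟩ | ⟨rfl, rfl⟩
      exacts [hj, hj.symm]
    set ζ := W i c P with hζ
    set O := Finset.univ \ ({P, Q} : Finset ι) with hO
    have hOc : O.card = 4 := by
      rw [hO, Finset.card_sdiff_of_subset (Finset.subset_univ _), Finset.card_univ, hn, Finset.card_pair hPQ]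
    have hOmem : ∀ j ∈ O, (j ≠ P ∧ j ≠ Q) := fun j hj => by
      simpa [hO, not_or] using hj
    have hR : ∀ j ∈ O, W i c j = L * N j := fun j hj => by
      simp [W, (hPo j (hOmem j hj)).1, (hPo j (hOmem j hj)).2]
    have hRinj : ∀ j ∈ O, ∀ j' ∈ O, j ≠ j' → W i c j ≠ W i c j' := fun j hj j' hj' hne e' => by
      rw [hR j hj, hR j' hj'] at e'
      exact hinjN j j' hne (mul_left_cancel₀ hL0 e')
    obtain ⟨o₃, ho₃, hne3⟩ : ∃ j ∈ O, W i c j * W i c j ≠ ζ * σ ζ := by
      by_contra hcon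
      push Not at hcon
      obtain ⟨p₁, p₂, p₃, hp₁, hp₂, hp₃, h12, h13, h23⟩ := Finset.two_lt_card_iff.1 (show 2 < O.card by omega)
      rcases mul_self_eq_mul_self_iff.1 ((hcon p₁ hp₁).trans (hcon p₂ hp₂).symm) with e1 | e1
      · exact hRinj p₁ hp₁ p₂ hp₂ h12 e1
      rcases mul_self_eq_mul_self_iff.1 ((hcon p₁ hp₁).trans (hcon p₃ hp₃).symm) with e3 | e3
      · exact hRinj p₁ hp₁ p₃ hp₃ h13 e3
      exact hRinj p₂ hp₂ p₃ hp₃ h23 (neg_injective (e1.symm.trans e3))
    obtain ⟨p₁, p₂, p₃, h12, h13, h23, hO'⟩ := Finset.card_eq_three.1 (show (O.erase o₃).card = 3 by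
      rw [Finset.card_erase_of_mem ho₃, hOc])
    have hmemO : ∀ j ∈ ({p₁, p₂, p₃} : Finset ι), j ≠ o₃ ∧ j ∈ O := fun j hj =>
      Finset.mem_erase.1 (hO'.symm ▸ hj)
    obtain ⟨o₁, o₂, o₄, ho₁, ho₂, ho₄, n12, n14, n24, hne12⟩ : ∃ o₁ o₂ o₄, o₁ ∈ ({p₁, p₂, p₃} : Finset ι) ∧
        o₂ ∈ ({p₁, p₂, p₃} : Finset ι) ∧ o₄ ∈ ({p₁, p₂, p₃} : Finset ι) ∧ o₁ ≠ o₂ ∧ o₁ ≠ o₄ ∧ o₂ ≠ o₄ ∧
        W i c o₁ * W i c o₁ ≠ W i c o₂ * W i c o₂ := by
      by_cases h : W i c p₁ * W i c p₁ = W i c p₂ * W i c p₂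
      · refine ⟨p₁, p₃, p₂, by simp, by simp, by simp, h13, h12, Ne.symm h23, fun h' => ?_⟩
        rcases mul_self_eq_mul_self_iff.1 h with e1 | e1
        · exact hRinj p₁ (hmemO _ (by simp)).2 p₂ (hmemO _ (by simp)).2 h12 e1
        rcases mul_self_eq_mul_self_iff.1 h' with e3 | e3
        · exact hRinj p₁ (hmemO _ (by simp)).2 p₃ (hmemO _ (by simp)).2 h13 e3
        exact hRinj p₂ (hmemO _ (by simp)).2 p₃ (hmemO _ (by simp)).2 h23 (neg_injective (e1.symm.trans e3))
      · exact ⟨p₁, p₂, p₃, by simp, by simp, by simp, h12, h13, h23, h⟩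
    obtain ⟨h1o, h1O⟩ := hmemO o₁ ho₁
    obtain ⟨h2o, h2O⟩ := hmemO o₂ ho₂
    obtain ⟨h4o, h4O⟩ := hmemO o₄ ho₄
    have hne0 : ∀ j, W i c j ≠ 0 := fun j => by
      simp only [W]
      split_ifs
      exacts [mul_ne_zero hσl (he0 i), mul_ne_zero hl0 fun e' => he0 c (σ.map_eq_zero_iff.1 e'),
        mul_ne_zero hL0 (hN0 j)]
    have hfixO : ∀ j ∈ O, σ (W i c j) = W i c j := fun j hj =>
      hWf i c j (hPo j (hOmem j hj)).1 (hPo j (hOmem j hj)).2
    obtain ⟨xs, hxs, hxsum, hxne, v, hv, hv6⟩ := X.circ.six_odd h2 hm.symm (r₁ := W i c o₁) (r₂ := W i c o₂)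
      (r₃ := W i c o₃) (r₄ := W i c o₄) (ζ₁ := ζ) (ζ₂ := W i c Q) (hfixO _ h1O) (hfixO _ h2O) (hfixO _ ho₃)
      (hfixO _ h4O) (hne0 _) (hne0 _) (hne0 _) (hne0 _) (hne0 _) (hne0 _) hne12 hne3 hP1 hQ1
    set w : Fin 6 → ι := ![o₁, o₂, o₃, P, o₄, Q] with hw
    have hT : ({o₁, o₂, o₄} : Finset ι) = {p₁, p₂, p₃} := Finset.eq_of_subset_of_card_le
      (fun j hj => by
        simp only [Finset.mem_insert, Finset.mem_singleton] at hj
        rcases hj with rfl | rfl | rfl
        exacts [ho₁, ho₂, ho₄])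
      (le_of_eq (by rw [Finset.card_eq_three.2 ⟨p₁, p₂, p₃, h12, h13, h23, rfl⟩,
        Finset.card_eq_three.2 ⟨o₁, o₂, o₄, n12, n14, n24, rfl⟩]))
    have hwsurj : Function.Surjective w := fun j => by
      by_cases hjP : j = P
      · exact ⟨3, hjP.symm⟩
      by_cases hjQ : j = Q
      · exact ⟨5, hjQ.symm⟩
      by_cases hj3 : j = o₃
      · exact ⟨2, hj3.symm⟩
      have hj : j ∈ ({o₁, o₂, o₄} : Finset ι) := by
        rw [hT, ← hO', Finset.mem_erase, hO, Finset.mem_sdiff]
        exact ⟨hj3, Finset.mem_univ _, by simp [hjP, hjQ]⟩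
      simp only [Finset.mem_insert, Finset.mem_singleton] at hj
      rcases hj with e' | e' | e'
      exacts [⟨0, e'.symm⟩, ⟨1, e'.symm⟩, ⟨4, e'.symm⟩]
    have hwbij : Function.Bijective w :=
      (Fintype.bijective_iff_surjective_and_card w).2 ⟨hwsurj, by rw [Fintype.card_fin, hn]⟩
    set E := Equiv.ofBijective w hwbij with hE
    have hEw : ∀ p, E.symm (w p) = p := fun p => E.symm_apply_apply p
    refine hfin i c hic (fun j => xs (E.symm j) * v⁻¹) (fun j => mul_mem_mu (hxs _) (inv_mem_mu hv)) ?_ ?_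
      (hrows c _ (fun j => mul_mem_mu (hxs _) (inv_mem_mu hv)) ⟨o₁, o₂, fun e' => hxne ?_⟩
        fun p hpc hNp => absurd hNp (hinjN p c hpc))
    · rw [Finset.prod_mul_distrib, Finset.prod_const, Finset.card_univ, hn, Equiv.prod_comp E.symm xs, ← hv6,
        inv_pow, mul_inv_cancel₀ (pow_ne_zero _ (mu_ne hv))]
    · rw [← Equiv.sum_comp E]
      simp only [Equiv.symm_apply_apply, Fin.sum_univ_six]
      show W i c o₁ * _ + W i c o₂ * _ + W i c o₃ * _ + ζ * _ + W i c o₄ * _ + W i c Q * _ = 0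
      linear_combination v⁻¹ * hxsum
    · have e1 : E.symm o₁ = 0 := hEw 0
      have e2 : E.symm o₂ = 1 := hEw 1
      rw [e1, e2] at e'
      exact mul_right_cancel₀ (inv_ne_zero (mu_ne hv)) e'
  -- `l = -1`
  have hσ2 : σ (2 : F) = 2 := map_ofNat σ 2
  have heq1 : ∀ j, e j = 1 - 2 * N j := fun j => by simp only [he]; ring
  have hL4 : L = 4 := by rw [hL, map_neg, map_one]; ring
  rcases hq' with rfl | rfl
  · exfalso
    have h3 : (3 : F) = 0 := by exact_mod_cast X.circ.cast_q
    have hall : ∀ j, N j = 1 := fun j => by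
      have hsub : ({0, 1, -1} : Finset F) = fix σ := Finset.eq_of_subset_of_card_le
        (by simp [Finset.insert_subset_iff, mem_fix]) (by
          rw [X.circ.card_fix, Finset.card_eq_three.2 ⟨0, 1, -1, zero_ne_one, fun e' => one_ne_zero (by
            linear_combination e'), fun e' => h2 (by linear_combination e'), rfl⟩])
      have := mem_fix.2 (hNf j)
      rw [← hsub] at this
      simp only [Finset.mem_insert, Finset.mem_singleton] at this
      rcases this with e' | e' | e'
      · exact absurd e' (hN0 j)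
      · exact e'
      · exact absurd (by rw [heq1, e']; linear_combination h3) (he0 j)
    rw [Finset.sum_congr rfl fun j _ => hall j, Finset.sum_const, Finset.card_univ, hn, nsmul_eq_mul] at hNsum
    push_cast at hNsum
    exact one_ne_zero (α := F) (by linear_combination 2 * h3 - hNsum)
  -- eleven
  haveI : Fact (Nat.Prime 11) := ⟨by norm_num⟩
  haveI : CharP F 11 := (CharP.charP_iff_prime_eq_zero (by norm_num)).2 X.circ.cast_q
  set φ := ZMod.castHom (dvd_refl 11) F with hφ
  have hφf : ∀ t, σ (φ t) = φ t := fun t => by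
    obtain ⟨n, rfl⟩ := ZMod.natCast_zmod_surjective (n := 11) t
    rw [map_natCast, map_natCast]
  have himg : Finset.univ.image φ = fix σ := Finset.eq_of_subset_of_card_le
    (fun t ht => by obtain ⟨r, -, rfl⟩ := Finset.mem_image.1 ht; exact mem_fix.2 (hφf r))
    (by rw [X.circ.card_fix, Finset.card_image_of_injective _ φ.injective, Finset.card_univ, ZMod.card])
  have hpre : ∀ j, ∃ t, φ t = N j := fun j => by
    have := mem_fix.2 (hNf j)
    rw [← himg] at this
    obtain ⟨t, -, ht⟩ := Finset.mem_image.1 this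
    exact ⟨t, ht⟩
  choose n hn' using hpre
  obtain ⟨i, c, hic, hcases⟩ := eleven_pattern hn n
    (fun j e' => hN0 j (by rw [← hn', e', map_zero]))
    (fun j e' => he0 j (by
      rw [heq1, ← hn', e', map_ofNat]
      have h11 : (11 : F) = 0 := by exact_mod_cast X.circ.cast_q
      linear_combination -h11))
    (φ.injective (by rw [map_sum, map_one, Finset.sum_congr rfl fun j _ => hn' j, hNsum]))
  have hWv : ∀ j, W i c j = φ (wt n i c j) := fun j => by
    simp only [W, wt, hL4, heq1]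
    by_cases h1 : j = i
    · subst h1; simp [map_ofNat, hn']; ring
    by_cases h3 : j = c
    · subst h3; simp [h1, map_ofNat, hn', hσ2, hNf]; ring
    · simp [h1, h3, map_ofNat, hn']
  rcases hcases with ⟨p, r, hpr, hpn⟩ | ⟨hB, p, r, s, t, hpr, hps, hpt, hrs, hrt, hst, e1, e2⟩
  · have hneg : W i c p = -W i c r := by rw [hWv, hWv, hpn, map_neg]
    refine hfin i c hic (fun j => if j = p ∨ j = r then -1 else 1) (fun j => by
      split_ifs; exacts [X.circ.neg_one_mem, one_mem_mu]) ?_ ?_ fun D hD =>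
        X.not_mon_pair hn.ge hkM (fun j => hkne j p) hpr (x := 1) (fun j h1 h3 => by simp [h1, h3])
          (by simpa using fun e' => h2 (by linear_combination -e')) hD
    · rw [Fintype.prod_eq_mul p r hpr (fun j hj => by simp [hj.1, hj.2])]; simp
    · have hsum := hWsum i c hic
      have h1 : ∑ j, W i c j * ((if j = p ∨ j = r then -1 else 1 : F) - 1) = 0 := by
        rw [Fintype.sum_eq_add p r hpr (fun j hj => by simp [hj.1, hj.2])]
        simp only [or_true, true_or, if_true]
        linear_combination (-2 : F) * hneg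
      simp only [mul_sub, mul_one, Finset.sum_sub_distrib, hsum, sub_zero] at h1
      exact h1
  set A := W i c p with hA
  set B := W i c s with hB'
  have hAf : σ A = A := by rw [hA, hWv, hφf]
  have hBf : σ B = B := by rw [hB', hWv, hφf]
  have hne0 : ∀ j, W i c j ≠ 0 := fun j => by
    simp only [W]
    split_ifs
    exacts [mul_ne_zero (sub_ne_zero.2 hσl1) (he0 i),
      mul_ne_zero (sub_ne_zero.2 hl1) fun e' => he0 c (σ.map_eq_zero_iff.1 e'), mul_ne_zero hL0 (hN0 j)]
  obtain ⟨z, hzm, y, hym, hz1, -, -, hskew⟩ := X.circ.exists_masses hAf hBf (hne0 p) (hne0 s)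
  set d : ι → F := fun j => if j = p then z else if j = r then σ z else if j = s then y else if j = t then σ y else 1
    with hd
  have hdo : ∀ j, j ∉ ({p, r, s, t} : Finset ι) → d j = 1 := fun j hj => by
    simp only [Finset.mem_insert, Finset.mem_singleton, not_or] at hj
    simp [d, hj.1, hj.2.1, hj.2.2.1, hj.2.2.2]
  have hdm : ∀ j, d j ∈ mu σ := fun j => by
    simp only [d]
    split_ifs
    exacts [hzm, X.circ.conj_mem hzm, hym, X.circ.conj_mem hym, one_mem_mu]
  refine hfin i c hic d hdm ?_ ?_ (hrows c d hdm ?_ fun P hP hNP => ?_)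
  · rw [← Finset.prod_subset (Finset.subset_univ ({p, r, s, t} : Finset ι)) fun j _ hj => hdo j hj,
      Finset.prod_insert (by simp [hpr, hps, hpt]), Finset.prod_insert (by simp [hrs, hrt]), Finset.prod_pair hst]
    simp only [d, if_true, if_neg (Ne.symm hpr), if_neg (Ne.symm hps), if_neg (Ne.symm hpt), if_neg (Ne.symm hrs),
      if_neg (Ne.symm hrt), if_neg (Ne.symm hst)]
    linear_combination (y * σ y) * mem_mu.1 hzm + mem_mu.1 hym
  · have h1 : ∑ j, W i c j * (d j - 1) = 0 := by
      rw [← Finset.sum_subset (Finset.subset_univ ({p, r, s, t} : Finset ι)) fun j _ hj => by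
          rw [hdo j hj, sub_self, mul_zero],
        Finset.sum_insert (by simp [hpr, hps, hpt]), Finset.sum_insert (by simp [hrs, hrt]), Finset.sum_pair hst,
        show W i c r = A by rw [hA, hWv, hWv, e1], show W i c t = B by rw [hB', hWv, hWv, e2]]
      simp only [d, if_true, if_neg (Ne.symm hpr), if_neg (Ne.symm hps), if_neg (Ne.symm hpt), if_neg (Ne.symm hrs),
        if_neg (Ne.symm hrt), if_neg (Ne.symm hst), ← hA, ← hB']
      simp only [map_add, map_mul, map_sub, map_one, hAf, hBf, hs.invol] at hskew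
      linear_combination hskew
    simp only [mul_sub, mul_one, Finset.sum_sub_distrib, hWsum i c hic, sub_zero] at h1
    exact h1
  · obtain ⟨o, -, ho⟩ := Finset.exists_mem_notMem_of_card_lt_card (s := ({p, r, s, t} : Finset ι))
      (t := Finset.univ) (lt_of_le_of_lt Finset.card_le_four (by rw [Finset.card_univ, hn]; norm_num))
    exact ⟨p, o, by rw [hdo o ho]; simpa [d] using hz1⟩
  · intro h'
    refine hB P hP (φ.injective (by rw [hn', hn', hNP])) (φ.injective ?_)
    rw [map_mul, map_ofNat, hn', map_one]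
    rw [hL4, heq1, map_sub, map_one, map_mul, hσ2, hNf] at h'
    linear_combination h'

end Ctx

end Cfsg.Agent.Classical.MaxUnitMon
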