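import Cfsg.Agent.Lib.Classical.MaxUnitMonBase

/-!
The monomial group and one transvection generate all transvections, for `q ≥ 3`.
-/

set_option autoImplicit false
set_option linter.unusedSectionVars false

namespace Cfsg.Agent.Classical.MaxUnitMon

open Matrix Module MaxTv MaxMon

variable {F : Type*} [Field F] [Fintype F] [DecidableEq F] {ι : Type} [Fintype ι] [DecidableEq ι]

local notation "V" => (ι → F)
local notation "Mn" => Matrix ι ι F

variable {σ : F ≃+* F} {q : ℕ} {M : Subgroup (GL ι F)}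

theorem mul_apply_norm {d : ι → F} (hd : ∀ j, d j ∈ mu σ) (v : V) (j : ι) :
    (d * v) j * σ ((d * v) j) = v j * σ (v j) := by
  rw [Pi.mul_apply, map_mul]
  linear_combination (v j * σ (v j)) * mem_mu.1 (hd j)

theorem supp_mul {d : ι → F} (hd : ∀ j, d j ∈ mu σ) (v : V) : supp (d * v) = supp v := by
  ext j
  simp [mem_supp, mu_ne (hd j)]

namespace Ctx

variable (X : Ctx σ q M)
include X

theorem exists_notMem {v : V} (h : (supp v).card < Fintype.card ι) : ∃ o, v o = 0 := by
  obtain ⟨o, -, ho⟩ := Finset.exists_mem_notMem_of_card_lt_card (s := supp v) (t := Finset.univ)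
    (by rwa [Finset.card_univ])
  exact ⟨o, eq_zero_of_notMem ho⟩

/-- Rotations at one coordinate, another one being empty. -/
theorem upt_rotate_place {w : V} {o p : ι} {c₀ : F} (hwo : w o = 0) (hw : dot σ w w = 0) (hwp : w p ≠ 0)
    (hwT : Tr1 σ M w c₀) (hc : c₀ + σ c₀ = 0) (hc0 : c₀ ≠ 0) (hκ : c₀ * (w p * σ (w p)) ≠ -1) :
    UPt σ (dot σ) M w := by
  classical
  have hpo : p ≠ o := fun e => hwp (by rw [e, hwo])
  refine X.rotate (p := Pi.single p (w p)) (r := w - Pi.single p (w p)) hwT hw (add_sub_cancel _ _).symm ?_ ?_ ?_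
    hc hc0 ?_
  · rw [dot_single_left]; simp
  · rw [dot_single_left, Pi.single_eq_same]; exact X.norm_ne hwp
  · intro z hz
    obtain ⟨d, hd, hdz⟩ := X.exists_diag_fix (Function.update 1 p z) (fun j => by
      by_cases hj : j = p
      · subst hj; simpa using hz
      · simp [hj, one_mem_mu]) o
    refine ⟨d, hd, ?_, ?_⟩
    · rw [hdz _ (Pi.single_eq_of_ne (Ne.symm hpo) _)]
      funext j
      by_cases hj : j = p
      · subst hj; simp
      · simp [hj]
    · rw [hdz _ (by simp [hwo, Ne.symm hpo])]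
      funext j
      by_cases hj : j = p
      · subst hj; simp
      · simp [hj]
  · rwa [dot_single_left, Pi.single_eq_same]

/-- A transvection becomes a root group. -/
theorem exists_upt_of_tr1 (hq : 3 ≤ q) {v : V} {c₀ : F} (h : Tr1 σ M v c₀) (hv : dot σ v v = 0) (hv0 : v ≠ 0)
    (hsn : (supp v).card < Fintype.card ι) (hc : c₀ + σ c₀ = 0) (hc0 : c₀ ≠ 0)
    (hgood : 3 ≤ (supp v).card ∨ (2 : F) ≠ 0) :
    ∃ w, w ≠ 0 ∧ dot σ w w = 0 ∧ (supp w).card < Fintype.card ι ∧ UPt σ (dot σ) M w := by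
  classical
  have hs := X.herm
  obtain ⟨o, ho⟩ := X.exists_notMem hsn
  have key : ∀ (w : V) (p : ι), w o = 0 → dot σ w w = 0 → w p ≠ 0 → Tr1 σ M w c₀ →
      c₀ * (w p * σ (w p)) ≠ -1 → UPt σ (dot σ) M w :=
    fun w p hwo hw hwp hwT hκ => X.upt_rotate_place hwo hw hwp hwT hc hc0 hκ
  by_cases hp : ∃ p, v p ≠ 0 ∧ c₀ * (v p * σ (v p)) ≠ -1
  · obtain ⟨p, hp, hκ⟩ := hp
    exact ⟨v, hv0, hv, hsn, key v p ho hv hp h hκ⟩
  push Not at hp
  obtain ⟨i, hi⟩ := Function.ne_iff.1 hv0
  have hN : ∀ p, v p ≠ 0 → v p * σ (v p) = v i * σ (v i) := fun p hp' =>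
    mul_left_cancel₀ hc0 ((hp p hp').trans (hp i hi).symm)
  set N := v i * σ (v i) with hNdef
  have hN0 : N ≠ 0 := X.norm_ne hi
  have h2 : (2 : F) = 0 := by
    have e1 := hp i hi
    have e2 := congrArg σ e1
    rw [map_mul, X.norm_fix, map_neg, map_one, ← hNdef] at e2
    linear_combination e1 + e2 - N * hc
  have hs3 : 3 ≤ (supp v).card := hgood.resolve_right fun e => e h2
  obtain ⟨z, hz, hz1, hzT, hz2⟩ := X.circ.trace_exists ({1} : Finset F) (by simp; omega)
  rw [Finset.mem_singleton] at hzT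
  obtain ⟨a, b, c, ha, hb, hc', hab, hac, hbc⟩ := Finset.two_lt_card_iff.1 hs3
  have hzm : σ z ∈ mu σ := by rw [mem_mu, hs.invol, mul_comm]; exact mem_mu.1 hz
  set x : ι → F := Function.update (Function.update 1 a z) b (σ z) with hx
  have hxm : ∀ j, x j ∈ mu σ := fun j => by
    by_cases hjb : j = b
    · subst hjb; simpa [hx] using hzm
    by_cases hja : j = a
    · subst hja; simpa [hx, hab] using hz
    · simp [hx, hja, hjb, one_mem_mu]
  obtain ⟨d, hd, hdz⟩ := X.exists_diag_fix x hxm o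
  have hdv := hdz v ho
  have hT : Tr1 σ M (x * v) c₀ := hdv ▸ X.tr1_map h hd
  have hf : dot σ v (x * v) = N * (z + σ z) := by
    have hsum := X.sum_norm_supp hv
    rw [dot_eq_sum_supp fun j hj => eq_zero_of_notMem hj]
    have hab' : ({a, b} : Finset ι) ⊆ supp v := by simp [Finset.insert_subset_iff, ha, hb]
    rw [← Finset.sum_sdiff hab', Finset.sum_pair hab] at hsum ⊢
    rw [Finset.sum_congr rfl (g := fun j => v j * σ (v j)) fun j hj => by
      simp only [Finset.mem_sdiff, Finset.mem_insert, Finset.mem_singleton, not_or] at hj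
      simp [hx, hj.2.1, hj.2.2]]
    simp only [hx, Pi.mul_apply, Function.update_self, Function.update_of_ne hab, map_mul, hs.invol]
    linear_combination hsum + (σ z - 1) * hN a (mem_supp.1 ha) + (z - 1) * hN b (mem_supp.1 hb) - N * h2
  have hNc : c₀ * N = 1 := by linear_combination hp i hi - h2
  set w := v + (c₀ * dot σ v (x * v)) • (x * v) with hw
  have hcoef : c₀ * dot σ v (x * v) = z + σ z := by rw [hf, ← mul_assoc, hNc, one_mul]
  have hwc : ∀ j, w j = v j * (1 + (z + σ z) * x j) := fun j => by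
    rw [hw, hcoef, Pi.add_apply, Pi.smul_apply, Pi.mul_apply, smul_eq_mul]; ring
  have hwcc : w c ≠ 0 := by
    rw [hwc, show x c = 1 by simp [hx, Ne.symm hac, Ne.symm hbc], mul_one]
    exact mul_ne_zero (mem_supp.1 hc') fun e => hzT (by linear_combination e - h2)
  have hwi : dot σ w w = 0 := X.iso_add_smul hv (by rw [← hdv, X.iso d hd, hv]) hc
  have hwo : w o = 0 := by rw [hwc, ho, zero_mul]
  have hwκ : c₀ * (w c * σ (w c)) ≠ -1 := by
    intro e
    rw [hwc, show x c = 1 by simp [hx, Ne.symm hac, Ne.symm hbc], mul_one, map_mul, map_add, map_one,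
      map_add, hs.invol] at e
    have : (z + σ z) ^ 2 = 0 := by
      linear_combination -e + (1 + (z + σ z)) ^ 2 * hp c (mem_supp.1 hc') - (z + σ z) * h2
    exact hz2 (by linear_combination (pow_eq_zero_iff (n := 2) (by norm_num)).1 this - h2)
  refine ⟨w, fun e => hwcc (by rw [e]; rfl), hwi, lt_of_lt_of_le
    (Finset.card_lt_card (s := supp w) (t := Finset.univ) ?_) (Finset.card_univ (α := ι)).le,
    key w c hwo hwi hwcc (X.tr1_add_smul h hT) hwκ⟩
  exact Finset.ssubset_univ_iff.2 fun e => mem_supp.1 (e ▸ Finset.mem_univ o) hwo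

/-- A transvection at a vector of full support gives one at a smaller support. -/
theorem exists_tr1_smaller (hq : 3 ≤ q) {v : V} {c₀ : F} (h : Tr1 σ M v c₀) (hv : dot σ v v = 0)
    (hc : c₀ + σ c₀ = 0) (hc0 : c₀ ≠ 0) (hfull : ∀ j, v j ≠ 0) (hn : 12 ≤ Fintype.card ι) :
    ∃ w, dot σ w w = 0 ∧ 3 ≤ (supp w).card ∧ (supp w).card < Fintype.card ι ∧ Tr1 σ M w c₀ := by
  classical
  have hs := X.herm
  obtain ⟨U, -, hU⟩ := Finset.exists_subset_card_eq (s := (Finset.univ : Finset ι)) (n := 4)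
    (by rw [Finset.card_univ]; have := X.card; omega)
  obtain ⟨i, hi, hi0⟩ : ∃ i ∈ U, v i * σ (v i) + 1 / c₀ ≠ 0 ∨ ∀ j ∈ U, v j * σ (v j) + 1 / c₀ = 0 := by
    by_cases h : ∃ i ∈ U, v i * σ (v i) + 1 / c₀ ≠ 0
    · obtain ⟨i, hi, hne⟩ := h
      exact ⟨i, hi, Or.inl hne⟩
    · push Not at h
      obtain ⟨i, hi⟩ := Finset.card_pos.1 (show 0 < U.card by omega)
      exact ⟨i, hi, Or.inr h⟩
  set bad := -(v i * σ (v i) + 1 / c₀) / ∑ j ∈ U.erase i, v j * σ (v j) with hbad
  obtain ⟨z, hz, hz1, hzT, -⟩ := X.circ.trace_exists ({bad + σ bad} : Finset F) (by simp; omega)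
  have hρ : ∀ j, Function.update (fun _ => z) i 1 j ∈ mu σ := fun j => by
    by_cases hj : j = i
    · subst hj; simpa using one_mem_mu
    · simpa [hj] using hz
  have hc' : ∀ j, j ∉ U → v j * σ (v j) + (if j = i then 1 / c₀ else 0) ≠ 0 := fun j hj => by
    have : j ≠ i := fun e => hj (e ▸ hi)
    simp [this, X.norm_ne (hfull j), σ.map_eq_zero_iff, hfull j]
  obtain ⟨d, e, he, hd, hdJ, hprod, hsum⟩ :
      ∃ d : ι → F, ∃ e : F, e ∈ mu σ ∧ (∀ j, d j ∈ mu σ) ∧
        (∀ j ∈ U, d j = e * Function.update (fun _ => z) i 1 j) ∧ ∏ j, d j = 1 ∧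
        ∑ j, (v j * σ (v j) + if j = i then 1 / c₀ else 0) * d j = 0 := by
    rcases Nat.lt_or_ge 12 (Fintype.card ι) with hbig | h12
    · exact X.circ.exists_zero_sum hn (by omega) hρ hc'
    refine X.circ.exists_zero_sum_twelve (le_antisymm h12 hn) hU hρ hc' ?_
    rw [← Finset.add_sum_erase _ _ hi, Function.update_self, if_pos rfl, mul_one,
      Finset.sum_congr rfl (g := fun j => v j * σ (v j) * z) (fun j hj => by
        rw [Finset.mem_erase] at hj
        rw [Function.update_of_ne hj.1, if_neg hj.1, add_zero]), ← Finset.sum_mul]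
    intro h0
    rcases hi0 with hne | hall
    · have hS : ∑ j ∈ U.erase i, v j * σ (v j) ≠ 0 := fun e => hne (by linear_combination h0 - z * e)
      refine hzT (Finset.mem_singleton.2 ?_)
      rw [show bad = z by rw [hbad, div_eq_iff hS]; linear_combination -h0]
    · rw [hall i hi, zero_add, Finset.sum_congr rfl (g := fun _ => -(1 / c₀)) (fun j hj =>
        eq_neg_of_add_eq_zero_left (hall j (Finset.mem_of_mem_erase hj))), Finset.sum_const,
        Finset.card_erase_of_mem hi, hU, nsmul_eq_mul, mul_eq_zero, mul_eq_zero] at h0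
      have hN := hall i hi
      have hN' := congrArg σ hN
      rw [map_zero, map_add, map_mul, hs.invol, map_div₀, map_one,
        show σ c₀ = -c₀ by linear_combination hc, div_neg] at hN'
      have h2' : (2 : F) = 0 := by
        have : (2 : F) * (v i * σ (v i)) = 0 := by linear_combination hN + hN'
        exact (mul_eq_zero.1 this).resolve_right (mul_ne_zero (hfull i) (by simpa [σ.map_eq_zero_iff] using hfull i))
      rcases h0 with (h3 | h) | h
      · norm_num at h3
        exact one_ne_zero (α := F) (by linear_combination h3 - h2')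
      · exact one_div_ne_zero hc0 (neg_eq_zero.1 h)
      · exact mu_ne hz h
  have hdi : d i = e := by rw [hdJ i hi]; simp
  have hσd : ∀ j, σ (d j) ∈ mu σ := fun j => by rw [mem_mu, hs.invol, mul_comm]; exact mem_mu.1 (hd j)
  obtain ⟨g, hg, hgz⟩ := X.exists_diag_mem (fun j => σ (d j)) hσd (by rw [← map_prod, hprod, map_one])
  set u := (g : Mn) *ᵥ v with hu
  have hf : c₀ * dot σ v u = -e := by
    have h1 : dot σ v u = ∑ j, v j * σ (v j) * d j := Finset.sum_congr rfl fun j _ => by
      rw [hu, hgz, map_mul, hs.invol]; ring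
    simp only [add_mul, Finset.sum_add_distrib, ite_mul, zero_mul, Finset.sum_ite_eq', Finset.mem_univ, if_true]
      at hsum
    rw [← h1, hdi] at hsum
    field_simp at hsum
    linear_combination hsum
  set w := v + (c₀ * dot σ v u) • u with hw
  have hwc : ∀ j, w j = v j * (1 - e * σ (d j)) := fun j => by
    rw [hw, hf, Pi.add_apply, Pi.smul_apply, smul_eq_mul, hu, hgz]; ring
  have hwi : w i = 0 := by rw [hwc, hdi, mem_mu.1 he, sub_self, mul_zero]
  refine ⟨w, X.iso_add_smul hv (by rw [hu, X.iso g hg, hv]) hc, ?_, ?_, X.tr1_add_smul h (X.tr1_map h hg)⟩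
  · have hsub : U.erase i ⊆ supp w := fun j hj => by
      rw [Finset.mem_erase] at hj
      rw [mem_supp, hwc, hdJ j hj.2, Function.update_of_ne hj.1]
      refine mul_ne_zero (hfull j) (sub_ne_zero.2 fun e' => hz1 ?_)
      rw [map_mul, ← mul_assoc, mem_mu.1 he, one_mul] at e'
      rw [← hs.invol z, ← e', map_one]
    have := Finset.card_le_card hsub
    rw [Finset.card_erase_of_mem hi, hU] at this
    omega
  · exact lt_of_lt_of_le (Finset.card_lt_card (Finset.ssubset_univ_iff.2 fun e => mem_supp.1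
      (e ▸ Finset.mem_univ i) hwi)) (Finset.card_univ (α := ι)).le

/-- Ten coordinates in characteristic two: a smaller support. -/
theorem exists_tr1_smaller_ten (hq : 3 ≤ q) (hn : Fintype.card ι = 10) (h2 : (2 : F) = 0) {v : V} {c₀ : F}
    (h : Tr1 σ M v c₀) (hv : dot σ v v = 0) (hc : c₀ + σ c₀ = 0) (hc0 : c₀ ≠ 0) (hfull : ∀ j, v j ≠ 0) :
    ∃ w, dot σ w w = 0 ∧ 3 ≤ (supp w).card ∧ (supp w).card < Fintype.card ι ∧ Tr1 σ M w c₀ := by
  classical
  have hs := X.herm
  have hev : Even q := by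
    rcases Nat.even_or_odd q with h' | ⟨r, hr⟩
    · exact h'
    · exfalso
      have hq0 := X.circ.cast_q
      rw [hr, Nat.cast_add, Nat.cast_mul, Nat.cast_ofNat, h2, zero_mul, zero_add, Nat.cast_one] at hq0
      exact one_ne_zero hq0
  have hq4 : 4 ≤ q := by obtain ⟨r, hr⟩ := hev; omega
  obtain ⟨U, -, hU⟩ := Finset.exists_subset_card_eq (s := (Finset.univ : Finset ι)) (n := 3)
    (by rw [Finset.card_univ]; omega)
  obtain ⟨i, a, b, hia, hib, hab, rfl⟩ := Finset.card_eq_three.1 hU
  -- two ratios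
  set N : ι → F := fun j => v j * σ (v j) with hN
  have hN0 : ∀ j, N j ≠ 0 := fun j => X.norm_ne (hfull j)
  obtain ⟨z, hz, hz1, -, -⟩ := X.circ.trace_exists (∅ : Finset F) (by simp; omega)
  let t : F → F := fun x => (1 - x) * (1 - σ x)
  have ht : ∀ x ∈ mu σ, t x = 2 - (x + σ x) := fun x hx => by
    simp only [t]; linear_combination mem_mu.1 hx
  let B₁ : Finset F := (mu σ).filter fun x => N i + 1 / c₀ + z * N a + x * N b = 0
  let B₂ : Finset F := (mu σ).filter fun x => t z * N a + t x * N b = 0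
  have hB₁ : B₁.card ≤ 1 := Finset.card_le_one.2 fun x hx y hy => by
    simp only [B₁, Finset.mem_filter] at hx hy
    exact mul_right_cancel₀ (hN0 b) (by linear_combination hx.2 - hy.2)
  have hB₂ : B₂.card ≤ 2 := by
    refine le_trans (Finset.card_le_card fun x hx => ?_) (line_fiber (σ := σ) (β := (1 : F)) one_ne_zero (2 + t z * N a / N b))
    simp only [B₂, Finset.mem_filter, one_mul] at hx ⊢
    refine ⟨hx.1, ?_⟩
    have hx' := hx.2
    rw [ht x hx.1] at hx'
    field_simp [hN0 b]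
    linear_combination -hx'
  obtain ⟨z', hz', hz'B⟩ := Finset.exists_mem_notMem_of_card_lt_card (s := insert 1 (B₁ ∪ B₂)) (t := mu σ) (by
    have h1 := Finset.card_insert_le 1 (B₁ ∪ B₂)
    have h3 := Finset.card_union_le B₁ B₂
    rw [X.circ.card_mu]
    omega)
  simp only [Finset.mem_insert, Finset.mem_union, not_or, B₁, B₂, Finset.mem_filter, not_and] at hz'B
  obtain ⟨hz'1, hJ0, hiso0⟩ := hz'B
  have hJ0 := hJ0 hz'
  have hiso0 := hiso0 hz'
  set ρ : ι → F := fun j => if j = a then z else if j = b then z' else 1 with hρdef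
  have hρ : ∀ j, ρ j ∈ mu σ := fun j => by
    simp only [ρ]; split_ifs; exacts [hz, hz', one_mem_mu]
  have hρi : ρ i = 1 := by simp [ρ, hia, hib]
  have hρa : ρ a = z := by simp [ρ]
  have hρb : ρ b = z' := by simp [ρ, Ne.symm hab]
  let c : ι → F := fun j => N j + if j = i then 1 / c₀ else 0
  have hcout : ∀ j, j ∉ ({i, a, b} : Finset ι) → c j ≠ 0 := fun j hj => by
    simp only [Finset.mem_insert, Finset.mem_singleton, not_or] at hj
    simp [c, hj.1, hN0 j]
  obtain ⟨d, e, he, hd, hdJ, hprod, hsum⟩ :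
      ∃ d : ι → F, ∃ e : F, e ∈ mu σ ∧ (∀ j, d j ∈ mu σ) ∧
        (∀ j ∈ ({i, a, b} : Finset ι), d j = e * ρ j) ∧ ∏ j, d j = 1 ∧ ∑ j, c j * d j = 0 := by
    obtain ⟨B, hB, hBc⟩ := Finset.exists_subset_card_eq (s := ({i, a, b} : Finset ι)ᶜ) (n := 4)
      (by rw [Finset.card_compl]; omega)
    have hJA : ({i, a, b} : Finset ι) ⊆ Bᶜ := fun j hj =>
      Finset.mem_compl.2 fun h => Finset.mem_compl.1 (hB h) hj
    obtain ⟨x, y, w, hxy, hxw, hyw, hS⟩ := Finset.card_eq_three.1 (show (Bᶜ \ {i, a, b}).card = 3 by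
      rw [Finset.card_sdiff_of_subset hJA, Finset.card_compl, hBc, hn, hU])
    have hout : ∀ j ∈ Bᶜ \ ({i, a, b} : Finset ι), c j ≠ 0 := fun j hj => hcout j (Finset.mem_sdiff.1 hj).2
    have hJsum : ∑ j ∈ ({i, a, b} : Finset ι), c j * ρ j ≠ 0 := by
      rw [Finset.sum_insert (by simp [hia, hib]), Finset.sum_pair hab, hρi, hρa, hρb]
      simp only [c, Ne.symm hia, Ne.symm hib, if_true, if_false, add_zero, mul_one]
      exact fun e => hJ0 (by linear_combination e)
    obtain ⟨u₁, hu₁, u₂, hu₂, u₃, hu₃, u₄, hu₄, e⟩ := X.circ.exists_four (hout x (by simp [hS]))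
      (hout y (by simp [hS])) (hout w (by simp [hS])) hJsum 0
    refine X.circ.exists_zero_sum_split hB hBc le_rfl ?_ hρ hcout
      ⟨fun j => if j = x then u₁ * u₄⁻¹ else if j = y then u₂ * u₄⁻¹ else u₃ * u₄⁻¹, fun j => ?_, ?_⟩
    · rw [hn]
      exact (Nat.coprime_two_left).2 (Even.add_one hev)
    · dsimp only
      split_ifs
      exacts [mul_mem_mu hu₁ (inv_mem_mu hu₄), mul_mem_mu hu₂ (inv_mem_mu hu₄), mul_mem_mu hu₃ (inv_mem_mu hu₄)]
    · rw [hS, Finset.sum_insert (by simp [hxy, hxw]), Finset.sum_pair hyw]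
      simp only [if_true, if_neg hxy.symm, if_neg hxw.symm, if_neg hyw.symm]
      field_simp [mu_ne hu₄]
      linear_combination e
  have hdi : d i = e := by rw [hdJ i (by simp), hρi, mul_one]
  have hσd : ∀ j, σ (d j) ∈ mu σ := fun j => by rw [mem_mu, hs.invol, mul_comm]; exact mem_mu.1 (hd j)
  obtain ⟨g, hg, hgz⟩ := X.exists_diag_mem (fun j => σ (d j)) hσd (by rw [← map_prod, hprod, map_one])
  set u := (g : Mn) *ᵥ v with hu
  have hf : c₀ * dot σ v u = -e := by
    have h1 : dot σ v u = ∑ j, v j * σ (v j) * d j := Finset.sum_congr rfl fun j _ => by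
      rw [hu, hgz, map_mul, hs.invol]; ring
    simp only [c, hN, add_mul, Finset.sum_add_distrib, ite_mul, zero_mul, Finset.sum_ite_eq', Finset.mem_univ,
      if_true] at hsum
    rw [← h1, hdi] at hsum
    field_simp at hsum
    linear_combination hsum
  set w := v + (c₀ * dot σ v u) • u with hw
  have hwc : ∀ j, w j = v j * (1 - e * σ (d j)) := fun j => by
    rw [hw, hf, Pi.add_apply, Pi.smul_apply, smul_eq_mul, hu, hgz]; ring
  have hwi : w i = 0 := by rw [hwc, hdi, mem_mu.1 he, sub_self, mul_zero]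
  have hwa : w a = v a * (1 - σ z) := by
    rw [hwc, hdJ a (by simp), hρa, map_mul, ← mul_assoc, mem_mu.1 he, one_mul]
  have hwb : w b = v b * (1 - σ z') := by
    rw [hwc, hdJ b (by simp), hρb, map_mul, ← mul_assoc, mem_mu.1 he, one_mul]
  have hww : dot σ w w = 0 := X.iso_add_smul hv (by rw [hu, X.iso g hg, hv]) hc
  refine ⟨w, hww, ?_, ?_, X.tr1_add_smul h (X.tr1_map h hg)⟩
  · by_contra hlt
    have hne : ∀ x : F, x ≠ 1 → (1 : F) - σ x ≠ 0 := fun x hx e' => hx (by
      rw [← hs.invol x, ← sub_eq_zero.1 e', map_one])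
    have hsub : ({a, b} : Finset ι) ⊆ supp w := by
      intro j hj
      simp only [Finset.mem_insert, Finset.mem_singleton] at hj
      rw [mem_supp]
      rcases hj with rfl | rfl
      · rw [hwa]; exact mul_ne_zero (hfull _) (hne z hz1)
      · rw [hwb]; exact mul_ne_zero (hfull _) (hne z' hz'1)
    have heq := Finset.eq_of_subset_of_card_le hsub (by rw [Finset.card_pair hab]; omega)
    rw [dot_eq_sum_supp (S := supp w) (fun j hj => eq_zero_of_notMem hj), ← heq, Finset.sum_pair hab, hwa, hwb,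
      map_mul, map_mul, map_sub, map_sub, map_one, hs.invol, hs.invol] at hww
    refine hiso0 ?_
    simp only [t, hN]
    linear_combination hww
  · exact lt_of_lt_of_le (Finset.card_lt_card (Finset.ssubset_univ_iff.2 fun e => mem_supp.1
      (e ▸ Finset.mem_univ i) hwi)) (Finset.card_univ (α := ι)).le

/-- Three masses lower the support. -/
theorem exists_upt_smaller (hq : 3 ≤ q) {v : V} (hU : UPt σ (dot σ) M v) (hv : dot σ v v = 0)
    (hs3 : 3 ≤ (supp v).card) (hsn : (supp v).card < Fintype.card ι) :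
    ∃ w, w ≠ 0 ∧ dot σ w w = 0 ∧ (supp w).card < (supp v).card ∧ UPt σ (dot σ) M w := by
  classical
  have hs := X.herm
  obtain ⟨o, ho⟩ := X.exists_notMem hsn
  have hsum := X.sum_norm_supp hv
  -- the change by a diagonal element
  have step : ∀ (x : ι → F), (∀ j, x j ∈ mu σ) → dot σ v (x * v) ≠ 0 →
      dot σ v (x * v) + σ (dot σ v (x * v)) = 0 → ∀ p r, v p ≠ 0 → v r ≠ 0 → x p = 1 → x r ≠ 1 →
      ∃ w, w ≠ 0 ∧ dot σ w w = 0 ∧ (supp w).card < (supp v).card ∧ UPt σ (dot σ) M w := by
    intro x hx hf0 hfs p r hp hr hxp hxr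
    obtain ⟨d, hd, hdz⟩ := X.exists_diag_fix x hx o
    have hdv := hdz v ho
    set c := -(dot σ v (x * v))⁻¹ with hc
    have hcs : c + σ c = 0 := by
      rw [hc, map_neg, map_inv₀, show σ (dot σ v (x * v)) = -dot σ v (x * v) by linear_combination hfs, inv_neg]
      ring
    have hcf : c * dot σ v (x * v) = -1 := by rw [hc, neg_mul, inv_mul_cancel₀ hf0]
    have hxi : dot σ (x * v) (x * v) = 0 := by rw [← hdv, X.iso d hd, hv]
    refine ⟨v + (c * dot σ v (x * v)) • (x * v), fun e => ?_, X.iso_add_smul hv hxi hcs, ?_, ?_⟩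
    · have := congrFun e r
      rw [hcf, Pi.add_apply, Pi.smul_apply, Pi.mul_apply, Pi.zero_apply, smul_eq_mul] at this
      exact hxr (mul_right_cancel₀ hr (by linear_combination -this))
    · refine Finset.card_lt_card (Finset.ssubset_iff_of_subset (fun j hj => ?_) |>.2
        ⟨p, mem_supp.2 hp, fun hj => mem_supp.1 hj ?_⟩)
      · rw [mem_supp] at hj ⊢
        exact fun e => hj (by simp [e])
      · rw [hcf, Pi.add_apply, Pi.smul_apply, Pi.mul_apply, hxp, smul_eq_mul]; ring
    · exact hU.add_smul hs (hdv ▸ X.upt_map hU hd) hxi hcs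
  by_cases hpair : ∃ p r, p ≠ r ∧ v p ≠ 0 ∧ v r ≠ 0 ∧ v p * σ (v p) + v r * σ (v r) ≠ 0
  · obtain ⟨p, r, hpr, hp, hr, hne⟩ := hpair
    obtain ⟨z, hz, y, hy, hz1, hy1, hf0, hfs⟩ := X.circ.exists_masses (N := v r * σ (v r))
      (R := -(v p * σ (v p) + v r * σ (v r))) (X.norm_fix _)
      (by rw [map_neg, map_add, X.norm_fix, X.norm_fix]) (X.norm_ne hr) (neg_ne_zero.2 hne)
    set x : ι → F := Function.update (Function.update (fun _ => y) p 1) r z with hx
    have hxm : ∀ j, x j ∈ mu σ := fun j => by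
      by_cases hjr : j = r
      · subst hjr; simpa [hx] using hz
      by_cases hjp : j = p
      · subst hjp; simpa [hx, hjr] using one_mem_mu
      · simp [hx, hjp, hjr, hy]
    have hf : dot σ v (x * v) = v r * σ (v r) * (σ z - 1) +
        -(v p * σ (v p) + v r * σ (v r)) * (σ y - 1) := by
      have hsum' := hsum
      rw [dot_eq_sum_supp fun j hj => eq_zero_of_notMem hj]
      have hab' : ({p, r} : Finset ι) ⊆ supp v := by simp [Finset.insert_subset_iff, mem_supp, hp, hr]
      rw [← Finset.sum_sdiff hab', Finset.sum_pair hpr] at hsum' ⊢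
      rw [Finset.sum_congr rfl (g := fun j => σ y * (v j * σ (v j))) fun j hj => by
        simp only [Finset.mem_sdiff, Finset.mem_insert, Finset.mem_singleton, not_or] at hj
        simp [hx, hj.2.1, hj.2.2]; ring, ← Finset.mul_sum]
      simp only [hx, Pi.mul_apply, Function.update_self, Function.update_of_ne hpr, map_mul, map_one, one_mul]
      linear_combination σ y * hsum'
    exact step x hxm (by rwa [hf]) (by rwa [hf]) p r hp hr (by simp [hx, hpr]) (by simpa [hx] using hz1)
  -- all norms are equal and the characteristic is two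
  push Not at hpair
  obtain ⟨a, b, c, ha, hb, hc', hab, hac, hbc⟩ := Finset.two_lt_card_iff.1 hs3
  rw [mem_supp] at ha hb hc'
  have e1 := hpair a b hab ha hb
  have e2 := hpair a c hac ha hc'
  have e3 := hpair b c hbc hb hc'
  have h2 : (2 : F) = 0 := mul_right_cancel₀ (X.norm_ne ha) (by linear_combination e1 + e2 - e3)
  have hN : ∀ j, v j ≠ 0 → v j * σ (v j) = v a * σ (v a) := fun j hj => by
    by_cases hja : j = a
    · rw [hja]
    · linear_combination hpair j a hja hj ha - (v a * σ (v a)) * h2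
  obtain ⟨z, hz, hz1, -, hz2⟩ := X.circ.trace_exists (∅ : Finset F) (by simp; omega)
  set x : ι → F := Function.update (Function.update 1 a z) b (σ z) with hx
  have hzm : σ z ∈ mu σ := by rw [mem_mu, hs.invol, mul_comm]; exact mem_mu.1 hz
  have hxm : ∀ j, x j ∈ mu σ := fun j => by
    by_cases hjb : j = b
    · subst hjb; simpa [hx] using hzm
    by_cases hja : j = a
    · subst hja; simpa [hx, hab] using hz
    · simp [hx, hja, hjb, one_mem_mu]
  have hf : dot σ v (x * v) = v a * σ (v a) * (z + σ z) := by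
    have hsum' := hsum
    rw [dot_eq_sum_supp fun j hj => eq_zero_of_notMem hj]
    have hab' : ({a, b} : Finset ι) ⊆ supp v := by simp [Finset.insert_subset_iff, mem_supp, ha, hb]
    rw [← Finset.sum_sdiff hab', Finset.sum_pair hab] at hsum' ⊢
    rw [Finset.sum_congr rfl (g := fun j => v j * σ (v j)) fun j hj => by
      simp only [Finset.mem_sdiff, Finset.mem_insert, Finset.mem_singleton, not_or] at hj
      simp [hx, hj.2.1, hj.2.2]]
    simp only [hx, Pi.mul_apply, Function.update_self, Function.update_of_ne hab, map_mul, hs.invol]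
    linear_combination hsum' + (z - 1) * hN b hb - (v a * σ (v a)) * h2
  refine step x hxm ?_ ?_ c a hc' ha (by simp [hx, Ne.symm hac, Ne.symm hbc]) (by simpa [hx, hab] using hz1)
  · rw [hf]; exact mul_ne_zero (X.norm_ne ha) fun e => hz2 (by linear_combination e - h2)
  · rw [hf, map_mul, X.norm_fix, map_add, hs.invol]; linear_combination (v a * σ (v a) * (z + σ z)) * h2

theorem exists_upt_pair (hq : 3 ≤ q) {v : V} (hU : UPt σ (dot σ) M v) (hv : dot σ v v = 0) (hv0 : v ≠ 0)
    (hsn : (supp v).card < Fintype.card ι) :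
    ∃ w, dot σ w w = 0 ∧ (supp w).card = 2 ∧ UPt σ (dot σ) M w := by
  induction hk : (supp v).card using Nat.strong_induction_on generalizing v with
  | _ k ih =>
    have h2 := X.two_le_supp hv hv0
    rcases Nat.lt_or_ge (supp v).card 3 with h3 | h3
    · exact ⟨v, hv, by omega, hU⟩
    · obtain ⟨w, hw0, hwi, hlt, hwU⟩ := X.exists_upt_smaller hq hU hv h3 hsn
      exact ih _ (hk ▸ hlt) hwU hwi hw0 (hlt.trans hsn) rfl

/-- One pair gives every pair. -/
theorem upt_pair {w : V} (hw : dot σ w w = 0) (hws : (supp w).card = 2) (hU : UPt σ (dot σ) M w) {v : V}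
    (hv : dot σ v v = 0) (hvs : (supp v).card = 2) : UPt σ (dot σ) M v := by
  classical
  obtain ⟨a, b, hab, hab'⟩ := Finset.card_eq_two.1 hws
  obtain ⟨a', b', hab₁, hab₁'⟩ := Finset.card_eq_two.1 hvs
  have hwa : w a ≠ 0 := mem_supp.1 (by rw [hab']; simp)
  have hwb : w b ≠ 0 := mem_supp.1 (by rw [hab']; simp)
  have hva : v a' ≠ 0 := mem_supp.1 (by rw [hab₁']; simp)
  have hvb : v b' ≠ 0 := mem_supp.1 (by rw [hab₁']; simp)
  have e1 := X.sum_norm_supp hw
  rw [hab', Finset.sum_pair hab] at e1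
  have e2 := X.sum_norm_supp hv
  rw [hab₁', Finset.sum_pair hab₁] at e2
  obtain ⟨s, hs'⟩ := X.herm.exists_norm (t := v a' * σ (v a') / (w a * σ (w a)))
    (by rw [map_div₀, X.norm_fix, X.norm_fix])
  have hna := X.norm_ne hwa
  rw [eq_div_iff hna] at hs'
  have hs0 : s ≠ 0 := fun e => X.norm_ne hva (by rw [← hs', e, zero_mul, zero_mul])
  set π : Equiv.Perm ι := (Equiv.swap a a').trans (Equiv.swap (Equiv.swap a a' b) b') with hπ
  have hπa : π a = a' := by
    rw [hπ, Equiv.trans_apply, Equiv.swap_apply_left, Equiv.swap_apply_of_ne_of_ne ?_ hab₁]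
    intro e
    exact hab ((Equiv.swap a a').injective (by rw [Equiv.swap_apply_left]; exact e))
  have hπb : π b = b' := by simp [hπ]
  obtain ⟨o, -, ho⟩ := Finset.exists_mem_notMem_of_card_lt_card (s := ({a, b} : Finset ι)) (t := Finset.univ)
    (lt_of_le_of_lt Finset.card_le_two (by rw [Finset.card_univ]; have := X.card; omega))
  simp only [Finset.mem_insert, Finset.mem_singleton, not_or] at ho
  set xa := v a' / (s * w a)
  set xb := v b' / (s * w b)
  have hxa : xa ∈ mu σ := by
    rw [mem_mu, map_div₀, map_mul, div_mul_div_comm, div_eq_one_iff_eq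
      (mul_ne_zero (mul_ne_zero hs0 hwa) (mul_ne_zero (fun e => hs0 (σ.map_eq_zero_iff.1 e))
        fun e => hwa (σ.map_eq_zero_iff.1 e)))]
    linear_combination -hs'
  have hxb : xb ∈ mu σ := by
    rw [mem_mu, map_div₀, map_mul, div_mul_div_comm, div_eq_one_iff_eq
      (mul_ne_zero (mul_ne_zero hs0 hwb) (mul_ne_zero (fun e => hs0 (σ.map_eq_zero_iff.1 e))
        fun e => hwb (σ.map_eq_zero_iff.1 e)))]
    linear_combination hs' + e2 - (s * σ s) * e1
  set ε : F := ((Equiv.Perm.sign π : ℤ) : F) with hε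
  have hε2 : ε * ε = 1 := by rcases Int.units_eq_one_or (Equiv.Perm.sign π) with h | h <;> simp [hε, h]
  have hεm : ε ∈ mu σ := by rw [mem_mu, hε, map_intCast]; exact hε2
  set x : ι → F := Function.update (Function.update (Function.update 1 a xa) b xb) o (ε * xa * xb)⁻¹ with hx
  have hxm : ∀ j, x j ∈ mu σ := fun j => by
    by_cases hjo : j = o
    · subst hjo; simpa [hx] using inv_mem_mu (mul_mem_mu (mul_mem_mu hεm hxa) hxb)
    by_cases hjb : j = b
    · subst hjb; simpa [hx, hjo] using hxb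
    by_cases hja : j = a
    · subst hja; simpa [hx, hjo, hjb] using hxa
    · simp [hx, hja, hjb, hjo, one_mem_mu]
  have hprod : ∏ j, x j = xa * xb * (ε * xa * xb)⁻¹ := by
    rw [← Finset.prod_subset (Finset.subset_univ ({a, b, o} : Finset ι)) fun j _ hj => by
      simp only [Finset.mem_insert, Finset.mem_singleton, not_or] at hj
      simp [hx, hj.1, hj.2.1, hj.2.2]]
    rw [Finset.prod_insert (by simp [hab, Ne.symm ho.1]), Finset.prod_pair (Ne.symm ho.2)]
    simp [hx, hab, Ne.symm ho.1, Ne.symm ho.2]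
    ring
  obtain ⟨m, hm, -, hmz⟩ := X.exists_mon_mem π x hxm (by
    rw [hprod, ← hε]
    have h1 : ε * xa * xb ≠ 0 := mu_ne (mul_mem_mu (mul_mem_mu hεm hxa) hxb)
    rw [← mul_assoc, ← mul_assoc, mul_inv_cancel₀ h1])
  have hmw : (m : Mn) *ᵥ (s • w) = v := by
    funext j
    obtain ⟨i, rfl⟩ : ∃ i, j = π i := ⟨π.symm j, by simp⟩
    rw [hmz, Pi.smul_apply, smul_eq_mul]
    by_cases hia : i = a
    · subst hia
      rw [hπa, show x i = xa by simp [hx, hab, Ne.symm ho.1]]
      exact div_mul_cancel₀ _ (mul_ne_zero hs0 hwa)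
    by_cases hib : i = b
    · subst hib
      rw [hπb, show x i = xb by simp [hx, Ne.symm ho.2]]
      exact div_mul_cancel₀ _ (mul_ne_zero hs0 hwb)
    · rw [eq_zero_of_notMem (v := w) (by simp [hab', hia, hib]), mul_zero, mul_zero, eq_comm]
      refine eq_zero_of_notMem ?_
      rw [hab₁']
      simp only [Finset.mem_insert, Finset.mem_singleton, not_or, ← hπa, ← hπb, π.injective.eq_iff]
      exact ⟨hia, hib⟩
  exact hmw ▸ X.upt_map (hU.smul X.herm s) hm

/-- Moves inside a hyperbolic plane. -/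
theorem move {w₁ w₂ u v z : V} (h1 : dot σ w₁ w₁ = 0) (h2 : dot σ w₂ w₂ = 0) (h12 : dot σ w₁ w₂ = 1)
    (hw₁ : UPt σ (dot σ) M w₁) (hw₂ : UPt σ (dot σ) M w₂) (hu : UPt σ (dot σ) M u)
    (hz1 : dot σ z w₁ = 0) (hz2 : dot σ z w₂ = 0) {x₁ x₂ y₁ y₂ : F}
    (hu' : u = z + y₁ • w₁ + y₂ • w₂) (hv' : v = z + x₁ • w₁ + x₂ • w₂)
    (htr : x₁ * σ x₂ + σ (x₁ * σ x₂) = y₁ * σ y₂ + σ (y₁ * σ y₂))
    (hT : y₁ * σ y₂ + σ (y₁ * σ y₂) ≠ 0) (hG : σ ((x₁ - y₁) * σ y₁) ≠ (x₁ - y₁) * σ y₁) (hx₁ : x₁ ≠ 0) :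
    UPt σ (dot σ) M v := by
  have hs := X.herm
  have h21 : dot σ w₂ w₁ = 1 := by rw [hs.herm, h12, map_one]
  set D := x₁ - y₁ with hD
  set G := D * σ y₁ with hGdef
  have hG' : G - σ G ≠ 0 := sub_ne_zero.2 (Ne.symm hG)
  set a := (D * σ y₂ + σ (D * σ y₂)) / (G - σ G) with ha
  have has : a + σ a = 0 := by
    rw [ha, map_div₀, map_sub, map_add, hs.invol, hs.invol, add_comm (σ (D * σ y₂)), ← neg_sub G, div_neg,
      add_neg_cancel]
  have haG : a * (G - σ G) = D * σ y₂ + σ (D * σ y₂) := by rw [ha, div_mul_cancel₀ _ hG']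
  clear_value a
  set y₃ := y₂ + a * y₁ with hy₃
  have hσa : σ a = -a := by linear_combination has
  have hy₃0 : y₃ ≠ 0 := fun e => hT (by
    have e2 : y₂ = -(a * y₁) := by linear_combination e
    rw [e2]
    simp only [map_mul, map_neg, hs.invol, hσa]
    ring)
  set b := D / y₃ with hb
  have hby : b * y₃ = D := div_mul_cancel₀ _ hy₃0
  have hD3 : D * σ y₃ + σ (D * σ y₃) = 0 := by
    rw [hy₃]
    simp only [hGdef, map_add, map_mul, map_neg, hs.invol, hσa] at haG ⊢
    linear_combination -haG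
  have hbs : b + σ b = 0 := by
    rw [hb, map_div₀, div_add_div _ _ hy₃0 (fun e => hy₃0 (σ.map_eq_zero_iff.1 e))]
    rw [show D * σ y₃ + y₃ * σ D = D * σ y₃ + σ (D * σ y₃) by rw [map_mul, hs.invol]; ring, hD3, zero_div]
  set c := (x₂ - y₃) / x₁ with hc
  have hcx : c * x₁ = x₂ - y₃ := div_mul_cancel₀ _ hx₁
  have hcs : c + σ c = 0 := by
    rw [hc, map_div₀, div_add_div _ _ hx₁ (fun e => hx₁ (σ.map_eq_zero_iff.1 e)), div_eq_zero_iff]
    left
    have e1 : x₁ = y₁ + D := by rw [hD]; ring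
    rw [hy₃] at hD3 ⊢
    simp only [map_sub, map_add, map_mul, map_neg, hs.invol, hσa] at htr hD3 ⊢
    rw [e1] at htr ⊢
    simp only [map_add] at htr ⊢
    linear_combination htr - hD3
  have s1 := hu.add_smul hs hw₂ h2 has
  have e1 : dot σ u w₂ = y₁ := by
    rw [hu', hs.add_left, hs.add_left, hs.smul_left, hs.smul_left, hz2, h12, h2]; ring
  have u1 : u + (a * dot σ u w₂) • w₂ = z + y₁ • w₁ + y₃ • w₂ := by rw [e1, hu', hy₃]; module
  rw [u1] at s1
  have s2 := s1.add_smul hs hw₁ h1 hbs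
  have e2 : dot σ (z + y₁ • w₁ + y₃ • w₂) w₁ = y₃ := by
    rw [hs.add_left, hs.add_left, hs.smul_left, hs.smul_left, hz1, h1, h21]; ring
  have u2 : z + y₁ • w₁ + y₃ • w₂ + (b * dot σ (z + y₁ • w₁ + y₃ • w₂) w₁) • w₁ = z + x₁ • w₁ + y₃ • w₂ := by
    rw [e2, hby, hD]; module
  rw [u2] at s2
  have s3 := s2.add_smul hs hw₂ h2 hcs
  have e3 : dot σ (z + x₁ • w₁ + y₃ • w₂) w₂ = x₁ := by
    rw [hs.add_left, hs.add_left, hs.smul_left, hs.smul_left, hz2, h12, h2]; ring
  rw [e3, hcx] at s3
  rw [hv']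
  convert s3 using 1
  module

/-- All transvections, from all pairs. -/
theorem upt_all (hq : 3 ≤ q) (hpair : ∀ w, dot σ w w = 0 → (supp w).card = 2 → UPt σ (dot σ) M w) :
    ∀ v, dot σ v v = 0 → UPt σ (dot σ) M v := by
  classical
  have hs := X.herm
  have hsingle : ∀ (p r : ι) (a b : F), p ≠ r → a ≠ 0 → b ≠ 0 → a * σ a + b * σ b = 0 →
      dot σ (Pi.single p a + Pi.single r b) (Pi.single p a + Pi.single r b) = 0 ∧
        (supp (Pi.single p a + Pi.single r b : V)).card = 2 := fun p r a b hpr ha hb hab => by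
    refine ⟨?_, ?_⟩
    · simp only [hs.add_left, hs.add_right, dot_single_left, Pi.single_eq_same, Pi.single_eq_of_ne hpr,
        Pi.single_eq_of_ne hpr.symm, map_zero, mul_zero]
      linear_combination hab
    · rw [show supp (Pi.single p a + Pi.single r b : V) = {p, r} by
        ext j
        by_cases hjp : j = p
        · subst hjp; simp [mem_supp, ha, hpr]
        by_cases hjr : j = r
        · subst hjr; simp [mem_supp, hb, Ne.symm hpr]
        · simp [mem_supp, hjp, hjr]]
      exact Finset.card_pair hpr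
  obtain ⟨ρ₀, hρ₀⟩ := hs.exists_norm (t := (-1 : F)) (by rw [map_neg, map_one])
  obtain ⟨ζ, hζ, hζ1⟩ := hs.exists_norm_one
  have hρ0 : ρ₀ ≠ 0 := fun e => by simp [e] at hρ₀
  have hρζ : (ρ₀ * ζ) * σ (ρ₀ * ζ) = -1 := by rw [map_mul]; linear_combination (ζ * σ ζ) * hρ₀ - hζ
  intro v hv
  induction hk : (supp v).card using Nat.strong_induction_on generalizing v with
  | _ k ih =>
    rcases eq_or_ne v 0 with rfl | hv0
    · exact UPt.zero hs
    have h2 := X.two_le_supp hv hv0
    rcases Nat.lt_or_ge (supp v).card 3 with h3 | h3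
    · exact hpair v hv (by omega)
    -- the case of a pair with non-zero sum of norms
    have main : ∀ v : V, dot σ v v = 0 → (supp v).card ≤ k → ∀ p r, p ≠ r → v p ≠ 0 → v r ≠ 0 →
        v p * σ (v p) + v r * σ (v r) ≠ 0 → UPt σ (dot σ) M v := by
      intro v hv hvk p r hpr hp hr hS
      obtain ⟨ρ₁, ρ₂, hn1, hn2, hne, hρv⟩ : ∃ ρ₁ ρ₂ : F, ρ₁ * σ ρ₁ = -1 ∧ ρ₂ * σ ρ₂ = -1 ∧ ρ₁ ≠ ρ₂ ∧
          v p + v r * σ ρ₂ ≠ 0 := by
        have hne : ρ₀ ≠ ρ₀ * ζ := fun e => hζ1 (mul_left_cancel₀ hρ0 (by rw [mul_one]; exact e.symm))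
        by_cases h : v p + v r * σ ρ₀ = 0
        · refine ⟨ρ₀, ρ₀ * ζ, hρ₀, hρζ, hne, fun e => hne (σ.injective (mul_left_cancel₀ hr ?_))⟩
          linear_combination h - e
        · exact ⟨ρ₀ * ζ, ρ₀, hρζ, hρ₀, Ne.symm hne, h⟩
      have hd : 1 + ρ₁ * σ ρ₂ ≠ 0 := fun e => hne (by linear_combination ρ₁ * hn2 - ρ₂ * e)
      set α := σ (1 / (1 + ρ₁ * σ ρ₂)) with hα
      have hα0 : α ≠ 0 := by rw [hα, ne_eq, σ.map_eq_zero_iff]; exact div_ne_zero one_ne_zero hd
      have hρ1 : ρ₁ ≠ 0 := fun e => by simp [e] at hn1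
      have hρ2 : ρ₂ ≠ 0 := fun e => by simp [e] at hn2
      set w₁ : V := Pi.single p 1 + Pi.single r ρ₁ with hw₁
      set w₂ : V := Pi.single p α + Pi.single r (α * ρ₂) with hw₂
      have p1 := hsingle p r 1 ρ₁ hpr one_ne_zero hρ1 (by rw [map_one]; linear_combination hn1)
      have p2 := hsingle p r α (α * ρ₂) hpr hα0 (mul_ne_zero hα0 hρ2) (by
        rw [map_mul]; linear_combination (α * σ α) * hn2)
      rw [← hw₁] at p1
      rw [← hw₂] at p2
      have h12 : dot σ w₁ w₂ = 1 := by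
        simp only [hw₁, hw₂, hs.add_left, hs.add_right, dot_single_left, Pi.single_eq_same,
          Pi.single_eq_of_ne hpr, Pi.single_eq_of_ne hpr.symm, map_zero, mul_zero, map_mul, hα, hs.invol]
        field_simp
        ring
      have hfv : ∀ y : V, dot σ y w₁ = y p + y r * σ ρ₁ ∧ dot σ y w₂ = σ α * (y p + y r * σ ρ₂) := fun y => by
        simp only [hw₁, hw₂, hs.add_right, dot_single_right, map_one, map_mul]
        constructor <;> ring
      set x₁ := dot σ v w₂
      set x₂ := dot σ v w₁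
      have hx₁ : x₁ ≠ 0 := by
        rw [show x₁ = _ from (hfv v).2]
        exact mul_ne_zero (fun e => hα0 (σ.map_eq_zero_iff.1 e)) hρv
      obtain ⟨X₀, hX₀⟩ := hs.exists_norm (t := v p * σ (v p) + v r * σ (v r))
        (by rw [map_add, X.norm_fix, X.norm_fix])
      have hX0 : X₀ ≠ 0 := fun e => hS (by rw [← hX₀, e, zero_mul])
      -- a good phase
      obtain ⟨τ, hτ0, hτ⟩ := hs.exists_skew
      set β := σ α * X₀ * σ x₁ with hβ
      have hβ0 : β ≠ 0 := mul_ne_zero (mul_ne_zero (fun e => hα0 (σ.map_eq_zero_iff.1 e)) hX0)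
        fun e => hx₁ (σ.map_eq_zero_iff.1 e)
      obtain ⟨η, hη, hηb⟩ := Finset.exists_mem_notMem_of_card_lt_card
        (s := (mu σ).filter fun z => (τ * β) * z + σ ((τ * β) * z) = τ * (σ α * α * 0)) (t := mu σ)
        (lt_of_le_of_lt (line_fiber (mul_ne_zero hτ0 hβ0) _) (by rw [X.circ.card_mu]; have := X.two_le_q; omega))
      have hbad : σ (β * η) ≠ β * η := fun e => hηb (Finset.mem_filter.2 ⟨hη, by
        rw [map_mul, map_mul, mul_zero, mul_zero, show σ τ = -τ by linear_combination hτ]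
        rw [map_mul] at e
        linear_combination -τ * e⟩)
      set X₁ := X₀ * η with hX₁
      set u : V := Function.update (Function.update v p X₁) r 0 with hu
      have hup : u p = X₁ := by simp [hu, hpr]
      have hur : u r = 0 := by simp [hu]
      have huo : ∀ j, j ≠ p → j ≠ r → u j = v j := fun j h1 h2 => by simp [hu, h1, h2]
      have hui : dot σ u u = 0 := by
        have hdiff : dot σ u u - dot σ v v = (u p * σ (u p) - v p * σ (v p)) + (u r * σ (u r) - v r * σ (v r)) := by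
          rw [dot, dot, ← Finset.sum_sub_distrib]
          rw [Finset.sum_eq_add_of_mem p r (Finset.mem_univ _) (Finset.mem_univ _) hpr]
          intro j _ hj
          rw [huo j hj.1 hj.2, sub_self]
        rw [hv, sub_zero, hup, hur, hX₁, map_mul, zero_mul] at hdiff
        linear_combination hdiff + (X₀ * σ X₀) * mem_mu.1 hη + hX₀
      have hus : (supp u).card < k := by
        refine lt_of_lt_of_le (Finset.card_lt_card (Finset.ssubset_iff_of_subset (fun j hj => ?_) |>.2
          ⟨r, mem_supp.2 hr, fun h => mem_supp.1 h hur⟩)) hvk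
        rw [mem_supp] at hj ⊢
        by_cases hjp : j = p
        · rwa [hjp]
        by_cases hjr : j = r
        · rwa [hjr]
        · rwa [← huo j hjp hjr]
      have huU := ih _ hus u hui rfl
      set y₁ := dot σ u w₂
      set y₂ := dot σ u w₁
      have h21 : dot σ w₂ w₁ = 1 := by rw [hs.herm, h12, map_one]
      have hzero : ∀ y : V, dot σ (y - dot σ y w₂ • w₁ - dot σ y w₁ • w₂) w₁ = 0 ∧
          dot σ (y - dot σ y w₂ • w₁ - dot σ y w₁ • w₂) w₂ = 0 := fun y => by
        constructor <;>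
          simp only [hs.toSesq.sub_left, hs.smul_left, p1.1, p2.1, h12, h21] <;> ring
      set z := v - x₁ • w₁ - x₂ • w₂ with hz
      have hzu : u - y₁ • w₁ - y₂ • w₂ = z := by
        set δ := (u - y₁ • w₁ - y₂ • w₂) - z with hδ
        have hδ1 : dot σ δ w₁ = 0 := by rw [hδ, hs.toSesq.sub_left, (hzero u).1, (hzero v).1, sub_zero]
        have hδ2 : dot σ δ w₂ = 0 := by rw [hδ, hs.toSesq.sub_left, (hzero u).2, (hzero v).2, sub_zero]
        rw [(hfv δ).1] at hδ1
        rw [(hfv δ).2, mul_eq_zero] at hδ2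
        have hδ2' := hδ2.resolve_left fun e => hα0 (σ.map_eq_zero_iff.1 e)
        have hr0 : δ r = 0 := by
          have : δ r * (σ ρ₁ - σ ρ₂) = 0 := by linear_combination hδ1 - hδ2'
          exact (mul_eq_zero.1 this).resolve_right (sub_ne_zero.2 fun e => hne (σ.injective e))
        have hp0 : δ p = 0 := by rw [hr0, zero_mul, add_zero] at hδ1; exact hδ1
        refine sub_eq_zero.1 (funext fun j => ?_)
        show δ j = 0
        by_cases hjp : j = p
        · rwa [hjp]
        by_cases hjr : j = r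
        · rwa [hjr]
        · simp [hδ, hz, hw₁, hw₂, huo j hjp hjr, hjp, hjr]
      have hdec : ∀ (a b : F), dot σ (z + a • w₁ + b • w₂) (z + a • w₁ + b • w₂) =
          dot σ z z + (a * σ b + σ (a * σ b)) := fun a b => by
        obtain ⟨hz1, hz2⟩ := hzero v
        rw [← hz] at hz1 hz2
        simp only [hs.add_left, hs.add_right, hs.smul_left, hs.smul_right, p1.1, p2.1, h12, h21, hz1, hz2,
          hs.refl _ _ hz1, hs.refl _ _ hz2, map_mul, hs.invol]
        ring
      have hv' : v = z + x₁ • w₁ + x₂ • w₂ := by rw [hz]; abel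
      have hu' : u = z + y₁ • w₁ + y₂ • w₂ := by rw [← hzu]; abel
      have ev : dot σ z z + (x₁ * σ x₂ + σ (x₁ * σ x₂)) = 0 := by rw [← hdec, ← hv', hv]
      have eu : dot σ z z + (y₁ * σ y₂ + σ (y₁ * σ y₂)) = 0 := by rw [← hdec, ← hu', hui]
      refine X.move p1.1 p2.1 h12 (hpair _ p1.1 p1.2) (hpair _ p2.1 p2.2) huU (hzero v).1 (hzero v).2 hu' hv'
        (by linear_combination ev - eu) (fun e => ?_) (fun e => hbad ?_) hx₁
      · have hzz : dot σ z z = 0 := by linear_combination eu - e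
        apply hS
        have h1 : dot σ (z + y₁ • w₁ + y₂ • w₂) (Pi.single p 1) = X₁ := by
          rw [← hu', dot_single_right, hup]; simp
        have hzp : z p = 0 ∧ z r = 0 := by
          have h1' := (hzero v).1
          have h2' := (hzero v).2
          rw [← hz] at h1' h2'
          rw [(hfv z).1] at h1'
          rw [(hfv z).2, mul_eq_zero] at h2'
          have h2'' := h2'.resolve_left fun e => hα0 (σ.map_eq_zero_iff.1 e)
          have : z r * (σ ρ₁ - σ ρ₂) = 0 := by linear_combination h1' - h2''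
          have hr0 := (mul_eq_zero.1 this).resolve_right (sub_ne_zero.2 fun e => hne (σ.injective e))
          exact ⟨by rw [hr0, zero_mul, add_zero] at h1'; exact h1', hr0⟩
        have hdiff : dot σ v v - dot σ z z = (v p * σ (v p) - z p * σ (z p)) + (v r * σ (v r) - z r * σ (z r)) := by
          rw [dot, dot, ← Finset.sum_sub_distrib]
          rw [Finset.sum_eq_add_of_mem p r (Finset.mem_univ _) (Finset.mem_univ _) hpr]
          intro j _ hj
          rw [show z j = v j by simp [hz, hw₁, hw₂, hj.1, hj.2], sub_self]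
        rw [hv, hzz, hzp.1, hzp.2, zero_mul, sub_zero, sub_zero, sub_zero] at hdiff
        exact hdiff.symm
      · have hy1 : y₁ = σ α * X₁ := by rw [show y₁ = _ from (hfv u).2, hup, hur]; ring
        have hyy : y₁ * σ y₁ = σ y₁ * y₁ := mul_comm _ _
        have e' : σ (x₁ * σ y₁) = x₁ * σ y₁ := by
          simp only [sub_mul, map_sub, map_mul, hs.invol] at e ⊢
          linear_combination e
        rw [map_mul, hs.invol, hy1, hX₁] at e'
        rw [hβ]
        simp only [map_mul, hs.invol] at e' ⊢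
        linear_combination -e'
    by_cases hpr' : ∃ p r, p ≠ r ∧ v p ≠ 0 ∧ v r ≠ 0 ∧ v p * σ (v p) + v r * σ (v r) ≠ 0
    · obtain ⟨p, r, hpr, hp, hr, hS⟩ := hpr'
      exact main v hv hk.le p r hpr hp hr hS
    push Not at hpr'
    obtain ⟨a, b, c, ha, hb, hc', hab, hac, hbc⟩ := Finset.two_lt_card_iff.1 h3
    rw [mem_supp] at ha hb hc'
    have h2 : (2 : F) = 0 := mul_right_cancel₀ (X.norm_ne ha)
      (by linear_combination hpr' a b hab ha hb + hpr' a c hac ha hc' - hpr' b c hbc hb hc')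
    obtain ⟨ρ, hρ, hφ⟩ : ∃ ρ : F, ρ * σ ρ = -1 ∧ v a + v b * σ ρ ≠ 0 := by
      by_cases h : v a + v b * σ ρ₀ = 0
      · exact ⟨ρ₀ * ζ, hρζ, fun e => hζ1 (mul_left_cancel₀ hρ0 (by
          rw [mul_one]; exact σ.injective (mul_left_cancel₀ hb (by linear_combination e - h))))⟩
      · exact ⟨ρ₀, hρ₀, h⟩
    have hρn : ρ ≠ 0 := fun e => by simp [e] at hρ
    have p1 := hsingle a b 1 ρ hab one_ne_zero hρn (by rw [map_one]; linear_combination hρ)
    set w₁ : V := Pi.single a 1 + Pi.single b ρ with hw₁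
    set φ := v a + v b * σ ρ
    have hfw : dot σ v w₁ = φ := by simp only [hw₁, hs.add_right, dot_single_right, map_one, mul_one, φ]
    set L := φ * σ (v a) + σ φ * v a with hL
    obtain ⟨κ, hκ, hκ0, hκ1⟩ : ∃ κ : F, σ κ = κ ∧ κ ≠ 0 ∧ κ ≠ L / (φ * σ φ) := by
      obtain ⟨κ, hκ, hκ'⟩ := Finset.exists_mem_notMem_of_card_lt_card
        (s := ({0, L / (φ * σ φ)} : Finset F)) (t := fix σ)
        (lt_of_le_of_lt Finset.card_le_two (by rw [X.circ.card_fix]; omega))
      simp only [Finset.mem_insert, Finset.mem_singleton, not_or] at hκ'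
      exact ⟨κ, mem_fix.1 hκ, hκ'.1, hκ'.2⟩
    have hκs : κ + σ κ = 0 := by rw [hκ]; linear_combination κ * h2
    set v₁ := v + (κ * dot σ v w₁) • w₁ with hv₁
    have hv₁i : dot σ v₁ v₁ = 0 := X.iso_add_smul hv p1.1 hκs
    have hv₁o : ∀ j, j ≠ a → j ≠ b → v₁ j = v j := fun j h1 h2 => by simp [hv₁, hw₁, h1, h2]
    have hv₁a : v₁ a = v a + κ * φ := by rw [hv₁, hfw]; simp [hw₁, hab]
    have hv₁s : (supp v₁).card ≤ k := by
      refine hk ▸ Finset.card_le_card fun j hj => ?_
      rw [mem_supp] at hj ⊢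
      by_cases hja : j = a
      · rwa [hja]
      by_cases hjb : j = b
      · rwa [hjb]
      · rwa [← hv₁o j hja hjb]
    have hv₁U : UPt σ (dot σ) M v₁ := by
      by_cases hlt : (supp v₁).card < k
      · exact ih _ hlt v₁ hv₁i rfl
      have hva : v₁ a ≠ 0 := fun e => hlt (lt_of_lt_of_le (Finset.card_lt_card
        (Finset.ssubset_iff_of_subset (fun j hj => ?_) |>.2 ⟨a, mem_supp.2 ha, fun h => mem_supp.1 h e⟩)) hk.le)
      swap
      · rw [mem_supp] at hj ⊢
        by_cases hja : j = a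
        · rwa [hja]
        by_cases hjb : j = b
        · rwa [hjb]
        · rwa [← hv₁o j hja hjb]
      refine main v₁ hv₁i hv₁s a c hac hva (by rwa [hv₁o c (Ne.symm hac) (Ne.symm hbc)]) fun e => ?_
      rw [hv₁o c (Ne.symm hac) (Ne.symm hbc), hv₁a, map_add, map_mul, hκ] at e
      have hz : κ * (κ * (φ * σ φ) + L) = 0 := by rw [hL]; linear_combination e - hpr' a c hac ha hc'
      have hz' := (mul_eq_zero.1 hz).resolve_left hκ0
      have hφ0 : φ * σ φ ≠ 0 := X.norm_ne hφ
      exact hκ1 (by rw [eq_div_iff hφ0]; linear_combination hz' - L * h2)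
    have hback := hv₁U.add_smul hs (hpair _ p1.1 p1.2) p1.1 hκs
    have hfv₁ : dot σ v₁ w₁ = dot σ v w₁ := by
      rw [hv₁, hs.add_left, hs.smul_left, p1.1, mul_zero, add_zero]
    rw [hfv₁, hv₁, add_assoc, ← add_smul] at hback
    rw [show κ * dot σ v w₁ + κ * dot σ v w₁ = 0 by linear_combination (κ * dot σ v w₁) * h2, zero_smul,
      add_zero] at hback
    exact hback

/-- Six coordinates in characteristic two: three masses give the root group at a full vector. -/
theorem upt_of_full_six (hn : Fintype.card ι = 6) (h2 : (2 : F) = 0) {v : V} {c₀ : F}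
    (h : Tr1 σ M v c₀) (hv : dot σ v v = 0) (hc : c₀ + σ c₀ = 0) (hc0 : c₀ ≠ 0) (hfull : ∀ j, v j ≠ 0)
    (hne : ∃ j, c₀ * (v j * σ (v j)) ≠ 1) : UPt σ (dot σ) M v := by
  classical
  have hs := X.herm
  set n : ι → F := fun j => c₀ * (v j * σ (v j)) with hn'
  have hn0 : ∀ j, n j ≠ 0 := fun j => mul_ne_zero hc0 (X.norm_ne (hfull j))
  by_cases hP : ∃ P : Finset ι, P.card = 3 ∧ ∑ j ∈ P, n j ≠ 0 ∧ ∑ j ∈ P, n j ≠ 1
  · obtain ⟨P, hP3, hP0, hP1⟩ := hP
    have hev : Even q := by
      rcases Nat.even_or_odd q with h' | ⟨r, hr⟩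
      · exact h'
      · exfalso
        have hq0 := X.circ.cast_q
        rw [hr, Nat.cast_add, Nat.cast_mul, Nat.cast_ofNat, h2, zero_mul, zero_add, Nat.cast_one] at hq0
        exact one_ne_zero hq0
    set p : V := fun j => if j ∈ P then v j else 0 with hp
    set r : V := fun j => if j ∈ P then 0 else v j with hr
    have hpp : dot σ p p = ∑ j ∈ P, v j * σ (v j) := by
      rw [dot_eq_sum_supp (S := P) (fun j hj => by simp [hp, hj])]
      exact Finset.sum_congr rfl fun j hj => by simp [hp, hj]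
    have hsum : c₀ * dot σ p p = ∑ j ∈ P, n j := by rw [hpp, Finset.mul_sum]
    refine X.rotate' (p := p) (r := r) h hv (funext fun j => ?_) ?_ ?_ ?_ hc hc0 ?_
    · by_cases hj : j ∈ P <;> simp [hp, hr, hj]
    · rw [dot_eq_sum_supp (S := P) (fun j hj => by simp [hp, hj])]
      exact Finset.sum_eq_zero fun j hj => by simp [hr, hj]
    · exact fun e => hP0 (by rw [← hsum, e, mul_zero])
    · intro z hz
      obtain ⟨k, hk⟩ := hev
      set u := z ^ (k + 1) with hu
      have hum : u ∈ mu σ := by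
        rw [hu, ← zpow_natCast]; exact zpow_mem_mu hz _
      have hu2 : u * u = z := by
        rw [hu, ← pow_add, show k + 1 + (k + 1) = (q + 1) + 1 by omega, pow_succ, X.circ.pow_mu hz, one_mul]
      set x : ι → F := fun j => if j ∈ P then u⁻¹ * z else u⁻¹ with hx
      obtain ⟨d, hd, hdz⟩ := X.exists_diag_mem x (fun j => by
        by_cases hj : j ∈ P
        · simp only [hx, hj, if_true]; exact mul_mem_mu (inv_mem_mu hum) hz
        · simp only [hx, hj, if_false]; exact inv_mem_mu hum) (by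
        rw [← Finset.prod_mul_prod_compl P, Finset.prod_congr (s₁ := P) rfl (g := fun _ => u⁻¹ * z)
          (fun j hj => by simp [hx, hj]), Finset.prod_congr (s₁ := Pᶜ) rfl (g := fun _ => u⁻¹)
          (fun j hj => by simp [hx, Finset.mem_compl.1 hj]), Finset.prod_const, Finset.prod_const,
          Finset.card_compl, hn, hP3, ← hu2, inv_mul_cancel_left₀ (mu_ne hum), ← mul_pow,
          mul_inv_cancel₀ (mu_ne hum), one_pow])
      refine ⟨d, hd, u⁻¹, inv_mem_mu hum, funext fun j => ?_, funext fun j => ?_⟩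
      · rw [hdz, Pi.smul_apply, smul_eq_mul]
        by_cases hj : j ∈ P <;> simp [hx, hp, hj]
      · rw [hdz, Pi.smul_apply, smul_eq_mul]
        by_cases hj : j ∈ P <;> simp [hx, hr, hj]
    · rw [hsum]
      exact fun e => hP1 (by linear_combination e - h2)
  exfalso
  push Not at hP
  have h01 : ∀ a b c : ι, a ≠ b → a ≠ c → b ≠ c → n a + n b + n c = 0 ∨ n a + n b + n c = 1 := by
    intro a b c hab hac hbc
    have hs : ∑ j ∈ ({a, b, c} : Finset ι), n j = n a + n b + n c := by
      rw [Finset.sum_insert (by simp [hab, hac]), Finset.sum_pair hbc, add_assoc]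
    have := hP {a, b, c} (by rw [Finset.card_insert_of_notMem (by simp [hab, hac]), Finset.card_pair hbc])
    rw [hs] at this
    exact or_iff_not_imp_left.2 this
  have h2x : ∀ x : F, x + x = 0 := fun x => by linear_combination x * h2
  have hpair : ∀ a b, n a + n b = 0 ∨ n a + n b = 1 := by
    intro a b
    rcases eq_or_ne a b with rfl | hab
    · exact Or.inl (h2x _)
    obtain ⟨c, d, hc', hd', hcd⟩ : ∃ c d, c ∈ ({a, b} : Finset ι)ᶜ ∧ d ∈ ({a, b} : Finset ι)ᶜ ∧ c ≠ d := by
      obtain ⟨c, hc', d, hd', hcd⟩ := Finset.one_lt_card.1 (show 1 < ({a, b} : Finset ι)ᶜ.card by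
        rw [Finset.card_compl, hn, Finset.card_pair hab]; norm_num)
      exact ⟨c, d, hc', hd', hcd⟩
    simp only [Finset.mem_compl, Finset.mem_insert, Finset.mem_singleton, not_or] at hc' hd'
    rcases h01 a c d (Ne.symm hc'.1) (Ne.symm hd'.1) hcd with e1 | e1 <;>
      rcases h01 b c d (Ne.symm hc'.2) (Ne.symm hd'.2) hcd with e2 | e2
    · exact Or.inl (by linear_combination e1 + e2 - h2x (n c) - h2x (n d))
    · exact Or.inr (by linear_combination e1 + e2 - h2x (n c) - h2x (n d))
    · exact Or.inr (by linear_combination e1 + e2 - h2x (n c) - h2x (n d))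
    · exact Or.inl (by linear_combination e1 + e2 - h2x (n c) - h2x (n d) + h2x 1)
  obtain ⟨j₀, hj₀⟩ := hne
  -- some value is taken three times
  obtain ⟨i, hi⟩ : ∃ i, n i = 1 := by
    set A : Finset ι := Finset.univ.filter fun j => n j = n j₀ with hA
    obtain ⟨x, B, hB, hB3⟩ : ∃ x, ∃ B : Finset ι, (∀ j ∈ B, n j = x) ∧ 3 ≤ B.card := by
      by_cases h3 : 3 ≤ A.card
      · exact ⟨n j₀, A, fun j hj => (Finset.mem_filter.1 hj).2, h3⟩
      · refine ⟨n j₀ + 1, Aᶜ, fun j hj => ?_, by rw [Finset.card_compl, hn]; omega⟩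
        simp only [hA, Finset.mem_compl, Finset.mem_filter, Finset.mem_univ, true_and] at hj
        rcases hpair j j₀ with e | e
        · exact absurd (by linear_combination e - h2x (n j₀)) hj
        · linear_combination e - h2x (n j₀)
    obtain ⟨a, b, c, ha, hb, hc', hab, hac, hbc⟩ := Finset.two_lt_card_iff.1 hB3
    refine ⟨a, ?_⟩
    rcases h01 a b c hab hac hbc with e | e
    · refine absurd ?_ (hn0 a)
      rw [hB a ha, hB b hb, hB c hc'] at e
      rw [hB a ha]
      linear_combination e - h2x x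
    · rw [hB a ha, hB b hb, hB c hc'] at e
      rw [hB a ha]
      linear_combination e - h2x x
  rcases hpair j₀ i with e | e
  · exact hj₀ (by rw [hi] at e; show n j₀ = 1; linear_combination e - h2x 1)
  · exact hn0 j₀ (by rw [hi] at e; linear_combination e)

/-- At least six coordinates in characteristic two: a root group at a vector of full support gives one at a smaller support. -/
theorem exists_upt_notfull_six (hq : 3 ≤ q) (hn : 6 ≤ Fintype.card ι) (h2 : (2 : F) = 0) {v : V}
    (hU : UPt σ (dot σ) M v) (hv : dot σ v v = 0) (hfull : ∀ j, v j ≠ 0) :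
    ∃ w, w ≠ 0 ∧ dot σ w w = 0 ∧ (supp w).card < Fintype.card ι ∧ UPt σ (dot σ) M w := by
  classical
  have hs := X.herm
  have h2x : ∀ x : F, x + x = 0 := fun x => by linear_combination x * h2
  set N : ι → F := fun j => v j * σ (v j) with hN
  have step : ∀ (x : ι → F), (∀ j, x j ∈ mu σ) → ∏ j, x j = 1 → ∀ f, ∑ j, N j * (σ (x j) - 1) = f → f ≠ 0 →
      f + σ f = 0 → ∀ p r, x p = 1 → x r ≠ 1 →
      ∃ w, w ≠ 0 ∧ dot σ w w = 0 ∧ (supp w).card < Fintype.card ι ∧ UPt σ (dot σ) M w := by
    intro x hx hprod f hf hf0 hfs p r hp hr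
    obtain ⟨d, hd, hdz⟩ := X.exists_diag_mem x hx hprod
    have hdv : (d : Mn) *ᵥ v = x * v := funext fun j => by rw [hdz, Pi.mul_apply]
    have hdot : dot σ v (x * v) = f := by
      rw [← hf, ← add_zero (∑ j, N j * (σ (x j) - 1)), ← hv, dot, dot, ← Finset.sum_add_distrib]
      exact Finset.sum_congr rfl fun j _ => by simp only [hN, Pi.mul_apply, map_mul]; ring
    set c := -f⁻¹ with hc
    have hcs : c + σ c = 0 := by
      rw [hc, map_neg, map_inv₀, show σ f = -f by linear_combination hfs, inv_neg]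
      ring
    have hcf : c * dot σ v (x * v) = -1 := by rw [hdot, hc, neg_mul, inv_mul_cancel₀ hf0]
    have hxi : dot σ (x * v) (x * v) = 0 := by rw [← hdv, X.iso d hd, hv]
    refine ⟨v + (c * dot σ v (x * v)) • (x * v), fun e => ?_, X.iso_add_smul hv hxi hcs, ?_,
      hU.add_smul hs (hdv ▸ X.upt_map hU hd) hxi hcs⟩
    · have := congrFun e r
      rw [hcf, Pi.add_apply, Pi.smul_apply, Pi.mul_apply, Pi.zero_apply, smul_eq_mul] at this
      exact hr (mul_right_cancel₀ (hfull r) (by linear_combination -this))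
    · refine lt_of_lt_of_le (Finset.card_lt_card (Finset.ssubset_univ_iff.2 fun e => mem_supp.1
        (e ▸ Finset.mem_univ p) ?_)) (Finset.card_univ (α := ι)).le
      rw [hcf, Pi.add_apply, Pi.smul_apply, Pi.mul_apply, hp, smul_eq_mul]; ring
  by_cases hpair : ∃ a b, a ≠ b ∧ N a = N b
  · obtain ⟨a, b, hab, heq⟩ := hpair
    obtain ⟨z, hz, hz1, -, hzT⟩ := X.circ.trace_exists (∅ : Finset F) (by simp; omega)
    have hzm : σ z ∈ mu σ := by rw [mem_mu, hs.invol, mul_comm]; exact mem_mu.1 hz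
    obtain ⟨p, hp⟩ := Finset.card_pos.1 (show 0 < ({a, b} : Finset ι)ᶜ.card by
      rw [Finset.card_compl, Finset.card_pair hab]; omega)
    simp only [Finset.mem_compl, Finset.mem_insert, Finset.mem_singleton, not_or] at hp
    set x : ι → F := fun j => if j = a then z else if j = b then σ z else 1 with hx
    have hx1 : ∀ j, j ∉ ({a, b} : Finset ι) → x j = 1 := fun j hj => by
      simp only [Finset.mem_insert, Finset.mem_singleton, not_or] at hj
      simp [hx, hj.1, hj.2]
    refine step x (fun j => by simp only [hx]; split_ifs; exacts [hz, hzm, one_mem_mu]) ?_ (N a * (z + σ z)) ?_ ?_ ?_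
      p a (by simp [hx, hp.1, hp.2]) (by simpa [hx] using hz1)
    · rw [← Finset.prod_subset (Finset.subset_univ ({a, b} : Finset ι)) (fun j _ hj => hx1 j hj),
        Finset.prod_pair hab]
      simp only [hx, Ne.symm hab, if_true, if_false]
      exact mem_mu.1 hz
    · rw [← Finset.sum_subset (Finset.subset_univ ({a, b} : Finset ι))
        (fun j _ hj => by rw [hx1 j hj, map_one, sub_self, mul_zero]), Finset.sum_pair hab]
      simp only [hx, Ne.symm hab, if_true, if_false, hs.invol]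
      linear_combination (1 - z) * heq - h2x (N a)
    · exact mul_ne_zero (X.norm_ne (hfull a)) fun e => hzT (by linear_combination e - h2)
    · rw [map_mul, X.norm_fix, map_add, hs.invol, add_comm (σ z)]; exact h2x _
  push Not at hpair
  obtain ⟨W, -, hW⟩ := Finset.exists_subset_card_eq (s := (Finset.univ : Finset ι)) (n := 4)
    (by rw [Finset.card_univ]; omega)
  obtain ⟨a, b, c, d, hab, hac, had, hbc, hbd, hcd, rfl⟩ := Finset.card_eq_four.1 hW
  obtain ⟨p, hp⟩ := Finset.card_pos.1 (show 0 < ({a, b, c, d} : Finset ι)ᶜ.card by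
    rw [Finset.card_compl, hW]; omega)
  simp only [Finset.mem_compl, Finset.mem_insert, Finset.mem_singleton, not_or] at hp
  obtain ⟨z, hz, y, hy, hz1, -, -, hGs⟩ := X.circ.exists_masses (N := N a + N b) (R := N c + N d)
    (by rw [map_add, X.norm_fix, X.norm_fix]) (by rw [map_add, X.norm_fix, X.norm_fix])
    (fun e => hpair a b hab (by linear_combination e - h2x (N b)))
    (fun e => hpair c d hcd (by linear_combination e - h2x (N d)))
  have hinv : ∀ u ∈ mu σ, σ u ∈ mu σ := fun u hu => by rw [mem_mu, hs.invol, mul_comm]; exact mem_mu.1 hu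
  -- one of the two orientations is not zero
  let S : F → F := fun z => N a * (σ z - 1) + N b * (z - 1) + N c * (σ y - 1) + N d * (y - 1)
  obtain ⟨z', hz', hz'1, hS, hS'⟩ : ∃ z' ∈ mu σ, z' ≠ 1 ∧ S z' ≠ 0 ∧ z' + σ z' = z + σ z := by
    by_cases h0 : S z = 0
    · refine ⟨σ z, hinv z hz, fun e => hz1 (by rw [← hs.invol z, e, map_one]), fun e => ?_, ?_⟩
      · simp only [S, hs.invol] at h0 e
        have h3 : (N a - N b) * (σ z - z) = 0 := by linear_combination h0 - e
        rcases mul_eq_zero.1 h3 with e' | e'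
        · exact hpair a b hab (sub_eq_zero.1 e')
        · have hz' := mem_mu.1 hz
          rw [sub_eq_zero.1 e'] at hz'
          have h4 : (z - 1) * (z - 1) = 0 := by linear_combination hz' + h2x 1 - z * h2
          exact hz1 (sub_eq_zero.1 (mul_self_eq_zero.1 h4))
      · rw [hs.invol, add_comm]
    · exact ⟨z, hz, hz1, h0, rfl⟩
  set x : ι → F := fun j => if j = a then z' else if j = b then σ z' else if j = c then y else
    if j = d then σ y else 1 with hx
  have hx1 : ∀ j, j ∉ ({a, b, c, d} : Finset ι) → x j = 1 := fun j hj => by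
    simp only [Finset.mem_insert, Finset.mem_singleton, not_or] at hj
    simp [hx, hj.1, hj.2.1, hj.2.2.1, hj.2.2.2]
  refine step x (fun j => by simp only [hx]; split_ifs; exacts [hz', hinv _ hz', hy, hinv _ hy, one_mem_mu])
    ?_ (S z') ?_ hS ?_ p a (by simp [hx, hp.1, hp.2.1, hp.2.2.1, hp.2.2.2]) (by simpa [hx] using hz'1)
  · rw [← Finset.prod_subset (Finset.subset_univ ({a, b, c, d} : Finset ι)) (fun j _ hj => hx1 j hj),
      Finset.prod_insert (by simp [hab, hac, had]), Finset.prod_insert (by simp [hbc, hbd]), Finset.prod_pair hcd]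
    simp only [hx, Ne.symm hab, Ne.symm hac, Ne.symm had, Ne.symm hbc, Ne.symm hbd, Ne.symm hcd, if_true, if_false]
    linear_combination (y * σ y) * mem_mu.1 hz' + mem_mu.1 hy
  · rw [← Finset.sum_subset (Finset.subset_univ ({a, b, c, d} : Finset ι))
      (fun j _ hj => by rw [hx1 j hj, map_one, sub_self, mul_zero]),
      Finset.sum_insert (by simp [hab, hac, had]), Finset.sum_insert (by simp [hbc, hbd]), Finset.sum_pair hcd]
    simp only [hx, Ne.symm hab, Ne.symm hac, Ne.symm had, Ne.symm hbc, Ne.symm hbd, Ne.symm hcd, if_true, if_false,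
      hs.invol, S]
    ring
  · simp only [map_add, map_mul, map_sub, map_one, hs.invol, X.norm_fix, hN] at hGs
    simp only [S, hN, map_add, map_mul, map_sub, map_one, hs.invol]
    linear_combination hGs + (v a * σ (v a) + v b * σ (v b)) * hS'

/-- Six coordinates in characteristic two: from one transvection at a vector of full support. -/
theorem exists_upt_six (hq : 3 ≤ q) (hn : Fintype.card ι = 6) (h2 : (2 : F) = 0) {v : V} {c₀ : F}
    (h : Tr1 σ M v c₀) (hv : dot σ v v = 0) (hc : c₀ + σ c₀ = 0) (hc0 : c₀ ≠ 0) (hfull : ∀ j, v j ≠ 0) :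
    ∃ w, w ≠ 0 ∧ dot σ w w = 0 ∧ (supp w).card < Fintype.card ι ∧ UPt σ (dot σ) M w := by
  classical
  have hs := X.herm
  by_cases hne : ∃ j, c₀ * (v j * σ (v j)) ≠ 1
  · exact X.exists_upt_notfull_six hq hn.ge h2 (X.upt_of_full_six hn h2 h hv hc hc0 hfull hne) hv hfull
  push Not at hne
  obtain ⟨a, b, c, hab, hac, hbc⟩ := Fintype.two_lt_card_iff.1 (show 2 < Fintype.card ι by omega)
  obtain ⟨z, hz, -, hzT, hz2⟩ := X.circ.trace_exists ({1} : Finset F) (by simp; omega)
  rw [Finset.mem_singleton] at hzT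
  have hzm : σ z ∈ mu σ := by rw [mem_mu, hs.invol, mul_comm]; exact mem_mu.1 hz
  set x : ι → F := fun j => if j = a then z else if j = b then σ z else 1 with hx
  have hxm : ∀ j, x j ∈ mu σ := fun j => by simp only [hx]; split_ifs; exacts [hz, hzm, one_mem_mu]
  have hx1 : ∀ j, j ∉ ({a, b} : Finset ι) → x j = 1 := fun j hj => by
    simp only [Finset.mem_insert, Finset.mem_singleton, not_or] at hj
    simp [hx, hj.1, hj.2]
  obtain ⟨d, hd, hdz⟩ := X.exists_diag_mem x hxm (by
    rw [← Finset.prod_subset (Finset.subset_univ ({a, b} : Finset ι)) (fun j _ hj => hx1 j hj),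
      Finset.prod_pair hab]
    simp only [hx, Ne.symm hab, if_true, if_false]
    exact mem_mu.1 hz)
  have hdv : (d : Mn) *ᵥ v = x * v := funext fun j => by rw [hdz, Pi.mul_apply]
  have hcoef : c₀ * dot σ v (x * v) = z + σ z := by
    rw [dot, Finset.mul_sum, Finset.sum_congr rfl (g := fun j => σ (x j)) (fun j _ => by
      rw [Pi.mul_apply, map_mul]; linear_combination σ (x j) * hne j),
      ← Finset.sum_add_sum_compl ({a, b} : Finset ι), Finset.sum_pair hab,
      Finset.sum_congr rfl (g := fun _ => (1 : F)) (fun j hj => by rw [hx1 j (Finset.mem_compl.1 hj), map_one]),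
      Finset.sum_const, Finset.card_compl, hn, Finset.card_pair hab, nsmul_eq_mul]
    simp only [hx, Ne.symm hab, if_true, if_false, hs.invol]
    push_cast
    linear_combination 2 * h2
  have hxi : dot σ (x * v) (x * v) = 0 := by rw [← hdv, X.iso d hd, hv]
  set w := v + (c₀ * dot σ v (x * v)) • (x * v) with hw
  have hwT : Tr1 σ M w c₀ := X.tr1_add_smul h (hdv ▸ X.tr1_map h hd)
  have hwi : dot σ w w = 0 := X.iso_add_smul hv hxi hc
  have hwc : ∀ j, w j = v j * (1 + (z + σ z) * x j) := fun j => by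
    rw [hw, hcoef, Pi.add_apply, Pi.smul_apply, Pi.mul_apply, smul_eq_mul]; ring
  have hwN : ∀ j, c₀ * (w j * σ (w j)) = (1 + (z + σ z) * x j) * (1 + (z + σ z) * σ (x j)) := fun j => by
    rw [hwc, map_mul, map_add, map_one, map_mul, show σ (z + σ z) = z + σ z by rw [map_add, hs.invol, add_comm]]
    linear_combination ((1 + (z + σ z) * x j) * (1 + (z + σ z) * σ (x j))) * hne j
  have hT0 : z + σ z ≠ 0 := fun e => hz2 (by linear_combination e - h2)
  have hwfull : ∀ j, w j ≠ 0 := by
    intro j e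
    have h0 := hwN j
    rw [e, zero_mul, mul_zero] at h0
    by_cases hj : j = a ∨ j = b
    · have : (1 : F) = 0 := by
        rcases hj with rfl | rfl
        · simp only [hx, if_true] at h0
          linear_combination -h0 - (z + σ z) ^ 2 * mem_mu.1 hz - (z + σ z) ^ 2 * h2
        · simp only [hx, Ne.symm hab, if_true, if_false, hs.invol] at h0
          linear_combination -h0 - (z + σ z) ^ 2 * mem_mu.1 hz - (z + σ z) ^ 2 * h2
      exact one_ne_zero this
    · rw [not_or] at hj
      rw [hx1 j (by simp [hj.1, hj.2]), map_one, mul_one] at h0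
      exact hzT (by linear_combination mul_self_eq_zero.1 h0.symm - h2)
  refine X.exists_upt_notfull_six hq hn.ge h2 (X.upt_of_full_six hn h2 hwT hwi hc hc0 hwfull ⟨c, fun e => ?_⟩) hwi hwfull
  rw [hwN, hx1 c (by simp [Ne.symm hac, Ne.symm hbc]), map_one, mul_one] at e
  have : (z + σ z) * (z + σ z) = 0 := by linear_combination e - (z + σ z) * h2
  exact hT0 (mul_self_eq_zero.1 this)

/-- Eight coordinates in characteristic two: one place gives the root group at a full vector. -/
theorem upt_of_full_eight (hn : Fintype.card ι = 8) (h2 : (2 : F) = 0) {v : V} {c₀ : F}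
    (h : Tr1 σ M v c₀) (hv : dot σ v v = 0) (hc : c₀ + σ c₀ = 0) (hc0 : c₀ ≠ 0) {j : ι} (hj : v j ≠ 0)
    (hne : c₀ * (v j * σ (v j)) ≠ 1) : UPt σ (dot σ) M v := by
  classical
  obtain ⟨k, hk⟩ : ∃ k, q = 2 * k := by
    rcases Nat.even_or_odd q with ⟨k, hk⟩ | ⟨r, hr⟩
    · exact ⟨k, by omega⟩
    · exfalso
      have hq0 := X.circ.cast_q
      rw [hr, Nat.cast_add, Nat.cast_mul, Nat.cast_ofNat, h2, zero_mul, zero_add, Nat.cast_one] at hq0
      exact one_ne_zero hq0
  have hroot : ∀ a ∈ mu σ, ∃ b ∈ mu σ, b * b = a := fun a ha => ⟨a ^ (k + 1),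
    by rw [← zpow_natCast]; exact zpow_mem_mu ha _, by
      rw [← pow_add, show k + 1 + (k + 1) = (q + 1) + 1 by omega, pow_succ, X.circ.pow_mu ha, one_mul]⟩
  refine X.rotate' (p := Pi.single j (v j)) (r := v - Pi.single j (v j)) h hv (add_sub_cancel _ _).symm ?_ ?_ ?_
    hc hc0 ?_
  · rw [dot_single_left]; simp
  · rw [dot_single_left, Pi.single_eq_same]; exact X.norm_ne hj
  · intro z hz
    obtain ⟨a, ha, ha'⟩ := hroot _ (inv_mem_mu hz)
    obtain ⟨b, hb, hb'⟩ := hroot a ha
    obtain ⟨w, hw, hw'⟩ := hroot b hb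
    have hw8 : w ^ 8 * z = 1 := by
      rw [show w ^ 8 = (w * w) * (w * w) * ((w * w) * (w * w)) by ring, hw', hb', ha', inv_mul_cancel₀ (mu_ne hz)]
    obtain ⟨d, hd, hdz⟩ := X.exists_diag_mem (fun i => if i = j then w * z else w) (fun i => by
      split_ifs; exacts [mul_mem_mu hw hz, hw]) (by
      rw [← Finset.mul_prod_erase _ _ (Finset.mem_univ j), if_pos rfl,
        Finset.prod_congr rfl (g := fun _ => w) fun i hi => if_neg (Finset.ne_of_mem_erase hi), Finset.prod_const,
        Finset.card_erase_of_mem (Finset.mem_univ j), Finset.card_univ, hn]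
      linear_combination hw8)
    refine ⟨d, hd, w, hw, funext fun i => ?_, funext fun i => ?_⟩
    · rw [hdz, Pi.smul_apply, smul_eq_mul]
      by_cases hi : i = j
      · subst hi; simp
      · simp [hi]
    · rw [hdz, Pi.smul_apply, smul_eq_mul]
      by_cases hi : i = j
      · subst hi; simp
      · simp [hi]
  · rw [dot_single_left, Pi.single_eq_same]
    exact fun e => hne (by linear_combination e - h2)

/-- Eight coordinates in characteristic two: from one transvection at a vector of full support. -/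
theorem exists_upt_eight (hq : 3 ≤ q) (hn : Fintype.card ι = 8) (h2 : (2 : F) = 0) {v : V} {c₀ : F}
    (h : Tr1 σ M v c₀) (hv : dot σ v v = 0) (hc : c₀ + σ c₀ = 0) (hc0 : c₀ ≠ 0) (hfull : ∀ j, v j ≠ 0) :
    ∃ w, w ≠ 0 ∧ dot σ w w = 0 ∧ (supp w).card < Fintype.card ι ∧ UPt σ (dot σ) M w := by
  classical
  have hs := X.herm
  by_cases hne : ∃ j, c₀ * (v j * σ (v j)) ≠ 1
  · obtain ⟨j, hj⟩ := hne
    exact X.exists_upt_notfull_six hq (by omega) h2 (X.upt_of_full_eight hn h2 h hv hc hc0 (hfull j) hj) hv hfull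
  push Not at hne
  obtain ⟨a, b, c, hab, hac, hbc⟩ := Fintype.two_lt_card_iff.1 (show 2 < Fintype.card ι by omega)
  obtain ⟨z, hz, -, hzT, hz2⟩ := X.circ.trace_exists ({1} : Finset F) (by simp; omega)
  rw [Finset.mem_singleton] at hzT
  have hzm : σ z ∈ mu σ := by rw [mem_mu, hs.invol, mul_comm]; exact mem_mu.1 hz
  set x : ι → F := fun j => if j = a then z else if j = b then σ z else 1 with hx
  have hxm : ∀ j, x j ∈ mu σ := fun j => by simp only [hx]; split_ifs; exacts [hz, hzm, one_mem_mu]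
  have hx1 : ∀ j, j ∉ ({a, b} : Finset ι) → x j = 1 := fun j hj => by
    simp only [Finset.mem_insert, Finset.mem_singleton, not_or] at hj
    simp [hx, hj.1, hj.2]
  obtain ⟨d, hd, hdz⟩ := X.exists_diag_mem x hxm (by
    rw [← Finset.prod_subset (Finset.subset_univ ({a, b} : Finset ι)) (fun j _ hj => hx1 j hj),
      Finset.prod_pair hab]
    simp only [hx, Ne.symm hab, if_true, if_false]
    exact mem_mu.1 hz)
  have hdv : (d : Mn) *ᵥ v = x * v := funext fun j => by rw [hdz, Pi.mul_apply]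
  have hcoef : c₀ * dot σ v (x * v) = z + σ z := by
    rw [dot, Finset.mul_sum, Finset.sum_congr rfl (g := fun j => σ (x j)) (fun j _ => by
      rw [Pi.mul_apply, map_mul]; linear_combination σ (x j) * hne j),
      ← Finset.sum_add_sum_compl ({a, b} : Finset ι), Finset.sum_pair hab,
      Finset.sum_congr rfl (g := fun _ => (1 : F)) (fun j hj => by rw [hx1 j (Finset.mem_compl.1 hj), map_one]),
      Finset.sum_const, Finset.card_compl, hn, Finset.card_pair hab, nsmul_eq_mul]
    simp only [hx, Ne.symm hab, if_true, if_false, hs.invol]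
    push_cast
    linear_combination 3 * h2
  have hxi : dot σ (x * v) (x * v) = 0 := by rw [← hdv, X.iso d hd, hv]
  set w := v + (c₀ * dot σ v (x * v)) • (x * v) with hw
  have hwT : Tr1 σ M w c₀ := X.tr1_add_smul h (hdv ▸ X.tr1_map h hd)
  have hwi : dot σ w w = 0 := X.iso_add_smul hv hxi hc
  have hwc : ∀ j, w j = v j * (1 + (z + σ z) * x j) := fun j => by
    rw [hw, hcoef, Pi.add_apply, Pi.smul_apply, Pi.mul_apply, smul_eq_mul]; ring
  have hwN : ∀ j, c₀ * (w j * σ (w j)) = (1 + (z + σ z) * x j) * (1 + (z + σ z) * σ (x j)) := fun j => by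
    rw [hwc, map_mul, map_add, map_one, map_mul, show σ (z + σ z) = z + σ z by rw [map_add, hs.invol, add_comm]]
    linear_combination ((1 + (z + σ z) * x j) * (1 + (z + σ z) * σ (x j))) * hne j
  have hT0 : z + σ z ≠ 0 := fun e => hz2 (by linear_combination e - h2)
  have hwfull : ∀ j, w j ≠ 0 := by
    intro j e
    have h0 := hwN j
    rw [e, zero_mul, mul_zero] at h0
    by_cases hj : j = a ∨ j = b
    · have : (1 : F) = 0 := by
        rcases hj with rfl | rfl
        · simp only [hx, if_true] at h0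
          linear_combination -h0 - (z + σ z) ^ 2 * mem_mu.1 hz - (z + σ z) ^ 2 * h2
        · simp only [hx, Ne.symm hab, if_true, if_false, hs.invol] at h0
          linear_combination -h0 - (z + σ z) ^ 2 * mem_mu.1 hz - (z + σ z) ^ 2 * h2
      exact one_ne_zero this
    · rw [not_or] at hj
      rw [hx1 j (by simp [hj.1, hj.2]), map_one, mul_one] at h0
      exact hzT (by linear_combination mul_self_eq_zero.1 h0.symm - h2)
  refine X.exists_upt_notfull_six hq (by omega) h2
    (X.upt_of_full_eight hn h2 hwT hwi hc hc0 (hwfull c) fun e => ?_) hwi hwfull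
  rw [hwN, hx1 c (by simp [Ne.symm hac, Ne.symm hbc]), map_one, mul_one] at e
  have : (z + σ z) * (z + σ z) = 0 := by linear_combination e - (z + σ z) * h2
  exact hT0 (mul_self_eq_zero.1 this)

/-- Nine coordinates in characteristic two: a vector with an empty place that can be rotated. -/
theorem exists_upt_nine (hq : 3 ≤ q) (hn : Fintype.card ι = 9) (h2 : (2 : F) = 0) {v : V} {c₀ : F}
    (h : Tr1 σ M v c₀) (hv : dot σ v v = 0) (hc : c₀ + σ c₀ = 0) (hc0 : c₀ ≠ 0) (hfull : ∀ j, v j ≠ 0) :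
    ∃ w, w ≠ 0 ∧ dot σ w w = 0 ∧ (supp w).card < Fintype.card ι ∧ UPt σ (dot σ) M w := by
  classical
  have hs := X.herm
  have hq4 : 4 ≤ q := by
    rcases Nat.even_or_odd q with ⟨r, hr⟩ | ⟨r, hr⟩
    · omega
    · exfalso
      have hq0 := X.circ.cast_q
      rw [hr, Nat.cast_add, Nat.cast_mul, Nat.cast_ofNat, h2, zero_mul, zero_add, Nat.cast_one] at hq0
      exact one_ne_zero hq0
  obtain ⟨i, a, hia⟩ := Fintype.exists_pair_of_one_lt_card (show 1 < Fintype.card ι by omega)
  set N : ι → F := fun j => v j * σ (v j) with hN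
  have hN0 : ∀ j, N j ≠ 0 := fun j => X.norm_ne (hfull j)
  let B₁ : Finset F := (mu σ).filter fun x => N i + 1 / c₀ + x * N a = 0
  let B₂ : Finset F := (mu σ).filter fun x => c₀ * (N a * ((1 - x) * (1 - σ x))) = -1
  have hB₁ : B₁.card ≤ 1 := Finset.card_le_one.2 fun x hx y hy => by
    simp only [B₁, Finset.mem_filter] at hx hy
    exact mul_right_cancel₀ (hN0 a) (by linear_combination hx.2 - hy.2)
  have hB₂ : B₂.card ≤ 2 := by
    refine le_trans (Finset.card_le_card fun x hx => ?_)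
      (line_fiber (σ := σ) (β := (1 : F)) one_ne_zero (2 + 1 / (c₀ * N a)))
    simp only [B₂, Finset.mem_filter, one_mul] at hx ⊢
    refine ⟨hx.1, ?_⟩
    field_simp [hN0 a, hc0]
    linear_combination (c₀ * N a) * mem_mu.1 hx.1 - hx.2
  obtain ⟨z, hz, hzB⟩ := Finset.exists_mem_notMem_of_card_lt_card (s := insert 1 (B₁ ∪ B₂)) (t := mu σ) (by
    have h1 := Finset.card_insert_le 1 (B₁ ∪ B₂)
    have h3 := Finset.card_union_le B₁ B₂
    rw [X.circ.card_mu]
    omega)
  simp only [Finset.mem_insert, Finset.mem_union, not_or, B₁, B₂, Finset.mem_filter, not_and] at hzB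
  obtain ⟨hz1, hJ0, hrot0⟩ := hzB
  have hJ0 := hJ0 hz
  have hrot0 := hrot0 hz
  set ρ : ι → F := fun j => if j = a then z else 1 with hρdef
  have hρ : ∀ j, ρ j ∈ mu σ := fun j => by simp only [ρ]; split_ifs; exacts [hz, one_mem_mu]
  have hρi : ρ i = 1 := by simp [ρ, hia]
  have hρa : ρ a = z := by simp [ρ]
  let c : ι → F := fun j => N j + if j = i then 1 / c₀ else 0
  have hcout : ∀ j, j ∉ ({i, a} : Finset ι) → c j ≠ 0 := fun j hj => by
    simp only [Finset.mem_insert, Finset.mem_singleton, not_or] at hj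
    simp [c, hj.1, hN0 j]
  obtain ⟨d, e, he, hd, hdJ, hprod, hsum⟩ :
      ∃ d : ι → F, ∃ e : F, e ∈ mu σ ∧ (∀ j, d j ∈ mu σ) ∧
        (∀ j ∈ ({i, a} : Finset ι), d j = e * ρ j) ∧ ∏ j, d j = 1 ∧ ∑ j, c j * d j = 0 := by
    obtain ⟨B, hB, hBc⟩ := Finset.exists_subset_card_eq (s := ({i, a} : Finset ι)ᶜ) (n := 4)
      (by rw [Finset.card_compl, Finset.card_pair hia]; omega)
    have hJA : ({i, a} : Finset ι) ⊆ Bᶜ := fun j hj =>
      Finset.mem_compl.2 fun h => Finset.mem_compl.1 (hB h) hj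
    obtain ⟨x, y, w, hxy, hxw, hyw, hS⟩ := Finset.card_eq_three.1 (show (Bᶜ \ {i, a}).card = 3 by
      rw [Finset.card_sdiff_of_subset hJA, Finset.card_compl, hBc, hn, Finset.card_pair hia])
    have hout : ∀ j ∈ Bᶜ \ ({i, a} : Finset ι), c j ≠ 0 := fun j hj => hcout j (Finset.mem_sdiff.1 hj).2
    have hJsum : ∑ j ∈ ({i, a} : Finset ι), c j * ρ j ≠ 0 := by
      rw [Finset.sum_pair hia, hρi, hρa]
      simp only [c, Ne.symm hia, if_true, if_false, add_zero, mul_one]
      exact fun e => hJ0 (by linear_combination e)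
    obtain ⟨u₁, hu₁, u₂, hu₂, u₃, hu₃, u₄, hu₄, e⟩ := X.circ.exists_four (hout x (by simp [hS]))
      (hout y (by simp [hS])) (hout w (by simp [hS])) hJsum 0
    refine X.circ.exists_zero_sum_split hB hBc le_rfl ?_ hρ hcout
      ⟨fun j => if j = x then u₁ * u₄⁻¹ else if j = y then u₂ * u₄⁻¹ else u₃ * u₄⁻¹, fun j => ?_, ?_⟩
    · rw [hn]
      exact Nat.coprime_one_left _
    · dsimp only
      split_ifs
      exacts [mul_mem_mu hu₁ (inv_mem_mu hu₄), mul_mem_mu hu₂ (inv_mem_mu hu₄), mul_mem_mu hu₃ (inv_mem_mu hu₄)]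
    · rw [hS, Finset.sum_insert (by simp [hxy, hxw]), Finset.sum_pair hyw]
      simp only [if_true, if_neg hxy.symm, if_neg hxw.symm, if_neg hyw.symm]
      field_simp [mu_ne hu₄]
      linear_combination e
  have hdi : d i = e := by rw [hdJ i (by simp), hρi, mul_one]
  have hσd : ∀ j, σ (d j) ∈ mu σ := fun j => by rw [mem_mu, hs.invol, mul_comm]; exact mem_mu.1 (hd j)
  obtain ⟨g, hg, hgz⟩ := X.exists_diag_mem (fun j => σ (d j)) hσd (by rw [← map_prod, hprod, map_one])
  set u := (g : Mn) *ᵥ v with hu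
  have hf : c₀ * dot σ v u = -e := by
    have h1 : dot σ v u = ∑ j, v j * σ (v j) * d j := Finset.sum_congr rfl fun j _ => by
      rw [hu, hgz, map_mul, hs.invol]; ring
    simp only [c, hN, add_mul, Finset.sum_add_distrib, ite_mul, zero_mul, Finset.sum_ite_eq', Finset.mem_univ,
      if_true] at hsum
    rw [← h1, hdi] at hsum
    field_simp at hsum
    linear_combination hsum
  set w := v + (c₀ * dot σ v u) • u with hw
  have hwc : ∀ j, w j = v j * (1 - e * σ (d j)) := fun j => by
    rw [hw, hf, Pi.add_apply, Pi.smul_apply, smul_eq_mul, hu, hgz]; ring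
  have hwi : w i = 0 := by rw [hwc, hdi, mem_mu.1 he, sub_self, mul_zero]
  have hwa : w a = v a * (1 - σ z) := by
    rw [hwc, hdJ a (by simp), hρa, map_mul, ← mul_assoc, mem_mu.1 he, one_mul]
  have hww : dot σ w w = 0 := X.iso_add_smul hv (by rw [hu, X.iso g hg, hv]) hc
  have hwa0 : w a ≠ 0 := by
    rw [hwa]
    exact mul_ne_zero (hfull a) fun e' => hz1 (by rw [← hs.invol z, ← sub_eq_zero.1 e', map_one])
  refine ⟨w, fun e' => hwa0 (by rw [e']; rfl), hww, lt_of_lt_of_le (Finset.card_lt_card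
    (Finset.ssubset_univ_iff.2 fun e' => mem_supp.1 (e' ▸ Finset.mem_univ i) hwi))
    (Finset.card_univ (α := ι)).le, X.upt_rotate_place hwi hww hwa0 (X.tr1_add_smul h (X.tr1_map h hg)) hc hc0 ?_⟩
  rw [hwa, map_mul, map_sub, map_one, hs.invol]
  exact fun e' => hrot0 (by simp only [hN]; linear_combination e')

/-- One transvection at an isotropic vector is enough. -/
theorem upt_of_tr1 (hq : 3 ≤ q) {v : V} {c₀ : F} (h : Tr1 σ M v c₀) (hv : dot σ v v = 0) (hv0 : v ≠ 0)
    (hc : c₀ + σ c₀ = 0) (hc0 : c₀ ≠ 0) (hgood : 3 ≤ (supp v).card ∨ (2 : F) ≠ 0)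
    (hten : (supp v).card < Fintype.card ι ∨ ((2 : F) = 0 ∧ 5 ≤ Fintype.card ι)) :
    ∀ u, dot σ u u = 0 → UPt σ (dot σ) M u := by
  obtain ⟨w', hw'0, hw', hw'n, hw'U⟩ : ∃ w, w ≠ 0 ∧ dot σ w w = 0 ∧ (supp w).card < Fintype.card ι ∧
      UPt σ (dot σ) M w := by
    by_cases hlt : (supp v).card < Fintype.card ι
    · exact X.exists_upt_of_tr1 hq h hv hv0 hlt hc hc0 hgood
    · have hfull : ∀ j, v j ≠ 0 := fun j => mem_supp.1 (by
        rw [Finset.eq_univ_of_card (supp v) (le_antisymm (Finset.card_le_univ _) (not_lt.1 hlt))]; simp)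
      by_cases h8 : Fintype.card ι = 8
      · exact X.exists_upt_eight hq h8 (hten.resolve_left hlt).1 h hv hc hc0 hfull
      by_cases h9 : Fintype.card ι = 9
      · exact X.exists_upt_nine hq h9 (hten.resolve_left hlt).1 h hv hc hc0 hfull
      rcases X.card with ⟨hn, -⟩ | hn
      · exact X.exists_upt_six hq hn (hten.resolve_left hlt).1 h hv hc hc0 hfull
      obtain ⟨w, hw, hw3, hwn, hwT⟩ : ∃ w, dot σ w w = 0 ∧ 3 ≤ (supp w).card ∧
          (supp w).card < Fintype.card ι ∧ Tr1 σ M w c₀ := by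
        rcases hn with hn | hn
        · exact X.exists_tr1_smaller_ten hq hn (hten.resolve_left hlt).1 h hv hc hc0 hfull
        · exact X.exists_tr1_smaller hq h hv hc hc0 hfull
            (hn.resolve_right fun e => e.elim h8 fun e' => e'.elim
              (fun e4 => by have := (hten.resolve_left hlt).2; omega) h9)
      exact X.exists_upt_of_tr1 hq hwT hw (fun e => by
        rw [e, show supp (0 : V) = ∅ by ext; simp [mem_supp], Finset.card_empty] at hw3; omega) hwn hc hc0
        (Or.inl hw3)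
  obtain ⟨p, hp, hps, hpU⟩ := X.exists_upt_pair hq hw'U hw' hw'0 hw'n
  exact X.upt_all hq fun u hu hus => X.upt_pair hp hps hpU hu hus

end Ctx

end Cfsg.Agent.Classical.MaxUnitMon
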