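import Cfsg.Agent.Lib.Classical.MaxUnitary
import Cfsg.Agent.Lib.Classical.MaxRational

/-!
A Hermitian space over a subfield inside one over a bigger field: generation from one extra element.
-/

set_option autoImplicit false
set_option linter.unusedSectionVars false

namespace Cfsg.Agent.Classical.MaxTv

open Matrix Module

variable {F : Type*} [Field F] {ι : Type} [Fintype ι] [DecidableEq ι]

local notation "V" => (ι → F)
local notation "Mn" => Matrix ι ι F

/-- The vector with coordinates `u` in the columns of `P`. -/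
def emb (F₀ : Subfield F) (P : GL ι F) (u : ι → F₀) : ι → F := (P : Mn) *ᵥ fun i => (u i : F)

variable {F₀ : Subfield F} {P : GL ι F}

theorem emb_add (u v : ι → F₀) : emb F₀ P (u + v) = emb F₀ P u + emb F₀ P v := by
  rw [emb, emb, emb, ← Matrix.mulVec_add]; rfl

theorem emb_smul (c : F₀) (u : ι → F₀) : emb F₀ P (c • u) = (c : F) • emb F₀ P u := by
  rw [emb, emb, ← Matrix.mulVec_smul]; rfl

theorem emb_zero : emb F₀ P (0 : ι → F₀) = 0 := by
  rw [emb]; exact Matrix.mulVec_zero _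

theorem emb_sub (u v : ι → F₀) : emb F₀ P (u - v) = emb F₀ P u - emb F₀ P v := by
  rw [emb, emb, emb, ← Matrix.mulVec_sub]; rfl

theorem emb_injective : Function.Injective (emb F₀ P) := fun _ _ h =>
  funext fun i => Subtype.ext (congrFun (gl_mulVec_injective P h) i)

theorem rat_emb (u : ι → F₀) : Rat F₀ P (emb F₀ P u) := rat_of_coe u

theorem exists_emb {v : V} (h : Rat F₀ P v) : ∃ u, emb F₀ P u = v := h.exists_coe

theorem eq_sum_emb (P : GL ι F) (F₀ : Subfield F) (v : V) :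
    v = ∑ i, (((P⁻¹ : GL ι F) : Mn) *ᵥ v) i • emb F₀ P (Pi.single i 1) := by
  conv_lhs => rw [eq_sum_rat P v]
  refine Finset.sum_congr rfl fun i _ => ?_
  congr 1
  rw [emb]
  congr 1
  funext j
  by_cases h : j = i
  · subst h; simp
  · simp [h]

/-- The displacement of `x ↦ x + f(x,a) b − f(x,b) a`. -/
def sDisp (f : (ι → F) → (ι → F) → F) (a b : ι → F) (z : ι → F) : ι → F := f z a • b - f z b • a

/-- The displacement of a transvection. -/
def qDisp (f : (ι → F) → (ι → F) → F) (v : ι → F) (c : F) (z : ι → F) : ι → F := (c * f z v) • v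

theorem Herm.two_mul_finrank_lt {σ : F ≃+* F} {f : (ι → F) → (ι → F) → F} [Finite F] (hs : Herm σ f)
    {T : Submodule F V} (hT : ∀ v ∈ T, f v v = 0) {x : V} (hx : ∀ v ∈ T, f v x = 0) (hxx : f x x ≠ 0) :
    2 * finrank F T < Fintype.card ι := by
  have h2 : ∀ a ∈ T, ∀ b ∈ T, f a b = 0 := fun a ha b hb => by
    by_contra hne
    obtain ⟨z, hz⟩ := hs.exists_trace
    refine hz ?_
    have := hT _ (add_mem ha (T.smul_mem (σ (z / f a b)) hb))
    rw [hs.add_left, hs.add_right, hs.add_right, hs.smul_left, hs.smul_left, hs.smul_right, hs.smul_right,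
      hT a ha, hT b hb, hs.herm b a, ← map_mul, hs.invol, div_mul_cancel₀ _ hne, mul_zero, mul_zero] at this
    linear_combination this
  set U := T ⊔ (F ∙ x) with hU
  have hinj : Function.Injective (fun t : T =>
      (⟨hs.toSesq.lin t, (Submodule.mem_dualAnnihilator _).2 fun z hz => by
        obtain ⟨a, ha, b, hb, rfl⟩ := Submodule.mem_sup.1 hz
        obtain ⟨k, rfl⟩ := Submodule.mem_span_singleton.1 hb
        rw [hs.toSesq.lin_apply, hs.add_left, hs.smul_left, h2 a ha t t.2, hs.refl _ _ (hx t t.2), mul_zero,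
          add_zero]⟩ : U.dualAnnihilator)) :=
    fun a b e => Subtype.ext (sub_eq_zero.1 (hs.eq_zero _ fun z => by
      have := LinearMap.congr_fun (congrArg Subtype.val e) z
      rw [hs.toSesq.lin_apply, hs.toSesq.lin_apply] at this
      rw [hs.toSesq.sub_right, this, sub_self]))
  have : Finite (Module.Dual F V) := Module.finite_of_finite F
  have h3 := Nat.card_le_card_of_injective _ hinj
  have e1 : Nat.card T = Nat.card F ^ finrank F T := Module.natCard_eq_pow_finrank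
  have e2 : Nat.card U.dualAnnihilator = Nat.card F ^ finrank F U.dualAnnihilator := by
    exact @Module.natCard_eq_pow_finrank F U.dualAnnihilator _ (Submodule.addCommGroup U.dualAnnihilator) _ _
  rw [e1, e2] at h3
  have h4 := (Nat.pow_le_pow_iff_right Finite.one_lt_card).1 h3
  have h5 := Subspace.finrank_add_finrank_dualAnnihilator_eq U
  rw [Module.finrank_pi] at h5
  have h6 : finrank F T < finrank F U := Submodule.finrank_lt_finrank_of_lt
    (lt_of_le_of_ne le_sup_left fun e => hxx (hT x (e ▸ Submodule.mem_sup_right (Submodule.mem_span_singleton_self x))))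
  omega

/-- The sharp form of `Herm.exists_iso_left`. -/
theorem Herm.exists_iso_left_sharp {σ : F ≃+* F} {f : (ι → F) → (ι → F) → F} [Finite F] (hs : Herm σ f)
    {S : Submodule F V} (hS : Fintype.card ι + 1 < 2 * finrank F S) {u : V}
    (hu : ∃ x ∈ S, f x u ≠ 0) : ∃ a ∈ S, f a a = 0 ∧ f a u ≠ 0 := by
  obtain ⟨x, hx, hxu⟩ := hu
  by_cases hxx : f x x = 0
  · exact ⟨x, hx, hxx, hxu⟩
  have h1 := finrank_le_inf_ker_add_one S (hs.toSesq.lin x)
  obtain ⟨y, ⟨hy, hyx⟩, hyy⟩ : ∃ y ∈ S ⊓ LinearMap.ker (hs.toSesq.lin x), f y y ≠ 0 := by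
    by_contra hc
    push Not at hc
    have := hs.two_mul_finrank_lt hc (fun v hv => LinearMap.mem_ker.1 hv.2) hxx
    omega
  have hyx' : f y x = 0 := LinearMap.mem_ker.1 hyx
  obtain ⟨c, hc⟩ := hs.exists_norm (t := -(f y y) / f x x)
    (by rw [map_div₀, map_neg, hs.self_fixed, hs.self_fixed])
  obtain ⟨ζ, hζ, hζ1⟩ := hs.exists_norm_one
  have hiso : ∀ d : F, d * σ d = -(f y y) / f x x → f (d • x + y) (d • x + y) = 0 := fun d hd => by
    rw [hs.add_left, hs.add_right, hs.add_right, hs.smul_left, hs.smul_left, hs.smul_right, hs.smul_right,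
      hs.refl _ _ hyx', hyx', ← mul_assoc, hd, div_mul_cancel₀ _ hxx]
    ring
  have hc0 : c ≠ 0 := fun e => by
    rw [e, zero_mul, eq_comm, div_eq_zero_iff, neg_eq_zero] at hc
    exact hc.elim hyy hxx
  by_cases h : f (c • x + y) u ≠ 0
  · exact ⟨_, add_mem (S.smul_mem c hx) hy, hiso c hc, h⟩
  refine ⟨_, add_mem (S.smul_mem (ζ * c) hx) hy, hiso _ (by rw [map_mul, ← hc]; linear_combination (c * σ c) * hζ), ?_⟩
  push Not at h
  rw [hs.add_left, hs.smul_left] at h ⊢
  intro e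
  have : (ζ - 1) * (c * f x u) = 0 := by linear_combination e - h
  exact mul_ne_zero (sub_ne_zero.2 hζ1) (mul_ne_zero hc0 hxu) this

/-- A rational Hermitian structure, with rational transvections in `M`. -/
structure HData (σ : F ≃+* F) (f : (ι → F) → (ι → F) → F) (σ₀ : F₀ ≃+* F₀) (f₀ : (ι → F₀) → (ι → F₀) → F₀)
    (P : GL ι F) (M : Subgroup (GL ι F)) : Prop where
  herm : Herm σ f
  herm₀ : Herm σ₀ f₀
  sigma : ∀ a : F₀, σ (a : F) = (σ₀ a : F)
  form : ∀ u v, f (emb F₀ P u) (emb F₀ P v) = (f₀ u v : F)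
  dim : 4 ≤ Fintype.card ι
  iso : ∀ T ∈ M, ∀ x y, f ((T : Mn) *ᵥ x) ((T : Mn) *ᵥ y) = f x y
  tv : ∀ u, f₀ u u = 0 → ∀ c : F₀, c + σ₀ c = 0 → InN M (qDisp f (emb F₀ P u) (c : F))

variable {σ : F ≃+* F} {f : (ι → F) → (ι → F) → F} {σ₀ : F₀ ≃+* F₀} {f₀ : (ι → F₀) → (ι → F₀) → F₀}
  {M : Subgroup (GL ι F)}

/-- Isotropic and orthogonal. -/
structure HPair (f : (ι → F) → (ι → F) → F) (a b : ι → F) : Prop where
  left : f a a = 0
  right : f b b = 0
  orth : f a b = 0

namespace HData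

variable [Finite F] (hd : HData σ f σ₀ f₀ P M)
include hd

theorem conj_S {T : GL ι F} (hT : T ∈ M) {a b : V} (h : InN M (sDisp f a b)) :
    InN M (sDisp f ((T : Mn) *ᵥ a) ((T : Mn) *ᵥ b)) := by
  obtain ⟨S, hS, hSx⟩ := h
  refine ⟨T * S * T⁻¹, mul_mem (mul_mem hT hS) (inv_mem hT), fun x => ?_⟩
  rw [Units.val_mul, Units.val_mul, ← Matrix.mulVec_mulVec, ← Matrix.mulVec_mulVec, hSx, Matrix.mulVec_add,
    mulVec_inv_cancel, sDisp, sDisp, Matrix.mulVec_sub, Matrix.mulVec_smul, Matrix.mulVec_smul]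
  rw [← hd.iso T hT (((T⁻¹ : GL ι F) : Mn) *ᵥ x) a, ← hd.iso T hT (((T⁻¹ : GL ι F) : Mn) *ᵥ x) b,
    mulVec_inv_cancel]

theorem conj_Q {T : GL ι F} (hT : T ∈ M) {v : V} {c : F} (h : InN M (qDisp f v c)) :
    InN M (qDisp f ((T : Mn) *ᵥ v) c) := by
  obtain ⟨S, hS, hSx⟩ := h
  refine ⟨T * S * T⁻¹, mul_mem (mul_mem hT hS) (inv_mem hT), fun x => ?_⟩
  rw [Units.val_mul, Units.val_mul, ← Matrix.mulVec_mulVec, ← Matrix.mulVec_mulVec, hSx, Matrix.mulVec_add,
    mulVec_inv_cancel, qDisp, qDisp, Matrix.mulVec_smul]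
  rw [← hd.iso T hT (((T⁻¹ : GL ι F) : Mn) *ᵥ x) v, mulVec_inv_cancel]

theorem S_add {a a' b : V} (h : InN M (sDisp f a b)) (h' : InN M (sDisp f a' b)) (haa : f a a' = 0)
    (hab : f a b = 0) (hab' : f a' b = 0) (hbb : f b b = 0) : InN M (sDisp f (a + a') b) := by
  have hs := hd.herm
  refine (InN.add h h' fun x => ?_).congr fun x => ?_
  · simp only [sDisp, hs.add_left, hs.toSesq.sub_left, hs.smul_left, hbb, hab', hs.refl _ _ haa,
      hs.refl _ _ hab, mul_zero, sub_zero, add_zero]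
  · simp only [sDisp, hs.add_right]; module

theorem S_neg {a b : V} (h : InN M (sDisp f a b)) (haa : f a a = 0) (hab : f a b = 0) (hbb : f b b = 0) :
    InN M (sDisp f (-a) b) := by
  have hs := hd.herm
  have hna : ∀ x, f x (-a) = -f x a := fun x => by
    rw [← neg_one_smul F a, hs.smul_right, map_neg, map_one, neg_one_mul]
  refine (InN.neg h fun x => ?_).congr fun x => ?_
  · simp only [sDisp, hs.toSesq.sub_left, hs.smul_left, hbb, haa, hab, hs.refl _ _ hab, mul_zero, sub_zero]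
  · simp only [sDisp, hna]; module

theorem S_sub {a a' b : V} (h : InN M (sDisp f a b)) (h' : InN M (sDisp f a' b)) (haa : f a a' = 0)
    (ha'a' : f a' a' = 0) (hab : f a b = 0) (hab' : f a' b = 0) (hbb : f b b = 0) :
    InN M (sDisp f (a - a') b) := by
  have hs := hd.herm
  rw [sub_eq_add_neg]
  refine hd.S_add h (hd.S_neg h' ha'a' hab' hbb) ?_ hab ?_ hbb
  · rw [← neg_one_smul F a', hs.smul_right, haa, mul_zero]
  · rw [← neg_one_smul F a', hs.smul_left, hab', mul_zero]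

theorem S_swap {a b : V} (h : InN M (sDisp f a b)) (haa : f a a = 0) (hab : f a b = 0) (hbb : f b b = 0) :
    InN M (sDisp f b a) := by
  have hs := hd.herm
  refine (InN.neg h fun x => ?_).congr fun x => ?_
  · simp only [sDisp, hs.toSesq.sub_left, hs.smul_left, hbb, haa, hab, hs.refl _ _ hab, mul_zero, sub_zero]
  · simp only [sDisp]; module

theorem sDisp_smul (a b : V) (k : F) (x : V) : sDisp f (k • a) b x = sDisp f a (σ k • b) x := by
  simp only [sDisp, hd.herm.smul_right, hd.herm.invol]; module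

theorem S_of_Q {a b : V} {c d : F} (hc : c + σ c = 0) (hd' : c + d = 0) (hp : HPair f a b)
    (h1 : InN M (qDisp f (a + b) c)) (h2 : InN M (qDisp f a d)) (h3 : InN M (qDisp f b d)) :
    InN M (sDisp f ((-c) • a) b) := by
  have hs := hd.herm
  have h12 := InN.add h2 h3 fun x => by
    simp only [qDisp, hs.add_left, hs.smul_left, hs.refl _ _ hp.orth, mul_zero, add_zero]
  refine (InN.add h1 h12 fun x => ?_).congr fun x => ?_
  · simp only [qDisp, hs.add_left, hs.add_right, hs.smul_left, hp.left, hp.right, hp.orth, hs.refl _ _ hp.orth,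
      mul_zero, add_zero]
  · simp only [sDisp, qDisp, hs.add_right, hs.smul_right, show d = -c by linear_combination hd',
      show σ (-c) = c by rw [map_neg]; linear_combination -hc]
    module

theorem emb_pair {a b : ι → F₀} (ha : f₀ a a = 0) (hb : f₀ b b = 0) (hab : f₀ a b = 0) :
    HPair f (emb F₀ P a) (emb F₀ P b) :=
  ⟨by rw [hd.form, ha]; rfl, by rw [hd.form, hb]; rfl, by rw [hd.form, hab]; rfl⟩

theorem exists_skew₀ : ∃ c : F₀, c ≠ 0 ∧ c + σ₀ c = 0 ∧ (c : F) + σ (c : F) = 0 := by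
  obtain ⟨c, hc0, hc⟩ := hd.herm₀.exists_skew
  exact ⟨c, hc0, hc, by rw [hd.sigma, ← AddMemClass.coe_add, hc]; rfl⟩

theorem S_rat {a b : ι → F₀} (ha : f₀ a a = 0) (hb : f₀ b b = 0) (hab : f₀ a b = 0) :
    InN M (sDisp f (emb F₀ P a) (emb F₀ P b)) := by
  have hs := hd.herm₀
  obtain ⟨c, hc0, hc, hcF⟩ := hd.exists_skew₀
  set a' := (-c)⁻¹ • a with ha'
  have h1 : f₀ a' a' = 0 := by rw [ha', hs.smul_left, hs.smul_right, ha, mul_zero, mul_zero]
  have h2 : f₀ a' b = 0 := by rw [ha', hs.smul_left, hab, mul_zero]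
  have h := hd.S_of_Q hcF (d := ((-c : F₀) : F)) (by push_cast; ring) (hd.emb_pair h1 hb h2)
    (by rw [← emb_add]; exact hd.tv _ (by rw [hs.add_left, hs.add_right, hs.add_right, h1, h2, hb, hs.refl _ _ h2];
                                          ring) c hc)
    (hd.tv _ h1 (-c) (by rw [map_neg, ← neg_add, hc, neg_zero]))
    (hd.tv _ hb (-c) (by rw [map_neg, ← neg_add, hc, neg_zero]))
  rwa [show (-(c : F)) • emb F₀ P a' = emb F₀ P a by
    rw [show -(c : F) = ((-c : F₀) : F) by push_cast; rfl, ← emb_smul, ha', smul_smul,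
      mul_inv_cancel₀ (neg_ne_zero.2 hc0), one_smul]] at h

/-- An isotropic vector orthogonal to a few given ones, with prescribed product against another. -/
theorem exists_partner_perp {κ : Type} [Fintype κ] (l : κ → ι → F₀) (hl : 2 * Fintype.card κ + 2 ≤ Fintype.card ι) {u : ι → F₀}
    (hu : ∃ z, (∀ i, f₀ z (l i) = 0) ∧ f₀ z u ≠ 0) : ∃ a, (∀ i, f₀ a (l i) = 0) ∧ f₀ a a = 0 ∧ f₀ a u = 1 := by
  have hs := hd.herm₀
  let S : Submodule F₀ (ι → F₀) :=
    LinearMap.ker (LinearMap.pi fun i => hs.toSesq.lin (l i) : (ι → F₀) →ₗ[F₀] (κ → F₀))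
  have hmem : ∀ z, z ∈ S ↔ ∀ i, f₀ z (l i) = 0 := fun z => by simp [S, funext_iff]
  have hdim : Fintype.card ι ≤ finrank F₀ S + Fintype.card κ := by
    have h1 := (LinearMap.pi fun i => hs.toSesq.lin (l i) : (ι → F₀) →ₗ[F₀] (κ → F₀)).finrank_range_add_finrank_ker
    have h2 := Submodule.finrank_le
      (LinearMap.range (LinearMap.pi fun i => hs.toSesq.lin (l i) : (ι → F₀) →ₗ[F₀] (κ → F₀)))
    rw [Module.finrank_pi] at h2
    rw [Module.finrank_pi] at h1
    show _ ≤ finrank F₀ (LinearMap.ker _) + Fintype.card κ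
    omega
  have := hd.dim
  obtain ⟨z, hz, hzu⟩ := hu
  obtain ⟨a, ha, haa, hau⟩ := hs.exists_iso_left_sharp (S := S) (by omega) ⟨z, (hmem z).2 hz, hzu⟩
  refine ⟨(f₀ a u)⁻¹ • a, fun i => ?_, ?_, ?_⟩
  · rw [hs.smul_left, (hmem a).1 ha i, mul_zero]
  · rw [hs.smul_left, hs.smul_right, haa, mul_zero, mul_zero]
  · rw [hs.smul_left, inv_mul_cancel₀ hau]

/-- A hyperbolic pair orthogonal to a few given vectors. -/
theorem exists_hyp_perp {κ : Type} [Fintype κ] (l : κ → ι → F₀) (hl : 2 * Fintype.card κ + 2 ≤ Fintype.card ι) :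
    ∃ y y', (∀ i, f₀ y (l i) = 0) ∧ (∀ i, f₀ y' (l i) = 0) ∧ f₀ y y = 0 ∧ f₀ y' y' = 0 ∧ f₀ y' y = 1 ∧
      f₀ y y' = 1 := by
  have hs := hd.herm₀
  let S : Submodule F₀ (ι → F₀) :=
    LinearMap.ker (LinearMap.pi fun i => hs.toSesq.lin (l i) : (ι → F₀) →ₗ[F₀] (κ → F₀))
  have hmem : ∀ z, z ∈ S ↔ ∀ i, f₀ z (l i) = 0 := fun z => by simp [S, funext_iff]
  have hdim : Fintype.card ι ≤ finrank F₀ S + Fintype.card κ := by
    have h1 := (LinearMap.pi fun i => hs.toSesq.lin (l i) : (ι → F₀) →ₗ[F₀] (κ → F₀)).finrank_range_add_finrank_ker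
    have h2 := Submodule.finrank_le
      (LinearMap.range (LinearMap.pi fun i => hs.toSesq.lin (l i) : (ι → F₀) →ₗ[F₀] (κ → F₀)))
    rw [Module.finrank_pi] at h2
    rw [Module.finrank_pi] at h1
    show _ ≤ finrank F₀ (LinearMap.ker _) + Fintype.card κ
    omega
  have := hd.dim
  obtain ⟨u, hu, huu⟩ := hs.exists_aniso (S := S) (by omega)
  obtain ⟨y, hy, hyy, hyu⟩ := hs.exists_iso_left_sharp (S := S) (by omega) ⟨u, hu, huu⟩
  obtain ⟨y', hy', h1, h2⟩ := hd.exists_partner_perp l hl (u := y)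
    ⟨u, (hmem u).1 hu, fun e => hyu (hs.refl _ _ e)⟩
  exact ⟨y, y', (hmem y).1 hy, hy', hyy, h1, h2, by rw [hs.herm, h2, map_one]⟩

/-- A hyperbolic pair orthogonal to a hyperbolic pair. -/
theorem exists_hyp_pair {x x' : ι → F₀} (hx : f₀ x x = 0) (hx'x : f₀ x' x = 1) :
    ∃ y y', f₀ y x = 0 ∧ f₀ y x' = 0 ∧ f₀ y' x = 0 ∧ f₀ y' x' = 0 ∧ f₀ y y = 0 ∧ f₀ y' y' = 0 ∧ f₀ y' y = 1 ∧
      f₀ y y' = 1 := by
  have hs := hd.herm₀
  have hdim' := hd.dim
  let S : Submodule F₀ (ι → F₀) :=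
    LinearMap.ker (LinearMap.pi fun i => hs.toSesq.lin (![x, x'] i) : (ι → F₀) →ₗ[F₀] (Fin 2 → F₀))
  have hmem : ∀ z, z ∈ S ↔ ∀ i, f₀ z (![x, x'] i) = 0 := fun z => by simp [S, funext_iff]
  have hdim : 2 ≤ finrank F₀ S := by
    have h1 := (LinearMap.pi fun i => hs.toSesq.lin (![x, x'] i) :
      (ι → F₀) →ₗ[F₀] (Fin 2 → F₀)).finrank_range_add_finrank_ker
    have h2 := Submodule.finrank_le (LinearMap.range (LinearMap.pi fun i => hs.toSesq.lin (![x, x'] i) :
      (ι → F₀) →ₗ[F₀] (Fin 2 → F₀)))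
    rw [Module.finrank_pi, Fintype.card_fin] at h2
    rw [Module.finrank_pi] at h1
    show 2 ≤ finrank F₀ (LinearMap.ker _)
    omega
  obtain ⟨y, hy, hy0, hyy⟩ := hs.exists_iso (S := S) hdim
  have hyx : f₀ y x = 0 := (hmem y).1 hy 0
  have hyx' : f₀ y x' = 0 := (hmem y).1 hy 1
  obtain ⟨h₀, hh₀⟩ := hs.toSesq.exists_left hy0
  obtain ⟨h, hh⟩ : ∃ h, h = (f₀ h₀ y)⁻¹ • h₀ := ⟨_, rfl⟩
  have hhy : f₀ h y = 1 := by rw [hh, hs.smul_left, inv_mul_cancel₀ hh₀]
  have hxx' : f₀ x x' = 1 := by rw [hs.herm, hx'x, map_one]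
  obtain ⟨z, hz⟩ : ∃ z, z = h - f₀ h x • x' - (f₀ h x' - f₀ h x * f₀ x' x') • x := ⟨_, rfl⟩
  have hzx : f₀ z x = 0 := by
    simp only [hz, hs.toSesq.sub_left, hs.smul_left, hx'x, hx]; ring
  have hzx' : f₀ z x' = 0 := by
    simp only [hz, hs.toSesq.sub_left, hs.smul_left, hxx']; ring
  have hzy : f₀ z y = 1 := by
    simp only [hz, hs.toSesq.sub_left, hs.smul_left, hhy, hs.refl _ _ hyx, hs.refl _ _ hyx']; ring
  obtain ⟨d, hd'⟩ := hs.exists_trace_eq (a := -(f₀ z z)) (by rw [map_neg, hs.self_fixed])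
  have hyz : f₀ y z = 1 := by rw [hs.herm, hzy, map_one]
  refine ⟨y, z + d • y, hyx, hyx', by rw [hs.add_left, hs.smul_left, hzx, hyx, mul_zero, add_zero],
    by rw [hs.add_left, hs.smul_left, hzx', hyx', mul_zero, add_zero], hyy, ?_, ?_, ?_⟩
  · rw [hs.add_left, hs.add_right, hs.add_right, hs.smul_left, hs.smul_left, hs.smul_right, hs.smul_right, hzy, hyz,
      hyy]
    linear_combination hd'
  · rw [hs.add_left, hs.smul_left, hzy, hyy, mul_zero, add_zero]
  · rw [hs.add_right, hs.smul_right, hyz, hyy, mul_zero, add_zero]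

/-- Two independent vectors are separated by a third. -/
theorem exists_sep₀ {a b : ι → F₀} (ha : a ≠ 0) (hind : ∀ t : F₀, b ≠ t • a) :
    ∃ z, f₀ z a = 0 ∧ f₀ z b ≠ 0 := by
  by_contra hc
  push Not at hc
  obtain ⟨t, ht⟩ := hd.herm₀.toSesq.eq_smul_of_ker ha hc
  exact hind t ht

/-- Two isotropic points are joined through a third one orthogonal to and independent of both. -/
theorem exists_mid {a b : ι → F₀} (ha : f₀ a a = 0) (ha0 : a ≠ 0) (hb : f₀ b b = 0) (hb0 : b ≠ 0) :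
    (f₀ a b = 0 ∧ ∀ t : F₀, b ≠ t • a) ∨
      ∃ u, f₀ u u = 0 ∧ u ≠ 0 ∧ f₀ a u = 0 ∧ (∀ t : F₀, u ≠ t • a) ∧ f₀ u b = 0 ∧ ∀ t : F₀, b ≠ t • u := by
  have hs := hd.herm₀
  have hdim' := hd.dim
  obtain ⟨z₀, hz₀⟩ := hs.toSesq.exists_left ha0
  obtain ⟨a', -, -, ha'a⟩ := hd.exists_partner_perp (κ := Fin 0) Fin.elim0 (by simp; omega) (u := a)
    ⟨z₀, fun i => i.elim0, hz₀⟩
  obtain ⟨a'', hae, hab⟩ : ∃ a'', f₀ a'' a = 1 ∧ ((∀ t : F₀, b ≠ t • a) → f₀ a b ≠ 0 →
      ∃ k : F₀, k ≠ 0 ∧ a'' = k • b) := by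
    by_cases h : f₀ a b = 0
    · exact ⟨a', ha'a, fun _ h' => absurd h h'⟩
    · have h' : f₀ b a ≠ 0 := fun e => h (hs.refl _ _ e)
      exact ⟨(f₀ b a)⁻¹ • b, by rw [hs.smul_left, inv_mul_cancel₀ h'], fun _ _ => ⟨_, inv_ne_zero h', rfl⟩⟩
  obtain ⟨u, u', hua, hua'', hu'a, -, huu, -, hu'u, -⟩ := hd.exists_hyp_pair ha hae
  have hu0 : u ≠ 0 := fun e => by rw [e, hs.toSesq.zero_right] at hu'u; exact zero_ne_one hu'u
  have hindu : ∀ t : F₀, u ≠ t • a := fun t e => by
    rw [e, hs.smul_right, hu'a, mul_zero] at hu'u; exact zero_ne_one hu'u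
  by_cases hind : ∀ t : F₀, b ≠ t • a
  · by_cases h : f₀ a b = 0
    · exact Or.inl ⟨h, hind⟩
    obtain ⟨k, hk, hkb⟩ := hab hind h
    have hub : f₀ u b = 0 := by
      rw [hkb, hs.smul_right] at hua''
      exact (mul_eq_zero.1 hua'').resolve_left (σ₀.map_ne_zero_iff.2 hk)
    exact Or.inr ⟨u, huu, hu0, hs.refl _ _ hua, hindu, hub, fun t e => h (by
      rw [e, hs.smul_right, hs.refl _ _ hua, mul_zero])⟩
  · push Not at hind
    obtain ⟨t, rfl⟩ := hind
    refine Or.inr ⟨u, huu, hu0, hs.refl _ _ hua, hindu, by rw [hs.smul_right, hua, mul_zero], fun t' e => ?_⟩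
    have ht : t ≠ 0 := fun e' => hb0 (by rw [e', zero_smul])
    have ht' : t' ≠ 0 := fun e' => hb0 (by rw [e, e', zero_smul])
    exact hindu (t'⁻¹ * t) (by rw [mul_smul, e, smul_smul, inv_mul_cancel₀ ht', one_smul])

/-- The group product of transvection and short root parameters of one totally singular plane. -/
theorem cross_element {c : F} (hc : c + σ c = 0) (hcQ : ∀ x, f₀ x x = 0 → InN M (qDisp f (emb F₀ P x) c))
    {u a b : ι → F₀} (huu : f₀ u u = 0) (hb : f₀ b b = 0) (hub : f₀ u b = 0) (hua : f₀ u a = 1)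
    {β : F} (hβ : InN M (sDisp f (emb F₀ P a) (β • emb F₀ P b))) :
    InN M fun z => sDisp f (emb F₀ P u) ((c * β) • emb F₀ P b) z + qDisp f (emb F₀ P b) (c * (β * σ β)) z := by
  obtain ⟨T, hT, hTx⟩ := hβ
  have e : f (emb F₀ P u) (emb F₀ P b) = 0 := by rw [hd.form, hub]; rfl
  have e' : f (emb F₀ P b) (emb F₀ P b) = 0 := by rw [hd.form, hb]; rfl
  have e'' : f (emb F₀ P u) (emb F₀ P u) = 0 := by rw [hd.form, huu]; rfl
  have h1 := hd.conj_Q hT (hcQ u huu)
  rw [hTx] at h1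
  simp only [sDisp, hd.herm.smul_right, hd.form, hua, hub, ZeroMemClass.coe_zero, OneMemClass.coe_one, mul_zero,
    zero_smul, sub_zero, one_smul] at h1
  refine (InN.sub h1 (hcQ u huu) (fun z => ?_) fun z => ?_).congr fun z => ?_
  · simp only [qDisp, hd.herm.toSesq.sub_left, hd.herm.smul_left, e'', mul_zero, sub_zero]
  · simp only [qDisp, hd.herm.toSesq.sub_left, hd.herm.add_right, hd.herm.smul_left, hd.herm.smul_right, e, e'',
      mul_zero, sub_zero, add_zero]
  · simp only [sDisp, qDisp, hd.herm.add_right, hd.herm.smul_right, map_mul,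
      show σ c = -c by linear_combination hc]
    module

/-- The norms of the short root coefficients multiply the transvection coefficients. -/
theorem tv_mul_norm {c : F} (hc : c + σ c = 0) (hcQ : ∀ x, f₀ x x = 0 → InN M (qDisp f (emb F₀ P x) c)) {β : F}
    (hK : ∀ a b, f₀ a a = 0 → a ≠ 0 → f₀ b b = 0 → f₀ a b = 0 → (∀ t : F₀, b ≠ t • a) →
      InN M (sDisp f (emb F₀ P a) (β • emb F₀ P b))) :
    ∀ x, f₀ x x = 0 → InN M (qDisp f (emb F₀ P x) (c * (β * σ β))) := by
  have hs := hd.herm₀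
  intro b hb
  rcases eq_or_ne b 0 with rfl | hb0
  · exact ⟨1, one_mem M, fun z => by simp [qDisp, emb_zero]⟩
  have hdim' := hd.dim
  obtain ⟨z₀, hz₀⟩ := hs.toSesq.exists_left hb0
  obtain ⟨b', -, -, hb'b⟩ := hd.exists_partner_perp (κ := Fin 0) Fin.elim0 (by simp; omega) (u := b)
    ⟨z₀, fun i => i.elim0, hz₀⟩
  obtain ⟨u, a, hub, hub', hab, hab', huu, haa, hau, hua⟩ := hd.exists_hyp_pair hb hb'b
  have ha0 : a ≠ 0 := fun e => by rw [e, hs.toSesq.zero_left] at hau; exact zero_ne_one hau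
  have hsc : ∀ t : F₀, InN M (sDisp f (emb F₀ P a) ((β * t) • emb F₀ P b)) := fun t => by
    rcases eq_or_ne t 0 with rfl | ht
    · exact ⟨1, one_mem M, fun z => by simp [sDisp, hd.herm.toSesq.zero_right]⟩
    rw [mul_smul, ← emb_smul]
    refine hK a (t • b) haa ha0 (by rw [hs.smul_left, hs.smul_right, hb, mul_zero, mul_zero])
      (by rw [hs.smul_right, hab, mul_zero]) fun k e => ?_
    have h1 := congrArg (fun v => f₀ v u) e
    simp only [hs.smul_left, hs.refl _ _ hub, hau, mul_zero, mul_one] at h1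
    rw [← h1, zero_smul] at e
    exact hb0 ((smul_eq_zero.1 e).resolve_left ht)
  obtain ⟨t, ht⟩ := hs.exists_trace_eq (a := (1 : F₀)) (map_one _)
  have hβ : InN M (sDisp f (emb F₀ P a) (β • emb F₀ P b)) := by simpa using hsc 1
  have d1 := hd.cross_element hc hcQ huu hb hub hua (hsc (1 + t))
  have d2 := hd.cross_element hc hcQ huu hb hub hua hβ
  have d3 := hd.cross_element hc hcQ huu hb hub hua (hsc t)
  have e : f (emb F₀ P u) (emb F₀ P b) = 0 := by rw [hd.form, hub]; rfl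
  have e' : f (emb F₀ P b) (emb F₀ P b) = 0 := by rw [hd.form, hb]; rfl
  have e'' : f (emb F₀ P u) (emb F₀ P u) = 0 := by rw [hd.form, huu]; rfl
  have hT : (t : F) + σ (t : F) = 1 := by rw [hd.sigma, ← AddMemClass.coe_add, ht]; rfl
  refine (InN.sub (InN.sub d1 d2 (fun z => ?_) fun z => ?_) d3 (fun z => ?_) fun z => ?_).congr fun z => ?_
  · simp only [qDisp, sDisp, hd.herm.add_left, hd.herm.toSesq.sub_left, hd.herm.smul_left, hd.herm.smul_right, e,
      e', e'', hd.herm.refl _ _ e, mul_zero, sub_zero, add_zero]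
  · simp only [qDisp, sDisp, hd.herm.add_left, hd.herm.toSesq.sub_left, hd.herm.smul_left, hd.herm.smul_right, e,
      e', e'', hd.herm.refl _ _ e, mul_zero, sub_zero, add_zero]
  · simp only [qDisp, sDisp, hd.herm.add_left, hd.herm.toSesq.sub_left, hd.herm.smul_left, hd.herm.smul_right, e,
      e', e'', hd.herm.refl _ _ e, mul_zero, sub_zero, add_zero]
  · simp only [qDisp, sDisp, hd.herm.add_left, hd.herm.toSesq.sub_left, hd.herm.smul_left, hd.herm.smul_right, e,
      e', e'', hd.herm.refl _ _ e, mul_zero, sub_zero, add_zero]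
  · simp only [sDisp, qDisp, hd.herm.smul_right, map_mul, map_add, map_one, AddMemClass.coe_add,
      OneMemClass.coe_one, show σ (t : F) = 1 - (t : F) by linear_combination hT]
    module

/-- All coefficients at rational vectors. -/
theorem Q_top (hS : ∀ (k : F) a b, f₀ a a = 0 → f₀ b b = 0 → f₀ a b = 0 →
    InN M (sDisp f (emb F₀ P a) (k • emb F₀ P b))) :
    ∀ u, f₀ u u = 0 → ∀ c : F, c + σ c = 0 → InN M (qDisp f (emb F₀ P u) c) := by
  intro b hb c hc
  obtain ⟨c₀, hc0, hc₀, hc₀F⟩ := hd.exists_skew₀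
  have hc0F : (c₀ : F) ≠ 0 := fun e => hc0 (Subtype.ext e)
  obtain ⟨β, hβ⟩ := hd.herm.exists_norm (t := c / (c₀ : F)) (by
    rw [map_div₀, show σ c = -c by linear_combination hc, show σ (c₀ : F) = -(c₀ : F) by linear_combination hc₀F,
      neg_div_neg_eq])
  have := hd.tv_mul_norm hc₀F (fun x hx => hd.tv x hx c₀ hc₀) (β := β)
    (fun a b ha _ hb hab _ => hS β a b ha hb hab) b hb
  rwa [hβ, mul_div_cancel₀ _ hc0F] at this

/-- A transvection with rational centre and a new coefficient gives everything. -/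
theorem full_of_tv {n : ℕ} (hn : n.Prime) (hcard : Nat.card F = Nat.card F₀ ^ n) {c : F} (hc : c + σ c = 0)
    (hcn : c ∉ F₀) {y : ι → F₀} (hy : f₀ y y = 0) (hy0 : y ≠ 0) (hQy : InN M (qDisp f (emb F₀ P y) c)) :
    ∀ (k : F) a b, f₀ a a = 0 → f₀ b b = 0 → f₀ a b = 0 → InN M (sDisp f (emb F₀ P a) (k • emb F₀ P b)) := by
  have hs := hd.herm₀
  have hdim' := hd.dim
  have hstep : ∀ x w, f₀ x x = 0 → f₀ w w = 0 → f₀ x w = 0 → (∃ z, f₀ z w = 0 ∧ f₀ z x ≠ 0) →
      InN M (qDisp f (emb F₀ P x) c) → InN M (qDisp f (emb F₀ P (x + w)) c) := fun x w hx hw hxw ⟨z, hzw, hzx⟩ h => by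
    obtain ⟨s, hsl, hss, hsx⟩ := hd.exists_partner_perp ![w] (by simp; omega) (u := x)
      ⟨z, fun i => by fin_cases i; exact hzw, hzx⟩
    obtain ⟨T, hT, hTx⟩ := hd.S_rat hss hw (hsl 0)
    have h1 := hd.conj_Q hT h
    rw [hTx] at h1
    simp only [sDisp, hd.form, hxw, hs.herm x s, hsx, map_one, ZeroMemClass.coe_zero, OneMemClass.coe_one,
      zero_smul, sub_zero, one_smul] at h1
    rwa [emb_add]
  have hmove : ∀ x w, f₀ x x = 0 → x ≠ 0 → f₀ w w = 0 → f₀ x w = 0 → (∀ t : F₀, w ≠ t • x) →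
      InN M (qDisp f (emb F₀ P x) c) → InN M (qDisp f (emb F₀ P w) c) := fun x w hx hx0 hw hxw hind h => by
    have hw0 : w ≠ 0 := fun e => hind 0 (by rw [e, zero_smul])
    obtain ⟨z, hzx, hzw⟩ := hd.exists_sep₀ hx0 hind
    have h1 := hd.exists_sep₀ hw0 (b := x) fun t e => by
      rcases eq_or_ne t 0 with h0 | h0
      · exact hx0 (by rw [e, h0, zero_smul])
      · exact hind t⁻¹ (by rw [e, smul_smul, inv_mul_cancel₀ h0, one_smul])
    have hn1 : ∀ a b : ι → F₀, f₀ a (-b) = -f₀ a b := fun a b => by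
      rw [← neg_one_smul F₀ b, hs.smul_right, map_neg, map_one, neg_one_mul]
    have hn2 : ∀ a b : ι → F₀, f₀ (-a) b = -f₀ a b := fun a b => by
      rw [← neg_one_smul F₀ a, hs.smul_left, neg_one_mul]
    have h2 := hstep (x + w) (-x)
      (by rw [hs.add_left, hs.add_right, hs.add_right, hx, hw, hxw, hs.refl _ _ hxw]; ring)
      (by rw [hn1, hn2, hx, neg_zero, neg_zero])
      (by rw [hn1, hs.add_left, hx, hs.refl _ _ hxw, add_zero, neg_zero])
      ⟨z, by rw [hn1, hzx, neg_zero], by rw [hs.add_right, hzx, zero_add]; exact hzw⟩ (hstep x w hx hw hxw h1 h)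
    rwa [show x + w + -x = w by abel] at h2
  have hall : ∀ x, f₀ x x = 0 → InN M (qDisp f (emb F₀ P x) c) := fun x hx => by
    rcases eq_or_ne x 0 with rfl | hx0
    · exact ⟨1, one_mem M, fun z => by simp [qDisp, emb_zero]⟩
    rcases hd.exists_mid hy hy0 hx hx0 with ⟨h1, h2⟩ | ⟨u, huu, hu0, h1, h2, h3, h4⟩
    · exact hmove y x hy hy0 hx h1 h2 hQy
    · exact hmove u x huu hu0 hx h3 h4 (hmove y u hy hy0 huu h1 h2 hQy)
  -- short root coefficients at independent pairs
  let K : F → Prop := fun k => ∀ a b, f₀ a a = 0 → a ≠ 0 → f₀ b b = 0 → f₀ a b = 0 → (∀ t : F₀, b ≠ t • a) →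
    InN M (sDisp f (emb F₀ P a) (k • emb F₀ P b))
  have hK0 : ∀ k ∈ F₀, K k := fun k hk a b ha _ hb hab _ => by
    rw [show k • emb F₀ P b = emb F₀ P ((⟨k, hk⟩ : F₀) • b) from (emb_smul (⟨k, hk⟩ : F₀) b).symm]
    refine hd.S_rat ha ?_ ?_
    · rw [hs.smul_left, hs.smul_right, hb, mul_zero, mul_zero]
    · rw [hs.smul_right, hab, mul_zero]
  have hKadd : ∀ k k', K k → K k' → K (k + k') := fun k k' hk hk' a b ha ha0 hb hab hind => by
    refine (InN.add (hk a b ha ha0 hb hab hind) (hk' a b ha ha0 hb hab hind) fun x => ?_).congr fun x => ?_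
    · simp only [sDisp, hd.herm.add_left, hd.herm.toSesq.sub_left, hd.herm.smul_left, hd.herm.smul_right, hd.form,
        ha, hb, hab, hs.refl _ _ hab, ZeroMemClass.coe_zero, mul_zero, sub_zero, add_zero]
    · simp only [sDisp, hd.herm.smul_right, hd.herm.add_right, add_smul]; module
  have hKF₀ : ∀ k ∈ F₀, ∀ β, K β → K (k * β) := fun k hk β hβ a b ha ha0 hb hab hind => by
    rcases eq_or_ne (⟨k, hk⟩ : F₀) 0 with h0 | h0
    · rw [show k = 0 from congrArg Subtype.val h0, zero_mul]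
      exact hK0 0 (zero_mem _) a b ha ha0 hb hab hind
    rw [mul_comm, mul_smul, show k • emb F₀ P b = emb F₀ P ((⟨k, hk⟩ : F₀) • b) from (emb_smul (⟨k, hk⟩ : F₀) b).symm]
    refine hβ a _ ha ha0 ?_ ?_ fun t e => hind ((⟨k, hk⟩ : F₀)⁻¹ * t) ?_
    · rw [hs.smul_left, hs.smul_right, hb, mul_zero, mul_zero]
    · rw [hs.smul_right, hab, mul_zero]
    · rw [mul_smul, ← e, smul_smul, inv_mul_cancel₀ h0, one_smul]
  have hKc : ∀ β, K β → K (c * β) := fun β hβ u b hu hu0 hb hub hind => by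
    have hb0 : b ≠ 0 := fun e => hind 0 (by rw [e, zero_smul])
    obtain ⟨z, hzb, hzu⟩ := hd.exists_sep₀ hb0 (b := u) fun t e => by
      rcases eq_or_ne t 0 with h0 | h0
      · exact hu0 (by rw [e, h0, zero_smul])
      · exact hind t⁻¹ (by rw [e, smul_smul, inv_mul_cancel₀ h0, one_smul])
    obtain ⟨a, hal, haa, hau⟩ := hd.exists_partner_perp ![b] (by simp; omega) (u := u)
      ⟨z, fun i => by fin_cases i; exact hzb, hzu⟩
    have hab : f₀ a b = 0 := hal 0
    have ha0 : a ≠ 0 := fun e => by rw [e, hs.toSesq.zero_left] at hau; exact zero_ne_one hau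
    have hind' : ∀ t : F₀, b ≠ t • a := fun t e => by
      have h1 := congrArg (fun v => f₀ v u) e
      simp only [hs.smul_left, hau, hs.refl _ _ hub, mul_one] at h1
      exact hb0 (by rw [e, ← h1, zero_smul])
    have e : f (emb F₀ P u) (emb F₀ P b) = 0 := by rw [hd.form, hub]; rfl
    have e' : f (emb F₀ P b) (emb F₀ P b) = 0 := by rw [hd.form, hb]; rfl
    refine (InN.sub (hd.cross_element hc hall hu hb hub (by rw [hs.herm, hau, map_one]) (hβ a b haa ha0 hb hab hind'))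
      (hd.tv_mul_norm hc hall hβ b hb) (fun x => ?_) fun x => ?_).congr fun x => ?_
    · simp only [qDisp, hd.herm.toSesq.sub_left, hd.herm.smul_left, e', mul_zero, sub_zero]
    · simp only [qDisp, sDisp, hd.herm.toSesq.sub_left, hd.herm.smul_left, hd.herm.smul_right, e', e,
        hd.herm.refl _ _ e, mul_zero, sub_zero]
    · simp only [add_sub_cancel_right]
  -- the multipliers form a ring
  have := Fintype.ofFinite F
  have hrank : finrank F₀ F = n := by
    refine Nat.pow_right_injective (Finite.one_lt_card (α := F₀)) ?_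
    show Nat.card F₀ ^ finrank F₀ F = Nat.card F₀ ^ n
    rw [← Module.natCard_eq_pow_finrank, ← hcard]
  have hne : IntermediateField.adjoin F₀ ({c} : Set F) ≠ ⊥ := fun e => by
    have h1 : c ∈ IntermediateField.adjoin F₀ ({c} : Set F) := IntermediateField.subset_adjoin F₀ _ rfl
    rw [e, IntermediateField.mem_bot] at h1
    obtain ⟨b, hb⟩ := h1
    exact hcn (hb ▸ b.2)
  have : IsSimpleOrder (IntermediateField F₀ F) :=
    IntermediateField.isSimpleOrder_of_finrank_prime (F := F₀) (E := F) (hrank ▸ hn)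
  have htop := (IsSimpleOrder.eq_bot_or_eq_top _).resolve_left hne
  have halg : IsAlgebraic F₀ c := Algebra.IsAlgebraic.isAlgebraic c
  have hsub := IntermediateField.adjoin_simple_toSubalgebra_of_isAlgebraic halg
  rw [htop, IntermediateField.top_toSubalgebra] at hsub
  have hKall : ∀ k β, K β → K (k * β) := by
    intro k
    have hk : k ∈ Algebra.adjoin F₀ ({c} : Set F) := by rw [← hsub]; exact Algebra.mem_top
    induction hk using Algebra.adjoin_induction with
    | mem x hx => rw [Set.mem_singleton_iff.1 hx]; exact hKc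
    | algebraMap b => exact hKF₀ _ b.2
    | add x y _ _ hx hy => exact fun β hβ => by rw [add_mul]; exact hKadd _ _ (hx β hβ) (hy β hβ)
    | mul x y _ _ hx hy => exact fun β hβ => by rw [mul_assoc]; exact hx _ (hy β hβ)
  have hKtop : ∀ k, K k := fun k => by simpa using hKall k 1 (hK0 1 (one_mem _))
  have hQ : ∀ x, f₀ x x = 0 → ∀ d : F, d + σ d = 0 → InN M (qDisp f (emb F₀ P x) d) := fun x hx d hd' => by
    obtain ⟨c₀, hc0, hc₀, hc₀F⟩ := hd.exists_skew₀
    have hc0F : (c₀ : F) ≠ 0 := fun e => hc0 (Subtype.ext e)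
    obtain ⟨β, hβ⟩ := hd.herm.exists_norm (t := d / (c₀ : F)) (by
      rw [map_div₀, show σ d = -d by linear_combination hd', show σ (c₀ : F) = -(c₀ : F) by linear_combination hc₀F,
        neg_div_neg_eq])
    have := hd.tv_mul_norm hc₀F (fun x hx => hd.tv x hx c₀ hc₀) (hKtop β) x hx
    rwa [hβ, mul_div_cancel₀ _ hc0F] at this
  intro k a b ha hb hab
  rcases eq_or_ne a 0 with rfl | ha0
  · exact ⟨1, one_mem M, fun z => by simp [sDisp, emb_zero, hd.herm.toSesq.zero_right]⟩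
  by_cases hind : ∀ t : F₀, b ≠ t • a
  · exact hKtop k a b ha ha0 hb hab hind
  push Not at hind
  obtain ⟨t, rfl⟩ := hind
  refine (hQ a ha (k * t - σ (k * t)) (by rw [map_sub, hd.herm.invol]; ring)).congr fun z => ?_
  simp only [sDisp, qDisp, emb_smul, smul_smul, hd.herm.smul_right, map_mul]
  module

/-- A new coefficient from a point of a totally singular rational plane off the rational lines. -/
theorem tv_of_point {ν : F} {x r : ι → F₀} {c : F₀} (hc0 : c ≠ 0) (hc : c + σ₀ c = 0) (hx : f₀ x x = 0)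
    (hx0 : x ≠ 0) (hr : f₀ r r = 0) (hxr : f₀ x r = 0) (hind : ∀ t : F₀, r ≠ t • x) (hν : ν ∉ F₀)
    (h : InN M (qDisp f (emb F₀ P x + ν • emb F₀ P r) (c : F))) :
    ∃ d : F, d + σ d = 0 ∧ d ∉ F₀ ∧ InN M (qDisp f (emb F₀ P x) d) := by
  have hs := hd.herm₀
  have hdim' := hd.dim
  have hcF : (c : F) + σ (c : F) = 0 := by rw [hd.sigma, ← AddMemClass.coe_add, hc]; rfl
  have hσc : σ (c : F) = -(c : F) := by linear_combination hcF
  have hc0F : (c : F) ≠ 0 := fun e => hc0 (Subtype.ext e)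
  have hrx : f₀ r x = 0 := hs.refl _ _ hxr
  obtain ⟨z, hzx, hzr⟩ := hd.exists_sep₀ hx0 hind
  obtain ⟨a, hal, haa, har⟩ := hd.exists_partner_perp ![x] (by simp; omega) (u := r)
    ⟨z, fun i => by fin_cases i; exact hzx, hzr⟩
  have hax : f₀ a x = 0 := hal 0
  have hra : f₀ r a = 1 := by rw [hs.herm, har, map_one]
  have hq : ∀ s : F₀, InN M (qDisp f ((1 + ν * (s : F)) • emb F₀ P x + ν • emb F₀ P r) (c : F)) := fun s => by
    obtain ⟨T, hT, hTx⟩ := hd.S_rat (a := a) (b := s • x) haa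
      (by rw [hs.smul_left, hs.smul_right, hx, mul_zero, mul_zero]) (by rw [hs.smul_right, hax, mul_zero])
    have h1 := hd.conj_Q hT h
    rw [Matrix.mulVec_add, Matrix.mulVec_smul, hTx, hTx] at h1
    simp only [sDisp, emb_smul, hd.herm.smul_right, hd.form, hs.refl _ _ hax, hx, hra, hrx,
      ZeroMemClass.coe_zero, OneMemClass.coe_one, mul_zero, zero_smul, sub_zero, one_smul, add_zero] at h1
    rwa [show (1 + ν * (s : F)) • emb F₀ P x + ν • emb F₀ P r =
      emb F₀ P x + ν • (emb F₀ P r + (s : F) • emb F₀ P x) by module]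
  have exx : f (emb F₀ P x) (emb F₀ P x) = 0 := by rw [hd.form, hx]; rfl
  have exr : f (emb F₀ P x) (emb F₀ P r) = 0 := by rw [hd.form, hxr]; rfl
  have erx : f (emb F₀ P r) (emb F₀ P x) = 0 := by rw [hd.form, hrx]; rfl
  have err : f (emb F₀ P r) (emb F₀ P r) = 0 := by rw [hd.form, hr]; rfl
  have hq0 := hq 0
  rw [ZeroMemClass.coe_zero, mul_zero, add_zero, one_smul] at hq0
  by_cases hN : ν * σ ν ∈ F₀
  · obtain ⟨s, hs'⟩ : ∃ s : F₀, ν * (s : F) + σ (ν * (s : F)) ∉ F₀ := by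
      by_contra hcon
      push Not at hcon
      have h1 := hcon 1
      rw [OneMemClass.coe_one, mul_one] at h1
      obtain ⟨t, ht⟩ := hs.exists_moved
      have h2 := hcon t
      rw [map_mul, hd.sigma] at h2
      have htF : (t : F) - (σ₀ t : F) ≠ 0 := fun e => ht (Subtype.ext (sub_eq_zero.1 e).symm)
      have h3 : ((t : F) - (σ₀ t : F)) * ν ∈ F₀ := by
        rw [show ((t : F) - (σ₀ t : F)) * ν = (ν * t + σ ν * (σ₀ t : F)) - (σ₀ t : F) * (ν + σ ν) by ring]
        exact sub_mem h2 (mul_mem (σ₀ t).2 h1)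
      have h4 := div_mem h3 (sub_mem t.2 (σ₀ t).2)
      rw [mul_div_cancel_left₀ _ htF] at h4
      exact hν h4
    obtain ⟨m, hm⟩ : ∃ m : F₀, (m : F) = (c : F) * (ν * σ ν) * s :=
      ⟨⟨_, mul_mem (mul_mem c.2 hN) s.2⟩, rfl⟩
    have hS := hd.S_rat (a := r) (b := m • x) hr (by rw [hs.smul_left, hs.smul_right, hx, mul_zero, mul_zero])
      (by rw [hs.smul_right, hrx, mul_zero])
    refine ⟨(c : F) * (ν * s + σ (ν * s) + ν * σ ν * ((s : F) * σ (s : F))), ?_, fun hd' => hs' ?_,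
      (InN.sub (InN.sub (hq s) hq0 (fun z => ?_) fun z => ?_) hS (fun z => ?_) fun z => ?_).congr fun z => ?_⟩
    · simp only [map_mul, map_add, hd.herm.invol, hσc]; ring
    · have h1 := sub_mem (div_mem hd' c.2) (mul_mem hN (mul_mem s.2 (hd.sigma s ▸ (σ₀ s).2)))
      rwa [mul_div_cancel_left₀ _ hc0F, add_sub_cancel_right] at h1
    · simp only [qDisp, hd.herm.toSesq.sub_left, hd.herm.add_left, hd.herm.add_right, hd.herm.smul_left,
        hd.herm.smul_right, exx, exr, erx, err, mul_zero, sub_zero, add_zero]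
    · simp only [qDisp, hd.herm.toSesq.sub_left, hd.herm.add_left, hd.herm.add_right, hd.herm.smul_left,
        hd.herm.smul_right, exx, exr, erx, err, mul_zero, sub_zero, add_zero]
    · simp only [sDisp, emb_smul, hd.herm.toSesq.sub_left, hd.herm.smul_left, hd.herm.smul_right, exx, exr, erx,
        err, mul_zero, sub_zero]
    · simp only [qDisp, sDisp, emb_smul, hd.herm.toSesq.sub_left, hd.herm.add_left, hd.herm.add_right,
        hd.herm.smul_left, hd.herm.smul_right, exx, exr, erx, err, mul_zero, sub_zero, add_zero]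
    · simp only [qDisp, sDisp, emb_smul, hm, hd.herm.add_right, hd.herm.smul_right, map_mul, map_add, map_one,
        hd.herm.invol, hσc]
      module
  obtain ⟨t, ht⟩ := hs.exists_trace_eq (a := (1 : F₀)) (map_one _)
  have hT : (t : F) + σ (t : F) = 1 := by rw [hd.sigma, ← AddMemClass.coe_add, ht]; rfl
  refine ⟨(c : F) * (ν * σ ν), by rw [map_mul, map_mul, hd.herm.invol, hσc]; ring, fun hd' => hN ?_,
    (InN.add (InN.sub (InN.sub (hq (1 + t)) (hq 1) (fun z => ?_) fun z => ?_) (hq t) (fun z => ?_) fun z => ?_) hq0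
      fun z => ?_).congr fun z => ?_⟩
  · have h1 := div_mem hd' c.2
    rwa [mul_div_cancel_left₀ _ hc0F] at h1
  all_goals
    first
    | (simp only [qDisp, hd.herm.toSesq.sub_left, hd.herm.add_left, hd.herm.add_right, hd.herm.smul_left,
        hd.herm.smul_right, exx, exr, erx, err, mul_zero, sub_zero, add_zero]; done)
    | (simp only [qDisp, hd.herm.add_right, hd.herm.smul_right, map_mul, map_add, map_one, AddMemClass.coe_add,
        OneMemClass.coe_one, show σ (t : F) = 1 - (t : F) by linear_combination hT]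
       module)

/-- All unitary transvections. -/
theorem all_tv (hS : ∀ (k : F) a b, f₀ a a = 0 → f₀ b b = 0 → f₀ a b = 0 →
    InN M (sDisp f (emb F₀ P a) (k • emb F₀ P b))) {v : V} (hv : f v v = 0) :
    ∀ c : F, c + σ c = 0 → InN M (qDisp f v c) := by
  have hs := hd.herm₀
  have hQ := hd.Q_top hS
  rcases eq_or_ne v 0 with rfl | hv0
  · exact fun c _ => ⟨1, one_mem M, fun x => by simp [qDisp]⟩
  have hdim := hd.dim
  have htop : Fintype.card ι + 1 < 2 * finrank F₀ (⊤ : Submodule F₀ (ι → F₀)) := by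
    rw [finrank_top, Module.finrank_pi]; omega
  obtain ⟨e, he, hev⟩ : ∃ e, f₀ e e = 0 ∧ f v (emb F₀ P e) ≠ 0 := by
    by_contra hc
    push Not at hc
    have hall : ∀ u : ι → F₀, f v (emb F₀ P u) = 0 := fun u => by
      have hu := hs.le_span_iso htop (Submodule.mem_top (x := u))
      induction hu using Submodule.span_induction with
      | mem a ha => exact hc a ha.2
      | zero => rw [emb_zero, hd.herm.toSesq.zero_right]
      | add a b _ _ ha hb => rw [emb_add, hd.herm.add_right, ha, hb, add_zero]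
      | smul k a _ ha => rw [emb_smul, hd.herm.smul_right, ha, mul_zero]
    refine hv0 (hd.herm.eq_zero _ fun x => ?_)
    show hd.herm.toSesq.lin v x = 0
    rw [eq_sum_emb P F₀ x, map_sum]
    exact Finset.sum_eq_zero fun i _ => by
      rw [map_smul, Sesq.lin_apply, hd.herm.refl _ _ (hall _), smul_zero]
  have he0 : e ≠ 0 := fun e0 => hev (by rw [e0, emb_zero, hd.herm.toSesq.zero_right])
  obtain ⟨x, hx⟩ := hs.toSesq.exists_left he0
  obtain ⟨e', -, he', he'e⟩ := hd.exists_partner_perp (κ := Fin 0) Fin.elim0 (by simp; have := hd.dim; omega) (u := e)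
    ⟨x, fun i => i.elim0, hx⟩
  have hee' : f₀ e e' = 1 := by rw [hs.herm, he'e, map_one]
  set E := emb F₀ P e
  set E' := emb F₀ P e'
  have hEE : f E E = 0 := by rw [hd.form, he]; rfl
  have hE'E : f E' E = 1 := by rw [hd.form, he'e]; rfl
  -- unipotent moves fixing `e`
  let Mv : V → Prop := fun w => ∃ T ∈ M, (T : Mn) *ᵥ E = E ∧ (∀ z, f z E = 0 → ∃ d : F, (T : Mn) *ᵥ z = z + d • E) ∧
    ∃ d : F, (T : Mn) *ᵥ E' = E' + w + d • E
  have hMv : ∀ w, f w E = 0 → Mv w := fun w hw => by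
    have hadd : ∀ a b, f b E = 0 → Mv a → Mv b → Mv (a + b) := fun a b hb ⟨T, hT, hTE, hTz, d, hTd⟩
        ⟨S, hS', hSE, hSz, d', hSd⟩ => by
      obtain ⟨d'', hTb⟩ := hTz b hb
      refine ⟨T * S, mul_mem hT hS', by rw [Units.val_mul, ← Matrix.mulVec_mulVec, hSE, hTE], fun z hz => ?_,
        d + d' + d'', ?_⟩
      · obtain ⟨d1, h1⟩ := hSz z hz
        obtain ⟨d2, h2⟩ := hTz z hz
        exact ⟨d1 + d2, by rw [Units.val_mul, ← Matrix.mulVec_mulVec, h1, Matrix.mulVec_add, Matrix.mulVec_smul, hTE, h2];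
                           module⟩
      · rw [Units.val_mul, ← Matrix.mulVec_mulVec, hSd, Matrix.mulVec_add, Matrix.mulVec_add, Matrix.mulVec_smul,
          hTd, hTb, hTE]
        module
    have hz0 : Mv 0 := ⟨1, one_mem M, by simp, fun z _ => ⟨0, by simp⟩, 0, by simp⟩
    have hgen : ∀ b : ι → F₀, f₀ b b = 0 → f₀ b e = 0 → ∀ k : F, Mv (k • emb F₀ P b) := fun b hb hbe k => by
      obtain ⟨T, hT, hTx⟩ := hS k e b he hb (hs.refl _ _ hbe)
      refine ⟨T, hT, ?_, fun z hz => ⟨-(σ k * f z (emb F₀ P b)), ?_⟩, -(σ k * f E' (emb F₀ P b)), ?_⟩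
      · rw [hTx, sDisp, hEE, hd.herm.smul_right, hd.form, hs.refl _ _ hbe]; simp
      · rw [hTx, sDisp, hz, hd.herm.smul_right]; module
      · rw [hTx, sDisp, hE'E, hd.herm.smul_right]; module
    -- spanned by isotropic rational vectors
    have hker : Fintype.card ι + 1 < 2 * finrank F₀ (LinearMap.ker (hs.toSesq.lin e)) := by
      have := card_le_finrank_ker_add_one (hs.toSesq.lin e); omega
    have hrat : ∀ u : ι → F₀, f₀ u e = 0 → ∀ k : F, Mv (k • emb F₀ P u) := fun u hu => by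
      have hu' := hs.le_span_iso hker (LinearMap.mem_ker.2 hu)
      clear hu
      suffices H : f₀ u e = 0 ∧ ∀ k : F, Mv (k • emb F₀ P u) from H.2
      induction hu' using Submodule.span_induction with
      | mem a ha => exact ⟨LinearMap.mem_ker.1 ha.1, hgen a ha.2 (LinearMap.mem_ker.1 ha.1)⟩
      | zero => exact ⟨hs.toSesq.zero_left _, fun k => by rw [emb_zero, smul_zero]; exact hz0⟩
      | add a b _ _ ha hb =>
        refine ⟨by rw [hs.add_left, ha.1, hb.1, add_zero], fun k => ?_⟩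
        rw [emb_add, smul_add]
        exact hadd _ _ (by rw [hd.herm.smul_left, hd.form, hb.1]; simp) (ha.2 k) (hb.2 k)
      | smul k a _ ha =>
        exact ⟨by rw [hs.smul_left, ha.1, mul_zero], fun k' => by rw [emb_smul, smul_smul]; exact ha.2 _⟩
    set c : ι → F := ((P⁻¹ : GL ι F) : Mn) *ᵥ w
    let w₀ : ι → ι → F₀ := fun i => Pi.single i 1 - f₀ (Pi.single i 1) e • e'
    have hw₀ : ∀ i, f₀ (w₀ i) e = 0 := fun i => by
      show f₀ (_ - _) e = 0
      rw [hs.toSesq.sub_left, hs.smul_left, he'e, mul_one, sub_self]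
    have hwsum : w = ∑ i, c i • emb F₀ P (w₀ i) := by
      have h1 : w = ∑ i, c i • emb F₀ P (Pi.single i 1) := eq_sum_emb P F₀ w
      have h2 : (∑ i, c i * (f₀ (Pi.single i 1) e : F)) = 0 := by
        rw [← hw]
        show _ = hd.herm.toSesq.lin E w
        conv_rhs => rw [h1, map_sum]
        exact Finset.sum_congr rfl fun i _ => by rw [map_smul, Sesq.lin_apply, hd.form, smul_eq_mul]
      simp only [w₀, emb_sub, emb_smul, smul_sub, smul_smul, Finset.sum_sub_distrib, ← Finset.sum_smul, h2,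
        zero_smul, sub_zero]
      exact h1
    rw [hwsum]
    refine (Finset.sum_induction _ (fun x => f x E = 0 ∧ Mv x) ?_ ⟨hd.herm.toSesq.zero_left _, hz0⟩
      fun i _ => ⟨by rw [hd.herm.smul_left, hd.form, hw₀]; simp, hrat _ (hw₀ i) _⟩).2
    exact fun a b ha hb => ⟨by rw [hd.herm.add_left, ha.1, hb.1, add_zero], hadd a b hb.1 ha.2 hb.2⟩
  intro c hc
  set k := f v E with hk
  set v₁ := k⁻¹ • v with hv₁
  have hv₁E : f v₁ E = 1 := by rw [hv₁, hd.herm.smul_left, inv_mul_cancel₀ hev]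
  have hv₁v₁ : f v₁ v₁ = 0 := by rw [hv₁, hd.herm.smul_left, hd.herm.smul_right, hv, mul_zero, mul_zero]
  clear_value v₁
  obtain ⟨T, hT, hTE, -, d, hTd⟩ := hMv (v₁ - E') (by rw [hd.herm.toSesq.sub_left, hv₁E, hE'E, sub_self])
  rw [add_sub_cancel] at hTd
  have hEv₁ : f E v₁ = 1 := by rw [hd.herm.herm, hv₁E, map_one]
  have hdskew : d + σ d = 0 := by
    have h1 := hd.iso T hT E' E'
    rw [hTd, hd.form e' e', he', hd.herm.add_left, hd.herm.add_right, hd.herm.add_right, hd.herm.smul_left,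
      hd.herm.smul_left, hd.herm.smul_right, hd.herm.smul_right, hv₁v₁, hv₁E, hEv₁, hEE, ZeroMemClass.coe_zero] at h1
    linear_combination h1
  obtain ⟨T', hT', hT'x⟩ := hQ e he (-d) (by rw [map_neg]; linear_combination -hdskew)
  have hmap : ((T' * T : GL ι F) : Mn) *ᵥ E' = v₁ := by
    rw [Units.val_mul, ← Matrix.mulVec_mulVec, hTd, hT'x, qDisp, hd.herm.add_left, hd.herm.smul_left]
    rw [show f v₁ (emb F₀ P e) = 1 from hv₁E, show f E (emb F₀ P e) = 0 from hEE]
    module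
  have h1 := hd.conj_Q (mul_mem hT' hT) (hQ e' he' (c * (k * σ k)) (by
    rw [map_mul, map_mul, hd.herm.invol]; linear_combination (k * σ k) * hc))
  rw [hmap] at h1
  refine h1.congr fun z => ?_
  rw [qDisp, qDisp, hv₁, hd.herm.smul_right, smul_smul, map_inv₀]
  congr 1
  have : σ k ≠ 0 := σ.map_ne_zero_iff.2 hev
  field_simp

end HData

end Cfsg.Agent.Classical.MaxTv
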