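import Cfsg.Agent.Lib.Classical.MaxUnitary
import Cfsg.Agent.Lib.Classical.MaxUnitSymp
import Cfsg.Agent.Lib.Classical.MaxQuadratic
import Cfsg.Agent.Lib.Classical.MaxUnitSubfieldData

/-!
Symmetric rational structures of Hermitian forms in odd characteristic: rational vectors and Siegel elements.

Two Siegel elements at one point with a non-rational pairing have a transvection as commutator.
-/

set_option autoImplicit false
set_option linter.unusedSectionVars false

namespace Cfsg.Agent.Classical.MaxTv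

open Matrix Module

variable {F : Type*} [Field F] {ι : Type} [Fintype ι] [DecidableEq ι]

local notation "V" => (ι → F)
local notation "Mn" => Matrix ι ι F

/-- Displacement of the Siegel element at `x` with parameter `c`. -/
def eD (f : V → V → F) (x c y : V) : V := f y x • c - f y c • x - (f c c / 2 * f y x) • x

/-- The Siegel elements at `x` along the rational multiples of `c` are in `M`. -/
def CnO (f : V → V → F) (F₀ : Subfield F) (M : Subgroup (GL ι F)) (x c : V) : Prop :=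
  f c x = 0 ∧ ∀ a ∈ F₀, InN M (eD f x (a • c))

/-- A Hermitian form with a symmetric rational structure over the fixed field. -/
structure ORat (σ : F ≃+* F) (f : (ι → F) → (ι → F) → F) (F₀ : Subfield F) (P : GL ι F) : Prop where
  herm : Herm σ f
  fixed : ∀ a : F, a ∈ F₀ ↔ σ a = a
  rat : ∀ x y, Rat F₀ P x → Rat F₀ P y → f x y ∈ F₀
  two : (2 : F) ≠ 0
  dim : 4 ≤ Fintype.card ι
  big : 6 ≤ Fintype.card ι ∨ Fintype.card ι = 4 ∧ 5 ≤ Nat.card F₀

variable {σ : F ≃+* F} {f : (ι → F) → (ι → F) → F} {F₀ : Subfield F} {P : GL ι F} {M : Subgroup (GL ι F)}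

namespace ORat

variable (hd : ORat σ f F₀ P)
include hd

theorem symm {x y : V} (hx : Rat F₀ P x) (hy : Rat F₀ P y) : f y x = f x y := by
  rw [hd.herm.herm, (hd.fixed _).1 (hd.rat x y hx hy)]

theorem zero_of_rat {z : V} (h : ∀ u, Rat F₀ P u → f u z = 0) : z = 0 :=
  hd.herm.eq_zero _ fun x => by
    show hd.herm.toSesq.lin z x = 0
    rw [eq_sum_rat P x, map_sum]
    exact Finset.sum_eq_zero fun i _ => by rw [map_smul, Sesq.lin_apply, h _ (rat_single i), smul_zero]

theorem exists_dual {b : V} (hb : Rat F₀ P b) (hb0 : b ≠ 0) : ∃ h, Rat F₀ P h ∧ f h b = 1 := by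
  obtain ⟨u, hu, hne⟩ : ∃ u, Rat F₀ P u ∧ f u b ≠ 0 := by
    by_contra hc
    push Not at hc
    exact hb0 (hd.zero_of_rat hc)
  exact ⟨(f u b)⁻¹ • u, hu.smul (inv_mem (hd.rat u b hu hb)), by rw [hd.herm.smul_left, inv_mul_cancel₀ hne]⟩

/-- A rational vector perpendicular to `b` and pairing to one with `a`. -/
theorem exists_sep {a b : V} (ha : Rat F₀ P a) (hb : Rat F₀ P b) (hb0 : b ≠ 0) (hind : ∀ k : F, a ≠ k • b) :
    ∃ h, Rat F₀ P h ∧ f h b = 0 ∧ f h a = 1 := by
  obtain ⟨d, hd', hdb⟩ := hd.exists_dual hb hb0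
  obtain ⟨u, hu, hub, hua⟩ : ∃ u, Rat F₀ P u ∧ f u b = 0 ∧ f u a ≠ 0 := by
    by_contra hc
    push Not at hc
    refine hind (f d a) (sub_eq_zero.1 (hd.zero_of_rat fun u hu => ?_))
    have h1 := hc (u - f u b • d) (hu.sub (hd'.smul (hd.rat u b hu hb)))
      (by rw [hd.herm.toSesq.sub_left, hd.herm.smul_left, hdb, mul_one, sub_self])
    rw [hd.herm.toSesq.sub_left, hd.herm.smul_left] at h1
    rw [hd.herm.toSesq.sub_right, hd.herm.smul_right, (hd.fixed _).1 (hd.rat d a hd' ha)]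
    linear_combination h1
  exact ⟨(f u a)⁻¹ • u, hu.smul (inv_mem (hd.rat u a hu ha)), by rw [hd.herm.smul_left, hub, mul_zero],
    by rw [hd.herm.smul_left, inv_mul_cancel₀ hua]⟩

theorem exists_form [Finite F] : ∃ Q : QuadraticForm F₀ (ι → F₀),
    (∀ u, (Q u : F) = f (emb F₀ P u) (emb F₀ P u)) ∧
    (∀ u v, ((QuadraticMap.polar ⇑Q u v : F₀) : F) = 2 * f (emb F₀ P u) (emb F₀ P v)) ∧
    (QuadraticMap.polarBilin Q).Nondegenerate := by
  have hr : ∀ u v : ι → F₀, f (emb F₀ P u) (emb F₀ P v) ∈ F₀ := fun u v => hd.rat _ _ (rat_emb u) (rat_emb v)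
  let B : LinearMap.BilinForm F₀ (ι → F₀) := LinearMap.mk₂ F₀ (fun u v => (⟨_, hr u v⟩ : F₀))
    (fun u u' v => Subtype.ext (by simp only [emb_add, hd.herm.add_left, AddMemClass.coe_add]))
    (fun c u v => Subtype.ext (by simp only [emb_smul, hd.herm.smul_left, smul_eq_mul, MulMemClass.coe_mul]))
    (fun u v v' => Subtype.ext (by simp only [emb_add, hd.herm.add_right, AddMemClass.coe_add]))
    (fun c u v => Subtype.ext (by
      simp only [emb_smul, hd.herm.smul_right, (hd.fixed (c : F)).1 c.2, smul_eq_mul, MulMemClass.coe_mul]))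
  have hB : ∀ u v, (B u v : F) = f (emb F₀ P u) (emb F₀ P v) := fun u v => rfl
  refine ⟨B.toQuadraticMap, fun u => rfl, fun u v => ?_, ?_⟩
  · rw [LinearMap.BilinMap.polar_toQuadraticMap, AddMemClass.coe_add, hB, hB,
      hd.symm (rat_emb u) (rat_emb v)]; ring
  · have key : ∀ u, (∀ v, QuadraticMap.polarBilin B.toQuadraticMap u v = 0) → u = 0 := fun u hu => by
      refine emb_injective (P := P) ?_
      rw [emb_zero]
      refine hd.zero_of_rat fun w hw => ?_
      obtain ⟨v, rfl⟩ := exists_emb hw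
      have h1 := congrArg (fun a : F₀ => (a : F)) (hu v)
      simp only [QuadraticMap.polarBilin_apply_apply, LinearMap.BilinMap.polar_toQuadraticMap, AddMemClass.coe_add,
        hB, ZeroMemClass.coe_zero] at h1
      rw [hd.symm (rat_emb u) (rat_emb v)] at h1 ⊢
      exact (mul_eq_zero.1 (show (2 : F) * f (emb F₀ P u) (emb F₀ P v) = 0 by linear_combination h1)).resolve_left
        hd.two
    exact ⟨key, fun u hu => key u fun v => by
      rw [QuadraticMap.polarBilin_apply_apply, QuadraticMap.polar_comm]; exact hu v⟩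

/-- Rational anisotropic vectors perpendicular to a few rational vectors. -/
theorem exists_anis [Finite F] {k : ℕ} (v : Fin k → V) (hv : ∀ i, Rat F₀ P (v i)) (hk : 2 * k < Fintype.card ι) :
    ∃ z, Rat F₀ P z ∧ (∀ i, f z (v i) = 0) ∧ f z z ≠ 0 := by
  obtain ⟨Q, hQ, hQB, hnd⟩ := hd.exists_form
  choose w hw using fun i => exists_emb (hv i)
  obtain ⟨z, hz, hQz⟩ := exists_anisotropic_ker hnd (fun i => QuadraticMap.polarBilin Q (w i)) hk
  refine ⟨emb F₀ P z, rat_emb z, fun i => ?_, fun h => hQz (Subtype.ext (by rw [hQ, h]; rfl))⟩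
  have h1 := congrArg (fun a : F₀ => (a : F)) (hz i)
  simp only [QuadraticMap.polarBilin_apply_apply, hQB, ZeroMemClass.coe_zero, hw] at h1
  rw [hd.symm (hv i) (rat_emb z)]
  exact (mul_eq_zero.1 h1).resolve_left hd.two

/-- The bound improves by one when an anisotropic rational vector is perpendicular to the common kernel. -/
theorem exists_anis' [Finite F] {k : ℕ} (v : Fin k → V) (hv : ∀ i, Rat F₀ P (v i)) (hk : 2 * k ≤ Fintype.card ι)
    {r : V} (hr : Rat F₀ P r) (hrr : f r r ≠ 0)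
    (hperp : ∀ z, Rat F₀ P z → (∀ i, f z (v i) = 0) → f z r = 0) :
    ∃ z, Rat F₀ P z ∧ (∀ i, f z (v i) = 0) ∧ f z z ≠ 0 := by
  obtain ⟨Q, hQ, hQB, hnd⟩ := hd.exists_form
  choose w hw using fun i => exists_emb (hv i)
  obtain ⟨r₀, hr₀⟩ := exists_emb hr
  have hker : ∀ z, (∀ i, QuadraticMap.polarBilin Q (w i) z = 0) → ∀ i, f (emb F₀ P z) (v i) = 0 := fun z hz i => by
    have h1 := congrArg (fun a : F₀ => (a : F)) (hz i)
    simp only [QuadraticMap.polarBilin_apply_apply, hQB, ZeroMemClass.coe_zero, hw] at h1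
    rw [hd.symm (hv i) (rat_emb z)]
    exact (mul_eq_zero.1 h1).resolve_left hd.two
  obtain ⟨z, hz, hQz⟩ := exists_anisotropic_ker' hnd (fun i => QuadraticMap.polarBilin Q (w i)) hk (r := r₀)
    (fun h => hrr (by rw [← hr₀, ← hQ, h]; rfl)) fun z hz => Subtype.ext (by
      rw [hQB, hr₀, hperp _ (rat_emb z) (hker z hz), mul_zero]; rfl)
  exact ⟨emb F₀ P z, rat_emb z, hker z hz, fun h => hQz (Subtype.ext (by rw [hQ, h]; rfl))⟩

/-- Rational singular vectors perpendicular to a few rational vectors. -/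
theorem exists_iso [Finite F] {k : ℕ} (v : Fin k → V) (hv : ∀ i, Rat F₀ P (v i)) (hk : k + 3 ≤ Fintype.card ι) :
    ∃ z, Rat F₀ P z ∧ (∀ i, f z (v i) = 0) ∧ f z z = 0 ∧ z ≠ 0 := by
  obtain ⟨Q, hQ, hQB, hnd⟩ := hd.exists_form
  choose w hw using fun i => exists_emb (hv i)
  set W := LinearMap.ker (LinearMap.pi fun i => QuadraticMap.polarBilin Q (w i)) with hW
  have hdim : 3 ≤ finrank F₀ W := by
    have h1 := (LinearMap.pi fun i => QuadraticMap.polarBilin Q (w i)).finrank_range_add_finrank_ker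
    have h2 := Submodule.finrank_le (LinearMap.range (LinearMap.pi fun i => QuadraticMap.polarBilin Q (w i)))
    rw [finrank_pi, Fintype.card_fin] at h2
    rw [finrank_pi] at h1
    rw [hW]
    omega
  obtain ⟨z, hz, hz0, hQz⟩ : ∃ z ∈ W, z ≠ 0 ∧ Q z = 0 := by
    by_cases hrad : ∀ z ∈ W, z ≠ 0 → ∃ u ∈ W, QuadraticMap.polarBilin Q z u ≠ 0
    · exact exists_singular_in Q hrad hdim
    push Not at hrad
    obtain ⟨z, hz, hz0, hzW⟩ := hrad
    refine ⟨z, hz, hz0, Subtype.ext ?_⟩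
    have h1 := congrArg (fun a : F₀ => (a : F)) (hzW z hz)
    simp only [QuadraticMap.polarBilin_apply_apply, hQB, ← hQ, ZeroMemClass.coe_zero] at h1
    exact (mul_eq_zero.1 h1).resolve_left hd.two
  refine ⟨emb F₀ P z, rat_emb z, fun i => ?_, by rw [← hQ, hQz]; rfl,
    fun h => hz0 (emb_injective (P := P) (h.trans emb_zero.symm))⟩
  have h1 := congrArg (fun a : F₀ => (a : F)) (congrFun (LinearMap.mem_ker.1 hz) i)
  simp only [LinearMap.pi_apply, Pi.zero_apply, QuadraticMap.polarBilin_apply_apply, hQB, ZeroMemClass.coe_zero,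
    hw] at h1
  rw [hd.symm (hv i) (rat_emb z)]
  exact (mul_eq_zero.1 h1).resolve_left hd.two

theorem exists_iso_pairing [Finite F] {u : V} (hu : Rat F₀ P u) (hu0 : u ≠ 0) :
    ∃ s, Rat F₀ P s ∧ f s s = 0 ∧ f u s ≠ 0 := by
  have hs := hd.herm
  obtain ⟨e, he, -, hee, he0⟩ := hd.exists_iso (k := 0) (fun i => i.elim0) (fun i => i.elim0)
    (by have := hd.dim; omega)
  obtain ⟨h, hh, hhe⟩ := hd.exists_dual he he0
  have hfix : ∀ a ∈ F₀, σ a = a := fun a ha => (hd.fixed a).1 ha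
  have h2 : f h h / 2 ∈ F₀ := div_mem (hd.rat h h hh hh) (ofNat_mem F₀ 2)
  obtain ⟨f', hf'⟩ : ∃ f', f' = h - (f h h / 2) • e := ⟨_, rfl⟩
  have hf'r : Rat F₀ P f' := hf' ▸ hh.sub (he.smul h2)
  have heh : f e h = 1 := by rw [hd.symm hh he, hhe]
  have hf'e : f f' e = 1 := by rw [hf', hs.toSesq.sub_left, hs.smul_left, hhe, hee, mul_zero, sub_zero]
  have hf'f' : f f' f' = 0 := by
    rw [hf', hs.toSesq.sub_left, hs.toSesq.sub_right, hs.toSesq.sub_right, hs.smul_left, hs.smul_left,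
      hs.smul_right, hs.smul_right, hfix _ h2, hee, hhe, heh]
    have := hd.two
    field_simp; ring
  by_cases h1 : f u e ≠ 0
  · exact ⟨e, he, hee, h1⟩
  by_cases h3 : f u f' ≠ 0
  · exact ⟨f', hf'r, hf'f', h3⟩
  push Not at h1 h3
  obtain ⟨z₀, hz₀, hz₀u⟩ := hd.exists_dual hu hu0
  obtain ⟨z, hz⟩ : ∃ z, z = z₀ - f z₀ f' • e - f z₀ e • f' := ⟨_, rfl⟩
  have hzr : Rat F₀ P z :=
    hz ▸ (hz₀.sub (he.smul (hd.rat _ _ hz₀ hf'r))).sub (hf'r.smul (hd.rat _ _ hz₀ he))
  have hef' : f e f' = 1 := by rw [hd.symm hf'r he, hf'e]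
  have hze : f z e = 0 := by
    rw [hz, hs.toSesq.sub_left, hs.toSesq.sub_left, hs.smul_left, hs.smul_left, hee, hf'e]; ring
  have hzf : f z f' = 0 := by
    rw [hz, hs.toSesq.sub_left, hs.toSesq.sub_left, hs.smul_left, hs.smul_left, hef', hf'f']; ring
  have huz : f u z = 1 := by
    rw [hd.symm hzr hu, hz, hs.toSesq.sub_left, hs.toSesq.sub_left, hs.smul_left, hs.smul_left, hz₀u,
      hd.symm hu he, hd.symm hu hf'r, h1, h3]; ring
  have h4 : f z z / 2 ∈ F₀ := div_mem (hd.rat z z hzr hzr) (ofNat_mem F₀ 2)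
  refine ⟨e - (f z z / 2) • f' + z, (he.sub (hf'r.smul h4)).add hzr, ?_, ?_⟩
  · simp only [hs.add_left, hs.add_right, hs.toSesq.sub_left, hs.toSesq.sub_right, hs.smul_left, hs.smul_right,
      hfix _ h4, hee, hf'f', hef', hf'e, hze, hzf, hd.symm hzr he, hd.symm hzr hf'r]
    have := hd.two
    field_simp; ring
  · rw [hs.add_right, hs.toSesq.sub_right, hs.smul_right, h1, h3, huz, mul_zero, sub_zero, zero_add]
    exact one_ne_zero

theorem exists_iso_pairing_both [Finite F] {u v : V} (hu : Rat F₀ P u) (hv : Rat F₀ P v) (hu0 : u ≠ 0)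
    (hv0 : v ≠ 0) : ∃ s, Rat F₀ P s ∧ f s s = 0 ∧ f u s ≠ 0 ∧ f v s ≠ 0 := by
  have hs := hd.herm
  obtain ⟨s, hsr, hss, hus⟩ := hd.exists_iso_pairing hu hu0
  by_cases h1 : f v s ≠ 0
  · exact ⟨s, hsr, hss, hus, h1⟩
  obtain ⟨s', hs'r, hss', hvs'⟩ := hd.exists_iso_pairing hv hv0
  by_cases h2 : f u s' ≠ 0
  · exact ⟨s', hs'r, hss', h2, hvs'⟩
  push Not at h1 h2
  by_cases h3 : f s s' = 0
  · exact ⟨s + s', hsr.add hs'r, by rw [hs.add_left, hs.add_right, hs.add_right, hss, hss', h3, hs.refl _ _ h3]; ring,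
      by rw [hs.add_right, h2, add_zero]; exact hus, by rw [hs.add_right, h1, zero_add]; exact hvs'⟩
  rcases hd.big with h6 | ⟨h4, h5⟩
  swap
  · -- degree four: avoid two values of the parameter
    obtain ⟨z, hzr, hzv, hzz⟩ := hd.exists_anis' ![s, s'] (by intro i; fin_cases i <;> assumption)
      (by omega) (hsr.add hs'r)
      (by rw [hs.add_left, hs.add_right, hs.add_right, hss, hss', hd.symm hsr hs'r, zero_add, add_zero, ← two_mul]
          exact mul_ne_zero hd.two h3)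
      (fun z _ hz => by rw [hs.add_right, show f z s = 0 from hz 0, show f z s' = 0 from hz 1, add_zero])
    have hzs : f z s = 0 := hzv 0
    have hzs' : f z s' = 0 := hzv 1
    obtain ⟨A, hA⟩ : ∃ A, A = f z z * f v s' / (2 * f s s') := ⟨_, rfl⟩
    have hA0 : A ≠ 0 := hA ▸ div_ne_zero (mul_ne_zero hzz hvs') (mul_ne_zero hd.two h3)
    obtain ⟨e, he0, he1, he2⟩ : ∃ e : F₀, (e : F) ≠ 0 ∧ (e : F) ≠ -f u s / f u z ∧ (e : F) ≠ f v z / A := by
      classical
      have : Fintype F₀ := Fintype.ofFinite _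
      by_contra hc
      push Not at hc
      have hle : (Finset.univ.map ⟨Subtype.val, Subtype.val_injective⟩ : Finset F) ⊆
          ({0, -f u s / f u z, f v z / A} : Finset F) := fun y hy => by
        obtain ⟨d, -, rfl⟩ := Finset.mem_map.1 hy
        simp only [Finset.mem_insert, Finset.mem_singleton, Function.Embedding.coeFn_mk]
        by_contra hd'
        push Not at hd'
        exact hd'.2.2 (hc d hd'.1 hd'.2.1)
      have h6 := (Finset.card_le_card hle).trans Finset.card_le_three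
      rw [Finset.card_map, Finset.card_univ, ← Nat.card_eq_fintype_card] at h6
      omega
    have he : σ (e : F) = e := (hd.fixed _).1 e.2
    obtain ⟨l, hl⟩ : ∃ l, l = -((e : F) * e * f z z) / (2 * f s s') := ⟨_, rfl⟩
    have hlF : l ∈ F₀ := hl ▸ div_mem (neg_mem (mul_mem (mul_mem e.2 e.2) (hd.rat z z hzr hzr)))
      (mul_mem (ofNat_mem F₀ 2) (hd.rat s s' hsr hs'r))
    refine ⟨s + l • s' + (e : F) • z, (hsr.add (hs'r.smul hlF)).add (hzr.smul e.2), ?_, ?_, ?_⟩
    · simp only [hs.add_left, hs.add_right, hs.smul_left, hs.smul_right, (hd.fixed l).1 hlF, he,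
        hss, hss', hzs, hzs', hs.refl _ _ hzs, hs.refl _ _ hzs', hd.symm hsr hs'r]
      rw [hl]
      have := hd.two
      field_simp; ring
    · rw [hs.add_right, hs.add_right, hs.smul_right, h2, hs.smul_right, he, mul_zero, add_zero]
      intro h0
      rcases eq_or_ne (f u z) 0 with huz | huz
      · exact hus (by rw [huz, mul_zero, add_zero] at h0; exact h0)
      · exact he1 (by field_simp; linear_combination h0)
    · rw [hs.add_right, hs.add_right, hs.smul_right, h1, hs.smul_right, he, (hd.fixed l).1 hlF, zero_add]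
      intro h0
      apply he2
      rw [eq_div_iff hA0]
      rw [hA]
      rw [hl] at h0
      have := hd.two
      field_simp at h0 ⊢
      have h6 := (mul_eq_zero.1 (show (e : F) * (-((e : F) * f z z * f v s') + 2 * f s s' * f v z) = 0 by
        linear_combination h0)).resolve_left he0
      linear_combination -h6
  obtain ⟨z, hzr, hzv, hzz⟩ := hd.exists_anis' ![u, s, s'] (by intro i; fin_cases i <;> assumption)
    (by omega) (hsr.add hs'r)
    (by rw [hs.add_left, hs.add_right, hs.add_right, hss, hss', hd.symm hsr hs'r, zero_add, add_zero, ← two_mul]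
        exact mul_ne_zero hd.two h3)
    (fun z _ hz => by rw [hs.add_right, show f z s = 0 from hz 1, show f z s' = 0 from hz 2, add_zero])
  obtain ⟨l, hl⟩ : ∃ l, l = -(f z z) / (2 * f s s') := ⟨_, rfl⟩
  have hlF : l ∈ F₀ := hl ▸ div_mem (neg_mem (hd.rat z z hzr hzr)) (mul_mem (ofNat_mem F₀ 2) (hd.rat s s' hsr hs'r))
  have hl0 : l ≠ 0 := hl ▸ div_ne_zero (neg_ne_zero.2 hzz) (mul_ne_zero hd.two h3)
  have hzu : f z u = 0 := hzv 0
  have hzs : f z s = 0 := hzv 1
  have hzs' : f z s' = 0 := hzv 2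
  -- one of the two signs pairs with `v`
  obtain ⟨e, heF, he2, hev⟩ : ∃ e, e ∈ F₀ ∧ e * e = 1 ∧ l * f v s' + e * f v z ≠ 0 := by
    by_cases h4 : l * f v s' + 1 * f v z ≠ 0
    · exact ⟨1, one_mem F₀, one_mul 1, h4⟩
    refine ⟨-1, neg_mem (one_mem F₀), by ring, fun h5 => ?_⟩
    push Not at h4
    exact mul_ne_zero (mul_ne_zero hd.two hl0) hvs' (by linear_combination h4 + h5)
  refine ⟨s + l • s' + e • z, (hsr.add (hs'r.smul hlF)).add (hzr.smul heF), ?_, ?_, ?_⟩
  · simp only [hs.add_left, hs.add_right, hs.smul_left, hs.smul_right, (hd.fixed l).1 hlF, (hd.fixed e).1 heF,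
      hss, hss', hzs, hzs', hs.refl _ _ hzs, hs.refl _ _ hzs', hd.symm hsr hs'r]
    rw [hl]
    have := hd.two
    field_simp
    linear_combination (4 * f s s' ^ 2 * f z z) * he2
  · rw [hs.add_right, hs.add_right, hs.smul_right, h2, hs.smul_right, hs.refl _ _ hzu]
    simpa using hus
  · rw [hs.add_right, hs.add_right, hs.smul_right, h1, hs.smul_right, (hd.fixed l).1 hlF, (hd.fixed e).1 heF,
      zero_add]
    exact hev

/-! ### Siegel elements -/

theorem eD_comp {x c c' : V} (hxx : f x x = 0) (hc : f c x = 0) (hc' : f c' x = 0) (y : V) :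
    y + eD f x c' y + eD f x c (y + eD f x c' y) =
      y + eD f x (c + c') y + ((f c c' - f c' c) / 2 * f y x) • x := by
  have hs := hd.herm
  have hxc : f x c = 0 := hs.refl _ _ hc
  have := hd.two
  simp only [eD, hs.add_left, hs.add_right, hs.toSesq.sub_left, hs.smul_left, hxx, hc', hxc, mul_zero, add_zero,
    sub_zero]
  match_scalars <;> field_simp <;> ring

theorem exists_eD [Finite F] {x c : V} (hxx : f x x = 0) (hcx : f c x = 0) :
    ∃ t : GL ι F, (∀ u v, f ((t : Mn) *ᵥ u) ((t : Mn) *ᵥ v) = f u v) ∧ t ∈ Geo.specialLinear ι F ∧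
      ∀ y, (t : Mn) *ᵥ y = y + eD f x c y := by
  have hs := hd.herm
  have := hd.two
  let L : V →ₗ[F] V := LinearMap.id + (hs.toSesq.lin x).smulRight c - (hs.toSesq.lin c).smulRight x -
    ((f c c / 2) • hs.toSesq.lin x).smulRight x
  have hL : ∀ y, L y = y + eD f x c y := fun y => by
    simp only [L, eD, LinearMap.sub_apply, LinearMap.add_apply, LinearMap.id_coe, id_eq, LinearMap.smulRight_apply,
      Sesq.lin_apply, LinearMap.smul_apply, smul_eq_mul]
    abel
  have hxc : f x c = 0 := hs.refl _ _ hcx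
  have hcc : σ (f c c / 2) = f c c / 2 := by rw [map_div₀, hs.self_fixed, map_ofNat]
  have hiso : ∀ u v, f (L u) (L v) = f u v := fun u v => by
    simp only [hL, eD, hs.add_left, hs.add_right, hs.toSesq.sub_left, hs.toSesq.sub_right, hs.smul_left,
      hs.smul_right, map_mul, hcc, hxx, hcx, hxc, mul_zero, add_zero, sub_zero]
    rw [hs.herm x v, hs.herm c v]
    field_simp; ring
  obtain ⟨t, ht⟩ := exists_gl_of_injective L fun u v huv => by
    refine sub_eq_zero.1 (hs.eq_zero _ fun w => ?_)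
    have h0 : f (L (u - v)) (L w) = 0 := by rw [map_sub, huv, sub_self, hs.toSesq.zero_left]
    rw [hiso] at h0
    exact hs.refl _ _ h0
  refine ⟨t, fun u v => by rw [ht, ht, hiso], MonoidHom.mem_ker.2 (Units.ext ?_), fun y => by rw [ht, hL]⟩
  obtain ⟨p, hp⟩ := CharP.exists F
  have : Fact p.Prime := ⟨CharP.char_is_prime F p⟩
  have hpow : ∀ (k : ℕ) (y : V), ((t : Mn) ^ k) *ᵥ y = y + eD f x ((k : F) • c) y := by
    intro k
    induction k with
    | zero => intro y; simp [eD, hs.toSesq.zero_right]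
    | succ k ih =>
      intro y
      have hk : σ (k : F) = (k : F) := map_natCast σ k
      rw [pow_succ, ← Matrix.mulVec_mulVec, ih, ht, hL,
        hd.eD_comp hxx (by rw [hs.smul_left, hcx, mul_zero]) hcx,
        show ((k + 1 : ℕ) : F) • c = (k : F) • c + c by rw [Nat.cast_succ, add_smul, one_smul],
        hs.smul_left, hs.smul_right, hk, sub_self, zero_div, zero_mul, zero_smul, add_zero]
  have h4 : (t : Mn) ^ p = 1 := Matrix.ext_iff_mulVec.2 fun y => by
    rw [hpow, CharP.cast_eq_zero, zero_smul, Matrix.one_mulVec]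
    simp [eD, hs.toSesq.zero_right]
  rw [Matrix.GeneralLinearGroup.val_det_apply, Units.val_one]
  refine frobenius_inj F p ?_
  rw [frobenius_def, frobenius_def, ← Matrix.det_pow, h4, Matrix.det_one, one_pow]

theorem heis {x c c' : V} (hxx : f x x = 0) (h : CnO f F₀ M x c) (h' : CnO f F₀ M x c')
    (hne : f c c' ∉ F₀) : UPt σ f M x := fun τ hτ => by
  have hs := hd.herm
  obtain ⟨δ, hδ⟩ : ∃ δ, δ = f c c' - f c' c := ⟨_, rfl⟩
  have hδσ : σ δ = -δ := by rw [hδ, map_sub, ← hs.herm, ← hs.herm]; ring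
  have hδ0 : δ ≠ 0 := fun h0 => hne ((hd.fixed _).2 (by
    rw [← hs.herm]; exact (sub_eq_zero.1 (hδ ▸ h0)).symm))
  have ha : τ / δ ∈ F₀ := (hd.fixed _).2 (by
    rw [map_div₀, hδσ, show σ τ = -τ by linear_combination hτ, neg_div_neg_eq])
  have ha' : σ (τ / δ) = τ / δ := (hd.fixed _).1 ha
  obtain ⟨t₁, ht₁, h₁⟩ := h.2 _ ha
  obtain ⟨t₂, ht₂, h₂⟩ := h'.2 1 (one_mem F₀)
  rw [one_smul] at h₂
  refine ⟨t₁ * t₂ * (t₂ * t₁)⁻¹, mul_mem (mul_mem ht₁ ht₂) (inv_mem (mul_mem ht₂ ht₁)), fun z => ?_⟩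
  obtain ⟨y, rfl⟩ : ∃ y, ((t₂ * t₁ : GL ι F) : Mn) *ᵥ y = z := ⟨_, mulVec_inv_cancel _ z⟩
  rw [Units.val_mul (t₁ * t₂), ← Matrix.mulVec_mulVec, inv_mulVec_cancel, Units.val_mul, Units.val_mul,
    ← Matrix.mulVec_mulVec, ← Matrix.mulVec_mulVec, h₁, h₂, h₂, h₁]
  have hac : f ((τ / δ) • c) x = 0 := by rw [hs.smul_left, h.1, mul_zero]
  rw [hd.eD_comp hxx hac h'.1, hd.eD_comp hxx h'.1 hac, add_comm c' ((τ / δ) • c)]
  simp only [eD, hs.add_left, hs.add_right, hs.toSesq.sub_left, hs.smul_left, hs.smul_right, ha', h.1, h'.1, hxx,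
    mul_zero, add_zero, sub_zero]
  have := hd.two
  match_scalars <;> field_simp <;> (try ring)
  rw [hδ]; ring

theorem cn_add {x c c' : V} (hxx : f x x = 0) (h : CnO f F₀ M x c) (h' : CnO f F₀ M x c') (hr : f c c' ∈ F₀) :
    CnO f F₀ M x (c + c') := by
  have hs := hd.herm
  refine ⟨by rw [hs.add_left, h.1, h'.1, add_zero], fun a ha => ?_⟩
  obtain ⟨t₁, ht₁, h₁⟩ := h.2 a ha
  obtain ⟨t₂, ht₂, h₂⟩ := h'.2 a ha
  refine ⟨t₁ * t₂, mul_mem ht₁ ht₂, fun y => ?_⟩
  rw [Units.val_mul, ← Matrix.mulVec_mulVec, h₂, h₁,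
    hd.eD_comp hxx (by rw [hs.smul_left, h.1, mul_zero]) (by rw [hs.smul_left, h'.1, mul_zero]), ← smul_add,
    hs.smul_left, hs.smul_left, hs.smul_right, hs.smul_right, hs.herm c' c, (hd.fixed _).1 hr, sub_self, zero_div,
    zero_mul, zero_smul, add_zero]

theorem cn_smul {x c : V} (h : CnO f F₀ M x c) {b : F} (hb : b ∈ F₀) : CnO f F₀ M x (b • c) :=
  ⟨by rw [hd.herm.smul_left, h.1, mul_zero], fun a ha => by rw [smul_smul]; exact h.2 _ (mul_mem ha hb)⟩

theorem cn_map {x c : V} (h : CnO f F₀ M x c) {k : GL ι F} (hk : k ∈ M)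
    (hki : ∀ u v, f ((k : Mn) *ᵥ u) ((k : Mn) *ᵥ v) = f u v) :
    CnO f F₀ M ((k : Mn) *ᵥ x) ((k : Mn) *ᵥ c) := by
  refine ⟨by rw [hki]; exact h.1, fun a ha => ?_⟩
  obtain ⟨t, ht, htx⟩ := h.2 a ha
  refine ⟨k * t * k⁻¹, mul_mem (mul_mem hk ht) (inv_mem hk), fun y => ?_⟩
  obtain ⟨z, rfl⟩ : ∃ z, (k : Mn) *ᵥ z = y := ⟨_, mulVec_inv_cancel k y⟩
  rw [Units.val_mul, Units.val_mul, ← Matrix.mulVec_mulVec, ← Matrix.mulVec_mulVec, inv_mulVec_cancel, htx,
    Matrix.mulVec_add, ← Matrix.mulVec_smul (k : Mn) a c]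
  congr 1
  simp only [eD, hki]
  simp only [Matrix.mulVec_sub, Matrix.mulVec_smul]

/-- Elements of the orthogonal group: products of two reflections. -/
theorem exists_refl [Finite F] {u : V} (hu : Rat F₀ P u) (huu : f u u ≠ 0) :
    ∃ r : GL ι F, (∀ y z, f ((r : Mn) *ᵥ y) ((r : Mn) *ᵥ z) = f y z) ∧ (r : Mn).det = -1 ∧ RatMap F₀ P r ∧
      ∀ y, (r : Mn) *ᵥ y = y - (2 * f y u / f u u) • u := by
  have hs := hd.herm
  obtain ⟨φ, hφ⟩ : ∃ φ : V, ∀ y, φ ⬝ᵥ y = -(2 / f u u) * f y u :=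
    ⟨(-(2 / f u u)) • fn f u, fun y => by rw [smul_dotProduct, fn_dot hs.toSesq, smul_eq_mul]⟩
  have hdet : (1 + vecMulVec u φ).det = -1 := by
    rw [Matrix.vecMulVec_eq Unit, Matrix.det_one_add_replicateCol_mul_replicateRow, hφ]
    field_simp; ring
  have hx : ∀ y, (1 + vecMulVec u φ) *ᵥ y = y - (2 * f y u / f u u) • u := fun y => by
    rw [Matrix.add_mulVec, Matrix.one_mulVec, Matrix.vecMulVec_mulVec, op_smul_eq_smul, hφ, sub_eq_add_neg,
      ← neg_smul]
    congr 2; ring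
  have hσ : σ (f u u) = f u u := hs.self_fixed u
  refine ⟨Matrix.GeneralLinearGroup.mkOfDetNeZero _ (by rw [hdet]; exact neg_ne_zero.2 one_ne_zero),
    fun y z => ?_, hdet, fun y hy => ?_, hx⟩
  · show f ((1 + vecMulVec u φ) *ᵥ y) ((1 + vecMulVec u φ) *ᵥ z) = f y z
    rw [hx, hx, hs.toSesq.sub_left, hs.toSesq.sub_right, hs.toSesq.sub_right, hs.smul_left, hs.smul_left,
      hs.smul_right, hs.smul_right, map_div₀, map_mul, map_ofNat, hσ, ← hs.herm u z]
    field_simp; ring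
  · show Rat F₀ P ((1 + vecMulVec u φ) *ᵥ y)
    rw [hx]
    exact hy.sub (hu.smul (div_mem (mul_mem (ofNat_mem F₀ 2) (hd.rat y u hy hu)) (hd.rat u u hu hu)))

end ORat

end Cfsg.Agent.Classical.MaxTv
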