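import Cfsg.Agent.Lib.Classical.MaxUnitOrthBase

/-!
Degree four: a group containing an orthogonal group and an element moving a rational singular point off the rational
structure contains a transvection centred at a rational point.

If the moved point `x` is perpendicular to a rational singular point, its Siegel elements contain a multiple of one.
Otherwise an element of the orthogonal group moves `x` to a perpendicular point, and one of two reductions applies.
-/

set_option autoImplicit false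
set_option linter.unusedSectionVars false

namespace Cfsg.Agent.Classical.MaxTv

open Matrix Module

variable {F : Type*} [Field F] {ι : Type} [Fintype ι] [DecidableEq ι]

local notation "V" => (ι → F)
local notation "Mn" => Matrix ι ι F

variable {σ : F ≃+* F} {f : (ι → F) → (ι → F) → F} {F₀ : Subfield F} {P : GL ι F} {M : Subgroup (GL ι F)}

/-- `M` contains the rational isometries and no transvection at a rational point. -/
structure NoTv (σ : F ≃+* F) (f : (ι → F) → (ι → F) → F) (F₀ : Subfield F) (P : GL ι F)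
    (M : Subgroup (GL ι F)) : Prop where
  isom : ∀ k ∈ M, ∀ u v, f ((k : Matrix ι ι F) *ᵥ u) ((k : Matrix ι ι F) *ᵥ v) = f u v
  rat_mem : ∀ k : GL ι F, (∀ u v, f ((k : Matrix ι ι F) *ᵥ u) ((k : Matrix ι ι F) *ᵥ v) = f u v) →
    k ∈ Geo.specialLinear ι F → RatMap F₀ P k → k ∈ M
  none : ∀ p, Rat F₀ P p → f p p = 0 → p ≠ 0 → ¬ UPt σ f M p

namespace ORat

variable (hd : ORat σ f F₀ P)
include hd

theorem exists_perp [Finite F] {k : ℕ} (v : Fin k → V) (hv : ∀ i, Rat F₀ P (v i)) (hk : k < Fintype.card ι) :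
    ∃ z, Rat F₀ P z ∧ z ≠ 0 ∧ ∀ i, f z (v i) = 0 := by
  obtain ⟨Q, -, hQB, -⟩ := hd.exists_form
  choose w hw using fun i => exists_emb (hv i)
  set W := LinearMap.ker (LinearMap.pi fun i => QuadraticMap.polarBilin Q (w i)) with hW
  have hne : W ≠ ⊥ := fun h => by
    have h1 := (LinearMap.pi fun i => QuadraticMap.polarBilin Q (w i)).finrank_range_add_finrank_ker
    have h2 := Submodule.finrank_le (LinearMap.range (LinearMap.pi fun i => QuadraticMap.polarBilin Q (w i)))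
    rw [finrank_pi, Fintype.card_fin] at h2
    rw [finrank_pi, ← hW, h, finrank_bot] at h1
    omega
  obtain ⟨z, hz, hz0⟩ := Submodule.exists_mem_ne_zero_of_ne_bot hne
  refine ⟨emb F₀ P z, rat_emb z, fun h => hz0 (emb_injective (P := P) (h.trans emb_zero.symm)), fun i => ?_⟩
  have h1 := congrArg (fun a : F₀ => (a : F)) (congrFun (LinearMap.mem_ker.1 hz) i)
  simp only [LinearMap.pi_apply, Pi.zero_apply, QuadraticMap.polarBilin_apply_apply, hQB, ZeroMemClass.coe_zero,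
    hw] at h1
  rw [hd.symm (hv i) (rat_emb z)]
  exact (mul_eq_zero.1 h1).resolve_left hd.two

/-- One or two reflections move a rational anisotropic vector to another of the same value. -/
theorem exists_move_vec [Finite F] {u v : V} (hu : Rat F₀ P u) (hv : Rat F₀ P v) (huv : f u u = f v v)
    (hvv : f v v ≠ 0) : ∃ k : GL ι F, (∀ y z, f ((k : Mn) *ᵥ y) ((k : Mn) *ᵥ z) = f y z) ∧
      ((k : Mn).det = 1 ∨ (k : Mn).det = -1) ∧ RatMap F₀ P k ∧ (k : Mn) *ᵥ u = v ∧
      ∀ y, f y u = 0 → f y v = 0 → (k : Mn) *ᵥ y = y := by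
  have hs := hd.herm
  have two := hd.two
  have hvu := hd.symm hu hv
  by_cases hm : f (u - v) (u - v) ≠ 0
  · obtain ⟨r, hri, hrd, hrR, hrx⟩ := hd.exists_refl (hu.sub hv) hm
    refine ⟨r, hri, Or.inr hrd, hrR, ?_, fun y h1 h2 => by
      rw [hrx, hs.toSesq.sub_right, h1, h2]; simp⟩
    rw [hrx, show 2 * f u (u - v) / f (u - v) (u - v) = 1 by
      rw [div_eq_one_iff_eq hm, hs.toSesq.sub_left, hs.toSesq.sub_right, hs.toSesq.sub_right, hvu, huv]; ring,
      one_smul, sub_sub_cancel]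
  push Not at hm
  have hp : f (u + v) (u + v) ≠ 0 := fun h => by
    have h2 : (2 : F) * 2 * f v v = 0 := by
      rw [hs.add_left, hs.add_right, hs.add_right, hvu, huv] at h
      rw [hs.toSesq.sub_left, hs.toSesq.sub_right, hs.toSesq.sub_right, hvu, huv] at hm
      linear_combination h + hm
    exact hvv ((mul_eq_zero.1 h2).resolve_left (mul_ne_zero two two))
  obtain ⟨r₁, h1i, h1d, h1R, h1x⟩ := hd.exists_refl (hu.add hv) hp
  obtain ⟨r₂, h2i, h2d, h2R, h2x⟩ := hd.exists_refl hv hvv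
  refine ⟨r₂ * r₁, fun y z => ?_, Or.inl ?_, fun y hy => ?_, ?_, fun y h1 h2 => ?_⟩
  · rw [Units.val_mul, ← Matrix.mulVec_mulVec, ← Matrix.mulVec_mulVec, h2i, h1i]
  · rw [Units.val_mul, Matrix.det_mul, h1d, h2d]; ring
  · rw [Units.val_mul, ← Matrix.mulVec_mulVec]; exact h2R _ (h1R y hy)
  · rw [Units.val_mul, ← Matrix.mulVec_mulVec, h1x, show 2 * f u (u + v) / f (u + v) (u + v) = 1 by
      rw [div_eq_one_iff_eq hp, hs.add_left, hs.add_right, hs.add_right, hvu, huv]; ring, one_smul,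
      sub_add_eq_sub_sub, sub_self, zero_sub, h2x, show -v = (-1 : F) • v by rw [neg_smul, one_smul],
      hs.smul_left]
    match_scalars
    field_simp
    ring
  · rw [Units.val_mul, ← Matrix.mulVec_mulVec, h1x, hs.add_right, h1, h2, add_zero, mul_zero, zero_div, zero_smul,
      sub_zero, h2x, h2, mul_zero, zero_div, zero_smul, sub_zero]

/-- Witt's theorem for non-degenerate rational planes, with determinant one. -/
theorem exists_move_pair [Finite F] {a b a' b' : V} (ha : Rat F₀ P a) (hb : Rat F₀ P b) (ha' : Rat F₀ P a')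
    (hb' : Rat F₀ P b') (haa : f a' a' = f a a) (hbb : f b' b' = f b b) (hab : f a' b' = f a b) (hb0 : f b b ≠ 0)
    (hΔ : f a a * f b b - f a b * f a b ≠ 0) :
    ∃ k : GL ι F, (∀ y z, f ((k : Mn) *ᵥ y) ((k : Mn) *ᵥ z) = f y z) ∧ k ∈ Geo.specialLinear ι F ∧ RatMap F₀ P k ∧
      (k : Mn) *ᵥ a = a' ∧ (k : Mn) *ᵥ b = b' := by
  have hs := hd.herm
  obtain ⟨r, hr⟩ : ∃ r, r = f a b / f b b := ⟨_, rfl⟩
  have hrF : r ∈ F₀ := hr ▸ div_mem (hd.rat a b ha hb) (hd.rat b b hb hb)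
  have hσr : σ r = r := (hd.fixed r).1 hrF
  have hba : f b a = f a b := hd.symm ha hb
  have hba' : f b' a' = f a b := by rw [hd.symm ha' hb', hab]
  obtain ⟨k₁, h1i, h1d, h1R, h1u, -⟩ := hd.exists_move_vec hb hb' hbb.symm (hbb ▸ hb0)
  obtain ⟨e, he⟩ : ∃ e, e = a' - r • b' := ⟨_, rfl⟩
  have hee : f e e = (f a a * f b b - f a b * f a b) / f b b := by
    rw [he, hs.toSesq.sub_left, hs.toSesq.sub_right, hs.toSesq.sub_right, hs.smul_left, hs.smul_left, hs.smul_right,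
      hs.smul_right, hσr, haa, hbb, hab, hba', hr]
    field_simp; ring
  have hba₁ : f (a - r • b) b = 0 := by rw [hs.toSesq.sub_left, hs.smul_left, hr]; field_simp; ring
  have he1r : Rat F₀ P ((k₁ : Mn) *ᵥ (a - r • b)) := h1R _ (ha.sub (hb.smul hrF))
  have h11 : f ((k₁ : Mn) *ᵥ (a - r • b)) ((k₁ : Mn) *ᵥ (a - r • b)) = f e e := by
    rw [h1i, hee, hs.toSesq.sub_left, hs.toSesq.sub_right, hs.toSesq.sub_right, hs.smul_left, hs.smul_left,
      hs.smul_right, hs.smul_right, hσr, hba, hr]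
    field_simp; ring
  obtain ⟨k₂, h2i, h2d, h2R, h2u, h2fix⟩ := hd.exists_move_vec he1r (he ▸ ha'.sub (hb'.smul hrF)) h11
    (by rw [hee]; exact div_ne_zero hΔ hb0)
  have h2b : (k₂ : Mn) *ᵥ b' = b' := h2fix b' (by rw [← h1u, h1i]; exact hs.refl _ _ hba₁) (by
    rw [he, hs.toSesq.sub_right, hs.smul_right, hσr, hba', hbb, hr]; field_simp; ring)
  have hkb : ((k₂ * k₁ : GL ι F) : Mn) *ᵥ b = b' := by rw [Units.val_mul, ← Matrix.mulVec_mulVec, h1u, h2b]
  have hka : ((k₂ * k₁ : GL ι F) : Mn) *ᵥ a = a' := by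
    have h3 : ((k₂ * k₁ : GL ι F) : Mn) *ᵥ (a - r • b) = e := by
      rw [Units.val_mul, ← Matrix.mulVec_mulVec, h2u]
    rw [Matrix.mulVec_sub, Matrix.mulVec_smul, hkb, he] at h3
    exact sub_left_inj.1 h3
  have hki : ∀ y z, f (((k₂ * k₁ : GL ι F) : Mn) *ᵥ y) (((k₂ * k₁ : GL ι F) : Mn) *ᵥ z) = f y z := fun y z => by
    rw [Units.val_mul, ← Matrix.mulVec_mulVec, ← Matrix.mulVec_mulVec, h2i, h1i]
  have hkR : RatMap F₀ P (k₂ * k₁) := fun y hy => by
    rw [Units.val_mul, ← Matrix.mulVec_mulVec]; exact h2R _ (h1R y hy)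
  have hkd : ((k₂ * k₁ : GL ι F) : Mn).det = 1 ∨ ((k₂ * k₁ : GL ι F) : Mn).det = -1 := by
    rw [Units.val_mul, Matrix.det_mul]
    rcases h1d with h | h <;> rcases h2d with h' | h' <;> simp [h, h']
  rcases hkd with hk | hk
  · exact ⟨k₂ * k₁, hki, MonoidHom.mem_ker.2 (Units.ext (by rw [Matrix.GeneralLinearGroup.val_det_apply, hk]; rfl)),
      hkR, hka, hkb⟩
  obtain ⟨z, hz, hzv, hzz⟩ := hd.exists_anis' ![a', b'] (by intro i; fin_cases i <;> assumption)
    (by have := hd.dim; omega) hb' (hbb ▸ hb0) (fun z _ h => h 1)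
  obtain ⟨t, hti, htd, htR, htx⟩ := hd.exists_refl hz hzz
  have hfix : ∀ y, f z y = 0 → (t : Mn) *ᵥ y = y := fun y hy => by rw [htx, hs.refl _ _ hy]; simp
  refine ⟨t * (k₂ * k₁), fun y y' => ?_, MonoidHom.mem_ker.2 (Units.ext ?_), fun y hy => ?_, ?_, ?_⟩
  · rw [Units.val_mul t, ← Matrix.mulVec_mulVec, ← Matrix.mulVec_mulVec, hti, hki]
  · rw [Matrix.GeneralLinearGroup.val_det_apply, Units.val_mul t, Matrix.det_mul, htd, hk]; simp
  · rw [Units.val_mul t, ← Matrix.mulVec_mulVec]; exact htR _ (hkR y hy)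
  · rw [Units.val_mul t, ← Matrix.mulVec_mulVec, hka, hfix a' (hzv 0)]
  · rw [Units.val_mul t, ← Matrix.mulVec_mulVec, hkb, hfix b' (hzv 1)]

/-- The same when `f b b = 0` forces `f a a = 0`. -/
theorem exists_move_plane [Finite F] {a b a' b' : V} (ha : Rat F₀ P a) (hb : Rat F₀ P b) (ha' : Rat F₀ P a')
    (hb' : Rat F₀ P b') (haa : f a' a' = f a a) (hbb : f b' b' = f b b) (hab : f a' b' = f a b)
    (h0 : f b b = 0 → f a a = 0) (hΔ : f a a * f b b - f a b * f a b ≠ 0) :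
    ∃ k : GL ι F, (∀ y z, f ((k : Mn) *ᵥ y) ((k : Mn) *ᵥ z) = f y z) ∧ k ∈ Geo.specialLinear ι F ∧ RatMap F₀ P k ∧
      (k : Mn) *ᵥ a = a' ∧ (k : Mn) *ᵥ b = b' := by
  have hs := hd.herm
  by_cases hb0 : f b b ≠ 0
  · exact hd.exists_move_pair ha hb ha' hb' haa hbb hab hb0 hΔ
  push Not at hb0
  have ha0 := h0 hb0
  have hab0 : f a b ≠ 0 := fun h => hΔ (by rw [h, ha0]; ring)
  have hba : f b a = f a b := hd.symm ha hb
  have hba' : f b' a' = f a b := by rw [hd.symm ha' hb', hab]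
  have e1 : f (a + b) (a + b) = 2 * f a b := by
    rw [hs.add_left, hs.add_right, hs.add_right, ha0, hb0, hba]; ring
  have e2 : f (a' + b') (a' + b') = 2 * f a b := by
    rw [hs.add_left, hs.add_right, hs.add_right, haa, hbb, hab, hba', ha0, hb0]; ring
  have e3 : f a (a + b) = f a b := by rw [hs.add_right, ha0, zero_add]
  obtain ⟨k, hki, hkd, hkR, hka, hkb⟩ := hd.exists_move_pair ha (ha.add hb) ha' (ha'.add hb') haa
    (e2.trans e1.symm) (by rw [hs.add_right, haa, ha0, hab, zero_add, e3])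
    (by rw [e1]; exact mul_ne_zero hd.two hab0)
    (by rw [e3, ha0, zero_mul, zero_sub]; exact neg_ne_zero.2 (mul_ne_zero hab0 hab0))
  refine ⟨k, hki, hkd, hkR, hka, ?_⟩
  rw [Matrix.mulVec_add, hka] at hkb
  exact add_left_cancel hkb

theorem cn_real {x c c' : V} (hxx : f x x = 0) (nox : ¬ UPt σ f M x) (h : CnO f F₀ M x c) (h' : CnO f F₀ M x c') :
    f c c' ∈ F₀ :=
  by_contra fun hne => nox (hd.heis hxx h h' hne)

theorem cn_add' {x c c' : V} (hxx : f x x = 0) (nox : ¬ UPt σ f M x) (h : CnO f F₀ M x c)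
    (h' : CnO f F₀ M x c') : CnO f F₀ M x (c + c') :=
  hd.cn_add hxx h h' (hd.cn_real hxx nox h h')

theorem cn_rat [Finite F] (hM : NoTv σ f F₀ P M) {q r : V} (hq : Rat F₀ P q) (hqq : f q q = 0) (hr : Rat F₀ P r)
    (hrq : f r q = 0) : CnO f F₀ M q r := by
  have hs := hd.herm
  refine ⟨hrq, fun a ha => ?_⟩
  obtain ⟨t, hti, htd, htx⟩ := hd.exists_eD hqq (show f (a • r) q = 0 by rw [hs.smul_left, hrq, mul_zero])
  refine ⟨t, hM.rat_mem t hti htd fun y hy => ?_, htx⟩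
  rw [htx]
  have har : Rat F₀ P (a • r) := hr.smul ha
  refine hy.add (((har.smul (hd.rat y q hy hq)).sub (hq.smul (hd.rat y _ hy har))).sub (hq.smul ?_))
  exact mul_mem (div_mem (hd.rat _ _ har har) (ofNat_mem F₀ 2)) (hd.rat y q hy hq)

/-- The increment of a parameter under an element fixing the point. -/
theorem cn_incr (hM : NoTv σ f F₀ P M) {x c d : V} (hxx : f x x = 0) (nox : ¬ UPt σ f M x) (h : CnO f F₀ M x c)
    {k : GL ι F} (hk : k ∈ M) (hkx : (k : Mn) *ᵥ x = x) (hkc : (k : Mn) *ᵥ c = c + d) : CnO f F₀ M x d := by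
  have h1 := hd.cn_map h hk (hM.isom k hk)
  rw [hkx, hkc] at h1
  have h2 := hd.cn_add' hxx nox h1 (hd.cn_smul h (neg_mem (one_mem F₀)))
  rwa [show c + d + (-1 : F) • c = d by module] at h2

/-- A point perpendicular to a rational singular point gives a transvection. -/
theorem false_of_perp [Finite F] (hM : NoTv σ f F₀ P M) (h4 : Fintype.card ι = 4) (h5 : 5 ≤ Nat.card F₀) {τ₀ : F}
    (hτ0 : τ₀ ≠ 0) (hτ₀ : τ₀ + σ τ₀ = 0) (hdec : ∀ v : V, ∃ a b, Rat F₀ P a ∧ Rat F₀ P b ∧ v = a + τ₀ • b)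
    {g : GL ι F} (hgM : g ∈ M) {p : V} (hp : Rat F₀ P p) (hpp : f p p = 0) (hp0 : p ≠ 0)
    (hoff : ¬ RatLine F₀ P ((g : Mn) *ᵥ p)) {q : V} (hq : Rat F₀ P q) (hqq : f q q = 0) (hq0 : q ≠ 0)
    (hqg : f q ((g : Mn) *ᵥ p) = 0) : False := by
  have hs := hd.herm
  have two := hd.two
  have hfix : ∀ a ∈ F₀, σ a = a := fun a ha => (hd.fixed a).1 ha
  have hστ : σ τ₀ = -τ₀ := by linear_combination hτ₀
  have split : ∀ a b : F, a ∈ F₀ → b ∈ F₀ → a + τ₀ * b ∈ F₀ → b = 0 := fun a b ha hb h => by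
    have h1 := hfix _ h
    rw [map_add, map_mul, hfix a ha, hfix b hb, hστ] at h1
    exact (mul_eq_zero.1 (show (2 * τ₀) * b = 0 by linear_combination -h1)).resolve_left (mul_ne_zero two hτ0)
  obtain ⟨x, hx⟩ : ∃ x, x = (g : Mn) *ᵥ p := ⟨_, rfl⟩
  rw [← hx] at hoff hqg
  have hxx : f x x = 0 := by rw [hx, hM.isom g hgM, hpp]
  have nox : ¬ UPt σ f M x := fun h => hM.none p hp hpp hp0 (by
    have := h.map hs (inv_mem hgM) (hM.isom _ (inv_mem hgM))
    rwa [hx, inv_mulVec_cancel] at this)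
  obtain ⟨a, b, ha, hb, hab⟩ := hdec x
  have hindab : ∀ k : F, a ≠ k • b := fun k h => hoff ⟨k + τ₀, b, hb, by rw [hab, h, add_smul]⟩
  have hb0 : b ≠ 0 := fun h => hoff ⟨1, a, ha, by rw [hab, h, smul_zero, add_zero, one_smul]⟩
  have hba : f b a = f a b := hd.symm ha hb
  have hax : f a a = τ₀ * τ₀ * f b b := by
    have h1 := hxx
    rw [hab, hs.add_left, hs.add_right, hs.add_right, hs.smul_left, hs.smul_left, hs.smul_right, hs.smul_right,
      hστ, hba] at h1
    linear_combination h1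
  have hxw : ∀ w, f w a = 0 → f w b = 0 → f w x = 0 := fun w h1 h2 => by
    rw [hab, hs.add_right, hs.smul_right, h1, h2, mul_zero, add_zero]
  have hqab : f q a = 0 ∧ f q b = 0 := by
    have h1 := hqg
    rw [hab, hs.add_right, hs.smul_right, hστ] at h1
    have h2 := split _ _ (hd.rat q a hq ha) (neg_mem (hd.rat q b hq hb))
      (by rw [show f q a + τ₀ * -f q b = 0 by linear_combination h1]; exact zero_mem _)
    rw [neg_eq_zero] at h2
    exact ⟨by rw [h2] at h1; linear_combination h1, h2⟩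
  have hexc : ∀ w, Rat F₀ P w → w ≠ 0 → f w a = 0 → f w b = 0 → ∃ c, CnO f F₀ M x c ∧ f c w ≠ 0 := by
    intro w hw hw0 hwa hwb
    by_contra hcon
    push Not at hcon
    obtain ⟨d, hd'⟩ : ∃ d, (g : Mn) *ᵥ d = w := ⟨_, mulVec_inv_cancel g w⟩
    obtain ⟨h, hh, hhp⟩ := hd.exists_dual hp hp0
    have hd0 : ∀ u, Rat F₀ P u → f u p = 0 → f u d = 0 := fun u hu hup => by
      have := hcon ((g : Mn) *ᵥ u) (hx ▸ hd.cn_map (hd.cn_rat hM hp hpp hu hup) hgM (hM.isom g hgM))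
      rwa [← hd', hM.isom g hgM] at this
    have hdp : d - σ (f h d) • p = 0 := hd.zero_of_rat fun u hu => by
      have h1 := hd0 (u - f u p • h) (hu.sub (hh.smul (hd.rat u p hu hp)))
        (by rw [hs.toSesq.sub_left, hs.smul_left, hhp, mul_one, sub_self])
      rw [hs.toSesq.sub_left, hs.smul_left] at h1
      rw [hs.toSesq.sub_right, hs.smul_right, hs.invol]
      linear_combination h1
    rw [sub_eq_zero] at hdp
    have h2 : w = σ (f h d) • x := by rw [hx, ← Matrix.mulVec_smul, ← hdp, hd']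
    have hne : σ (f h d) ≠ 0 := fun h3 => hw0 (by rw [h2, h3, zero_smul])
    exact hoff ⟨(σ (f h d))⁻¹, w, hw, by rw [h2, smul_smul, inv_mul_cancel₀ hne, one_smul]⟩
  -- a non-zero multiple of a rational singular vector
  obtain ⟨e, he, hee, he0, hex, κ, hκ0, hκe⟩ : ∃ e, Rat F₀ P e ∧ f e e = 0 ∧ e ≠ 0 ∧ f e x = 0 ∧
      ∃ κ : F, κ ≠ 0 ∧ CnO f F₀ M x (κ • e) := by
    obtain ⟨D, hD⟩ : ∃ D, D = f a a * f b b - f a b * f a b := ⟨_, rfl⟩
    rcases eq_or_ne D 0 with hD0 | hΔ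
    · -- a totally singular plane
      have hbb : f b b = 0 := by
        by_contra hbb
        have hρ : f a b / f b b ∈ F₀ := div_mem (hd.rat a b ha hb) (hd.rat b b hb hb)
        have h1 : (f a b / f b b - τ₀) * (f a b / f b b + τ₀) = 0 := by
          field_simp
          linear_combination hD - hD0 + f b b * hax
        rcases mul_eq_zero.1 h1 with h | h
        · exact one_ne_zero (split 0 1 (zero_mem _) (one_mem _) (by
            rw [zero_add, mul_one, ← sub_eq_zero.1 h]; exact hρ))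
        · exact one_ne_zero (split 0 1 (zero_mem _) (one_mem _) (by
            rw [zero_add, mul_one, show τ₀ = -(f a b / f b b) by linear_combination h]; exact neg_mem hρ))
      have haa : f a a = 0 := by rw [hax, hbb, mul_zero]
      have hab0 : f a b = 0 := by
        have : f a b * f a b = 0 := by linear_combination hD - hD0 + f b b * haa
        exact mul_self_eq_zero.1 this
      have hba0 : f b a = 0 := by rw [hba, hab0]
      obtain ⟨c, hc, hcb⟩ := hexc b hb hb0 hba0 hbb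
      have step : ∀ z, Rat F₀ P z → f z z = 0 → f z b = 0 → f z x = 0 →
          CnO f F₀ M x (f c z • b - f c b • z) := by
        intro z hz hzz hzb hzx
        obtain ⟨k, hk, hkx⟩ := (hd.cn_rat hM hz hzz hb (hs.refl _ _ hzb)).2 1 (one_mem _)
        rw [one_smul] at hkx
        refine hd.cn_incr hM hxx nox hc hk ?_ ?_
        · rw [hkx, eD, hs.refl _ _ hzx, hs.refl _ _ (hxw b hba0 hbb)]; simp
        · rw [hkx, eD, hbb]; module
      have h1 := hd.cn_real hxx nox (step a ha haa hab0 (hxw a haa hab0)) hc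
      rw [hs.toSesq.sub_left, hs.smul_left, hs.smul_left, hs.herm b c, hs.herm a c] at h1
      have h2 := hfix _ h1
      rw [map_sub, map_mul, map_mul, hs.invol, hs.invol] at h2
      obtain ⟨r, hr⟩ : ∃ r, r = f c a / f c b := ⟨_, rfl⟩
      have hrσ : σ r = r := by
        have h3 : f c a * σ (f c b) = f c b * σ (f c a) :=
          mul_left_cancel₀ two (by linear_combination -h2)
        rw [hr, map_div₀, div_eq_div_iff (σ.map_ne_zero_iff.2 hcb) hcb]
        linear_combination -h3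
      have hrF : r ∈ F₀ := (hd.fixed r).2 hrσ
      have hza : f (a - r • b) a = 0 := by rw [hs.toSesq.sub_left, hs.smul_left, haa, hba0]; ring
      have hzb : f (a - r • b) b = 0 := by rw [hs.toSesq.sub_left, hs.smul_left, hab0, hbb]; ring
      have hzz : f (a - r • b) (a - r • b) = 0 := by
        rw [hs.toSesq.sub_right, hs.smul_right, hza, hzb]; ring
      refine ⟨a - r • b, ha.sub (hb.smul hrF), hzz, sub_ne_zero.2 (hindab r), hxw _ hza hzb, -f c b,
        neg_ne_zero.2 hcb, ?_⟩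
      have h4 := step _ (ha.sub (hb.smul hrF)) hzz hzb (hxw _ hza hzb)
      rwa [show f c (a - r • b) = 0 by
        rw [hs.toSesq.sub_right, hs.smul_right, hrσ, hr]; field_simp; ring, zero_smul, zero_sub, ← neg_smul] at h4
    · -- a hyperbolic plane perpendicular to `a` and `b`
      obtain ⟨sa, hsa'⟩ : ∃ sa, sa = (f b b / D) • a - (f a b / D) • b := ⟨_, rfl⟩
      obtain ⟨sb, hsb'⟩ : ∃ sb, sb = (f a a / D) • b - (f a b / D) • a := ⟨_, rfl⟩
      have hDF : D ∈ F₀ := hD ▸ sub_mem (mul_mem (hd.rat a a ha ha) (hd.rat b b hb hb))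
        (mul_mem (hd.rat a b ha hb) (hd.rat a b ha hb))
      have hsa : Rat F₀ P sa := hsa' ▸ (ha.smul (div_mem (hd.rat b b hb hb) hDF)).sub
        (hb.smul (div_mem (hd.rat a b ha hb) hDF))
      have hsb : Rat F₀ P sb := hsb' ▸ (hb.smul (div_mem (hd.rat a a ha ha) hDF)).sub
        (ha.smul (div_mem (hd.rat a b ha hb) hDF))
      have hsaa : f sa a = 1 := by
        rw [hsa', hs.toSesq.sub_left, hs.smul_left, hs.smul_left, hba]; field_simp; linear_combination -hD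
      have hsab : f sa b = 0 := by rw [hsa', hs.toSesq.sub_left, hs.smul_left, hs.smul_left]; ring
      have hsbb : f sb b = 1 := by
        rw [hsb', hs.toSesq.sub_left, hs.smul_left, hs.smul_left]; field_simp; linear_combination -hD
      have hsba : f sb a = 0 := by rw [hsb', hs.toSesq.sub_left, hs.smul_left, hs.smul_left, hba]; ring
      have hsaq : f sa q = 0 := hs.refl _ _ (by
        rw [hsa', hs.toSesq.sub_right, hs.smul_right, hs.smul_right, hqab.1, hqab.2]; ring)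
      have hsbq : f sb q = 0 := hs.refl _ _ (by
        rw [hsb', hs.toSesq.sub_right, hs.smul_right, hs.smul_right, hqab.1, hqab.2]; ring)
      obtain ⟨h, hh, hhq⟩ := hd.exists_dual hq hq0
      obtain ⟨h', hh'⟩ : ∃ h', h' = h - f h a • sa - f h b • sb := ⟨_, rfl⟩
      have hh'r : Rat F₀ P h' :=
        hh' ▸ (hh.sub (hsa.smul (hd.rat h a hh ha))).sub (hsb.smul (hd.rat h b hh hb))
      have hh'a : f h' a = 0 := by
        rw [hh', hs.toSesq.sub_left, hs.toSesq.sub_left, hs.smul_left, hs.smul_left, hsaa, hsba]; ring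
      have hh'b : f h' b = 0 := by
        rw [hh', hs.toSesq.sub_left, hs.toSesq.sub_left, hs.smul_left, hs.smul_left, hsab, hsbb]; ring
      have hh'q : f h' q = 1 := by
        rw [hh', hs.toSesq.sub_left, hs.toSesq.sub_left, hs.smul_left, hs.smul_left, hsaq, hsbq, hhq]; ring
      have h2F : f h' h' / 2 ∈ F₀ := div_mem (hd.rat _ _ hh'r hh'r) (ofNat_mem F₀ 2)
      obtain ⟨q', hq'⟩ : ∃ q', q' = h' - (f h' h' / 2) • q := ⟨_, rfl⟩
      have hq'r : Rat F₀ P q' := hq' ▸ hh'r.sub (hq.smul h2F)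
      have hqh' : f q h' = 1 := by rw [hd.symm hh'r hq, hh'q]
      have hq'q : f q' q = 1 := by rw [hq', hs.toSesq.sub_left, hs.smul_left, hh'q, hqq]; ring
      have hqq' : f q q' = 1 := by rw [hd.symm hq'r hq, hq'q]
      have hq'q' : f q' q' = 0 := by
        rw [hq', hs.toSesq.sub_left, hs.toSesq.sub_right, hs.toSesq.sub_right, hs.smul_left, hs.smul_left,
          hs.smul_right, hs.smul_right, hfix _ h2F, hh'q, hqh', hqq]
        field_simp; ring
      have hq'a : f q' a = 0 := by rw [hq', hs.toSesq.sub_left, hs.smul_left, hh'a, hqab.1]; ring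
      have hq'b : f q' b = 0 := by rw [hq', hs.toSesq.sub_left, hs.smul_left, hh'b, hqab.2]; ring
      obtain ⟨s₀, hs0, hs1, hsm⟩ : ∃ s : F₀, (s : F) ≠ 0 ∧ (s : F) ≠ 1 ∧ (s : F) ≠ -1 := by
        classical
        have : Fintype F₀ := Fintype.ofFinite _
        by_contra hcon
        push Not at hcon
        have hle : (Finset.univ.map ⟨Subtype.val, Subtype.val_injective⟩ : Finset F) ⊆ ({0, 1, -1} : Finset F) :=
          fun y hy => by
            obtain ⟨d, -, rfl⟩ := Finset.mem_map.1 hy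
            simp only [Finset.mem_insert, Finset.mem_singleton, Function.Embedding.coeFn_mk]
            by_contra hd'
            push Not at hd'
            exact hd'.2.2 (hcon d hd'.1 hd'.2.1)
        have h6 := (Finset.card_le_card hle).trans Finset.card_le_three
        rw [Finset.card_map, Finset.card_univ, ← Nat.card_eq_fintype_card] at h6
        omega
      obtain ⟨s, hsdef⟩ : ∃ s, s = (s₀ : F) := ⟨_, rfl⟩
      rw [← hsdef] at hs0 hs1 hsm
      have hsF : s ∈ F₀ := hsdef ▸ s₀.2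
      have hσs : σ s = s := hfix s hsF
      have hu1 : f (q - q') (q - q') = -2 := by
        rw [hs.toSesq.sub_left, hs.toSesq.sub_right, hs.toSesq.sub_right, hqq, hq'q', hqq', hq'q]; ring
      have hu2 : f (q - s • q') (q - s • q') = -(2 * s) := by
        rw [hs.toSesq.sub_left, hs.toSesq.sub_right, hs.toSesq.sub_right, hs.smul_left, hs.smul_left, hs.smul_right,
          hs.smul_right, hσs, hqq, hq'q', hqq', hq'q]; ring
      obtain ⟨r₁, h1i, h1d, h1R, h1x⟩ := hd.exists_refl (hq.sub hq'r) (by rw [hu1]; exact neg_ne_zero.2 two)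
      obtain ⟨r₂, h2i, h2d, h2R, h2x⟩ := hd.exists_refl (hq.sub (hq'r.smul hsF))
        (by rw [hu2]; exact neg_ne_zero.2 (mul_ne_zero two hs0))
      have htM : r₂ * r₁ ∈ M := hM.rat_mem _
        (fun y z => by rw [Units.val_mul, ← Matrix.mulVec_mulVec, ← Matrix.mulVec_mulVec, h2i, h1i])
        (MonoidHom.mem_ker.2 (Units.ext (by
          rw [Matrix.GeneralLinearGroup.val_det_apply, Units.val_mul, Matrix.det_mul, h1d, h2d]; simp)))
        (fun y hy => by rw [Units.val_mul, ← Matrix.mulVec_mulVec]; exact h2R _ (h1R y hy))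
      have ht : ∀ y, ((r₂ * r₁ : GL ι F) : Mn) *ᵥ y =
          y + (((1 / s - 1) * f y q') • q + ((s - 1) * f y q) • q') := fun y => by
        rw [Units.val_mul, ← Matrix.mulVec_mulVec, h1x, hu1, h2x, hu2]
        simp only [hs.toSesq.sub_left, hs.toSesq.sub_right, hs.smul_left, hs.smul_right, hσs, hqq, hq'q', hqq', hq'q]
        match_scalars <;> field_simp <;> ring
      have htx : ((r₂ * r₁ : GL ι F) : Mn) *ᵥ x = x := by
        rw [ht, hs.refl _ _ hqg, hs.refl _ _ (hxw q' hq'a hq'b)]; simp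
      obtain ⟨c, hc, hcq⟩ := hexc q hq hq0 hqab.1 hqab.2
      have hd1 := hd.cn_incr hM hxx nox hc htM htx (ht c)
      have hd2 := hd.cn_incr hM hxx nox hd1 htM htx (ht _)
      have hm : -(1 / s - 1) ∈ F₀ := neg_mem (sub_mem (div_mem (one_mem _) hsF) (one_mem _))
      refine ⟨q', hq'r, hq'q', fun h0 => ?_, hxw q' hq'a hq'b, (s - 1 / s) * (s - 1) * f c q, ?_, ?_⟩
      · rw [h0, hs.toSesq.zero_left] at hq'q; exact zero_ne_one hq'q
      · refine mul_ne_zero (mul_ne_zero ?_ (sub_ne_zero.2 hs1)) hcq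
        intro h0
        have : (s - 1) * (s + 1) = 0 := by field_simp at h0; linear_combination h0
        rcases mul_eq_zero.1 this with h | h
        · exact hs1 (sub_eq_zero.1 h)
        · exact hsm (eq_neg_of_add_eq_zero_left h)
      · have h3 := hd.cn_add' hxx nox hd2 (hd.cn_smul hd1 hm)
        convert h3 using 1
        simp only [hs.add_left, hs.smul_left, hqq, hq'q', hqq', hq'q]
        match_scalars <;> field_simp <;> ring
  -- the Siegel elements at `e`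
  have hxe : CnO f F₀ M e ((-(σ κ)) • x) := by
    refine ⟨by rw [hs.smul_left, hs.refl _ _ hex, mul_zero], fun a' ha' => (hκe.2 a' ha').congr fun y => ?_⟩
    simp only [eD, smul_smul, hs.smul_left, hs.smul_right, map_mul, map_neg, hs.invol, hfix a' ha', hee, hxx,
      mul_zero, zero_div, zero_mul, zero_smul, sub_zero]
    module
  have noe := hM.none e he hee he0
  have hreal : ∀ r, Rat F₀ P r → f r e = 0 → f ((-(σ κ)) • x) r ∈ F₀ := fun r hr hre =>
    hd.cn_real hee noe hxe (hd.cn_rat hM he hee hr hre)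
  obtain ⟨A, B, hA, hB, hAB⟩ := hdec ((-(σ κ)) • x)
  have hBr : ∀ r, Rat F₀ P r → f r e = 0 → f B r = 0 := fun r hr hre => by
    have h1 := hreal r hr hre
    rw [hAB, hs.add_left, hs.smul_left] at h1
    exact split _ _ (hd.rat A r hA hr) (hd.rat B r hB hr) h1
  obtain ⟨h, hh, hhe⟩ := hd.exists_dual he he0
  obtain ⟨ρ, hρ⟩ : ∃ ρ, ρ = f h B := ⟨_, rfl⟩
  have hρF : ρ ∈ F₀ := hρ ▸ hd.rat h B hh hB
  have hBe : B - ρ • e = 0 := hd.zero_of_rat fun u hu => by
    have h1 := hBr (u - f u e • h) (hu.sub (hh.smul (hd.rat u e hu he)))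
      (by rw [hs.toSesq.sub_left, hs.smul_left, hhe, mul_one, sub_self])
    rw [hs.toSesq.sub_right, hs.smul_right, hfix _ (hd.rat u e hu he), hd.symm hu hB, hd.symm hh hB, ← hρ] at h1
    rw [hs.toSesq.sub_right, hs.smul_right, hfix ρ hρF]
    linear_combination h1
  rw [sub_eq_zero] at hBe
  have hμ : -(σ κ) ≠ 0 := neg_ne_zero.2 (σ.map_ne_zero_iff.2 hκ0)
  have hρ0 : ρ ≠ 0 := fun h0 => hoff ⟨(-(σ κ))⁻¹, A, hA, by
    rw [eq_inv_smul_iff₀ hμ, hAB, hBe, h0, zero_smul, smul_zero, add_zero]⟩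
  have hAe : f A e = 0 := by
    have h1 := hxe.1
    rwa [hAB, hBe, hs.add_left, hs.smul_left, hs.smul_left, hee, mul_zero, mul_zero, add_zero] at h1
  have h3 := hd.cn_add' hee noe hxe (hd.cn_rat hM he hee (hA.smul (neg_mem (one_mem F₀)))
    (show f ((-1 : F) • A) e = 0 by rw [hs.smul_left, hAe, mul_zero]))
  rw [hAB, hBe, show A + τ₀ • ρ • e + (-1 : F) • A = (τ₀ * ρ) • e by module] at h3
  refine noe fun τ hτ => ?_
  have hστ' : σ τ = -τ := by linear_combination hτ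
  have haF : τ / (2 * (τ₀ * ρ)) ∈ F₀ := (hd.fixed _).2 (by
    rw [map_div₀, map_mul, map_mul, map_ofNat, hστ, hfix ρ hρF, hστ', neg_mul, mul_neg, neg_div_neg_eq])
  obtain ⟨T, hT, hTx⟩ := h3.2 _ haF
  refine ⟨T, hT, fun y => ?_⟩
  rw [hTx]
  simp only [eD, smul_smul, hs.smul_left, hs.smul_right, hee, map_mul, hfix _ haF, hστ, hfix ρ hρF]
  match_scalars <;> field_simp <;> ring_nf <;> field_simp <;> ring

/-- In degree four some rational point carries a transvection. -/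
theorem false_of_off [Finite F] (hM : NoTv σ f F₀ P M) (h4 : Fintype.card ι = 4) (h5 : 5 ≤ Nat.card F₀) {τ₀ : F}
    (hτ0 : τ₀ ≠ 0) (hτ₀ : τ₀ + σ τ₀ = 0) (hdec : ∀ v : V, ∃ a b, Rat F₀ P a ∧ Rat F₀ P b ∧ v = a + τ₀ • b)
    {g : GL ι F} (hgM : g ∈ M) {p : V} (hp : Rat F₀ P p) (hpp : f p p = 0) (hp0 : p ≠ 0)
    (hoff : ¬ RatLine F₀ P ((g : Mn) *ᵥ p)) : False := by
  have hs := hd.herm
  have two := hd.two
  have hfix : ∀ a ∈ F₀, σ a = a := fun a ha => (hd.fixed a).1 ha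
  have hστ : σ τ₀ = -τ₀ := by linear_combination hτ₀
  have split : ∀ a b : F, a ∈ F₀ → b ∈ F₀ → a + τ₀ * b = 0 → a = 0 ∧ b = 0 := fun a b ha hb h => by
    have h1 := congrArg σ h
    rw [map_add, map_mul, hfix a ha, hfix b hb, hστ, map_zero] at h1
    have hb' : b = 0 := (mul_eq_zero.1 (show (2 * τ₀) * b = 0 by linear_combination h - h1)).resolve_left
      (mul_ne_zero two hτ0)
    exact ⟨by rw [hb'] at h; linear_combination h, hb'⟩
  obtain ⟨x, hx⟩ : ∃ x, x = (g : Mn) *ᵥ p := ⟨_, rfl⟩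
  have hxx : f x x = 0 := by rw [hx, hM.isom g hgM, hpp]
  have nox : ¬ UPt σ f M x := fun h => hM.none p hp hpp hp0 (by
    have := h.map hs (inv_mem hgM) (hM.isom _ (inv_mem hgM))
    rwa [hx, inv_mulVec_cancel] at this)
  obtain ⟨a, b, ha, hb, hab⟩ := hdec x
  have hb0 : b ≠ 0 := fun h => hoff ⟨1, a, ha, by rw [← hx, hab, h, smul_zero, add_zero, one_smul]⟩
  have hba : f b a = f a b := hd.symm ha hb
  obtain ⟨d, hdd⟩ : ∃ d, d = τ₀ * τ₀ := ⟨_, rfl⟩
  have hdF : d ∈ F₀ := (hd.fixed d).2 (by rw [hdd, map_mul, hστ, neg_mul_neg])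
  have hax : f a a = d * f b b := by
    have h1 := hxx
    rw [hab, hs.add_left, hs.add_right, hs.add_right, hs.smul_left, hs.smul_left, hs.smul_right, hs.smul_right,
      hστ, hba] at h1
    linear_combination h1 - f b b * hdd
  have hperp : ∀ z, f z a = 0 → f z b = 0 → f z x = 0 := fun z h1 h2 => by
    rw [hab, hs.add_right, hs.smul_right, h1, h2, mul_zero, add_zero]
  by_cases hani : ∃ q, Rat F₀ P q ∧ q ≠ 0 ∧ f q q = 0 ∧ f q a = 0 ∧ f q b = 0
  · obtain ⟨q, hq, hq0, hqq, hqa, hqb⟩ := hani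
    exact hd.false_of_perp hM h4 h5 hτ0 hτ₀ hdec hgM hp hpp hp0 hoff hq hqq hq0 (hx ▸ hperp q hqa hqb)
  push Not at hani
  -- the plane of `x` is non-degenerate
  have hne : ∀ k l : F, k ∈ F₀ → l ∈ F₀ → (k ≠ 0 ∨ l ≠ 0) → k * f b b + l * f a b = 0 →
      k * f a b + l * f a a = 0 → k • b + l • a = 0 := fun k l hk hl _ e1 e2 => by
    by_contra h0
    have h1 : f (k • b + l • a) b = 0 := by rw [hs.add_left, hs.smul_left, hs.smul_left]; exact e1
    have h2 : f (k • b + l • a) a = 0 := by rw [hs.add_left, hs.smul_left, hs.smul_left, hba]; exact e2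
    exact hani _ ((hb.smul hk).add (ha.smul hl)) h0 (by
      rw [hs.add_right, hs.smul_right, hs.smul_right, h1, h2, mul_zero, mul_zero, add_zero]) h2 h1
  have hΔ : f a a * f b b - f a b * f a b ≠ 0 := fun h => by
    have hbb : f b b = 0 := by
      by_contra hbb
      have hk := hd.rat a b ha hb
      have h1 := hne (-f a b) (f b b) (neg_mem hk) (hd.rat b b hb hb) (Or.inr hbb) (by ring)
        (by linear_combination h)
      refine hoff ⟨f a b / f b b + τ₀, b, hb, ?_⟩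
      rw [← hx, hab, add_smul]
      congr 1
      rw [neg_smul, neg_add_eq_zero] at h1
      rw [div_eq_inv_mul, mul_smul, h1, smul_smul, inv_mul_cancel₀ hbb, one_smul]
    have hab0 : f a b = 0 := by
      refine mul_self_eq_zero.1 (show f a b * f a b = 0 by rw [hbb, mul_zero, zero_sub] at h; linear_combination -h)
    have h1 := hne 1 0 (one_mem _) (zero_mem _) (Or.inl one_ne_zero) (by rw [hbb, hab0]; ring)
      (by rw [hab0]; ring)
    rw [one_smul, zero_smul, add_zero] at h1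
    exact hb0 h1
  obtain ⟨w, hw, hw0, hwv⟩ := hd.exists_perp ![a, b] (by intro i; fin_cases i <;> assumption) (by omega)
  have hwa : f w a = 0 := hwv 0
  have hwb : f w b = 0 := hwv 1
  have hww : f w w ≠ 0 := fun h => hani w hw hw0 h hwa hwb
  obtain ⟨z, hz, hz0, hzv⟩ := hd.exists_perp ![a, b, w] (by intro i; fin_cases i <;> assumption) (by omega)
  have hza : f z a = 0 := hzv 0
  have hzb : f z b = 0 := hzv 1
  have hzw : f z w = 0 := hzv 2
  have hwz : f w z = 0 := hs.refl _ _ hzw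
  have hzz : f z z ≠ 0 := fun h => hani z hz hz0 h hza hzb
  obtain ⟨θ, hθ⟩ := hs.exists_norm (t := -(f w w / f z z)) (by
    rw [map_neg, map_div₀, hs.self_fixed, hs.self_fixed])
  have hθ' : f w w + θ * σ θ * f z z = 0 := by rw [hθ]; field_simp; ring
  have hθσ : σ θ ≠ θ := fun h => by
    have hθF : θ ∈ F₀ := (hd.fixed θ).2 h
    refine hani (w + θ • z) (hw.add (hz.smul hθF)) (fun h0 => ?_) ?_ ?_ ?_
    · have h1 := congrArg (fun v => f v w) h0
      simp only [hs.add_left, hs.smul_left, hzw, hs.toSesq.zero_left, mul_zero, add_zero] at h1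
      exact hww h1
    · rw [hs.add_left, hs.add_right, hs.add_right, hs.smul_left, hs.smul_left, hs.smul_right, hs.smul_right,
        hwz, hzw, h]
      rw [h] at hθ'
      linear_combination hθ'
    · rw [hs.add_left, hs.smul_left, hwa, hza, mul_zero, add_zero]
    · rw [hs.add_left, hs.smul_left, hwb, hzb, mul_zero, add_zero]
  obtain ⟨β, hβ⟩ : ∃ β, β = f a a + d * f b b + 2 * τ₀ * f a b := ⟨_, rfl⟩
  have hβ0 : β ≠ 0 := fun h => by
    obtain ⟨h1, h2⟩ := split (f a a + d * f b b) (2 * f a b)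
      (add_mem (hd.rat a a ha ha) (mul_mem hdF (hd.rat b b hb hb)))
      (mul_mem (ofNat_mem F₀ 2) (hd.rat a b ha hb)) (by linear_combination h - hβ)
    have hab0 : f a b = 0 := (mul_eq_zero.1 h2).resolve_left two
    have haa : f a a = 0 := by
      refine (mul_eq_zero.1 (show (2 : F) * f a a = 0 by linear_combination h1 + hax)).resolve_left two
    exact hΔ (by rw [haa, hab0]; ring)
  obtain ⟨β₀, hβ₀⟩ : ∃ β₀, β₀ = f w w + θ * θ * f z z := ⟨_, rfl⟩
  obtain ⟨m, hm0, hm⟩ : ∃ m : F, m ≠ 0 ∧ β₀ + m * m * β ≠ 0 := by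
    by_contra hcon
    push Not at hcon
    have h1 := hcon 1 one_ne_zero
    have h2 := hcon τ₀ hτ0
    have hd1 : d = 1 := mul_right_cancel₀ hβ0 (by linear_combination h2 - h1 + β * hdd)
    have h3 : (τ₀ - 1) * (τ₀ + 1) = 0 := by linear_combination hd1 - hdd
    rcases mul_eq_zero.1 h3 with h | h
    · exact one_ne_zero (split (-1) 1 (neg_mem (one_mem _)) (one_mem _) (by linear_combination h)).2
    · exact one_ne_zero (split 1 1 (one_mem _) (one_mem _) (by linear_combination h)).2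
  obtain ⟨ρ, hρ⟩ : ∃ ρ, ρ = -(2 * m * β) / (β₀ + m * m * β) := ⟨_, rfl⟩
  have hρ0 : ρ ≠ 0 := hρ ▸ div_ne_zero (neg_ne_zero.2 (mul_ne_zero (mul_ne_zero two hm0) hβ0)) hm
  obtain ⟨ν, hν⟩ : ∃ ν, ν = 1 + m * ρ := ⟨_, rfl⟩
  have hconic : ρ * ρ * β₀ + ν * ν * β = β := by
    have h1 : ρ * (β₀ + m * m * β) = -(2 * m * β) := by rw [hρ, div_mul_cancel₀ _ hm]
    rw [hν]; linear_combination ρ * h1
  have hdecF : ∀ u : F, ∃ u₁ u₂, u₁ ∈ F₀ ∧ u₂ ∈ F₀ ∧ u = u₁ + τ₀ * u₂ := fun u => by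
    refine ⟨(u + σ u) / 2, (u - σ u) / (2 * τ₀), (hd.fixed _).2 ?_, (hd.fixed _).2 ?_, ?_⟩
    · rw [map_div₀, map_add, hs.invol, map_ofNat, add_comm]
    · rw [map_div₀, map_sub, hs.invol, map_mul, map_ofNat, hστ, mul_neg, div_neg, ← neg_div, neg_sub]
    · field_simp; ring
  obtain ⟨n₁, n₂, hn₁, hn₂, hne'⟩ := hdecF ν
  obtain ⟨r₁, r₂, hr₁, hr₂, hre⟩ := hdecF ρ
  obtain ⟨e₁, e₂, he₁, he₂, hee⟩ := hdecF (ρ * θ)
  obtain ⟨a', ha'⟩ : ∃ a', a' = n₁ • a + (d * n₂) • b + r₁ • w + e₁ • z := ⟨_, rfl⟩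
  obtain ⟨b', hb'⟩ : ∃ b', b' = n₂ • a + n₁ • b + r₂ • w + e₂ • z := ⟨_, rfl⟩
  have ha'r : Rat F₀ P a' :=
    ha' ▸ (((ha.smul hn₁).add (hb.smul (mul_mem hdF hn₂))).add (hw.smul hr₁)).add (hz.smul he₁)
  have hb'r : Rat F₀ P b' :=
    hb' ▸ (((ha.smul hn₂).add (hb.smul hn₁)).add (hw.smul hr₂)).add (hz.smul he₂)
  have hx' : a' + τ₀ • b' = ν • x + ρ • (w + θ • z) := by
    rw [ha', hb', hab, hne', hdd, smul_add ρ, smul_smul ρ θ, hee, hre]; module
  have haw : f a w = 0 := hs.refl _ _ hwa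
  have hbw : f b w = 0 := hs.refl _ _ hwb
  have haz : f a z = 0 := hs.refl _ _ hza
  have hbz : f b z = 0 := hs.refl _ _ hzb
  have hab' : ∀ p₁ p₂ p₃ p₄ q₁ q₂ q₃ q₄ : F, q₁ ∈ F₀ → q₂ ∈ F₀ → q₃ ∈ F₀ → q₄ ∈ F₀ →
      f (p₁ • a + p₂ • b + p₃ • w + p₄ • z) (q₁ • a + q₂ • b + q₃ • w + q₄ • z) =
        p₁ * q₁ * f a a + (p₁ * q₂ + p₂ * q₁) * f a b + p₂ * q₂ * f b b + p₃ * q₃ * f w w + p₄ * q₄ * f z z := by
    intro p₁ p₂ p₃ p₄ q₁ q₂ q₃ q₄ h₁ h₂ h₃ h₄
    simp only [hs.add_left, hs.add_right, hs.smul_left, hs.smul_right, hfix _ h₁, hfix _ h₂, hfix _ h₃, hfix _ h₄,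
      hba, haw, hbw, haz, hbz, hwa, hwb, hza, hzb, hwz, hzw]
    ring
  obtain ⟨AA, hAA⟩ : ∃ AA, AA = f a' a' := ⟨_, rfl⟩
  obtain ⟨BB, hBB⟩ : ∃ BB, BB = f b' b' := ⟨_, rfl⟩
  obtain ⟨AB, hAB⟩ : ∃ AB, AB = f a' b' := ⟨_, rfl⟩
  have eA : AA = n₁ * n₁ * f a a + (n₁ * (d * n₂) + d * n₂ * n₁) * f a b + d * n₂ * (d * n₂) * f b b +
      r₁ * r₁ * f w w + e₁ * e₁ * f z z := by
    rw [hAA, ha', hab' _ _ _ _ _ _ _ _ hn₁ (mul_mem hdF hn₂) hr₁ he₁]
  have eB : BB = n₂ * n₂ * f a a + (n₂ * n₁ + n₁ * n₂) * f a b + n₁ * n₁ * f b b +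
      r₂ * r₂ * f w w + e₂ * e₂ * f z z := by
    rw [hBB, hb', hab' _ _ _ _ _ _ _ _ hn₂ hn₁ hr₂ he₂]
  have eAB : AB = n₁ * n₂ * f a a + (n₁ * n₁ + d * n₂ * n₂) * f a b + d * n₂ * n₁ * f b b +
      r₁ * r₂ * f w w + e₁ * e₂ * f z z := by
    rw [hAB, ha', hb', hab' _ _ _ _ _ _ _ _ hn₂ hn₁ hr₂ he₂]
  have hsum : AA + d * BB + 2 * τ₀ * AB = β := by
    rw [eA, eB, eAB]
    rw [← hconic, hβ, hβ₀, show ρ * ρ * (f w w + θ * θ * f z z) = ρ * ρ * f w w + ρ * θ * (ρ * θ) * f z z by ring,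
      hee, hne', hre, hdd]
    ring
  have hdiff : AA - d * BB = 0 := by
    have h1 : ρ * σ ρ * f w w + ρ * θ * σ (ρ * θ) * f z z = 0 := by
      rw [map_mul]; linear_combination ρ * σ ρ * hθ'
    rw [hee, hre, map_add, map_add, map_mul, map_mul, hστ, hfix _ hr₁, hfix _ hr₂, hfix _ he₁, hfix _ he₂] at h1
    rw [eA, eB]
    linear_combination h1 + (n₁ * n₁ - d * (n₂ * n₂)) * hax + (r₂ * r₂ * f w w + e₂ * e₂ * f z z) * (-hdd)
  obtain ⟨g1, g2⟩ := split (AA + d * BB - f a a - d * f b b) (2 * AB - 2 * f a b)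
    (by
      rw [hAA, hBB]
      exact sub_mem (sub_mem (add_mem (hd.rat _ _ ha'r ha'r) (mul_mem hdF (hd.rat _ _ hb'r hb'r)))
        (hd.rat a a ha ha)) (mul_mem hdF (hd.rat b b hb hb)))
    (by
      rw [hAB]
      exact sub_mem (mul_mem (ofNat_mem F₀ 2) (hd.rat _ _ ha'r hb'r))
        (mul_mem (ofNat_mem F₀ 2) (hd.rat a b ha hb)))
    (by linear_combination hsum + hβ)
  have hGab : f a' b' = f a b := hAB ▸ mul_left_cancel₀ two (by linear_combination g2)
  have hd0 : d ≠ 0 := hdd ▸ mul_ne_zero hτ0 hτ0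
  have hGaa : f a' a' = f a a := hAA ▸ mul_left_cancel₀ two (by linear_combination g1 + hdiff - hax)
  have hGbb : f b' b' = f b b := hBB ▸ mul_left_cancel₀ hd0 (by
    linear_combination (hAA.symm ▸ hGaa : AA = f a a) - hdiff + hax)
  obtain ⟨k, hki, hkd, hkR, hka, hkb⟩ := hd.exists_move_plane ha hb ha'r hb'r hGaa hGbb hGab
    (fun h => by rw [hax, h, mul_zero]) hΔ
  have hkM : k ∈ M := hM.rat_mem k hki hkd hkR
  obtain ⟨x', hxe⟩ : ∃ x', x' = (k : Mn) *ᵥ x := ⟨_, rfl⟩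
  have hx'' : x' = ν • x + ρ • (w + θ • z) := by
    rw [← hx', hxe, hab, Matrix.mulVec_add, Matrix.mulVec_smul, hka, hkb]
  have hwx : f w x = 0 := hperp w hwa hwb
  have hzx : f z x = 0 := hperp z hza hzb
  have hx'x : f x' x = 0 := by
    rw [hx'', hs.add_left, hs.smul_left, hs.smul_left, hs.add_left, hs.smul_left, hxx, hwx, hzx]; ring
  have hx'w : f x' w = ρ * f w w := by
    rw [hx'', hs.add_left, hs.smul_left, hs.smul_left, hs.add_left, hs.smul_left, hs.refl _ _ hwx, hzw]; ring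
  have hx'z : f x' z = ρ * θ * f z z := by
    rw [hx'', hs.add_left, hs.smul_left, hs.smul_left, hs.add_left, hs.smul_left, hs.refl _ _ hzx, hwz]; ring
  have hg' : g⁻¹ * k * g ∈ M := mul_mem (mul_mem (inv_mem hgM) hkM) hgM
  have hy : ((g⁻¹ * k * g : GL ι F) : Mn) *ᵥ p = ((g⁻¹ : GL ι F) : Mn) *ᵥ x' := by
    rw [Units.val_mul, Units.val_mul, ← Matrix.mulVec_mulVec, ← Matrix.mulVec_mulVec, ← hx, hxe]
  by_cases hrl : RatLine F₀ P (((g⁻¹ * k * g : GL ι F) : Mn) *ᵥ p)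
  swap
  · refine hd.false_of_perp hM h4 h5 hτ0 hτ₀ hdec hg' hp hpp hp0 hrl hp hpp hp0 ?_
    rw [hy, ← hM.isom g hgM, mulVec_inv_cancel, ← hx]
    exact hs.refl _ _ hx'x
  obtain ⟨c₀, r, hr, hcr⟩ := hrl
  rw [hy] at hcr
  have hcx : (g : Mn) *ᵥ (c₀ • r) = x' := by rw [← hcr, mulVec_inv_cancel]
  have hc₀ : c₀ ≠ 0 := fun h => by
    rw [h, zero_smul, Matrix.mulVec_zero] at hcx
    rw [← hcx, hs.toSesq.zero_left] at hx'w
    exact mul_ne_zero hρ0 hww hx'w.symm
  have hrp : f r p = 0 := by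
    have h1 := hx'x
    rw [← hcx, hx, hM.isom g hgM, hs.smul_left] at h1
    exact (mul_eq_zero.1 h1).resolve_left hc₀
  obtain ⟨c, hce⟩ : ∃ c, c = (g : Mn) *ᵥ r := ⟨_, rfl⟩
  have hc : CnO f F₀ M x c := by
    rw [hx, hce]; exact hd.cn_map (hd.cn_rat hM hp hpp hr hrp) hgM (hM.isom g hgM)
  have hcx' : c = c₀⁻¹ • x' := by
    rw [← hcx, hce, Matrix.mulVec_smul, smul_smul, inv_mul_cancel₀ hc₀, one_smul]
  -- a rotation of the perpendicular plane
  obtain ⟨v, hv⟩ : ∃ v, v = w + z := ⟨_, rfl⟩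
  have hvr : Rat F₀ P v := hv ▸ hw.add hz
  have hva : f v a = 0 := by rw [hv, hs.add_left, hwa, hza, add_zero]
  have hvb : f v b = 0 := by rw [hv, hs.add_left, hwb, hzb, add_zero]
  have hvw : f v w = f w w := by rw [hv, hs.add_left, hzw, add_zero]
  have hvv : f v v ≠ 0 := fun h => hani v hvr (fun h0 => hww (by rw [← hvw, h0, hs.toSesq.zero_left])) h hva hvb
  obtain ⟨u₁, h1i, h1d, h1R, h1x⟩ := hd.exists_refl hw hww
  obtain ⟨u₂, h2i, h2d, h2R, h2x⟩ := hd.exists_refl hvr hvv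
  have htM : u₁ * u₂ ∈ M := hM.rat_mem _
    (fun y y' => by rw [Units.val_mul, ← Matrix.mulVec_mulVec, ← Matrix.mulVec_mulVec, h1i, h2i])
    (MonoidHom.mem_ker.2 (Units.ext (by
      rw [Matrix.GeneralLinearGroup.val_det_apply, Units.val_mul, Matrix.det_mul, h1d, h2d]; simp)))
    (fun y hy => by rw [Units.val_mul, ← Matrix.mulVec_mulVec]; exact h1R _ (h2R y hy))
  have htx : ((u₁ * u₂ : GL ι F) : Mn) *ᵥ x = x := by
    rw [Units.val_mul, ← Matrix.mulVec_mulVec, h2x, hs.refl _ _ (hperp v hva hvb), mul_zero, zero_div, zero_smul,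
      sub_zero, h1x, hs.refl _ _ hwx, mul_zero, zero_div, zero_smul, sub_zero]
  have hctc : CnO f F₀ M x (((u₁ * u₂ : GL ι F) : Mn) *ᵥ c) := by
    have := hd.cn_map hc htM (hM.isom _ htM)
    rwa [htx] at this
  have h1 := hfix _ (hd.cn_real hxx nox hctc hc)
  obtain ⟨U, hU⟩ : ∃ U, U = f c w := ⟨_, rfl⟩
  obtain ⟨W, hW⟩ : ∃ W, W = f c v := ⟨_, rfl⟩
  rw [Units.val_mul, ← Matrix.mulVec_mulVec, h2x, h1x] at h1
  simp only [hs.toSesq.sub_left, hs.smul_left, hs.herm w c, hs.herm v c, hvw, ← hU, ← hW] at h1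
  simp only [map_sub, map_mul, map_div₀, map_ofNat, hs.invol, hs.self_fixed] at h1
  have hUW : W * σ U = σ W * U := by
    field_simp at h1
    refine mul_left_cancel₀ (mul_ne_zero (mul_ne_zero two two) hww) ?_
    linear_combination -h1
  have hUv : U = c₀⁻¹ * ρ * f w w := by rw [hU, hcx', hs.smul_left, hx'w]; ring
  have hWv : W = c₀⁻¹ * ρ * (f w w + θ * f z z) := by
    rw [hW, hv, hs.add_right, hcx', hs.smul_left, hs.smul_left, hx'w, hx'z]; ring
  rw [hUv, hWv] at hUW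
  simp only [map_mul, map_add, hs.self_fixed] at hUW
  refine hθσ (mul_left_cancel₀ (mul_ne_zero (mul_ne_zero (mul_ne_zero (mul_ne_zero (inv_ne_zero hc₀) hρ0)
    (mul_ne_zero (σ.map_ne_zero_iff.2 (inv_ne_zero hc₀)) (σ.map_ne_zero_iff.2 hρ0))) hzz) hww) ?_)
  linear_combination -hUW

end ORat

end Cfsg.Agent.Classical.MaxTv
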