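import Mathlib
import Cfsg.Agent.Lib.Classical.DicksonTraces
import Cfsg.Agent.Lib.Classical.DicksonQuaternion

/-!
Involutions of `PGL(2, q)` and intersections of Sylow `2`-subgroups.
-/

set_option autoImplicit false

namespace Cfsg.Agent.Dickson

open Matrix
open scoped Pointwise

variable {K : Type*} [Field K] [Fintype K]

local notation "M₂" => Matrix (Fin 2) (Fin 2) K

theorem sq_of_trace_zero {A : M₂} (hA : A.trace = 0) : A * A = (-A.det) • 1 := by
  have e : A 1 1 = -A 0 0 := by rw [Matrix.trace_fin_two] at hA; linear_combination hA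
  ext i j
  fin_cases i <;> fin_cases j <;>
    simp [Matrix.mul_apply, Fin.sum_univ_two, Matrix.det_fin_two, e] <;> ring

theorem anticomm_of_trace_zero {A B : M₂} (hA : A.trace = 0) (hB : B.trace = 0) :
    A * B + B * A = (A * B).trace • 1 := by
  have e : A 1 1 = -A 0 0 := by rw [Matrix.trace_fin_two] at hA; linear_combination hA
  have e' : B 1 1 = -B 0 0 := by rw [Matrix.trace_fin_two] at hB; linear_combination hB
  ext i j
  fin_cases i <;> fin_cases j <;>
    simp [Matrix.mul_apply, Fin.sum_univ_two, Matrix.trace_fin_two, e, e'] <;> ring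

/-- Counting the units that commute with `A` up to sign. -/
theorem card_signed_centralizer {A : GL (Fin 2) K} (hA : ∀ c : K, (A : M₂) ≠ c • 1)
    (htr : (A : M₂).trace = 0) (h2 : (2 : K) ≠ 0) (P : Subgroup (GL (Fin 2) K))
    (hP : ∀ g ∈ P, (g : M₂) * A = A * (g : M₂) ∨ (g : M₂) * A = -((A : M₂) * (g : M₂))) :
    Nat.card P ≤ 2 * (Fintype.card K ^ 2 - 1) ∧
      (IsSquare (-(A : M₂).det) → Nat.card P ≤ 2 * (Fintype.card K - 1) ^ 2) := by
  classical
  haveI : Fintype P := Fintype.ofFinite P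
  have hsq := sq_of_trace_zero htr
  set d := (A : M₂).det with hd
  let C : Finset (K × K) := Finset.univ.filter (fun v => v.1 ^ 2 + d * v.2 ^ 2 ≠ 0)
  have hcomm : ∀ g : GL (Fin 2) K, (g : M₂) * A = A * (g : M₂) →
      ∃ v ∈ C, (g : M₂) = v.1 • 1 + v.2 • (A : M₂) := by
    intro g hg
    obtain ⟨a, b, hab⟩ := commutant hA hg
    refine ⟨(a, b), Finset.mem_filter.mpr ⟨Finset.mem_univ _, fun e => g.det_ne_zero ?_⟩, hab⟩
    have e' : (A : M₂) 1 1 = -(A : M₂) 0 0 := by rw [Matrix.trace_fin_two] at htr; linear_combination htr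
    rw [hab]
    simp only [hd, Matrix.det_fin_two, e'] at e
    simp [Matrix.det_fin_two, e']
    linear_combination e
  have hcard : ∀ T : Finset (GL (Fin 2) K), (∀ g ∈ T, (g : M₂) * A = A * (g : M₂)) → T.card ≤ C.card := by
    intro T hT
    choose f hfC hf using fun g : T => hcomm g.1 (hT g.1 g.2)
    rw [← Fintype.card_coe T]
    refine Finset.card_le_card_of_injOn f (fun g _ => hfC g) ?_
    intro g _ g' _ e
    exact Subtype.ext (Units.ext (by rw [hf g, hf g', e]))
  have hP2 : Nat.card P ≤ 2 * C.card := by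
    let S : Finset (GL (Fin 2) K) := Finset.univ.filter (fun g => g ∈ P)
    have hS : Nat.card P = S.card := by
      rw [Nat.card_eq_fintype_card, Fintype.card_subtype]
    let S₁ : Finset (GL (Fin 2) K) := S.filter (fun g => (g : M₂) * A = A * (g : M₂))
    let S₂ : Finset (GL (Fin 2) K) := S.filter (fun g => ¬ (g : M₂) * A = A * (g : M₂))
    have hsum : S₁.card + S₂.card = S.card := by
      have hdisj : Disjoint S₁ S₂ := Finset.disjoint_left.mpr fun g h h' =>
        (Finset.mem_filter.mp h').2 (Finset.mem_filter.mp h).2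
      rw [← Finset.card_union_of_disjoint hdisj]
      refine congrArg Finset.card ?_
      ext g
      simp only [S₁, S₂, Finset.mem_union, Finset.mem_filter]
      tauto
    have h1 : S₁.card ≤ C.card := hcard S₁ fun g hg => (Finset.mem_filter.mp hg).2
    have h3 : S₂.card ≤ C.card := by
      rcases S₂.eq_empty_or_nonempty with h | ⟨g₀, hg₀⟩
      · simp [h]
      obtain ⟨h0P, h0⟩ := Finset.mem_filter.mp hg₀
      have h0' := (hP g₀ (Finset.mem_filter.mp h0P).2).resolve_left h0
      rw [← Finset.card_map (mulLeftEmbedding g₀)]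
      refine hcard _ fun g hg => ?_
      obtain ⟨g', hg', rfl⟩ := Finset.mem_map.mp hg
      obtain ⟨hg'P, hg'n⟩ := Finset.mem_filter.mp hg'
      have h' := (hP g' (Finset.mem_filter.mp hg'P).2).resolve_left hg'n
      show ((g₀ * g' : GL (Fin 2) K) : M₂) * A = A * ((g₀ * g' : GL (Fin 2) K) : M₂)
      rw [Units.val_mul, mul_assoc, h', mul_neg, ← mul_assoc, h0', neg_mul, neg_neg, mul_assoc]
    omega
  refine ⟨hP2.trans (Nat.mul_le_mul_left 2 ?_), fun hs => hP2.trans (Nat.mul_le_mul_left 2 ?_)⟩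
  · refine (Finset.card_le_card (t := Finset.univ.erase (0, 0)) fun v hv => ?_).trans ?_
    · refine Finset.mem_erase.mpr ⟨?_, Finset.mem_univ _⟩
      rintro rfl
      simp [C] at hv
    · rw [Finset.card_erase_of_mem (Finset.mem_univ _), Finset.card_univ, Fintype.card_prod, pow_two]
  · obtain ⟨l, hl⟩ := hs
    rw [pow_two, ← Fintype.card_units, ← Fintype.card_prod]
    have hne : ∀ v ∈ C, v.1 + l * v.2 ≠ 0 ∧ v.1 - l * v.2 ≠ 0 := by
      intro v hv
      have h0 := (Finset.mem_filter.mp hv).2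
      constructor <;> intro e <;> refine h0 ?_
      · linear_combination (v.1 - l * v.2) * e - v.2 ^ 2 * hl
      · linear_combination (v.1 + l * v.2) * e - v.2 ^ 2 * hl
    rw [← Fintype.card_coe C]
    refine Fintype.card_le_of_injective
      (fun v : C => (Units.mk0 _ (hne v.1 v.2).1, Units.mk0 _ (hne v.1 v.2).2)) ?_
    intro v w e
    have e1 := congrArg (fun z : Kˣ × Kˣ => (z.1 : K)) e
    have e2 := congrArg (fun z : Kˣ × Kˣ => (z.2 : K)) e
    simp only [Units.val_mk0] at e1 e2
    have hl0 : l ≠ 0 := fun e => by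
      rw [e, mul_zero, neg_eq_zero] at hl
      exact A.det_ne_zero hl
    refine Subtype.ext (Prod.ext ?_ ?_)
    · exact mul_left_cancel₀ h2 (by linear_combination e1 + e2)
    · exact mul_left_cancel₀ (mul_ne_zero h2 hl0) (by linear_combination e1 - e2)

/-- Two non-split involutions have a common commuting involution. -/
theorem det_commutator_ne_zero {A B : M₂} (h2 : (2 : K) ≠ 0) (hA : A.trace = 0) (hB : B.trace = 0)
    (hsA : ¬ IsSquare (-A.det)) (hB0 : B.det ≠ 0) (hne : ∀ c : K, B ≠ c • A) :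
    (A * B - B * A).det ≠ 0 := by
  intro h
  rw [Traces.det_comm, hA, hB] at h
  set w := (A * B).trace with hw
  set N := (2 * B.det) • A + w • B with hN
  have hdA : A.det ≠ 0 := fun e => hsA (by rw [e, neg_zero]; exact IsSquare.zero)
  have hw0 : w ≠ 0 := fun e => by
    rw [e] at h
    exact mul_ne_zero (mul_ne_zero h2 h2) (mul_ne_zero hdA hB0) (by linear_combination h)
  have hN0 : N ≠ 0 := fun e => hne (-(2 * B.det) / w) (by
    have : B = w⁻¹ • (N - (2 * B.det) • A) := by
      rw [hN, add_sub_cancel_left, smul_smul, inv_mul_cancel₀ hw0, one_smul]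
    refine this.trans ?_
    rw [e, zero_sub, ← neg_smul, smul_smul, div_eq_mul_inv, mul_comm])
  have hNtr : N.trace = 0 := by rw [hN, Matrix.trace_add, Matrix.trace_smul, Matrix.trace_smul, hA, hB]; simp
  have hNA : N * A = -(A * N) := by
    rw [eq_neg_iff_add_eq_zero]
    have e := anticomm_of_trace_zero hA hB
    rw [hN, add_mul, mul_add, smul_mul_assoc, smul_mul_assoc, mul_smul_comm, mul_smul_comm, sq_of_trace_zero hA,
      add_add_add_comm, ← smul_add w, add_comm (B * A) (A * B), e]
    rw [smul_smul, smul_smul, ← hw, ← add_smul, ← add_smul, show 2 * B.det * -A.det + 2 * B.det * -A.det + w * w = 0 by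
      linear_combination -h, zero_smul]
  have hNN : N * N = 0 := by
    have e : N * N = (2 * B.det) • (N * A) + w • (N * B) := by
      conv_lhs => arg 2; rw [hN]
      rw [mul_add, mul_smul_comm, mul_smul_comm]
    have hdetN : N.det = 0 := by
      have e0 : (A : M₂) 1 1 = -A 0 0 := by rw [Matrix.trace_fin_two] at hA; linear_combination hA
      have e1 : (B : M₂) 1 1 = -B 0 0 := by rw [Matrix.trace_fin_two] at hB; linear_combination hB
      have hwv : w = A 0 0 * B 0 0 + A 0 1 * B 1 0 + (A 1 0 * B 0 1 + A 1 1 * B 1 1) := by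
        simp [hw, Matrix.trace_fin_two, Matrix.mul_apply, Fin.sum_univ_two]
      have hNdet : N.det = (2 * B.det) ^ 2 * A.det + w ^ 2 * B.det - (2 * B.det) * w * w := by
        rw [hN, hwv]
        simp [Matrix.det_fin_two, e0, e1]
        ring
      rw [hNdet]
      linear_combination B.det * h
    rw [sq_of_trace_zero hNtr, hdetN, neg_zero, zero_smul]
  obtain ⟨v, hv⟩ : ∃ v : Fin 2 → K, N *ᵥ v ≠ 0 := by
    by_contra hc
    push Not at hc
    refine hN0 (Matrix.ext_iff_mulVec.mpr fun v => ?_)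
    rw [hc v, Matrix.zero_mulVec]
  set u := N *ᵥ v with hu
  have hNu : N *ᵥ u = 0 := by rw [hu, Matrix.mulVec_mulVec, hNN, Matrix.zero_mulVec]
  have hNAu : N *ᵥ (A *ᵥ u) = 0 := by
    rw [Matrix.mulVec_mulVec, hNA, Matrix.neg_mulVec, ← Matrix.mulVec_mulVec, hNu, Matrix.mulVec_zero, neg_zero]
  have hdep : (Traces.frame A u).det = 0 := by
    by_contra hd
    refine hN0 ?_
    have : N * Traces.frame A u = 0 := by
      ext i j
      have e0 := congrFun hNu i
      have e1 := congrFun hNAu i
      simp only [Matrix.mulVec, dotProduct, Fin.sum_univ_two, Pi.zero_apply] at e0 e1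
      fin_cases j <;> simp [Traces.frame, Matrix.mul_apply, Fin.sum_univ_two, Matrix.mulVec, dotProduct] <;>
        first | linear_combination e0 | linear_combination e1
    have e := congrArg (fun X => X * (Traces.frame A u)⁻¹) this
    simpa [mul_assoc, Matrix.mul_nonsing_inv _ (Ne.isUnit hd)] using e
  obtain ⟨l, hl⟩ : ∃ l : K, A *ᵥ u = l • u := by
    rw [Traces.frame, Matrix.det_fin_two_of] at hdep
    by_cases h0 : u 0 = 0
    · have h1 : u 1 ≠ 0 := fun h1 => hv (by ext i; fin_cases i <;> assumption)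
      refine ⟨(A *ᵥ u) 1 / u 1, ?_⟩
      have e0 : (A *ᵥ u) 0 = 0 := by
        rw [h0, zero_mul, zero_sub, neg_eq_zero, mul_eq_zero] at hdep
        exact hdep.resolve_right h1
      ext i
      fin_cases i
      · simp [h0, e0]
      · simp [h1]
    · refine ⟨(A *ᵥ u) 0 / u 0, ?_⟩
      ext i
      fin_cases i
      · simp [h0]
      · simp only [Fin.mk_one, Pi.smul_apply, smul_eq_mul]
        field_simp
        linear_combination hdep
  refine hsA ⟨l, ?_⟩
  have e2 : (A * A) *ᵥ u = (l * l) • u := by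
    rw [← Matrix.mulVec_mulVec, hl, Matrix.mulVec_smul, hl, smul_smul]
  rw [sq_of_trace_zero hA, Matrix.smul_mulVec, Matrix.one_mulVec] at e2
  exact smul_left_injective K hv e2

/-- Two Sylow `2`-subgroups of `PGL(2, q)`, `q + 1` a power of two, meet. -/
theorem sylow_inter_ne_bot {k : ℕ} (hk : Fintype.card K + 1 = 2 ^ k) (hq : 7 ≤ Fintype.card K)
    (H : Sylow 2 (GL (Fin 2) K ⧸ Subgroup.center (GL (Fin 2) K)))
    (x : GL (Fin 2) K ⧸ Subgroup.center (GL (Fin 2) K)) :
    (H : Subgroup (GL (Fin 2) K ⧸ Subgroup.center (GL (Fin 2) K))) ⊓ MulAut.conj x • (H : Subgroup _) ≠ ⊥ := by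
  classical
  set q := Fintype.card K with hqdef
  set π : GL (Fin 2) K →* (GL (Fin 2) K ⧸ Subgroup.center (GL (Fin 2) K)) := QuotientGroup.mk' _ with hπ
  have h2 : (2 : K) ≠ 0 := by
    refine Ring.two_ne_zero fun e => ?_
    have h1 := FiniteField.even_card_iff_char_two.mp e
    have hk1 : 1 ≤ k := by
      by_contra h'
      rw [show k = 0 by omega, pow_zero] at hk
      omega
    obtain ⟨k', rfl⟩ : ∃ k', k = k' + 1 := ⟨k - 1, by omega⟩
    rw [pow_succ] at hk
    omega
  have hscalar : ∀ g : GL (Fin 2) K, π g = 1 ↔ ∃ c : K, (g : M₂) = c • 1 := by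
    intro g
    rw [hπ, QuotientGroup.mk'_apply, QuotientGroup.eq_one_iff, Subgroup.mem_center_iff]
    constructor
    · intro hg
      by_contra hns
      push Not at hns
      have key : ∀ t : M₂, t.det ≠ 0 → t * (g : M₂) = g * t := fun t ht => by
        have := congrArg (fun z : GL (Fin 2) K => (z : M₂)) (hg (Matrix.GeneralLinearGroup.mkOfDetNeZero t ht))
        simp only [Units.val_mul] at this
        exact this
      have e1 := key !![1, 1; 0, 1] (by simp [Matrix.det_fin_two_of])
      have e2 := key !![1, 0; 1, 1] (by simp [Matrix.det_fin_two_of])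
      have a := congrFun (congrFun e1 0) 0
      have b := congrFun (congrFun e1 0) 1
      have c := congrFun (congrFun e2 0) 0
      simp [Matrix.mul_apply, Fin.sum_univ_two] at a b c
      refine hns ((g : M₂) 0 0) ?_
      ext i j
      fin_cases i <;> fin_cases j <;> simp <;> first | linear_combination a | linear_combination b | linear_combination c | linear_combination -c | linear_combination -b
    · rintro ⟨c, hc⟩ h
      exact Units.ext (by rw [Units.val_mul, Units.val_mul, hc, mul_smul_comm, smul_mul_assoc, mul_one, one_mul])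
  have hker : Nat.card (π.ker) = q - 1 := by
    have e : π.ker = (Matrix.GeneralLinearGroup.scalar (Fin 2) (R := K)).range := by
      ext g
      rw [MonoidHom.mem_ker, hscalar]
      constructor
      · rintro ⟨c, hc⟩
        have hc0 : c ≠ 0 := fun e => g.ne_zero (by rw [hc, e, zero_smul])
        exact ⟨Units.mk0 c hc0, Units.ext (by
          rw [hc, Matrix.GeneralLinearGroup.coe_scalar, Matrix.scalar_apply, ← Matrix.smul_one_eq_diagonal]
          rfl)⟩
      · rintro ⟨u, rfl⟩
        exact ⟨(u : K), by rw [Matrix.GeneralLinearGroup.coe_scalar, Matrix.scalar_apply, ← Matrix.smul_one_eq_diagonal]⟩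
    have hinj : Function.Injective (Matrix.GeneralLinearGroup.scalar (Fin 2) (R := K)) := fun u v h => by
      have := congrArg (fun g : GL (Fin 2) K => (g : M₂) 0 0) h
      exact Units.ext (by simpa [Matrix.GeneralLinearGroup.coe_scalar] using this)
    rw [e, ← Nat.card_congr (MonoidHom.ofInjective hinj).toEquiv, Nat.card_units, Nat.card_eq_fintype_card]
  have hG : Nat.card (GL (Fin 2) K ⧸ Subgroup.center (GL (Fin 2) K)) = q * ((q - 1) * (q + 1)) := by
    have h1 := Classical.natCard_GL_eq_SL_mul (F := K) 2 (by norm_num)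
    have h2' := Subgroup.card_mul_index π.ker
    rw [Subgroup.index_ker, MonoidHom.range_eq_top.mpr (QuotientGroup.mk'_surjective _), Subgroup.card_top, hker,
      h1, Fus.PSLTwo.natCard_SL_two, Nat.card_units, Nat.card_eq_fintype_card (α := K)] at h2'
    exact Nat.eq_of_mul_eq_mul_left (by omega) h2'
  have hk3 : 3 ≤ k := by
    by_contra h'
    have : 2 ^ k ≤ 2 ^ 2 := Nat.pow_le_pow_right (by norm_num) (by omega)
    omega
  obtain ⟨j, rfl⟩ : ∃ j, k = j + 2 := ⟨k - 2, by omega⟩
  have hH : Nat.card (H : Subgroup (GL (Fin 2) K ⧸ Subgroup.center (GL (Fin 2) K))) = 2 * (q + 1) := by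
    rw [H.card_eq_multiplicity, hG, hk]
    have hq4 : q = 4 * 2 ^ j - 1 := by rw [pow_add] at hk; omega
    have e1 : (q * (q - 1 : ℕ)).factorization 2 = 1 := by
      rw [Nat.factorization_mul (by omega) (by omega), Finsupp.add_apply,
        Nat.factorization_eq_zero_of_not_dvd (n := q) (by omega), zero_add]
      obtain ⟨c, hc⟩ : ∃ c, q - 1 = 2 * (2 * c + 1) := ⟨2 ^ j - 1, by have := Nat.one_le_two_pow (n := j); omega⟩
      rw [hc, Nat.factorization_mul two_ne_zero (by omega), Finsupp.add_apply, Nat.prime_two.factorization_self,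
        Nat.factorization_eq_zero_of_not_dvd (by omega)]
    rw [← mul_assoc, Nat.factorization_mul (Nat.mul_ne_zero (by omega) (by omega)) (by positivity), Finsupp.add_apply,
      e1, Nat.prime_two.factorization_pow, Finsupp.single_eq_same, pow_add, pow_one]
  -- a central involution of `H`
  haveI : Nontrivial (H : Subgroup (GL (Fin 2) K ⧸ Subgroup.center (GL (Fin 2) K))) := Finite.one_lt_card_iff_nontrivial.mp (by omega)
  haveI := H.isPGroup'.center_nontrivial
  obtain ⟨z₀, hz₀⟩ : ∃ z₀ : Subgroup.center (H : Subgroup (GL (Fin 2) K ⧸ Subgroup.center (GL (Fin 2) K))), orderOf z₀ = 2 := by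
    obtain ⟨n, hn⟩ := IsPGroup.iff_card.mp ((H.isPGroup').to_subgroup (Subgroup.center (H : Subgroup (GL (Fin 2) K ⧸ Subgroup.center (GL (Fin 2) K)))))
    haveI : Fintype (Subgroup.center (H : Subgroup (GL (Fin 2) K ⧸ Subgroup.center (GL (Fin 2) K)))) := Fintype.ofFinite _
    refine exists_prime_orderOf_dvd_card' 2 ?_
    rw [hn]
    refine dvd_pow_self 2 fun e => ?_
    rw [e, pow_zero] at hn
    have := Finite.one_lt_card (α := Subgroup.center (H : Subgroup (GL (Fin 2) K ⧸ Subgroup.center (GL (Fin 2) K))))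
    omega
  set z : (GL (Fin 2) K ⧸ Subgroup.center (GL (Fin 2) K)) := ((z₀ : (H : Subgroup (GL (Fin 2) K ⧸ Subgroup.center (GL (Fin 2) K)))) : (GL (Fin 2) K ⧸ Subgroup.center (GL (Fin 2) K))) with hz
  have hzo : orderOf z = 2 := by rw [hz, Subgroup.orderOf_coe, Subgroup.orderOf_coe, hz₀]
  have hzH : ∀ h ∈ (H : Subgroup (GL (Fin 2) K ⧸ Subgroup.center (GL (Fin 2) K))), h * z = z * h := fun h hh =>
    congrArg Subtype.val (Subgroup.mem_center_iff.mp z₀.2 ⟨h, hh⟩)
  obtain ⟨Z, hZ⟩ := QuotientGroup.mk'_surjective (Subgroup.center (GL (Fin 2) K)) z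
  change π Z = z at hZ
  have hZns : ∀ c : K, (Z : M₂) ≠ c • 1 := fun c hc => by
    rw [← hZ, (hscalar Z).mpr ⟨c, hc⟩, orderOf_one] at hzo
    omega
  have hZtr : (Z : M₂).trace = 0 := by
    obtain ⟨c, hc⟩ := (hscalar (Z * Z)).mp (by rw [map_mul, hZ, ← pow_two]; exact orderOf_dvd_iff_pow_eq_one.mp hzo.dvd)
    by_contra ht
    refine hZns ((c + (Z : M₂).det) / (Z : M₂).trace) ?_
    have hCH : (Z : M₂) * Z = (Z : M₂).trace • (Z : M₂) - (Z : M₂).det • 1 := by
      ext a b
      fin_cases a <;> fin_cases b <;>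
        simp [Matrix.mul_apply, Fin.sum_univ_two, Matrix.det_fin_two, Matrix.trace_fin_two] <;> ring
    rw [Units.val_mul, hCH, sub_eq_iff_eq_add, ← add_smul] at hc
    rw [div_eq_inv_mul, ← smul_smul, ← hc, smul_smul, inv_mul_cancel₀ ht, one_smul]
  have hsign : ∀ g : GL (Fin 2) K, π g * z = z * π g →
      (g : M₂) * Z = Z * (g : M₂) ∨ (g : M₂) * Z = -((Z : M₂) * (g : M₂)) := by
    intro g hg
    rw [← hZ, ← map_mul, ← map_mul] at hg
    obtain ⟨c, hc⟩ := (hscalar ((Z * g)⁻¹ * (g * Z))).mp (by rw [map_mul, map_inv, hg, inv_mul_cancel])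
    have e : (g : M₂) * Z = c • ((Z : M₂) * g) := by
      have := congrArg (fun X => ((Z * g : GL (Fin 2) K) : M₂) * X) hc
      simp only [← Units.val_mul, mul_inv_cancel_left, mul_smul_comm, mul_one] at this
      simpa using this
    have hd := congrArg Matrix.det e
    rw [Matrix.det_smul, Matrix.det_mul, Matrix.det_mul, Fintype.card_fin, mul_comm (g : M₂).det] at hd
    have hcc : c * c = 1 := by
      have hne : (Z : M₂).det * (g : M₂).det ≠ 0 := mul_ne_zero Z.det_ne_zero g.det_ne_zero
      exact mul_right_cancel₀ hne (by rw [one_mul, ← pow_two]; exact hd.symm)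
    rcases mul_self_eq_one_iff.mp hcc with h | h
    · exact Or.inl (by rw [e, h, one_smul])
    · exact Or.inr (by rw [e, h, neg_smul, one_smul])
  set P := (Subgroup.centralizer ({z} : Set (GL (Fin 2) K ⧸ Subgroup.center (GL (Fin 2) K)))).comap π with hPdef
  obtain ⟨hb1, hb2⟩ := card_signed_centralizer hZns hZtr h2 P fun g hg =>
    hsign g (Subgroup.mem_centralizer_singleton_iff.mp hg)
  have hPc : Nat.card P = Nat.card (Subgroup.centralizer ({z} : Set (GL (Fin 2) K ⧸ Subgroup.center (GL (Fin 2) K)))) * (q - 1) := by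
    have h1 := Subgroup.card_mul_index P
    rw [hPdef, Subgroup.index_comap_of_surjective _ (QuotientGroup.mk'_surjective _), ← hPdef] at h1
    have h2' := Subgroup.card_mul_index π.ker
    rw [Subgroup.index_ker, MonoidHom.range_eq_top.mpr (QuotientGroup.mk'_surjective _), Subgroup.card_top, hker,
      ← h1, ← Subgroup.card_mul_index (Subgroup.centralizer ({z} : Set (GL (Fin 2) K ⧸ Subgroup.center (GL (Fin 2) K))))] at h2'
    exact Nat.eq_of_mul_eq_mul_right (Nat.pos_of_ne_zero Subgroup.index_ne_zero_of_finite) (by rw [← h2']; ring)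
  have hle : (H : Subgroup (GL (Fin 2) K ⧸ Subgroup.center (GL (Fin 2) K))) ≤ Subgroup.centralizer ({z} : Set (GL (Fin 2) K ⧸ Subgroup.center (GL (Fin 2) K))) := fun h hh =>
    Subgroup.mem_centralizer_singleton_iff.mpr (hzH h hh)
  have hge := Subgroup.card_le_of_le hle
  rw [hH] at hge
  have hnsq : ¬ IsSquare (-(Z : M₂).det) := by
    intro hs
    have := hb2 hs
    rw [hPc, pow_two, ← mul_assoc] at this
    have := Nat.le_of_mul_le_mul_right this (by omega)
    omega
  have hCeq : (H : Subgroup (GL (Fin 2) K ⧸ Subgroup.center (GL (Fin 2) K))) = Subgroup.centralizer ({z} : Set (GL (Fin 2) K ⧸ Subgroup.center (GL (Fin 2) K))) := by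
    refine Subgroup.eq_of_le_of_card_ge hle ?_
    rw [hH]
    rw [hPc, show Fintype.card K ^ 2 - 1 = (q + 1) * (q - 1) by rw [← Nat.sq_sub_sq, one_pow], ← mul_assoc] at hb1
    exact Nat.le_of_mul_le_mul_right hb1 (by omega)
  intro hbot
  set z' := x * z * x⁻¹ with hz'
  have hzmem : z ∈ (H : Subgroup (GL (Fin 2) K ⧸ Subgroup.center (GL (Fin 2) K))) := SetLike.coe_mem _
  by_cases hzz : z' = z
  · have hmem : z ∈ MulAut.conj x • (H : Subgroup (GL (Fin 2) K ⧸ Subgroup.center (GL (Fin 2) K))) :=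
      (Subgroup.mem_smul_pointwise_iff_exists _ _ _).mpr ⟨z, hzmem, by simpa using hzz⟩
    have : z ∈ (⊥ : Subgroup (GL (Fin 2) K ⧸ Subgroup.center (GL (Fin 2) K))) := hbot ▸ ⟨hzmem, hmem⟩
    rw [Subgroup.mem_bot] at this
    rw [this, orderOf_one] at hzo
    omega
  obtain ⟨X, hX⟩ := QuotientGroup.mk'_surjective (Subgroup.center (GL (Fin 2) K)) x
  change π X = x at hX
  set Z' : GL (Fin 2) K := X * Z * X⁻¹ with hZ'def
  have hZ' : π Z' = z' := by rw [map_mul, map_mul, map_inv, hX, hZ]
  have htr' : (Z' : M₂).trace = 0 := by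
    rw [hZ'def, Units.val_mul, Units.val_mul, Matrix.trace_mul_cycle, ← Units.val_mul, inv_mul_cancel, Units.val_one,
      one_mul, hZtr]
  have hne : ∀ c : K, (Z' : M₂) ≠ c • (Z : M₂) := fun c hc => hzz (by
    have hc0 : c ≠ 0 := fun e => Z'.ne_zero (by rw [hc, e, zero_smul])
    rw [← hZ', ← hZ, ← mul_inv_eq_one, ← map_inv, ← map_mul, hscalar]
    refine ⟨c, ?_⟩
    rw [Units.val_mul, hc, smul_mul_assoc, ← Units.val_mul, mul_inv_cancel, Units.val_one])
  have hdetT := det_commutator_ne_zero h2 hZtr htr' hnsq Z'.det_ne_zero hne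
  set T := Matrix.GeneralLinearGroup.mkOfDetNeZero _ hdetT with hTdef
  have hTv : (T : M₂) = (Z : M₂) * Z' - Z' * Z := rfl
  have hcomm : ∀ W : GL (Fin 2) K, (T : M₂) * W = -((W : M₂) * T) → π T * π W = π W * π T := by
    intro W hW
    rw [← map_mul, ← map_mul, ← mul_inv_eq_one, ← map_inv, ← map_mul, hscalar]
    refine ⟨-1, ?_⟩
    rw [Units.val_mul, Units.val_mul, hW, neg_mul, ← Units.val_mul W T, ← Units.val_mul, mul_inv_cancel, Units.val_one,
      neg_smul, one_smul]
  have hc1 : π T ∈ (H : Subgroup (GL (Fin 2) K ⧸ Subgroup.center (GL (Fin 2) K))) := by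
    rw [hCeq, Subgroup.mem_centralizer_singleton_iff, ← hZ]
    refine hcomm Z ?_
    rw [hTv, sub_mul, mul_sub, mul_assoc (Z' : M₂), ← mul_assoc (Z : M₂) Z, sq_of_trace_zero hZtr, mul_smul_comm,
      mul_one, smul_mul_assoc, one_mul, mul_assoc]
    abel
  have hc2 : π T ∈ MulAut.conj x • (H : Subgroup (GL (Fin 2) K ⧸ Subgroup.center (GL (Fin 2) K))) := by
    rw [Subgroup.mem_smul_pointwise_iff_exists]
    refine ⟨x⁻¹ * π T * x, ?_, by simp [mul_assoc]⟩
    have h' : π T * z' = z' * π T := by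
      rw [← hZ']
      refine hcomm Z' ?_
      rw [hTv, sub_mul, mul_sub, mul_assoc (Z : M₂), ← mul_assoc (Z' : M₂) Z', sq_of_trace_zero htr', mul_smul_comm,
        mul_one, smul_mul_assoc, one_mul, mul_assoc]
      abel
    rw [hCeq, Subgroup.mem_centralizer_singleton_iff]
    rw [hz'] at h'
    calc x⁻¹ * π T * x * z = x⁻¹ * (π T * (x * z * x⁻¹)) * x := by group
      _ = z * (x⁻¹ * π T * x) := by rw [h']; group
  have h1 : π T ∈ (⊥ : Subgroup (GL (Fin 2) K ⧸ Subgroup.center (GL (Fin 2) K))) := hbot ▸ ⟨hc1, hc2⟩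
  rw [Subgroup.mem_bot] at h1
  obtain ⟨c, hc⟩ := (hscalar T).mp h1
  have h0 : c = 0 := by
    have e := congrArg Matrix.trace hc
    rw [hTv, Matrix.trace_sub, Matrix.trace_mul_comm, sub_self, Matrix.trace_smul, Matrix.trace_one, Fintype.card_fin,
      smul_eq_mul] at e
    exact (mul_eq_zero.mp e.symm).resolve_right (by exact_mod_cast h2)
  exact T.ne_zero (by rw [hc, h0, zero_smul])

end Cfsg.Agent.Dickson
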