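import Cfsg.Agent.Lib.Classical.OrthMinusOut

/-!
The elliptic model as an even space: discriminant, a similitude of multiplier `-1`, and the
Frobenius semisimilarity read off the quadratic extension.
-/

set_option autoImplicit false
set_option linter.unusedSectionVars false
set_option quotPrecheck false

namespace Cfsg.Agent.Classical.OrthAut

open Matrix Module Cfsg.Agent.Classical.Descent

universe u

variable {F : Type u} [Field F] [Fintype F] {m : ℕ} {a b : F}

local notation "ιm" => ((Fin m ⊕ Fin m) ⊕ Fin 2)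
local notation "Mn" => Matrix ιm ιm F
local notation "Qm" => qfMinus m F a b
local notation "PQ" => POmega F ⇑Qm

theorem evenSpace_minus (hm : 3 ≤ m) (hab : Aniso F a b) : EvenSpace Qm (m + 1) :=
  ⟨nondegenerate_qfMinus m hab, tri_qfMinus hm a b, good_qfMinus hm hab, card_iota,
    exists_semisimilarity_minus hab, fun _ hc => exists_similitude_minus hab hc⟩

theorem gramD_minus (hm : 3 ≤ m) (hab : Aniso F a b) :
    ((evenSpace_minus hm hab).gramD : F) = (-1) ^ (m + 1) * (a ^ 2 - 4 * b) := by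
  rw [EvenSpace.gramD, Units.val_mk0, gramDet_qfMinus]
  ring

theorem disc_nonsquare (h2 : (2 : F) ≠ 0) (hab : Aniso F a b) : ¬ IsSquare (a ^ 2 - 4 * b) := by
  rintro ⟨r, hr⟩
  refine one_ne_zero (hab ((r - a) / 2) 1 ?_).2
  field_simp
  linear_combination -hr

theorem isSquare_gramD (hm : 3 ≤ m) (hab : Aniso F a b) (h2 : (2 : F) ≠ 0) :
    IsSquare ((evenSpace_minus hm hab).gramD : F) ↔ ¬ IsSquare (-1 : F) ∧ Odd (m + 1) := by
  have hd := disc_nonsquare h2 hab
  rw [gramD_minus hm hab]
  rcases Nat.even_or_odd (m + 1) with he | ho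
  · rw [he.neg_one_pow, one_mul]
    exact iff_of_false hd fun h => Nat.not_odd_iff_even.2 he h.2
  · rw [ho.neg_one_pow, and_iff_left ho]
    refine ⟨fun h h' => hd ?_, fun h => isSquare_of_two_nonsquares h2 h hd⟩
    simpa using h'.mul h

theorem exists_neg_similitude (hab : Aniso F a b) (hm1 : ¬ IsSquare (-1 : F)) :
    ∃ X : GL ιm F, (∀ v, Qm ((X : Mn) *ᵥ v) = (-1) * Qm v) ∧ (X : Mn) * X = -1 := by
  obtain ⟨p, hp⟩ := CharP.exists F
  haveI : Fact p.Prime := ⟨CharP.char_is_prime F p⟩
  obtain ⟨u, w, hw⟩ := CharP.sq_add_sq F p (-1)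
  have hw' : (u : F) ^ 2 + (w : F) ^ 2 = -1 := by exact_mod_cast hw
  have h01 : Aniso F 0 1 := fun z₁ z₂ h => by
    by_cases h0 : z₂ = 0
    · subst h0; exact ⟨by simpa using h, rfl⟩
    · exact absurd ⟨z₁ / z₂, by field_simp; linear_combination -h⟩ hm1
  let L : (ιm → F) →ₗ[F] (ιm → F) :=
    { toFun := fun v => Sum.elim (Sum.elim (fun i => -v (Sum.inl (Sum.inr i))) fun i => v (Sum.inl (Sum.inl i)))
        ![(u : F) * v (Sum.inr 0) + (w : F) * v (Sum.inr 1), (w : F) * v (Sum.inr 0) - (u : F) * v (Sum.inr 1)]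
      map_add' := fun x y => by
        funext i; rcases i with (i | i) | i <;> [(simp; ring); simp; (fin_cases i <;> simp <;> ring)]
      map_smul' := fun c x => by
        funext i; rcases i with (i | i) | i <;> [simp; simp; (fin_cases i <;> simp <;> ring)] }
  have hLL : ∀ v, L (L v) = -v := fun v => by
    funext i
    rcases i with (i | i) | i
    · simp [L]
    · simp [L]
    · fin_cases i
      · simp [L]; linear_combination v (Sum.inr 0) * hw'
      · simp [L]; linear_combination v (Sum.inr 1) * hw'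
  have hLinj : Function.Injective L := fun x y h => neg_injective (by rw [← hLL, ← hLL, h])
  obtain ⟨δ, hδ⟩ := exists_gl_of_linearEquiv (LinearEquiv.ofInjectiveEndo L hLinj)
  have hQ0 : ∀ v, qfMinus m F 0 1 (L v) = (-1) * qfMinus m F 0 1 v := fun v => by
    simp only [qfMinus_apply, quadFormMinus, L, LinearMap.coe_mk, AddHom.coe_mk, Sum.elim_inl, Sum.elim_inr,
      Matrix.cons_val_zero, Matrix.cons_val_one, neg_mul, Finset.sum_neg_distrib]
    rw [Finset.sum_congr rfl (fun i _ => mul_comm (v (Sum.inl (Sum.inr i))) _)]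
    linear_combination (v (Sum.inr 0) ^ 2 + v (Sum.inr 1) ^ 2) * hw'
  obtain ⟨g, hg⟩ := minus_unique (qfMinus m F 0 1) Qm (nondegenerate_qfMinus m h01)
    (nondegenerate_qfMinus m hab) (not_half_qfMinus h01) (not_half_qfMinus hab)
  refine ⟨g * δ * g⁻¹, fun v => ?_, ?_⟩
  · rw [Units.val_mul, Units.val_mul, ← Matrix.mulVec_mulVec, ← Matrix.mulVec_mulVec, hg, hδ,
      LinearEquiv.coe_ofInjectiveEndo, hQ0, ← hg, Matrix.mulVec_mulVec, Units.mul_inv, Matrix.one_mulVec]
  · have hdd : (δ : Mn) * δ = -1 := Matrix.ext_iff_mulVec.2 fun v => by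
      rw [← Matrix.mulVec_mulVec, hδ, hδ, LinearEquiv.coe_ofInjectiveEndo, hLL, Matrix.neg_mulVec,
        Matrix.one_mulVec]
    rw [Units.val_mul, Units.val_mul]
    calc (g : Mn) * δ * ((g⁻¹ : GL ιm F) : Mn) * ((g : Mn) * δ * ((g⁻¹ : GL ιm F) : Mn))
        = (g : Mn) * ((δ : Mn) * δ) * ((g⁻¹ : GL ιm F) : Mn) := by
          simp only [Matrix.mul_assoc]
          rw [← Matrix.mul_assoc ((g⁻¹ : GL ιm F) : Mn) (g : Mn), Units.inv_mul, Matrix.one_mul]
      _ = -1 := by rw [hdd, Matrix.mul_neg, Matrix.mul_one, Matrix.neg_mul, Units.mul_inv]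

/-- The binary substitution `(z₁, z₂) ↦ (z₁ - u z₂, v z₂)`. -/
def binMap (u v : F) (x : ιm → F) : ιm → F :=
  Sum.elim (fun i => x (Sum.inl i)) ![x (Sum.inr 0) - u * x (Sum.inr 1), v * x (Sum.inr 1)]

set_option maxHeartbeats 1600000 in
/-- In characteristic two the Frobenius semisimilarity generates `Out`. -/
theorem out_cyclic_two (hm : 3 ≤ m) (hab : Aniso F a b) (h2 : (2 : F) = 0) {f : ℕ} (hf : 1 ≤ f)
    (hF : Fintype.card F = 2 ^ f) : IsCyclic (Out PQ) ∧ Nat.card (Out PQ) = 2 * f := by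
  haveI : Fact (Nat.Prime 2) := ⟨Nat.prime_two⟩
  haveI : CharP F 2 := CharTwo.of_one_ne_zero_of_two_eq_zero one_ne_zero h2
  have H := evenSpace_minus hm hab
  obtain ⟨-, hRc⟩ := PSLAut.card_ringAut hF
  have hcard : Nat.card (Out PQ) = 2 * f := hRc ▸ H.card_out (H.card_mulAut_two h2)
  refine ⟨?_, hcard⟩
  obtain ⟨K, _, _, hK⟩ := exists_quadExt hab
  obtain ⟨t, ht⟩ := exists_root hab K hK
  haveI : CharP K 2 := charP_of_injective_algebraMap (algebraMap F K).injective 2
  have h2K : (2 : K) = 0 := CharTwo.two_eq_zero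
  set j := algebraMap F K
  have hnt : ∀ r, j r ≠ t := fun r hr => no_root hab r (j.injective (by
    rw [map_add, map_add, map_pow, map_mul, map_zero, hr]; exact ht))
  have huniq : ∀ {u v u' v' : F}, j u + j v * t = j u' + j v' * t → u = u' ∧ v = v' := by
    intro u v u' v' h
    by_cases hv : v = v'
    · subst hv
      exact ⟨j.injective (add_right_cancel h), rfl⟩
    · exfalso
      refine hnt ((u' - u) / (v - v')) ?_
      have h1 : j (v - v') * t = j (u' - u) := by rw [map_sub, map_sub]; linear_combination h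
      rw [map_div₀, ← h1, mul_div_cancel_left₀]
      exact (map_ne_zero j).2 (sub_ne_zero.2 hv)
  let σ : RingAut F := frobeniusEquiv F 2
  have hσ : ∀ x : F, σ x = x ^ 2 := fun x => by simp [σ, frobenius_def]
  have ha : a ≠ 0 := fun h0 => by
    obtain ⟨r, hr⟩ := FiniteField.isSquare_of_char_two (ringChar.eq F 2) b
    exact no_root hab r (by rw [h0, hr]; linear_combination r * r * h2)
  -- the Frobenius semisimilarity
  obtain ⟨g₁, hg₁, hg₁x⟩ : ∃ g : GL ιm F, IsSemisimilarityPair (⇑Qm) g σ ∧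
      ∀ x, (g : Mn) *ᵥ x = binMap b a x := by
    let L : (ιm → F) →ₗ[F] (ιm → F) :=
      { toFun := binMap b a
        map_add' := fun x y => by
          funext i; rcases i with i | i <;> [simp [binMap]; (fin_cases i <;> simp [binMap] <;> ring)]
        map_smul' := fun c x => by
          funext i; rcases i with i | i <;> [simp [binMap]; (fin_cases i <;> simp [binMap] <;> ring)] }
    have hL : Function.Injective L := fun x y h => by
      have h1 : x (Sum.inr 1) = y (Sum.inr 1) := by
        simpa [L, binMap, ha] using congrFun h (Sum.inr 1)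
      funext i; rcases i with i | i
      · simpa [L, binMap] using congrFun h (Sum.inl i)
      · fin_cases i
        · simpa [L, binMap, h1] using congrFun h (Sum.inr 0)
        · exact h1
    obtain ⟨g, hg⟩ := exists_gl_of_linearEquiv (LinearEquiv.ofInjectiveEndo L hL)
    refine ⟨g, ⟨1, fun x => ?_⟩, fun x => by rw [hg, LinearEquiv.coe_ofInjectiveEndo]; rfl⟩
    rw [hg, LinearEquiv.coe_ofInjectiveEndo, Units.val_one, one_mul]
    have hs : σ (∑ i, x (Sum.inl (Sum.inl i)) * x (Sum.inl (Sum.inr i))) =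
        ∑ i, σ (x (Sum.inl (Sum.inl i))) * σ (x (Sum.inl (Sum.inr i))) := by
      rw [map_sum]; simp only [map_mul]
    simp only [qfMinus_apply, quadFormMinus, L, LinearMap.coe_mk, AddHom.coe_mk, binMap, Sum.elim_inl,
      Sum.elim_inr, Matrix.cons_val_zero, Matrix.cons_val_one, map_add, map_mul, map_pow, hs]
    rw [hσ a, hσ b]
    generalize σ (x (Sum.inr 0)) = X, σ (x (Sum.inr 1)) = Y
    linear_combination (-b * X * Y) * h2
  set τ := (poSemi hg₁ : MulAut PQ)
  have hiter : ∀ k : ℕ, ∃ (g : GL ιm F) (h : IsSemisimilarityPair (⇑Qm) g (σ ^ k : RingAut F)) (u v : F),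
      τ ^ k = poSemi h ∧ j u + j v * t = t ^ (2 ^ k) ∧ ∀ x, (g : Mn) *ᵥ x = binMap u v x := by
    intro k
    induction k with
    | zero =>
      refine ⟨1, (pow_zero σ).symm ▸ isPair_one, 0, 1, ?_, by simp, fun x => ?_⟩
      · rw [pow_zero, ← poSemi_one (Q := Qm)]
        exact poSemi_congr _ _ rfl (pow_zero σ).symm
      · rw [Units.val_one, Matrix.one_mulVec]
        funext i; rcases i with i | i <;> [simp [binMap]; (fin_cases i <;> simp [binMap])]
    | succ k ih =>
      obtain ⟨g, h, u, v, hp, ht', hg⟩ := ih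
      have h' : IsSemisimilarityPair (⇑Qm) (g₁ * gmap σ g) (σ * σ ^ k : RingAut F) := isPair_mul hg₁ h
      refine ⟨g₁ * gmap σ g, (pow_succ' σ k).symm ▸ h', σ u + σ v * b, σ v * a, ?_, ?_, fun x => ?_⟩
      · rw [pow_succ', hp, poSemi_mul hg₁ h]
        exact poSemi_congr _ _ rfl (pow_succ' σ k).symm
      · rw [pow_succ, pow_mul, ← ht', hσ, hσ, map_add, map_mul, map_mul, map_pow, map_pow]
        linear_combination -(j v ^ 2) * ht + (j v ^ 2 * (j b + j a * t) - j u * j v * t) * h2K
      · obtain ⟨y, rfl⟩ : ∃ y : ιm → F, σ ∘ y = x := ⟨σ.symm ∘ x, funext fun i => σ.apply_symm_apply _⟩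
        rw [Units.val_mul, ← Matrix.mulVec_mulVec]
        show (g₁ : Mn) *ᵥ ((g : Mn).map σ *ᵥ (σ ∘ y)) = _
        rw [map_comp_mulVec, hg, hg₁x]
        funext i
        rcases i with i | i
        · simp [binMap]
        · fin_cases i <;> simp [binMap] <;> ring
  obtain ⟨g, h, u, v, hp, htk, hg⟩ := hiter f
  have hσf : σ ^ f = 1 := RingEquiv.ext fun x => by
    have hit : ∀ k : ℕ, (σ ^ k : RingAut F) x = x ^ (2 ^ k) := by
      intro k
      induction k with
      | zero => simp
      | succ k ih => rw [pow_succ', RingAut.mul_apply, ih, hσ, ← pow_mul, pow_succ]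
    rw [hit, ← hF, FiniteField.pow_card]
    rfl
  have huv : u = a ∧ v = 1 := by
    have hq : t ^ (2 ^ f) ≠ t := fun he => by
      classical
      have hdeg : (Polynomial.X ^ (2 ^ f) - Polynomial.X : Polynomial K).natDegree = 2 ^ f :=
        FiniteField.X_pow_card_sub_X_natDegree_eq K (Nat.one_lt_two_pow (by omega))
      have hsub : (insert t (Finset.univ.image j)).val ⊆
          (Polynomial.X ^ (2 ^ f) - Polynomial.X : Polynomial K).roots := fun y hy => by
        rw [Polynomial.mem_roots (FiniteField.X_pow_card_sub_X_ne_zero K (Nat.one_lt_two_pow (by omega)))]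
        rw [Finset.mem_val, Finset.mem_insert, Finset.mem_image] at hy
        rcases hy with rfl | ⟨r, -, rfl⟩
        · simp [he]
        · simp [← map_pow, ← hF, FiniteField.pow_card]
      have := Polynomial.card_le_degree_of_subset_roots hsub
      rw [hdeg, Finset.card_insert_of_notMem, Finset.card_image_of_injective _ j.injective, Finset.card_univ,
        hF] at this
      · omega
      · simp only [Finset.mem_image, Finset.mem_univ, true_and, not_exists]
        exact hnt
    have hroot : (t ^ (2 ^ f)) ^ 2 + j a * t ^ (2 ^ f) + j b = 0 := by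
      have e : (t ^ 2 + j a * t + j b) ^ (2 ^ f) = 0 := by rw [ht]; exact zero_pow (by positivity)
      rwa [add_pow_char_pow, add_pow_char_pow, mul_pow, ← map_pow, ← map_pow, ← hF, FiniteField.pow_card,
        FiniteField.pow_card, hF, ← pow_mul, mul_comm 2, pow_mul] at e
    have hz : (t ^ (2 ^ f) - t) * (t ^ (2 ^ f) + t + j a) = 0 := by linear_combination hroot - ht
    refine huniq ?_
    rw [htk, map_one, one_mul]
    linear_combination (mul_eq_zero.1 hz).resolve_left (sub_ne_zero.2 hq) - (t + j a) * h2K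
  obtain ⟨hua, hva⟩ := huv
  rw [hua, hva] at hg
  -- the f-th power is a reflection
  set w : ιm → F := Sum.elim 0 ![a, 0] with hwdef
  have hw : Qm w = a ^ 2 := by simp [qfMinus_apply, quadFormMinus, w]
  have hw0 : Qm w ≠ 0 := by rw [hw]; exact pow_ne_zero 2 ha
  have hgr : (g : GL ιm F) = (refl hw0 : isometryGroup F ⇑Qm) := Units.ext (Matrix.ext_iff_mulVec.2 fun x => by
    show (g : Mn) *ᵥ x = ogVal (refl hw0) *ᵥ x
    rw [hg, refl_apply, hw, polar_qfMinus]
    funext i
    rcases i with i | i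
    · simp [binMap, w]
    · fin_cases i
      · simp [binMap, w]
        field_simp
        linear_combination (-x (Sum.inr 0)) * h2
      · simp [binMap, w])
  have hτf : τ ^ f = ogHom Qm (refl hw0) := by
    rw [hp, ogHom_apply]
    exact poSemi_congr _ _ hgr hσf
  set mk := QuotientGroup.mk' (Inn PQ)
  have hne : mk τ ^ f ≠ 1 := fun he => by
    rw [← map_pow, hτf] at he
    exact H.ogHom_not_inn (fun g => H.omega_iff_two h2 g) (H.dick_negOne_two h2) (dick_refl H.nd hw0)
      ((QuotientGroup.eq_one_iff _).1 he)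
  have hσk : ∀ k, σ ^ k = 1 → f ∣ k := fun k hk => by
    by_contra hnd
    have hr : σ ^ (k % f) = 1 := by
      rwa [← Nat.mod_add_div k f, pow_add, pow_mul, hσf, one_pow, mul_one] at hk
    have hpos : 0 < k % f := Nat.pos_of_ne_zero fun h0 => hnd (Nat.dvd_of_mod_eq_zero h0)
    obtain ⟨g, hg⟩ := IsCyclic.exists_generator (α := Fˣ)
    have hgo : orderOf g = 2 ^ f - 1 := by
      rw [orderOf_eq_card_of_forall_mem_zpowers hg, Nat.card_units, Nat.card_eq_fintype_card, hF]
    have hit : ∀ j : ℕ, (σ ^ j : RingAut F) (g : F) = (g : F) ^ (2 ^ j) := by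
      intro j
      induction j with
      | zero => simp
      | succ j ih => rw [pow_succ', RingAut.mul_apply, ih, hσ, ← pow_mul, pow_succ]
    have hle : 1 < 2 ^ (k % f) := Nat.one_lt_two_pow hpos.ne'
    have h1 : g ^ (2 ^ (k % f) - 1) = 1 := mul_right_cancel (b := g) (Units.ext (by
      rw [← pow_succ, Nat.sub_add_cancel hle.le, one_mul, Units.val_pow_eq_pow_val, ← hit, hr]; rfl))
    have h5 := Nat.le_of_dvd (by omega) (hgo ▸ orderOf_dvd_of_pow_eq_one h1)
    have := Nat.pow_lt_pow_right (show 1 < 2 by norm_num) (Nat.mod_lt k (by omega : f > 0))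
    omega
  have hfd : f ∣ orderOf (mk τ) := hσk _ (by
    have h1 := congrArg (fun o => (H.outInv o).1.right) (pow_orderOf_eq_one (mk τ))
    simp only [map_pow, map_one] at h1
    rw [show H.outInv (mk τ) = pinv (m + 1) hg₁ from H.invHom_poSemi hg₁] at h1
    have h2' := map_pow (SemidirectProduct.rightHom.comp (MonoidHom.fst (Tw F) ℤˣ)) (pinv (m + 1) hg₁)
      (orderOf (mk τ))
    exact h2'.symm.trans h1)
  have h2f : mk τ ^ (2 * f) = 1 := by
    rw [mul_comm, pow_mul, ← map_pow, hτf, ← map_pow, sq, ← map_mul, refl_mul_self, map_one, map_one]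
  obtain ⟨c, hc⟩ := hfd
  have hdvd := orderOf_dvd_of_pow_eq_one h2f
  rw [hc, mul_comm 2 f] at hdvd
  rcases (Nat.dvd_prime Nat.prime_two).1 (Nat.dvd_of_mul_dvd_mul_left (by omega) hdvd) with rfl | rfl
  · rw [mul_one] at hc
    exact absurd (by rw [← hc, pow_orderOf_eq_one]) hne
  · exact isCyclic_of_orderOf_eq_card (mk τ) (by rw [hc, hcard, mul_comm])

end Cfsg.Agent.Classical.OrthAut

namespace Cfsg.Agent.Classical.OrthAut

variable {F : Type*} [Field F] [Fintype F]

theorem two_ne_zero_of_card {p f : ℕ} [Fact p.Prime] (hF : Fintype.card F = p ^ f) (hp : p ≠ 2) : (2 : F) ≠ 0 := by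
  haveI : CharP F p := charP_of_card_eq_prime_pow hF
  intro h
  have h' : ((2 : ℕ) : F) = 0 := by exact_mod_cast h
  rw [CharP.cast_eq_zero_iff F p] at h'
  exact hp ((Nat.prime_dvd_prime_iff_eq Fact.out Nat.prime_two).1 h')

theorem isSquare_gramD_iff {m : ℕ} {a b : F} (hm : 3 ≤ m) (hab : Aniso F a b) {p f : ℕ} [Fact p.Prime]
    (hF : Fintype.card F = p ^ f) (hp : p ≠ 2) :
    IsSquare ((evenSpace_minus hm hab).gramD : F) ↔ p ^ f % 4 = 3 ∧ Odd (m + 1) := by
  rw [isSquare_gramD hm hab (two_ne_zero_of_card hF hp), FiniteField.isSquare_neg_one_iff, hF]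
  simp

theorem odd_exp {p f : ℕ} (h : p ^ f % 4 = 3) : Odd f := by
  by_contra hf
  obtain ⟨k, hk⟩ := Nat.not_odd_iff_even.1 hf
  rw [hk, pow_add, Nat.mul_mod] at h
  have : p ^ k % 4 = 0 ∨ p ^ k % 4 = 1 ∨ p ^ k % 4 = 2 ∨ p ^ k % 4 = 3 := by omega
  rcases this with e | e | e | e <;> rw [e] at h <;> simp at h

end Cfsg.Agent.Classical.OrthAut
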