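import Cfsg.Agent.Lib.Classical.OrthSingular

/-!
Reflections generate `O(Q)` in every dimension, except possibly dimension four over the field of two
elements.
-/

set_option autoImplicit false
set_option linter.unusedSectionVars false
set_option quotPrecheck false

namespace Cfsg.Agent.Classical.OrthAut

open Matrix Module

variable {F : Type*} [Field F] {ι : Type} [Fintype ι] [DecidableEq ι] {Q : QuadraticForm F (ι → F)}

local notation "Mn" => Matrix ι ι F
local notation "B" => QuadraticMap.polar ⇑Q
local notation "OG" => isometryGroup F ⇑Q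

/-- Not dimension four over the field of two elements. -/
def GenQ (F : Type*) [Field F] (ι : Type) [Fintype ι] : Prop :=
  (∃ α : F, α ≠ 0 ∧ α ≠ 1) ∨ Fintype.card ι ≠ 4

theorem genQ_of_card [Fintype F] (h : Fintype.card F ≠ 2 ∨ Fintype.card ι ≠ 4) : GenQ F ι := by
  classical
  refine h.imp_left fun h2 => ?_
  by_contra hcon
  push Not at hcon
  have hsub : (Finset.univ : Finset F) ⊆ {0, 1} := fun x _ => by
    by_cases hx : x = 0 <;> simp [hx, hcon x]
  have h3 := Finset.card_le_card hsub
  rw [Finset.card_univ, Finset.card_pair zero_ne_one] at h3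
  have := Fintype.one_lt_card (α := F)
  omega

variable (hQ : (QuadraticMap.polarBilin Q).Nondegenerate)
include hQ

/-- A long root element is a product of reflections. -/
theorem root_mem_reflGroup_gen (hG : GenQ F ι) {a b : ι → F} (h : TS Q a b) :
    eOG h.ok ∈ reflGroup Q := by
  have aniso : ∀ w, B a w = 0 → Q w ≠ 0 → ∀ hok : OK Q a w, eOG hok ∈ reflGroup Q := by
    intro w haw hw hok
    have hs : Q (w + Q w • a) ≠ 0 := by
      rw [quad_add_smul, h.1, QuadraticMap.polar_comm _ w a, haw]; simpa using hw
    rw [show eOG hok = refl hw * refl hs from ogVal_ext (by rw [eOG_val, eMat_eq_refl h.1 haw hw hs])]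
    exact mul_mem (Subgroup.subset_closure ⟨_, hw, rfl⟩) (Subgroup.subset_closure ⟨_, hs, rfl⟩)
  have split : ∀ w₁ w₂, B a w₁ = 0 → Q w₁ ≠ 0 → B a w₂ = 0 → Q w₂ ≠ 0 → w₁ + w₂ = b →
      eOG h.ok ∈ reflGroup Q := by
    intro w₁ w₂ h1 q1 h2 q2 hsum
    have k1 : OK Q a w₁ := ⟨h.1, h1⟩
    have k2 : OK Q a w₂ := ⟨h.1, h2⟩
    rw [show eOG h.ok = eOG k1 * eOG k2 from ogVal_ext (by
      rw [ogVal_mul, eOG_val, eOG_val, eOG_val, eMat_mul k1 k2, hsum])]
    exact mul_mem (aniso _ h1 q1 k1) (aniso _ h2 q2 k2)
  obtain ⟨f, hfa, hfb⟩ := exists_polar2 hQ h.2.2.2 1 0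
  set f' := f + (-Q f) • a
  have P : Pair Q a f' := ⟨h.1, by rw [quad_add_smul, h.1, QuadraticMap.polar_comm, hfa]; ring,
    by rw [QuadraticMap.polar_add_right, hfa, QuadraticMap.polar_smul_right, polar_self' h.1]; simp⟩
  have hbp : Perp Q a f' b := ⟨h.2.2.1, by
    rw [QuadraticMap.polar_add_left, QuadraticMap.polar_comm _ f b, hfb, QuadraticMap.polar_smul_left,
      h.2.2.1]
    simp⟩
  obtain ⟨b', Pb, hb'⟩ := exists_partner hQ P hbp h.right_ne h.2.1
  have hab : B a b = 0 := h.2.2.1
  have hab' : B a b' = 0 := hb'.1
  rcases Classical.em (∃ z, Perp Q a f' z ∧ Perp Q b b' z ∧ Q z ≠ 0) with ⟨z, hz1, hz2, hz⟩ | hno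
  · refine split (b + z) ((-1 : F) • z) ?_ ?_ ?_ ?_ (by module)
    · rw [QuadraticMap.polar_add_right, hab, hz1.1, add_zero]
    · rw [quad_add b z, h.2.1, hz2.1]; simpa using hz
    · rw [QuadraticMap.polar_smul_right, hz1.1, smul_zero]
    · rw [QuadraticMap.map_smul]; simpa using hz
  · rcases hG with ⟨α, hα0, hα1⟩ | hcard
    · refine split (α • b + b') ((1 - α) • b + (-1 : F) • b') ?_ ?_ ?_ ?_ (by module)
      · simp [QuadraticMap.polar_add_right, QuadraticMap.polar_smul_right, hab, hab']
      · rw [quad_lin' Pb]; simpa using hα0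
      · simp [QuadraticMap.polar_add_right, QuadraticMap.polar_smul_right, hab, hab']
      · rw [quad_lin'' Pb]; simpa [sub_eq_zero] using hα1
    · exfalso
      push Not at hno
      have hall : ∀ z, Q (proj Q b b' (proj Q a f' z)) = 0 := fun z => by
        refine hno _ ?_ (perp_proj Pb _)
        have h1 := perp_proj P z
        exact perp_proj_perp P h1 hbp hb'
      have hli : ∀ z, proj Q b b' (proj Q a f' z) = 0 := by
        intro z
        refine eq_zero_of_polar hQ fun y => ?_
        set z' := proj Q b b' (proj Q a f' z)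
        have hz1 : Perp Q a f' z' := perp_proj_perp P (perp_proj P z) hbp hb'
        have hz2 : Perp Q b b' z' := perp_proj Pb _
        have e1 : B z' y = B z' (proj Q a f' y) := (polar_proj hz1 _).symm
        have e2 : B z' (proj Q a f' y) = B z' (proj Q b b' (proj Q a f' y)) := (polar_proj hz2 _).symm
        rw [e1, e2]
        have hy1 : Perp Q a f' (proj Q b b' (proj Q a f' y)) := perp_proj_perp P (perp_proj P y) hbp hb'
        have hy2 : Perp Q b b' (proj Q b b' (proj Q a f' y)) := perp_proj Pb _
        have hz3 := hno (z' + proj Q b b' (proj Q a f' y))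
          ⟨by rw [QuadraticMap.polar_add_right, hz1.1, hy1.1, add_zero],
            by rw [QuadraticMap.polar_add_right, hz1.2, hy1.2, add_zero]⟩
          ⟨by rw [QuadraticMap.polar_add_right, hz2.1, hy2.1, add_zero],
            by rw [QuadraticMap.polar_add_right, hz2.2, hy2.2, add_zero]⟩
        rw [quad_add, hall z, hall y] at hz3
        simpa using hz3
      refine hcard ?_
      have hle : Submodule.span F (Set.range ![a, f', b, b']) = ⊤ := by
        refine eq_top_iff.2 fun z _ => ?_
        have hd := pair_decomp P z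
        have hd2 := pair_decomp Pb (proj Q a f' z)
        rw [hli z, add_zero] at hd2
        rw [hd2] at hd
        rw [hd]
        have hm : ∀ i, ![a, f', b, b'] i ∈ Submodule.span F (Set.range ![a, f', b, b']) :=
          fun i => Submodule.subset_span ⟨i, rfl⟩
        exact add_mem (add_mem (Submodule.smul_mem _ _ (hm 0)) (Submodule.smul_mem _ _ (hm 1)))
          (add_mem (Submodule.smul_mem _ _ (hm 2)) (Submodule.smul_mem _ _ (hm 3)))
      have hd := finrank_range_le_card (R := F) ![a, f', b, b']
      rw [Set.finrank, hle, finrank_top, Module.finrank_pi, Fintype.card_fin] at hd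
      have hge : 4 ≤ Fintype.card ι := by
        have hli4 : LinearIndependent F ![a, f', b, b'] := by
          refine Fintype.linearIndependent_iff.2 fun c hc => ?_
          simp [Fin.sum_univ_four] at hc
          have e0 := congrArg (B f') hc
          have e1 := congrArg (B a) hc
          have e2 := congrArg (B b') hc
          have e3 := congrArg (B b) hc
          simp [QuadraticMap.polar_add_right, QuadraticMap.polar_smul_right, polar_self' P.1,
            polar_self' P.2.1, polar_self' Pb.1, polar_self' Pb.2.1, P.2.2, Pb.2.2, hab, hab',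
            QuadraticMap.polar_comm _ f' a, QuadraticMap.polar_comm _ b' b, hbp.2, hb'.2,
            QuadraticMap.polar_comm _ b a, QuadraticMap.polar_comm _ b' a, QuadraticMap.polar_comm _ b f',
            QuadraticMap.polar_comm _ b' f'] at e0 e1 e2 e3
          intro i; fin_cases i <;> assumption
        simpa using hli4.fintype_card_le_finrank
      omega
where
  quad_lin' {b b' : ι → F} (Pb : Pair Q b b') {α : F} : Q (α • b + b') = α := by
    rw [show α • b + b' = b' + α • b by abel, quad_add_smul, Pb.1, Pb.2.1, QuadraticMap.polar_comm, Pb.2.2]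
    ring
  quad_lin'' {b b' : ι → F} (Pb : Pair Q b b') {α : F} : Q ((1 - α) • b + (-1 : F) • b') = -(1 - α) := by
    rw [quad_add_smul, QuadraticMap.map_smul, Pb.1, Pb.2.1, QuadraticMap.polar_smul_left, Pb.2.2]
    simp
  perp_proj_perp {a f' b b' x : ι → F} (_P : Pair Q a f') (hx : Perp Q a f' x) (hb : Perp Q a f' b)
      (hb' : Perp Q a f' b') : Perp Q a f' (proj Q b b' x) := by
    constructor <;>
      simp [proj, QuadraticMap.polar_add_right, QuadraticMap.polar_sub_right, QuadraticMap.polar_smul_right,
        hx.1, hx.2, hb.1, hb.2, hb'.1, hb'.2]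

/-- Reflections generate. -/
theorem reflGroup_eq_top_gen (hG : GenQ F ι) : reflGroup Q = ⊤ := by
  refine (Subgroup.eq_top_iff' _).2 fun g => ?_
  suffices h : ∀ (k : ℕ) (g : OG), Fintype.card ι - Module.finrank F (fixSub g) ≤ k → g ∈ reflGroup Q from
    h _ g le_rfl
  intro k
  induction k using Nat.strong_induction_on with
  | _ k ih =>
    intro g hk
    have hle : ∀ g' : OG, Module.finrank F (fixSub g') ≤ Fintype.card ι := fun g' =>
      (Submodule.finrank_le _).trans (Module.finrank_pi F).le
    by_cases hx : ∃ x, Q (ogVal g *ᵥ x - x) ≠ 0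
    · obtain ⟨x, hx⟩ := hx
      have hgrow : Module.finrank F (fixSub (refl hx * g)) = Module.finrank F (fixSub g) + 1 := by
        rcases finrank_fixSub_refl_mul hQ g hx with ⟨-, h⟩ | h
        · exact h
        · exfalso
          have hle' : fixSub g ≤ fixSub (refl hx * g) := fun z hz => by
            rw [mem_fixSub, ogVal_mul, ← Matrix.mulVec_mulVec, mem_fixSub.1 hz, refl_apply, ← moveLin_apply,
              polar_move_fix g x hz]
            simp
          have := Submodule.finrank_mono hle'
          omega
      have := hle (refl hx * g)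
      have hmem : refl hx * g ∈ reflGroup Q := ih (k - 1) (by omega) _ (by omega)
      rw [show g = refl hx * (refl hx * g) by rw [← mul_assoc, refl_mul_self, one_mul]]
      exact mul_mem (Subgroup.subset_closure ⟨_, hx, rfl⟩) hmem
    · push Not at hx
      by_cases h1 : g = 1
      · rw [h1]; exact one_mem _
      obtain ⟨x, hx0⟩ : ∃ x, moveLin g x ≠ 0 := by
        by_contra hcon
        push Not at hcon
        exact h1 (ogVal_ext (Matrix.ext_iff_mulVec.2 fun x => by
          rw [ogVal_one, Matrix.one_mulVec]; exact sub_eq_zero.1 (hcon x)))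
      set φ := moveLin g
      have hgφ : ∀ z, ogVal g *ᵥ z = z + φ z := fun z => by
        show _ = z + (ogVal g *ᵥ z - z); abel
      have hφ : ∀ z, Q (φ z) = 0 := fun z => hx z
      have hzφ : ∀ z, B z (φ z) = 0 := fun z => by
        have := ogVal_quad g z
        rw [hgφ, quad_add, hφ] at this
        linear_combination this
      have hφφ : ∀ y z, B (φ y) (φ z) = 0 := fun y z => by
        have := hφ (y + z)
        rw [map_add, quad_add, hφ, hφ] at this
        linear_combination this
      have hskew : ∀ y z, B y (φ z) = -B z (φ y) := fun y z => by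
        have := hzφ (y + z)
        rw [map_add, QuadraticMap.polar_add_left, QuadraticMap.polar_add_right, QuadraticMap.polar_add_right,
          hzφ, hzφ] at this
        linear_combination this
      obtain ⟨y, hy⟩ := exists_polar1 hQ hx0 1
      set a := φ x
      set b := φ y
      have hab : B a b = 0 := hφφ x y
      have hbx : B b x = -1 := by
        rw [QuadraticMap.polar_comm, hskew, QuadraticMap.polar_comm, hy]
      have hax : B a x = 0 := by rw [QuadraticMap.polar_comm]; exact hzφ x
      have hby : B b y = 0 := by rw [QuadraticMap.polar_comm]; exact hzφ y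
      have hts : TS Q a ((-1 : F) • b) := ⟨hφ x, by rw [QuadraticMap.map_smul, hφ y]; simp,
        by rw [QuadraticMap.polar_smul_right, hab]; simp, fun s t h0 => by
          have e1 := congrArg (B x) h0
          simp [QuadraticMap.polar_add_right, QuadraticMap.polar_smul_right, QuadraticMap.polar_comm _ x a,
            QuadraticMap.polar_comm _ x b, hax, hbx] at e1
          exact ⟨by simpa [e1, hx0] using h0, e1⟩⟩
      set E := eOG hts.ok
      have hfix : fixSub g ≤ fixSub (E * g) ∧ x ∈ fixSub (E * g) := by
        refine ⟨fun z hz => ?_, ?_⟩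
        · have h2 : B a z = 0 := polar_move_fix g x hz
          have h3 : B b z = 0 := polar_move_fix g y hz
          rw [mem_fixSub, ogVal_mul, ← Matrix.mulVec_mulVec, mem_fixSub.1 hz, eOG_val, eMat_mulVec, h2,
            QuadraticMap.polar_smul_left, h3]
          simp
        · rw [mem_fixSub, ogVal_mul, ← Matrix.mulVec_mulVec, eOG_val, hgφ, eMat_mulVec, hts.2.1]
          simp only [QuadraticMap.polar_add_right, QuadraticMap.polar_smul_left, hax, hbx,
            polar_self' (hφ x), QuadraticMap.polar_comm _ b a, hab, smul_eq_mul]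
          simp only [show φ x = a from rfl, mul_zero, add_zero, zero_smul, sub_zero, mul_neg, mul_one, neg_neg,
            one_smul]
          rw [QuadraticMap.polar_comm _ b a, hab, polar_self' (hφ x)]
          simp
      have hlt : fixSub g < fixSub (E * g) :=
        lt_of_le_of_ne hfix.1 fun e => hx0 (LinearMap.mem_ker.1 (e ▸ hfix.2 : x ∈ fixSub g))
      have h2 := Submodule.finrank_lt_finrank_of_lt hlt
      have h3 := hle (E * g)
      have hmem : E * g ∈ reflGroup Q := ih (k - 1) (by omega) _ (by omega)
      rw [show g = E⁻¹ * (E * g) by group]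
      exact mul_mem (inv_mem (root_mem_reflGroup_gen hQ hG hts)) hmem

theorem dick_mul_gen (hG : GenQ F ι) (g h : OG) : dick (g * h) = dick g * dick h := by
  have hg : g ∈ reflGroup Q := by rw [reflGroup_eq_top_gen hQ hG]; trivial
  revert h
  refine Subgroup.closure_induction (p := fun g _ => ∀ h, dick (g * h) = dick g * dick h) ?_ ?_ ?_ ?_ hg
  · rintro _ ⟨v, hv, rfl⟩ h
    rw [dick_refl_mul hQ h hv, dick_refl hQ hv, neg_one_mul]
  · intro h; rw [one_mul, dick_one, one_mul]
  · intro a b _ _ ha hb h
    rw [mul_assoc, ha, hb, ha, mul_assoc]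
  · intro a _ ha h
    have h1 := ha (a⁻¹ * h)
    have h2 := ha a⁻¹
    rw [mul_inv_cancel_left] at h1
    rw [mul_inv_cancel, dick_one] at h2
    rw [h1, ← mul_assoc, mul_comm (dick a⁻¹), ← h2, one_mul]

/-- The Dickson invariant as a homomorphism. -/
noncomputable def dickGen (hG : GenQ F ι) : isometryGroup F ⇑Q →* ℤˣ :=
  MonoidHom.mk' dick (dick_mul_gen hQ hG)

end Cfsg.Agent.Classical.OrthAut
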