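import Cfsg.Agent.Lib.Classical.OrthMinus
import Cfsg.Agent.Lib.Classical.OrthCount
import Cfsg.Agent.Lib.Classical.OrthGenRefl
import Cfsg.Agent.Lib.Classical.AschSpShape
import Cfsg.Prelude.Def_GeometricClasses

set_option autoImplicit false

namespace Cfsg.Agent.NonsingularPointDerange

open Matrix Cfsg.Agent.Classical Module

variable {F : Type*} [Field F] {ι : Type} [Fintype ι] [DecidableEq ι]

/-- Nonsingular points, counted with their vectors. -/
theorem card_points_mul [Fintype F] (Q : QuadraticForm F (ι → F)) :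
    Nat.card {W : Submodule F (ι → F) // finrank F W = 1 ∧ ∃ v ∈ W, Q v ≠ 0} * (Fintype.card F - 1) +
      Nat.card {v // Q v = 0} = Fintype.card F ^ Fintype.card ι := by
  classical
  set P := {W : Submodule F (ι → F) // finrank F W = 1 ∧ ∃ v ∈ W, Q v ≠ 0}
  let f : {v // ¬ Q v = 0} → P := fun v => ⟨Submodule.span F {v.1},
    finrank_span_singleton (fun h => v.2 (by rw [h, QuadraticMap.map_zero])),
    v.1, Submodule.mem_span_singleton_self _, v.2⟩
  have hfib : ∀ W : P, Nat.card {v // f v = W} = Fintype.card F - 1 := by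
    intro W
    obtain ⟨w, hw, hQw⟩ := W.2.2
    have hw0 : w ≠ 0 := fun h => hQw (by rw [h, QuadraticMap.map_zero])
    have hspan : Submodule.span F {w} = W.1 :=
      Submodule.eq_of_le_of_finrank_eq ((Submodule.span_singleton_le_iff_mem _ _).2 hw)
        (by rw [finrank_span_singleton hw0, W.2.1])
    have hQc : ∀ c : Fˣ, ¬ Q ((c : F) • w) = 0 := fun c => by
      rw [QuadraticMap.map_smul, smul_eq_mul]; exact mul_ne_zero (mul_ne_zero c.ne_zero c.ne_zero) hQw
    let φ : Fˣ → {v // f v = W} := fun c => ⟨⟨(c : F) • w, hQc c⟩, Subtype.ext (by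
      show Submodule.span F {(c : F) • w} = W.1
      rw [Submodule.span_singleton_smul_eq c.isUnit, hspan])⟩
    have hφ : Function.Bijective φ := by
      refine ⟨fun c c' e => Units.ext (smul_left_injective F hw0 (congrArg (fun x => x.1.1) e)), fun x => ?_⟩
      have hx : x.1.1 ∈ W.1 := by
        rw [← show Submodule.span F {x.1.1} = W.1 from congrArg Subtype.val x.2]
        exact Submodule.mem_span_singleton_self _
      rw [← hspan, Submodule.mem_span_singleton] at hx
      obtain ⟨c, hc⟩ := hx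
      have hc0 : c ≠ 0 := fun h => x.1.2 (by rw [← hc, h, zero_smul, QuadraticMap.map_zero])
      exact ⟨Units.mk0 c hc0, Subtype.ext (Subtype.ext hc)⟩
    rw [← Nat.card_congr (Equiv.ofBijective φ hφ), Nat.card_units, Nat.card_eq_fintype_card]
  have h1 : Nat.card {v // ¬ Q v = 0} = Nat.card P * (Fintype.card F - 1) := by
    haveI := Fintype.ofFinite P
    rw [← Nat.card_congr (Equiv.sigmaFiberEquiv f), Nat.card_sigma, Finset.sum_congr rfl fun W _ => hfib W,
      Finset.sum_const, Finset.card_univ, Nat.card_eq_fintype_card (α := P), smul_eq_mul]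
  rw [← h1, add_comm, ← Nat.card_sum, Nat.card_congr (Equiv.sumCompl fun v => Q v = 0), natCard_fun_field]

theorem two_eq_zero [CharP F 2] : (2 : F) = 0 := CharTwo.two_eq_zero

theorem eq_one_of_sq [CharP F 2] {z : F} (h : z * z = 1) : z = 1 := by
  have h0 : (z - 1) * (z - 1) = 0 := by linear_combination h + (1 - z) * (two_eq_zero (F := F))
  exact sub_eq_zero.1 (mul_self_eq_zero.1 h0)

/-- In characteristic two an isometry fixes a non-singular point only by fixing its vectors. -/
theorem fixed_of_map_le [CharP F 2] (Q : QuadraticForm F (ι → F)) (A : Matrix ι ι F) (hA : ∀ v, Q (A *ᵥ v) = Q v)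
    (W : Submodule F (ι → F)) (hW : finrank F W = 1 ∧ ∃ v ∈ W, Q v ≠ 0) (hle : W.map (Matrix.toLin' A) ≤ W) :
    ∃ v, Q v ≠ 0 ∧ A *ᵥ v = v := by
  obtain ⟨h1, v, hv, hQ⟩ := hW
  have hv0 : v ≠ 0 := fun h => hQ (by rw [h, QuadraticMap.map_zero])
  have hspan : Submodule.span F {v} = W :=
    Submodule.eq_of_le_of_finrank_eq ((Submodule.span_singleton_le_iff_mem _ _).2 hv)
      (by rw [finrank_span_singleton hv0, h1])
  have hm : A *ᵥ v ∈ W := hle ⟨v, hv, Matrix.toLin'_apply A v⟩
  rw [← hspan, Submodule.mem_span_singleton] at hm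
  obtain ⟨c, hc⟩ := hm
  have h := hA v
  rw [← hc, QuadraticMap.map_smul, smul_eq_mul] at h
  have hc1 : c = 1 := eq_one_of_sq (mul_right_cancel₀ hQ (by rw [h, one_mul]))
  exact ⟨v, hQ, by rw [← hc, hc1, one_smul]⟩

theorem point_of_fixed (Q : QuadraticForm F (ι → F)) (A : Matrix ι ι F) {v : ι → F} (hQ : Q v ≠ 0)
    (hv : A *ᵥ v = v) : ∃ W : Submodule F (ι → F), (finrank F W = 1 ∧ ∃ w ∈ W, Q w ≠ 0) ∧
      W.map (Matrix.toLin' A) ≤ W := by
  refine ⟨Submodule.span F {v}, ⟨finrank_span_singleton (fun h => hQ (by rw [h, QuadraticMap.map_zero])),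
    v, Submodule.mem_span_singleton_self _, hQ⟩, ?_⟩
  rw [Submodule.map_span_le]
  rintro _ rfl
  rw [Matrix.toLin'_apply, hv]
  exact Submodule.mem_span_singleton_self _

/-- Isometries of odd order lie in `Ω`. -/
theorem mem_omegaGL_gen (Q : QuadraticForm F (ι → F)) (hQ : (QuadraticMap.polarBilin Q).Nondegenerate)
    (hG : OrthAut.GenQ F ι) (A : GL ι F) (hA : A ∈ isometryGroup F ⇑Q) {k : ℕ} (hk : Odd k) (hAk : A ^ k = 1) :
    A ∈ Geo.omegaGL ⇑Q := by
  let a : isometryGroup F ⇑Q := ⟨A, hA⟩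
  refine ⟨a, ?_, rfl⟩
  let π := Abelianization.of (G := isometryGroup F ⇑Q)
  have hsq : ∀ x, π x * π x = 1 := by
    intro x
    have hx : x ∈ OrthAut.reflGroup Q := by rw [OrthAut.reflGroup_eq_top_gen hQ hG]; trivial
    induction hx using Subgroup.closure_induction with
    | mem y hy =>
      obtain ⟨v, hv, rfl⟩ := hy
      rw [← map_mul, OrthAut.refl_mul_self, map_one]
    | one => simp
    | mul y z _ _ hy hz => rw [map_mul, mul_mul_mul_comm, hy, hz, one_mul]
    | inv y _ hy => rw [map_inv, ← mul_inv, hy, inv_one]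
  have hak : a ^ k = 1 := Subtype.ext (by simpa using hAk)
  have h1 : π a = 1 := by
    obtain ⟨r, rfl⟩ := hk
    have := congrArg π hak
    rwa [map_pow, map_one, pow_succ, pow_mul, pow_two, hsq, one_pow, one_mul] at this
  exact (QuotientGroup.eq_one_iff a).1 h1

/-- An involution without fixed non-singular points, in characteristic two. -/
theorem half_of_no_fixed [CharP F 2] (Q : QuadraticForm F (ι → F))
    (hQ : (QuadraticMap.polarBilin Q).Nondegenerate) {d : ℕ} (hd : Fintype.card ι = 2 * d)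
    (hmax : ∀ C : Submodule F (ι → F), (∀ w ∈ C, Q w = 0) → finrank F C ≤ d)
    (A : Matrix ι ι F) (hA : ∀ v, Q (A *ᵥ v) = Q v) (hA2 : A * A = 1)
    (hno : ∀ v, A *ᵥ v = v → Q v = 0) :
    Even d ∧ ∃ C : Submodule F (ι → F), (∀ w ∈ C, Q w = 0) ∧ finrank F C = d := by
  classical
  set N : (ι → F) →ₗ[F] (ι → F) := Matrix.toLin' A - LinearMap.id
  have hN : ∀ v, N v = A *ᵥ v - v := fun v => by simp [N]
  set W := LinearMap.ker N
  have hW : ∀ w ∈ W, Q w = 0 := fun w hw => hno w (sub_eq_zero.1 (by rw [← hN]; exact hw))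
  have hle : LinearMap.range N ≤ W := by
    rintro _ ⟨v, rfl⟩
    rw [LinearMap.mem_ker, hN, hN, Matrix.mulVec_sub, Matrix.mulVec_mulVec, hA2, Matrix.one_mulVec]
    funext i
    simp only [Pi.sub_apply, Pi.zero_apply]
    linear_combination (v i - (A *ᵥ v) i) * (two_eq_zero (F := F))
  have h1 := Submodule.finrank_mono hle
  have h2 := N.finrank_range_add_finrank_ker
  rw [Module.finrank_fintype_fun_eq_card, hd] at h2
  have h3 := hmax W hW
  have hWd : finrank F W = d := by
    change _ + finrank F W = _ at h2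
    omega
  have hz : ∀ u ∈ W, ∀ v ∈ W, QuadraticMap.polar ⇑Q u v = 0 := fun u hu v hv => by
    rw [QuadraticMap.polar, hW _ (W.add_mem hu hv), hW _ hu, hW _ hv]; ring
  let β : LinearMap.BilinForm F (ι → F) := (QuadraticMap.polarBilin Q).comp N
  have hβ : ∀ u v, β u v = QuadraticMap.polar ⇑Q (N u) v := fun u v => rfl
  have halt : β.IsAlt := fun u => by
    rw [hβ, QuadraticMap.polar, hW _ (hle ⟨u, rfl⟩), hN, sub_add_cancel, hA]; ring
  obtain ⟨U, hU⟩ := Submodule.exists_isCompl W
  have hUd : finrank F U = d := by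
    have h := Submodule.finrank_add_eq_of_isCompl hU
    rw [Module.finrank_fintype_fun_eq_card, hd] at h
    omega
  refine ⟨hUd ▸ Asch.even_finrank_nondeg β halt fun u hu h => ?_, W, hW, hWd⟩
  have hu0 : N u = 0 := hQ.1 _ fun v => by
    obtain ⟨a, ha, b, hb, rfl⟩ := Submodule.mem_sup.1 (show v ∈ W ⊔ U by rw [hU.sup_eq_top]; trivial)
    rw [map_add, QuadraticMap.polarBilin_apply_apply, QuadraticMap.polarBilin_apply_apply,
      hz _ (hle ⟨u, rfl⟩) a ha, ← hβ, h b hb, add_zero]
  exact hU.disjoint.le_bot ⟨hu0, hu⟩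

variable [Fintype F]

/-- A finite field extension as a matrix algebra. -/
theorem exists_field_mat (p : ℕ) [Fact p.Prime] [CharP F p] (k : ℕ) (hk : 0 < k) :
    ∃ (K : Type) (_ : Field K) (_ : Fintype K) (φ : K →+* Matrix (Fin k) (Fin k) F),
      Fintype.card K = Fintype.card F ^ k := by
  haveI : NeZero k := ⟨hk.ne'⟩
  let K := FiniteField.Extension F p k
  have hK : finrank F K = k := FiniteField.finrank_extension F p k
  letI : Fintype K := Fintype.ofFinite K
  refine ⟨K, inferInstance, inferInstance, (Algebra.leftMulMatrix (Module.finBasisOfFinrankEq F K hK)).toRingHom, ?_⟩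
  rw [← Nat.card_eq_fintype_card, Module.natCard_eq_pow_finrank (K := F), Nat.card_eq_fintype_card, hK]

/-- A matrix of order `r` without fixed vectors. -/
theorem exists_fpf_mat (p : ℕ) [Fact p.Prime] [CharP F p] (k : ℕ) (hk : 0 < k) {r : ℕ} [Fact r.Prime]
    (hr : r ∣ Fintype.card F ^ k - 1) :
    ∃ M Mi : Matrix (Fin k) (Fin k) F, M * Mi = 1 ∧ M ^ r = 1 ∧ Mi ^ r = 1 ∧ IsUnit (M - 1) ∧ IsUnit (Mi - 1) := by
  obtain ⟨K, _, _, φ, hK⟩ := exists_field_mat (F := F) p k hk
  obtain ⟨u, hu⟩ := exists_prime_orderOf_dvd_card' (G := Kˣ) r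
    (by rw [Nat.card_units, Nat.card_eq_fintype_card, hK]; exact hr)
  have hu1 : u ≠ 1 := fun h => by rw [h, orderOf_one] at hu; exact (Fact.out : r.Prime).ne_one hu.symm
  have key : ∀ v : Kˣ, v ^ r = 1 → v ≠ 1 → φ (v : K) ^ r = 1 ∧ IsUnit (φ (v : K) - 1) := fun v hv hv1 => by
    refine ⟨by rw [← map_pow, ← Units.val_pow_eq_pow_val, hv, Units.val_one, map_one], ?_⟩
    rw [← map_one φ, ← map_sub]
    exact (isUnit_iff_ne_zero.2 (sub_ne_zero.2 fun h => hv1 (Units.ext h))).map φ
  obtain ⟨h1, h2⟩ := key u (hu ▸ pow_orderOf_eq_one u) hu1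
  obtain ⟨h3, h4⟩ := key u⁻¹ (by rw [inv_pow, ← hu, pow_orderOf_eq_one, inv_one]) (fun h => hu1 (inv_eq_one.1 h))
  exact ⟨φ (u : K), φ ((u⁻¹ : Kˣ) : K), by rw [← map_mul, Units.mul_inv, map_one], h1, h3, h2, h4⟩

/-- A fixed-point-free isometry of order dividing `r` of the elliptic space. -/
theorem exists_fpf_minus [CharP F 2] (m : ℕ) {a b : F}
    (hab : ∀ x y : F, x ^ 2 + a * x * y + b * y ^ 2 = 0 → x = 0 ∧ y = 0)
    {r : ℕ} [Fact r.Prime] (hr2 : r ≠ 2) (hr : r ∣ Fintype.card F ^ (m + 1) + 1) :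
    ∃ A : GL ((Fin m ⊕ Fin m) ⊕ Fin 2) F,
      (∀ v, qfMinus m F a b ((A : Matrix _ _ F) *ᵥ v) = qfMinus m F a b v) ∧ A ^ r = 1 ∧
      ∀ v, (A : Matrix ((Fin m ⊕ Fin m) ⊕ Fin 2) ((Fin m ⊕ Fin m) ⊕ Fin 2) F) *ᵥ v = v → v = 0 := by
  classical
  set n := m + 1 with hn
  haveI : NeZero (2 * n) := ⟨by omega⟩
  let K := FiniteField.Extension F 2 (2 * n)
  have hK : finrank F K = 2 * n := FiniteField.finrank_extension F 2 (2 * n)
  letI : Fintype K := Fintype.ofFinite K
  haveI : CharP K 2 := charP_of_injective_algebraMap (algebraMap F K).injective 2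
  set q := Fintype.card F with hq
  have hKc : Fintype.card K = q ^ n * q ^ n := by
    rw [← Nat.card_eq_fintype_card, Module.natCard_eq_pow_finrank (K := F), Nat.card_eq_fintype_card, hK,
      two_mul, pow_add]
  let fr := FiniteField.frobeniusAlgHom F K
  let s : K →ₐ[F] K := fr ^ n
  have hs : ∀ x, s x = x ^ q ^ n := by
    suffices h : ∀ (k : ℕ) x, (fr ^ k) x = x ^ q ^ k from h n
    intro k
    induction k with
    | zero => simp
    | succ k ih =>
      intro x
      rw [pow_succ', AlgHom.mul_apply, ih]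
      show (x ^ q ^ k) ^ q = _
      rw [← pow_mul, pow_succ]
  have hss : ∀ x, s (s x) = x := fun x => by rw [hs, hs, ← pow_mul, ← hKc, FiniteField.pow_card]
  obtain ⟨w, hw⟩ : ∃ w, s w ≠ w := by
    by_contra h
    push Not at h
    have h1 : fr ^ n = 1 := AlgHom.ext h
    have h2 := orderOf_dvd_of_pow_eq_one h1
    rw [FiniteField.orderOf_frobeniusAlgHom, hK] at h2
    exact absurd (Nat.le_of_dvd (by omega) h2) (by omega)
  have hw0 : w + s w ≠ 0 := fun h => hw (CharTwo.add_eq_zero.1 h).symm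
  set c := w / (w + s w) with hc
  have hcs : c + s c = 1 := by
    rw [hc, map_div₀, map_add, hss, add_comm (s w) w, ← add_div, div_self hw0]
  have htr : ∀ x, Algebra.trace F K (s x) = Algebra.trace F K x := fun x =>
    Algebra.trace_eq_of_algEquiv (AlgEquiv.ofAlgHom s s (AlgHom.ext hss) (AlgHom.ext hss)) x
  let B₀ : LinearMap.BilinForm F K := LinearMap.mk₂ F (fun u v => Algebra.trace F K (c * (u * s v)))
    (fun x x' y => by simp only [add_mul, mul_add, map_add])
    (fun a x y => by rw [smul_mul_assoc, mul_smul_comm, map_smul])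
    (fun x y y' => by simp only [mul_add, map_add])
    (fun a x y => by rw [map_smul, mul_smul_comm, mul_smul_comm, map_smul])
  have hB₀ : ∀ u v, B₀ u v = Algebra.trace F K (c * (u * s v)) := fun u v => rfl
  let Q₀ : QuadraticForm F K := LinearMap.BilinMap.toQuadraticMap B₀
  have hpol : ∀ u v, QuadraticMap.polar ⇑Q₀ u v = Algebra.trace F K (u * s v) := fun u v => by
    rw [LinearMap.BilinMap.polar_toQuadraticMap, hB₀, hB₀, ← htr (c * (v * s u)), map_mul s, map_mul s, hss,
      ← map_add (Algebra.trace F K), mul_comm (s v) u, ← add_mul, hcs, one_mul]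
  have hnd : (QuadraticMap.polarBilin Q₀).Nondegenerate := by
    refine nondegenerate_of_separatingLeft _ fun u hu => ?_
    refine (traceForm_nondegenerate F K).1 u fun v => ?_
    rw [Algebra.traceForm_apply, ← hss v, ← hpol]
    exact hu (s v)
  obtain ⟨ζ, hζ⟩ : ∃ ζ : Kˣ, orderOf ζ = r := exists_prime_orderOf_dvd_card' (G := Kˣ) r (by
    rw [Nat.card_units, Nat.card_eq_fintype_card, hKc, ← one_mul 1, Nat.mul_self_sub_mul_self_eq]
    exact hr.trans (dvd_mul_right _ _))
  have hζs : (ζ : K) * s (ζ : K) = 1 := by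
    have h : ζ ^ (q ^ n + 1) = 1 := orderOf_dvd_iff_pow_eq_one.1 (hζ ▸ hr)
    rw [hs, ← pow_succ', ← Units.val_pow_eq_pow_val, h, Units.val_one]
  have hζr : (ζ : K) ^ r = 1 := by rw [← Units.val_pow_eq_pow_val, ← hζ, pow_orderOf_eq_one, Units.val_one]
  have hζ1 : (ζ : K) ≠ 1 := fun h => (Fact.out : r.Prime).ne_one (by
    rw [← hζ, Units.ext (h.trans Units.val_one.symm), orderOf_one])
  have hinv : ∀ x, Q₀ ((ζ : K) * x) = Q₀ x := fun x => by
    show B₀ _ _ = B₀ x x
    rw [hB₀, hB₀, map_mul s, mul_mul_mul_comm, hζs, one_mul]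
  rcases exists_even_basis hK Q₀ hnd with ⟨bb, hq0, hEF, hEE⟩ | ⟨-, bb, η, hη, hq0, hEF, hEE, hER, h0, h01, h1⟩
  · exfalso
    obtain ⟨g, hg⟩ := exists_isometry_of_bases (Q := qfPlus n F) (Q' := Q₀) (Pi.basisFun F (Fin n ⊕ Fin n)) bb
      (fun i => by
        rcases i with i | i
        · rw [(hq0 i).1]; simp [qfPlus_apply, quadFormPlus, Pi.single_apply]
        · rw [(hq0 i).2]; simp [qfPlus_apply, quadFormPlus, Pi.single_apply])
      (fun i l => by
        simp only [Pi.basisFun_apply, polar_qfPlus]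
        rcases i with i | i <;> rcases l with l | l
        · rw [(hEE i l).1]; simp [Pi.single_apply]
        · rw [hEF i l]; simp [Pi.single_apply, eq_comm]
        · rw [QuadraticMap.polar_comm, hEF l i]; simp [Pi.single_apply, eq_comm]
        · rw [(hEE i l).2]; simp [Pi.single_apply])
    set Z := {v : K // Q₀ v = 0}
    have hZ : Nat.card Z = Nat.card {v // qfPlus n F v = 0} :=
      (Nat.card_congr (g.toEquiv.subtypeEquiv fun v => by
        show qfPlus n F v = 0 ↔ Q₀ (g v) = 0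
        rw [hg])).symm
    haveI := Fintype.ofFinite Z
    let σ : Equiv.Perm Z := (Units.mulLeft ζ).subtypeEquiv fun v => by
      show Q₀ v = 0 ↔ Q₀ ((ζ : K) * v) = 0
      rw [hinv]
    have hσ : ∀ (k : ℕ) (z : Z), (((σ ^ k) z : Z) : K) = (ζ : K) ^ k * z := fun k => by
      induction k with
      | zero => intro z; simp
      | succ k ih =>
        intro z
        rw [pow_succ', Equiv.Perm.mul_apply, pow_succ', mul_assoc, ← ih z]
        rfl
    have hmod := Equiv.Perm.card_compl_support_modEq (p := r) (n := 1) (σ := σ)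
      (Equiv.ext fun z => Subtype.ext (by rw [pow_one, hσ, hζr, one_mul]; rfl))
    have hsupp : σ.supportᶜ = {⟨0, QuadraticMap.map_zero _⟩} := by
      ext z
      rw [Finset.mem_compl, Equiv.Perm.notMem_support, Finset.mem_singleton, Subtype.ext_iff, Subtype.ext_iff]
      show (ζ : K) * z = z ↔ (z : K) = 0
      refine ⟨fun h => ?_, fun h => by rw [h, mul_zero]⟩
      have h' : ((ζ : K) - 1) * z = 0 := by rw [sub_mul, h, one_mul, sub_self]
      exact (mul_eq_zero.1 h').resolve_left (sub_ne_zero.2 hζ1)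
    rw [hsupp, Finset.card_singleton, ← Nat.card_eq_fintype_card, hZ, ← ZMod.natCast_eq_natCast_iff] at hmod
    have hz := congrArg (Int.cast : ℤ → ZMod r) (zeros_qfPlus (F := F) n)
    push_cast at hz
    rw [← hmod, ← hq, Nat.cast_one, one_mul] at hz
    have hqn : (q : ZMod r) ^ n = -1 := by
      rw [eq_neg_iff_add_eq_zero, ← Nat.cast_pow, ← Nat.cast_one (R := ZMod r), ← Nat.cast_add]
      exact (ZMod.natCast_eq_zero_iff _ _).2 hr
    rw [two_mul, pow_add, pow_succ (q : ZMod r) n, hqn] at hz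
    have h2q : ((2 : ℕ) : ZMod r) * ((q : ZMod r) - 1) = 0 := by push_cast; linear_combination hz
    rcases mul_eq_zero.1 h2q with h | h
    · exact hr2 ((Nat.prime_dvd_prime_iff_eq (Fact.out : r.Prime) Nat.prime_two).1 ((ZMod.natCast_eq_zero_iff _ _).1 h))
    · rw [sub_eq_zero.1 h, one_pow] at hqn
      exact hr2 ((Nat.prime_dvd_prime_iff_eq (Fact.out : r.Prime) Nat.prime_two).1
        ((ZMod.natCast_eq_zero_iff _ _).1 (by push_cast; linear_combination hqn)))
  · obtain ⟨g, hg⟩ := exists_isometry_of_bases (Q := qfMinus m F 1 η) (Q' := Q₀)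
      (Pi.basisFun F ((Fin m ⊕ Fin m) ⊕ Fin 2)) bb
      (fun i => by
        rcases i with (i | i) | i
        · rw [(hq0 i).1]; simp [qfMinus_apply, quadFormMinus]
        · rw [(hq0 i).2]; simp [qfMinus_apply, quadFormMinus]
        · fin_cases i
          · simp only [Fin.zero_eta, Fin.isValue]; rw [h0]; simp [qfMinus_apply, quadFormMinus]
          · simp only [Fin.mk_one, Fin.isValue]; rw [h1]; simp [qfMinus_apply, quadFormMinus])
      (fun i l => by
        simp only [Pi.basisFun_apply, polar_qfMinus]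
        rcases i with (i | i) | i <;> rcases l with (l | l) | l
        · rw [(hEE i l).1]; simp [Pi.single_apply]
        · rw [hEF i l]; simp [Pi.single_apply, eq_comm]
        · rw [(hER i l).1]; simp [Pi.single_apply]
        · rw [QuadraticMap.polar_comm, hEF l i]; simp [Pi.single_apply, eq_comm]
        · rw [(hEE i l).2]; simp [Pi.single_apply]
        · rw [(hER i l).2]; simp [Pi.single_apply]
        · rw [QuadraticMap.polar_comm, (hER l i).1]; simp [Pi.single_apply]
        · rw [QuadraticMap.polar_comm, (hER l i).2]; simp [Pi.single_apply]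
        · fin_cases i <;> fin_cases l <;>
            simp only [Fin.zero_eta, Fin.mk_one, Fin.isValue, h01, QuadraticMap.polar_self, h0, h1,
              QuadraticMap.polar_comm _ (bb (Sum.inr 1)) (bb (Sum.inr 0))] <;>
            simp [Pi.single_apply] <;> ring)
    have hη' : OrthAut.Aniso F 1 η := fun x y h => by
      by_cases hy : y = 0
      · subst hy; exact ⟨by simpa using h, rfl⟩
      · exfalso; refine hη (x / y) ?_
        field_simp
        linear_combination h
    obtain ⟨T, hT⟩ := OrthAut.minus_unique (qfMinus m F a b) (qfMinus m F 1 η) (nondegenerate_qfMinus m hab)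
      (nondegenerate_qfMinus m hη') (OrthAut.not_half_qfMinus hab) (OrthAut.not_half_qfMinus hη')
    have hT' : ∀ v, qfMinus m F a b (((T⁻¹ : GL ((Fin m ⊕ Fin m) ⊕ Fin 2) F) : Matrix _ _ F) *ᵥ v) =
        qfMinus m F 1 η v := fun v => by
      rw [← hT, Matrix.mulVec_mulVec, Units.mul_inv, Matrix.one_mulVec]
    let L : Module.End F K := LinearMap.mulLeft F (ζ : K)
    let M : Matrix ((Fin m ⊕ Fin m) ⊕ Fin 2) ((Fin m ⊕ Fin m) ⊕ Fin 2) F :=
      LinearMap.toMatrix' (g.symm.conj L)
    have hMv : ∀ v, M *ᵥ v = g.symm ((ζ : K) * g v) := fun v => by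
      rw [← Matrix.toLin'_apply, Matrix.toLin'_toMatrix']; rfl
    have hMr : M ^ r = 1 := by
      refine Matrix.ext_of_mulVec_single fun i => ?_
      suffices h : ∀ k v, (M ^ k) *ᵥ v = g.symm ((ζ : K) ^ k * g v) by rw [h, hζr, one_mul, LinearEquiv.symm_apply_apply, Matrix.one_mulVec]
      intro k
      induction k with
      | zero => simp
      | succ k ih =>
        intro v
        rw [pow_succ', ← Matrix.mulVec_mulVec, ih, hMv, LinearEquiv.apply_symm_apply, ← mul_assoc, ← pow_succ']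
    let Mu : GL ((Fin m ⊕ Fin m) ⊕ Fin 2) F := Units.ofPowEqOne M r hMr (Fact.out : r.Prime).ne_zero
    refine ⟨T⁻¹ * Mu * T, fun v => ?_, ?_, fun v hv => ?_⟩
    · rw [Units.val_mul, Units.val_mul, ← Matrix.mulVec_mulVec, ← Matrix.mulVec_mulVec, hT',
        show (Mu : Matrix _ _ F) = M from rfl, hMv, ← hg, LinearEquiv.apply_symm_apply, hinv, hg, hT]
    · have e : (T⁻¹ * Mu * T) ^ r = T⁻¹ * Mu ^ r * T := by
        simpa using conj_pow (i := r) (a := T⁻¹) (b := Mu)
      rw [e, Units.pow_ofPowEqOne, mul_one, inv_mul_cancel]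
    · have h := congrArg (fun x => (T : Matrix ((Fin m ⊕ Fin m) ⊕ Fin 2) ((Fin m ⊕ Fin m) ⊕ Fin 2) F) *ᵥ x) hv
      simp only [Units.val_mul, Matrix.mulVec_mulVec, ← mul_assoc, Units.mul_inv, one_mul] at h
      rw [← Matrix.mulVec_mulVec, show (Mu : Matrix _ _ F) = M from rfl, hMv] at h
      have h2 := congrArg g h
      rw [LinearEquiv.apply_symm_apply] at h2
      have h3 : g ((T : Matrix ((Fin m ⊕ Fin m) ⊕ Fin 2) ((Fin m ⊕ Fin m) ⊕ Fin 2) F) *ᵥ v) = 0 := by
        refine (mul_eq_zero.1 (show ((ζ : K) - 1) * g ((T : Matrix ((Fin m ⊕ Fin m) ⊕ Fin 2) ((Fin m ⊕ Fin m) ⊕ Fin 2) F) *ᵥ v) = 0 by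
          rw [sub_mul, h2, one_mul, sub_self])).resolve_left (sub_ne_zero.2 hζ1)
      rw [LinearEquiv.map_eq_zero_iff] at h3
      have := congrArg (fun x => ((T⁻¹ : GL ((Fin m ⊕ Fin m) ⊕ Fin 2) F) : Matrix ((Fin m ⊕ Fin m) ⊕ Fin 2) ((Fin m ⊕ Fin m) ⊕ Fin 2) F) *ᵥ x) h3
      simpa [Matrix.mulVec_mulVec, ← Units.val_mul] using this

end Cfsg.Agent.NonsingularPointDerange
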