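import Mathlib

/-!
Orthogonal groups in dimension at least three over a finite field of odd characteristic have no non-scalar
normal subgroups of odd order: reflection commutators.
-/

set_option autoImplicit false
set_option linter.unusedSectionVars false

namespace Cfsg.Agent.Classical.OddCore

open Matrix Module

variable {F : Type*} [Field F] {ι : Type*} [Fintype ι] [DecidableEq ι]

/-- The diagonal form. -/
def bd (d x y : ι → F) : F := ∑ i, d i * x i * y i

variable (d : ι → F)

theorem bd_comm (x y : ι → F) : bd d x y = bd d y x :=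
  Finset.sum_congr rfl fun i _ => by ring

theorem bd_add_left (x y z : ι → F) : bd d (x + y) z = bd d x z + bd d y z := by
  simp only [bd, Pi.add_apply, ← Finset.sum_add_distrib]
  exact Finset.sum_congr rfl fun i _ => by ring

theorem bd_smul_left (c : F) (x y : ι → F) : bd d (c • x) y = c * bd d x y := by
  simp only [bd, Pi.smul_apply, smul_eq_mul, Finset.mul_sum]
  exact Finset.sum_congr rfl fun i _ => by ring

theorem bd_sub_left (x y z : ι → F) : bd d (x - y) z = bd d x z - bd d y z := by
  rw [eq_sub_iff_add_eq, ← bd_add_left, sub_add_cancel]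

theorem bd_add_right (x y z : ι → F) : bd d x (y + z) = bd d x y + bd d x z := by
  rw [bd_comm d x, bd_add_left, bd_comm d y, bd_comm d z]

theorem bd_smul_right (c : F) (x y : ι → F) : bd d x (c • y) = c * bd d x y := by
  rw [bd_comm d x, bd_smul_left, bd_comm d y]

theorem bd_sub_right (x y z : ι → F) : bd d x (y - z) = bd d x y - bd d x z := by
  rw [bd_comm d x, bd_sub_left, bd_comm d y, bd_comm d z]

theorem bd_single (i : ι) (y : ι → F) : bd d (Pi.single i 1) y = d i * y i := by
  rw [bd, Finset.sum_eq_single i]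
  · simp
  · intro j _ hj; simp [Pi.single_eq_of_ne hj]
  · simp

theorem bd_nondeg (hd : ∀ i, d i ≠ 0) {x : ι → F} (h : ∀ y, bd d y x = 0) : x = 0 := funext fun i => by
  have := h (Pi.single i 1)
  rw [bd_single] at this
  exact (mul_eq_zero.1 this).resolve_left (hd i)

/-- The isometries. -/
def Iso (g : GL ι F) : Prop :=
  ∀ x y, bd d ((g : Matrix ι ι F) *ᵥ x) ((g : Matrix ι ι F) *ᵥ y) = bd d x y

theorem exists_refl {a : ι → F} (ha : bd d a a ≠ 0) :
    ∃ r : GL ι F, (∀ x, (r : Matrix ι ι F) *ᵥ x = x - (2 * bd d a x / bd d a a) • a) ∧ Iso d r := by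
  set R : Matrix ι ι F := 1 - (2 / bd d a a) • vecMulVec a (fun i => d i * a i)
  have hR : ∀ x, R *ᵥ x = x - (2 * bd d a x / bd d a a) • a := fun x => by
    rw [Matrix.sub_mulVec, Matrix.one_mulVec, Matrix.smul_mulVec, Matrix.vecMulVec_mulVec]
    have : (fun i => d i * a i) ⬝ᵥ x = bd d a x := rfl
    rw [this]
    funext i
    simp only [Pi.sub_apply, Pi.smul_apply, smul_eq_mul, op_smul_eq_smul]
    ring
  have hRR : R * R = 1 := Matrix.ext_iff_mulVec.2 fun x => by
    rw [← Matrix.mulVec_mulVec, hR x, hR, Matrix.one_mulVec, bd_sub_right, bd_smul_right,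
      div_mul_cancel₀ _ ha, show 2 * (bd d a x - 2 * bd d a x) / bd d a a = -(2 * bd d a x / bd d a a) by ring]
    module
  refine ⟨⟨R, R, hRR, hRR⟩, hR, fun x y => ?_⟩
  show bd d (R *ᵥ x) (R *ᵥ y) = _
  rw [hR, hR, bd_sub_left, bd_sub_right, bd_sub_right, bd_smul_left, bd_smul_left, bd_smul_right, bd_smul_right,
    bd_comm d x a]
  field_simp
  ring

variable [Finite F]

theorem exists_quad (h2 : (2 : F) ≠ 0) {a b : F} (ha : a ≠ 0) (hb : b ≠ 0) (c : F) :
    ∃ s t : F, a * s ^ 2 + b * t ^ 2 = c := by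
  classical
  haveI := Fintype.ofFinite F
  have hodd : Fintype.card F % 2 = 1 := FiniteField.odd_card_of_char_ne_two fun h => h2 (by
    haveI := ringChar.of_eq h
    exact CharTwo.two_eq_zero)
  obtain ⟨s, t, hst⟩ := FiniteField.exists_root_sum_quadratic
    (f := Polynomial.C a * Polynomial.X ^ 2) (g := Polynomial.C b * Polynomial.X ^ 2 - Polynomial.C c)
    (by rw [Polynomial.degree_C_mul_X_pow 2 ha]; rfl)
    (by rw [Polynomial.degree_sub_C]
        · rw [Polynomial.degree_C_mul_X_pow 2 hb]; rfl
        · rw [Polynomial.degree_C_mul_X_pow 2 hb]; exact Nat.cast_pos.2 two_pos) hodd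
  simp only [Polynomial.eval_mul, Polynomial.eval_sub, Polynomial.eval_C, Polynomial.eval_pow,
    Polynomial.eval_X] at hst
  exact ⟨s, t, by linear_combination hst⟩

theorem exists_perp (hn : 3 ≤ Fintype.card ι) (v w : ι → F) :
    ∃ z, z ≠ 0 ∧ bd d v z = 0 ∧ bd d w z = 0 := by
  let f : (ι → F) →ₗ[F] (Fin 2 → F) :=
    { toFun := fun z => ![bd d v z, bd d w z]
      map_add' := fun x y => by ext i; fin_cases i <;> simp [bd_add_right]
      map_smul' := fun c x => by ext i; fin_cases i <;> simp [bd_smul_right] }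
  have h1 := f.finrank_range_add_finrank_ker
  have h2 := (LinearMap.range f).finrank_le
  rw [Module.finrank_fin_fun] at h2
  rw [Module.finrank_pi] at h1
  obtain ⟨z, hz, hz0⟩ := Submodule.exists_mem_ne_zero_of_ne_bot (p := LinearMap.ker f) fun e => by
    rw [e, finrank_bot] at h1; omega
  exact ⟨z, hz0, congrFun (LinearMap.mem_ker.1 hz) 0, congrFun (LinearMap.mem_ker.1 hz) 1⟩

variable {d}

/-- A subgroup of odd order modulo scalars normalised by all isometries is scalar. -/
theorem core (hd : ∀ i, d i ≠ 0) (h2 : (2 : F) ≠ 0) (hn : 3 ≤ Fintype.card ι) {M : Subgroup (GL ι F)}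
    (hiso : ∀ m ∈ M, Iso d m) (hnorm : ∀ k, Iso d k → ∀ m ∈ M, k * m * k⁻¹ ∈ M)
    (hodd : ∀ m ∈ M, ∃ j : ℕ, Odd j ∧ ∃ c : F, ((m ^ j : GL ι F) : Matrix ι ι F) = c • 1) :
    ∀ m ∈ M, ∃ c : F, (m : Matrix ι ι F) = c • 1 := by
  classical
  have hinj : ∀ g : GL ι F, ∀ x y, (g : Matrix ι ι F) *ᵥ x = (g : Matrix ι ι F) *ᵥ y → x = y := fun g x y h => by
    simpa [Matrix.mulVec_mulVec, ← Units.val_mul] using
      congrArg (fun z => ((g⁻¹ : GL ι F) : Matrix ι ι F) *ᵥ z) h
  -- commutators with reflections
  have hcomm : ∀ m ∈ M, ∀ a, bd d a a ≠ 0 → ∃ u ∈ M, ∀ x, (u : Matrix ι ι F) *ᵥ x =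
      (x - (2 * bd d ((m : Matrix ι ι F) *ᵥ a) x / bd d a a) • ((m : Matrix ι ι F) *ᵥ a)) -
        (2 * bd d a (x - (2 * bd d ((m : Matrix ι ι F) *ᵥ a) x / bd d a a) • ((m : Matrix ι ι F) *ᵥ a)) /
          bd d a a) • a := by
    intro m hm a ha
    obtain ⟨r, hr, hri⟩ := exists_refl d ha
    refine ⟨r * m * r⁻¹ * m⁻¹, mul_mem (hnorm r hri m hm) (inv_mem hm), fun x => ?_⟩
    have hrr : r * r = 1 := Units.ext (Matrix.ext_iff_mulVec.2 fun y => by
      rw [Units.val_mul, ← Matrix.mulVec_mulVec, hr y, hr, Units.val_one, Matrix.one_mulVec, bd_sub_right,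
        bd_smul_right, div_mul_cancel₀ _ ha,
        show 2 * (bd d a y - 2 * bd d a y) / bd d a a = -(2 * bd d a y / bd d a a) by ring]
      module)
    rw [inv_eq_of_mul_eq_one_right hrr]
    obtain ⟨y, rfl⟩ : ∃ y, (m : Matrix ι ι F) *ᵥ y = x :=
      ⟨((m⁻¹ : GL ι F) : Matrix ι ι F) *ᵥ x, by
        rw [Matrix.mulVec_mulVec, ← Units.val_mul, mul_inv_cancel, Units.val_one, Matrix.one_mulVec]⟩
    have e : ((r * m * r * m⁻¹ : GL ι F) : Matrix ι ι F) *ᵥ ((m : Matrix ι ι F) *ᵥ y) =
        (r : Matrix ι ι F) *ᵥ ((m : Matrix ι ι F) *ᵥ ((r : Matrix ι ι F) *ᵥ y)) := by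
      rw [Matrix.mulVec_mulVec, ← Units.val_mul, inv_mul_cancel_right, Units.val_mul, Units.val_mul,
        Matrix.mulVec_mulVec, Matrix.mulVec_mulVec]
    rw [e, hr y, Matrix.mulVec_sub, Matrix.mulVec_smul, hr, hiso m hm]
  -- no vector is sent to an orthogonal one
  have hperp : ∀ m ∈ M, ∀ a, bd d a a ≠ 0 → bd d a ((m : Matrix ι ι F) *ᵥ a) ≠ 0 := by
    intro m hm a ha h0
    obtain ⟨u, hu, hux⟩ := hcomm m hm a ha
    set b := (m : Matrix ι ι F) *ᵥ a
    have hbb : bd d b b = bd d a a := hiso m hm a a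
    have hba : bd d b a = 0 := by rw [bd_comm]; exact h0
    have hb2 : ∀ x, (u : Matrix ι ι F) *ᵥ x =
        x - (2 * bd d b x / bd d a a) • b - (2 * bd d a x / bd d a a) • a := fun x => by
      rw [hux, bd_sub_right, bd_smul_right, h0, mul_zero, sub_zero]
    have huu : u * u = 1 := Units.ext (Matrix.ext_iff_mulVec.2 fun x => by
      rw [Units.val_mul, ← Matrix.mulVec_mulVec, hb2 x, hb2, Units.val_one, Matrix.one_mulVec]
      simp only [bd_sub_right, bd_smul_right, h0, hba, hbb, mul_zero, sub_zero, div_mul_cancel₀ _ ha]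
      rw [show 2 * (bd d b x - 2 * bd d b x) / bd d a a = -(2 * bd d b x / bd d a a) by ring,
        show 2 * (bd d a x - 2 * bd d a x) / bd d a a = -(2 * bd d a x / bd d a a) by ring]
      module)
    obtain ⟨j, ⟨i, rfl⟩, c, hc⟩ := hodd u hu
    rw [pow_succ, pow_mul, sq, huu, one_pow, one_mul] at hc
    obtain ⟨z, hz0, hza, hzb⟩ := exists_perp d hn a b
    have h1 : (u : Matrix ι ι F) *ᵥ z = z := by rw [hb2, hza, hzb]; simp
    have h3 : (u : Matrix ι ι F) *ᵥ a = -a := by
      rw [hb2, hba, mul_zero, zero_div, zero_smul, sub_zero, mul_div_assoc, div_self ha, mul_one]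
      module
    rw [hc, Matrix.smul_mulVec, Matrix.one_mulVec] at h1 h3
    obtain ⟨i, hi⟩ := Function.ne_iff.1 hz0
    have hc1 : c = 1 := mul_right_cancel₀ hi (by simpa using congrFun h1 i)
    subst hc1
    obtain ⟨i, hi⟩ := Function.ne_iff.1 (show a ≠ 0 from fun e => ha (by simp [e, bd]))
    have h4 := congrFun h3 i
    simp only [Pi.smul_apply, smul_eq_mul, one_mul, Pi.neg_apply, Pi.zero_apply] at h4 hi
    exact hi ((mul_eq_zero.1 (show (2 : F) * a i = 0 by linear_combination h4)).resolve_left h2)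
  -- every anisotropic line is fixed
  have hline : ∀ m ∈ M, ∀ v, bd d v v ≠ 0 →
      (m : Matrix ι ι F) *ᵥ v = v ∨ (m : Matrix ι ι F) *ᵥ v = -v := by
    intro m hm v hv
    by_contra hc
    push Not at hc
    obtain ⟨u, hu, hux⟩ := hcomm m hm v hv
    set w := (m : Matrix ι ι F) *ᵥ v
    have hww : bd d w w = bd d v v := hiso m hm v v
    set ν := bd d v v with hνdef
    set γ := bd d v w with hγdef
    have hγ' : bd d w v = γ := bd_comm d w v
    have hS : ∀ a, bd d a ((u : Matrix ι ι F) *ᵥ a) =
        bd d a a - 2 / ν * (bd d v a ^ 2 + bd d w a ^ 2) + 4 * γ / ν ^ 2 * (bd d v a * bd d w a) := fun a => by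
      rw [hux]
      simp only [bd_sub_right, bd_smul_right, ← hγdef]
      rw [bd_comm d a w, bd_comm d a v]
      field_simp
      ring
    obtain ⟨a, ha, hau⟩ : ∃ a, bd d a a ≠ 0 ∧ bd d a ((u : Matrix ι ι F) *ᵥ a) = 0 := by
      by_cases hdeg : γ ^ 2 = ν ^ 2
      · -- degenerate plane
        obtain ⟨ε, hε, hγ⟩ : ∃ ε : F, ε * ε = 1 ∧ γ = ε * ν := by
          refine ⟨γ / ν, ?_, (div_mul_cancel₀ γ hv).symm⟩
          field_simp
          linear_combination hdeg
        set z := w - ε • v with hzdef
        have hz : z ≠ 0 := fun e => by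
          rcases mul_self_eq_one_iff.1 hε with rfl | rfl
          · exact hc.1 (by rw [sub_eq_zero.1 e, one_smul])
          · exact hc.2 (by rw [sub_eq_zero.1 e, neg_one_smul])
        obtain ⟨y, hy⟩ : ∃ y, bd d y z ≠ 0 := by
          by_contra h0
          push Not at h0
          exact hz (bd_nondeg d hd h0)
        have hvz : bd d v z = 0 := by
          rw [hzdef, bd_sub_right, bd_smul_right, ← hγdef, ← hνdef, hγ, sub_self]
        have hzz : bd d z z = 0 := by
          have e1 : bd d z z = bd d w w - 2 * ε * γ + ε * ε * ν := by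
            rw [hzdef]; simp only [bd_sub_left, bd_sub_right, bd_smul_left, bd_smul_right, hγ',
              ← hγdef, ← hνdef]
            ring
          rw [e1, hww, hγ]; linear_combination -ν * hε
        obtain ⟨a0, ha0⟩ : ∃ a0, bd d a0 z = 1 :=
          ⟨(bd d y z)⁻¹ • y, by rw [bd_smul_left, inv_mul_cancel₀ hy]⟩
        set a := a0 + ((2 / ν - bd d a0 a0) / 2) • z with hadef
        have haa : bd d a a = 2 / ν := by
          rw [hadef]
          simp only [bd_add_left, bd_add_right, bd_smul_left, bd_smul_right, hzz, bd_comm d z a0, ha0]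
          field_simp
          ring
        have haz : bd d a z = 1 := by rw [hadef, bd_add_left, bd_smul_left, hzz, mul_zero, add_zero, ha0]
        refine ⟨a, by rw [haa]; exact div_ne_zero h2 hv, ?_⟩
        rw [hS, haa]
        have e : bd d w a = 1 + ε * bd d v a := by
          rw [show w = z + ε • v by rw [hzdef]; abel, bd_add_left, bd_smul_left, bd_comm d z a, haz]
        rw [e, hγ]
        field_simp
        linear_combination (2 * bd d v a ^ 2) * hε
      · set l := 2 * γ ^ 2 / ν ^ 2 - 1 with hl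
        by_cases hl0 : l = 0
        · refine ⟨v, hv, ?_⟩
          rw [hS, hγ', ← hνdef, show ν - 2 / ν * (ν ^ 2 + γ ^ 2) + 4 * γ / ν ^ 2 * (ν * γ) = ν * l by
            rw [hl]; field_simp; ring, hl0, mul_zero]
        have hdet : ν ^ 2 - γ ^ 2 ≠ 0 := fun e => hdeg (by linear_combination -e)
        let pr : (ι → F) → (ι → F) := fun x =>
          x - ((ν * bd d v x - γ * bd d w x) / (ν ^ 2 - γ ^ 2)) • v -
            ((ν * bd d w x - γ * bd d v x) / (ν ^ 2 - γ ^ 2)) • w
        have hpr : ∀ x, bd d v (pr x) = 0 ∧ bd d w (pr x) = 0 := fun x => by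
          constructor
          · simp only [pr, bd_sub_right, bd_smul_right, ← hνdef, ← hγdef]
            field_simp; ring
          · simp only [pr, bd_sub_right, bd_smul_right, hγ', hww]
            field_simp; ring
        obtain ⟨z, hvz, hwz, hzz⟩ : ∃ z, bd d v z = 0 ∧ bd d w z = 0 ∧ bd d z z ≠ 0 := by
          by_contra h0
          push Not at h0
          obtain ⟨z, hz, hvz, hwz⟩ := exists_perp d hn v w
          refine hz (bd_nondeg d hd fun y => ?_)
          obtain ⟨hp1, hp2⟩ := hpr y
          have h4 := h0 (pr y + z) (by rw [bd_add_right, hp1, hvz, add_zero])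
            (by rw [bd_add_right, hp2, hwz, add_zero])
          rw [bd_add_left, bd_add_right, bd_add_right, h0 _ hp1 hp2, h0 z hvz hwz, bd_comm d z (pr y)] at h4
          have h5 : bd d (pr y) z = 0 :=
            (mul_eq_zero.1 (show (2 : F) * bd d (pr y) z = 0 by linear_combination h4)).resolve_left h2
          simpa [pr, bd_sub_left, bd_smul_left, hvz, hwz] using h5
        set c := bd d z z
        obtain ⟨s, t, hst⟩ := exists_quad h2 (a := ν) (b := (ν ^ 2 - γ ^ 2) / ν) hv
          (div_ne_zero hdet hv) (-c / l)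
        set α := s - γ * t / ν with hα
        have hQp : ν * α ^ 2 + 2 * γ * α * t + ν * t ^ 2 = -c / l := by
          rw [← hst, hα]; field_simp; ring
        set a := α • v + t • w + z with hadef
        have hva : bd d v a = α * ν + t * γ := by
          simp only [hadef, bd_add_right, bd_smul_right, hvz, ← hνdef, ← hγdef, add_zero]
        have hwa : bd d w a = α * γ + t * ν := by
          simp only [hadef, bd_add_right, bd_smul_right, hwz, hγ', hww, add_zero]
        have haa : bd d a a = ν * α ^ 2 + 2 * γ * α * t + ν * t ^ 2 + c := by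
          simp only [hadef, bd_add_left, bd_add_right, bd_smul_left, bd_smul_right, hvz, hwz, hγ', hww,
            bd_comm d z v, bd_comm d z w, ← hνdef, ← hγdef]
          ring
        refine ⟨a, ?_, ?_⟩
        · rw [haa, hQp]
          intro e
          have : c * (l - 1) = 0 := by
            have := congrArg (· * l) e
            simp only [add_mul, div_mul_cancel₀ _ hl0, zero_mul] at this
            linear_combination this
          rcases mul_eq_zero.1 this with h | h
          · exact hzz h
          · refine hdeg ?_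
            rw [hl] at h
            field_simp at h
            exact mul_left_cancel₀ h2 (by linear_combination h)
        · rw [hS, hva, hwa, haa]
          have hl' : l * ν ^ 2 = 2 * γ ^ 2 - ν ^ 2 := by rw [hl]; field_simp
          have hQ' : (ν * α ^ 2 + 2 * γ * α * t + ν * t ^ 2) * l = -c := by rw [hQp, div_mul_cancel₀ _ hl0]
          field_simp
          linear_combination (ν ^ 2) * hQ' - (ν * α ^ 2 + 2 * γ * α * t + ν * t ^ 2) * hl'
    exact hperp u hu a ha hau
  intro m hm
  obtain ⟨i₀⟩ : Nonempty ι := Fintype.card_pos_iff.1 (by omega)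
  have hsingle : ∀ i, ∃ l : F, (m : Matrix ι ι F) *ᵥ Pi.single i 1 = l • Pi.single i 1 := fun i => by
    rcases hline m hm (Pi.single i 1) (by rw [bd_single, Pi.single_eq_same, mul_one]; exact hd i) with h | h
    · exact ⟨1, by rw [h, one_smul]⟩
    · exact ⟨-1, by rw [h, neg_one_smul]⟩
  choose l hl using hsingle
  have hall : ∀ x, (m : Matrix ι ι F) *ᵥ x = fun k => l k * x k := fun x => by
    conv_lhs => rw [← Finset.univ_sum_single x]
    rw [Matrix.mulVec_sum]
    funext k
    rw [Finset.sum_apply, Finset.sum_eq_single k]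
    · rw [show (Pi.single k (x k) : ι → F) = x k • Pi.single k 1 by rw [← Pi.single_smul, smul_eq_mul, mul_one],
        Matrix.mulVec_smul, hl]
      simp [mul_comm]
    · intro b _ hb
      rw [show (Pi.single b (x b) : ι → F) = x b • Pi.single b 1 by rw [← Pi.single_smul, smul_eq_mul, mul_one],
        Matrix.mulVec_smul, hl]
      simp [Pi.single_eq_of_ne hb.symm]
    · simp
  have heq : ∀ i j, i ≠ j → l i = l j := by
    intro i j hij
    obtain ⟨x, hx, hxi, hxj⟩ : ∃ x : ι → F, bd d x x ≠ 0 ∧ x i = 1 ∧ x j = 1 := by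
      by_cases h : d i + d j = 0
      · obtain ⟨k, -, hki, hkj⟩ : ∃ k ∈ (Finset.univ : Finset ι), k ≠ i ∧ k ≠ j := by
          by_contra hcon
          push Not at hcon
          have : (Finset.univ : Finset ι) ⊆ {i, j} := fun k hk => by
            by_cases hki : k = i
            · simp [hki]
            · simp [hcon k hk hki]
          have := (Finset.card_le_card this).trans Finset.card_le_two
          rw [Finset.card_univ] at this
          omega
        refine ⟨Pi.single i 1 + Pi.single j 1 + Pi.single k 1, ?_, ?_, ?_⟩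
        · rw [bd_add_left, bd_add_left, bd_single, bd_single, bd_single]
          simp [hij, Ne.symm hij, hki, hkj, Ne.symm hki, Ne.symm hkj, h, hd k]
        · simp [hij, Ne.symm hki]
        · simp [Ne.symm hij, Ne.symm hkj]
      · refine ⟨Pi.single i 1 + Pi.single j 1, ?_, ?_, ?_⟩
        · rw [bd_add_left, bd_single, bd_single]
          simp [hij, Ne.symm hij, h]
        · simp [hij]
        · simp [Ne.symm hij]
    rcases hline m hm x hx with h | h <;> rw [hall] at h
    · have h1 := congrFun h i; have h3 := congrFun h j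
      simp [hxi, hxj] at h1 h3
      rw [h1, h3]
    · have h1 := congrFun h i; have h3 := congrFun h j
      simp [hxi, hxj] at h1 h3
      rw [h1, h3]
  refine ⟨l i₀, Matrix.ext_iff_mulVec.2 fun x => ?_⟩
  rw [hall, Matrix.smul_mulVec, Matrix.one_mulVec]
  funext k
  by_cases hk : k = i₀
  · simp [hk]
  · simp [heq k i₀ hk]

end Cfsg.Agent.Classical.OddCore
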