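import Mathlib
import Cfsg.Prelude.Def_Classical
import Cfsg.Agent.Lib.Classical.SympBlocks
import Cfsg.Agent.Lib.Classical.RootOrders

/-! Elements of odd order in symplectic groups and orders available in `PSp`. -/

set_option autoImplicit false

namespace Cfsg.Agent.Classical

variable {F : Type*} [Field F]

local notation "Sp(" m ")" => Matrix.symplecticGroup (Fin m) F

/-- The quotient map to `PSp`. -/
def spToPSp (n : ℕ) (F : Type*) [Field F] : Matrix.symplecticGroup (Fin n) F →* PSp n F :=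
  QuotientGroup.mk' _

theorem spToPSp_pow_eq_one {n : ℕ} {x : Sp(n)} {j : ℕ} (h : spToPSp n F x ^ j = 1) :
    x ^ j = 1 ∨ x ^ j = sympNegOne n F := by
  rw [← map_pow] at h
  have hc : x ^ j ∈ Subgroup.center Sp(n) := (QuotientGroup.eq_one_iff _).1 h
  obtain ⟨l, hl, hA⟩ := eq_scalar_of_commute_sympTv (x ^ j) fun v => (Subgroup.mem_center_iff.1 hc _).symm
  rcases Nat.eq_zero_or_pos n with rfl | hn
  · exact Or.inl (Subtype.ext (Matrix.ext fun i => i.elim Fin.elim0 Fin.elim0))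
  rcases sq_eq_one_iff.1 hl with rfl | rfl
  · exact Or.inl (Subtype.ext ((hA (by omega)).trans (one_smul _ _)))
  · exact Or.inr (Subtype.ext ((hA (by omega)).trans (neg_one_smul _ _)))

theorem orderOf_dvd_two_mul_psp {n : ℕ} (x : Sp(n)) : orderOf x ∣ 2 * orderOf (spToPSp n F x) := by
  rcases spToPSp_pow_eq_one (pow_orderOf_eq_one (spToPSp n F x)) with h | h
  · exact (orderOf_dvd_of_pow_eq_one h).mul_left 2
  · refine orderOf_dvd_of_pow_eq_one ?_
    rw [mul_comm, pow_mul, h, sympNegOne_sq]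

theorem exists_odd_lift {n : ℕ} (x : PSp n F) (hx : Odd (orderOf x)) :
    ∃ A : Sp(n), spToPSp n F A = x ∧ orderOf A = orderOf x := by
  obtain ⟨A, rfl⟩ := QuotientGroup.mk'_surjective _ x
  set N := orderOf (spToPSp n F A)
  have key : ∀ B : Sp(n), spToPSp n F B = spToPSp n F A → B ^ N = 1 →
      ∃ C : Sp(n), spToPSp n F C = spToPSp n F A ∧ orderOf C = N := by
    intro B hB hBN
    refine ⟨B, hB, dvd_antisymm (orderOf_dvd_of_pow_eq_one hBN) ?_⟩
    have := orderOf_map_dvd (spToPSp n F) B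
    rwa [hB] at this
  rcases spToPSp_pow_eq_one (pow_orderOf_eq_one (spToPSp n F A)) with h | h
  · exact key A rfl h
  · have hz : spToPSp n F (sympNegOne n F) = 1 :=
      (QuotientGroup.eq_one_iff _).2 (Subgroup.mem_center_iff.2 fun g => (sympNegOne_commute g).eq.symm)
    refine key (sympNegOne n F * A) (by rw [map_mul, hz, one_mul]) ?_
    obtain ⟨k, hk⟩ := hx
    rw [(sympNegOne_commute A).mul_pow, h, show N = 2 * k + 1 from hk, pow_succ, pow_mul, sympNegOne_sq, one_pow, one_mul, ← sq,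
      sympNegOne_sq]

theorem orderOf_sympNegOne_mul (h2 : (2 : F) ≠ 0) {n : ℕ} (hn : 1 ≤ n) {x : Sp(n)} (hx : Odd (orderOf x)) :
    orderOf (sympNegOne n F * x) = 2 * orderOf x := by
  have h : orderOf (sympNegOne n F) = 2 :=
    orderOf_eq_prime (hp := ⟨Nat.prime_two⟩) (sympNegOne_sq n) (sympNegOne_ne_one h2 hn)
  rw [(sympNegOne_commute x).orderOf_mul_eq_mul_orderOf_of_coprime (by rw [h]; exact hx.coprime_two_left), h]

/-- A block pair with a second component of odd order. -/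
theorem exists_psp_lcm (h2 : (2 : F) ≠ 0) {a b n : ℕ} (hab : a + b = n) (hb : 1 ≤ b) (x : Sp(a)) (z : Sp(b))
    (hz : Odd (orderOf z)) : ∃ y : PSp n F, Nat.lcm (orderOf x) (orderOf z) ∣ orderOf y := by
  subst hab
  refine ⟨spToPSp _ F (sympBlock a b (x, z)), ?_⟩
  rw [← Prod.orderOf (x, z)]
  refine orderOf_dvd_of_pow_eq_one ?_
  set j := orderOf (spToPSp _ F (sympBlock a b (x, z)))
  rcases spToPSp_pow_eq_one (pow_orderOf_eq_one (spToPSp _ F (sympBlock a b (x, z)))) with h | h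
  · exact sympBlock_injective (by rw [map_pow, h, map_one])
  · exfalso
    rw [← sympBlock_negOne, ← map_pow] at h
    have hzj : z ^ j = sympNegOne b F := congrArg Prod.snd (sympBlock_injective h)
    obtain ⟨k, hk⟩ := hz
    have h1 : (z ^ j) ^ orderOf z = 1 := by rw [← pow_mul, mul_comm, pow_mul, pow_orderOf_eq_one, one_pow]
    rw [hzj, hk, pow_succ, pow_mul, sympNegOne_sq, one_pow, one_mul] at h1
    exact sympNegOne_ne_one h2 hb h1

variable [Fintype F] (p : ℕ) [Fact p.Prime] [CharP F p]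

theorem odd_prime_of_two_ne_zero (h2 : (2 : F) ≠ 0) : Odd p := by
  rcases (Fact.out : p.Prime).eq_two_or_odd' with rfl | h
  · exact absurd (by exact_mod_cast CharP.cast_eq_zero F 2) h2
  · exact h

theorem exists_symp_order_of_dvd (h2 : (2 : F) ≠ 0) {e : ℕ} (he : 1 ≤ e) {M : ℕ}
    (hM : M ∣ Fintype.card F ^ e + 1 ∨ M ∣ Fintype.card F ^ e - 1) : ∃ x : Sp(e), orderOf x = M := by
  have hq : 2 ≤ Fintype.card F ^ e := le_trans Fintype.one_lt_card (Nat.le_self_pow (by omega) _)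
  rcases hM with hM | hM
  · obtain ⟨x, hx⟩ := exists_symp_order_add h2 he
    exact ⟨x ^ (orderOf x / M), orderOf_pow_orderOf_div (by omega) (hx ▸ hM)⟩
  · obtain ⟨x, hx⟩ := exists_symp_order_sub (F := F) he
    exact ⟨x ^ (orderOf x / M), orderOf_pow_orderOf_div (by omega) (hx ▸ hM)⟩

variable {K : Type*} [Field K] [Algebra F K]

/-- A set of roots of unity of odd order, different from `1`, stable under Frobenius and inversion. -/
def OrbSet (F : Type*) [Fintype F] {K : Type*} [Field K] (S : Finset K) : Prop :=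
  (∀ x ∈ S, x ^ Fintype.card F ∈ S) ∧ (∀ x ∈ S, x⁻¹ ∈ S) ∧ (∀ x ∈ S, x ≠ 1 ∧ Odd (orderOf x))

theorem exists_orbit [DecidableEq K] [CharP K p] {S : Finset K} (hS : OrbSet F S) (hne : S.Nonempty) :
    ∃ (O : Finset K) (e M : ℕ), O ⊆ S ∧ 1 ≤ e ∧ O.card = 2 * e ∧ OrbSet F O ∧ OrbSet F (S \ O) ∧
      (M ∣ Fintype.card F ^ e + 1 ∨ M ∣ Fintype.card F ^ e - 1) ∧ Odd M ∧ ¬ p ∣ M ∧
      ∀ x ∈ O, x ^ M = 1 := by
  classical
  obtain ⟨hq, hinv, hodd⟩ := hS
  obtain ⟨a, ha⟩ := hne
  set q := Fintype.card F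
  let φ := FiniteField.frobeniusAlgHom F K
  have hφ : ∀ x : K, φ x = x ^ q := fun x => rfl
  have hit : ∀ i x, (⇑φ)^[i] x = x ^ q ^ i := fun i x => by
    induction i with
    | zero => simp
    | succ i ih => rw [Function.iterate_succ_apply', ih, hφ, ← pow_mul, pow_succ]
  have hinj : Function.Injective (⇑φ) := φ.toRingHom.injective
  have hmemS : ∀ i, (⇑φ)^[i] a ∈ S := fun i => by
    induction i with
    | zero => exact ha
    | succ i ih => rw [Function.iterate_succ_apply', hφ]; exact hq _ ih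
  have hper : a ∈ Function.periodicPts ⇑φ := by
    obtain ⟨i, j, hij, he⟩ := Finite.exists_ne_map_eq_of_infinite (fun i : ℕ => (⟨_, hmemS i⟩ : S))
    have he' := congrArg Subtype.val he
    simp only at he'
    wlog hlt : i < j generalizing i j
    · exact this j i hij.symm he.symm he'.symm (by omega)
    refine Function.mk_mem_periodicPts (n := j - i) (by omega) (hinj.iterate i ?_)
    rw [← Function.iterate_add_apply, Nat.add_sub_cancel' hlt.le]
    exact he'.symm
  set d := Function.minimalPeriod (⇑φ) a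
  have hd : 0 < d := Function.minimalPeriod_pos_of_mem_periodicPts hper
  have hfix : a ^ q ^ d = a := by rw [← hit]; exact Function.iterate_minimalPeriod
  set M := orderOf a
  have hMo : Odd M := (hodd a ha).2
  have hM0 : M ≠ 0 := fun h => by rw [h] at hMo; exact Nat.not_odd_zero hMo
  have ha0 : a ≠ 0 := by rintro rfl; simp [M, orderOf_zero] at hM0
  have hpM : ¬ p ∣ M := by
    rintro ⟨r, hr⟩
    have h1 : (a ^ r) ^ p = 1 := by rw [← pow_mul, mul_comm, ← hr]; exact pow_orderOf_eq_one a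
    have h2 : a ^ r = 1 := frobenius_inj K p (by simpa [frobenius_def] using h1)
    have h3 := Nat.le_of_dvd (Nat.pos_of_ne_zero fun h => hM0 (by rw [hr, h, mul_zero]))
      (orderOf_dvd_of_pow_eq_one h2)
    have hp2 : 2 ≤ p := (Fact.out : p.Prime).two_le
    have hr0 : 1 ≤ r := Nat.pos_of_ne_zero fun h => hM0 (by rw [hr, h, mul_zero])
    have : 2 * r ≤ M := hr ▸ Nat.mul_le_mul_right r hp2
    show False
    omega
  let P := (Finset.range d).image fun i => (⇑φ)^[i] a
  have hPmem : ∀ i, (⇑φ)^[i] a ∈ P := fun i => by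
    rw [← Function.iterate_mod_minimalPeriod_eq]
    exact Finset.mem_image_of_mem _ (Finset.mem_range.2 (Nat.mod_lt _ hd))
  have hPcard : P.card = d := by
    rw [Finset.card_image_of_injOn, Finset.card_range]
    intro i hi j hj h
    exact Function.iterate_injOn_Iio_minimalPeriod (by simpa using hi) (by simpa using hj) h
  have hPpow : ∀ x ∈ P, x ^ M = 1 := by
    intro x hx
    obtain ⟨i, -, rfl⟩ := Finset.mem_image.1 hx
    show ((⇑φ)^[i] a) ^ M = 1
    rw [hit, ← pow_mul, mul_comm, pow_mul, pow_orderOf_eq_one, one_pow]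
  have hPS : P ⊆ S := fun x hx => by
    obtain ⟨i, -, rfl⟩ := Finset.mem_image.1 hx
    exact hmemS i
  have hPq : ∀ x ∈ P, φ x ∈ P := fun x hx => by
    obtain ⟨i, -, rfl⟩ := Finset.mem_image.1 hx
    rw [← Function.iterate_succ_apply' (⇑φ)]
    exact hPmem _
  have finish : ∀ (O : Finset K) (e : ℕ), O ⊆ S → 1 ≤ e → O.card = 2 * e → (∀ x ∈ O, φ x ∈ O) →
      (∀ x ∈ O, x⁻¹ ∈ O) → (M ∣ q ^ e + 1 ∨ M ∣ q ^ e - 1) → (∀ x ∈ O, x ^ M = 1) →
      ∃ (O : Finset K) (e M : ℕ), O ⊆ S ∧ 1 ≤ e ∧ O.card = 2 * e ∧ OrbSet F O ∧ OrbSet F (S \ O) ∧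
      (M ∣ q ^ e + 1 ∨ M ∣ q ^ e - 1) ∧ Odd M ∧ ¬ p ∣ M ∧ ∀ x ∈ O, x ^ M = 1 := by
    intro O e hOS he hc hOq hOi hdiv hpow
    exact ⟨O, e, M, hOS, he, hc, ⟨hOq, hOi, fun x hx => hodd x (hOS hx)⟩,
      ⟨sdiff_stable _ hinj hq hOq, sdiff_stable _ inv_injective hinv hOi,
        fun x hx => hodd x (Finset.mem_sdiff.1 hx).1⟩, hdiv, hMo, hpM, hpow⟩
  by_cases hself : a⁻¹ ∈ P
  · obtain ⟨i, hi, hia⟩ := Finset.mem_image.1 hself
    rw [Finset.mem_range] at hi
    rw [hit] at hia
    have hi0 : i ≠ 0 := by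
      rintro rfl
      rw [pow_zero, pow_one] at hia
      have h2 : M ∣ 2 := orderOf_dvd_of_pow_eq_one (by
        rw [sq]; nth_rewrite 2 [hia]; exact mul_inv_cancel₀ ha0)
      rcases (Nat.dvd_prime Nat.prime_two).1 h2 with h | h
      · exact (hodd a ha).1 (orderOf_eq_one_iff.1 h)
      · rw [h] at hMo; exact absurd hMo (by decide)
    have h2i : (⇑φ)^[i + i] a = a := by
      rw [hit, pow_add, pow_mul, hia, inv_pow, hia, inv_inv]
    have hdi : d ∣ i + i := Function.IsPeriodicPt.minimalPeriod_dvd h2i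
    have hd2 : d = 2 * i := by
      obtain ⟨r, hr⟩ := hdi
      rcases r with _ | _ | r
      · omega
      · omega
      · rw [Nat.mul_succ, Nat.mul_succ] at hr; omega
    refine finish P i hPS (by omega) (hPcard.trans hd2) hPq ?_ (Or.inl ?_) hPpow
    · intro x hx
      obtain ⟨k, -, rfl⟩ := Finset.mem_image.1 hx
      rw [hit, ← inv_pow, ← hia, ← pow_mul, ← pow_add, ← hit]
      exact hPmem _
    · refine orderOf_dvd_of_pow_eq_one ?_
      rw [pow_succ, hia, inv_mul_cancel₀ ha0]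
  · have hPi : ∀ x ∈ P, x⁻¹ ∉ P := by
      intro x hx hx'
      obtain ⟨k, hk, rfl⟩ := Finset.mem_image.1 hx
      rw [Finset.mem_range] at hk
      apply hself
      have h1 : ∀ l y, y ∈ P → (⇑φ)^[l] y ∈ P := fun l y hy => by
        induction l with
        | zero => exact hy
        | succ l ih => rw [Function.iterate_succ_apply']; exact hPq _ ih
      have h2 := h1 (d - k) _ hx'
      rwa [hit, inv_pow, ← hit, ← Function.iterate_add_apply, Nat.sub_add_cancel hk.le,
        Function.iterate_minimalPeriod] at h2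
    let O := P ∪ P.image (fun x => x⁻¹)
    have hmemO : ∀ x, x ∈ O ↔ x ∈ P ∨ x⁻¹ ∈ P := fun x => by
      simp only [O, Finset.mem_union, Finset.mem_image]
      constructor
      · rintro (h | ⟨y, hy, rfl⟩)
        · exact Or.inl h
        · exact Or.inr (by rwa [inv_inv])
      · rintro (h | h)
        · exact Or.inl h
        · exact Or.inr ⟨_, h, inv_inv x⟩
    refine finish O d (fun x hx => ?_) hd ?_ (fun x hx => ?_) (fun x hx => ?_) (Or.inr ?_) (fun x hx => ?_)
    · rcases (hmemO x).1 hx with h | h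
      · exact hPS h
      · exact inv_inv x ▸ hinv _ (hPS h)
    · rw [Finset.card_union_of_disjoint, Finset.card_image_of_injective _ inv_injective, hPcard, two_mul]
      refine Finset.disjoint_left.2 fun x hx hx' => ?_
      obtain ⟨y, hy, rfl⟩ := Finset.mem_image.1 hx'
      exact hPi y hy hx
    · rcases (hmemO x).1 hx with h | h
      · exact (hmemO _).2 (Or.inl (hPq x h))
      · refine (hmemO _).2 (Or.inr ?_)
        rw [hφ, ← inv_pow, ← hφ]
        exact hPq _ h
    · rcases (hmemO x).1 hx with h | h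
      · exact (hmemO _).2 (Or.inr (by rwa [inv_inv]))
      · exact (hmemO _).2 (Or.inl h)
    · refine orderOf_dvd_of_pow_eq_one (mul_right_cancel₀ ha0 ?_)
      rw [← pow_succ, Nat.sub_add_cancel (Nat.one_le_pow _ _ Fintype.card_pos), hfix, one_mul]
    · rcases (hmemO x).1 hx with h | h
      · exact hPpow x h
      · have := hPpow _ h
        rwa [inv_pow, inv_eq_one] at this

/-- A symplectic element realising all orders in a stable set of roots of unity. -/
theorem exists_symp_of_orbSet (h2 : (2 : F) ≠ 0) [DecidableEq K] [CharP K p] (S : Finset K) (hS : OrbSet F S) :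
    ∃ e, S.card = 2 * e ∧ ∃ x : Sp(e), Odd (orderOf x) ∧ ¬ p ∣ orderOf x ∧ ∀ a ∈ S, a ^ orderOf x = 1 := by
  induction S using Finset.strongInduction with
  | _ S ih =>
    rcases S.eq_empty_or_nonempty with rfl | hne
    · exact ⟨0, rfl, 1, by simp, by simp [(Fact.out : p.Prime).ne_one], by simp⟩
    obtain ⟨O, e, M, hOS, he, hOc, -, hrest, hM, hMo, hpM, hOM⟩ := exists_orbit p hS hne
    obtain ⟨e', hc', x', hx'o, hx'p, hx'⟩ := ih (S \ O)
      (Finset.sdiff_ssubset hOS (Finset.card_pos.1 (by omega))) hrest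
    obtain ⟨x, hx⟩ := exists_symp_order_of_dvd h2 he hM
    have hord : orderOf (sympBlock e e' (x, x')) = Nat.lcm M (orderOf x') := by
      rw [orderOf_injective _ sympBlock_injective, Prod.orderOf, hx]
    refine ⟨e + e', ?_, sympBlock e e' (x, x'), ?_, ?_, fun a ha => ?_⟩
    · have := Finset.card_sdiff_add_card_eq_card hOS
      omega
    · rw [hord]
      exact (hMo.mul hx'o).of_dvd_nat (Nat.lcm_dvd_mul _ _)
    · rw [hord]
      intro hdvd
      rcases (Fact.out : p.Prime).dvd_mul.1 (hdvd.trans (Nat.lcm_dvd_mul _ _)) with h | h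
      · exact hpM h
      · exact hx'p h
    · rw [hord]
      by_cases haO : a ∈ O
      · obtain ⟨r, hr⟩ := Nat.dvd_lcm_left M (orderOf x')
        rw [hr, pow_mul, hOM a haO, one_pow]
      · obtain ⟨r, hr⟩ := Nat.dvd_lcm_right M (orderOf x')
        rw [hr, pow_mul, hx' a (Finset.mem_sdiff.2 ⟨ha, haO⟩), one_pow]

/-- The order dichotomy for elements of odd order. -/
theorem symp_dichotomy (h2 : (2 : F) ≠ 0) {n : ℕ} (hn : 1 ≤ n) (A : Sp(n)) (hA : Odd (orderOf A)) :
    (∃ y : PSp n F, 2 * orderOf A ∣ orderOf y) ∨ orderOf A ∣ p ^ Nat.clog p (2 * n) ∨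
      orderOf A ∣ Fintype.card F ^ n + 1 ∨ orderOf A ∣ Fintype.card F ^ n - 1 := by
  classical
  have hp2 : 1 < p := (Fact.out : p.Prime).one_lt
  have hpo : Odd p := odd_prime_of_two_ne_zero p h2
  let K := AlgebraicClosure F
  haveI : CharP K p := charP_of_injective_algebraMap (algebraMap F K).injective p
  set AM : Matrix (Fin n ⊕ Fin n) (Fin n ⊕ Fin n) F := A.val with hAM
  set N := orderOf A
  have hN : AM ^ N = 1 := by
    rw [hAM, ← SubmonoidClass.coe_pow, pow_orderOf_eq_one, OneMemClass.coe_one]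
  have hN0 : N ≠ 0 := fun h => by rw [h] at hA; exact Nat.not_odd_zero hA
  set R := eigRoots K AM with hR
  have hcard : Multiset.card R = 2 * n := by
    rw [hR, card_eigRoots, Fintype.card_sum, Fintype.card_fin, two_mul]
  have hrootN : ∀ x ∈ R, x ^ N = 1 := fun x hx => pow_eq_one_of_eigRoot hN hx
  have hinvR : ∀ x ∈ R, x⁻¹ ∈ R := by
    intro x hx
    have hx0 : x ≠ 0 := by rintro rfl; simpa [hN0] using hrootN 0 hx
    set Am := AM.map (algebraMap F K)
    have hAm : Am ^ N = 1 := by rw [← Matrix.map_pow, hN]; simp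
    obtain ⟨u, hu⟩ : ∃ u : (Matrix (Fin n ⊕ Fin n) (Fin n ⊕ Fin n) K)ˣ, (u : Matrix (Fin n ⊕ Fin n) (Fin n ⊕ Fin n) K) = Am :=
      IsUnit.of_pow_eq_one hAm hN0
    have h1 : (((Units.mk0 x hx0)⁻¹ : Kˣ) : K) ∈ spectrum K ((u⁻¹ : (Matrix (Fin n ⊕ Fin n) (Fin n ⊕ Fin n) K)ˣ) : Matrix (Fin n ⊕ Fin n) (Fin n ⊕ Fin n) K) :=
      (spectrum.inv_mem_iff (r := Units.mk0 x hx0) (a := u)).1 (by rw [Units.val_mk0, hu]; exact mem_eigRoots_iff.1 hx)
    rw [Units.val_inv_eq_inv_val, Units.val_mk0, Matrix.mem_spectrum_iff_isRoot_charpoly] at h1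
    have hJ : Am.transpose * Matrix.J (Fin n) K * Am = Matrix.J (Fin n) K := by
      have h := congrArg (fun M : Matrix (Fin n ⊕ Fin n) (Fin n ⊕ Fin n) F => M.map (algebraMap F K))
        (SymplecticGroup.mem_iff'.1 A.2)
      simp only [Matrix.map_mul, Matrix.map_J] at h
      rw [Matrix.transpose_map] at h
      exact h
    obtain ⟨uJ, huJ⟩ : ∃ uJ : (Matrix (Fin n ⊕ Fin n) (Fin n ⊕ Fin n) K)ˣ,
        (uJ : Matrix (Fin n ⊕ Fin n) (Fin n ⊕ Fin n) K) = Matrix.J (Fin n) K :=
      (Matrix.isUnit_iff_isUnit_det _).2 (Matrix.isUnit_det_J _ _)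
    have hinv : ((u⁻¹ : (Matrix (Fin n ⊕ Fin n) (Fin n ⊕ Fin n) K)ˣ) : Matrix (Fin n ⊕ Fin n) (Fin n ⊕ Fin n) K) = (uJ⁻¹ : (Matrix (Fin n ⊕ Fin n) (Fin n ⊕ Fin n) K)ˣ) * Am.transpose * uJ := by
      rw [Units.inv_eq_of_mul_eq_one_left]
      rw [hu, mul_assoc, mul_assoc, ← mul_assoc Am.transpose, huJ, hJ, ← huJ, Units.inv_mul]
    rw [hinv, Matrix.coe_units_inv, Matrix.charpoly_units_conj', Matrix.charpoly_transpose] at h1
    exact mem_eigRoots_iff.2 (Matrix.mem_spectrum_iff_isRoot_charpoly.2 h1)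
  set S := R.toFinset.erase 1
  have hS : OrbSet F S := by
    refine ⟨fun x hx => ?_, fun x hx => ?_, fun x hx => ?_⟩ <;>
      obtain ⟨hx1, hxR⟩ := Finset.mem_erase.1 hx <;> rw [Multiset.mem_toFinset] at hxR
    · refine Finset.mem_erase.2 ⟨fun h => hx1 ?_, Multiset.mem_toFinset.2 (pow_card_mem_eigRoots hxR)⟩
      exact (FiniteField.frobeniusAlgHom F K).toRingHom.injective (by simpa using h)
    · exact Finset.mem_erase.2 ⟨fun h => hx1 (inv_eq_one.1 h), Multiset.mem_toFinset.2 (hinvR x hxR)⟩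
    · exact ⟨hx1, hA.of_dvd_nat (orderOf_dvd_of_pow_eq_one (hrootN x hxR))⟩
  have hNdvd : ∀ c M, M ≠ 0 → (∀ x ∈ S, x ^ M = 1) → (∀ x ∈ R, R.count x ≤ p ^ c) → N ∣ p ^ c * M := by
    intro c M hM hroot hmult
    refine orderOf_dvd_of_pow_eq_one (Subtype.ext ?_)
    rw [SubmonoidClass.coe_pow, OneMemClass.coe_one]
    refine pow_eq_one_of_eigRoots (K := K) p AM hM (fun x hx => ?_) hmult
    by_cases hx1 : x = 1
    · rw [hx1, one_pow]
    · exact hroot x (Finset.mem_erase.2 ⟨hx1, Multiset.mem_toFinset.2 hx⟩)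
  rcases S.eq_empty_or_nonempty with hS0 | hne
  · refine Or.inr (Or.inl ?_)
    have := hNdvd (Nat.clog p (2 * n)) 1 one_ne_zero (by simp [hS0])
      (fun x _ => (Multiset.count_le_card x R).trans (hcard ▸ Nat.le_pow_clog hp2 _))
    rwa [mul_one] at this
  obtain ⟨e, hSe, x, hxo, hxp, hxS⟩ := exists_symp_of_orbSet p h2 S hS
  have he : 1 ≤ e := by have := Finset.card_pos.2 hne; omega
  have hx0 : orderOf x ≠ 0 := fun h => by rw [h] at hxo; exact Nat.not_odd_zero hxo
  have hle : S.card ≤ 2 * n := hcard ▸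
    (Finset.card_le_card (Finset.erase_subset _ _)).trans (Multiset.toFinset_card_le R)
  have hcount : ∀ y, 2 * e + R.count y ≤ 2 * n + 1 := fun y => hSe ▸ hcard ▸ card_erase_add_count_le R y 1
  by_cases hfree : e < n
  · left
    obtain ⟨f, hf⟩ : ∃ f, n = e + f := ⟨n - e, by omega⟩
    have hf1 : 1 ≤ f := by omega
    obtain ⟨z, hz⟩ := exists_symp_regular_unipotent (F := F) p hf1
    set c := Nat.clog p (2 * f)
    have hpc : 2 * f < p ^ c := lt_of_le_of_ne (Nat.le_pow_clog hp2 _) (fun h => by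
      have ho : Odd (p ^ c) := hpo.pow
      rw [← h] at ho
      exact Nat.not_odd_iff_even.2 (even_two_mul f) ho)
    have hN' : N ∣ p ^ c * orderOf x := hNdvd c _ hx0 hxS (fun y _ => by have := hcount y; omega)
    obtain ⟨y, hy⟩ := exists_psp_lcm h2 hf.symm hf1 (sympNegOne e F * x) z (by rw [hz]; exact hpo.pow)
    refine ⟨y, Dvd.dvd.trans ?_ hy⟩
    rw [orderOf_sympNegOne_mul h2 he hxo, hz]
    have hco : Nat.Coprime (2 * orderOf x) (p ^ c) := by
      refine Nat.Coprime.pow_right _ (Nat.Coprime.mul_left ?_ ?_)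
      · exact hpo.coprime_two_left
      · exact ((Fact.out : p.Prime).coprime_iff_not_dvd.2 hxp).symm
    rw [hco.lcm_eq_mul, mul_assoc, mul_comm (orderOf x)]
    exact mul_dvd_mul_left 2 hN'
  · have hen : e = n := by omega
    have hN' : N ∣ orderOf x := by
      have := hNdvd 0 _ hx0 hxS (fun y _ => by have := hcount y; rw [pow_zero]; omega)
      rwa [pow_zero, one_mul] at this
    obtain ⟨O, e₁, M, hOS, he₁, hOc, -, hrest, hM, hMo, hpM, hOM⟩ := exists_orbit p hS hne
    by_cases hall : S \ O = ∅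
    · have hSO : S = O := le_antisymm (Finset.sdiff_eq_empty_iff_subset.1 hall) hOS
      have he1n : e₁ = n := by rw [hSO] at hSe; omega
      have hNM : N ∣ M := by
        have := hNdvd 0 M (fun h => by rw [h] at hMo; exact Nat.not_odd_zero hMo)
          (hSO ▸ hOM) (fun y _ => by have := hcount y; rw [pow_zero]; omega)
        rwa [pow_zero, one_mul] at this
      subst he1n
      exact Or.inr (Or.inr (hM.imp hNM.trans hNM.trans))
    · left
      obtain ⟨e₂, hc₂, x₂, hx₂o, -, hx₂⟩ := exists_symp_of_orbSet p h2 (S \ O) hrest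
      obtain ⟨x₁, hx₁⟩ := exists_symp_order_of_dvd h2 he₁ hM
      have he₂ : 1 ≤ e₂ := by
        have := Finset.card_pos.2 (Finset.nonempty_iff_ne_empty.2 hall); omega
      have hsum : e₁ + e₂ = n := by
        have := Finset.card_sdiff_add_card_eq_card hOS; omega
      obtain ⟨y, hy⟩ := exists_psp_lcm h2 hsum he₂ (sympNegOne e₁ F * x₁) x₂ hx₂o
      refine ⟨y, Dvd.dvd.trans ?_ hy⟩
      rw [orderOf_sympNegOne_mul h2 he₁ (hx₁ ▸ hMo), hx₁]
      have hx₂0 : orderOf x₂ ≠ 0 := fun h => by rw [h] at hx₂o; exact Nat.not_odd_zero hx₂o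
      have hNl : N ∣ Nat.lcm M (orderOf x₂) := by
        have := hNdvd 0 (Nat.lcm M (orderOf x₂))
          (Nat.lcm_ne_zero (fun h => by rw [h] at hMo; exact Nat.not_odd_zero hMo) hx₂0)
          (fun a ha => ?_) (fun y _ => by have := hcount y; rw [pow_zero]; omega)
        · rwa [pow_zero, one_mul] at this
        · by_cases haO : a ∈ O
          · obtain ⟨r, hr⟩ := Nat.dvd_lcm_left M (orderOf x₂)
            rw [hr, pow_mul, hOM a haO, one_pow]
          · obtain ⟨r, hr⟩ := Nat.dvd_lcm_right M (orderOf x₂)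
            rw [hr, pow_mul, hx₂ a (Finset.mem_sdiff.2 ⟨ha, haO⟩), one_pow]
      refine Nat.Coprime.mul_dvd_of_dvd_of_dvd hA.coprime_two_left ?_ ?_
      · exact (dvd_mul_right 2 M).trans (Nat.dvd_lcm_left _ _)
      · refine hNl.trans (Nat.lcm_dvd ?_ (Nat.dvd_lcm_right _ _))
        exact (dvd_mul_left M 2).trans (Nat.dvd_lcm_left _ _)

end Cfsg.Agent.Classical
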