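import Cfsg.Agent.Lib.Classical.UnitRootGroups

/-!
The stabiliser of an isotropic point: the space orthogonal to a hyperbolic pair, and the Heisenberg
group as the largest normal `p`-subgroup of the centraliser of a transvection group.
-/

set_option autoImplicit false
set_option linter.unusedSectionVars false

namespace Cfsg.Agent.Classical.PSUAut

open Matrix
open scoped Pointwise

variable {F : Type*} [Field F] [Fintype F] {q n : ℕ}

local notation "V" => (Fin n → F)
local notation "Mn" => Matrix (Fin n) (Fin n) F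
local notation "PS" => PSU n F q

section
variable (hF : Fintype.card F = q ^ 2)

local notation "h" => hermForm n F q
local notation "cj" => qFrob hF
local notation "π" => suToPSU n F q

omit [Fintype F] in
/-- The vectors orthogonal to a hyperbolic pair. -/
def wSub (q : ℕ) (e f : V) : Submodule F V where
  carrier := {w | hermForm n F q w e = 0 ∧ hermForm n F q w f = 0}
  add_mem' {a b} ha hb := ⟨by rw [hermForm_add_left, ha.1, hb.1, add_zero],
    by rw [hermForm_add_left, ha.2, hb.2, add_zero]⟩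
  zero_mem' := ⟨by simp [hermForm], by simp [hermForm]⟩
  smul_mem' a w hw := ⟨by rw [hermForm_smul_left, hw.1, mul_zero], by rw [hermForm_smul_left, hw.2, mul_zero]⟩

include hF

theorem wSub_swap (e f : V) : wSub q e f = wSub q f e := by
  ext w; exact and_comm

theorem wPart_mem {e f : V} (P : IsPair (q := q) e f) (x : V) : wPart (q := q) e f x ∈ wSub q e f :=
  wPart_orth hF P x

theorem wPart_of_mem {e f w : V} (hw : w ∈ wSub q e f) : wPart (q := q) e f w = w := by
  rw [wPart, hw.1, hw.2]; simp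

theorem wPart_add (e f x y : V) :
    wPart (q := q) e f (x + y) = wPart (q := q) e f x + wPart (q := q) e f y := by
  simp only [wPart, h_add_left]; module

theorem wPart_smul (e f x : V) (a : F) : wPart (q := q) e f (a • x) = a • wPart (q := q) e f x := by
  simp only [wPart, h_smul_left]; module

theorem wPart_left {e f : V} (P : IsPair (q := q) e f) : wPart (q := q) e f e = 0 := by
  rw [wPart, P.ee, P.ef]; simp

theorem wSub_eq_zero {e f : V} (P : IsPair (q := q) e f) {w : V} (hw : w ∈ wSub q e f)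
    (h0 : ∀ y ∈ wSub q e f, h w y = 0) : w = 0 := by
  refine eq_zero_of_h hF fun x => ?_
  rw [wPart_eq (q := q) e f x, h_add_right hF, h_add_right hF, h_smul_right hF, h_smul_right hF,
    hw.1, hw.2, h0 _ (wPart_mem hF P x)]
  simp

theorem wSub_partner {e f : V} (P : IsPair (q := q) e f) {z : V} (hz : z ∈ wSub q e f) (hz0 : z ≠ 0)
    (hzz : h z z = 0) : ∃ y ∈ wSub q e f, h y y = 0 ∧ h z y = 1 := by
  obtain ⟨y, P'⟩ := exists_pair hF hz0 hzz
  set y1 := wPart (q := q) e f y
  have hy1 : y1 ∈ wSub q e f := wPart_mem hF P y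
  have hzy : h z y1 = 1 := by
    have h2 := congrArg (h z) (wPart_eq (q := q) e f y)
    rw [h_add_right hF, h_add_right hF, h_smul_right hF, h_smul_right hF, hz.1, hz.2, P'.ef] at h2
    linear_combination -h2
  obtain ⟨a, ha⟩ := exists_trace_eq hF (a := -h y1 y1) (by rw [map_neg, cj_h_self hF])
  refine ⟨y1 + a • z, Submodule.add_mem _ hy1 (Submodule.smul_mem _ a hz), ?_, ?_⟩
  · rw [h_add_left, h_add_right hF, h_add_right hF, h_smul_right hF, h_smul_right hF, h_smul_left,
      h_smul_left, hzz, hzy, ← cj_h hF z y1, hzy, map_one]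
    linear_combination ha
  · rw [h_add_right hF, h_smul_right hF, hzy, hzz, mul_zero, add_zero]

/-- Either the orthogonal space contains an isotropic vector or it is a line. -/
theorem wSub_dichotomy {e f : V} :
    (∃ z ∈ wSub q e f, z ≠ 0 ∧ h z z = 0) ∨
      ∀ x ∈ wSub q e f, x ≠ 0 → ∀ y ∈ wSub q e f, ∃ a : F, y = a • x := by
  refine or_iff_not_imp_left.2 fun hno x hx hx0 y hy => ?_
  push Not at hno
  have hxx := hno x hx hx0
  set a := h y x / h x x
  refine ⟨a, sub_eq_zero.1 (by_contra fun hne => ?_)⟩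
  set u := y - a • x
  have hu : u ∈ wSub q e f := Submodule.sub_mem _ hy (Submodule.smul_mem _ a hx)
  have hux : h u x = 0 := by rw [h_sub_left, h_smul_left, div_mul_cancel₀ _ hxx, sub_self]
  have huu := hno u hu hne
  obtain ⟨b, hb⟩ := exists_norm hF (a := -h x x / h u u) (by
    rw [map_div₀, map_neg, cj_h_self hF, cj_h_self hF])
  have hz0 : x + b • u ≠ 0 := fun h0 => hxx (by
    have h1 := congrArg (fun z => h z x) h0
    simpa [h_add_left, h_smul_left, hux, h_zero_left] using h1)
  refine hno _ (Submodule.add_mem _ hx (Submodule.smul_mem _ b hu)) hz0 ?_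
  rw [h_add_left, h_add_right hF, h_add_right hF, h_smul_right hF, h_smul_right hF, h_smul_left,
    h_smul_left, hux, h_comm_zero hF hux]
  linear_combination h u u * hb + (div_mul_cancel₀ (-h x x) huu)

/-- The orthogonal space is spanned by its isotropic vectors, if there are any. -/
theorem wSub_induction {e f : V} (P : IsPair (q := q) e f) {z0 : V} (hz : z0 ∈ wSub q e f) (hz0 : z0 ≠ 0)
    (hzz : h z0 z0 = 0) {C : V → Prop} (hiso : ∀ z ∈ wSub q e f, h z z = 0 → C z)
    (hadd : ∀ x y, x ∈ wSub q e f → y ∈ wSub q e f → C x → C y → C (x + y)) :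
    ∀ w ∈ wSub q e f, C w := by
  intro w hw
  by_cases hww : h w w = 0
  · exact hiso w hw hww
  -- an isotropic vector not orthogonal to `w`
  obtain ⟨z, hzW, hzz', hwz⟩ : ∃ z ∈ wSub q e f, h z z = 0 ∧ h w z ≠ 0 := by
    obtain ⟨y, hy, hyy, hzy⟩ := wSub_partner hF P hz hz0 hzz
    by_cases h1 : h w z0 ≠ 0
    · exact ⟨z0, hz, hzz, h1⟩
    push Not at h1
    by_cases h2 : h w y ≠ 0
    · exact ⟨y, hy, hyy, h2⟩
    push Not at h2
    obtain ⟨t, ht⟩ : ∃ t : F, t + cj t = 1 := exists_trace_eq hF (map_one _)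
    set u := t • z0 + y
    have huu : h u u = 1 := by
      rw [h_add_left, h_add_right hF, h_add_right hF, h_smul_left, h_smul_left, h_smul_right hF,
        h_smul_right hF, hzz, hyy, hzy, ← cj_h hF z0 y, hzy, map_one]
      linear_combination ht
    have hwu : h w u = 0 := by rw [h_add_right hF, h_smul_right hF, h1, h2]; ring
    obtain ⟨b, hb⟩ := exists_norm hF (a := -h w w) (by rw [map_neg, cj_h_self hF])
    refine ⟨w + b • u, Submodule.add_mem _ hw (Submodule.smul_mem _ b
      (Submodule.add_mem _ (Submodule.smul_mem _ t hz) hy)), ?_, ?_⟩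
    · rw [h_add_left, h_add_right hF, h_add_right hF, h_smul_left, h_smul_left, h_smul_right hF,
        h_smul_right hF, hwu, h_comm_zero hF hwu, huu]
      linear_combination hb
    · rwa [h_add_right hF, h_smul_right hF, hwu, mul_zero, add_zero]
  obtain ⟨r, hr⟩ := exists_trace_eq hF (a := h w w) (cj_h_self hF w)
  set a := cj (r / h w z)
  have hiso' : h (w - a • z) (w - a • z) = 0 := by
    rw [h_sub_left, h_sub_right hF, h_sub_right hF, h_smul_left, h_smul_left, h_smul_right hF,
      h_smul_right hF, hzz', ← cj_h hF w z, ← map_mul, cj_cj, div_mul_cancel₀ _ hwz]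
    linear_combination -hr
  have := hadd _ _ (Submodule.sub_mem _ hw (Submodule.smul_mem _ a hzW)) (Submodule.smul_mem _ a hzW)
    (hiso _ (Submodule.sub_mem _ hw (Submodule.smul_mem _ a hzW)) hiso')
    (hiso _ (Submodule.smul_mem _ a hzW) (by rw [h_smul_left, h_smul_right hF, hzz']; ring))
  rwa [sub_add_cancel] at this

theorem eMat_smul (e w : V) (a c : F) :
    eMat q (a • e) w c = eMat q e (cj a • w) (a * cj a * c) := by
  refine Matrix.ext_iff_mulVec.2 fun x => ?_
  simp only [eMat_mulVec, h_smul_right hF, cj_cj]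
  module

/-- The Heisenberg group in `PSU`. -/
def qBar (e : V) (he : h e e = 0) : Subgroup PS := (heisU hF e he).map (suToPSU n F q)

/-- The centraliser of a transvection group. -/
def centR (e : V) : Subgroup PS := Subgroup.centralizer (rootU (n := n) hF e)

theorem mem_centR (hn : 1 ≤ n) {e : V} (he : e ≠ 0) (hee : h e e = 0) {s : SU n F q}
    (hs : π s ∈ centR hF e) : ∃ l : F, l * cj l = 1 ∧ suVal s *ᵥ e = l • e := by
  obtain ⟨t, ht0, ht⟩ := exists_trace_zero hF
  set T := eSU hF (eOK_transvection hF hee ht)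
  have hc : π T * π s = π s * π T := Subgroup.mem_centralizer_iff.1 hs _ (mem_rootU hF hee ht)
  have h1 : π (s * T * s⁻¹) = π T := by
    rw [map_mul, map_mul, map_inv, ← hc, mul_inv_cancel_right]
  rw [eSU_conj hF] at h1
  have h2 := eMat_eq_of_pi_eq hF hn _ _ h1
  rw [Matrix.mulVec_zero] at h2
  obtain ⟨l, -, hl⟩ := exists_smul_of_tv_eq hF (fun h' => he (su_injective s h')) ht0 h2
  refine ⟨l, ?_, hl⟩
  rw [hl, tv_smul hF] at h2
  exact mul_right_cancel₀ ht0 ((tv_coeff_inj hF he h2).trans (one_mul t).symm)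

theorem centR_of_smul {e : V} {s : SU n F q} {l : F} (hl : l * cj l = 1) (hs : suVal s *ᵥ e = l • e) :
    π s ∈ centR hF e := by
  refine Subgroup.mem_centralizer_iff.2 ?_
  rintro _ ⟨T, c, hc, hT, rfl⟩
  have h1 : s * T * s⁻¹ = T := suVal_ext (by
    rw [suVal_mul, suVal_mul, hT, eMat_conj hF, hs, Matrix.mulVec_zero, tv_smul hF, hl, one_mul])
  exact ((show Commute T s from (mul_inv_eq_iff_eq_mul.1 h1).symm).map π).eq

theorem heisU_fix {e : V} {he : h e e = 0} {s : SU n F q} (hs : s ∈ heisU hF e he) :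
    suVal s *ᵥ e = e := by
  obtain ⟨w, c, H, hs⟩ := hs
  rw [hs, eMat_mulVec, he, H.ew hF]
  simp

theorem qBar_le_centR {e : V} (he : h e e = 0) : qBar hF e he ≤ centR hF e := by
  rintro _ ⟨s, hs, rfl⟩
  exact centR_of_smul hF (l := 1) (by rw [map_one, one_mul]) (by rw [heisU_fix hF hs, one_smul])

theorem qBar_conj (hn : 1 ≤ n) {e : V} (he0 : e ≠ 0) (he : h e e = 0) {x y : PS} (hx : x ∈ centR hF e)
    (hy : y ∈ qBar hF e he) : x * y * x⁻¹ ∈ qBar hF e he := by
  obtain ⟨s, rfl⟩ := pi_surjective (n := n) (q := q) x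
  obtain ⟨t, ⟨w, c, H, ht⟩, rfl⟩ := hy
  obtain ⟨l, hl, hse⟩ := mem_centR hF hn he0 he hx
  refine ⟨s * t * s⁻¹, ⟨cj l • (suVal s *ᵥ w), l * cj l * c, ⟨he, ?_, ?_⟩, ?_⟩, by simp⟩
  · have h1 := su_form s w e
    rw [hse, h_smul_right hF, H.we] at h1
    rw [h_smul_left]; exact h1
  · have h1 := H.cc
    rw [h_smul_left, h_smul_right hF, cj_cj, su_form, hl, one_mul]
    linear_combination h1 + (h w w) * hl
  · rw [suVal_mul, suVal_mul, ht, eMat_conj hF, hse, eMat_smul hF]

/-- The Heisenberg group is the largest normal `p`-subgroup of the centraliser of its centre. -/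
theorem le_qBar (hn : 3 ≤ n) {p : ℕ} [Fact p.Prime] [CharP F p] {e f : V} (P : IsPair (q := q) e f)
    {N : Subgroup PS} (hN : N ≤ centR hF e) (hNp : IsPGroup p N)
    (hnorm : ∀ x ∈ centR hF e, ∀ y ∈ N, x * y * x⁻¹ ∈ N) : N ≤ qBar hF e P.ee := by
  classical
  have hn1 : 1 ≤ n := by omega
  set K := N.comap π
  obtain ⟨P0⟩ := (inferInstance : Nonempty (Sylow p K))
  set N' := (P0 : Subgroup K).map K.subtype
  have hN'p : IsPGroup p N' := P0.2.map _
  -- the preimage is the product of the centre and its Sylow subgroup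
  have hcentre : Subgroup.center (SU n F q) ≤ K := fun z hz => by
    show π z ∈ N
    rw [show π z = 1 from (QuotientGroup.eq_one_iff z).2 hz]; exact one_mem _
  have hP0map : (N'.map π) = N := by
    have hle : N'.map π ≤ N := by
      rintro _ ⟨_, ⟨⟨x, hx⟩, -, rfl⟩, rfl⟩
      exact hx
    refine Subgroup.eq_of_le_of_card_ge hle ?_
    let ρ : K →* N := ((suToPSU n F q).comp K.subtype).codRestrict N fun x => x.2
    have hρ : Function.Surjective ρ := by
      rintro ⟨y, hy⟩
      obtain ⟨x, rfl⟩ := pi_surjective (n := n) (q := q) y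
      exact ⟨⟨x, hy⟩, rfl⟩
    have h3 : ((P0 : Subgroup K).map ρ).index ∣ (P0 : Subgroup K).index := Subgroup.index_map_dvd _ hρ
    obtain ⟨k, hk⟩ := IsPGroup.iff_card.1 hNp
    have h4 : ((P0 : Subgroup K).map ρ).index = 1 := by
      have h5 : ((P0 : Subgroup K).map ρ).index ∣ p ^ k := hk ▸ Subgroup.index_dvd_card _
      obtain ⟨i, -, hi⟩ := (Nat.dvd_prime_pow (Fact.out : p.Prime)).1 h5
      rcases Nat.eq_zero_or_pos i with rfl | hi0
      · exact hi
      · exact absurd ((dvd_pow_self p hi0.ne').trans (hi ▸ h3)) P0.not_dvd_index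
    rw [show N'.map π = ((P0 : Subgroup K).map ρ).map N.subtype by
      rw [Subgroup.map_map, Subgroup.map_map]; rfl,
      Subgroup.card_map_of_injective (Subgroup.subtype_injective _), Subgroup.index_eq_one.1 h4,
      Subgroup.card_top]
  have hpel : ∀ s : SU n F q, π s ∈ N → (∃ k, s ^ p ^ k = 1) → s ∈ N' := by
    intro s hs ⟨k, hk⟩
    refine ⟨⟨s, hs⟩, ?_, rfl⟩
    have hnormal : (⟨s, hs⟩ : K) ∈ Subgroup.normalizer ((P0 : Subgroup K) : Set K) := by
      -- the Sylow subgroup commutes with the centre and covers `N`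
      obtain ⟨a, ha, ha'⟩ : π s ∈ N'.map π := by rw [hP0map]; exact hs
      obtain ⟨⟨a', haK⟩, haP, rfl⟩ := ha
      have hz : a'⁻¹ * s ∈ Subgroup.center (SU n F q) := (QuotientGroup.eq_one_iff _).1
        (show π (a'⁻¹ * s) = 1 by rw [map_mul, map_inv, inv_mul_eq_one]; exact ha')
      have e1 : (⟨s, hs⟩ : K) = ⟨a', haK⟩ * ⟨a'⁻¹ * s, hcentre hz⟩ := Subtype.ext (by simp)
      rw [e1]
      refine mul_mem (Subgroup.le_normalizer haP) (Subgroup.mem_normalizer_iff.2 fun y => ?_)
      have hy : (⟨a'⁻¹ * s, hcentre hz⟩ : K) * y * (⟨a'⁻¹ * s, hcentre hz⟩ : K)⁻¹ = y := Subtype.ext (by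
        show (a'⁻¹ * s) * (y : SU n F q) * (a'⁻¹ * s)⁻¹ = y
        rw [← Subgroup.mem_center_iff.1 hz (y : SU n F q), mul_inv_cancel_right])
      rw [hy]
    have hpz : IsPGroup p (Subgroup.zpowers (⟨s, hs⟩ : K)) := by
      have hpow : (⟨s, hs⟩ : K) ^ p ^ k = 1 := Subtype.ext (by simpa using hk)
      obtain ⟨i, -, hi⟩ := (Nat.dvd_prime_pow (Fact.out : p.Prime)).1 (orderOf_dvd_of_pow_eq_one hpow)
      exact IsPGroup.of_card (n := i) (by rw [Nat.card_zpowers, hi])
    have hsup := hpz.to_sup_of_normal_right' P0.2 (Subgroup.zpowers_le.2 hnormal)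
    rw [← P0.3 hsup le_sup_right]
    exact Subgroup.mem_sup_left (Subgroup.mem_zpowers _)
  have hN'N : ∀ s ∈ N', π s ∈ N := fun s hs => hP0map ▸ Subgroup.mem_map_of_mem _ hs
  have hord : ∀ s ∈ N', ∃ k, s ^ p ^ k = 1 := fun s hs => by
    obtain ⟨k, hk⟩ := hN'p ⟨s, hs⟩
    exact ⟨k, congrArg Subtype.val hk⟩
  have hconj : ∀ u : SU n F q, π u ∈ centR hF e → ∀ s ∈ N', u * s * u⁻¹ ∈ N' := fun u hu s hs => by
    obtain ⟨k, hk⟩ := hord s hs
    refine hpel _ (by rw [map_mul, map_mul, map_inv]; exact hnorm _ hu _ (hN'N s hs)) ⟨k, ?_⟩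
    rw [conj_pow, hk]; group
  -- `N'` fixes `e`
  have hfix : ∀ s ∈ N', suVal s *ᵥ e = e := by
    intro s hs
    obtain ⟨l, -, hl⟩ := mem_centR hF hn1 P.ne_zero P.ee (hN (hN'N s hs))
    obtain ⟨k, hk⟩ := hord s hs
    have hpow : ∀ i : ℕ, suVal (s ^ i) *ᵥ e = l ^ i • e := fun i => by
      induction i with
      | zero => rw [pow_zero, pow_zero, one_smul]; exact Matrix.one_mulVec e
      | succ i ih => rw [pow_succ, suVal_mul, ← Matrix.mulVec_mulVec, hl, Matrix.mulVec_smul, ih, smul_smul,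
          pow_succ']
    have h1 := hpow (p ^ k)
    rw [hk, show suVal (1 : SU n F q) = 1 from rfl, Matrix.one_mulVec] at h1
    have h2 : l ^ p ^ k = 1 := smul_left_injective F P.ne_zero ((one_smul F e).trans h1).symm
    rw [hl, show l = 1 from iterateFrobenius_inj F p k (by simpa [iterateFrobenius_def] using h2), one_smul]
  set Wsp := wSub q e f
  -- action on the orthogonal space
  have hperp : ∀ s ∈ N', ∀ x, h x e = 0 → h (suVal s *ᵥ x) e = 0 := fun s hs x hx => by
    conv_lhs => arg 5; rw [← hfix s hs]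
    rw [su_form, hx]
  have hcomp : ∀ s ∈ N', ∀ t ∈ N', ∀ w ∈ Wsp,
      wPart (q := q) e f (suVal s *ᵥ wPart (q := q) e f (suVal t *ᵥ w)) =
        wPart (q := q) e f (suVal (s * t) *ᵥ w) := by
    intro s hs t ht w hw
    have h1 : suVal t *ᵥ w = h (suVal t *ᵥ w) f • e + wPart (q := q) e f (suVal t *ᵥ w) := by
      conv_lhs => rw [wPart_eq (q := q) e f (suVal t *ᵥ w)]
      rw [hperp t ht w hw.1, zero_smul, add_zero]
    conv_rhs => rw [suVal_mul, ← Matrix.mulVec_mulVec, h1, Matrix.mulVec_add, Matrix.mulVec_smul, hfix s hs,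
      wPart_add hF, wPart_smul hF, wPart_left hF P, smul_zero, zero_add]
  letI : MulAction N' Wsp :=
    { smul := fun s w => ⟨wPart (q := q) e f (suVal (s : SU n F q) *ᵥ (w : V)), wPart_mem hF P _⟩
      one_smul := fun w => Subtype.ext (by
        show wPart (q := q) e f (suVal (1 : SU n F q) *ᵥ (w : V)) = w
        rw [show suVal (1 : SU n F q) = 1 from rfl, Matrix.one_mulVec, wPart_of_mem hF w.2])
      mul_smul := fun s t w => Subtype.ext (hcomp s s.2 t t.2 w w.2).symm }
  obtain ⟨u0, hu0e, hu0f, hu0⟩ := exists_aniso_orth hF hn P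
  have hpW : p ∣ Nat.card Wsp := by
    rw [Module.natCard_eq_pow_finrank (K := F)]
    obtain ⟨j, -, hj⟩ := FiniteField.card F p
    have hpos : 0 < Module.finrank F Wsp := Module.finrank_pos_iff_exists_ne_zero.2
      ⟨⟨u0, hu0e, hu0f⟩, fun h0 => hu0 (by rw [show u0 = 0 from congrArg Subtype.val h0, h_zero_left])⟩
    rw [Nat.card_eq_fintype_card, hj]
    exact dvd_pow (dvd_pow_self p j.ne_zero) hpos.ne'
  have hzero : (0 : Wsp) ∈ MulAction.fixedPoints N' Wsp := fun s => Subtype.ext (by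
    show wPart (q := q) e f (suVal (s : SU n F q) *ᵥ ((0 : Wsp) : V)) = _
    rw [Submodule.coe_zero, Matrix.mulVec_zero, wPart_of_mem hF (Submodule.zero_mem Wsp)])
  obtain ⟨w0, hw0, hw0ne⟩ := hN'p.exists_fixed_point_of_prime_dvd_card_of_fixed_point Wsp hpW hzero
  set U0 : Set V := {w | w ∈ Wsp ∧ ∀ s ∈ N', wPart (q := q) e f (suVal s *ᵥ w) = w} with hU0
  have hU0add : ∀ x y, x ∈ U0 → y ∈ U0 → x + y ∈ U0 := fun x y hx hy =>
    ⟨Submodule.add_mem _ hx.1 hy.1, fun s hs => by
      rw [Matrix.mulVec_add, wPart_add hF, hx.2 s hs, hy.2 s hs]⟩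
  have hU0smul : ∀ (a : F) x, x ∈ U0 → a • x ∈ U0 := fun a x hx =>
    ⟨Submodule.smul_mem _ a hx.1, fun s hs => by rw [Matrix.mulVec_smul, wPart_smul hF, hx.2 s hs]⟩
  have hw0U : (w0 : V) ∈ U0 := ⟨w0.2, fun s hs => congrArg Subtype.val (hw0 ⟨s, hs⟩)⟩
  have hw0ne' : (w0 : V) ≠ 0 := fun h0 => hw0ne (Subtype.ext (by simpa using h0.symm))
  obtain ⟨c0, hc00, hc0⟩ := exists_trace_zero hF
  -- invariance under transvections inside the orthogonal space
  have hstep : ∀ x ∈ U0, ∀ z ∈ Wsp, h z z = 0 → h x z ≠ 0 → z ∈ U0 := by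
    intro x hx z hz hzz hxz
    set u := eSU hF (eOK_transvection hF hzz hc0)
    have hue : suVal u *ᵥ e = e := by
      rw [suVal_eSU, tv_apply' hF, h_comm_zero hF hz.1, mul_zero, zero_smul, add_zero]
    have huC : π u ∈ centR hF e :=
      centR_of_smul hF (l := 1) (by rw [map_one, one_mul]) (by rw [hue, one_smul])
    have hux : suVal u *ᵥ x = x + (c0 * h x z) • z := by rw [suVal_eSU, tv_apply' hF]
    refine ⟨hz, fun s hs => ?_⟩
    have hs' : u⁻¹ * s * u ∈ N' := by
      simpa using hconj u⁻¹ (by rw [map_inv]; exact inv_mem huC) s hs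
    -- `s` fixes the image of `x`
    obtain ⟨a, ha⟩ : ∃ a : F, suVal (u⁻¹ * s * u) *ᵥ x = a • e + x := by
      refine ⟨h (suVal (u⁻¹ * s * u) *ᵥ x) f, ?_⟩
      conv_lhs => rw [wPart_eq (q := q) e f (suVal (u⁻¹ * s * u) *ᵥ x)]
      rw [hperp _ hs' x hx.1.1, zero_smul, add_zero, hx.2 _ hs']
    have h1 : suVal s *ᵥ (suVal u *ᵥ x) = a • e + suVal u *ᵥ x := by
      have h2 := congrArg (suVal u *ᵥ ·) ha
      simp only [Matrix.mulVec_mulVec, ← suVal_mul, mul_assoc, mul_inv_cancel_left] at h2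
      rw [suVal_mul, ← Matrix.mulVec_mulVec, Matrix.mulVec_add, Matrix.mulVec_smul, hue] at h2
      exact h2
    rw [hux, Matrix.mulVec_add, Matrix.mulVec_smul] at h1
    have h3 := congrArg (wPart (q := q) e f) h1
    rw [wPart_add hF, wPart_smul hF, hx.2 s hs, wPart_add hF, wPart_smul hF, wPart_left hF P, smul_zero,
      zero_add, wPart_add hF, wPart_of_mem hF hx.1, wPart_smul hF, wPart_of_mem hF hz, add_right_inj] at h3
    exact smul_right_injective _ (mul_ne_zero hc00 hxz) h3
  have hall : ∀ w ∈ Wsp, w ∈ U0 := by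
    rcases wSub_dichotomy hF (e := e) (f := f) with ⟨z0, hz0, hz0ne, hz0z⟩ | hline
    · have hiso : ∀ z ∈ Wsp, h z z = 0 → z ∈ U0 := by
        -- one isotropic vector not orthogonal to the fixed vector
        obtain ⟨z1, hz1, hz1z, hw0z⟩ : ∃ z ∈ Wsp, h z z = 0 ∧ h (w0 : V) z ≠ 0 := by
          by_contra hcon
          push Not at hcon
          refine hw0ne' (wSub_eq_zero hF P w0.2 fun y hy => ?_)
          exact wSub_induction hF P hz0 hz0ne hz0z (C := fun y => h (w0 : V) y = 0) hcon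
            (fun a b _ _ ha hb => by rw [h_add_right hF, ha, hb, add_zero]) y hy
        have hz1U := hstep _ hw0U z1 hz1 hz1z hw0z
        have hz1ne : z1 ≠ 0 := fun h0 => hw0z (by rw [h0, h_zero_right hF])
        intro z hz hzz
        by_cases hzne : z = 0
        · rw [hzne]; simpa using hU0smul 0 _ hw0U
        by_cases h1 : h z1 z ≠ 0
        · exact hstep _ hz1U z hz hzz h1
        push Not at h1
        obtain ⟨y1, hy1, hy1y, hzy1⟩ := wSub_partner hF P hz1 hz1ne hz1z
        have hy1U := hstep _ hz1U y1 hy1 hy1y (by rw [hzy1]; exact one_ne_zero)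
        by_cases h2 : h y1 z ≠ 0
        · exact hstep _ hy1U z hz hzz h2
        push Not at h2
        obtain ⟨y2, hy2, hy2y, hzy2⟩ := wSub_partner hF P hz hzne hzz
        by_cases h3 : h z1 y2 ≠ 0
        · exact hstep _ (hstep _ hz1U y2 hy2 hy2y h3) z hz hzz
            (fun h0 => by rw [h_comm_zero hF h0] at hzy2; exact zero_ne_one hzy2)
        push Not at h3
        obtain ⟨b, hb0, hb⟩ : ∃ b : F, b ≠ 0 ∧ cj b * h y1 y2 + b * h y2 y1 = 0 := by
          by_cases h4 : h y1 y2 = 0
          · exact ⟨1, one_ne_zero, by rw [h4, h_comm_zero hF h4]; ring⟩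
          obtain ⟨t, ht0, ht⟩ := exists_trace_zero hF
          refine ⟨t / h y2 y1, div_ne_zero ht0 (fun h0 => h4 (h_comm_zero hF h0)), ?_⟩
          rw [map_div₀, cj_h hF, div_mul_cancel₀ _ h4,
            div_mul_cancel₀ _ (fun h0 => h4 (h_comm_zero hF h0))]
          linear_combination ht
        set y := y1 + b • y2
        have hy : y ∈ Wsp := Submodule.add_mem _ hy1 (Submodule.smul_mem _ b hy2)
        have hyy : h y y = 0 := by
          rw [h_add_left, h_add_right hF, h_add_right hF, h_smul_left, h_smul_left, h_smul_right hF,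
            h_smul_right hF, hy1y, hy2y]
          linear_combination hb
        have hz1y : h z1 y = 1 := by
          rw [h_add_right hF, h_smul_right hF, hzy1, h3]; ring
        have hyz : h y z = b := by
          rw [h_add_left, h_smul_left, h2, ← cj_h hF z y2, hzy2, map_one]; ring
        exact hstep _ (hstep _ hz1U y hy hyy (by rw [hz1y]; exact one_ne_zero)) z hz hzz (by rw [hyz]; exact hb0)
      exact wSub_induction hF P hz0 hz0ne hz0z hiso fun x y _ _ hx hy => hU0add x y hx hy
    · intro w hw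
      obtain ⟨a, rfl⟩ := hline _ w0.2 hw0ne' w hw
      exact hU0smul a _ hw0U
  -- every element is in the Heisenberg group
  intro x hx
  rw [← hP0map] at hx
  obtain ⟨s, hs, rfl⟩ := hx
  refine ⟨s, ?_, rfl⟩
  have hfe : h (suVal s *ᵥ f) e = 1 := by
    conv_lhs => arg 5; rw [← hfix s hs]
    rw [su_form, P.fe hF]
  set w := wPart (q := q) e f (suVal s *ᵥ f)
  set c := h (suVal s *ᵥ f) f
  have hw : w ∈ Wsp := wPart_mem hF P _
  have hsf : suVal s *ᵥ f = f + w + c • e := by
    conv_lhs => rw [wPart_eq (q := q) e f (suVal s *ᵥ f), hfe, one_smul]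
    abel
  have H : EOK (q := q) e w c := by
    refine ⟨P.ee, hw.1, ?_⟩
    have h1 := su_form s f f
    rw [hsf, P.ff] at h1
    simp only [h_add_left, h_add_right hF, h_smul_left, h_smul_right hF, P.ee, P.ef, P.ff, P.fe hF, hw.1, hw.2,
      h_comm_zero hF hw.1, h_comm_zero hF hw.2] at h1
    rw [cj_pow hF]
    linear_combination h1
  refine ⟨w, c, H, Matrix.ext_iff_mulVec.2 fun v => ?_⟩
  obtain ⟨hv, hse⟩ : wPart (q := q) e f v ∈ Wsp ∧ suVal s *ᵥ e = e := ⟨wPart_mem hF P v, hfix s hs⟩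
  have hsW : suVal s *ᵥ wPart (q := q) e f v =
      (-h (wPart (q := q) e f v) w) • e + wPart (q := q) e f v := by
    have hsplit := wPart_eq (q := q) e f (suVal s *ᵥ wPart (q := q) e f v)
    rw [hperp s hs _ hv.1, zero_smul, add_zero, (hall _ hv).2 s hs] at hsplit
    have h1 := su_form s (wPart (q := q) e f v) f
    rw [hv.2, hsf, hsplit] at h1
    simp only [h_add_left, h_add_right hF, h_smul_left, h_smul_right hF, P.ee, P.ef, hv.1, hv.2,
      h_comm_zero hF hw.1] at h1
    rw [hsplit]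
    congr 2
    linear_combination h1
  have hvw : h v w = h (wPart (q := q) e f v) w := by
    conv_lhs => rw [wPart_eq (q := q) e f v]
    simp only [h_add_left, h_smul_left, h_comm_zero hF hw.1, h_comm_zero hF hw.2]
    ring
  rw [eMat_mulVec, hvw]
  conv_lhs => rw [wPart_eq (q := q) e f v, Matrix.mulVec_add, Matrix.mulVec_add, Matrix.mulVec_smul,
    Matrix.mulVec_smul, hse, hsf, hsW]
  conv_rhs => arg 1; rw [wPart_eq (q := q) e f v]
  module

end

end Cfsg.Agent.Classical.PSUAut
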