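import Cfsg.Agent.Lib.Recog.PSLTwoSpectrum
import Cfsg.Agent.Lib.Classical.SympOrders
import Cfsg.Agent.Lib.Classical.MatrixOrders
import Cfsg.Agent.Lib.Classical.UnitCenter
import Cfsg.Agent.Lib.Invol.PSUThreeGen
import Cfsg.Agent.Lib.Lie.SpnPresBase

/-! Elements of order sixty-five in PSL₂(64), PSp₄(8), PSL₄(8), PSU₄(8) and PSp₆(8), from
restriction of scalars SL₂(64) → Sp₄(8). -/

set_option autoImplicit false

namespace Cfsg.Agent.SixtyFive

open Matrix Cfsg.Agent.Classical Cfsg.Agent.Lie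

theorem exists_of_map {G H : Type*} [Group G] [Finite G] [Group H] (f : G →* H) {g : G}
    (h : 65 ∣ orderOf (f g)) : ∃ y : G, orderOf y = 65 :=
  ⟨_, orderOf_pow_orderOf_div (orderOf_pos g).ne' (h.trans (orderOf_map_dvd f g))⟩

theorem orderOf_image {G H : Type*} [Group G] [Group H] (f : G →* H) {y : G} (hy : orderOf y = 65)
    {e : ℕ} (he : Nat.Coprime 65 e) (hk : ∀ k, f y ^ k = 1 → y ^ (k * e) = 1) :
    orderOf (f y) = 65 := by
  refine Nat.dvd_antisymm (hy ▸ orderOf_map_dvd f y) ?_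
  have h := orderOf_dvd_of_pow_eq_one (hk _ (pow_orderOf_eq_one (f y)))
  rw [hy] at h
  exact he.dvd_of_dvd_mul_right h

theorem exists_psl_two {E : Type*} [Field E] [Fintype E] (hE : Fintype.card E = 64) :
    ∃ g : Matrix.ProjectiveSpecialLinearGroup (Fin 2) E, orderOf g = 65 := by
  haveI : Fact (Nat.Prime 2) := ⟨Nat.prime_two⟩
  haveI : CharP E 2 := by
    obtain ⟨p, hp⟩ := CharP.exists E
    obtain ⟨k, hk, hpk⟩ := FiniteField.card E p
    have : p ∣ 2 ^ 6 := by
      rw [show (2 : ℕ) ^ 6 = p ^ (k : ℕ) by rw [← hpk, hE]; rfl]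
      exact dvd_pow_self _ k.pos.ne'
    rwa [(Nat.prime_dvd_prime_iff_eq hk Nat.prime_two).1 (hk.dvd_of_dvd_pow this)] at hp
  obtain ⟨g, hg⟩ := PSL2Spec.exists_order_nonsplit (F := E) 2
  refine ⟨g, hg.trans ?_⟩
  simp [PSL2Spec.dd, hE]

theorem exists_sl_two {E : Type*} [Field E] [Fintype E] (hE : Fintype.card E = 64) :
    ∃ g : Matrix.SpecialLinearGroup (Fin 2) E, orderOf g = 65 := by
  obtain ⟨g, hg⟩ := exists_psl_two hE
  obtain ⟨A, rfl⟩ := slToPSL_surjective g
  exact exists_of_map (slToPSL 2 E) (g := A) (by rw [hg])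

/-- Restriction of scalars from `SL₂` of a quadratic extension. -/
theorem exists_sp_four {F : Type*} [Field F] [Fintype F] (hF : Fintype.card F = 8) :
    ∃ y : Matrix.symplecticGroup (Fin 2) F, orderOf y = 65 := by
  classical
  haveI : NeZero (2 : ℕ) := ⟨two_ne_zero⟩
  obtain ⟨p, hp⟩ := CharP.exists F
  haveI : Fact p.Prime := ⟨CharP.char_is_prime F p⟩
  set E := FiniteField.Extension F p 2
  letI : Fintype E := Fintype.ofFinite E
  have hE : Fintype.card E = 64 := by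
    rw [← Nat.card_eq_fintype_card, FiniteField.natCard_extension, Nat.card_eq_fintype_card, hF]; rfl
  have hrank : Module.finrank F E = 2 := FiniteField.finrank_extension F p 2
  obtain ⟨b⟩ : Nonempty (Module.Basis (Fin 2) F E) := ⟨Module.finBasisOfFinrankEq F E hrank⟩
  obtain ⟨S, hS⟩ : ∃ S, S = Algebra.traceMatrix F ⇑b := ⟨_, rfl⟩
  have hSdet : IsUnit S.det := hS ▸ isUnit_iff_ne_zero.2 (Algebra.discr_not_zero_of_basis F b)
  have hST : Sᵀ = S := by
    ext i j
    simp [hS, Algebra.traceMatrix_apply, Algebra.traceForm_apply, mul_comm]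
  have hL : ∀ x : E, (Algebra.leftMulMatrix b x)ᵀ * S = S * Algebra.leftMulMatrix b x := by
    intro x
    ext i j
    have e : ∀ (i : Fin 2) (y : E),
        ∑ k, b.repr y k * Algebra.trace F E (b k * b i) = Algebra.trace F E (y * b i) := by
      intro i y
      conv_rhs => rw [← b.sum_repr y, Finset.sum_mul, map_sum]
      simp [map_smul]
    simp only [Matrix.mul_apply, Matrix.transpose_apply, hS, Algebra.traceMatrix_apply,
      Algebra.traceForm_apply, Algebra.leftMulMatrix_eq_repr_mul]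
    rw [e, show ∑ k, Algebra.trace F E (b i * b k) * b.repr (x * b j) k =
      ∑ k, b.repr (x * b j) k * Algebra.trace F E (b k * b i) from
        Finset.sum_congr rfl fun k _ => by rw [mul_comm, mul_comm (b i)], e]
    congr 1
    ring
  obtain ⟨L, hLdef⟩ : ∃ L : E →ₐ[F] Matrix (Fin 2) (Fin 2) F, L = Algebra.leftMulMatrix b := ⟨_, rfl⟩
  rw [← hLdef] at hL
  have hL2 : ∀ x z : E, (L x)ᵀ * (S * L z) = S * L (x * z) := fun x z => by
    rw [← Matrix.mul_assoc, hL, Matrix.mul_assoc, map_mul]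
  obtain ⟨P, hP⟩ : ∃ P, P = Matrix.fromBlocks (1 : Matrix (Fin 2) (Fin 2) F) 0 0 S := ⟨_, rfl⟩
  obtain ⟨Q, hQ⟩ : ∃ Q, Q = Matrix.fromBlocks (1 : Matrix (Fin 2) (Fin 2) F) 0 0 S⁻¹ := ⟨_, rfl⟩
  have hQP : Q * P = 1 := by
    rw [hP, hQ, Matrix.fromBlocks_multiply]
    simp [Matrix.nonsing_inv_mul _ hSdet, Matrix.fromBlocks_one]
  have hPQ : P * Q = 1 := mul_eq_one_comm.1 hQP
  let R : Matrix (Fin 2) (Fin 2) E → Matrix (Fin 2 ⊕ Fin 2) (Fin 2 ⊕ Fin 2) F := fun g =>
    Matrix.fromBlocks (L (g 0 0)) (L (g 0 1)) (L (g 1 0)) (L (g 1 1))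
  have hR1 : R 1 = 1 := by simp [R, Matrix.fromBlocks_one]
  have hRm : ∀ g k, R (g * k) = R g * R k := fun g k => by
    simp [R, Matrix.fromBlocks_multiply, Matrix.mul_apply, Fin.sum_univ_two, map_add, map_mul]
  have hmem : ∀ g : Matrix.SpecialLinearGroup (Fin 2) E,
      P * R g.1 * Q ∈ Matrix.symplecticGroup (Fin 2) F := by
    intro g
    rw [SymplecticGroup.mem_iff']
    have hdet : g.1 0 0 * g.1 1 1 - g.1 0 1 * g.1 1 0 = 1 := by rw [← Matrix.det_fin_two, g.2]
    have hPJ : Pᵀ * Matrix.J (Fin 2) F * P = Matrix.fromBlocks 0 (-S) S 0 := by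
      rw [hP, Matrix.J, Matrix.fromBlocks_transpose, Matrix.fromBlocks_multiply, Matrix.fromBlocks_multiply]
      simp [hST]
    have hK : (R g.1)ᵀ * Matrix.fromBlocks 0 (-S) S 0 * R g.1 = Matrix.fromBlocks 0 (-S) S 0 := by
      simp only [R]
      rw [Matrix.fromBlocks_transpose, Matrix.fromBlocks_multiply, Matrix.fromBlocks_multiply]
      simp only [Matrix.mul_zero, zero_add, add_zero, Matrix.mul_neg, Matrix.neg_mul, hL,
        Matrix.mul_assoc, ← map_mul, ← Matrix.mul_neg, ← map_neg, hL2, ← Matrix.mul_add, ← map_add,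
        mul_neg]
      rw [show g.1 1 0 * g.1 0 0 + -g.1 0 0 * g.1 1 0 = 0 by ring,
        show g.1 1 0 * g.1 0 1 + -g.1 0 0 * g.1 1 1 = -1 by linear_combination -hdet,
        show g.1 1 1 * g.1 0 0 + -g.1 0 1 * g.1 1 0 = 1 by linear_combination hdet,
        show g.1 1 1 * g.1 0 1 + -g.1 0 1 * g.1 1 1 = 0 by ring]
      simp [map_neg]
    have hQJ : Matrix.J (Fin 2) F = Qᵀ * Matrix.fromBlocks 0 (-S) S 0 * Q := by
      rw [← hPJ]
      calc Matrix.J (Fin 2) F = (P * Q)ᵀ * Matrix.J (Fin 2) F * (P * Q) := by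
            rw [hPQ, Matrix.transpose_one, one_mul, mul_one]
        _ = _ := by simp only [Matrix.transpose_mul, Matrix.mul_assoc]
    calc (P * R g.1 * Q)ᵀ * Matrix.J (Fin 2) F * (P * R g.1 * Q)
        = Qᵀ * ((R g.1)ᵀ * (Pᵀ * Matrix.J (Fin 2) F * P) * R g.1) * Q := by
          simp only [Matrix.transpose_mul, Matrix.mul_assoc]
      _ = _ := by rw [hPJ, hK, ← hQJ]
  let φ : Matrix.SpecialLinearGroup (Fin 2) E →* Matrix.symplecticGroup (Fin 2) F :=
    { toFun := fun g => ⟨P * R g.1 * Q, hmem g⟩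
      map_one' := Subtype.ext (by simp [hR1, hPQ])
      map_mul' := fun g k => Subtype.ext (by
        show P * R (g.1 * k.1) * Q = P * R g.1 * Q * (P * R k.1 * Q)
        rw [hRm]
        calc P * (R g.1 * R k.1) * Q = P * R g.1 * (Q * P) * R k.1 * Q := by
              rw [hQP, mul_one]; simp only [Matrix.mul_assoc]
          _ = _ := by simp only [Matrix.mul_assoc]) }
  have hinj : Function.Injective φ := by
    intro g k h
    have h1 : P * R g.1 * Q = P * R k.1 * Q := congrArg Subtype.val h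
    have h2 := congrArg (fun X => Q * X * P) h1
    simp only [← Matrix.mul_assoc, hQP, one_mul] at h2
    simp only [Matrix.mul_assoc, hQP, mul_one, R, Matrix.fromBlocks_inj] at h2
    have hLi : Function.Injective L := hLdef ▸ Algebra.leftMulMatrix_injective b
    ext i j
    fin_cases i <;> fin_cases j
    exacts [hLi h2.1, hLi h2.2.1, hLi h2.2.2.1, hLi h2.2.2.2]
  obtain ⟨g, hg⟩ := exists_sl_two hE
  exact ⟨φ g, by rw [orderOf_injective φ hinj, hg]⟩

theorem exists_psp {F : Type*} [Field F] {m : ℕ} {y : Matrix.symplecticGroup (Fin m) F}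
    (hy : orderOf y = 65) : ∃ g : PSp m F, orderOf g = 65 :=
  ⟨spToPSp m F y, orderOf_image _ hy (e := 2) (by norm_num) fun k hk => by
    rw [pow_mul]
    rcases spToPSp_pow_eq_one hk with h | h <;> rw [h]
    · exact one_pow 2
    · exact sympNegOne_sq m⟩

theorem exists_psp_four {F : Type*} [Field F] [Fintype F] (hF : Fintype.card F = 8) :
    ∃ g : PSp 2 F, orderOf g = 65 :=
  let ⟨_, hy⟩ := exists_sp_four hF
  exists_psp hy

theorem exists_psp_six {F : Type*} [Field F] [Fintype F] (hF : Fintype.card F = 8) :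
    ∃ g : PSp 3 F, orderOf g = 65 := by
  classical
  obtain ⟨y, hy⟩ := exists_sp_four hF
  obtain ⟨f⟩ : Nonempty (Fin 2 ↪ Fin 3) := ⟨Fin.castSuccEmb⟩
  refine exists_psp (y := SpnPres.extSp f y) ?_
  rw [orderOf_injective _ ?_, hy]
  rw [injective_iff_map_eq_one]
  intro M hM
  have h : SpnPres.extS f M.1 = 1 := congrArg Subtype.val hM
  rw [SpnPres.extS, add_eq_left] at h
  have h2 := congrArg (fun X => (SpnPres.inc2 F f)ᵀ * X * SpnPres.inc2 F f) h
  simp only [← Matrix.mul_assoc, SpnPres.inc2_tmul, one_mul, Matrix.mul_zero, Matrix.zero_mul] at h2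
  simp only [Matrix.mul_assoc, SpnPres.inc2_tmul, mul_one, sub_eq_zero] at h2
  exact Subtype.ext h2

theorem sp_det_sq {F : Type*} [Field F] {m : ℕ} (A : Matrix.symplecticGroup (Fin m) F) :
    A.1.det * A.1.det = 1 := by
  have h := congrArg Matrix.det (SymplecticGroup.mem_iff.1 A.2)
  rw [Matrix.det_mul, Matrix.det_mul, Matrix.det_transpose] at h
  refine mul_right_cancel₀ (Matrix.isUnit_det_J (Fin m) F).ne_zero ?_
  linear_combination h

theorem det_one_of_pow {F : Type*} [Field F] {m : ℕ} {A : Matrix.symplecticGroup (Fin m) F}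
    (hA : A ^ 65 = 1) : A.1.det = 1 := by
  have h := congrArg (fun X : Matrix.symplecticGroup (Fin m) F => X.1.det) hA
  simp only [SubmonoidClass.coe_pow, OneMemClass.coe_one, Matrix.det_pow, Matrix.det_one] at h
  calc A.1.det = A.1.det * (A.1.det * A.1.det) ^ 32 := by rw [sp_det_sq, one_pow, mul_one]
    _ = A.1.det ^ 65 := by ring
    _ = 1 := h

theorem exists_psl_four {F : Type*} [Field F] [Fintype F] (hF : Fintype.card F = 8) :
    ∃ g : Matrix.ProjectiveSpecialLinearGroup (Fin 4) F, orderOf g = 65 := by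
  classical
  obtain ⟨y, hy⟩ := exists_sp_four hF
  obtain ⟨e, he⟩ : ∃ e, e = Matrix.reindexAlgEquiv F F (finSumFinEquiv : Fin 2 ⊕ Fin 2 ≃ Fin 4) :=
    ⟨_, rfl⟩
  obtain ⟨A, hA⟩ : ∃ A : Matrix.SpecialLinearGroup (Fin 4) F, A.1 = e y.1 :=
    ⟨⟨e y.1, by rw [he, Matrix.det_reindexAlgEquiv, det_one_of_pow (hy ▸ pow_orderOf_eq_one y)]⟩, rfl⟩
  have hpow : ∀ k, A ^ k = 1 ↔ y ^ k = 1 := fun k => by
    refine ⟨fun h => Subtype.ext ?_, fun h => Subtype.ext ?_⟩
    · have h1 : A.1 ^ k = 1 := by rw [← Matrix.SpecialLinearGroup.coe_pow, h]; rfl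
      rw [hA, ← map_pow, map_eq_one_iff e e.injective] at h1
      rw [SubmonoidClass.coe_pow, h1]; rfl
    · rw [Matrix.SpecialLinearGroup.coe_pow, hA, ← map_pow, ← SubmonoidClass.coe_pow, h,
        OneMemClass.coe_one, map_one]
      rfl
  have hAo : orderOf A = 65 := hy ▸ (orderOf_eq_orderOf_iff.2 hpow)
  refine ⟨slToPSL 4 F A, orderOf_image _ hAo (e := 4) (by norm_num) fun k hk => ?_⟩
  obtain ⟨c, hc⟩ := (slToPSL_pow_eq_one_iff A k).1 hk
  have hd : c ^ 4 = 1 := by
    have h := congrArg Matrix.det hc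
    rw [Matrix.det_pow, A.2, one_pow] at h
    simpa using h.symm
  refine Subtype.ext ?_
  rw [Matrix.SpecialLinearGroup.coe_pow, pow_mul, hc, ← map_pow, hd, map_one]
  rfl

theorem exists_psu_four {K : Type*} [Field K] [Fintype K] (hK : Fintype.card K = 64) :
    ∃ g : PSU 4 K 8, orderOf g = 65 := by
  classical
  have hK2 : Fintype.card K = 8 ^ 2 := by rw [hK]; rfl
  obtain ⟨σ, hσ⟩ : ∃ σ, σ = qFrob hK2 := ⟨_, rfl⟩
  set F0 := Invol.PSUThreeGen.fixField hK2 with hF0
  letI : Fintype F0 := Fintype.ofFinite F0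
  have hc0 : Fintype.card F0 = 8 := by
    rw [← Nat.card_eq_fintype_card]; exact Invol.PSUThreeGen.card_fixField hK2
  haveI : Fact (Nat.Prime 2) := ⟨Nat.prime_two⟩
  have h2 : (2 : K) = 0 := by
    have h64 : ((64 : ℕ) : K) = 0 := by rw [← hK, FiniteField.cast_card_eq_zero]
    have : (2 : K) ^ 6 = 0 := by rw [← h64]; norm_num
    exact pow_eq_zero_iff (by norm_num) |>.1 this
  have hσσ : ∀ x : K, σ (σ x) = x := fun x => by
    rw [hσ, qFrob_apply, qFrob_apply, ← pow_mul, ← sq, ← hK2, FiniteField.pow_card]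
  obtain ⟨α, hα⟩ : ∃ α : K, σ α + α = 1 := by
    obtain ⟨a, ha⟩ : ∃ a : K, σ a + a ≠ 0 := by
      by_contra! hall
      have hsub : ∀ a : K, a ∈ F0 := fun a => by
        rw [hF0, Invol.PSUThreeGen.mem_fixField, ← hσ]
        linear_combination hall a - a * h2
      have hle := Fintype.card_le_of_injective (fun a : K => (⟨a, hsub a⟩ : F0))
        fun a b h => congrArg Subtype.val h
      omega
    refine ⟨a / (σ a + a), ?_⟩
    rw [map_div₀, map_add, hσσ, add_comm a (σ a), ← add_div, div_self ha]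
  obtain ⟨y, hy⟩ := exists_sp_four hc0
  obtain ⟨P, hP⟩ : ∃ P, P = Matrix.fromBlocks (1 : Matrix (Fin 2) (Fin 2) K) (α • (1 : Matrix (Fin 2) (Fin 2) K))
      (1 : Matrix (Fin 2) (Fin 2) K) ((α + 1) • (1 : Matrix (Fin 2) (Fin 2) K)) := ⟨_, rfl⟩
  have hone : (1 : K) + 1 = 0 := by linear_combination h2
  have hPP : Pᵀ * P.map σ = Matrix.J (Fin 2) K := by
    rw [hP, Matrix.fromBlocks_transpose, Matrix.fromBlocks_map, Matrix.fromBlocks_multiply, Matrix.J]
    congr 1 <;> ext i j <;> fin_cases i <;> fin_cases j <;>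
      simp [Matrix.mul_apply, Fin.sum_univ_two, Matrix.one_apply] <;>
      first
        | linear_combination hone
        | linear_combination (σ α + 1) * h2
        | linear_combination α * h2
        | linear_combination hα + (α * σ α + 1) * h2
  have hPdet : IsUnit P.det := by
    have h := congrArg Matrix.det hPP
    rw [Matrix.det_mul, Matrix.det_transpose] at h
    exact isUnit_of_mul_isUnit_left (h ▸ Matrix.isUnit_det_J (Fin 2) K)
  obtain ⟨ψ, hψ⟩ : ∃ ψ : Matrix (Fin 2 ⊕ Fin 2) (Fin 2 ⊕ Fin 2) F0 → Matrix (Fin 2 ⊕ Fin 2) (Fin 2 ⊕ Fin 2) K,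
      ψ = fun A => P * F0.subtype.mapMatrix A * P⁻¹ := ⟨_, rfl⟩
  have hψ1 : ψ 1 = 1 := by rw [hψ]; simp [Matrix.mul_nonsing_inv _ hPdet]
  have hψm : ∀ A B, ψ (A * B) = ψ A * ψ B := fun A B => by
    simp only [hψ, map_mul]
    calc P * (F0.subtype.mapMatrix A * F0.subtype.mapMatrix B) * P⁻¹
        = P * F0.subtype.mapMatrix A * (P⁻¹ * P) * F0.subtype.mapMatrix B * P⁻¹ := by
          rw [Matrix.nonsing_inv_mul _ hPdet, mul_one]; simp only [Matrix.mul_assoc]
      _ = _ := by simp only [Matrix.mul_assoc]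
  let Ψ : Matrix (Fin 2 ⊕ Fin 2) (Fin 2 ⊕ Fin 2) F0 →* Matrix (Fin 2 ⊕ Fin 2) (Fin 2 ⊕ Fin 2) K :=
    { toFun := ψ, map_one' := hψ1, map_mul' := hψm }
  have hΨinj : Function.Injective Ψ := fun A B h => by
    have h1 : P * F0.subtype.mapMatrix A * P⁻¹ = P * F0.subtype.mapMatrix B * P⁻¹ := by
      have := h; simp only [Ψ, MonoidHom.coe_mk, OneHom.coe_mk, hψ] at this; exact this
    have h2 := congrArg (fun X => P⁻¹ * X * P) h1
    simp only [← Matrix.mul_assoc, Matrix.nonsing_inv_mul _ hPdet, one_mul] at h2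
    simp only [Matrix.mul_assoc, Matrix.nonsing_inv_mul _ hPdet, mul_one] at h2
    exact Matrix.map_injective F0.subtype_injective h2
  -- unitarity
  have hU : (ψ y.1)ᵀ * (ψ y.1).map σ = 1 := by
    obtain ⟨A, hA⟩ : ∃ A, A = F0.subtype.mapMatrix y.1 := ⟨_, rfl⟩
    have hAσ : A.map σ = A := by
      rw [hA]; ext i j
      show σ ((y.1 i j : F0) : K) = _
      rw [hσ]
      exact Invol.PSUThreeGen.mem_fixField hK2 |>.1 (y.1 i j).2
    have hAJ : Aᵀ * Matrix.J (Fin 2) K * A = Matrix.J (Fin 2) K := by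
      have h := congrArg F0.subtype.mapMatrix (SymplecticGroup.mem_iff'.1 y.2)
      simp only [map_mul] at h
      have eJ : F0.subtype.mapMatrix (Matrix.J (Fin 2) F0) = Matrix.J (Fin 2) K := by
        ext (i | i) (j | j) <;> simp [Matrix.J, Matrix.one_apply, apply_ite (Subtype.val : F0 → K)] <;>
          split_ifs <;> simp
      rw [eJ, RingHom.mapMatrix_apply, Matrix.transpose_map] at h
      rw [hA, RingHom.mapMatrix_apply]; exact h
    simp only [hψ, ← hA]
    rw [Matrix.map_mul, Matrix.map_mul, hAσ, Matrix.transpose_mul, Matrix.transpose_mul]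
    calc (P⁻¹)ᵀ * (Aᵀ * Pᵀ) * (P.map σ * A * (P⁻¹).map σ)
        = (P⁻¹)ᵀ * (Aᵀ * (Pᵀ * P.map σ) * A) * (P⁻¹).map σ := by simp only [Matrix.mul_assoc]
      _ = (P * P⁻¹)ᵀ * (P * P⁻¹).map σ := by
        rw [hPP, hAJ, ← hPP, Matrix.transpose_mul, Matrix.map_mul]; simp only [Matrix.mul_assoc]
      _ = 1 := by rw [Matrix.mul_nonsing_inv _ hPdet, Matrix.transpose_one, one_mul,
        Matrix.map_one _ (map_zero σ) (map_one σ)]
  have hdet : (ψ y.1).det = 1 := by
    simp only [hψ, Matrix.det_mul, Matrix.det_nonsing_inv]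
    rw [← RingHom.map_det, det_one_of_pow (hy ▸ pow_orderOf_eq_one y), map_one, mul_one,
      Ring.mul_inverse_cancel _ hPdet]
  obtain ⟨e, he⟩ : ∃ e, e = Matrix.reindexAlgEquiv K K (finSumFinEquiv : Fin 2 ⊕ Fin 2 ≃ Fin 4) :=
    ⟨_, rfl⟩
  have heU : (e (ψ y.1))ᵀ * (e (ψ y.1)).map (qFrob hK2) = 1 := by
    rw [← hσ, he, Matrix.reindexAlgEquiv_apply, Matrix.reindex_apply, Matrix.transpose_submatrix,
      ← Matrix.submatrix_map, Matrix.submatrix_mul_equiv, hU,
      Matrix.submatrix_one_equiv]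
  have hedet : (e (ψ y.1)).det = 1 := by rw [he, Matrix.det_reindexAlgEquiv, hdet]
  obtain ⟨s, hs⟩ : ∃ s : SU 4 K 8, suVal s = e (ψ y.1) :=
    ⟨suMk hK2 _ hedet heU, suVal_suMk hK2 _ hedet heU⟩
  have hpow : ∀ k, s ^ k = 1 ↔ y ^ k = 1 := fun k => by
    constructor
    · intro h
      have h1 : suVal (s ^ k) = 1 := by rw [h]; rfl
      rw [suVal_pow, hs, ← map_pow, map_eq_one_iff e e.injective,
        show ψ y.1 = Ψ y.1 from rfl, ← map_pow, map_eq_one_iff Ψ hΨinj] at h1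
      exact Subtype.ext (by rw [SubmonoidClass.coe_pow, h1]; rfl)
    · intro h
      refine suVal_ext ?_
      rw [suVal_pow, hs, ← map_pow, show ψ y.1 = Ψ y.1 from rfl, ← map_pow,
        ← SubmonoidClass.coe_pow, h, OneMemClass.coe_one, map_one, map_one]
      rfl
  have hso : orderOf s = 65 := hy ▸ (orderOf_eq_orderOf_iff.2 hpow)
  refine ⟨suToPSU 4 K 8 s, orderOf_image _ hso (e := 4) (by norm_num) fun k hk => ?_⟩
  obtain ⟨c, hc⟩ := (suToPSU_pow_eq_one_iff hK2 s k).1 hk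
  have hd : c ^ 4 = 1 := by
    have h := congrArg Matrix.det hc
    rw [Matrix.det_pow, show (suVal s).det = 1 from s.1.2, one_pow] at h
    simpa using h.symm
  refine suVal_ext ?_
  rw [suVal_pow, pow_mul, hc, ← map_pow, hd, map_one]
  rfl

end Cfsg.Agent.SixtyFive
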