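import Cfsg.Agent.Lib.Classical.OrthImage

/-!
`Aut(PΩ(Q)) = PΓO(Q)` for a form of Witt index at least three without triality.
-/

set_option autoImplicit false
set_option linter.unusedSectionVars false
set_option quotPrecheck false

namespace Cfsg.Agent.Classical.OrthAut

open Matrix

variable {F : Type*} [Field F] [Fintype F] {ι : Type} [Fintype ι] [DecidableEq ι]
  {Q : QuadraticForm F (ι → F)} (p : ℕ) [Fact p.Prime] [CharP F p]

local notation "V" => (ι → F)
local notation "Mn" => Matrix ι ι F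
local notation "B" => QuadraticMap.polar ⇑Q
local notation "OG" => isometryGroup F ⇑Q
local notation "Om" => Omega F ⇑Q
local notation "PQ" => POmega F ⇑Q
local notation "π" => omPi (Q := Q)

theorem proj_add (e f x y : V) : proj Q e f (x + y) = proj Q e f x + proj Q e f y := by
  simp only [proj, QuadraticMap.polar_add_right]; module

theorem proj_smul (e f x : V) (c : F) : proj Q e f (c • x) = c • proj Q e f x := by
  simp only [proj, QuadraticMap.polar_smul_right, smul_eq_mul]; module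

theorem Perp.add {e f x y : V} (h : Perp Q e f x) (h' : Perp Q e f y) : Perp Q e f (x + y) :=
  ⟨by rw [QuadraticMap.polar_add_right, h.1, h'.1, add_zero],
    by rw [QuadraticMap.polar_add_right, h.2, h'.2, add_zero]⟩

theorem Perp.smul {e f x : V} (h : Perp Q e f x) (c : F) : Perp Q e f (c • x) :=
  ⟨by rw [QuadraticMap.polar_smul_right, h.1, smul_zero],
    by rw [QuadraticMap.polar_smul_right, h.2, smul_zero]⟩

theorem Perp.zero {e f : V} : Perp Q e f 0 := ⟨by simp, by simp⟩

theorem proj_eq {e f w : V} (hw : Perp Q e f w) : proj Q e f w = w := by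
  simp [proj, hw.1, hw.2]

theorem thru_conj (s : Om) {a : V} {M : Mn} (h : M ∈ thru Q a) :
    omVal s * M * omVal s⁻¹ ∈ thru Q (omVal s *ᵥ a) := by
  obtain ⟨w, hw, rfl⟩ := h
  exact ⟨omVal s *ᵥ w, ⟨by rw [omVal_quad]; exact hw.1, by rw [omVal_quad]; exact hw.2.1,
    by rw [isometry_polar (omVal_quad s)]; exact hw.2.2.1, fun x y h0 => hw.2.2.2 x y (omVal_injective s (by
      rw [Matrix.mulVec_add, Matrix.mulVec_smul, Matrix.mulVec_smul, h0]))⟩, omVal_conj_eMat s a w⟩

variable (hQ : (QuadraticMap.polarBilin Q).Nondegenerate) (hT : Tri Q)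
include hQ hT

omit hQ hT in
theorem img_inv {β : MulAut PQ} {e e' : V} (h : Img p β e e') : Img p β⁻¹ e' e := fun M N hMN =>
  (h N M (by simpa using hMN.symm)).symm

theorem img_comp {β γ : MulAut PQ} {a b c : V} (h : Img p β a b) (h' : Img p γ b c) :
    Img p (γ * β) a c := by
  intro L N hLN
  obtain ⟨M, hM⟩ := rel_exists p hQ hT β hLN.pu.1
  have h1 : Rel p γ M N := by
    have := hM.symm.comp p hLN
    rwa [mul_inv_cancel_right] at this
  exact (h L M hM).trans (h' M N h1)

theorem img_unique {β : MulAut PQ} {a b c : V} (hb : b ≠ 0) (hbb : Q b = 0) (h : Img p β a b)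
    (h' : Img p β a c) : ∃ k : F, k ≠ 0 ∧ c = k • b :=
  img_parallel p hQ hT hb hbb h fun M N hMN hM => (h' M N hMN).1 hM

theorem img_inj {β : MulAut PQ} {a b c : V} (ha : a ≠ 0) (haa : Q a = 0) (h : Img p β a c)
    (h' : Img p β b c) : ∃ k : F, k ≠ 0 ∧ b = k • a :=
  img_unique p hQ hT ha haa (img_inv p h) (img_inv p h')

omit hQ hT in
theorem img_smul_left {β : MulAut PQ} {e e' : V} (h : Img p β e e') {c : F} (hc : c ≠ 0) :
    Img p β (c • e) e' := fun M N hMN => by rw [thru_smul hc]; exact h M N hMN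

omit hQ hT in
theorem img_conj {β : MulAut PQ} {a a' : V} (h : Img p β a a') {g k : Om} (hg : β (π g) = π k) :
    Img p β (omVal g *ᵥ a) (omVal k *ᵥ a') := by
  intro M N hMN
  have h1 : Rel p β (omVal g⁻¹ * M * omVal g⁻¹⁻¹) (omVal k⁻¹ * N * omVal k⁻¹⁻¹) :=
    hMN.conj p (by rw [map_inv, map_inv, hg, map_inv])
  rw [inv_inv, inv_inv] at h1
  have back : ∀ (s : Om) (X : Mn) (b : V), X ∈ thru Q (omVal s *ᵥ b) ↔ omVal s⁻¹ * X * omVal s ∈ thru Q b := by
    intro s X b
    constructor <;> intro hX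
    · have := thru_conj s⁻¹ hX
      rwa [inv_inv, Matrix.mulVec_mulVec, omVal_inv_mul, Matrix.one_mulVec] at this
    · have := thru_conj s hX
      simp only [← Matrix.mul_assoc, omVal_mul_inv, Matrix.one_mul] at this
      rwa [Matrix.mul_assoc, omVal_mul_inv, Matrix.mul_one] at this
  rw [back, back]
  exact h _ _ h1

/-- The automorphism of a semisimilarity on root elements. -/
theorem rel_semi {g : GL ι F} {σ : F ≃+* F} (h : IsSemisimilarityPair (⇑Q) g σ) {G : V → V} {κ : F}
    (hG : Semi Q G σ κ) (hGg : ∀ x, G x = semiFun g σ x) {e w : V} (hok : OK Q e w) :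
    Rel p (poSemi h) (eMat Q e w) (eMat Q (G e) (κ⁻¹ • G w)) := by
  obtain ⟨s, hs⟩ := exists_eOm hQ hT (p := p) hok
  refine ⟨s, omSemi h s, hs, ?_, uni_eMat p hok, uni_eMat p ⟨?_, ?_⟩, poSemi_pi h s⟩
  · refine Matrix.ext_iff_mulVec.2 fun x => ?_
    obtain ⟨y, rfl⟩ := semiFun_surjective g σ x
    rw [omSemi_coe, semiFun_mulVec, hs, ← hGg, ← hGg, hG.eMat]
  · rw [hG.quad, hok.1, map_zero, mul_zero]
  · rw [QuadraticMap.polar_smul_right, hG.polar, hok.2]; simp

theorem img_semi (hGd : Good Q) {g : GL ι F} {σ : F ≃+* F} (h : IsSemisimilarityPair (⇑Q) g σ) {G : V → V}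
    {κ : F} (hG : Semi Q G σ κ) (hGg : ∀ x, G x = semiFun g σ x) {e : V} (he : e ≠ 0) (hee : Q e = 0) :
    Img p (poSemi h) e (G e) := by
  obtain ⟨e', he', hee', himg⟩ := exists_img p hQ hT hGd (poSemi h) he hee
  obtain ⟨c, hc, hce⟩ := img_parallel p hQ hT (e'' := G e) he' hee' himg (by
    rintro M N hMN ⟨w, hw, rfl⟩
    have hN := hMN.unique p hQ hT (rel_semi p hQ hT h hG hGg hw.ok)
    refine hN ▸ ⟨κ⁻¹ • G w, ⟨by rw [hG.quad, hee, map_zero, mul_zero],
      by rw [QuadraticMap.map_smul, hG.quad, hw.2.1]; simp,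
      by rw [QuadraticMap.polar_smul_right, hG.polar, hw.2.2.1]; simp, fun s t h0 => ?_⟩, rfl⟩
    have hinj : ∀ x, G x = 0 → x = 0 := fun x hx => eq_zero_of_polar hQ fun z =>
      σ.injective (mul_left_cancel₀ hG.ne (by
        rw [← hG.polar, hx, QuadraticMap.polar_zero_left, map_zero, mul_zero]))
    obtain ⟨a, b⟩ := hw.2.2.2 (σ.symm s) (σ.symm (t * κ⁻¹)) (hinj _ (by
      rw [hG.map_add, hG.map_smul, hG.map_smul, σ.apply_symm_apply, σ.apply_symm_apply, ← h0, smul_smul]))
    exact ⟨by simpa using a, by simpa [hG.ne] using b⟩)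
  exact hce ▸ img_smul p hQ hT himg hc

/-! ### The action at a point -/

variable (hGd : Good Q) {e f : ι → F} (P : Pair Q e f)
include hGd P

omit hGd in
theorem exists_phi {β : MulAut PQ} (he : Img p β e e) :
    ∀ w, Perp Q e f w → ∃ v, Perp Q e f v ∧ Rel p β (eMat Q e w) (eMat Q e v) := by
  have sing : ∀ w, Perp Q e f w → Q w = 0 →
      ∃ v, Perp Q e f v ∧ Rel p β (eMat Q e w) (eMat Q e v) := by
    intro w hw hq
    by_cases h0 : w = 0
    · exact ⟨0, Perp.zero, by rw [h0, eMat_zero]; exact Rel.one p β⟩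
    obtain ⟨N, hN⟩ := rel_exists p hQ hT β (pu_eMat p hQ hT (e := e) (w := w) ⟨P.1, hw.1⟩)
    obtain ⟨v, hv, rfl⟩ := (he _ N hN).1 ⟨w, TS.of_perp P hq hw h0, rfl⟩
    refine ⟨v + (-(B f v)) • e, ⟨?_, ?_⟩, by rw [eMat_add_self hv.ok]; exact hN⟩
    · rw [QuadraticMap.polar_add_right, hv.2.2.1, QuadraticMap.polar_smul_right, polar_self' P.1]; simp
    · rw [QuadraticMap.polar_add_right, QuadraticMap.polar_smul_right,
        QuadraticMap.polar_comm _ f e, P.2.2]; simp
  intro w hw
  obtain ⟨u, u', Pu, hu, hu'⟩ := exists_frame hQ hT P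
  obtain ⟨s, t, hst⟩ := exists_sing_shift Pu w
  obtain ⟨v1, hv1, r1⟩ := sing (w + s • u + t • u') ((hw.add (hu.smul _)).add (hu'.smul _)) hst
  obtain ⟨v2, hv2, r2⟩ := sing ((-s) • u) (hu.smul _) (by simp [QuadraticMap.map_smul, Pu.1])
  obtain ⟨v3, hv3, r3⟩ := sing ((-t) • u') (hu'.smul _) (by simp [QuadraticMap.map_smul, Pu.2.1])
  have o : ∀ {x : V}, Perp Q e f x → OK Q e x := fun h => ⟨P.1, h.1⟩
  have oA := o ((hw.add (hu.smul s)).add (hu'.smul t))
  obtain ⟨-, r12⟩ := r1.commute p hQ hT r2 (eMat_comm oA (o (hu.smul (-s))))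
  rw [eMat_mul oA (o (hu.smul (-s))), eMat_mul (o hv1) (o hv2)] at r12
  obtain ⟨-, r123⟩ := r12.commute p hQ hT r3
    (eMat_comm (oA.add (o (hu.smul (-s)))) (o (hu'.smul (-t))))
  rw [eMat_mul (oA.add (o (hu.smul (-s)))) (o (hu'.smul (-t))), eMat_mul ((o hv1).add (o hv2)) (o hv3)]
    at r123
  refine ⟨v1 + v2 + v3, (hv1.add hv2).add hv3, ?_⟩
  convert r123 using 2
  module

/-- The semisimilarity inducing the same action on the root group at `e`. -/
theorem exists_semi {β : MulAut PQ} (he : Img p β e e) :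
    ∃ (G : V → V) (τ : F ≃+* F) (κ : F), Semi Q G τ κ ∧ G e = κ • e ∧ G f = f ∧
      ∀ w, Perp Q e f w → Rel p β (eMat Q e w) (eMat Q (G e) (κ⁻¹ • G w)) := by
  classical
  have hex := exists_phi p hQ hT P he
  choose φ hφW hφR using hex
  have o : ∀ {x : V}, Perp Q e f x → OK Q e x := fun h => ⟨P.1, h.1⟩
  have cancel : ∀ {a b : V}, Perp Q e f a → Perp Q e f b → eMat Q e a = eMat Q e b → a = b := by
    intro a b ha hb h0
    obtain ⟨t, ht⟩ := eMat_inj hQ P.ne (o ha) (o hb) h0
    have h1 := congrArg (B f) ht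
    simp [QuadraticMap.polar_add_right, QuadraticMap.polar_smul_right, ha.2, hb.2,
      QuadraticMap.polar_comm _ f e, P.2.2] at h1
    simpa [← h1] using ht.symm
  let ph : {w : V // Perp Q e f w} → {w : V // Perp Q e f w} := fun w => ⟨φ w.1 w.2, hφW w.1 w.2⟩
  have phi_inj : Function.Injective ph := fun a b hab => by
    refine Subtype.ext (cancel a.2 b.2 (Rel.inj p hQ hT (hφR a.1 a.2) ?_))
    have : φ a.1 a.2 = φ b.1 b.2 := congrArg Subtype.val hab
    rw [this]; exact hφR b.1 b.2
  have phi_bij := Finite.injective_iff_bijective.1 phi_inj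
  have phi_add : ∀ a b, (ha : Perp Q e f a) → (hb : Perp Q e f b) →
      φ (a + b) (ha.add hb) = φ a ha + φ b hb := by
    intro a b ha hb
    refine cancel (hφW _ _) ((hφW a ha).add (hφW b hb)) ?_
    obtain ⟨-, h1⟩ := (hφR a ha).commute p hQ hT (hφR b hb) (eMat_comm (o ha) (o hb))
    rw [eMat_mul (o ha) (o hb), eMat_mul (o (hφW a ha)) (o (hφW b hb))] at h1
    exact Rel.unique p hQ hT (hφR _ _) h1
  have phi_sing : ∀ a, (ha : Perp Q e f a) → (Q a = 0 ↔ Q (φ a ha) = 0) := by
    intro a ha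
    rw [← eMat_mem_iff hQ P.ne (o ha), ← eMat_mem_iff hQ P.ne (o (hφW a ha)),
      rel_root_iff p hQ hT (hφR a ha)]
    refine or_congr Iff.rfl ⟨fun h1 => ?_, fun h1 => ?_⟩
    · exact Rel.unique p hQ hT (hφR a ha) (by rw [h1]; exact Rel.one p β)
    · exact Rel.inj p hQ hT (hφR a ha) (by rw [h1]; exact Rel.one p β)
  have phi_congr : ∀ {a b : V} (ha : Perp Q e f a) (hb : Perp Q e f b), a = b → φ a ha = φ b hb := by
    intro a b ha hb h0; subst h0; rfl
  have phi_zero : φ 0 Perp.zero = 0 := by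
    have := phi_add 0 0 Perp.zero Perp.zero
    rw [phi_congr (Perp.zero.add Perp.zero) Perp.zero (add_zero (0 : V))] at this
    linear_combination (norm := module) -this
  have phi_ne : ∀ a, (ha : Perp Q e f a) → a ≠ 0 → φ a ha ≠ 0 := fun a ha h0 h1 =>
    h0 (congrArg Subtype.val (phi_inj (a₁ := ⟨a, ha⟩) (a₂ := ⟨0, Perp.zero⟩)
      (Subtype.ext (h1.trans phi_zero.symm))))
  have phi_orth : ∀ a b, (ha : Perp Q e f a) → (hb : Perp Q e f b) → Q a = 0 → Q b = 0 →
      (B a b = 0 ↔ B (φ a ha) (φ b hb) = 0) := by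
    intro a b ha hb h0 h1
    have h2 := phi_sing _ (ha.add hb)
    rw [phi_add a b ha hb, quad_add, quad_add, h0, h1, (phi_sing a ha).1 h0, (phi_sing b hb).1 h1] at h2
    simpa using h2
  -- lines to lines
  have line : ∀ u, (hu : Perp Q e f u) → u ≠ 0 → Q u = 0 → ∀ c : F,
      ∃ t : F, φ (c • u) (hu.smul c) = t • φ u hu := by
    intro u hu hu0 huu
    obtain ⟨u', hu'0, hu'q, himg⟩ := exists_img p hQ hT hGd β hu0 huu
    have key : ∀ x, (hx : Perp Q e f x) → x ≠ 0 → Q x = 0 → eMat Q e x ∈ thru Q u →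
        ∃ r : F, r ≠ 0 ∧ φ x hx = r • proj Q e f u' := by
      intro x hx hx0 hxx hxu
      have hv : TS Q e (φ x hx) := TS.of_perp P ((phi_sing x hx).1 hxx) (hφW x hx) (phi_ne x hx hx0)
      obtain ⟨-, a, b, hab⟩ := (mem_thru_iff hQ hv).1 ((himg _ _ (hφR x hx)).1 hxu)
      have hb : b ≠ 0 := by
        intro hb
        rw [hb, zero_smul, add_zero] at hab
        have ha : a ≠ 0 := fun ha => hu'0 (by rw [hab, ha, zero_smul])
        obtain ⟨k, -, hk⟩ := img_inj p hQ hT P.ne P.1 (img_smul p hQ hT he ha) (hab ▸ himg)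
        have := congrArg (B f) hk
        rw [hu.2, QuadraticMap.polar_smul_right, QuadraticMap.polar_comm _ f e, P.2.2] at this
        simp at this
        exact hu0 (by rw [hk, ← this, zero_smul])
      refine ⟨b⁻¹, inv_ne_zero hb, ?_⟩
      rw [hab, proj_add, proj_smul, proj_smul, proj_eq (hφW x hx),
        show proj Q e f e = 0 by simp [proj, polar_self' P.1, QuadraticMap.polar_comm _ f e, P.2.2],
        smul_zero, zero_add, smul_smul, inv_mul_cancel₀ hb, one_smul]
    have hthru : ∀ c : F, c ≠ 0 → eMat Q e (c • u) ∈ thru Q u := fun c hc => by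
      rw [← eMat_smul_left]
      refine (mem_thru_iff hQ (TS.of_perp ⟨?_, ?_, ?_⟩ huu ?_ hu0 (e := c • e) (f := c⁻¹ • f))).2
        ⟨hu0, 0, 1, by simp⟩
      · rw [QuadraticMap.map_smul, P.1, smul_zero]
      · rw [QuadraticMap.map_smul, P.2.1, smul_zero]
      · rw [QuadraticMap.polar_smul_left, QuadraticMap.polar_smul_right, P.2.2, smul_eq_mul, smul_eq_mul,
          mul_one, mul_inv_cancel₀ hc]
      · exact ⟨by rw [QuadraticMap.polar_smul_left, hu.1, smul_zero],
          by rw [QuadraticMap.polar_smul_left, hu.2, smul_zero]⟩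
    intro c
    by_cases hc : c = 0
    · refine ⟨0, ?_⟩
      subst hc
      exact (phi_congr _ Perp.zero (zero_smul F u)).trans (phi_zero.trans (zero_smul F _).symm)
    obtain ⟨r, -, hr⟩ := key (c • u) (hu.smul c) (smul_ne_zero hc hu0)
      (by rw [QuadraticMap.map_smul, huu, smul_zero]) (hthru c hc)
    obtain ⟨r₁, hr1, hr1'⟩ := key u hu hu0 huu (by simpa using hthru 1 one_ne_zero)
    exact ⟨r * r₁⁻¹, by rw [hr, hr1', smul_smul, mul_assoc, inv_mul_cancel₀ hr1, mul_one]⟩
  let S0 := {u : V // Perp Q e f u ∧ u ≠ 0 ∧ Q u = 0}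
  choose tt htt using fun u : S0 => line u.1 u.2.1 u.2.2.1 u.2.2.2
  have tt_spec : ∀ (u : S0) (c : F) (h : Perp Q e f (c • u.1)), φ (c • u.1) h = tt u c • φ u.1 u.2.1 :=
    fun u c h => htt u c
  have tt_inj : ∀ u : S0, Function.Bijective (tt u) := fun u => Finite.injective_iff_bijective.1
    fun c d hcd => smul_left_injective F u.2.2.1 (congrArg Subtype.val (phi_inj
      (a₁ := ⟨c • u.1, u.2.1.smul c⟩) (a₂ := ⟨d • u.1, u.2.1.smul d⟩)
      (Subtype.ext (by show φ _ _ = φ _ _; rw [tt_spec, tt_spec, hcd]))))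
  have tt_orth : ∀ u v : S0, B u.1 v.1 = 0 → (∀ s t : F, s • u.1 + t • v.1 = 0 → s = 0 ∧ t = 0) →
      tt u = tt v := by
    intro u v huv hind
    have hsum : u.1 + v.1 ≠ 0 := fun h0 => one_ne_zero (hind 1 1 (by simpa using h0)).1
    let w : S0 := ⟨u.1 + v.1, u.2.1.add v.2.1, hsum, by rw [quad_add, u.2.2.2, v.2.2.2, huv]; ring⟩
    funext c
    have h1 : φ (c • w.1) (w.2.1.smul c) = φ (c • u.1) (u.2.1.smul c) + φ (c • v.1) (v.2.1.smul c) :=
      (phi_congr _ _ (smul_add c u.1 v.1)).trans (phi_add _ _ _ _)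
    rw [tt_spec, tt_spec, tt_spec, show φ w.1 w.2.1 = φ u.1 u.2.1 + φ v.1 v.2.1 from phi_add _ _ _ _] at h1
    have hind' : ∀ a b : F, a • φ u.1 u.2.1 + b • φ v.1 v.2.1 = 0 → a = 0 ∧ b = 0 := by
      intro a b h0
      obtain ⟨a', rfl⟩ := (tt_inj u).2 a
      obtain ⟨b', rfl⟩ := (tt_inj v).2 b
      rw [← tt_spec u a' (u.2.1.smul a'), ← tt_spec v b' (v.2.1.smul b'), ← phi_add] at h0
      obtain ⟨ha, hb⟩ := hind a' b' (by_contra fun h2 => phi_ne _ _ h2 h0)
      subst ha hb
      have h2 : ∀ u : S0, tt u 0 = 0 := fun u => by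
        have h3 := tt_spec u 0 (u.2.1.smul 0)
        rw [phi_congr (u.2.1.smul 0) Perp.zero (zero_smul F u.1), phi_zero] at h3
        exact (smul_eq_zero.1 h3.symm).resolve_right (phi_ne _ _ u.2.2.1)
      exact ⟨h2 u, h2 v⟩
    obtain ⟨h2, h3⟩ := hind' (tt w c - tt u c) (tt w c - tt v c) (by linear_combination (norm := module) h1)
    rw [← sub_eq_zero.1 h2, sub_eq_zero.1 h3]
  have tt_all : ∀ u v : S0, tt u = tt v := by
    intro u v
    have step : ∀ {u u' : S0} {x : V}, Perp Q e f x → x ≠ 0 → Q x = 0 → B u.1 x = 0 → B u'.1 x = 0 →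
        (∀ s t : F, s • u.1 + t • x = 0 → s = 0 ∧ t = 0) → (∀ s t : F, s • u'.1 + t • x = 0 → s = 0 ∧ t = 0) →
        tt u = tt u' := fun {u u' x} hx hx0 hxx h1 h2 h3 h4 =>
      (tt_orth u ⟨x, hx, hx0, hxx⟩ h1 h3).trans (tt_orth u' ⟨x, hx, hx0, hxx⟩ h2 h4).symm
    by_cases huv : B u.1 v.1 = 0
    · by_cases hind : ∀ s t : F, s • u.1 + t • v.1 = 0 → s = 0 ∧ t = 0
      · exact tt_orth u v huv hind
      obtain ⟨u', Pu, hu'⟩ := exists_partner hQ P u.2.1 u.2.2.1 u.2.2.2
      obtain ⟨x, hx0, hxx, hxe, hxu⟩ := exists_singular_perp2 hQ hT P Pu u.2.1 hu'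
      push_neg at hind
      obtain ⟨s, t, hst, hne⟩ := hind
      have ht : t ≠ 0 := fun ht => hne (by simpa [ht, u.2.2.1] using hst) ht
      have hv : v.1 = (-(t⁻¹ * s)) • u.1 := by
        have := congrArg (t⁻¹ • ·) hst
        simp only [smul_add, smul_smul, inv_mul_cancel₀ ht, one_smul, smul_zero] at this
        linear_combination (norm := module) this
      have hi : ∀ a b : F, a • u.1 + b • x = 0 → a = 0 ∧ b = 0 := fun a b h0 => by
        have h5 := congrArg (B u') h0
        simp [QuadraticMap.polar_add_right, QuadraticMap.polar_smul_right, hxu.2,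
          QuadraticMap.polar_comm _ u' u.1, Pu.2.2] at h5
        exact ⟨h5, by simpa [h5, hx0] using h0⟩
      refine step hxe hx0 hxx hxu.1 (by rw [hv, QuadraticMap.polar_smul_left, hxu.1, smul_zero]) hi ?_
      intro a b h0
      obtain ⟨h6, h7⟩ := hi (a * -(t⁻¹ * s)) b (by linear_combination (norm := module) h0 - a • hv)
      refine ⟨(mul_eq_zero.1 h6).resolve_right fun h8 => v.2.2.1 (by rw [hv, h8, zero_smul]), h7⟩
    · have Puv : Pair Q u.1 ((B u.1 v.1)⁻¹ • v.1) := ⟨u.2.2.2, by rw [QuadraticMap.map_smul, v.2.2.2,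
        smul_zero], by rw [QuadraticMap.polar_smul_right, smul_eq_mul, inv_mul_cancel₀ huv]⟩
      obtain ⟨x, hx0, hxx, hxe, hxu⟩ := exists_singular_perp2 hQ hT P Puv u.2.1 (v.2.1.smul _)
      have hxv : B v.1 x = 0 := by
        have := hxu.2
        rwa [QuadraticMap.polar_smul_left, smul_eq_zero, or_iff_right (inv_ne_zero huv)] at this
      refine step hxe hx0 hxx hxu.1 hxv (fun a b h0 => ?_) (fun a b h0 => ?_)
      · have h5 := congrArg (B v.1) h0
        simp [QuadraticMap.polar_add_right, QuadraticMap.polar_smul_right, hxv,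
          QuadraticMap.polar_comm _ v.1 u.1, huv] at h5
        exact ⟨h5, by simpa [h5, hx0] using h0⟩
      · have h5 := congrArg (B u.1) h0
        simp [QuadraticMap.polar_add_right, QuadraticMap.polar_smul_right, hxu.1, huv] at h5
        exact ⟨h5, by simpa [h5, hx0] using h0⟩
  obtain ⟨e2, f2, P2, he2, hf2⟩ := exists_frame hQ hT P
  obtain ⟨g, hg0, hg, hge, hg2⟩ := exists_singular_perp2 hQ hT P P2 he2 hf2
  obtain ⟨g', Pg, hge', hg2'⟩ := exists_partner2 hQ P P2 he2 hf2 hge hg2 hg0 hg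
  let u0 : S0 := ⟨e2, he2, P2.ne, P2.1⟩
  set t0 := tt u0 with ht0
  have phi_smul_sing : ∀ (c : F) (u : V) (hu : Perp Q e f u), Q u = 0 →
      φ (c • u) (hu.smul c) = t0 c • φ u hu := by
    intro c u hu huu
    by_cases hu0 : u = 0
    · subst hu0
      rw [phi_congr (hu.smul c) Perp.zero (smul_zero c), phi_congr hu Perp.zero rfl, phi_zero, smul_zero]
    · rw [tt_spec ⟨u, hu, hu0, huu⟩ c (hu.smul c), tt_all ⟨u, hu, hu0, huu⟩ u0]
  have phi_smul : ∀ (c : F) (w : V) (hw : Perp Q e f w), φ (c • w) (hw.smul c) = t0 c • φ w hw := by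
    intro c w hw
    obtain ⟨s, t, hst⟩ := exists_sing_shift P2 w
    have hA := (hw.add (he2.smul s)).add (hf2.smul t)
    have hB := he2.smul (e := e) (-s)
    have hC := hf2.smul (e := e) (-t)
    have e1 : φ w hw = φ (w + s • e2 + t • f2) hA + φ ((-s) • e2) hB + φ ((-t) • f2) hC := by
      rw [← phi_add, ← phi_add]
      exact phi_congr _ _ (by module)
    have e2' : φ (c • w) (hw.smul c) = φ (c • (w + s • e2 + t • f2)) (hA.smul c) +
        φ (c • ((-s) • e2)) (hB.smul c) + φ (c • ((-t) • f2)) (hC.smul c) := by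
      rw [← phi_add, ← phi_add]
      exact phi_congr _ _ (by module)
    rw [e2', e1, phi_smul_sing c _ hA hst, phi_smul_sing c _ hB (by simp [QuadraticMap.map_smul, P2.1]),
      phi_smul_sing c _ hC (by simp [QuadraticMap.map_smul, P2.2.1]), smul_add, smul_add]
  have hne2 : φ e2 he2 ≠ 0 := phi_ne _ _ P2.ne
  have t_add : ∀ a b, t0 (a + b) = t0 a + t0 b := fun a b => smul_left_injective F hne2 (by
    show t0 (a + b) • _ = (t0 a + t0 b) • _
    have h := phi_congr ((he2.smul a).add (he2.smul b)) (he2.smul (a + b)) (add_smul a b e2).symm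
    rw [phi_add _ _ (he2.smul a) (he2.smul b), phi_smul a _ he2, phi_smul b _ he2, phi_smul (a + b) _ he2] at h
    rw [← h, add_smul])
  have t_mul : ∀ a b, t0 (a * b) = t0 a * t0 b := fun a b => smul_left_injective F hne2 (by
    show t0 (a * b) • _ = (t0 a * t0 b) • _
    have h := phi_congr ((he2.smul b).smul a) (he2.smul (a * b)) (mul_smul a b e2).symm
    rw [phi_smul a _ (he2.smul b), phi_smul b _ he2, phi_smul (a * b) _ he2] at h
    rw [← h, mul_smul])
  let τ : F ≃+* F :=
    { Equiv.ofBijective t0 (tt_inj u0) with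
      map_mul' := t_mul
      map_add' := t_add }
  have hτ : ∀ c, τ c = t0 c := fun c => rfl
  set κ := B (φ e2 he2) (φ f2 hf2) with hκ
  have hκ0 : κ ≠ 0 := fun h0 => one_ne_zero (P2.2.2.symm.trans ((phi_orth _ _ he2 hf2 P2.1 P2.2.1).2 h0))
  have orth2 : ∀ d, (hd : Perp Q e f d) → Q d = 0 → ∀ w, (hw : Perp Q e f w) → Perp Q e2 f2 w →
      B d g = 0 → B d g' = 0 → B d w = 0 → B (φ d hd) (φ w hw) = 0 := by
    intro d hd hdd w hw hw2 hdg hdg' hdw
    obtain ⟨s, t, hst⟩ := exists_sing_shift Pg w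
    have hA := (hw.add (hge.smul s)).add (hge'.smul t)
    have hB := hge.smul (e := e) (-s)
    have hC := hge'.smul (e := e) (-t)
    have e1 : φ w hw = φ (w + s • g + t • g') hA + φ ((-s) • g) hB + φ ((-t) • g') hC := by
      rw [← phi_add, ← phi_add]
      exact phi_congr _ _ (by module)
    have hz : ∀ x, (hx : Perp Q e f x) → Q x = 0 → B d x = 0 → B (φ d hd) (φ x hx) = 0 :=
      fun x hx hxx h0 => (phi_orth d x hd hx hdd hxx).1 h0
    rw [e1, QuadraticMap.polar_add_right, QuadraticMap.polar_add_right,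
      hz _ hA hst (by simp [QuadraticMap.polar_add_right, QuadraticMap.polar_smul_right, hdg, hdg', hdw]),
      hz _ hB (by simp [QuadraticMap.map_smul, Pg.1]) (by simp [QuadraticMap.polar_smul_right, hdg]),
      hz _ hC (by simp [QuadraticMap.map_smul, Pg.2.1]) (by simp [QuadraticMap.polar_smul_right, hdg'])]
    ring
  have hquad : ∀ w, (hw : Perp Q e f w) → Q (φ w hw) = κ * τ (Q w) := by
    intro w hw
    set w' := proj Q e2 f2 w with hw'
    have hp2 : Perp Q e2 f2 w' := perp_proj P2 w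
    have hp : Perp Q e f w' := by
      constructor
      · rw [hw', proj]; simp [QuadraticMap.polar_sub_right, QuadraticMap.polar_smul_right, hw.1, he2.1, hf2.1]
      · rw [hw', proj]; simp [QuadraticMap.polar_sub_right, QuadraticMap.polar_smul_right, hw.2, he2.2, hf2.2]
    have o1 := orth2 e2 he2 P2.1 w' hp hp2 hg2.1 hg2'.1 hp2.1
    have o2 := orth2 f2 hf2 P2.2.1 w' hp hp2 hg2.2 hg2'.2 hp2.2
    have q1 : Q (φ e2 he2) = 0 := (phi_sing _ he2).1 P2.1
    have q2 : Q (φ f2 hf2) = 0 := (phi_sing _ hf2).1 P2.2.1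
    have hwq : Q (φ w' hp) = κ * τ (Q w') := by
      have hB := he2.smul (e := e) (-Q w')
      have hx : Q (w' + (-Q w') • e2 + f2) = 0 := by
        rw [quad_add, quad_add_smul, P2.1, P2.2.1, QuadraticMap.polar_add_left,
          QuadraticMap.polar_comm _ w' e2, hp2.1, QuadraticMap.polar_comm _ w' f2, hp2.2,
          QuadraticMap.polar_smul_left, P2.2.2, smul_eq_mul]
        ring
      have h5 := (phi_sing _ ((hp.add hB).add hf2)).1 hx
      rw [phi_add _ _ (hp.add hB) hf2, phi_add _ _ hp hB, phi_smul (-Q w') e2 he2, quad_add, quad_add_smul,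
        q1, q2, QuadraticMap.polar_add_left, QuadraticMap.polar_comm _ (φ w' hp) (φ f2 hf2), o2,
        QuadraticMap.polar_comm _ (φ w' hp) (φ e2 he2), o1, QuadraticMap.polar_smul_left, ← hκ, smul_eq_mul,
        ← hτ, map_neg] at h5
      linear_combination h5
    have hd := pair_decomp P2 w
    rw [← hw'] at hd
    have hA := (he2.smul (e := e) (B f2 w)).add (hf2.smul (B e2 w))
    rw [show φ w hw = φ (B f2 w • e2 + B e2 w • f2 + w') (hA.add hp) from phi_congr _ _ hd,
      phi_add _ _ hA hp, phi_add _ _ (he2.smul _) (hf2.smul _), phi_smul _ _ he2, phi_smul _ _ hf2, quad_add, quad_lin,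
      q1, q2, hwq, polar_lin_left, o1, o2, ← hκ, ← hτ, ← hτ]
    have hQw : Q w = B f2 w * B e2 w + Q w' := by
      conv_lhs => rw [hd]
      rw [quad_add, quad_lin, P2.1, P2.2.1, polar_lin_left, hp2.1, hp2.2, P2.2.2]
      ring
    rw [hQw, map_add, map_mul]
    ring
  let G : V → V := fun x => (κ * τ (B f x)) • e + τ (B e x) • f + φ (proj Q e f x) (perp_proj P x)
  have hGw : ∀ w, (hw : Perp Q e f w) → G w = φ w hw := fun w hw => by
    simp only [G, hw.1, hw.2, map_zero, mul_zero, zero_smul, zero_add]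
    exact phi_congr _ _ (proj_eq hw)
  have hGe : G e = κ • e := by
    simp only [G, polar_self' P.1, QuadraticMap.polar_comm _ f e, P.2.2, map_zero, map_one, mul_one,
      zero_smul, add_zero]
    rw [phi_congr (perp_proj P e) Perp.zero (by
      simp [proj, polar_self' P.1, QuadraticMap.polar_comm _ f e, P.2.2]), phi_zero, add_zero]
  have hGf : G f = f := by
    simp only [G, polar_self' P.2.1, P.2.2, map_zero, map_one, mul_zero, zero_smul, one_smul, zero_add]
    rw [phi_congr (perp_proj P f) Perp.zero (by simp [proj, polar_self' P.2.1, P.2.2]), phi_zero, add_zero]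
  have hG : Semi Q G τ κ := by
    refine ⟨fun x y => ?_, fun c x => ?_, fun x => ?_, hκ0⟩
    · simp only [G, QuadraticMap.polar_add_right, map_add]
      rw [phi_congr (perp_proj P (x + y)) ((perp_proj P x).add (perp_proj P y)) (proj_add e f x y), phi_add _ _ (perp_proj P x) (perp_proj P y)]
      module
    · simp only [G, QuadraticMap.polar_smul_right, smul_eq_mul, map_mul]
      rw [phi_congr (perp_proj P (c • x)) ((perp_proj P x).smul c) (proj_smul e f x c), phi_smul _ _ (perp_proj P x), ← hτ]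
      module
    · have hp := hφW _ (perp_proj P x)
      have hx := perp_proj P x
      show Q (_ + _ + _) = _
      rw [quad_add, quad_lin, P.1, P.2.1, P.2.2, hquad, polar_lin_left, hp.1, hp.2]
      conv_rhs => rw [pair_decomp P x, quad_add, quad_lin, P.1, P.2.1, P.2.2, polar_lin_left, hx.1, hx.2]
      simp only [mul_zero, add_zero, zero_add, map_add, map_mul, mul_one]
      ring
  refine ⟨G, τ, κ, hG, hGe, hGf, fun w hw => ?_⟩
  rw [hGe, hGw w hw, eMat_smul_left, smul_smul, mul_inv_cancel₀ hκ0, one_smul]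
  exact hφR w hw

/-- An automorphism fixing the root group at `e` and the point `f` is trivial. -/
theorem eq_one_of_fix {β : MulAut PQ} (hfe : ∀ w, Perp Q e f w → Rel p β (eMat Q e w) (eMat Q e w))
    (he : Img p β e e) (hf : Img p β f f) : β = 1 := by
  have o : ∀ {x : V}, Perp Q e f x → OK Q e x := fun h => ⟨P.1, h.1⟩
  have hopp : ∀ w, Perp Q e f w → Img p β ((-Q w) • e + f + w) ((-Q w) • e + f + w) := by
    intro w hw
    obtain ⟨s, t, hs, ht, -, -, e0⟩ := hfe w hw
    have hval : omVal s *ᵥ f = (-Q w) • e + f + w := by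
      rw [hs, eMat_mulVec, P.2.2, QuadraticMap.polar_comm _ w f, hw.2]; module
    have := img_conj p hf e0
    rwa [omVal_ext (ht.trans hs.symm), hval] at this
  have hall : ∀ a : V, a ≠ 0 → Q a = 0 → Img p β a a := by
    intro a ha haa
    by_cases hea : B e a = 0
    · set u := proj Q e f a with hu
      have hup : Perp Q e f u := perp_proj P a
      have hdec : a = B f a • e + u := by
        conv_lhs => rw [pair_decomp P a, hea, zero_smul, add_zero]
      by_cases hu0 : u = 0
      · rw [hu0, add_zero] at hdec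
        have hs : B f a ≠ 0 := fun hs => ha (by rw [hdec, hs, zero_smul])
        rw [hdec]
        exact img_smul p hQ hT (img_smul_left p he hs) hs
      obtain ⟨a', ha', haa', himg⟩ := exists_img p hQ hT hGd β ha haa
      set u' := proj Q e f a' with hu'
      have hup' : Perp Q e f u' := perp_proj P a'
      have hea' : B e a' = 0 := (img_orth p hQ hT P.ne ha P.ne ha' P.1 haa P.1 haa' he himg).1 hea
      have hdec' : a' = B f a' • e + u' := by
        conv_lhs => rw [pair_decomp P a', hea', zero_smul, add_zero]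
      have hiff : ∀ w, Perp Q e f w → (B f a + B w u = 0 ↔ B f a' + B w u' = 0) := by
        intro w hw
        set z := (-Q w) • e + f + w with hz
        have hze : B e z = 1 := by
          simp [hz, QuadraticMap.polar_add_right, QuadraticMap.polar_smul_right, polar_self' P.1, P.2.2, hw.1]
        have hz0 : z ≠ 0 := fun h0 => by rw [h0, QuadraticMap.polar_zero_right] at hze; exact zero_ne_one hze
        have hzz : Q z = 0 := by
          rw [hz, quad_add, quad_add, QuadraticMap.map_smul, P.1, P.2.1, QuadraticMap.polar_smul_left,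
            P.2.2, QuadraticMap.polar_add_left, QuadraticMap.polar_smul_left, hw.1, hw.2]
          simp only [smul_eq_mul]; ring
        have hcomp : ∀ (x v : V), x = B f x • e + v → Perp Q e f v → B z x = B f x + B w v := fun x v hx hv => by
          conv_lhs => rw [hx, hz]
          simp [QuadraticMap.polar_add_left, QuadraticMap.polar_add_right, QuadraticMap.polar_smul_left,
            QuadraticMap.polar_smul_right, polar_self' P.1, QuadraticMap.polar_comm _ f e,
            QuadraticMap.polar_comm _ w e, P.2.2, hv.1, hv.2, hw.1]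
        rw [← hcomp a u hdec hup, ← hcomp a' u' hdec' hup']
        exact img_orth p hQ hT hz0 ha hz0 ha' hzz haa hzz haa' (hopp w hw) himg
      obtain ⟨y, hy⟩ := exists_polar1 hQ hu0 1
      set z := proj Q e f y
      have hzu : B z u = 1 := by rw [QuadraticMap.polar_comm, polar_proj hup, hy]
      set lam := B z u'
      have hs : B f a' = lam * B f a := by
        have := (hiff ((-B f a) • z) ((perp_proj P y).smul _)).1 (by
          rw [QuadraticMap.polar_smul_left, hzu, smul_eq_mul]; ring)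
        rw [QuadraticMap.polar_smul_left, smul_eq_mul] at this
        linear_combination this
      have hk : ∀ w, Perp Q e f w → B w u' = lam * B w u := fun w hw => by
        have := (hiff ((-B f a - B w u) • z + w) (((perp_proj P y).smul _).add hw)).1 (by
          rw [QuadraticMap.polar_add_left, QuadraticMap.polar_smul_left, hzu, smul_eq_mul]; ring)
        rw [QuadraticMap.polar_add_left, QuadraticMap.polar_smul_left, smul_eq_mul, hs] at this
        linear_combination this
      have huu : u' = lam • u := by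
        refine sub_eq_zero.1 (eq_zero_of_polar hQ fun x => ?_)
        rw [QuadraticMap.polar_sub_left, QuadraticMap.polar_smul_left, ← polar_proj (e := e) (f := f) hup',
          ← polar_proj (e := e) (f := f) hup, QuadraticMap.polar_comm _ u', QuadraticMap.polar_comm _ u,
          hk _ (perp_proj P x), smul_eq_mul, sub_self]
      have hpar : a' = lam • a := by rw [hdec', hs, huu]; (conv_rhs => rw [hdec]); module
      have hlam : lam ≠ 0 := fun h0 => ha' (by rw [hpar, h0, zero_smul])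
      have := img_smul p hQ hT himg (inv_ne_zero hlam)
      rwa [hpar, smul_smul, inv_mul_cancel₀ hlam, one_smul] at this
    · set w := (B e a)⁻¹ • proj Q e f a with hw
      have hwp : Perp Q e f w := (perp_proj P a).smul _
      have hq : 0 = B f a * B e a + Q (proj Q e f a) := by
        have hp := perp_proj P a
        conv_lhs => rw [← haa, pair_decomp P a]
        rw [quad_add, quad_lin, P.1, P.2.1, P.2.2, polar_lin_left, hp.1, hp.2]; ring
      have ha2 : a = B e a • ((-Q w) • e + f + w) := by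
        conv_lhs => rw [pair_decomp P a]
        rw [hw, QuadraticMap.map_smul, smul_eq_mul]
        match_scalars <;> field_simp <;> linear_combination -hq
      rw [ha2]
      exact img_smul p hQ hT (img_smul_left p (hopp w hwp) hea) hea
  refine MulEquiv.ext fun x => ?_
  obtain ⟨t, rfl⟩ := omPi_surjective (Q := Q) x
  obtain ⟨k, hk⟩ := omPi_surjective (Q := Q) (β (π t))
  show β (π t) = π t
  rw [← hk]
  obtain ⟨c, hc⟩ := scalar_of_fix_singular hQ hT (M := omVal t⁻¹ * omVal k) fun a haa => by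
    by_cases ha : a = 0
    · exact ⟨0, by simp [ha]⟩
    have h1 : Img p β (omVal t *ᵥ a) (omVal k *ᵥ a) := img_conj p (hall a ha haa) hk.symm
    have hta : omVal t *ᵥ a ≠ 0 := fun h0 => ha (omVal_injective t h0)
    have hta' : Q (omVal t *ᵥ a) = 0 := by rw [omVal_quad, haa]
    obtain ⟨c, -, hc⟩ := img_unique p hQ hT hta hta' (hall _ hta hta') h1
    exact ⟨c, by rw [← Matrix.mulVec_mulVec, hc, Matrix.mulVec_smul, Matrix.mulVec_mulVec, omVal_inv_mul,
      Matrix.one_mulVec]⟩
  refine (omPi_eq_iff hQ hT (p := p)).2 ⟨c, ?_⟩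
  have := congrArg (omVal t * ·) hc
  simpa [← Matrix.mul_assoc, omVal_mul_inv] using this

omit P in
include p in
/-- Every automorphism is induced by a semisimilarity. -/
theorem exists_param (β : MulAut PQ) :
    ∃ (g k : GL ι F) (σ τ : F ≃+* F) (h : IsSemisimilarityPair (⇑Q) g σ)
      (h' : IsSemisimilarityPair (⇑Q) k τ), β = (poSemi h)⁻¹ * poSemi h' := by
  obtain ⟨e, f, P⟩ := exists_basePair hQ hT
  obtain ⟨e', he'0, he'q, hie⟩ := exists_img p hQ hT hGd β P.ne P.1
  obtain ⟨f', hf'0, hf'q, hif⟩ := exists_img p hQ hT hGd β P.symm.ne P.2.1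
  have hne : B e' f' ≠ 0 := fun h0 => one_ne_zero (α := F) (P.2.2.symm.trans
    ((img_orth p hQ hT P.ne P.symm.ne he'0 hf'0 P.1 P.2.1 he'q hf'q hie hif).2 h0))
  set f'' := (B e' f')⁻¹ • f' with hf''
  have P' : Pair Q e' f'' := ⟨he'q, by rw [hf'', QuadraticMap.map_smul, hf'q, smul_zero],
    by rw [hf'', QuadraticMap.polar_smul_right, smul_eq_mul, inv_mul_cancel₀ hne]⟩
  obtain ⟨M, hMd, hM, hMu⟩ := exists_isometry_map hQ (pairMap e' f'' : F × F →ₗ[F] V) (pairMap e f)
    (pairMap_injective Q P'.1 P'.2.1 P'.2.2) (pairMap_injective Q P.1 P.2.1 P.2.2)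
    (fun u => by rw [pairMap_quad Q P.1 P.2.1 P.2.2, pairMap_quad Q P'.1 P'.2.1 P'.2.2])
  set g := Matrix.GeneralLinearGroup.mkOfDetNeZero M hMd
  have hg : IsSemisimilarityPair (⇑Q) g (RingEquiv.refl F) := ⟨1, fun v => by
    show Q (M *ᵥ v) = _; rw [hM]; simp⟩
  have hMs := semi_of_isometry (Q := Q) hM
  have hMe : M *ᵥ e' = e := by simpa [pairMap_apply] using hMu (1, 0)
  have hMf : M *ᵥ f'' = f := by simpa [pairMap_apply] using hMu (0, 1)
  set ψ := poSemi hg
  have i1 : Img p (ψ * β) e e := by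
    refine img_comp p hQ hT hie ?_
    have := img_semi p hQ hT hGd hg hMs (fun x => rfl) he'0 he'q
    rw [hMe] at this; exact this
  have i2 : Img p (ψ * β) f f := by
    refine img_comp p hQ hT (img_smul p hQ hT hif (inv_ne_zero hne)) ?_
    have := img_semi p hQ hT hGd hg hMs (fun x => rfl) P'.symm.ne P'.2.1
    rw [hMf] at this; exact this
  obtain ⟨G, τ, κ, hG, hGe, hGf, hGr⟩ := exists_semi p hQ hT hGd P i1
  obtain ⟨k, hk, hGk⟩ := exists_pair_of_semi hQ hG
  set χ := poSemi hk
  have hfix : ∀ w, Perp Q e f w → Rel p (χ⁻¹ * (ψ * β)) (eMat Q e w) (eMat Q e w) := fun w hw =>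
    (hGr w hw).comp p (rel_semi p hQ hT hk hG hGk ⟨P.1, hw.1⟩).symm
  have c1 : Img p χ e e := by
    have := img_semi p hQ hT hGd hk hG hGk P.ne P.1
    rw [hGe] at this
    have := img_smul p hQ hT this (inv_ne_zero hG.ne)
    rwa [smul_smul, inv_mul_cancel₀ hG.ne, one_smul] at this
  have c2 : Img p χ f f := by
    have := img_semi p hQ hT hGd hk hG hGk P.symm.ne P.2.1
    rwa [hGf] at this
  have h1 : χ⁻¹ * (ψ * β) = 1 := eq_one_of_fix p hQ hT hGd P hfix
    (img_comp p hQ hT i1 (img_inv p c1)) (img_comp p hQ hT i2 (img_inv p c2))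
  refine ⟨g, k, RingEquiv.refl F, τ, hg, hk, ?_⟩
  rw [inv_mul_eq_one] at h1
  show β = ψ⁻¹ * χ
  rw [h1, inv_mul_cancel_left]

end Cfsg.Agent.Classical.OrthAut

namespace Cfsg.Agent.Classical.OrthAut

/-- `Aut(PΩ(Q)) = PΓO(Q)`. -/
theorem gamma_eq_top {F : Type*} [Field F] [Fintype F] {ι : Type} [Fintype ι] [DecidableEq ι]
    {f : (ι → F) → F} (Q : QuadraticForm F (ι → F)) (hf : ⇑Q = f)
    (hQ : (QuadraticMap.polarBilin Q).Nondegenerate) (hT : Tri Q) (hG : Good Q) :
    gammaPOmega F f = ⊤ := by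
  subst hf
  obtain ⟨p, hp⟩ := CharP.exists F
  haveI : Fact p.Prime := ⟨CharP.char_is_prime F p⟩
  refine eq_top_iff.2 fun β _ => ?_
  obtain ⟨g, k, σ, τ, h, h', rfl⟩ := exists_param p hQ hT hG β
  exact mul_mem (inv_mem (poSemi_mem_gamma h)) (poSemi_mem_gamma h')

end Cfsg.Agent.Classical.OrthAut
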