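import Cfsg.Prelude.Def_LieTypeDatum

/-!
Counting the classes of a normal subgroup inside a class: the index of the product with a centraliser.
-/

set_option autoImplicit false

namespace Cfsg.Agent.Classical

variable {X : Type*} [Group X]

theorem isConjUnder_iff_of_conj {H : Subgroup X} {h x y : X} (hh : h ∈ H) :
    IsConjUnder H (h * x * h⁻¹) y ↔ IsConjUnder H x y := by
  constructor
  · rintro ⟨k, hk, rfl⟩
    exact ⟨k * h, mul_mem hk hh, by group⟩
  · rintro ⟨k, hk, rfl⟩
    exact ⟨k * h⁻¹, mul_mem hk (inv_mem hh), by group⟩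

theorem splitClassCount_conj {H K : Subgroup X} {h x : X} (hh : h ∈ H) :
    splitClassCount H K (h * x * h⁻¹) = splitClassCount H K x := by
  refine Nat.card_congr (Quot.congr
    (Equiv.subtypeEquivRight fun y => isConjUnder_iff_of_conj hh) fun a b => ?_)
  rfl

theorem splitClassCount_eq_relIndex (H K : Subgroup X) [K.Normal] (hKH : K ≤ H) (x : X) :
    splitClassCount H K x = (K ⊔ (H ⊓ Subgroup.centralizer {x})).relIndex H := by
  set L := K ⊔ (H ⊓ Subgroup.centralizer {x}) with hL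
  have key : ∀ a b : X, a ∈ H → b ∈ H →
      (a⁻¹ * b ∈ L ↔ IsConjUnder K (a * x * a⁻¹) (b * x * b⁻¹)) := by
    intro a b ha hb
    rw [hL, Subgroup.mem_sup_of_normal_left]
    constructor
    · rintro ⟨k, hk, c, ⟨-, hc⟩, hkc⟩
      have hb' : b = (a * k * a⁻¹) * a * c := by
        rw [inv_mul_cancel_right, mul_assoc, hkc, mul_inv_cancel_left]
      refine ⟨a * k * a⁻¹, Subgroup.Normal.conj_mem inferInstance k hk a, ?_⟩
      have hcx : c * x * c⁻¹ = x := by
        rw [Subgroup.mem_centralizer_singleton_iff.1 (show c ∈ Subgroup.centralizer {x} from hc),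
          mul_inv_cancel_right]
      calc b * x * b⁻¹ = a * k * a⁻¹ * a * (c * x * c⁻¹) * (a * k * a⁻¹ * a)⁻¹ := by
            rw [hb']; group
        _ = _ := by rw [hcx]; group
    · rintro ⟨k, hk, he⟩
      refine ⟨a⁻¹ * k * a, by simpa using Subgroup.Normal.conj_mem inferInstance k hk a⁻¹,
        (k * a)⁻¹ * b, ⟨H.mul_mem (H.inv_mem (H.mul_mem (hKH hk) ha)) hb, ?_⟩, by group⟩
      show (k * a)⁻¹ * b ∈ Subgroup.centralizer {x}
      rw [Subgroup.mem_centralizer_singleton_iff]
      calc (k * a)⁻¹ * b * x = (k * a)⁻¹ * (b * x * b⁻¹) * b := by group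
        _ = _ := by rw [he]; group
  let f : H → {y : X // IsConjUnder H x y} := fun h => ⟨h * x * h⁻¹, h, h.2, rfl⟩
  have hf : Function.Surjective f := by
    rintro ⟨y, h, hh, rfl⟩
    exact ⟨⟨h, hh⟩, rfl⟩
  let R := fun y z : {y : X // IsConjUnder H x y} => IsConjUnder K y.1 z.1
  have hR : Equivalence R := by
    refine ⟨fun y => ⟨1, one_mem _, by group⟩, ?_, ?_⟩
    · rintro y z ⟨k, hk, he⟩
      exact ⟨k⁻¹, inv_mem hk, by rw [he]; group⟩
    · rintro y z w ⟨k, hk, he⟩ ⟨l, hl, he'⟩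
      exact ⟨l * k, mul_mem hl hk, by rw [he', he]; group⟩
  unfold splitClassCount Subgroup.relIndex
  refine (Nat.card_congr (Equiv.ofBijective (Quotient.lift (fun h => Quot.mk R (f h)) ?_) ⟨?_, ?_⟩)).symm
  · intro a b hab
    refine Quot.sound ((key a b a.2 b.2).1 ?_)
    exact (QuotientGroup.leftRel_apply (s := L.subgroupOf H)).1 hab
  · rintro ⟨a⟩ ⟨b⟩ hab
    refine Quotient.sound (QuotientGroup.leftRel_apply.2 ((key a b a.2 b.2).2 ?_))
    exact (Equivalence.eqvGen_iff hR).1 (Quot.eqvGen_exact hab)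
  · rintro ⟨y⟩
    obtain ⟨h, rfl⟩ := hf y
    exact ⟨Quotient.mk _ h, rfl⟩

/-- In a finite cyclic group the index of the `n`-th powers times a subgroup. -/
theorem index_pow_sup {G : Type*} [CommGroup G] [IsCyclic G] [Finite G] (n : ℕ) (D : Subgroup G) :
    ((powMonoidHom n : G →* G).range ⊔ D).index = Nat.gcd n D.index := by
  haveI : IsCyclic (G ⧸ D) := isCyclic_of_surjective _ (QuotientGroup.mk'_surjective D)
  have h1 : ((powMonoidHom n : G →* G).range).map (QuotientGroup.mk' D) =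
      (powMonoidHom n : G ⧸ D →* G ⧸ D).range := by
    ext z
    constructor
    · rintro ⟨_, ⟨a, rfl⟩, rfl⟩
      exact ⟨a, rfl⟩
    · rintro ⟨a, rfl⟩
      obtain ⟨a, rfl⟩ := QuotientGroup.mk'_surjective D a
      exact ⟨a ^ n, ⟨a, rfl⟩, rfl⟩
  have h2 := Subgroup.index_map (H := (powMonoidHom n : G →* G).range) (QuotientGroup.mk' D)
  rw [h1, IsCyclic.index_powMonoidHom_range, QuotientGroup.ker_mk',
    MonoidHom.range_eq_top.2 (QuotientGroup.mk'_surjective D), Subgroup.index_top, mul_one] at h2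
  rw [← h2, Nat.gcd_comm]
  rfl

end Cfsg.Agent.Classical
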