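import Cfsg.Agent.Lib.Classical.PSLAutStructure
import Cfsg.Agent.Lib.Classical.GaloisDescent
import Cfsg.Agent.Lib.Classical.SplitClassCount
import Cfsg.Agent.Lib.Classical.UnitCenter
import Cfsg.Agent.Lib.Classical.NormalForms

/-!
Field and graph-field automorphisms of prime order of `PSL_n(q)`: conjugacy in the inner-diagonal
group, centralisers and splitting of classes.
-/

set_option autoImplicit false
set_option linter.unusedSectionVars false

namespace Cfsg.Agent.Classical.PSLAut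

open Matrix Cfsg.Agent.Classical.Descent

variable {F : Type*} [Field F] [Fintype F] {n : ℕ}

local notation "SLn" => Matrix.SpecialLinearGroup (Fin n) F
local notation "PSLn" => Matrix.ProjectiveSpecialLinearGroup (Fin n) F
local notation "Mn" => Matrix (Fin n) (Fin n) F

variable {p : ℕ} [Fact p.Prime] [CharP F p]

theorem ringAut_commute (σ τ : RingAut F) : σ * τ = τ * σ := by
  obtain ⟨p, hp⟩ := CharP.exists F
  haveI : Fact p.Prime := ⟨(CharP.char_is_prime_or_zero F p).resolve_right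
    (CharP.char_ne_zero_of_finite F p)⟩
  obtain ⟨f, -, hF⟩ := FiniteField.card F p
  obtain ⟨hc, -⟩ := card_ringAut (F := F) hF
  obtain ⟨g, hg⟩ := hc.exists_generator
  obtain ⟨i, rfl⟩ := Subgroup.mem_zpowers_iff.1 (hg σ)
  obtain ⟨j, rfl⟩ := Subgroup.mem_zpowers_iff.1 (hg τ)
  rw [← _root_.zpow_add, ← _root_.zpow_add, add_comm]

theorem pslSemi_mul' (g h : GL (Fin n) F) (σ τ : RingAut F) :
    (pslSemi g σ * pslSemi h τ : MulAut PSLn) = pslSemi (g * gmap σ h) (σ * τ) := pslSemi_mul g h σ τ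

theorem pslSemi_pow (g : GL (Fin n) F) (σ : RingAut F) (k : ℕ) :
    (pslSemi g σ : MulAut PSLn) ^ k = pslSemi (twistNorm σ g k) (σ ^ k) := by
  induction k with
  | zero => exact pslSemi_one.symm
  | succ k ih => rw [pow_succ', ih, pslSemi_mul', pow_succ']; rfl

theorem semi_eq_one_iff (hn : 2 ≤ n) {g : GL (Fin n) F} {σ : RingAut F} :
    (pslSemi g σ : MulAut PSLn) = 1 ↔
      σ = 1 ∧ ∃ c : Fˣ, g = Matrix.GeneralLinearGroup.scalar (Fin n) c :=
  pslSemi_eq_one_iff hn

theorem semi_inj (hn : 2 ≤ n) {g h : GL (Fin n) F} {σ : RingAut F} :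
    (pslSemi g σ : MulAut PSLn) = pslSemi h σ ↔
      ∃ c : Fˣ, g = Matrix.GeneralLinearGroup.scalar (Fin n) c * h := by
  constructor
  · intro e
    obtain ⟨-, -, c, hc⟩ := Rep.unique hn (β := pslSemi g σ) (g := g) (h := h) (σ := σ) (τ := σ) (ε := 0)
      (η := 0) ⟨zero_le_one, fun _ => rfl, by simp⟩ ⟨zero_le_one, fun _ => rfl, by simpa using e⟩
    exact ⟨c, by rw [hc, Descent.scalar_comm]⟩
  · rintro ⟨c, rfl⟩
    rw [← pslSemi_refl_mul, show pslSemi (Matrix.GeneralLinearGroup.scalar (Fin n) c) (RingEquiv.refl F) =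
      (1 : MulAut PSLn) from (semi_eq_one_iff hn).2 ⟨rfl, c, rfl⟩, one_mul]

/-- The standard field automorphism conjugated by an inner-diagonal one. -/
theorem conj_field (y : GL (Fin n) F) (σ : RingAut F) :
    inndiagHom n F y * pslSemi 1 σ * (inndiagHom n F y)⁻¹ =
      (pslSemi (y * (gmap σ y)⁻¹) σ : MulAut PSLn) := by
  rw [inndiagHom_apply, pslSemi_refl_inv, pslSemi_refl_mul, pslSemi_mul', mul_one, map_inv]
  congr 1

theorem orderOf_field (hn : 2 ≤ n) {σ : RingAut F} {g : GL (Fin n) F} {r : ℕ} (hr : r.Prime)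
    (hσ : σ ≠ 1) (hord : orderOf (pslSemi g σ : MulAut PSLn) = r) :
    orderOf σ = r ∧ ∃ c, twistNorm σ g r = Matrix.GeneralLinearGroup.scalar (Fin n) c := by
  have h := pow_orderOf_eq_one (pslSemi g σ : MulAut PSLn)
  rw [hord, pslSemi_pow, semi_eq_one_iff hn] at h
  exact ⟨(hr.eq_one_or_self_of_dvd _ (orderOf_dvd_of_pow_eq_one h.1)).resolve_left
    fun h1 => hσ (orderOf_eq_one_iff.1 h1), h.2⟩

/-- Field automorphisms of prime order in a coset are conjugate to the standard one. -/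
theorem exists_conj_field (hn : 2 ≤ n) {σ : RingAut F} {g : GL (Fin n) F} {r : ℕ} (hr : r.Prime)
    (hσ : σ ≠ 1) (hord : orderOf (pslSemi g σ : MulAut PSLn) = r) :
    orderOf σ = r ∧ ∃ y, (pslSemi g σ : MulAut PSLn) =
      inndiagHom n F y * pslSemi 1 σ * (inndiagHom n F y)⁻¹ := by
  haveI : Nonempty (Fin n) := ⟨⟨0, by omega⟩⟩
  obtain ⟨hσr, c, hc⟩ := orderOf_field hn hr hσ hord
  rw [← hσr] at hc
  obtain ⟨μ, y, hy⟩ := exists_coboundary_scalar σ g hc
  exact ⟨hσr, y, by rw [conj_field, semi_inj hn]; exact ⟨μ, hy⟩⟩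

include p in
/-- Conjugates of an element of the form `φ ι^ε` are inner-diagonal conjugates. -/
theorem exists_conj_inndiag (hn : 2 ≤ n) (α : MulAut PSLn) (σ : RingAut F) (ε : ℕ) :
    ∃ a, α * (pslSemi 1 σ * pslInvT ^ ε) * α⁻¹ =
      inndiagHom n F a * (pslSemi 1 σ * pslInvT ^ ε) * (inndiagHom n F a)⁻¹ := by
  obtain ⟨a, τ, η, -, -, rfl⟩ := exists_rep (p := p) hn α
  refine ⟨a, ?_⟩
  have hι : Commute (pslInvT : MulAut PSLn) (pslSemi 1 σ) := by
    show _ * _ = _ * _
    rw [pslInvT_mul_pslSemi]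
    congr 2
    exact Units.ext (by simp [invT_coe])
  have hτ : Commute (pslSemi (1 : GL (Fin n) F) τ : MulAut PSLn) (pslSemi 1 σ) := by
    show _ * _ = _ * _
    rw [pslSemi_mul', pslSemi_mul', map_one, map_one, ringAut_commute]
  have hτι : Commute (pslSemi (1 : GL (Fin n) F) τ : MulAut PSLn) pslInvT := by
    show _ * _ = _ * _
    rw [pslInvT_mul_pslSemi]
    congr 2
    exact Units.ext (by simp [invT_coe])
  have hC : Commute (pslSemi (1 : GL (Fin n) F) τ * pslInvT ^ η : MulAut PSLn)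
      (pslSemi 1 σ * pslInvT ^ ε) :=
    ((hτ.mul_right (hτι.pow_right ε))).mul_left
      ((hι.pow_left η).mul_right (Commute.pow_pow (Commute.refl _) η ε))
  have hsplit : (pslSemi a τ : MulAut PSLn) * pslInvT ^ η =
      inndiagHom n F a * (pslSemi 1 τ * pslInvT ^ η) := by
    rw [inndiagHom_apply, ← mul_assoc, pslSemi_refl_mul, mul_one]
  rw [hsplit, _root_.mul_inv_rev]
  calc _ = inndiagHom n F a * ((pslSemi 1 τ * pslInvT ^ η) * (pslSemi 1 σ * pslInvT ^ ε) *
        (pslSemi 1 τ * pslInvT ^ η)⁻¹) * (inndiagHom n F a)⁻¹ := by group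
    _ = _ := by rw [hC.eq, mul_inv_cancel_right]

include p in
theorem fieldClass_std (hn : 2 ≤ n) {x : MulAut PSLn} (hx : IsFieldAutClassPSL x) :
    ∃ (σ : RingAut F) (a : GL (Fin n) F), σ ≠ 1 ∧
      x = inndiagHom n F a * pslSemi 1 σ * (inndiagHom n F a)⁻¹ := by
  obtain ⟨α, σ, hσ, hα⟩ := hx
  obtain ⟨a, ha⟩ := exists_conj_inndiag (p := p) hn α⁻¹ σ 0
  rw [pow_zero, mul_one, ← stdField_iff.1 hα] at ha
  refine ⟨σ, a, hσ, ?_⟩
  rw [← stdField_iff.1 hα, ← ha]
  group

include p in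
theorem graphFieldClass_std (hn : 2 ≤ n) {x : MulAut PSLn} (hx : IsGraphFieldAutClassPSL x) :
    3 ≤ n ∧ ∃ (σ : RingAut F) (a : GL (Fin n) F), σ ≠ 1 ∧
      x = inndiagHom n F a * (pslSemi 1 σ * pslInvT) * (inndiagHom n F a)⁻¹ := by
  obtain ⟨h3, α, φ, γ, σ, hσ, hφ, hγ, hα⟩ := hx
  obtain ⟨a, ha⟩ := exists_conj_inndiag (p := p) hn α⁻¹ σ 1
  rw [pow_one, ← stdField_iff.1 hφ, ← invTr_iff.1 hγ, ← hα] at ha
  refine ⟨h3, σ, a, hσ, ?_⟩
  rw [← stdField_iff.1 hφ, ← invTr_iff.1 hγ, ← hα, ← ha]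
  group

theorem mem_inndiag_iff {β : MulAut PSLn} :
    β ∈ inndiagPSL n F ↔ ∃ g, inndiagHom n F g = β := by
  rw [inndiagPSL_eq, MonoidHom.mem_range]

/-! ### The graph-field twist `g ↦ σ(g)^{-T}` -/

theorem invT_mul (g h : GL (Fin n) F) : invT (g * h) = invT g * invT h := by
  refine Units.ext ?_
  rw [invT_coe, Units.val_mul, invT_coe, invT_coe, _root_.mul_inv_rev, Units.val_mul,
    Matrix.transpose_mul]

theorem invT_invT (g : GL (Fin n) F) : invT (invT g) = g := by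
  refine Units.ext ?_
  rw [invT_coe, invT_inv_coe, Matrix.transpose_transpose]

/-- `g ↦ σ(g)^{-T}`. -/
def theta (σ : RingAut F) : GL (Fin n) F →* GL (Fin n) F :=
  MonoidHom.mk' (fun g => invT (gmap σ g)) fun g h => by rw [map_mul, invT_mul]

theorem gmap_invT (σ : RingAut F) (g : GL (Fin n) F) : gmap σ (invT g) = invT (gmap σ g) := by
  refine Units.ext ?_
  rw [invT_coe, ← map_inv]
  rfl

theorem theta_theta {σ : RingAut F} (hσ : σ * σ = 1) (g : GL (Fin n) F) :
    theta σ (theta σ g) = g := by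
  show invT (gmap σ (invT (gmap σ g))) = g
  rw [gmap_invT, invT_invT, gmap_gmap, hσ, gmap_one]

theorem theta_inv_coe (σ : RingAut F) (g : GL (Fin n) F) :
    (((theta σ g)⁻¹ : GL (Fin n) F) : Mn) = ((g : Mn).map σ)ᵀ := rfl

theorem theta_scalar (σ : RingAut F) (c : Fˣ) :
    theta σ (Matrix.GeneralLinearGroup.scalar (Fin n) c) =
      Matrix.GeneralLinearGroup.scalar (Fin n) (Units.map σ.toMonoidHom c)⁻¹ := by
  rw [map_inv, ← inv_eq_iff_eq_inv]
  refine Units.ext ?_
  rw [theta_inv_coe, Matrix.GeneralLinearGroup.coe_scalar, Matrix.GeneralLinearGroup.coe_scalar]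
  ext i j
  by_cases h : i = j <;> simp [h, eq_comm]

theorem gf_mul_pslSemi (σ : RingAut F) (g : GL (Fin n) F) (τ : RingAut F) :
    (pslSemi 1 σ * pslInvT : MulAut PSLn) * pslSemi g τ =
      pslSemi (theta σ g) (σ * τ) * pslInvT := by
  rw [mul_assoc, pslInvT_mul_pslSemi, ← mul_assoc, pslSemi_mul', one_mul, gmap_invT]
  rfl

theorem conj_graphField (y : GL (Fin n) F) (σ : RingAut F) :
    inndiagHom n F y * (pslSemi 1 σ * pslInvT) * (inndiagHom n F y)⁻¹ =
      (pslSemi (y * (theta σ y)⁻¹) σ * pslInvT : MulAut PSLn) := by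
  rw [inndiagHom_apply, pslSemi_refl_inv, mul_assoc, gf_mul_pslSemi, map_inv, ← mul_assoc,
    pslSemi_refl_mul]
  congr 2

/-- An invertible Hermitian matrix is `y · σ(y)^T`. -/
theorem exists_eq_mul_theta_inv {σ : RingAut F} (hσ : σ ≠ 1) (hσ2 : σ * σ = 1) {g : GL (Fin n) F}
    (hg : theta σ g = g⁻¹) : ∃ y, g = y * (theta σ y)⁻¹ := by
  have hinv : ∀ a, σ (σ a) = a := fun a => DFunLike.congr_fun hσ2 a
  set M : Mn := ((g⁻¹ : GL (Fin n) F) : Mn)
  have hM : (M.map σ)ᵀ = M := by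
    rw [show (M.map σ)ᵀ = (((theta σ g⁻¹)⁻¹ : GL (Fin n) F) : Mn) from (theta_inv_coe σ g⁻¹).symm,
      map_inv, inv_inv, hg]
  let B : (Fin n → F) →ₛₗ[σ.toRingHom] (Fin n → F) →ₗ[F] F := LinearMap.mk₂'ₛₗ σ.toRingHom (RingHom.id F)
    (fun u v => (σ ∘ u) ⬝ᵥ (M *ᵥ v))
    (fun u u' v => by simp only [dotProduct, Function.comp, Pi.add_apply, map_add, add_mul,
      Finset.sum_add_distrib])
    (fun c u v => by simp only [dotProduct, Function.comp, Pi.smul_apply, smul_eq_mul, map_mul,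
      Finset.mul_sum, mul_assoc]; rfl)
    (fun u v v' => by rw [Matrix.mulVec_add, dotProduct_add])
    (fun c u v => by rw [Matrix.mulVec_smul, dotProduct_smul]; rfl)
  have hB : ∀ u v, B u v = (σ ∘ u) ⬝ᵥ (M *ᵥ v) := fun u v => rfl
  have hS : B.IsSymm := by
    refine ⟨fun u v => ?_⟩
    show σ (B u v) = B v u
    rw [hB, hB]
    conv_rhs => rw [Matrix.dotProduct_mulVec, dotProduct_comm, ← Matrix.mulVec_transpose]
    simp only [dotProduct, Matrix.mulVec, map_sum, Function.comp, map_mul, hinv]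
    refine Finset.sum_congr rfl fun i _ => ?_
    congr 1
    refine Finset.sum_congr rfl fun j _ => ?_
    congr 1
    exact congrFun (congrFun hM j) i
  have hnd : ∀ w : Fin n → F, w ≠ 0 → ∃ u, B w u ≠ 0 := by
    intro w hw
    obtain ⟨i, hi⟩ := Function.ne_iff.1 hw
    refine ⟨(g : Mn) *ᵥ Pi.single i 1, ?_⟩
    rw [hB, Matrix.mulVec_mulVec, show M * (g : Mn) = 1 from g.inv_mul, Matrix.one_mulVec,
      dotProduct_single, mul_one]
    simpa using hi
  obtain ⟨b, -, hb⟩ := exists_orthonormal_family_herm B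
    (fun h => hσ (RingEquiv.ext fun a => DFunLike.congr_fun h a)) hinv hS n ⊤
    (fun w _ hw => (hnd w hw).imp fun u hu => ⟨trivial, hu⟩) (by simp)
  set P : Mn := Matrix.of fun i j => b j i
  have hP : (P.map σ)ᵀ * M * P = 1 := by
    ext i j
    rw [Matrix.mul_assoc, Matrix.one_apply]
    exact hb i j
  have hu : IsUnit P.det := by
    have h := congrArg Matrix.det hP
    rw [Matrix.det_mul, Matrix.det_one] at h
    exact isUnit_of_dvd_one ⟨_, by rw [mul_comm]; exact h.symm⟩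
  let y : GL (Fin n) F := Matrix.GeneralLinearGroup.mk'' P hu
  refine ⟨y, ?_⟩
  have h1 : (theta σ y)⁻¹ * g⁻¹ * y = 1 := Units.ext (by
    rw [Units.val_mul, Units.val_mul, theta_inv_coe, Units.val_one]
    exact hP)
  calc g = y * 1 * ((theta σ y)⁻¹ * g⁻¹ * y)⁻¹ * (theta σ y)⁻¹ := by group
    _ = _ := by rw [h1]; group

theorem exists_conj_graphField (hn : 3 ≤ n) {σ : RingAut F} {g : GL (Fin n) F} {r : ℕ} (hr : r.Prime)
    (hσ : σ ≠ 1) (hord : orderOf (pslSemi g σ * pslInvT : MulAut PSLn) = r) :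
    r = 2 ∧ orderOf σ = 2 ∧ ∃ y, (pslSemi g σ * pslInvT : MulAut PSLn) =
      inndiagHom n F y * (pslSemi 1 σ * pslInvT) * (inndiagHom n F y)⁻¹ := by
  haveI : Nonempty (Fin n) := ⟨⟨0, by omega⟩⟩
  have hn2 : 2 ≤ n := by omega
  have hsplit : (pslSemi g σ : MulAut PSLn) = inndiagHom n F g * pslSemi 1 σ := by
    rw [inndiagHom_apply, pslSemi_refl_mul, mul_one]
  have hsq : (pslSemi g σ * pslInvT : MulAut PSLn) ^ 2 = pslSemi (g * theta σ g) (σ * σ) := by
    rw [sq]
    conv_lhs => enter [1]; rw [hsplit]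
    rw [mul_assoc (inndiagHom n F g), mul_assoc, ← mul_assoc (pslSemi 1 σ * pslInvT), gf_mul_pslSemi,
      mul_assoc (pslSemi (theta σ g) (σ * σ)), pslInvT_mul_self, mul_one, inndiagHom_apply, pslSemi_refl_mul]
  have hr2 : r = 2 := by
    refine (hr.eq_two_or_odd').resolve_right fun hodd => ?_
    obtain ⟨k, hk⟩ := hodd
    have h1 := pow_orderOf_eq_one (pslSemi g σ * pslInvT : MulAut PSLn)
    rw [hord, hk, pow_succ', pow_mul, hsq, pslSemi_pow] at h1
    set N := twistNorm (σ * σ : RingAut F) (g * theta σ g) k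
    set ρ := (σ * σ : RingAut F) ^ k
    rw [mul_assoc, pslInvT_mul_pslSemi, ← mul_assoc, pslSemi_mul'] at h1
    exact pslInvT_ne_semi hn _ _ ((eq_inv_of_mul_eq_one_left h1).trans pslInvT_inv).symm
  subst hr2
  have h1 := pow_orderOf_eq_one (pslSemi g σ * pslInvT : MulAut PSLn)
  rw [hord, hsq, semi_eq_one_iff hn2] at h1
  obtain ⟨hσσ, c, hc⟩ := h1
  have hσ2 : orderOf σ = 2 := orderOf_eq_prime (by rw [sq]; exact hσσ) hσ
  refine ⟨rfl, hσ2, ?_⟩
  have h2 : theta σ g * g = Matrix.GeneralLinearGroup.scalar (Fin n) c := by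
    rw [eq_inv_mul_of_mul_eq hc, ← Descent.scalar_comm, inv_mul_cancel_right]
  have h3 := congrArg (theta σ) hc
  rw [map_mul, theta_theta hσσ, h2, theta_scalar] at h3
  have hc' : Units.map σ.toMonoidHom c = c⁻¹ := inv_eq_iff_eq_inv.1 (scalar_injective h3).symm
  obtain ⟨ν, hν⟩ := unitNorm_hilbert90 σ c (by
    rw [hσ2, unitNorm_succ', show unitNorm σ 1 c = c from by simp [unitNorm], pow_one, hc',
      mul_inv_cancel])
  set g' := Matrix.GeneralLinearGroup.scalar (Fin n) ν⁻¹ * g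
  have hg' : theta σ g' = g'⁻¹ := by
    refine eq_inv_of_mul_eq_one_left ?_
    have hθ : theta σ g' =
        Matrix.GeneralLinearGroup.scalar (Fin n) (Units.map σ.toMonoidHom ν) * theta σ g := by
      simp only [g']
      rw [map_mul, theta_scalar, ← map_inv (Units.map σ.toMonoidHom), inv_inv]
    rw [hθ]
    simp only [g']
    rw [mul_assoc, ← mul_assoc (theta σ g), ← Descent.scalar_comm, mul_assoc, h2, ← map_mul, ← map_mul,
      hν, ← map_one (Matrix.GeneralLinearGroup.scalar (Fin n) (R := F))]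
    congr 1
    group
  obtain ⟨y, hy⟩ := exists_eq_mul_theta_inv hσ hσσ hg'
  refine ⟨y, ?_⟩
  rw [conj_graphField, ← hy, (semi_inj hn2).2 ⟨ν⁻¹, rfl⟩]

include p in
/-- The criterion for elements of prime order in the coset of a field or graph-field automorphism. -/
theorem coset_conj_iff (hn : 2 ≤ n) {x δ : MulAut PSLn}
    (hx : IsFieldAutClassPSL x ∨ IsGraphFieldAutClassPSL x) {r : ℕ} (hr : r.Prime)
    (hxr : orderOf x = r) (hδ : δ ∈ inndiagPSL n F) :
    orderOf (δ * x) = r ↔ IsConjUnder (inndiagPSL n F) x (δ * x) := by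
  constructor
  swap
  · rintro ⟨h, -, he⟩
    rw [he, ← hxr]
    exact (MulAut.conj h).orderOf_eq x
  intro hord
  obtain ⟨d, rfl⟩ := mem_inndiag_iff.1 hδ
  rcases hx with hx | hx
  · obtain ⟨σ, a, hσ, rfl⟩ := fieldClass_std (p := p) hn hx
    have he : inndiagHom n F d * (inndiagHom n F a * pslSemi 1 σ * (inndiagHom n F a)⁻¹) =
        pslSemi (d * (a * (gmap σ a)⁻¹)) σ := by
      rw [conj_field, inndiagHom_apply, pslSemi_refl_mul]
    rw [he] at hord
    obtain ⟨-, y, hy⟩ := exists_conj_field hn hr hσ hord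
    rw [he, hy]
    exact ⟨inndiagHom n F (y * a⁻¹), mem_inndiag_iff.2 ⟨_, rfl⟩, by rw [map_mul, map_inv]; group⟩
  · obtain ⟨h3, σ, a, hσ, rfl⟩ := graphFieldClass_std (p := p) hn hx
    have he : inndiagHom n F d * (inndiagHom n F a * (pslSemi 1 σ * pslInvT) * (inndiagHom n F a)⁻¹) =
        pslSemi (d * (a * (theta σ a)⁻¹)) σ * pslInvT := by
      rw [conj_graphField, inndiagHom_apply, ← mul_assoc, pslSemi_refl_mul]
    rw [he] at hord
    obtain ⟨-, -, y, hy⟩ := exists_conj_graphField h3 hr hσ hord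
    rw [he, hy]
    exact ⟨inndiagHom n F (y * a⁻¹), mem_inndiag_iff.2 ⟨_, rfl⟩, by rw [map_mul, map_inv]; group⟩

/-! ### Centralisers and split classes -/

theorem centralizer_field_iff (hn : 2 ≤ n) (σ : RingAut F) (g : GL (Fin n) F) :
    Commute (inndiagHom n F g) (pslSemi 1 σ : MulAut PSLn) ↔
      ∃ c : Fˣ, gmap σ g = Matrix.GeneralLinearGroup.scalar (Fin n) c * g := by
  rw [inndiagHom_apply, Commute, SemiconjBy, pslSemi_refl_mul, mul_one, pslSemi_mul', one_mul,
    show (σ * (RingEquiv.refl F : RingAut F) : RingAut F) = σ from mul_one σ, semi_inj hn]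
  constructor
  · rintro ⟨c, hc⟩
    exact ⟨c⁻¹, by rw [map_inv]; exact eq_inv_mul_of_mul_eq hc.symm⟩
  · rintro ⟨c, hc⟩
    exact ⟨c⁻¹, by rw [map_inv]; exact eq_inv_mul_of_mul_eq hc.symm⟩

theorem centralizer_graphField_iff (hn : 2 ≤ n) (σ : RingAut F) (g : GL (Fin n) F) :
    Commute (inndiagHom n F g) (pslSemi 1 σ * pslInvT : MulAut PSLn) ↔
      ∃ c : Fˣ, theta σ g = Matrix.GeneralLinearGroup.scalar (Fin n) c * g := by
  rw [inndiagHom_apply, Commute, SemiconjBy, gf_mul_pslSemi, ← mul_assoc, mul_left_inj,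
    pslSemi_refl_mul, mul_one,
    show (σ * (RingEquiv.refl F : RingAut F) : RingAut F) = σ from mul_one σ, semi_inj hn]
  constructor
  · rintro ⟨c, hc⟩
    exact ⟨c⁻¹, by rw [map_inv]; exact eq_inv_mul_of_mul_eq hc.symm⟩
  · rintro ⟨c, hc⟩
    exact ⟨c⁻¹, by rw [map_inv]; exact eq_inv_mul_of_mul_eq hc.symm⟩

instance inn_normal : (Inn PSLn).Normal := by
  refine ⟨?_⟩
  rintro _ ⟨k, rfl⟩ φ
  exact ⟨φ k, MulEquiv.ext fun x => by simp [MulAut.conj_apply]⟩

theorem inn_le_inndiag : Inn PSLn ≤ inndiagPSL n F := by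
  rintro _ ⟨x, rfl⟩
  obtain ⟨s, rfl⟩ := slToPSL_surjective x
  exact mem_inndiag_iff.2 ⟨_, (conj_eq_pslSemi s).symm⟩

theorem exists_diag_det (hn : 1 ≤ n) (t : Fˣ) : ∃ d : GL (Fin n) F,
    Matrix.GeneralLinearGroup.det d = t ∧
      (d : Mn) = Matrix.diagonal (Function.update (fun _ => (1 : F)) ⟨0, hn⟩ t) := by
  have h : (Matrix.diagonal (Function.update (fun _ => (1 : F)) (⟨0, hn⟩ : Fin n) (t : F))).det = t := by
    rw [Matrix.det_diagonal, Finset.prod_update_of_mem (Finset.mem_univ _)]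
    simp
  have hu : IsUnit (Matrix.diagonal (Function.update (fun _ => (1 : F)) (⟨0, hn⟩ : Fin n) (t : F))).det :=
    h.symm ▸ t.isUnit
  exact ⟨Matrix.GeneralLinearGroup.mk'' _ hu, Units.ext h, rfl⟩

/-- Split classes through the determinant. -/
theorem splitClassCount_det (hn : 2 ≤ n) (x : MulAut PSLn) (D : Subgroup Fˣ)
    (h1 : ∀ g, Commute (inndiagHom n F g) x →
      Matrix.GeneralLinearGroup.det g ∈ (powMonoidHom n : Fˣ →* Fˣ).range ⊔ D)
    (h2 : ∀ t ∈ D, ∃ g, Matrix.GeneralLinearGroup.det g = t ∧ Commute (inndiagHom n F g) x) :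
    splitClassCount (inndiagPSL n F) (Inn PSLn) x = Nat.gcd n D.index := by
  haveI : Nonempty (Fin n) := ⟨⟨0, by omega⟩⟩
  let d : GL (Fin n) F →* Fˣ := Matrix.GeneralLinearGroup.det
  have hscal : ∀ c : Fˣ, d (Matrix.GeneralLinearGroup.scalar (Fin n) c) = c ^ n := fun c =>
    Units.ext (by simp [d])
  have hsl : ∀ s : SLn, d (Matrix.SpecialLinearGroup.toGL s) = 1 := fun s => Units.ext (by simp [d])
  rw [splitClassCount_eq_relIndex _ _ inn_le_inndiag, inndiagPSL_eq, ← Subgroup.index_comap]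
  have hL : Subgroup.comap (inndiagHom n F) (Inn PSLn ⊔ ((inndiagHom n F).range ⊓ Subgroup.centralizer {x}))
      = Subgroup.comap d ((powMonoidHom n : Fˣ →* Fˣ).range ⊔ D) := by
    ext g
    rw [Subgroup.mem_comap, Subgroup.mem_comap, Subgroup.mem_sup_of_normal_left]
    constructor
    · rintro ⟨k, ⟨y, rfl⟩, _, ⟨⟨a, rfl⟩, hc⟩, he⟩
      obtain ⟨s, rfl⟩ := slToPSL_surjective y
      rw [conj_eq_pslSemi, ← inndiagHom_apply, ← map_mul] at he
      have hk : (Matrix.SpecialLinearGroup.toGL s * a)⁻¹ * g ∈ (inndiagHom n F).ker := by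
        rw [MonoidHom.mem_ker, map_mul, map_inv, he, inv_mul_cancel]
      rw [ker_inndiagHom hn, Matrix.GeneralLinearGroup.center_eq_range_scalar] at hk
      obtain ⟨c, hc'⟩ := hk
      rw [show g = Matrix.SpecialLinearGroup.toGL s * a * Matrix.GeneralLinearGroup.scalar (Fin n) c by
        rw [hc', mul_inv_cancel_left], map_mul, map_mul, hsl, one_mul, hscal]
      exact mul_mem (h1 a (Subgroup.mem_centralizer_singleton_iff.1
        (show inndiagHom n F a ∈ Subgroup.centralizer {x} from hc)))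
        (Subgroup.mem_sup_left ⟨c, rfl⟩)
    · intro hg
      obtain ⟨_, ⟨μ, rfl⟩, t, ht, hμt⟩ := Subgroup.mem_sup.1 hg
      obtain ⟨a, ha, hax⟩ := h2 t ht
      have hdet : ((g * a⁻¹ * (Matrix.GeneralLinearGroup.scalar (Fin n) μ)⁻¹ : GL (Fin n) F) : Mn).det = 1 := by
        have h4 : d (g * a⁻¹ * (Matrix.GeneralLinearGroup.scalar (Fin n) μ)⁻¹) = 1 := by
          rw [map_mul, map_mul, map_inv, map_inv, hscal, show d a = t from ha, ← hμt,
            powMonoidHom_apply, mul_inv_cancel_right, mul_inv_cancel]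
        simpa [d] using congrArg (fun u : Fˣ => (u : F)) h4
      refine ⟨_, ⟨slToPSL n F ⟨_, hdet⟩, rfl⟩, inndiagHom n F a, ⟨⟨a, rfl⟩,
        Subgroup.mem_centralizer_singleton_iff.2 hax⟩, ?_⟩
      obtain ⟨s, hs⟩ : ∃ s : SLn, s = ⟨_, hdet⟩ := ⟨_, rfl⟩
      rw [← hs, conj_eq_pslSemi, ← inndiagHom_apply, ← map_mul,
        show Matrix.SpecialLinearGroup.toGL s =
          g * a⁻¹ * (Matrix.GeneralLinearGroup.scalar (Fin n) μ)⁻¹ from Units.ext (by rw [hs]; rfl)]
      rw [← map_inv, mul_assoc, Descent.scalar_comm μ⁻¹ a, ← mul_assoc, inv_mul_cancel_right, map_mul]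
      have : inndiagHom n F (Matrix.GeneralLinearGroup.scalar (Fin n) μ⁻¹) = 1 :=
        (semi_eq_one_iff hn).2 ⟨rfl, μ⁻¹, rfl⟩
      rw [this, mul_one]
  rw [hL, Subgroup.index_comap_of_surjective _
    (show Function.Surjective d from Matrix.GeneralLinearGroup.det_surjective), index_pow_sup]

/-- An embedding of the field of `p^(f/r)` elements onto the fixed field. -/
theorem exists_fixed_embedding {f r : ℕ} (hF : Fintype.card F = p ^ f) {σ : RingAut F}
    (hσ : orderOf σ = r) (F₀ : Type*) [Field F₀] [Fintype F₀] (hF₀ : Fintype.card F₀ = p ^ (f / r)) :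
    r ∣ f ∧ Nat.card (fixedUnits σ) = p ^ (f / r) - 1 ∧
      ∃ j : F₀ →+* F, ∀ x, σ x = x ↔ x ∈ j.range := by
  classical
  obtain ⟨-, hc⟩ := card_ringAut (F := F) hF
  have hrf : r ∣ f := hσ ▸ hc ▸ orderOf_dvd_natCard σ
  haveI : Finite (RingAut F) := Finite.of_injective (fun τ => (τ : F → F)) DFunLike.coe_injective
  haveI : Fintype (Subgroup.zpowers σ) := Fintype.ofFinite _
  have hgen : ∀ x : F, x ∈ FixedPoints.subfield (Subgroup.zpowers σ) F ↔ σ x = x := by
    intro x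
    constructor
    · exact fun h => h ⟨σ, Subgroup.mem_zpowers σ⟩
    · rintro h ⟨τ, hτ⟩
      exact (Subgroup.zpowers_le.2 (show σ ∈ MulAction.stabilizer (RingAut F) x from h)) hτ
  have hfr := FixedPoints.finrank_eq_card (Subgroup.zpowers σ) F
  rw [← Nat.card_eq_fintype_card, Nat.card_zpowers, hσ] at hfr
  have hcard := Module.card_eq_pow_finrank (K := FixedPoints.subfield (Subgroup.zpowers σ) F) (V := F)
  rw [hfr, hF] at hcard
  have hk : Fintype.card (FixedPoints.subfield (Subgroup.zpowers σ) F) = p ^ (f / r) := by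
    refine Nat.pow_left_injective (n := r) ?_ ?_
    · rw [← hσ]; exact (orderOf_pos σ).ne'
    · show _ ^ r = _ ^ r
      rw [← hcard, ← pow_mul, Nat.div_mul_cancel hrf]
  let e : F₀ ≃+* FixedPoints.subfield (Subgroup.zpowers σ) F :=
    FiniteField.ringEquivOfCardEq (hF₀.trans hk.symm)
  refine ⟨hrf, ?_, (FixedPoints.subfield (Subgroup.zpowers σ) F).subtype.comp e.toRingHom, fun x => ?_⟩
  · rw [← hk, ← Nat.card_eq_fintype_card, ← Nat.card_units]
    refine Nat.card_congr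
      { toFun := fun u => ⟨⟨(u.1 : F), (hgen _).2 (congrArg Units.val u.2)⟩,
          ⟨((u.1⁻¹ : Fˣ) : F), (hgen _).2 (by
            rw [Units.val_inv_eq_inv_val, map_inv₀,
              show σ (u.1 : F) = (u.1 : F) from congrArg Units.val u.2])⟩,
          Subtype.ext u.1.mul_inv, Subtype.ext u.1.inv_mul⟩
        invFun := fun v => ⟨Units.map (FixedPoints.subfield (Subgroup.zpowers σ) F).subtype.toMonoidHom v,
          Units.ext ((hgen _).1 v.1.2)⟩
        left_inv := fun u => Subtype.ext (Units.ext rfl)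
        right_inv := fun v => Units.ext (Subtype.ext rfl) }
  · rw [← hgen]
    exact ⟨fun hx => ⟨e.symm ⟨x, hx⟩, by simp⟩, fun ⟨y, hy⟩ => hy ▸ (e y).2⟩

theorem mem_of_gmap_fixed {F₀ : Type*} [Field F₀] {σ : RingAut F} {j : F₀ →+* F}
    (hj : ∀ x, σ x = x ↔ x ∈ j.range) {k : GL (Fin n) F} (hk : gmap σ k = k) :
    ∃ k₀ : GL (Fin n) F₀, Matrix.GeneralLinearGroup.map j k₀ = k := by
  have hfix : ∀ g : GL (Fin n) F, gmap σ g = g → ∀ a b, ∃ y, j y = (g : Mn) a b := fun g hg a b =>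
    (hj _).1 (congrFun (congrFun (congrArg (fun u : GL (Fin n) F => (u : Mn)) hg) a) b)
  choose A hA using hfix k hk
  have hA' : (Matrix.of A).map j = (k : Mn) := Matrix.ext hA
  have hu : IsUnit (Matrix.of A).det := Ne.isUnit fun h => k.det_ne_zero (by
    rw [← hA', ← RingHom.mapMatrix_apply, ← RingHom.map_det, h, map_zero])
  exact ⟨Matrix.GeneralLinearGroup.mk'' _ hu, Units.ext hA'⟩

theorem centralizer_field_iso (hn : 2 ≤ n) {F₀ : Type*} [Field F₀] (σ : RingAut F) (j : F₀ →+* F)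
    (hj : ∀ x, σ x = x ↔ x ∈ j.range) :
    Nonempty (↥(inndiagPSL n F ⊓ Subgroup.centralizer {(pslSemi 1 σ : MulAut PSLn)}) ≃*
      Matrix.ProjGenLinGroup (Fin n) F₀) := by
  haveI : Nonempty (Fin n) := ⟨⟨0, by omega⟩⟩
  have hfix : ∀ g : GL (Fin n) F₀, gmap σ (Matrix.GeneralLinearGroup.map j g) =
      Matrix.GeneralLinearGroup.map j g := fun g => by
    ext a b
    exact (hj _).2 ⟨_, rfl⟩
  let Φ : GL (Fin n) F₀ →* ↥(inndiagPSL n F ⊓ Subgroup.centralizer {(pslSemi 1 σ : MulAut PSLn)}) :=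
    ((inndiagHom n F).comp (Matrix.GeneralLinearGroup.map j)).codRestrict _ fun g =>
      ⟨mem_inndiag_iff.2 ⟨_, rfl⟩, Subgroup.mem_centralizer_singleton_iff.2
        ((centralizer_field_iff hn σ _).2 ⟨1, by rw [map_one, one_mul]; exact hfix g⟩)⟩
  have hsurj : Function.Surjective Φ := by
    rintro ⟨β, hβ1, hβ2⟩
    obtain ⟨g, rfl⟩ := mem_inndiag_iff.1 hβ1
    obtain ⟨c, hc⟩ := (centralizer_field_iff hn σ g).1 (Subgroup.mem_centralizer_singleton_iff.1
      (show inndiagHom n F g ∈ Subgroup.centralizer {(pslSemi 1 σ : MulAut PSLn)} from hβ2))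
    obtain ⟨μ, k, hk, rfl⟩ := exists_fixed_of_map_eq_smul σ g hc
    obtain ⟨k₀, rfl⟩ := mem_of_gmap_fixed hj hk
    refine ⟨k₀, Subtype.ext ?_⟩
    exact ((semi_inj hn).2 ⟨μ, rfl⟩).symm
  have hker : Φ.ker = Subgroup.center (GL (Fin n) F₀) := by
    ext g
    rw [MonoidHom.mem_ker, Subtype.ext_iff, Matrix.GeneralLinearGroup.center_eq_range_scalar]
    show inndiagHom n F (Matrix.GeneralLinearGroup.map j g) = 1 ↔ _
    rw [inndiagHom_apply, pslSemi_eq_one_iff hn]
    constructor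
    · rintro ⟨-, c, hc⟩
      have he : ∀ a b, j ((g : Matrix (Fin n) (Fin n) F₀) a b) = if a = b then (c : F) else 0 :=
        fun a b => by
          refine (congrFun (congrFun (congrArg (fun u : GL (Fin n) F => (u : Mn)) hc) a) b).trans ?_
          simp [Matrix.diagonal_apply]
      set o : Fin n := ⟨0, by omega⟩
      have h0 : (g : Matrix (Fin n) (Fin n) F₀) o o ≠ 0 := fun h => by
        have := he o o
        rw [h, map_zero, if_pos rfl] at this
        exact c.ne_zero this.symm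
      refine ⟨Units.mk0 _ h0, ?_⟩
      ext a b
      apply j.injective
      rw [he]
      by_cases hab : a = b <;> simp [hab, he]
    · rintro ⟨c, rfl⟩
      refine ⟨rfl, Units.map j.toMonoidHom c, ?_⟩
      ext a b
      by_cases hab : a = b <;> simp [hab]
  exact ⟨((QuotientGroup.quotientMulEquivOfEq hker.symm).trans
    (QuotientGroup.quotientKerEquivOfSurjective Φ hsurj)).symm⟩

theorem inndiag_inf_centralizer_conj {h : MulAut PSLn} (hh : h ∈ inndiagPSL n F) (x : MulAut PSLn) :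
    Nonempty (↥(inndiagPSL n F ⊓ Subgroup.centralizer {h * x * h⁻¹}) ≃*
      ↥(inndiagPSL n F ⊓ Subgroup.centralizer {x})) := by
  have e : (inndiagPSL n F ⊓ Subgroup.centralizer {x}).map (MulAut.conj h).toMonoidHom =
      inndiagPSL n F ⊓ Subgroup.centralizer {h * x * h⁻¹} := by
    ext y
    rw [Subgroup.mem_map_equiv, Subgroup.mem_inf, Subgroup.mem_inf,
      Subgroup.mem_centralizer_singleton_iff, Subgroup.mem_centralizer_singleton_iff,
      MulAut.conj_symm_apply]
    refine and_congr ⟨fun h1 => ?_, fun h1 => mul_mem (mul_mem (inv_mem hh) h1) hh⟩ ⟨fun h2 => ?_, fun h2 => ?_⟩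
    · simpa [mul_assoc] using mul_mem (mul_mem hh h1) (inv_mem hh)
    · calc y * (h * x * h⁻¹) = h * (h⁻¹ * y * h * x) * h⁻¹ := by group
        _ = _ := by rw [h2]; group
    · calc h⁻¹ * y * h * x = h⁻¹ * (y * (h * x * h⁻¹)) * h := by group
        _ = _ := by rw [h2]; group
  exact ⟨(MulEquiv.subgroupCongr e.symm).trans
    (Subgroup.equivMapOfInjective _ (MulAut.conj h).toMonoidHom (MulAut.conj h).injective).symm⟩

theorem split_field (hn : 2 ≤ n) (σ : RingAut F) :
    splitClassCount (inndiagPSL n F) (Inn PSLn) (pslSemi 1 σ) =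
      Nat.gcd n (fixedUnits σ).index := by
  haveI : Nonempty (Fin n) := ⟨⟨0, by omega⟩⟩
  refine splitClassCount_det hn _ _ (fun g hg => ?_) fun t ht => ?_
  · obtain ⟨c, hc⟩ := (centralizer_field_iff hn σ g).1 hg
    obtain ⟨μ, k, hk, rfl⟩ := exists_fixed_of_map_eq_smul σ g hc
    rw [map_mul]
    refine mul_mem (Subgroup.mem_sup_left ⟨μ, Units.ext (by simp)⟩) (Subgroup.mem_sup_right ?_)
    have := congrArg Matrix.GeneralLinearGroup.det hk
    rw [mem_fixedUnits]
    refine (Units.ext ?_).trans this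
    exact σ.toRingHom.map_det _
  · obtain ⟨d, hd1, hd2⟩ := exists_diag_det (F := F) (n := n) (by omega) t
    refine ⟨d, hd1, (centralizer_field_iff hn σ d).2 ⟨1, ?_⟩⟩
    rw [map_one, one_mul]
    refine Units.ext ?_
    show (d : Mn).map σ = d
    rw [hd2, Matrix.diagonal_map (map_zero σ)]
    congr 1
    funext a
    rcases eq_or_ne a ⟨0, by omega⟩ with rfl | ha
    · simpa using congrArg Units.val (mem_fixedUnits.1 ht)
    · simp [ha]

theorem split_graphField (hn : 2 ≤ n) {σ : RingAut F} (hσ : orderOf σ = 2) :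
    splitClassCount (inndiagPSL n F) (Inn PSLn) (pslSemi 1 σ * pslInvT) =
      Nat.gcd n (unitNorm σ 2).ker.index := by
  haveI : Nonempty (Fin n) := ⟨⟨0, by omega⟩⟩
  have hσσ : σ * σ = 1 := by rw [← sq, ← hσ, pow_orderOf_eq_one]
  have hnorm : ∀ t : Fˣ, unitNorm σ 2 t = t * Units.map σ.toMonoidHom t := fun t => by
    rw [unitNorm_succ', pow_one, show unitNorm σ 1 t = t from by simp [unitNorm]]
  refine splitClassCount_det hn _ _ (fun g hg => ?_) fun t ht => ?_
  · obtain ⟨c, hc⟩ := (centralizer_graphField_iff hn σ g).1 hg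
    have hfix : Units.map σ.toMonoidHom c = c := by
      have h := congrArg (theta σ) hc
      rw [theta_theta hσσ, map_mul, theta_scalar, hc, ← mul_assoc, ← map_mul, right_eq_mul] at h
      exact inv_mul_eq_one.1 (scalar_injective (h.trans (map_one _).symm))
    obtain ⟨μ, hμ⟩ := exists_unitNorm_eq σ (mem_fixedUnits.2 hfix)
    rw [hσ, hnorm] at hμ
    set k := Matrix.GeneralLinearGroup.scalar (Fin n) μ * g
    have hk : theta σ k = k := by
      simp only [k, map_mul, theta_scalar, hc, ← mul_assoc]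
      rw [← map_mul, ← hμ, mul_comm μ, inv_mul_cancel_left]
    have hdet : ∀ u : GL (Fin n) F, Matrix.GeneralLinearGroup.det (theta σ u) =
        (Units.map σ.toMonoidHom (Matrix.GeneralLinearGroup.det u))⁻¹ := fun u => by
      rw [← inv_eq_iff_eq_inv, ← map_inv]
      refine Units.ext ?_
      show (((theta σ u)⁻¹ : GL (Fin n) F) : Mn).det = σ (u : Mn).det
      rw [theta_inv_coe, Matrix.det_transpose]
      exact (σ.toRingHom.map_det _).symm
    rw [show g = Matrix.GeneralLinearGroup.scalar (Fin n) μ⁻¹ * k by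
      simp only [k]; rw [← mul_assoc, ← map_mul, inv_mul_cancel, map_one, one_mul], map_mul]
    refine mul_mem (Subgroup.mem_sup_left ⟨μ⁻¹, Units.ext (by simp)⟩) (Subgroup.mem_sup_right ?_)
    have h := hdet k
    rw [hk, eq_inv_iff_mul_eq_one] at h
    rw [MonoidHom.mem_ker, hnorm]
    exact h
  · obtain ⟨d, hd1, hd2⟩ := exists_diag_det (F := F) (n := n) (by omega) t
    refine ⟨d, hd1, (centralizer_graphField_iff hn σ d).2 ⟨1, ?_⟩⟩
    rw [map_one, one_mul, ← _root_.inv_inj]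
    refine Units.ext ?_
    rw [theta_inv_coe, hd2, Matrix.diagonal_map (map_zero σ), Matrix.diagonal_transpose,
      Matrix.coe_units_inv, hd2, eq_comm]
    refine Matrix.inv_eq_right_inv ?_
    rw [Matrix.diagonal_mul_diagonal, ← Matrix.diagonal_one]
    congr 1
    funext a
    rcases eq_or_ne a ⟨0, by omega⟩ with rfl | ha
    · have := congrArg Units.val ((hnorm t).symm.trans (MonoidHom.mem_ker.1 ht))
      simpa using this
    · simp [ha]

end Cfsg.Agent.Classical.PSLAut
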