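import Cfsg.Agent.Lib.Classical.OrthModels
import Cfsg.Agent.Lib.Classical.PSLFieldAut

/-!
The group of automorphisms of `PΩ(Q)` induced by semisimilarities: products, kernel, conjugation.
-/

set_option autoImplicit false
set_option linter.unusedSectionVars false
set_option quotPrecheck false

namespace Cfsg.Agent.Classical.OrthAut

open Matrix Cfsg.Agent.Classical.Descent

variable {F : Type*} [Field F] {ι : Type} [Fintype ι] [DecidableEq ι] {Q : QuadraticForm F (ι → F)}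

local notation "V" => (ι → F)
local notation "Mn" => Matrix ι ι F
local notation "B" => QuadraticMap.polar ⇑Q
local notation "OG" => isometryGroup F ⇑Q
local notation "Om" => Omega F ⇑Q
local notation "PQ" => POmega F ⇑Q
local notation "π" => omPi (Q := Q)

instance inn_normal (G : Type*) [Group G] : (Inn G).Normal := by
  refine ⟨?_⟩
  rintro _ ⟨k, rfl⟩ φ
  exact ⟨φ k, MulEquiv.ext fun x => by simp [MulAut.conj_apply]⟩

theorem semiFun_comp (g k : GL ι F) (σ τ : RingAut F) (x : V) :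
    semiFun g σ (semiFun k τ x) = semiFun (g * gmap σ k) (σ * τ : RingAut F) x := by
  show (g : Mn) *ᵥ (σ ∘ ((k : Mn) *ᵥ (τ ∘ x))) = ((g : Mn) * (k : Mn).map σ) *ᵥ (σ ∘ τ ∘ x)
  rw [← Matrix.mulVec_mulVec, map_comp_mulVec]

theorem isPair_mul {g k : GL ι F} {σ τ : RingAut F} (h : IsSemisimilarityPair (⇑Q) g σ)
    (h' : IsSemisimilarityPair (⇑Q) k τ) :
    IsSemisimilarityPair (⇑Q) (g * gmap σ k) (σ * τ : RingAut F) := by
  obtain ⟨c, hc⟩ := h
  obtain ⟨d, hd⟩ := h'
  refine ⟨c * Units.map (σ : F ≃+* F).toMonoidHom d, fun v => ?_⟩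
  have e := semiFun_comp g k σ τ v
  show Q (semiFun (g * gmap σ k) (σ * τ : RingAut F) v) = _
  rw [← e]
  refine (hc _).trans ?_
  show (c : F) * σ (Q (semiFun k τ v)) = _
  rw [show Q (semiFun k τ v) = (d : F) * τ (Q v) from hd v, map_mul, Units.val_mul, mul_assoc]
  rfl

theorem omSemi_mul {g k : GL ι F} {σ τ : RingAut F} (h : IsSemisimilarityPair (⇑Q) g σ)
    (h' : IsSemisimilarityPair (⇑Q) k τ) (s : Om) :
    omSemi h (omSemi h' s) = omSemi (isPair_mul h h') s := by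
  refine omVal_ext (Matrix.ext_iff_mulVec.2 fun x => ?_)
  obtain ⟨y, rfl⟩ := semiFun_surjective (g * gmap σ k) (σ * τ : RingAut F) x
  rw [omSemi_coe (isPair_mul h h'), semiFun_mulVec, ← semiFun_comp, omSemi_coe, semiFun_mulVec,
    omSemi_coe, semiFun_mulVec, semiFun_comp]

theorem poSemi_mul {g k : GL ι F} {σ τ : RingAut F} (h : IsSemisimilarityPair (⇑Q) g σ)
    (h' : IsSemisimilarityPair (⇑Q) k τ) :
    (poSemi h * poSemi h' : MulAut PQ) = poSemi (isPair_mul h h') := by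
  refine MulEquiv.ext fun x => ?_
  obtain ⟨s, rfl⟩ := omPi_surjective x
  rw [MulAut.mul_apply, poSemi_pi, poSemi_pi, poSemi_pi, omSemi_mul]

theorem poSemi_congr {g k : GL ι F} {σ τ : F ≃+* F} (h : IsSemisimilarityPair (⇑Q) g σ)
    (h' : IsSemisimilarityPair (⇑Q) k τ) (e : g = k) (e' : σ = τ) :
    (poSemi h : MulAut PQ) = poSemi h' := by subst e e'; rfl

theorem isPair_one : IsSemisimilarityPair (⇑Q) (1 : GL ι F) (1 : RingAut F) :=
  ⟨1, fun v => by simp [show ∀ x : F, (1 : RingAut F) x = x from fun x => rfl]⟩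

theorem poSemi_scalar {g : GL ι F} (h : IsSemisimilarityPair (⇑Q) g (RingEquiv.refl F)) {c : F}
    (hg : (g : Mn) = c • 1) : (poSemi h : MulAut PQ) = 1 := by
  refine MulEquiv.ext fun x => ?_
  obtain ⟨s, rfl⟩ := omPi_surjective x
  rw [poSemi_pi]
  refine congrArg π (omVal_ext ?_)
  rw [omSemi_coe, show (omVal s).map (RingEquiv.refl F) = omVal s from Matrix.map_id _, Matrix.mul_assoc, hg,
    Matrix.smul_mul, Matrix.one_mul, ← Matrix.mul_smul, ← Matrix.one_mul (((g⁻¹ : GL ι F) : Mn)),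
    ← Matrix.smul_mul, ← hg, Units.mul_inv, Matrix.mul_one]

theorem poSemi_one : (poSemi (isPair_one (Q := Q)) : MulAut PQ) = 1 := by
  exact poSemi_scalar (isPair_one (Q := Q)) (c := 1) (by simp)

/-- A similarity as a pair. -/
theorem isPair_refl {g : GL ι F} (hg : g ∈ Geo.quadSimilarityGroup (F := F) ⇑Q) :
    IsSemisimilarityPair (⇑Q) g (RingEquiv.refl F) := hg

/-- Conjugation by similarities. -/
noncomputable def goHom (Q : QuadraticForm F (ι → F)) :
    Geo.quadSimilarityGroup (F := F) ⇑Q →* MulAut (POmega F ⇑Q) where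
  toFun g := poSemi (isPair_refl g.2)
  map_one' := poSemi_scalar _ (c := 1) (by simp)
  map_mul' g k := by
    rw [poSemi_mul (isPair_refl g.2) (isPair_refl k.2)]
    exact poSemi_congr _ _ (by rw [Subgroup.coe_mul]; congr 1) rfl

theorem goHom_apply (g : Geo.quadSimilarityGroup (F := F) ⇑Q) : goHom Q g = poSemi (isPair_refl g.2) := rfl

theorem pgoAut_eq : pgoAut F ⇑Q = (goHom Q).range := by
  refine le_antisymm ((Subgroup.closure_le _).2 ?_) ?_
  · rintro β ⟨g, hg, hβ⟩
    exact ⟨⟨g, hg⟩, ((induced_iff (isPair_refl hg)).1 hβ).symm⟩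
  · rintro _ ⟨g, rfl⟩
    exact Subgroup.subset_closure ⟨g, g.2, poSemi_induced _⟩

theorem isometry_mem_go (g : OG) : (g : GL ι F) ∈ Geo.quadSimilarityGroup (F := F) ⇑Q :=
  ⟨1, fun v => by rw [mem_isometryGroup.1 g.2, Units.val_one, one_mul]⟩

theorem conj_eq_goHom (s : Om) :
    MulAut.conj (π s) = goHom Q ⟨_, isometry_mem_go (s : OG)⟩ := by
  refine MulEquiv.ext fun x => ?_
  obtain ⟨t, rfl⟩ := omPi_surjective x
  rw [MulAut.conj_apply, goHom_apply, poSemi_pi, ← map_inv, ← map_mul, ← map_mul]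
  refine congrArg π (omVal_ext ?_)
  rw [omSemi_coe, show (omVal t).map (RingEquiv.refl F) = omVal t from Matrix.map_id _]
  rfl

theorem inn_le_pgoAut : Inn PQ ≤ pgoAut F ⇑Q := by
  rintro _ ⟨x, rfl⟩
  obtain ⟨s, rfl⟩ := omPi_surjective x
  exact pgoAut_eq (Q := Q) ▸ ⟨_, (conj_eq_goHom s).symm⟩

variable (Q) in
/-- `Q` commutes with the field automorphisms. -/
def Rat : Prop := ∀ (σ : F ≃+* F) (v : V), Q (σ ∘ v) = σ (Q v)

theorem isPair_std (hR : Rat Q) (σ : F ≃+* F) : IsSemisimilarityPair (⇑Q) (1 : GL ι F) σ :=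
  ⟨1, fun v => by rw [Units.val_one, Matrix.one_mulVec, Units.val_one, one_mul]; exact hR σ v⟩

theorem stdField_iff (hR : Rat Q) {σ : F ≃+* F} {β : MulAut PQ} :
    IsFieldAutPOmegaOf (⇑Q) σ β ↔ β = poSemi (isPair_std hR σ) := by
  rw [← induced_iff (isPair_std hR σ)]
  simp only [IsFieldAutPOmegaOf, IsInducedBySemilinearPOmega, inv_one, Units.val_one, Matrix.one_mul,
    Matrix.mul_one]

/-- The standard field automorphisms. -/
noncomputable def fieldHom (hR : Rat Q) : RingAut F →* MulAut (POmega F ⇑Q) where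
  toFun σ := poSemi (isPair_std hR σ)
  map_one' := poSemi_scalar (isPair_std hR _) (c := 1) (by simp)
  map_mul' σ τ := by
    rw [poSemi_mul (isPair_std hR σ) (isPair_std hR τ)]
    exact poSemi_congr _ _ (by rw [map_one, mul_one]) rfl

variable [Fintype F]

section Unique

variable (hQ : (QuadraticMap.polarBilin Q).Nondegenerate) (hT : Tri Q) (hG : Good Q)
include hQ hT hG

/-- Semisimilarities acting trivially are scalar. -/
theorem poSemi_eq_one {g : GL ι F} {σ : F ≃+* F} (h : IsSemisimilarityPair (⇑Q) g σ)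
    (h1 : (poSemi h : MulAut PQ) = 1) : σ = RingEquiv.refl F ∧ ∃ c : F, (g : Mn) = c • 1 := by
  obtain ⟨p, hp⟩ := CharP.exists F
  haveI : Fact p.Prime := ⟨CharP.char_is_prime F p⟩
  obtain ⟨κ, hG'⟩ := semi_of_pair h
  have hfix : ∀ a, a ≠ 0 → Q a = 0 → ∃ c : F, semiFun g σ a = c • a := by
    intro a ha haa
    have hone : Img p (poSemi h) a a := fun M N hMN => by
      obtain ⟨s, t, hs, ht, hM, hN, e⟩ := hMN
      rw [h1] at e
      have hr : Rel p (1 : MulAut PQ) M N := ⟨s, t, hs, ht, hM, hN, e⟩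
      rw [hr.unique p hQ hT ⟨s, s, hs, hs, hM, hM, rfl⟩]
    obtain ⟨c, -, hc⟩ := img_unique p hQ hT ha haa hone (img_semi p hQ hT hG h hG' (fun x => rfl) ha haa)
    exact ⟨c, hc⟩
  obtain ⟨e, f, P⟩ := exists_basePair hQ hT
  obtain ⟨u, u', Pu, hu, hu'⟩ := exists_frame hQ hT P
  obtain ⟨l, hl⟩ := hfix e P.ne P.1
  obtain ⟨m, hm⟩ := hfix u Pu.ne Pu.1
  have hTS := TS.of_perp P Pu.1 hu Pu.ne
  have hinj : ∀ x, semiFun g σ x = 0 → x = 0 := fun x hx => eq_zero_of_polar hQ fun z =>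
    σ.injective (mul_left_cancel₀ hG'.ne (by
      rw [← hG'.polar, hx, QuadraticMap.polar_zero_left, map_zero, mul_zero]))
  have hl0 : l ≠ 0 := fun h0 => P.ne (hinj e (by rw [hl, h0, zero_smul]))
  have key : ∀ c : F, σ c * m = c * l := fun c => by
    have hne : e + c • u ≠ 0 := fun h0 => one_ne_zero (hTS.2.2.2 1 c (by rwa [one_smul])).1
    obtain ⟨d, hd⟩ := hfix _ hne (by
      rw [quad_add_smul, P.1, Pu.1, hTS.2.2.1]; ring)
    rw [hG'.map_add, hG'.map_smul, hl, hm] at hd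
    obtain ⟨e1, e2⟩ := hTS.2.2.2 (l - d) (σ c * m - d * c) (by linear_combination (norm := module) hd)
    linear_combination e2 - c * e1
  have hlm : m = l := by simpa using key 1
  have hσ : σ = RingEquiv.refl F := RingEquiv.ext fun c => mul_right_cancel₀ hl0 (by
    have := key c; rw [hlm] at this; exact this)
  subst hσ
  refine ⟨rfl, scalar_of_fix_singular hQ hT fun a haa => ?_⟩
  by_cases ha : a = 0
  · exact ⟨0, by simp [ha]⟩
  obtain ⟨c, hc⟩ := hfix a ha haa
  exact ⟨c, hc⟩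

theorem conj_injective : Function.Injective (MulAut.conj : PQ →* MulAut PQ) := by
  obtain ⟨p, hp⟩ := CharP.exists F
  haveI : Fact p.Prime := ⟨CharP.char_is_prime F p⟩
  refine (injective_iff_map_eq_one _).2 fun x hx => ?_
  obtain ⟨s, rfl⟩ := omPi_surjective (Q := Q) x
  rw [conj_eq_goHom, goHom_apply] at hx
  obtain ⟨-, c, hc⟩ := poSemi_eq_one hQ hT hG _ hx
  exact (omPi_eq_one_iff hQ hT (p := p)).2 ⟨c, hc⟩

theorem natCard_Inn : Nat.card (Inn PQ) = Nat.card PQ :=
  (Nat.card_congr (MonoidHom.ofInjective (conj_injective hQ hT hG)).toEquiv).symm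

end Unique

end Cfsg.Agent.Classical.OrthAut
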