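import Cfsg.Agent.Lib.Classical.OrthOddField
import Cfsg.Agent.Lib.Classical.OrthSingular
import Cfsg.Agent.Lib.Classical.OrthModels

/-!
The elliptic form: behaviour over a quadratic extension, the inner-diagonal criterion, and the
existence of similitudes and semisimilarities of every multiplier and field automorphism.
-/

set_option autoImplicit false
set_option linter.unusedSectionVars false
set_option quotPrecheck false

namespace Cfsg.Agent.Classical.OrthAut

open Matrix Module Cfsg.Agent.Classical.Descent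

universe u

section Rat

variable {F₀ F : Type*} [Field F₀] [Field F] {ι : Type} [Fintype ι] [DecidableEq ι]
  {Q : QuadraticForm F (ι → F)} {P : QuadraticForm F₀ (ι → F₀)} (j : F₀ →+* F)

theorem nondegenerate_rat (hP : ∀ u, Q (j ∘ u) = j (P u)) (h : (QuadraticMap.polarBilin P).Nondegenerate) :
    (QuadraticMap.polarBilin Q).Nondegenerate := by
  refine (LinearMap.BilinForm.nondegenerate_iff_det_ne_zero (Pi.basisFun F ι)).2 ?_
  have h1 := (LinearMap.BilinForm.nondegenerate_iff_det_ne_zero (Pi.basisFun F₀ ι)).1 h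
  have he : LinearMap.BilinForm.toMatrix (Pi.basisFun F ι) (QuadraticMap.polarBilin Q) =
      (LinearMap.BilinForm.toMatrix (Pi.basisFun F₀ ι) (QuadraticMap.polarBilin P)).map j := by
    ext i l
    rw [Matrix.map_apply, LinearMap.BilinForm.toMatrix_apply, LinearMap.BilinForm.toMatrix_apply]
    simp only [Pi.basisFun_apply, QuadraticMap.polarBilin_apply_apply]
    rw [single_rat j, single_rat j, polar_rat j hP]
  rw [he, ← RingHom.mapMatrix_apply, ← RingHom.map_det]
  exact (map_ne_zero j).2 h1

theorem dick_mapOG (hP : ∀ u, Q (j ∘ u) = j (P u)) (hPn : (QuadraticMap.polarBilin P).Nondegenerate)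
    (hPT : Tri P) (hQ : (QuadraticMap.polarBilin Q).Nondegenerate) (hT : Tri Q) (g : isometryGroup F₀ ⇑P) :
    dick (mapOG j hP g) = dick g := by
  have hg : g ∈ reflGroup P := by rw [reflGroup_eq_top hPn hPT]; trivial
  refine Subgroup.closure_induction (p := fun g _ => dick (mapOG j hP g) = dick g) ?_ ?_ ?_ ?_ hg
  · rintro _ ⟨v, hv, rfl⟩
    rw [mapOG_refl, dick_refl hQ, dick_refl hPn]
  · rw [map_one, dick_one, dick_one]
  · intro x y _ _ hx hy
    rw [map_mul, dick_mul hQ hT, dick_mul hPn hPT, hx, hy]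
  · intro x _ hx
    rw [map_inv, show dick (mapOG j hP x)⁻¹ = dick (mapOG j hP x) from
        ((dickHom hQ hT).map_inv _).trans (Int.units_inv_eq_self _),
      show dick x⁻¹ = dick x from ((dickHom hPn hPT).map_inv x).trans (Int.units_inv_eq_self _), hx]

end Rat

section Iso

variable {F : Type*} [Field F] {ι : Type} [Fintype ι] [DecidableEq ι]

theorem exists_gl_of_linearEquiv (e : (ι → F) ≃ₗ[F] (ι → F)) :
    ∃ g : GL ι F, ∀ v, (g : Matrix ι ι F) *ᵥ v = e v := by
  refine ⟨Matrix.GeneralLinearGroup.mkOfDetNeZero (LinearMap.toMatrix' e.toLinearMap) ?_, fun v => ?_⟩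
  · rw [LinearMap.det_toMatrix']; exact e.isUnit_det'.ne_zero
  · exact LinearMap.toMatrix'_mulVec _ v

end Iso

variable {F : Type u} [Field F] [Fintype F] {m : ℕ} {a b : F}

local notation "ιm" => ((Fin m ⊕ Fin m) ⊕ Fin 2)
local notation "Mn" => Matrix ιm ιm F
local notation "Qm" => qfMinus m F a b

variable (F a b) in
/-- The binary part has no non-trivial zero. -/
def Aniso : Prop := ∀ z₁ z₂ : F, z₁ ^ 2 + a * z₁ * z₂ + b * z₂ ^ 2 = 0 → z₁ = 0 ∧ z₂ = 0

theorem card_iota : Fintype.card ιm = 2 * (m + 1) := by simp; omega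

theorem no_root (hab : Aniso F a b) (t : F) : t ^ 2 + a * t + b ≠ 0 := fun h =>
  one_ne_zero (hab t 1 (by linear_combination h)).2

/-- The quadratic extension in which the binary part splits. -/
theorem exists_root (hab : Aniso F a b) (K : Type u) [Field K] [Algebra F K] (hK : finrank F K = 2) :
    ∃ t : K, t ^ 2 + algebraMap F K a * t + algebraMap F K b = 0 := by
  haveI : Module.Finite F K := Module.finite_of_finrank_eq_succ hK
  haveI : Finite K := Module.finite_of_finite F
  set f : Polynomial F := Polynomial.X ^ 2 + Polynomial.C a * Polynomial.X + Polynomial.C b with hf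
  have hdeg : f.natDegree = 2 := by rw [hf]; compute_degree!
  have hmon : f.Monic := by rw [hf]; monicity!
  have hirr : Irreducible f := by
    rw [hmon.irreducible_iff_roots_eq_zero_of_degree_le_three (by rw [hdeg]) (by rw [hdeg]; norm_num)]
    refine Multiset.eq_zero_of_forall_notMem fun t ht => ?_
    rw [Polynomial.mem_roots hmon.ne_zero, Polynomial.IsRoot] at ht
    exact no_root hab t (by simpa [hf] using ht)
  haveI : Fact (Irreducible f) := ⟨hirr⟩
  have hfin : finrank F (AdjoinRoot f) = 2 := by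
    rw [(AdjoinRoot.powerBasis hmon.ne_zero).finrank, AdjoinRoot.powerBasis_dim, hdeg]
  haveI : Module.Finite F (AdjoinRoot f) := Module.finite_of_finrank_eq_succ hfin
  haveI : Finite (AdjoinRoot f) := Module.finite_of_finite F
  obtain ⟨φ⟩ := FiniteField.nonempty_algHom_of_finrank_dvd (F := F) (K := AdjoinRoot f) (L := K)
    (by rw [hfin, hK])
  refine ⟨φ (AdjoinRoot.root f), ?_⟩
  have h := congrArg φ (AdjoinRoot.aeval_eq (f := f) f)
  rw [AdjoinRoot.mk_self, map_zero, ← Polynomial.aeval_algHom_apply] at h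
  simpa [hf] using h

/-- A quadratic extension exists. -/
theorem exists_quadExt (hab : Aniso F a b) :
    ∃ (K : Type u) (_ : Field K) (_ : Algebra F K), finrank F K = 2 := by
  set f : Polynomial F := Polynomial.X ^ 2 + Polynomial.C a * Polynomial.X + Polynomial.C b with hf
  have hdeg : f.natDegree = 2 := by rw [hf]; compute_degree!
  have hmon : f.Monic := by rw [hf]; monicity!
  have hirr : Irreducible f := by
    rw [hmon.irreducible_iff_roots_eq_zero_of_degree_le_three (by rw [hdeg]) (by rw [hdeg]; norm_num)]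
    refine Multiset.eq_zero_of_forall_notMem fun t ht => ?_
    rw [Polynomial.mem_roots hmon.ne_zero, Polynomial.IsRoot] at ht
    exact no_root hab t (by simpa [hf] using ht)
  haveI : Fact (Irreducible f) := ⟨hirr⟩
  exact ⟨AdjoinRoot f, inferInstance, inferInstance,
    by rw [(AdjoinRoot.powerBasis hmon.ne_zero).finrank, AdjoinRoot.powerBasis_dim, hdeg]⟩

theorem exists_sqrt_ext (K : Type u) [Field K] [Algebra F K] (hK : finrank F K = 2) {c : F} (hc : c ≠ 0) :
    ∃ s : K, s ≠ 0 ∧ s * s = algebraMap F K c := by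
  haveI : Module.Finite F K := Module.finite_of_finrank_eq_succ hK
  haveI : Finite K := Module.finite_of_finite F
  letI : Fintype K := Fintype.ofFinite K
  have hc' : algebraMap F K c ≠ 0 := (map_ne_zero _).2 hc
  suffices h : IsSquare (algebraMap F K c) by
    obtain ⟨s, hs⟩ := h
    exact ⟨s, fun h0 => hc' (by rw [hs, h0, mul_zero]), hs.symm⟩
  by_cases h2 : ringChar K = 2
  · exact FiniteField.isSquare_of_char_two h2 _
  rw [FiniteField.isSquare_iff h2 hc', Module.card_eq_pow_finrank (K := F) (V := K), hK, ← map_pow]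
  have hodd : Fintype.card F % 2 = 1 := FiniteField.odd_card_of_char_ne_two fun h => h2 (by
    haveI := ringChar.of_eq h
    haveI : CharP K 2 := charP_of_injective_algebraMap (algebraMap F K).injective 2
    exact ringChar.eq K 2)
  obtain ⟨k, hk⟩ : ∃ k, Fintype.card F = 2 * k + 1 := ⟨Fintype.card F / 2, by omega⟩
  rw [show Fintype.card F ^ 2 / 2 = (Fintype.card F - 1) * (k + 1) by
    rw [hk, Nat.add_sub_cancel, show (2 * k + 1) ^ 2 = 2 * (2 * k * (k + 1)) + 1 by ring]; omega,
    pow_mul, FiniteField.pow_card_sub_one_eq_one c hc, one_pow, map_one]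

theorem qfMinus_rat (K : Type u) [Field K] (j : F →+* K) (v : ιm → F) :
    qfMinus m K (j a) (j b) (j ∘ v) = j (Qm v) := by
  simp [qfMinus_apply, quadFormMinus, map_sum]

theorem exists_half_ext (hab : Aniso F a b) (K : Type u) [Field K] [Algebra F K] (hK : finrank F K = 2) :
    ∃ U : Submodule K (ιm → K), Half (qfMinus m K (algebraMap F K a) (algebraMap F K b)) U := by
  obtain ⟨t, ht⟩ := exists_root hab K hK
  let L : (Fin m → K) × K →ₗ[K] (ιm → K) :=
    { toFun := fun x => Sum.elim (Sum.elim x.1 0) ![x.2 * t, x.2]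
      map_add' := fun x y => by
        funext i; rcases i with (i | i) | i <;> [simp; simp; (fin_cases i <;> simp [add_mul])]
      map_smul' := fun c x => by
        funext i; rcases i with (i | i) | i <;> [simp; simp; (fin_cases i <;> simp [mul_assoc])] }
  refine ⟨LinearMap.range L, ?_, ?_⟩
  · rintro _ ⟨x, rfl⟩
    simp [qfMinus_apply, quadFormMinus, L]
    linear_combination x.2 ^ 2 * ht
  · rw [LinearMap.finrank_range_of_inj, Module.finrank_prod, Module.finrank_fin_fun, Module.finrank_self,
      card_iota]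
    intro x y h
    refine Prod.ext (funext fun i => congrFun h (Sum.inl (Sum.inl i))) ?_
    simpa [L] using congrFun h (Sum.inr 1)

section Pres

variable (hm : 3 ≤ m) (hab : Aniso F a b)
include hm hab

/-- Preserving the classes over a quadratic extension. -/
theorem pres_ext_iff (K : Type u) [Field K] [Algebra F K] (hK : finrank F K = 2) {g : GL ιm F}
    {c : F} (hc : c ≠ 0) (hg : ∀ v, Qm ((g : Mn) *ᵥ v) = c * Qm v) {s : K} (hs : s ≠ 0)
    (hss : s * s = algebraMap F K c) :
    ∃ h : isometryGroup K ⇑(qfMinus m K (algebraMap F K a) (algebraMap F K b)),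
      (g : Mn).map (algebraMap F K) = s • ogVal h ∧
      (PreservesSingularClasses (quadFormMinus m K (algebraMap F K a) (algebraMap F K b))
        ((g : Mn).map (algebraMap F K)) ↔ dick h = 1) := by
  set j := algebraMap F K
  set QK := qfMinus m K (j a) (j b)
  have hnd : (QuadraticMap.polarBilin QK).Nondegenerate :=
    nondegenerate_rat j (qfMinus_rat K j) (nondegenerate_qfMinus m hab)
  have hT : Tri QK := tri_qfMinus hm _ _
  obtain ⟨U₀, hU₀⟩ := exists_half_ext hab K hK
  set gK : GL ιm K := Matrix.GeneralLinearGroup.map j g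
  have hgK : ∀ v, QK ((gK : Matrix ιm ιm K) *ᵥ v) = j c * QK v := fun v => by
    have h : QK.comp (Matrix.mulVecLin (gK : Matrix ιm ιm K)) = j c • QK := quad_ext_rat j fun u => by
      rw [QuadraticMap.comp_apply, Matrix.mulVecLin_apply, _root_.QuadraticMap.smul_apply, smul_eq_mul,
        show (gK : Matrix ιm ιm K) = (g : Mn).map j from rfl, mulVec_rat, qfMinus_rat, hg, qfMinus_rat,
        map_mul]
    exact congrArg (fun q : QuadraticForm K (ιm → K) => q v) h
  have hd : (s⁻¹ • (gK : Matrix ιm ιm K)).det ≠ 0 := by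
    rw [Matrix.det_smul]; exact mul_ne_zero (pow_ne_zero _ (inv_ne_zero hs)) gK.det_ne_zero
  let h : isometryGroup K ⇑QK := mkIsometry (s⁻¹ • (gK : Matrix ιm ιm K)) hd fun v => by
    rw [Matrix.smul_mulVec, QuadraticMap.map_smul, hgK, smul_eq_mul, ← hss]
    field_simp
  have hval : (g : Mn).map j = s • ogVal h := by
    show (gK : Matrix ιm ιm K) = s • (s⁻¹ • (gK : Matrix ιm ιm K))
    rw [smul_smul, mul_inv_cancel₀ hs, one_smul]
  refine ⟨h, hval, ?_⟩
  rw [← coe_qfMinus, show (g : Mn).map j = (gK : Matrix ιm ιm K) from rfl,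
    preserves_iff hnd hT hU₀ ((map_ne_zero j).2 hc) hgK, pSign_scalar_mul hnd hT hU₀ hs (M := (gK : Matrix ιm ιm K)) hval]

/-- Odd characteristic: the determinant decides. -/
theorem presMinus_iff_det (h2 : (2 : F) ≠ 0) {g : GL ιm F} {c : F} (hc : c ≠ 0)
    (hg : ∀ v, Qm ((g : Mn) *ᵥ v) = c * Qm v) :
    PreservesSingularClassesMinus m a b (g : Mn) ↔ (g : Mn).det = c ^ (m + 1) := by
  have key : ∀ (K : Type u) [Field K] [Algebra F K], finrank F K = 2 →
      (PreservesSingularClasses (quadFormMinus m K (algebraMap F K a) (algebraMap F K b))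
        ((g : Mn).map (algebraMap F K)) ↔ (g : Mn).det = c ^ (m + 1)) := by
    intro K _ _ hK
    obtain ⟨s, hs, hss⟩ := exists_sqrt_ext K hK hc
    obtain ⟨h, hval, hiff⟩ := pres_ext_iff hm hab K hK hc hg hs hss
    rw [hiff]
    have hdet := congrArg Matrix.det hval
    rw [← RingHom.mapMatrix_apply, ← RingHom.map_det, Matrix.det_smul,
      det_eq_dick (nondegenerate_rat _ (qfMinus_rat K _) (nondegenerate_qfMinus m hab)) (tri_qfMinus hm _ _),
      card_iota, pow_mul, sq, hss, ← map_pow] at hdet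
    rcases Int.units_eq_one_or (dick h) with e | e <;> rw [e] at hdet ⊢
    · simp only [Units.val_one, Int.cast_one, mul_one] at hdet
      simp [(algebraMap F K).injective hdet]
    · simp only [Units.val_neg, Units.val_one, Int.cast_neg, Int.cast_one, mul_neg, mul_one,
        ← map_neg] at hdet
      rw [(algebraMap F K).injective hdet]
      refine iff_of_false (by decide) fun h0 => ?_
      have h3 : (2 : F) * c ^ (m + 1) = 0 := by linear_combination -h0
      exact (mul_ne_zero h2 (pow_ne_zero _ hc)) h3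
  constructor
  · rintro ⟨K, _, _, hK, hp⟩
    exact (key K hK).1 hp
  · intro h
    obtain ⟨K, _, _, hK⟩ := exists_quadExt hab
    exact ⟨K, _, _, hK, (key K hK).2 h⟩

/-- Characteristic two: the Dickson invariant decides. -/
theorem presMinus_iff_dick {g : GL ιm F} {c s : F} (hc : c ≠ 0) (hs : s * s = c)
    (hg : ∀ v, Qm ((g : Mn) *ᵥ v) = c * Qm v) {h : isometryGroup F ⇑Qm} (hgh : (g : Mn) = s • ogVal h) :
    PreservesSingularClassesMinus m a b (g : Mn) ↔ dick h = 1 := by
  have hs0 : s ≠ 0 := fun h0 => hc (by rw [← hs, h0, mul_zero])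
  have key : ∀ (K : Type u) [Field K] [Algebra F K], finrank F K = 2 →
      (PreservesSingularClasses (quadFormMinus m K (algebraMap F K a) (algebraMap F K b))
        ((g : Mn).map (algebraMap F K)) ↔ dick h = 1) := by
    intro K _ _ hK
    set j := algebraMap F K
    obtain ⟨hK', hval, hiff⟩ := pres_ext_iff hm hab K hK hc hg (s := j s) ((map_ne_zero j).2 hs0)
      (by rw [← map_mul, hs])
    have he : hK' = mapOG j (qfMinus_rat K j) h := ogVal_ext (by
      refine smul_right_injective (Matrix ιm ιm K) ((map_ne_zero j).2 hs0) ?_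
      show j s • ogVal hK' = j s • ogVal (mapOG j _ h)
      rw [← hval, mapOG_val, hgh]
      ext x y
      simp [j])
    rw [hiff, he, dick_mapOG j (qfMinus_rat K j) (nondegenerate_qfMinus m hab) (tri_qfMinus hm _ _)
      (nondegenerate_rat _ (qfMinus_rat K _) (nondegenerate_qfMinus m hab)) (tri_qfMinus hm _ _)]
  constructor
  · rintro ⟨K, _, _, hK, hp⟩
    exact (key K hK).1 hp
  · intro h'
    obtain ⟨K, _, _, hK⟩ := exists_quadExt hab
    exact ⟨K, _, _, hK, (key K hK).2 h'⟩

end Pres

/-! ### Uniqueness of the elliptic form -/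

theorem exists_plane_shift {ζ ζ' : F} (hζ : ∀ t : F, t ^ 2 + t + ζ ≠ 0) (hζ' : ∀ t : F, t ^ 2 + t + ζ' ≠ 0) :
    ∃ s : F, (4 * ζ' - 1) * (s ^ 2 - s) + (ζ' - ζ) = 0 := by
  classical
  by_cases h2 : (2 : F) = 0
  · haveI : CharP F 2 := CharTwo.of_one_ne_zero_of_two_eq_zero one_ne_zero h2
    let φ : F →+ F := AddMonoidHom.mk' (fun t => t ^ 2 + t) fun x y => by
      show (x + y) ^ 2 + (x + y) = x ^ 2 + x + (y ^ 2 + y)
      linear_combination x * y * h2
    have hker : Nat.card φ.ker = 2 := by
      rw [Nat.card_eq_two_iff]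
      refine ⟨⟨0, map_zero φ⟩, ⟨1, show (1 : F) ^ 2 + 1 = 0 by linear_combination h2⟩, fun h => ?_,
        Set.eq_univ_iff_forall.2 fun x => ?_⟩
      · exact zero_ne_one (congrArg Subtype.val h)
      · have hx : (x : F) ^ 2 + (x : F) = 0 := x.2
        have h1 : (x : F) * ((x : F) + 1) = 0 := by linear_combination hx
        rcases mul_eq_zero.1 h1 with h | h
        · exact Or.inl (Subtype.ext h)
        · exact Or.inr (Subtype.ext (show (x : F) = 1 by linear_combination h - h2))
    have hidx : φ.range.index = 2 := by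
      have h3 := φ.ker.index_mul_card
      have h4 := φ.range.index_mul_card
      rw [AddSubgroup.index_ker, hker] at h3
      have hpos : 0 < Nat.card φ.range := Nat.card_pos
      nlinarith
    have hn : ∀ z : F, (∀ t : F, t ^ 2 + t + z ≠ 0) → z ∉ φ.range := by
      rintro z hz ⟨t, ht⟩
      have ht' : t ^ 2 + t = z := ht
      exact hz t (by linear_combination ht' + z * h2)
    obtain ⟨s, hs⟩ := (AddSubgroup.add_mem_iff_of_index_two hidx).2 (iff_of_false (hn ζ hζ) (hn ζ' hζ'))
    have hs' : s ^ 2 + s = ζ + ζ' := hs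
    exact ⟨s, by linear_combination hs' + (2 * ζ' * (s ^ 2 - s) - s ^ 2 + ζ') * h2⟩
  · have hne : ∀ z : F, (∀ t : F, t ^ 2 + t + z ≠ 0) → ¬ IsSquare (1 - 4 * z) := by
      rintro z hz ⟨r, hr⟩
      refine hz ((r - 1) / 2) ?_
      field_simp
      linear_combination -hr
    obtain ⟨u, hu⟩ := isSquare_of_two_nonsquares (F := F) h2 (a := 1 - 4 * ζ) (b := (1 - 4 * ζ')⁻¹)
      (hne ζ hζ) (fun h => hne ζ' hζ' (by simpa using h.inv))
    have h4 : (1 - 4 * ζ') ≠ 0 := fun h0 => hne ζ' hζ' (h0 ▸ IsSquare.zero)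
    have hu' : u * u * (1 - 4 * ζ') = 1 - 4 * ζ := by rw [← hu]; field_simp
    refine ⟨(1 + u) / 2, ?_⟩
    field_simp
    linear_combination -hu'

/-- Any non-degenerate form of this dimension without a large singular subspace is the elliptic model
with some parameter. -/
theorem exists_std_minus (Q' : QuadraticForm F (ιm → F)) (hn : (QuadraticMap.polarBilin Q').Nondegenerate)
    (hnh : ¬ ∃ U, Half Q' U) :
    ∃ ζ : F, (∀ t : F, t ^ 2 + t + ζ ≠ 0) ∧
      ∃ e : (ιm → F) ≃ₗ[F] (ιm → F), ∀ v, Q' (e v) = qfMinus m F 1 ζ v := by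
  have hV : finrank F (ιm → F) = 2 * (m + 1) := by rw [Module.finrank_pi, card_iota]
  rcases exists_even_basis hV Q' hn with ⟨bb, hq, -, hEE⟩ | ⟨-, bb, ζ, hζ, hq, hEF, hEE, hER, h0, h01, h1⟩
  · exfalso
    let L : (Fin (m + 1) → F) →ₗ[F] (ιm → F) := Fintype.linearCombination F (fun i => bb (Sum.inl i))
    refine hnh ⟨LinearMap.range L, ?_, ?_⟩
    · rintro _ ⟨x, rfl⟩
      simp only [L, Fintype.linearCombination_apply]
      suffices h : ∀ S : Finset (Fin (m + 1)), Q' (∑ i ∈ S, x i • bb (Sum.inl i)) = 0 from h _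
      intro S
      induction S using Finset.induction_on with
      | empty => simp
      | insert i S hi ih =>
        rw [Finset.sum_insert hi, quad_add, ih, QuadraticMap.map_smul, (hq i).1,
          ← QuadraticMap.polarBilin_apply_apply, map_sum]
        simp [QuadraticMap.polar_smul_left, QuadraticMap.polar_smul_right, (hEE i _).1]
    · rw [LinearMap.finrank_range_of_inj, Module.finrank_fin_fun, card_iota]
      exact (bb.linearIndependent.comp _ Sum.inl_injective).fintypeLinearCombination_injective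
  · refine ⟨ζ, hζ, ?_⟩
    refine exists_isometry_of_bases (Q := qfMinus m F 1 ζ) (Q' := Q') (Pi.basisFun F ιm) bb (fun i => ?_)
      fun i l => ?_
    · simp only [Pi.basisFun_apply]
      rcases i with (i | i) | i
      · rw [(hq i).1]; simp [qfMinus_apply, quadFormMinus]
      · rw [(hq i).2]; simp [qfMinus_apply, quadFormMinus]
      · fin_cases i
        · simp only [Fin.zero_eta, Fin.isValue]; rw [h0]; simp [qfMinus_apply, quadFormMinus]
        · simp only [Fin.mk_one, Fin.isValue]; rw [h1]; simp [qfMinus_apply, quadFormMinus]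
    · simp only [Pi.basisFun_apply, polar_qfMinus]
      rcases i with (i | i) | i <;> rcases l with (l | l) | l
      · rw [(hEE i l).1]; simp [Pi.single_apply]
      · rw [hEF i l]; simp [Pi.single_apply, eq_comm]
      · rw [(hER i l).1]; simp [Pi.single_apply]
      · rw [QuadraticMap.polar_comm, hEF l i]; simp [Pi.single_apply, eq_comm]
      · rw [(hEE i l).2]; simp [Pi.single_apply]
      · rw [(hER i l).2]; simp [Pi.single_apply]
      · rw [QuadraticMap.polar_comm, (hER l i).1]; simp [Pi.single_apply]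
      · rw [QuadraticMap.polar_comm, (hER l i).2]; simp [Pi.single_apply]
      · fin_cases i <;> fin_cases l <;>
          simp only [Fin.zero_eta, Fin.mk_one, Fin.isValue, h01, QuadraticMap.polar_self, h0, h1,
            QuadraticMap.polar_comm _ (bb (Sum.inr 1)) (bb (Sum.inr 0))] <;>
          simp [Pi.single_apply] <;> ring

theorem shift_plane {ζ ζ' : F} {Q' : QuadraticForm F (ιm → F)}
    (hζ : ∀ t : F, t ^ 2 + t + ζ ≠ 0) (hζ' : ∀ t : F, t ^ 2 + t + ζ' ≠ 0)
    (h : ∃ e : (ιm → F) ≃ₗ[F] (ιm → F), ∀ v, Q' (e v) = qfMinus m F 1 ζ' v) :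
    ∃ e : (ιm → F) ≃ₗ[F] (ιm → F), ∀ v, Q' (e v) = qfMinus m F 1 ζ v := by
  obtain ⟨e, he⟩ := h
  obtain ⟨s, hs⟩ := exists_plane_shift hζ hζ'
  let T : (ιm → F) →ₗ[F] (ιm → F) :=
    { toFun := fun v => Sum.elim (fun i => v (Sum.inl i))
        ![v (Sum.inr 0) + s * v (Sum.inr 1), (1 - 2 * s) * v (Sum.inr 1)]
      map_add' := fun x y => by
        funext i; rcases i with i | i <;> [simp; (fin_cases i <;> simp <;> ring)]
      map_smul' := fun c x => by
        funext i; rcases i with i | i <;> [simp; (fin_cases i <;> simp <;> ring)] }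
  have hne : (1 - 2 * s : F) ≠ 0 := fun h0 => by
    have h3 : 4 * ζ = 1 := by linear_combination (-4) * hs + ((4 * ζ' - 1) * (2 * s - 1)) * (-h0)
    by_cases h2 : (2 : F) = 0
    · exact one_ne_zero (α := F) (by linear_combination h0 + s * h2)
    · exact hζ (-(1 / 2)) (by field_simp; linear_combination h3)
  have hT : Function.Injective T := fun x y h => by
    have h1 : x (Sum.inr 1) = y (Sum.inr 1) := by
      have := congrFun h (Sum.inr 1); simp [T] at this; exact this.resolve_right hne
    funext i; rcases i with i | i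
    · exact congrFun h (Sum.inl i)
    · fin_cases i
      · have := congrFun h (Sum.inr 0); simp [T, h1] at this; exact this
      · exact h1
  refine ⟨(LinearEquiv.ofInjectiveEndo T hT).trans e, fun v => ?_⟩
  rw [LinearEquiv.trans_apply, he]
  simp [qfMinus_apply, quadFormMinus, T, LinearEquiv.coe_ofInjectiveEndo]
  linear_combination v (Sum.inr 1) ^ 2 * hs

/-- All elliptic forms are isometric. -/
theorem minus_unique (Q₁ Q₂ : QuadraticForm F (ιm → F)) (h₁ : (QuadraticMap.polarBilin Q₁).Nondegenerate)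
    (h₂ : (QuadraticMap.polarBilin Q₂).Nondegenerate) (n₁ : ¬ ∃ U, Half Q₁ U) (n₂ : ¬ ∃ U, Half Q₂ U) :
    ∃ g : GL ιm F, ∀ v, Q₂ ((g : Mn) *ᵥ v) = Q₁ v := by
  obtain ⟨ζ, hζ, e₁, he₁⟩ := exists_std_minus Q₁ h₁ n₁
  obtain ⟨ζ', hζ', h⟩ := exists_std_minus Q₂ h₂ n₂
  obtain ⟨e₂, he₂⟩ := shift_plane hζ hζ' h
  obtain ⟨g, hg⟩ := exists_gl_of_linearEquiv (e₁.symm.trans e₂)
  exact ⟨g, fun v => by rw [hg, LinearEquiv.trans_apply, he₂, ← he₁, LinearEquiv.apply_symm_apply]⟩

theorem not_half_qfMinus (hab : Aniso F a b) : ¬ ∃ U, Half Qm U := by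
  rintro ⟨U, hU, hr⟩
  have := singular_finrank_le_minus m hab U hU
  rw [card_iota] at hr
  omega

theorem exists_similitude_minus (hab : Aniso F a b) {c : F} (hc : c ≠ 0) :
    ∃ g : GL ιm F, ∀ v, Qm ((g : Mn) *ᵥ v) = c * Qm v := by
  have hn : (QuadraticMap.polarBilin (c • Qm)).Nondegenerate := by
    refine nondegenerate_of_separatingLeft _ fun u hu => (nondegenerate_qfMinus m hab).1 u fun v => ?_
    have h := hu v
    rw [QuadraticMap.polarBilin_apply_apply, FunLike.coe_smul, QuadraticMap.polar_smul, smul_eq_mul,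
      mul_eq_zero] at h
    exact h.resolve_left hc
  have hnh : ¬ ∃ U, Half (c • Qm) U := by
    rintro ⟨U, hU, hr⟩
    refine not_half_qfMinus hab ⟨U, fun u hu => ?_, hr⟩
    have h := hU u hu
    rw [_root_.QuadraticMap.smul_apply, smul_eq_mul, mul_eq_zero] at h
    exact h.resolve_left hc
  obtain ⟨g, hg⟩ := minus_unique (c • Qm) Qm hn (nondegenerate_qfMinus m hab) hnh (not_half_qfMinus hab)
  exact ⟨g, fun v => by rw [hg, _root_.QuadraticMap.smul_apply, smul_eq_mul]⟩

theorem aniso_map (hab : Aniso F a b) (σ : F ≃+* F) : Aniso F (σ a) (σ b) := fun z₁ z₂ h => by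
  obtain ⟨h1, h2⟩ := hab (σ.symm z₁) (σ.symm z₂) (σ.injective (by simpa using h))
  exact ⟨σ.symm.injective (by simpa using h1), σ.symm.injective (by simpa using h2)⟩

theorem exists_semisimilarity_minus (hab : Aniso F a b) (σ : F ≃+* F) :
    ∃ g : GL ιm F, IsSemisimilarityPair (⇑Qm) g σ := by
  have hab' := aniso_map hab σ
  obtain ⟨g, hg⟩ := minus_unique (qfMinus m F (σ a) (σ b)) Qm (nondegenerate_qfMinus m hab')
    (nondegenerate_qfMinus m hab) (not_half_qfMinus hab') (not_half_qfMinus hab)
  refine ⟨g, 1, fun v => ?_⟩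
  show Qm ((g : Mn) *ᵥ (σ ∘ v)) = _
  rw [hg, Units.val_one, one_mul]
  simp [qfMinus_apply, quadFormMinus, map_sum]

end Cfsg.Agent.Classical.OrthAut
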