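import Mathlib
import Cfsg.Agent.Lib.Classical.OrthCount
import Cfsg.Agent.Lib.Classical.OrthMinus
import Cfsg.Agent.Lib.Transfer.MaxClass

/-!
The orthogonal group of an anisotropic binary form over a finite field is dihedral.
-/

set_option autoImplicit false

namespace Cfsg.Agent.Classical.OrthBinary

open Matrix

universe u

variable {F : Type u} [Field F] [Fintype F]

theorem exists_quad_root {a b : F}
    (hab : ∀ z₁ z₂ : F, z₁ ^ 2 + a * z₁ * z₂ + b * z₂ ^ 2 = 0 → z₁ = 0 ∧ z₂ = 0) :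
    ∃ (K : Type u) (_ : Field K) (_ : Algebra F K) (t : K),
      t * t = algebraMap F K a * t - algebraMap F K b := by
  classical
  set f : Polynomial F := Polynomial.X ^ 2 + Polynomial.C (-a) * Polynomial.X + Polynomial.C b with hf
  have hdeg : f.natDegree = 2 := by rw [hf]; compute_degree!
  have hmon : f.Monic := by rw [hf]; monicity!
  have hirr : Irreducible f := by
    rw [hmon.irreducible_iff_roots_eq_zero_of_degree_le_three (by rw [hdeg]) (by rw [hdeg]; norm_num)]
    refine Multiset.eq_zero_of_forall_notMem fun t ht => ?_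
    rw [Polynomial.mem_roots hmon.ne_zero, Polynomial.IsRoot] at ht
    simp [hf] at ht
    exact one_ne_zero (neg_eq_zero.1 (hab t (-1) (by linear_combination ht)).2)
  haveI : Fact (Irreducible f) := ⟨hirr⟩
  refine ⟨AdjoinRoot f, inferInstance, inferInstance, AdjoinRoot.root f, ?_⟩
  have h : Polynomial.aeval (AdjoinRoot.root f) f = 0 := by
    rw [AdjoinRoot.aeval_eq, AdjoinRoot.mk_self]
  simp [hf] at h
  simp only [AdjoinRoot.algebraMap_eq] at h ⊢
  linear_combination h

/-- the binary form in coordinates -/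
def q2 (a b : F) (z : Fin 2 → F) : F := z 0 ^ 2 + a * z 0 * z 1 + b * z 1 ^ 2

variable [DecidableEq F]

/-- the isometries of `q2` -/
def O2 (a b : F) : Subgroup (GL (Fin 2) F) :=
  Cfsg.isometryGroup F (q2 a b)

theorem mem_O2 {a b : F} {g : GL (Fin 2) F} :
    g ∈ O2 a b ↔ ∀ z, q2 a b ((g : Matrix (Fin 2) (Fin 2) F) *ᵥ z) = q2 a b z :=
  ⟨fun h z => h z z, fun h z _ => h z⟩

/-- the shape of the multiplication by a norm one element -/
def IsRot (a b : F) (g : GL (Fin 2) F) : Prop :=
  (g : Matrix (Fin 2) (Fin 2) F) 0 1 = -b * (g : Matrix (Fin 2) (Fin 2) F) 1 0 ∧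
  (g : Matrix (Fin 2) (Fin 2) F) 1 1 =
    (g : Matrix (Fin 2) (Fin 2) F) 0 0 + a * (g : Matrix (Fin 2) (Fin 2) F) 1 0

set_option maxHeartbeats 1000000 in
theorem nonempty_O2_dihedral {a b : F}
    (hab : ∀ z₁ z₂ : F, z₁ ^ 2 + a * z₁ * z₂ + b * z₂ ^ 2 = 0 → z₁ = 0 ∧ z₂ = 0) :
    Nonempty (O2 a b ≃* DihedralGroup (Fintype.card F + 1)) := by
  have hD := binary_disc_ne_zero hab
  have hb : b ≠ 0 := fun h => one_ne_zero (hab 0 1 (by rw [h]; ring)).2
  have hent : ∀ (g h : O2 a b) i j,
      (((g * h : O2 a b) : GL (Fin 2) F) : Matrix (Fin 2) (Fin 2) F) i j =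
      ((g : GL (Fin 2) F) : Matrix (Fin 2) (Fin 2) F) i 0 * ((h : GL (Fin 2) F) : Matrix (Fin 2) (Fin 2) F) 0 j +
      ((g : GL (Fin 2) F) : Matrix (Fin 2) (Fin 2) F) i 1 * ((h : GL (Fin 2) F) : Matrix (Fin 2) (Fin 2) F) 1 j := by
    intro g h i j
    rw [Subgroup.coe_mul, Matrix.GeneralLinearGroup.coe_mul, Matrix.mul_apply, Fin.sum_univ_two]
  have hcol : ∀ g : O2 a b,
      ((g : GL (Fin 2) F) : Matrix (Fin 2) (Fin 2) F) 0 0 ^ 2 +
      a * ((g : GL (Fin 2) F) : Matrix (Fin 2) (Fin 2) F) 0 0 * ((g : GL (Fin 2) F) : Matrix (Fin 2) (Fin 2) F) 1 0 +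
      b * ((g : GL (Fin 2) F) : Matrix (Fin 2) (Fin 2) F) 1 0 ^ 2 = 1 := by
    intro g
    have := mem_O2.1 g.2 ![1, 0]
    simpa [q2, Matrix.mulVec, dotProduct, Fin.sum_univ_two] using this
  -- rotations
  let R : Subgroup (O2 a b) :=
    { carrier := {g | IsRot a b g}
      one_mem' := ⟨by simp, by simp⟩
      mul_mem' := fun {g h} hg hh => by
        refine ⟨?_, ?_⟩ <;> simp only [hent, hg.1, hg.2, hh.1, hh.2] <;> ring
      inv_mem' := fun {g} hg => by
        have e00 := (hent g g⁻¹ 0 0).symm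
        have e10 := (hent g g⁻¹ 1 0).symm
        have e01 := (hent g g⁻¹ 0 1).symm
        have e11 := (hent g g⁻¹ 1 1).symm
        rw [mul_inv_cancel] at e00 e10 e01 e11
        simp [hg.1, hg.2, -Matrix.coe_units_inv] at e00 e10 e01 e11
        have hN := hcol g
        set x := ((g : GL (Fin 2) F) : Matrix (Fin 2) (Fin 2) F) 0 0
        set y := ((g : GL (Fin 2) F) : Matrix (Fin 2) (Fin 2) F) 1 0
        set p := (((g⁻¹ : O2 a b) : GL (Fin 2) F) : Matrix (Fin 2) (Fin 2) F) 0 0
        set r := (((g⁻¹ : O2 a b) : GL (Fin 2) F) : Matrix (Fin 2) (Fin 2) F) 1 0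
        set s := (((g⁻¹ : O2 a b) : GL (Fin 2) F) : Matrix (Fin 2) (Fin 2) F) 0 1
        set u := (((g⁻¹ : O2 a b) : GL (Fin 2) F) : Matrix (Fin 2) (Fin 2) F) 1 1
        have hp : p = x + a * y := by linear_combination -p * hN + (x + a * y) * e00 + b * y * e10
        have hr : r = -y := by linear_combination -r * hN - y * e00 + x * e10
        have hs : s = b * y := by linear_combination -s * hN + (x + a * y) * e01 + b * y * e11
        have hu : u = x := by linear_combination -u * hN - y * e01 + x * e11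
        exact ⟨by show s = -b * r; rw [hs, hr]; ring, by show u = p + a * r; rw [hu, hp, hr]; ring⟩ }
  have hR : ∀ g : O2 a b, g ∈ R ↔ IsRot a b g := fun g => Iff.rfl
  have hext : ∀ g h : O2 a b, g ∈ R → h ∈ R →
      ((g : GL (Fin 2) F) : Matrix (Fin 2) (Fin 2) F) 0 0 = ((h : GL (Fin 2) F) : Matrix (Fin 2) (Fin 2) F) 0 0 →
      ((g : GL (Fin 2) F) : Matrix (Fin 2) (Fin 2) F) 1 0 = ((h : GL (Fin 2) F) : Matrix (Fin 2) (Fin 2) F) 1 0 →
      g = h := by
    intro g h hg hh e0 e1
    refine Subtype.ext (Units.ext (Matrix.ext fun i j => ?_))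
    fin_cases i <;> fin_cases j
    · exact e0
    · exact hg.1.trans (by rw [e1]; exact hh.1.symm)
    · exact e1
    · exact hg.2.trans (by rw [e0, e1]; exact hh.2.symm)
  have hmk : ∀ x y : F, x ^ 2 + a * x * y + b * y ^ 2 = 1 → ∃ g : O2 a b, g ∈ R ∧
      ((g : GL (Fin 2) F) : Matrix (Fin 2) (Fin 2) F) = !![x, -b * y; y, x + a * y] := by
    intro x y hN
    have hdet : (!![x, -b * y; y, x + a * y] : Matrix (Fin 2) (Fin 2) F).det ≠ 0 := by
      rw [Matrix.det_fin_two_of, show x * (x + a * y) - -b * y * y = 1 by linear_combination hN]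
      exact one_ne_zero
    refine ⟨⟨Matrix.GeneralLinearGroup.mkOfDetNeZero _ hdet, mem_O2.2 fun z => ?_⟩, ⟨rfl, rfl⟩, rfl⟩
    show q2 a b (!![x, -b * y; y, x + a * y] *ᵥ z) = _
    simp [q2, Matrix.mulVec, dotProduct, Fin.sum_univ_two]
    linear_combination (z 0 ^ 2 + a * z 0 * z 1 + b * z 1 ^ 2) * hN
  have hcardR : Nat.card R = Fintype.card F + 1 := by
    rw [← natCard_binForm_one hab]
    refine Nat.card_congr (Equiv.ofBijective (fun g =>
      ⟨((((g : O2 a b) : GL (Fin 2) F) : Matrix (Fin 2) (Fin 2) F) 0 0,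
        (((g : O2 a b) : GL (Fin 2) F) : Matrix (Fin 2) (Fin 2) F) 1 0),
        by rw [binForm_apply]; exact hcol g.1⟩) ⟨?_, ?_⟩)
    · intro g h e
      have e' := congrArg Subtype.val e
      simp only [Prod.mk.injEq] at e'
      exact Subtype.ext (hext _ _ g.2 h.2 e'.1 e'.2)
    · rintro ⟨⟨x, y⟩, hxy⟩
      rw [binForm_apply] at hxy
      obtain ⟨g, hg, hgv⟩ := hmk x y hxy
      refine ⟨⟨g, hg⟩, Subtype.ext (Prod.ext ?_ ?_)⟩ <;> simp [hgv]
  haveI : IsCyclic R := by
    obtain ⟨K, _, _, t, ht⟩ := exists_quad_root hab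
    let f : R →* K :=
      { toFun := fun g => algebraMap F K ((((g : O2 a b) : GL (Fin 2) F) : Matrix (Fin 2) (Fin 2) F) 0 0) +
          algebraMap F K ((((g : O2 a b) : GL (Fin 2) F) : Matrix (Fin 2) (Fin 2) F) 1 0) * t
        map_one' := by simp
        map_mul' := fun g h => by
          simp only [Subgroup.coe_mul R, hent, g.2.1, g.2.2, map_add, map_mul, map_neg]
          linear_combination -(algebraMap F K ((((g : O2 a b) : GL (Fin 2) F) : Matrix (Fin 2) (Fin 2) F) 1 0) *
            algebraMap F K ((((h : O2 a b) : GL (Fin 2) F) : Matrix (Fin 2) (Fin 2) F) 1 0)) * ht }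
    refine isCyclic_of_subgroup_isDomain f ((injective_iff_map_eq_one f).2 fun g hg => ?_)
    have hlin : ∀ x y : F, algebraMap F K x + algebraMap F K y * t = 0 → y = 0 := by
      intro x y h
      by_contra hy
      apply hy
      have h1 : algebraMap F K (x ^ 2 + a * x * y + b * y ^ 2) = 0 := by
        rw [map_add, map_add, map_mul, map_mul, map_mul, map_pow, map_pow]
        linear_combination (algebraMap F K x - algebraMap F K y * t + algebraMap F K a * algebraMap F K y) * h +
          algebraMap F K y ^ 2 * ht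
      exact (hab x y ((map_eq_zero _).1 h1)).2
    change algebraMap F K _ + algebraMap F K _ * t = 1 at hg
    have hy := hlin ((((g : O2 a b) : GL (Fin 2) F) : Matrix (Fin 2) (Fin 2) F) 0 0 - 1)
      ((((g : O2 a b) : GL (Fin 2) F) : Matrix (Fin 2) (Fin 2) F) 1 0) (by rw [map_sub, map_one]; linear_combination hg)
    rw [hy, map_zero, zero_mul, add_zero, ← map_one (algebraMap F K)] at hg
    refine Subtype.ext (hext _ _ g.2 (one_mem R) ?_ ?_)
    · simpa using (algebraMap F K).injective hg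
    · simpa using hy
  -- the reflection
  have hsdet : (!![1, a; 0, -1] : Matrix (Fin 2) (Fin 2) F).det ≠ 0 := by
    rw [Matrix.det_fin_two_of]; simp
  let s : O2 a b := ⟨Matrix.GeneralLinearGroup.mkOfDetNeZero _ hsdet, mem_O2.2 fun z => by
    show q2 a b (!![1, a; 0, -1] *ᵥ z) = _
    simp [q2, Matrix.mulVec, dotProduct, Fin.sum_univ_two]
    ring⟩
  have hsv : ((s : GL (Fin 2) F) : Matrix (Fin 2) (Fin 2) F) = !![1, a; 0, -1] := rfl
  have hs2 : s * s = 1 := by
    refine Subtype.ext (Units.ext (Matrix.ext fun i j => ?_))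
    rw [hent]
    fin_cases i <;> fin_cases j <;> simp [hsv]
  have hsR : s ∉ R := by
    rintro ⟨h1, h2⟩
    simp [hsv] at h1 h2
    exact hD (by linear_combination (-2 * b) * h2 - a * h1)
  obtain ⟨r, hr⟩ := IsCyclic.exists_generator (α := R)
  have hzp : Subgroup.zpowers (r : O2 a b) = R := by
    refine le_antisymm (Subgroup.zpowers_le.2 r.2) fun g hg => ?_
    obtain ⟨k, hk⟩ := hr ⟨g, hg⟩
    exact ⟨k, congrArg Subtype.val hk⟩
  refine Cfsg.Agent.Transfer.MaxClass.nonempty_dihedral (Nat.succ_pos _) (a := (r : O2 a b)) (s := s)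
    ?_ ?_ ?_ hs2 ?_
  · rw [Subgroup.orderOf_coe, orderOf_eq_card_of_forall_mem_zpowers hr, hcardR]
  · rw [hzp]
    refine Subgroup.index_eq_two_iff.2 ⟨s, fun g => ?_⟩
    by_cases hg : g ∈ R
    · exact Or.inr ⟨hg, fun hgs => hsR ((Subgroup.mul_mem_cancel_left _ hg).1 hgs)⟩
    refine Or.inl ⟨?_, hg⟩
    obtain ⟨m, hm, hmv⟩ := hmk _ _ (hcol g)
    set h := m⁻¹ * g with hh
    have hg' : g = m * h := by rw [hh]; group
    have e0 := hent m h 0 0
    have e1 := hent m h 1 0
    rw [← hg'] at e0 e1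
    have hN := hcol g
    set x := ((g : GL (Fin 2) F) : Matrix (Fin 2) (Fin 2) F) 0 0
    set y := ((g : GL (Fin 2) F) : Matrix (Fin 2) (Fin 2) F) 1 0
    simp [hmv] at e0 e1
    set h00 := ((h : GL (Fin 2) F) : Matrix (Fin 2) (Fin 2) F) 0 0 with h00def
    set h10 := ((h : GL (Fin 2) F) : Matrix (Fin 2) (Fin 2) F) 1 0 with h10def
    set u := ((h : GL (Fin 2) F) : Matrix (Fin 2) (Fin 2) F) 0 1 with hudef
    set w := ((h : GL (Fin 2) F) : Matrix (Fin 2) (Fin 2) F) 1 1 with hwdef
    have k10 : h10 = 0 := by linear_combination -h10 * hN + y * e0 - x * e1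
    have k00 : h00 = 1 := by linear_combination -h00 * hN - (x + a * y) * e0 - b * y * e1 + hN
    have q01 := mem_O2.1 h.2 ![0, 1]
    have q11 := mem_O2.1 h.2 ![1, 1]
    simp [q2, Matrix.mulVec, dotProduct, Fin.sum_univ_two, ← h00def, ← h10def, ← hudef, ← hwdef, k00, k10]
      at q01 q11
    have hpol : 2 * u + a * w = a := by linear_combination q11 - q01
    have hw : w ^ 2 = 1 := by
      have : (4 * b - a ^ 2) * (w ^ 2 - 1) = 0 := by
        linear_combination 4 * q01 - (2 * u + a * w + a) * hpol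
      linear_combination (mul_eq_zero.1 this).resolve_left hD
    have hmat : ∀ v : O2 a b, ((v : GL (Fin 2) F) : Matrix (Fin 2) (Fin 2) F) = !![1, u; 0, w] → h = v := by
      intro v hv
      refine Subtype.ext (Units.ext (Matrix.ext fun i j => ?_))
      rw [hv]
      fin_cases i <;> fin_cases j
      exacts [k00, rfl, k10, rfl]
    have hh1 : h = 1 ∨ h = s := by
      rcases eq_or_ne u 0 with hu0 | hu0
      · rcases sq_eq_one_iff.1 hw with hw1 | hw1
        · left; refine hmat 1 ?_
          rw [hu0, hw1]; simp [Matrix.one_fin_two]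
        · by_cases h2 : (2 : F) = 0
          · left; refine hmat 1 ?_
            rw [hu0, hw1, show (-1 : F) = 1 by linear_combination -h2]; simp [Matrix.one_fin_two]
          · right; refine hmat s ?_
            have ha : a = 0 := mul_left_cancel₀ h2 (by linear_combination -hpol + 2 * hu0 + a * hw1)
            rw [hsv, hu0, hw1, ha]
      · right; refine hmat s ?_
        rw [hsv]
        have hua : u + a * w = 0 := by
          refine (mul_eq_zero.1 (show u * (u + a * w) = 0 by linear_combination q01 - b * hw)).resolve_left hu0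
        have hua' : u = a := by linear_combination hpol - hua
        have ha0 : a ≠ 0 := fun e => hu0 (hua'.trans e)
        have hw1 : w = -1 := mul_left_cancel₀ ha0 (by linear_combination hua - hua')
        rw [hua', hw1]
    rcases hh1 with e | e
    · exact absurd (by rw [hg', e, mul_one]; exact hm) hg
    · rw [hg', e, mul_assoc, hs2, mul_one]; exact hm
  · rw [hzp]; exact hsR
  · have hsinv : s⁻¹ = s := inv_eq_of_mul_eq_one_right hs2
    rw [hsinv]
    refine eq_inv_of_mul_eq_one_left (Subtype.ext (Units.ext (Matrix.ext fun i j => ?_)))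
    have hN := hcol (r : O2 a b)
    have r01 : (((r : O2 a b) : GL (Fin 2) F) : Matrix (Fin 2) (Fin 2) F) 0 1 =
        -b * (((r : O2 a b) : GL (Fin 2) F) : Matrix (Fin 2) (Fin 2) F) 1 0 := r.2.1
    have r11 : (((r : O2 a b) : GL (Fin 2) F) : Matrix (Fin 2) (Fin 2) F) 1 1 =
        (((r : O2 a b) : GL (Fin 2) F) : Matrix (Fin 2) (Fin 2) F) 0 0 +
          a * (((r : O2 a b) : GL (Fin 2) F) : Matrix (Fin 2) (Fin 2) F) 1 0 := r.2.2
    fin_cases i <;> fin_cases j <;>
      simp only [hent] <;> simp [r01, r11, hsv] <;> first | ring1 | linear_combination hN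

end Cfsg.Agent.Classical.OrthBinary
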