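import Cfsg.Agent.Lib.Classical.OrthNondegInvolution
import Cfsg.Agent.Lib.Classical.OrthNondegCount

/-! Isometries squaring to `-1`: type, spinor norm, existence. Odd characteristic. -/

set_option autoImplicit false
set_option linter.unusedSectionVars false
set_option quotPrecheck false

namespace Cfsg.Agent.OrthComplexStructure

open Module Matrix Cfsg.Agent.Classical Cfsg.Agent.Classical.OrthAut Cfsg.Agent.OrthNondegInvolution

variable {F : Type*} [Field F] [Fintype F] {ι : Type} [Fintype ι] [DecidableEq ι] {Q : QuadraticForm F (ι → F)}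

local notation "OG" => isometryGroup F ⇑Q
local notation "B" => QuadraticMap.polar ⇑Q

theorem polar_apply (g : OG) (x y : ι → F) : B (ogVal g *ᵥ x) (ogVal g *ᵥ y) = B x y :=
  InvolutionSingular.polar_isometry g x y

variable (h2 : (2 : F) ≠ 0) (hQ : (QuadraticMap.polarBilin Q).Nondegenerate)

include h2 in
/-- A plane with an orthogonal basis of two equal values. -/
theorem plane_plus {v w : ι → F} (hv : Q v ≠ 0) (hw : Q w = Q v) (hvw : B v w = 0) :
    finrank F (Submodule.span F {v} ⊔ Submodule.span F {w} : Submodule F (ι → F)) = 2 ∧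
      NonSing Q (Submodule.span F {v} ⊔ Submodule.span F {w}) ∧
      (EvenType.Plus (EvenType.res Q (Submodule.span F {v} ⊔ Submodule.span F {w})) ↔ IsSquare (-1 : F)) := by
  have hline : ∀ u, Q u ≠ 0 → NonSing Q (Submodule.span F {u}) := by
    intro u hu x hx hx0
    obtain ⟨c, rfl⟩ := Submodule.mem_span_singleton.1 hx
    refine ⟨u, Submodule.mem_span_singleton_self u, ?_⟩
    rw [QuadraticMap.polar_smul_left, smul_eq_mul, polar_self2]
    exact mul_ne_zero (fun e => hx0 (by rw [e, zero_smul])) (mul_ne_zero h2 hu)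
  have hw0 : Q w ≠ 0 := hw ▸ hv
  have horth : ∀ x ∈ Submodule.span F {v}, ∀ y ∈ Submodule.span F {w}, B x y = 0 := fun x hx y hy => by
    obtain ⟨a, rfl⟩ := Submodule.mem_span_singleton.1 hx
    obtain ⟨b, rfl⟩ := Submodule.mem_span_singleton.1 hy
    rw [QuadraticMap.polar_smul_left, QuadraticMap.polar_smul_right, hvw, smul_zero, smul_zero]
  have hne : v ≠ 0 ∧ w ≠ 0 := ⟨fun e => hv (by rw [e, QuadraticMap.map_zero]), fun e => hw0 (by rw [e, QuadraticMap.map_zero])⟩
  set P : Submodule F (ι → F) := Submodule.span F {v} ⊔ Submodule.span F {w}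
  have hP : finrank F P = 2 := by
    rw [finrank_sup_orth (hline v hv) horth, finrank_span_singleton hne.1, finrank_span_singleton hne.2]
  have hval : ∀ a b : F, Q (a • v + b • w) = (a * a + b * b) * Q v := fun a b => by
    rw [QuadraticMap.map_add (⇑Q), QuadraticMap.map_smul, QuadraticMap.map_smul, QuadraticMap.polar_smul_left,
      QuadraticMap.polar_smul_right, hvw, hw]
    simp only [smul_eq_mul]; ring
  refine ⟨hP, nonSing_sup (hline v hv) (hline w hw0) horth, ?_⟩
  rw [EvenType.plus_res_iff]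
  constructor
  · rintro ⟨U, hUP, hU, hd⟩
    obtain ⟨x, hx, hx0⟩ := Submodule.exists_mem_ne_zero_of_ne_bot (p := U) fun e => by
      rw [e, finrank_bot, hP] at hd; omega
    obtain ⟨y, hy, z, hz, rfl⟩ := Submodule.mem_sup.1 (hUP hx)
    obtain ⟨a, rfl⟩ := Submodule.mem_span_singleton.1 hy
    obtain ⟨b, rfl⟩ := Submodule.mem_span_singleton.1 hz
    have h := hU _ hx
    rw [hval, mul_eq_zero, or_iff_left hv] at h
    by_cases hb : b = 0
    · subst hb
      rw [mul_zero, add_zero, mul_self_eq_zero] at h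
      exact absurd (by rw [h, zero_smul, zero_smul, add_zero]) hx0
    · exact ⟨a / b, by field_simp; linear_combination -h⟩
  · rintro ⟨c, hc⟩
    have hne' : v + c • w ≠ 0 := fun e => by
      have h : B v (v + c • w) = 0 := by rw [e, QuadraticMap.polar_zero_right]
      rw [QuadraticMap.polar_add_right, QuadraticMap.polar_smul_right, hvw, polar_self2] at h
      exact mul_ne_zero h2 hv (by simpa using h)
    refine ⟨Submodule.span F {v + c • w}, ?_, ?_, by rw [finrank_span_singleton hne', hP]⟩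
    · rw [Submodule.span_singleton_le_iff_mem]
      exact Submodule.add_mem_sup (Submodule.mem_span_singleton_self v)
        (Submodule.smul_mem _ _ (Submodule.mem_span_singleton_self w))
    · intro x hx
      obtain ⟨s, rfl⟩ := Submodule.mem_span_singleton.1 hx
      rw [QuadraticMap.map_smul, show v + c • w = (1 : F) • v + c • w by rw [one_smul], hval, ← hc]
      simp

/-- The type of a non-degenerate subspace split in two. -/
theorem plus_sup_iff {A C : Submodule F (ι → F)} (hA : NonSing Q A) (hC : NonSing Q C)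
    (horth : ∀ x ∈ A, ∀ y ∈ C, B x y = 0) {a c : ℕ} (ha : finrank F A = 2 * (a + 1))
    (hc : finrank F C = 2 * (c + 1)) :
    EvenType.Plus (EvenType.res Q (A ⊔ C)) ↔ (EvenType.Plus (EvenType.res Q A) ↔ EvenType.Plus (EvenType.res Q C)) := by
  set N : Submodule F (ι → F) := A ⊔ C
  have hle1 : A ≤ N := le_sup_left
  have hle2 : C ≤ N := le_sup_right
  have hsplit : EvenType.Split (EvenType.res Q N) (A.comap N.subtype) (C.comap N.subtype) := by
    refine ⟨eq_top_iff.2 fun x _ => ?_, ?_, fun x hx y hy => horth _ hx _ hy⟩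
    · obtain ⟨y, hy, z, hz, e⟩ := Submodule.mem_sup.1 x.2
      exact Submodule.mem_sup.2 ⟨⟨y, hle1 hy⟩, hy, ⟨z, hle2 hz⟩, hz, Subtype.ext e⟩
    · rw [Submodule.eq_bot_iff]
      rintro x ⟨hx, hy⟩
      by_contra h0
      obtain ⟨u, hu, hxu⟩ := hA x hx fun e => h0 (Subtype.ext e)
      exact hxu (by rw [QuadraticMap.polar_comm]; exact horth u hu x hy)
  have eA := Submodule.comapSubtypeEquivOfLe hle1
  have eC := Submodule.comapSubtypeEquivOfLe hle2
  rw [hsplit.plus_iff (EvenType.nondeg_res (nonSing_sup hA hC horth)) (a := a) (b := c)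
    (by rw [(Submodule.comapSubtypeEquivOfLe hle1).finrank_eq, ha])
    (by rw [(Submodule.comapSubtypeEquivOfLe hle2).finrank_eq, hc])]
  refine iff_congr ⟨fun h => h.map (Submodule.comapSubtypeEquivOfLe hle1) fun x => rfl,
    fun h => h.map (Submodule.comapSubtypeEquivOfLe hle1).symm fun x => rfl⟩
    ⟨fun h => h.map (Submodule.comapSubtypeEquivOfLe hle2) fun x => rfl,
    fun h => h.map (Submodule.comapSubtypeEquivOfLe hle2).symm fun x => rfl⟩

include h2 hQ in
theorem structure_aux : ∀ (k : ℕ) (N : Submodule F (ι → F)) (g : OG), NonSing Q N → finrank F N = k →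
    (∀ x ∈ N, ogVal g *ᵥ x ∈ N ∧ ogVal g *ᵥ (ogVal g *ᵥ x) = -x) →
    (∀ x, (∀ n ∈ N, B n x = 0) → ogVal g *ᵥ x = x) →
    ∃ j, k = 2 * j ∧ dick g = 1 ∧ spin g = sqSign (2 : F) ^ j ∧
      (EvenType.Plus (EvenType.res Q N) ↔ IsSquare ((-1 : F) ^ j)) := by
  classical
  intro k
  induction k using Nat.strong_induction_on with
  | _ k ih =>
  intro N g hN hk hg hfix
  rcases Nat.eq_zero_or_pos k with rfl | hpos
  · have hg1 : g = 1 := ogVal_ext (Matrix.ext_iff_mulVec.2 fun x => by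
      rw [ogVal_one, Matrix.one_mulVec]
      refine hfix x fun n hn => ?_
      rw [(Submodule.eq_bot_iff _).1 (Submodule.finrank_eq_zero.1 hk) n hn, QuadraticMap.polar_zero_left])
    refine ⟨0, rfl, by rw [hg1, dick_one], ?_, ?_⟩
    · rw [hg1, show spin (1 : OG) = 1 from map_one (spinHom hQ), pow_zero]
    · rw [pow_zero]
      exact iff_of_true (OrthPrimeOrderClasses.plus_of_finrank_zero _ hk) IsSquare.one
  obtain ⟨v, hv, hv0⟩ := exists_aniso h2 hN (by omega)
  set w := ogVal g *ᵥ v with hwdef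
  obtain ⟨hw, hgw⟩ := hg v hv
  have hQw : Q w = Q v := ogVal_quad g v
  have hvw : B v w = 0 := by
    have h := polar_apply g v w
    rw [hwdef, hgw, QuadraticMap.polar_neg_right, ← hwdef, QuadraticMap.polar_comm _ w v] at h
    exact (mul_eq_zero.1 (show (2 : F) * B v w = 0 by linear_combination -h)).resolve_left h2
  have hQu : Q (v - w) = 2 * Q v := by
    rw [sub_eq_add_neg, QuadraticMap.map_add (⇑Q), QuadraticMap.map_neg, QuadraticMap.polar_neg_right, hvw, hQw]
    ring
  have hu0 : Q (v - w) ≠ 0 := by rw [hQu]; exact mul_ne_zero h2 hv0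
  have hvv : B v v ≠ 0 := by rw [polar_self2]; exact mul_ne_zero h2 hv0
  have hww : B w w ≠ 0 := by rw [polar_self2, hQw]; exact mul_ne_zero h2 hv0
  obtain ⟨hPd, hPn, hPp⟩ := plane_plus h2 hv0 hQw hvw
  set P : Submodule F (ι → F) := Submodule.span F {v} ⊔ Submodule.span F {w}
  have hPN : P ≤ N := sup_le ((Submodule.span_singleton_le_iff_mem _ _).2 hv)
    ((Submodule.span_singleton_le_iff_mem _ _).2 hw)
  set N' : Submodule F (ι → F) :=
    N ⊓ LinearMap.ker (QuadraticMap.polarBilin Q v) ⊓ LinearMap.ker (QuadraticMap.polarBilin Q w)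
  have hN' : ∀ x, x ∈ N' ↔ x ∈ N ∧ B v x = 0 ∧ B w x = 0 := fun x =>
    ⟨fun h => ⟨h.1.1, h.1.2, h.2⟩, fun h => ⟨⟨h.1, h.2.1⟩, h.2.2⟩⟩
  let proj : (ι → F) → (ι → F) := fun x => x - (B v x / B v v) • v - (B w x / B w w) • w
  have hprojv : ∀ x, B v (proj x) = 0 := fun x => by
    simp only [proj, QuadraticMap.polar_sub_right, QuadraticMap.polar_smul_right, hvw, smul_eq_mul, mul_zero]
    field_simp; ring
  have hprojw : ∀ x, B w (proj x) = 0 := fun x => by
    simp only [proj, QuadraticMap.polar_sub_right, QuadraticMap.polar_smul_right, QuadraticMap.polar_comm _ w v, hvw,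
      smul_eq_mul, mul_zero]
    field_simp; ring
  have hdec : ∀ x, x = (B v x / B v v) • v + (B w x / B w w) • w + proj x := fun x => by
    simp only [proj]; module
  have hplane : ∀ a b : F, a • v + b • w ∈ P := fun a b => Submodule.add_mem_sup
    (Submodule.smul_mem _ _ (Submodule.mem_span_singleton_self v))
    (Submodule.smul_mem _ _ (Submodule.mem_span_singleton_self w))
  have hsup : P ⊔ N' = N := by
    refine le_antisymm (sup_le hPN fun x hx => ((hN' x).1 hx).1) fun x hx => ?_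
    rw [hdec x]
    exact Submodule.add_mem_sup (hplane _ _) ((hN' _).2
      ⟨N.sub_mem (N.sub_mem hx (N.smul_mem _ hv)) (N.smul_mem _ hw), hprojv x, hprojw x⟩)
  have horth : ∀ x ∈ P, ∀ y ∈ N', B x y = 0 := fun x hx y hy => by
    obtain ⟨a, ha, b, hb, rfl⟩ := Submodule.mem_sup.1 hx
    obtain ⟨s, rfl⟩ := Submodule.mem_span_singleton.1 ha
    obtain ⟨t, rfl⟩ := Submodule.mem_span_singleton.1 hb
    rw [QuadraticMap.polar_add_left, QuadraticMap.polar_smul_left, QuadraticMap.polar_smul_left, ((hN' y).1 hy).2.1,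
      ((hN' y).1 hy).2.2, smul_zero, smul_zero, add_zero]
  have hdim : 2 + finrank F N' = k := by
    rw [← hPd, ← finrank_sup_orth hPn horth, hsup, hk]
  have hNn : NonSing Q N' := fun x hx hx0 => by
    obtain ⟨u, hu, hxu⟩ := hN x ((hN' x).1 hx).1 hx0
    rw [← hsup] at hu
    obtain ⟨y, hy, z, hz, rfl⟩ := Submodule.mem_sup.1 hu
    refine ⟨z, hz, ?_⟩
    rwa [QuadraticMap.polar_add_right, QuadraticMap.polar_comm _ x y, horth y hy x hx, zero_add] at hxu
  set g' := OrthAut.refl hu0 * (OrthAut.refl hv0 * g)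
  have hswap : ∀ x, B v x = 0 → B w x = 0 → ogVal (OrthAut.refl hu0) *ᵥ x = x ∧ ogVal (OrthAut.refl hv0) *ᵥ x = x :=
    fun x h1 h1' => by
      rw [refl_apply, refl_apply, QuadraticMap.polar_sub_left, h1, h1']
      simp
  have happ : ∀ x, ogVal g' *ᵥ x = ogVal (OrthAut.refl hu0) *ᵥ (ogVal (OrthAut.refl hv0) *ᵥ (ogVal g *ᵥ x)) :=
    fun x => by rw [ogVal_mul, ogVal_mul, ← Matrix.mulVec_mulVec, ← Matrix.mulVec_mulVec]
  have hgN' : ∀ x ∈ N', ogVal g *ᵥ x ∈ N' := fun x hx => by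
    obtain ⟨h1, h3, h4⟩ := (hN' x).1 hx
    refine (hN' _).2 ⟨(hg x h1).1, ?_, ?_⟩
    · have h := polar_apply g w x
      rw [hwdef, hgw, QuadraticMap.polar_neg_left, ← hwdef, h4] at h
      exact neg_eq_zero.1 h
    · rw [hwdef, polar_apply, h3]
  have hg'N : ∀ x ∈ N', ogVal g' *ᵥ x = ogVal g *ᵥ x := fun x hx => by
    obtain ⟨-, h3, h4⟩ := (hN' _).1 (hgN' x hx)
    rw [happ, (hswap _ h3 h4).2, (hswap _ h3 h4).1]
  have hg'v : ogVal g' *ᵥ v = v := by
    rw [happ, ← hwdef, refl_apply hv0, hvw, mul_zero, zero_smul, sub_zero, refl_apply, QuadraticMap.polar_sub_left,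
      hvw, polar_self2, hQw, hQu, zero_sub, mul_neg, show (2 * Q v)⁻¹ * (2 * Q v) = 1 from
        inv_mul_cancel₀ (mul_ne_zero h2 hv0)]
    module
  have hg'w : ogVal g' *ᵥ w = w := by
    rw [happ, show ogVal g *ᵥ w = -v from hgw, refl_apply hv0, QuadraticMap.polar_neg_right, polar_self2,
      show (Q v)⁻¹ * -(2 * Q v) = -2 by field_simp,
      show -v - (-2 : F) • v = v by module, refl_apply, QuadraticMap.polar_sub_left, polar_self2,
      QuadraticMap.polar_comm _ w v, hvw, hQu, sub_zero, inv_mul_cancel₀ (mul_ne_zero h2 hv0)]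
    module
  obtain ⟨j, hj, hd, hs, hp⟩ := ih (finrank F N') (by omega) N' g' hNn rfl
    (fun x hx => ⟨(hg'N x hx).symm ▸ hgN' x hx, by
      rw [hg'N x hx, hg'N _ (hgN' x hx)]; exact (hg x ((hN' x).1 hx).1).2⟩)
    (fun x hx => by
      have hy : ∀ n ∈ N, B n (proj x) = 0 := fun n hn => by
        rw [← hsup] at hn
        obtain ⟨y, hy, z, hz, rfl⟩ := Submodule.mem_sup.1 hn
        have h1 : B y (proj x) = 0 := by
          obtain ⟨a, ha, b, hb, rfl⟩ := Submodule.mem_sup.1 hy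
          obtain ⟨s, rfl⟩ := Submodule.mem_span_singleton.1 ha
          obtain ⟨t, rfl⟩ := Submodule.mem_span_singleton.1 hb
          rw [QuadraticMap.polar_add_left, QuadraticMap.polar_smul_left, QuadraticMap.polar_smul_left, hprojv, hprojw,
            smul_zero, smul_zero, add_zero]
        rw [QuadraticMap.polar_add_left, h1, zero_add]
        simp only [proj, QuadraticMap.polar_sub_right, QuadraticMap.polar_smul_right, hx z hz,
          QuadraticMap.polar_comm _ z v, QuadraticMap.polar_comm _ z w, ((hN' z).1 hz).2.1, ((hN' z).1 hz).2.2,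
          smul_zero, sub_zero]
      have h5 : ogVal g' *ᵥ proj x = proj x := by
        rw [happ, hfix _ hy, (hswap _ (hprojv x) (hprojw x)).2, (hswap _ (hprojv x) (hprojw x)).1]
      conv_lhs => rw [hdec x]
      rw [Matrix.mulVec_add, Matrix.mulVec_add, Matrix.mulVec_smul, Matrix.mulVec_smul, hg'v, hg'w, h5, ← hdec x])
  refine ⟨j + 1, by omega, ?_, ?_, ?_⟩
  · rw [dick_refl_mul hQ, dick_refl_mul hQ, neg_neg] at hd
    exact hd
  · rw [spin_mul hQ, spin_mul hQ, spin_refl hQ, spin_refl hQ, hQu, sqSign_mul h2 hv0] at hs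
    have hsq : ∀ c : F, sqSign c * sqSign c = 1 := fun c => by
      by_cases h : IsSquare c
      · rw [sqSign_of_isSquare h]; rfl
      · rw [sqSign_of_not h]; rfl
    rw [pow_succ, ← hs]
    rw [show sqSign (2 : F) * sqSign (Q v) * (sqSign (Q v) * spin g) * sqSign (2 : F) =
      spin g * ((sqSign (2 : F) * sqSign (2 : F)) * (sqSign (Q v) * sqSign (Q v))) by ac_rfl, hsq, hsq, mul_one, mul_one]
  · rcases Nat.eq_zero_or_pos j with rfl | hjp
    · have hNP : N = P := by
        rw [← hsup, Submodule.finrank_eq_zero.1 (show finrank F N' = 0 by omega), sup_bot_eq]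
      rw [hNP, hPp, zero_add, pow_one]
    obtain ⟨j', rfl⟩ : ∃ j', j = j' + 1 := ⟨j - 1, by omega⟩
    rw [← hsup, plus_sup_iff hPn hNn horth (a := 0) hPd (c := j') hj, hPp, hp, pow_succ (-1 : F) (j' + 1)]
    by_cases h1 : IsSquare (-1 : F)
    · exact iff_of_true (iff_of_true h1 (h1.pow _)) ((h1.pow _).mul h1)
    · rcases Nat.even_or_odd (j' + 1) with e | e
      · simp [e.neg_one_pow, h1]
      · simp [e.neg_one_pow, h1]

include h2 hQ in
/-- An isometry squaring to `-1` on the whole space. -/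
theorem of_sq_neg_one {g : OG} (hg : ∀ x, ogVal g *ᵥ (ogVal g *ᵥ x) = -x) {d : ℕ} (hι : Fintype.card ι = 2 * d) :
    (g ∈ Omega F ⇑Q ↔ (Even d ∨ IsSquare (2 : F))) ∧ (EvenType.Plus Q ↔ IsSquare ((-1 : F) ^ d)) := by
  obtain ⟨j, hj, hd, hs, hp⟩ := structure_aux h2 hQ _ ⊤ g (OrthAut.nondeg_top hQ) rfl
    (fun x _ => ⟨Submodule.mem_top, hg x⟩) (fun x hx => by
      rw [eq_zero_of_polar hQ (u := x) fun z => by rw [QuadraticMap.polar_comm]; exact hx z Submodule.mem_top, Matrix.mulVec_zero])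
  rw [finrank_top, Module.finrank_pi, hι] at hj
  obtain rfl : j = d := by omega
  refine ⟨?_, EvenType.plus_top_iff.trans ((EvenType.plus_res_iff _).symm.trans hp)⟩
  rw [mem_omega_gen hQ (genQ_odd hQ h2), hd, hs]
  by_cases h : IsSquare (2 : F)
  · simp [h, sqSign_of_isSquare h]
  · rw [sqSign_of_not h]
    rcases Nat.even_or_odd j with e | e
    · simp [h, e, e.neg_one_pow]
    · simp [h, e.neg_one_pow, Nat.not_even_iff_odd.2 e]

include h2 hQ in
/-- The same, for an invariant non-degenerate subspace. -/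
theorem plus_sub {g : OG} (hg : ∀ x, ogVal g *ᵥ (ogVal g *ᵥ x) = -x) {N : Submodule F (ι → F)} (hN : NonSing Q N)
    (hinv : ∀ x ∈ N, ogVal g *ᵥ x ∈ N) :
    ∃ j, finrank F N = 2 * j ∧ (EvenType.Plus (EvenType.res Q N) ↔ IsSquare ((-1 : F) ^ j)) := by
  classical
  have hnd : (QuadraticMap.polarBilin (EvenType.res Q N)).Nondegenerate := EvenType.nondeg_res hN
  set T := OrthNondegCount.perp Q N
  have hs := OrthNondegCount.split_perp hnd
  let e := Submodule.prodEquivOfIsCompl N T ⟨disjoint_iff.2 hs.inf, codisjoint_iff.2 hs.sup⟩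
  let f : N →ₗ[F] N := (Matrix.toLin' (ogVal g)).restrict hinv
  let G : Module.End F (ι → F) := e.toLinearMap ∘ₗ (f.prodMap LinearMap.id) ∘ₗ e.symm.toLinearMap
  have hG : ∀ (a : N) (b : T), G ((a : ι → F) + b) = ogVal g *ᵥ (a : ι → F) + b := fun a b => by
    show e ((f.prodMap LinearMap.id) (e.symm ((a : ι → F) + b))) = _
    rw [show (a : ι → F) + b = e (a, b) from rfl, e.symm_apply_apply]
    rfl
  have hGq : ∀ x, Q (G x) = Q x := fun x => by
    obtain ⟨⟨a, b⟩, rfl⟩ := e.surjective x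
    rw [show e (a, b) = (a : ι → F) + b from rfl, hG, hs.quad a b, show ogVal g *ᵥ (a : ι → F) + b =
      ((⟨ogVal g *ᵥ (a : ι → F), hinv a a.2⟩ : N) : ι → F) + b from rfl, hs.quad]
    exact congrArg (· + _) (ogVal_quad g _)
  set M := LinearMap.toMatrix' G
  have hMv : ∀ x, M *ᵥ x = G x := fun x => LinearMap.congr_fun (Matrix.toLin'_toMatrix' G) x
  obtain ⟨u, hu⟩ : IsUnit M := by
    rw [← Matrix.mulVec_injective_iff_isUnit]
    refine (injective_iff_map_eq_zero (Matrix.mulVecLin M)).2 fun x hx => eq_zero_of_polar hQ fun z => ?_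
    rw [Matrix.mulVecLin_apply, hMv] at hx
    have h : B (G x) (G z) = B x z := by simp only [QuadraticMap.polar, ← map_add, hGq]
    rw [← h, hx, QuadraticMap.polar_zero_left]
  have hmem : u ∈ isometryGroup F ⇑Q := mem_isometryGroup.2 fun x => by rw [hu, hMv, hGq]
  have hval : ∀ x, ogVal (⟨u, hmem⟩ : OG) *ᵥ x = G x := fun x => by
    show (u : Matrix ι ι F) *ᵥ x = _
    rw [hu, hMv]
  have hN' : ∀ x ∈ N, ogVal (⟨u, hmem⟩ : OG) *ᵥ x = ogVal g *ᵥ x := fun x hx => by
    rw [hval]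
    have := hG ⟨x, hx⟩ 0
    simpa using this
  obtain ⟨j, hj, -, -, hp⟩ := structure_aux h2 hQ _ N ⟨u, hmem⟩ hN rfl
    (fun x hx => ⟨by rw [hN' x hx]; exact hinv x hx, by rw [hN' x hx, hN' _ (hinv x hx), hg]⟩)
    (fun x hx => by
      rw [hval]
      have := hG 0 ⟨x, hx⟩
      simpa using this)
  exact ⟨j, hj, hp⟩

include h2 hQ in
/-- Square roots of `-1` exist in the spaces of the right type. -/
theorem exists_sq_neg_one {d : ℕ} (hι : Fintype.card ι = 2 * d) (hd : 1 ≤ d)
    (hp : EvenType.Plus Q ↔ IsSquare ((-1 : F) ^ d)) :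
    ∃ g : OG, ∀ x, ogVal g *ᵥ (ogVal g *ᵥ x) = -x := by
  classical
  let Q₀ : QuadraticForm F (Fin d ⊕ Fin d → F) := QuadraticMap.weightedSumSquares F fun _ => (1 : F)
  have hval₀ : ∀ v, Q₀ v = ∑ i, v i * v i := fun v => by simp [Q₀, QuadraticMap.weightedSumSquares_apply]
  have hn₀ : (QuadraticMap.polarBilin Q₀).Nondegenerate := nondegenerate_of_separatingLeft _ fun u hu => funext fun i => by
    have h1 := hu (Pi.single i 1)
    rw [QuadraticMap.polarBilin_apply_apply, QuadraticMap.polar, hval₀, hval₀, hval₀, ← Finset.sum_sub_distrib,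
      ← Finset.sum_sub_distrib, Finset.sum_eq_single i] at h1
    · simp only [Pi.add_apply, Pi.single_eq_same] at h1
      exact (mul_eq_zero.1 (show (2 : F) * u i = 0 by linear_combination h1)).resolve_left h2
    · intro j _ hj
      simp [Pi.add_apply, Pi.single_eq_of_ne hj]
    · exact fun h => absurd (Finset.mem_univ i) h
  let J : Matrix (Fin d ⊕ Fin d) (Fin d ⊕ Fin d) F := Matrix.fromBlocks 0 (-1) 1 0
  have hJJ : J * J = -1 := by
    simp [J, Matrix.fromBlocks_multiply, ← Matrix.fromBlocks_one, Matrix.fromBlocks_neg]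
  let u₀ : GL (Fin d ⊕ Fin d) F := ⟨J, -J, by rw [mul_neg, hJJ, neg_neg], by rw [neg_mul, hJJ, neg_neg]⟩
  have hu₀ : u₀ ∈ isometryGroup F ⇑Q₀ := mem_isometryGroup.2 fun v => by
    rw [hval₀, hval₀, Fintype.sum_sum_type, Fintype.sum_sum_type]
    show (∑ i, (J *ᵥ v) (Sum.inl i) * (J *ᵥ v) (Sum.inl i)) + ∑ i, (J *ᵥ v) (Sum.inr i) * (J *ᵥ v) (Sum.inr i) = _
    simp [J, Matrix.fromBlocks_mulVec, Matrix.neg_mulVec]
    ring
  have hg₀ : ∀ x, ogVal (⟨u₀, hu₀⟩ : isometryGroup F ⇑Q₀) *ᵥ (ogVal (⟨u₀, hu₀⟩ : isometryGroup F ⇑Q₀) *ᵥ x) = -x :=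
    fun x => by
      show J *ᵥ (J *ᵥ x) = -x
      rw [Matrix.mulVec_mulVec, hJJ, Matrix.neg_mulVec, Matrix.one_mulVec]
  have hι₀ : Fintype.card (Fin d ⊕ Fin d) = 2 * d := by rw [Fintype.card_sum, Fintype.card_fin]; ring
  have hp₀ := (of_sq_neg_one h2 hn₀ hg₀ hι₀).2
  obtain ⟨a, rfl⟩ : ∃ a, d = a + 1 := ⟨d - 1, by omega⟩
  obtain ⟨φ, hφ⟩ := EvenType.iso_of_type hn₀ hQ (m := a) (by rw [Module.finrank_pi, hι₀])
    (by rw [Module.finrank_pi, hι]) (hp₀.trans hp.symm)
  let G : Module.End F (ι → F) := φ.conj (Matrix.toLin' J)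
  have hGv : ∀ x, G x = φ (J *ᵥ φ.symm x) := fun x => rfl
  have hGG : ∀ x, G (G x) = -x := fun x => by
    rw [hGv, hGv, φ.symm_apply_apply, Matrix.mulVec_mulVec, hJJ, Matrix.neg_mulVec, Matrix.one_mulVec, map_neg,
      φ.apply_symm_apply]
  have hGq : ∀ x, Q (G x) = Q x := fun x => by
    rw [hGv, hφ]
    conv_rhs => rw [← φ.apply_symm_apply x, hφ]
    exact mem_isometryGroup.1 hu₀ _
  set M := LinearMap.toMatrix' G
  have hMv : ∀ x, M *ᵥ x = G x := fun x => LinearMap.congr_fun (Matrix.toLin'_toMatrix' G) x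
  have hMM : M * M = -1 := Matrix.ext_iff_mulVec.2 fun x => by
    rw [← Matrix.mulVec_mulVec, hMv, hMv, hGG, Matrix.neg_mulVec, Matrix.one_mulVec]
  refine ⟨⟨⟨M, -M, by rw [mul_neg, hMM, neg_neg], by rw [neg_mul, hMM, neg_neg]⟩,
    mem_isometryGroup.2 fun x => ?_⟩, fun x => ?_⟩
  · show Q (M *ᵥ x) = Q x
    rw [hMv, hGq]
  · show M *ᵥ (M *ᵥ x) = -x
    rw [hMv, hMv, hGG]

end Cfsg.Agent.OrthComplexStructure
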