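import Cfsg.Agent.Lib.Classical.OrthOdd
import Cfsg.Agent.Lib.Classical.OrthDickson
import Cfsg.Agent.Lib.Classical.QuadClass
import Mathlib.GroupTheory.SemidirectProduct
import Mathlib.NumberTheory.LegendreSymbol.QuadraticChar.Basic

/-!
The invariants of an automorphism of an even-dimensional `PΩ(Q)`: field automorphism, normalised
determinant, square class of the multiplier; their kernel and image; the sign of `-1`.
-/

set_option autoImplicit false
set_option linter.unusedSectionVars false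
set_option quotPrecheck false

namespace Cfsg.Agent.Classical.OrthAut

open Matrix Cfsg.Agent.Classical.Descent

variable {F : Type*} [Field F] [Fintype F] {ι : Type} [Fintype ι] [DecidableEq ι]
  {Q : QuadraticForm F (ι → F)} {n : ℕ}

local notation "V" => (ι → F)
local notation "Mn" => Matrix ι ι F
local notation "B" => QuadraticMap.polar ⇑Q
local notation "OG" => isometryGroup F ⇑Q
local notation "Om" => Omega F ⇑Q
local notation "PQ" => POmega F ⇑Q
local notation "π" => omPi (Q := Q)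

/-- An even-dimensional form admitting every field automorphism and every multiplier. -/
structure EvenSpace (Q : QuadraticForm F (ι → F)) (n : ℕ) : Prop where
  nd : (QuadraticMap.polarBilin Q).Nondegenerate
  tri : Tri Q
  good : Good Q
  card : Fintype.card ι = 2 * n
  lift : ∀ σ : F ≃+* F, ∃ g : GL ι F, IsSemisimilarityPair (⇑Q) g σ
  sim : ∀ c : F, c ≠ 0 → ∃ g : GL ι F, ∀ v, Q ((g : Mn) *ᵥ v) = c * Q v

/-- Field automorphisms acting on units. -/
def twAct (F : Type*) [Field F] : RingAut F →* MulAut Fˣ where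
  toFun σ := Units.mapEquiv (σ : F ≃+* F).toMulEquiv
  map_one' := MulEquiv.ext fun _ => Units.ext rfl
  map_mul' _ _ := MulEquiv.ext fun _ => Units.ext rfl

@[simp] theorem twAct_coe (σ : RingAut F) (x : Fˣ) : ((twAct F σ x : Fˣ) : F) = σ (x : F) := rfl

/-- Units twisted by field automorphisms. -/
abbrev Tw (F : Type*) [Field F] : Type _ := Fˣ ⋊[twAct F] RingAut F

/-- The square class of a unit. -/
noncomputable def sqChar (F : Type*) [Field F] [Fintype F] : Fˣ →* ℤˣ := by
  classical exact (quadraticChar F).toUnitHom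

theorem sqChar_eq_one_iff (c : Fˣ) : sqChar F c = 1 ↔ IsSquare (c : F) := by
  classical
  rw [← quadraticChar_one_iff_isSquare c.ne_zero, Units.ext_iff, sqChar]
  simp [MulChar.coe_toUnitHom]

theorem sqChar_eq_neg_one_iff (c : Fˣ) : sqChar F c = -1 ↔ ¬ IsSquare (c : F) := by
  rw [← sqChar_eq_one_iff]
  rcases Int.units_eq_one_or (sqChar F c) with h | h <;> rw [h] <;> decide

theorem isPair_inv {g : GL ι F} {σ : RingAut F} (h : IsSemisimilarityPair (⇑Q) g σ) :
    IsSemisimilarityPair (⇑Q) (gmap (σ⁻¹ : RingAut F) g⁻¹) (σ⁻¹ : RingAut F) := by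
  obtain ⟨c, hc⟩ := h
  refine ⟨Units.map ((σ⁻¹ : RingAut F) : F ≃+* F).toMonoidHom c⁻¹, fun v => ?_⟩
  obtain ⟨w, rfl⟩ := semiFun_surjective g σ v
  show Q (semiFun _ _ (semiFun g σ w)) = _
  rw [semiFun_comp, ← map_mul, inv_mul_cancel, map_one, inv_mul_cancel,
    show Q (semiFun g σ w) = c * σ (Q w) from hc w]
  show Q ((1 : Mn) *ᵥ w) = (σ⁻¹ : RingAut F) ((c⁻¹ : Fˣ) : F) * (σ⁻¹ : RingAut F) ((c : F) * σ (Q w))
  rw [Matrix.one_mulVec, ← map_mul, ← mul_assoc, Units.inv_mul, one_mul]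
  exact (σ.symm_apply_apply _).symm

theorem poSemi_inv {g : GL ι F} {σ : RingAut F} (h : IsSemisimilarityPair (⇑Q) g σ) :
    (poSemi h : MulAut PQ)⁻¹ = poSemi (isPair_inv h) := by
  refine inv_eq_of_mul_eq_one_right ?_
  rw [poSemi_mul h (isPair_inv h), ← poSemi_one (Q := Q)]
  refine poSemi_congr _ _ ?_ (mul_inv_cancel σ)
  rw [gmap_gmap, mul_inv_cancel, gmap_one, mul_inv_cancel]

/-- The multiplier. -/
noncomputable def pmul {g : GL ι F} {σ : F ≃+* F} (h : IsSemisimilarityPair (⇑Q) g σ) : Fˣ := h.choose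

theorem pmul_spec {g : GL ι F} {σ : F ≃+* F} (h : IsSemisimilarityPair (⇑Q) g σ) (v : V) :
    Q ((g : Mn) *ᵥ (σ ∘ v)) = (pmul h : F) * σ (Q v) := h.choose_spec v

/-- The two invariants of a semisimilarity. -/
noncomputable def pinv (n : ℕ) {g : GL ι F} {σ : RingAut F} (h : IsSemisimilarityPair (⇑Q) g σ) :
    Tw F × ℤˣ :=
  (⟨Matrix.GeneralLinearGroup.det g * (pmul h ^ n)⁻¹, σ⟩, sqChar F (pmul h))

namespace EvenSpace

variable (H : EvenSpace Q n)
include H

theorem exists_one : ∃ v : V, Q v = 1 := by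
  obtain ⟨e, f, P⟩ := exists_basePair H.nd H.tri
  exact ⟨e + (1 : F) • f, by rw [quad_add_smul, P.1, P.2.1, P.2.2]; ring⟩

theorem exists_poSemi (β : MulAut PQ) :
    ∃ (g : GL ι F) (σ : RingAut F) (h : IsSemisimilarityPair (⇑Q) g σ), β = poSemi h := by
  obtain ⟨p, hp⟩ := CharP.exists F
  haveI : Fact p.Prime := ⟨CharP.char_is_prime F p⟩
  obtain ⟨g, k, σ, τ, h, h', rfl⟩ := exists_param p H.nd H.tri H.good β
  exact ⟨_, _, _, by rw [poSemi_inv h, poSemi_mul (isPair_inv h) h']⟩

theorem pmul_eq {g : GL ι F} {σ : F ≃+* F} (h : IsSemisimilarityPair (⇑Q) g σ) {d : Fˣ}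
    (hd : ∀ v, Q ((g : Mn) *ᵥ (σ ∘ v)) = (d : F) * σ (Q v)) : pmul h = d := by
  obtain ⟨v, hv⟩ := H.exists_one
  have h' := (pmul_spec h v).symm.trans (hd v)
  rw [hv, map_one, mul_one, mul_one] at h'
  exact Units.ext h'

theorem pmul_mul {g k : GL ι F} {σ τ : RingAut F} (h : IsSemisimilarityPair (⇑Q) g σ)
    (h' : IsSemisimilarityPair (⇑Q) k τ) :
    pmul (isPair_mul h h') = pmul h * twAct F σ (pmul h') := by
  refine H.pmul_eq _ fun v => ?_
  show Q (semiFun _ _ v) = _
  rw [← semiFun_comp, show Q (semiFun g σ (semiFun k τ v)) = _ from pmul_spec h _,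
    show Q (semiFun k τ v) = _ from pmul_spec h' _, map_mul, Units.val_mul, twAct_coe, mul_assoc]
  rfl

theorem pinv_mul {g k : GL ι F} {σ τ : RingAut F} (h : IsSemisimilarityPair (⇑Q) g σ)
    (h' : IsSemisimilarityPair (⇑Q) k τ) : pinv n (isPair_mul h h') = pinv n h * pinv n h' := by
  have hdet : Matrix.GeneralLinearGroup.det (gmap σ k) = twAct F σ (Matrix.GeneralLinearGroup.det k) :=
    Units.ext (RingHom.map_det (σ : F ≃+* F).toRingHom _).symm
  have hsq : ∀ c, sqChar F (twAct F σ c) = sqChar F c := fun c => by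
    have : IsSquare ((twAct F σ c : Fˣ) : F) ↔ IsSquare (c : F) := by
      rw [twAct_coe]
      exact ⟨fun h => by simpa using h.map (σ : F ≃+* F).symm, fun h => h.map (σ : F ≃+* F)⟩
    rcases Int.units_eq_one_or (sqChar F c) with e | e
    · rw [e, sqChar_eq_one_iff, this, ← sqChar_eq_one_iff, e]
    · rw [e, sqChar_eq_neg_one_iff, this, ← sqChar_eq_neg_one_iff, e]
  refine Prod.ext (SemidirectProduct.ext ?_ rfl) ?_
  · simp only [pinv, Prod.mk_mul_mk, SemidirectProduct.mul_left]
    rw [H.pmul_mul h h', map_mul, hdet, mul_pow, map_mul, map_inv, map_pow, _root_.mul_inv_rev]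
    ac_rfl
  · simp only [pinv, Prod.mk_mul_mk]
    rw [H.pmul_mul h h', map_mul, hsq]

theorem pinv_congr {g k : GL ι F} {σ τ : RingAut F} (h : IsSemisimilarityPair (⇑Q) g σ)
    (h' : IsSemisimilarityPair (⇑Q) k τ) (e : g = k) (e' : σ = τ) : pinv n h = pinv n h' := by
  subst e e'; rfl

theorem pinv_scalar {g : GL ι F} {σ : RingAut F} (h : IsSemisimilarityPair (⇑Q) g σ) (hσ : σ = 1)
    {c : F} (hg : (g : Mn) = c • 1) : pinv n h = 1 := by
  subst hσ
  have hc : c ≠ 0 := fun h0 => by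
    obtain ⟨v, hv⟩ := H.exists_one
    have := pmul_spec h v
    rw [hg, h0, zero_smul, Matrix.zero_mulVec, QuadraticMap.map_zero, hv, map_one, mul_one] at this
    exact (pmul h).ne_zero this.symm
  have hm : pmul h = Units.mk0 c hc * Units.mk0 c hc := H.pmul_eq h fun v => by
    rw [hg, Matrix.smul_mulVec, Matrix.one_mulVec, QuadraticMap.map_smul, smul_eq_mul]
    rfl
  have hd : Matrix.GeneralLinearGroup.det g = Units.mk0 c hc ^ (2 * n) := Units.ext (by
    rw [Matrix.GeneralLinearGroup.val_det_apply, hg, Matrix.det_smul, Matrix.det_one, mul_one, H.card]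
    simp)
  refine Prod.ext (SemidirectProduct.ext ?_ rfl) ?_
  · show _ * _ = _
    rw [hd, hm, pow_mul, sq, mul_inv_cancel]
    rfl
  · show sqChar F _ = 1
    rw [hm, map_mul, Int.units_mul_self]

theorem pinv_unique {g k : GL ι F} {σ τ : RingAut F} (h : IsSemisimilarityPair (⇑Q) g σ)
    (h' : IsSemisimilarityPair (⇑Q) k τ) (e : (poSemi h : MulAut PQ) = poSemi h') :
    pinv n h = pinv n h' := by
  have key : ∀ {k' : GL ι F} {τ' : RingAut F} (h'' : IsSemisimilarityPair (⇑Q) k' τ'),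
      (poSemi h'' : MulAut PQ) = poSemi h' → pinv n (isPair_inv h') * pinv n h'' = 1 := by
    intro k' τ' h'' he
    rw [← H.pinv_mul]
    obtain ⟨h1, c, hc⟩ := poSemi_eq_one H.nd H.tri H.good (isPair_mul (isPair_inv h') h'') (by
      rw [← poSemi_mul (isPair_inv h') h'', he, ← poSemi_inv h', inv_mul_cancel])
    exact H.pinv_scalar _ h1 hc
  exact (mul_left_cancel ((key h e).trans (key h' rfl).symm))

/-- The invariants of an automorphism. -/
noncomputable def invHom : MulAut PQ →* Tw F × ℤˣ :=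
  MonoidHom.mk' (fun β => pinv n (H.exists_poSemi β).choose_spec.choose_spec.choose) fun β γ => by
    rw [← H.pinv_mul]
    refine H.pinv_unique _ _ ?_
    rw [← (H.exists_poSemi (β * γ)).choose_spec.choose_spec.choose_spec,
      ← poSemi_mul (H.exists_poSemi β).choose_spec.choose_spec.choose
        (H.exists_poSemi γ).choose_spec.choose_spec.choose,
      ← (H.exists_poSemi β).choose_spec.choose_spec.choose_spec,
      ← (H.exists_poSemi γ).choose_spec.choose_spec.choose_spec]

theorem invHom_poSemi {g : GL ι F} {σ : RingAut F} (h : IsSemisimilarityPair (⇑Q) g σ) :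
    H.invHom (poSemi h) = pinv n h :=
  H.pinv_unique _ _ (H.exists_poSemi (poSemi h)).choose_spec.choose_spec.choose_spec.symm

end EvenSpace

/-- Isometries acting on `PΩ(Q)`. -/
noncomputable def ogHom (Q : QuadraticForm F (ι → F)) : isometryGroup F ⇑Q →* MulAut (POmega F ⇑Q) :=
  (goHom Q).comp ((isometryGroup F ⇑Q).subtype.codRestrict _ fun g => isometry_mem_go g)

theorem ogHom_apply (g : OG) : ogHom Q g = poSemi (isPair_refl (isometry_mem_go g)) := rfl

theorem inn_eq_map : Inn PQ = (Omega F ⇑Q).map (ogHom Q) := by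
  ext β
  constructor
  · rintro ⟨x, rfl⟩
    obtain ⟨t, rfl⟩ := omPi_surjective x
    exact ⟨(t : OG), t.2, (conj_eq_goHom t).symm⟩
  · rintro ⟨t, ht, rfl⟩
    exact ⟨π ⟨t, ht⟩, conj_eq_goHom ⟨t, ht⟩⟩

/-- `-1`. -/
noncomputable def negOne (Q : QuadraticForm F (ι → F)) : isometryGroup F ⇑Q :=
  mkIsometry (-1) (by rw [Matrix.det_neg, Matrix.det_one, mul_one]; exact pow_ne_zero _ (neg_ne_zero.2 one_ne_zero))
    fun v => by rw [Matrix.neg_mulVec, Matrix.one_mulVec, QuadraticMap.map_neg]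

theorem ogVal_negOne : ogVal (negOne Q) = -1 := rfl

theorem ogHom_negOne : ogHom Q (negOne Q) = 1 :=
  (ogHom_apply _).trans (poSemi_scalar _ (c := -1) (by
    show ogVal (negOne Q) = _
    rw [ogVal_negOne, neg_one_smul]))

namespace EvenSpace

variable (H : EvenSpace Q n)
include H

/-- The Gram determinant. -/
noncomputable def gramD : Fˣ :=
  Units.mk0 (gramDet (QuadraticMap.polarBilin Q) (Pi.basisFun F ι)) (gramDet_ne_zero H.nd _)

theorem det_pair {g : GL ι F} {σ : RingAut F} (h : IsSemisimilarityPair (⇑Q) g σ) :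
    Matrix.GeneralLinearGroup.det g ^ 2 * H.gramD = pmul h ^ (2 * n) * twAct F σ H.gramD := by
  set A := LinearMap.BilinForm.toMatrix' (QuadraticMap.polarBilin Q)
  have hA : (gramDet (QuadraticMap.polarBilin Q) (Pi.basisFun F ι)) = A.det := rfl
  have key : (g : Mn)ᵀ * A * (g : Mn) = (pmul h : F) • A.map σ := by
    rw [← LinearMap.toMatrix'_toLin' (g : Mn), ← LinearMap.BilinForm.toMatrix'_comp]
    ext i j
    simp only [LinearMap.BilinForm.toMatrix'_apply, LinearMap.BilinForm.comp_apply, Matrix.map_apply,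
      Matrix.smul_apply, Matrix.toLin'_apply, smul_eq_mul, A,
      QuadraticMap.polarBilin_apply_apply, QuadraticMap.polar, ← Matrix.mulVec_add]
    have e : ∀ l : ι, σ ∘ (Pi.single l (1 : F) : V) = Pi.single l 1 := fun l => funext fun x => by
      by_cases hx : x = l
      · subst hx; simp
      · simp [hx]
    have e2 : σ ∘ (Pi.single i (1 : F) + Pi.single j (1 : F) : V) = Pi.single i 1 + Pi.single j 1 := by
      funext x
      simp [map_add, show σ ((Pi.single i (1 : F) : V) x) = (Pi.single i 1 : V) x from congrFun (e i) x,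
        show σ ((Pi.single j (1 : F) : V) x) = (Pi.single j 1 : V) x from congrFun (e j) x]
    have h1 := pmul_spec h (Pi.single i (1 : F) + Pi.single j 1)
    have h2 := pmul_spec h (Pi.single i (1 : F))
    have h3 := pmul_spec h (Pi.single j (1 : F))
    rw [e2] at h1
    rw [e] at h2 h3
    rw [h1, h2, h3, map_sub, map_sub]
    ring
  have h2 := congrArg Matrix.det key
  rw [Matrix.det_mul, Matrix.det_mul, Matrix.det_transpose, Matrix.det_smul, H.card] at h2
  refine Units.ext ?_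
  simp only [Units.val_mul, Units.val_pow_eq_pow_val, twAct_coe, gramD, Units.val_mk0,
    Matrix.GeneralLinearGroup.val_det_apply, hA]
  rw [RingEquiv.map_det]
  exact (by ring : (g : Mn).det ^ 2 * A.det = (g : Mn).det * A.det * (g : Mn).det).trans h2

/-- The possible first invariants. -/
noncomputable def detGroup : Subgroup (Tw F) where
  carrier := {x | x.left ^ 2 * H.gramD = twAct F x.right H.gramD}
  one_mem' := by simp
  mul_mem' := by
    intro x y hx hy
    show (x.left * twAct F x.right y.left) ^ 2 * _ = twAct F (x.right * y.right) _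
    rw [mul_pow, map_mul, MulAut.mul_apply, ← show _ = twAct F y.right H.gramD from hy, map_mul,
      map_pow, ← show _ = twAct F x.right H.gramD from hx]
    exact Units.ext (by simp only [Units.val_mul, Units.val_pow_eq_pow_val]; ring)
  inv_mem' := by
    intro x hx
    show (twAct F x.right⁻¹ x.left⁻¹) ^ 2 * _ = twAct F x.right⁻¹ _
    have h1 := congrArg (twAct F x.right⁻¹) (show _ = twAct F x.right H.gramD from hx)
    rw [← MulAut.mul_apply, ← map_mul, inv_mul_cancel, map_one, MulAut.one_apply, map_mul, map_pow] at h1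
    rw [map_inv (twAct F x.right⁻¹), inv_pow, inv_mul_eq_iff_eq_mul]
    exact h1.symm

omit H in
theorem mem_detGroup (H : EvenSpace Q n) {x : Tw F} :
    x ∈ H.detGroup ↔ x.left ^ 2 * H.gramD = twAct F x.right H.gramD := Iff.rfl

theorem pinv_mem {g : GL ι F} {σ : RingAut F} (h : IsSemisimilarityPair (⇑Q) g σ) :
    (pinv n h).1 ∈ H.detGroup := by
  rw [mem_detGroup]
  show (Matrix.GeneralLinearGroup.det g * (pmul h ^ n)⁻¹) ^ 2 * _ = twAct F σ _
  rw [mul_pow, mul_right_comm, H.det_pair h, inv_pow, ← pow_mul, mul_comm n, mul_right_comm,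
    mul_inv_cancel, one_mul]

theorem refl_invHom {v : V} (hv : Q v ≠ 0) :
    H.invHom (ogHom Q (refl hv)) = (SemidirectProduct.inl (-1 : Fˣ), 1) := by
  rw [ogHom_apply, H.invHom_poSemi]
  have hm : pmul (isPair_refl (isometry_mem_go (refl hv))) = 1 := H.pmul_eq _ fun x => by
    rw [Units.val_one, one_mul]; exact ogVal_quad (refl hv) x
  refine Prod.ext (SemidirectProduct.ext ?_ rfl) ?_
  · show _ * _ = (-1 : Fˣ)
    rw [hm, one_pow, inv_one, mul_one]
    exact Units.ext (refl_det hv)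
  · show sqChar F _ = 1
    rw [hm, map_one]

theorem range_invHom : H.invHom.range = H.detGroup.prod (sqChar F).range := by
  ext x
  constructor
  · rintro ⟨β, rfl⟩
    obtain ⟨g, σ, h, rfl⟩ := H.exists_poSemi β
    rw [H.invHom_poSemi]
    exact ⟨H.pinv_mem h, _, rfl⟩
  rintro ⟨hx, c, hc⟩
  obtain ⟨g, hg⟩ := H.lift x.1.right
  obtain ⟨k, hk⟩ := H.sim (c * (pmul hg)⁻¹ : Fˣ) (Units.ne_zero _)
  have hk' : IsSemisimilarityPair (⇑Q) k (1 : RingAut F) := ⟨_, fun v => hk v⟩
  have h := isPair_mul hk' hg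
  have hp : pmul h = c := by
    rw [H.pmul_mul hk' hg, H.pmul_eq hk' (d := c * (pmul hg)⁻¹) fun v => hk v, map_one, MulAut.one_apply,
      inv_mul_cancel_right]
  have h2 : (pinv n h).2 = x.2 := by rw [← hc]; exact congrArg (sqChar F) hp
  have hr : (pinv n h).1.right = x.1.right := one_mul _
  have hl : (pinv n h).1.left ^ 2 = x.1.left ^ 2 := by
    have e := H.pinv_mem h
    rw [mem_detGroup, hr, ← hx] at e
    exact mul_right_cancel e
  rcases (sq_eq_sq_iff_eq_or_eq_neg (R := F) (a := ((pinv n h).1.left : F)) (b := (x.1.left : F))).1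
    (by rw [← Units.val_pow_eq_pow_val, hl, Units.val_pow_eq_pow_val]) with hl | hl
  · exact ⟨_, (H.invHom_poSemi h).trans (Prod.ext (SemidirectProduct.ext (Units.ext hl) hr) h2)⟩
  · obtain ⟨v, hv⟩ := H.exists_one
    have hv0 : Q v ≠ 0 := by rw [hv]; exact one_ne_zero
    refine ⟨ogHom Q (refl hv0) * poSemi h, ?_⟩
    rw [map_mul, H.refl_invHom, H.invHom_poSemi]
    refine Prod.ext (SemidirectProduct.ext (Units.ext ?_) ?_) ?_
    · show ((-1 : Fˣ) : F) * (1 : RingAut F) ((pinv n h).1.left : F) = _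
      rw [RingAut.one_apply, hl, Units.val_neg, Units.val_one, neg_one_mul, neg_neg]
    · show 1 * (pinv n h).1.right = _
      rw [hr, one_mul]
    · show 1 * (pinv n h).2 = _
      rw [h2, one_mul]

theorem card_detGroup :
    Nat.card H.detGroup = Nat.card {x : Fˣ // x ^ 2 = 1} * Nat.card (RingAut F) := by
  have hs : ∀ σ : RingAut F, ∃ x : Fˣ, (⟨x, σ⟩ : Tw F) ∈ H.detGroup := fun σ => by
    obtain ⟨g, hg⟩ := H.lift σ
    exact ⟨_, H.pinv_mem hg⟩
  choose s hs using hs
  rw [← Nat.card_prod]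
  refine Nat.card_congr
    { toFun := fun x => (⟨x.1.left * (s x.1.right)⁻¹, ?_⟩, x.1.right)
      invFun := fun p => ⟨⟨p.1.1 * s p.2, p.2⟩, ?_⟩
      left_inv := fun x => Subtype.ext (SemidirectProduct.ext (by simp) rfl)
      right_inv := fun p => Prod.ext (Subtype.ext (by simp)) rfl }
  · rw [mul_pow, inv_pow, mul_inv_eq_one]
    exact mul_right_cancel ((H.mem_detGroup.1 x.2).trans (H.mem_detGroup.1 (hs x.1.right)).symm)
  · rw [mem_detGroup, mul_pow, p.1.2, one_mul]
    exact H.mem_detGroup.1 (hs p.2)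

theorem mem_ker_invHom (β : MulAut PQ) :
    β ∈ H.invHom.ker ↔ ∃ g : OG, (ogVal g).det = 1 ∧ β = ogHom Q g := by
  constructor
  · intro hβ
    obtain ⟨g, σ, h, rfl⟩ := H.exists_poSemi β
    rw [MonoidHom.mem_ker, H.invHom_poSemi] at hβ
    obtain rfl : σ = 1 := congrArg (fun x : Tw F × ℤˣ => x.1.right) hβ
    obtain ⟨s, hs⟩ := (sqChar_eq_one_iff _).1 (congrArg Prod.snd hβ)
    have hs0 : s ≠ 0 := fun h0 => (pmul h).ne_zero (by rw [hs, h0, mul_zero])
    have hdet : (g : Mn).det = (pmul h : F) ^ n := by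
      have := congrArg (fun x : Tw F × ℤˣ => x.1.left) hβ
      rw [show (pinv n h).1.left = Matrix.GeneralLinearGroup.det g * (pmul h ^ n)⁻¹ from rfl] at this
      have := congrArg Units.val (mul_inv_eq_one.1 this)
      simpa using this
    have hd : (s⁻¹ • (g : Mn)).det = 1 := by
      rw [Matrix.det_smul, H.card, hdet, pow_mul, sq, ← mul_pow, hs, ← mul_inv, inv_mul_cancel₀
        (mul_ne_zero hs0 hs0), one_pow]
    let u : OG := mkIsometry (s⁻¹ • (g : Mn)) (by rw [hd]; exact one_ne_zero) fun v => by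
      have h1 : Q ((g : Mn) *ᵥ v) = (pmul h : F) * Q v := pmul_spec h v
      rw [Matrix.smul_mulVec, QuadraticMap.map_smul, h1, hs, smul_eq_mul]
      field_simp
    refine ⟨u, hd, ?_⟩
    have hu := isPair_refl (isometry_mem_go u)
    rw [ogHom_apply, ← mul_inv_eq_one, poSemi_inv hu, poSemi_mul h (isPair_inv hu)]
    have e : ∀ {k : GL ι F} {τ : RingAut F} (hk : IsSemisimilarityPair (⇑Q) k τ) (e : τ = 1)
        {c : F} (hc : (k : Mn) = c • 1), (poSemi hk : MulAut PQ) = 1 := by
      intro k τ hk e c hc; subst e; exact poSemi_scalar hk hc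
    refine e _ (by rfl) (c := s) ?_
    rw [Units.val_mul]
    show (g : Mn) * ogVal u⁻¹ = s • 1
    rw [show (g : Mn) = s • ogVal u by
      show (g : Mn) = s • (s⁻¹ • (g : Mn)); rw [smul_smul, mul_inv_cancel₀ hs0, one_smul],
      Matrix.smul_mul, ← ogVal_mul, mul_inv_cancel, ogVal_one]
  · rintro ⟨g, hg, rfl⟩
    rw [MonoidHom.mem_ker, ogHom_apply, H.invHom_poSemi]
    have hm : pmul (isPair_refl (isometry_mem_go g)) = 1 := H.pmul_eq _ fun x => by
      rw [Units.val_one, one_mul]; exact ogVal_quad g x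
    refine Prod.ext (SemidirectProduct.ext ?_ rfl) ?_
    · show _ * _ = (1 : Fˣ)
      rw [hm, one_pow, inv_one, mul_one]
      exact Units.ext hg
    · show sqChar F _ = 1
      rw [hm, map_one]

theorem inn_le_ker : Inn PQ ≤ H.invHom.ker := by
  rw [inn_eq_map]
  rintro _ ⟨g, hg, rfl⟩
  exact (H.mem_ker_invHom _).2 ⟨g, det_omega hg, rfl⟩

theorem det_negOne : (ogVal (negOne Q)).det = 1 := by
  rw [ogVal_negOne, Matrix.det_neg, Matrix.det_one, mul_one, H.card, pow_mul, neg_one_sq, one_pow]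

/-- If `-1` is outside `Ω`, every inner-diagonal invariant-free automorphism is inner. -/
theorem ker_eq_inn {χ : isometryGroup F ⇑Q →* ℤˣ}
    (hχ : ∀ g : OG, g ∈ Omega F ⇑Q ↔ (ogVal g).det = 1 ∧ χ g = 1) (hm : χ (negOne Q) = -1) :
    H.invHom.ker = Inn PQ := by
  refine le_antisymm ?_ H.inn_le_ker
  intro β hβ
  obtain ⟨g, hg, rfl⟩ := (H.mem_ker_invHom β).1 hβ
  rw [inn_eq_map]
  rcases Int.units_eq_one_or (χ g) with h | h
  · exact ⟨g, (hχ g).2 ⟨hg, h⟩, rfl⟩
  · refine ⟨negOne Q * g, (hχ _).2 ⟨?_, by rw [map_mul, hm, h]; rfl⟩, by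
      rw [map_mul, ogHom_negOne, one_mul]⟩
    rw [ogVal_mul, Matrix.det_mul, H.det_negOne, hg, one_mul]

/-- If `-1` is in `Ω`, an isometry of sign `-1` is not inner. -/
theorem ogHom_not_inn {χ : isometryGroup F ⇑Q →* ℤˣ}
    (hχ : ∀ g : OG, g ∈ Omega F ⇑Q ↔ (ogVal g).det = 1 ∧ χ g = 1) (hm : χ (negOne Q) = 1)
    {u : OG} (hu : χ u = -1) : ogHom Q u ∉ Inn PQ := by
  rw [inn_eq_map]
  rintro ⟨t, ht, e⟩
  obtain ⟨-, c, hc⟩ := poSemi_eq_one H.nd H.tri H.good (isPair_refl (isometry_mem_go (u⁻¹ * t)))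
    ((ogHom_apply _).symm.trans (by rw [map_mul, map_inv, e, inv_mul_cancel]))
  obtain ⟨v, hv⟩ := H.exists_one
  have h1 : Q (ogVal (u⁻¹ * t) *ᵥ v) = 1 := by rw [ogVal_quad, hv]
  rw [show ogVal (u⁻¹ * t) = c • 1 from hc, Matrix.smul_mulVec, Matrix.one_mulVec, QuadraticMap.map_smul,
    hv, smul_eq_mul, mul_one] at h1
  have hχ1 : χ (u⁻¹ * t) = 1 := by
    rcases mul_self_eq_one_iff.1 h1 with rfl | rfl
    · rw [show u⁻¹ * t = 1 from ogVal_ext (hc.trans (by rw [one_smul, ogVal_one])), map_one]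
    · rw [show u⁻¹ * t = negOne Q from ogVal_ext (hc.trans (by rw [neg_one_smul, ogVal_negOne])), hm]
  rw [map_mul, map_inv, hu, ((hχ t).1 ht).2] at hχ1
  exact absurd hχ1 (by decide)

/-- If `-1` is in `Ω`, the invariant-free automorphisms are twice the inner ones. -/
theorem card_ker {χ : isometryGroup F ⇑Q →* ℤˣ}
    (hχ : ∀ g : OG, g ∈ Omega F ⇑Q ↔ (ogVal g).det = 1 ∧ χ g = 1) (hm : χ (negOne Q) = 1)
    {u : OG} (hu : (ogVal u).det = 1) (hu' : χ u = -1) :
    Nat.card H.invHom.ker = 2 * Nat.card (Inn PQ) := by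
  rw [← Subgroup.index_mul_card ((Inn PQ).subgroupOf H.invHom.ker),
    Nat.card_congr (Subgroup.subgroupOfEquivOfLe H.inn_le_ker).toEquiv]
  congr 1
  rw [Subgroup.index_eq_two_iff]
  refine ⟨⟨_, (H.mem_ker_invHom _).2 ⟨u, hu, rfl⟩⟩, fun b => ?_⟩
  obtain ⟨g, hg, hb⟩ := (H.mem_ker_invHom _).1 b.2
  simp only [Subgroup.mem_subgroupOf, Subgroup.coe_mul, hb, ← map_mul]
  rw [inn_eq_map]
  rcases Int.units_eq_one_or (χ g) with h | h
  · refine Or.inr ⟨⟨g, (hχ g).2 ⟨hg, h⟩, rfl⟩, ?_⟩
    rw [← inn_eq_map]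
    exact H.ogHom_not_inn hχ hm (by rw [map_mul, h, hu', one_mul])
  · refine Or.inl ⟨⟨g * u, (hχ _).2 ⟨?_, by rw [map_mul, h, hu']; rfl⟩, rfl⟩, ?_⟩
    · rw [ogVal_mul, Matrix.det_mul, hg, hu, one_mul]
    · rw [← inn_eq_map]
      exact H.ogHom_not_inn hχ hm h

theorem card_mulAut_eq : Nat.card (MulAut PQ) =
    Nat.card H.invHom.ker * (Nat.card H.detGroup * Nat.card (sqChar F).range) := by
  rw [← Subgroup.card_mul_index H.invHom.ker, Subgroup.index_ker, H.range_invHom,
    Nat.card_congr (Subgroup.prodEquiv _ _).toEquiv, Nat.card_prod]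

end EvenSpace

/-! ### The sign of `-1` -/

theorem theta_refl_eq (h2 : (2 : F) ≠ 0) (hQ : (QuadraticMap.polarBilin Q).Nondegenerate) (hT : Tri Q)
    {v w : V} (hv : Q v ≠ 0) (hw : Q w ≠ 0) :
    theta Q (refl hv) * theta Q (refl hw) = sqChar F (Units.mk0 _ hv * (Units.mk0 _ hw)⁻¹) := by
  classical
  have same : ∀ {x y : V} (hx : Q x ≠ 0) (hy : Q y ≠ 0), IsSquare (Q x / Q y) →
      theta Q (refl hx) = theta Q (refl hy) := fun hx hy h => by
    have h1 := theta_omega (refl_mod h2 hQ hx hy h)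
    rwa [map_mul, mul_eq_one_iff_eq_inv, Int.units_inv_eq_self] at h1
  have hval : ((Units.mk0 _ hv * (Units.mk0 _ hw)⁻¹ : Fˣ) : F) = Q v / Q w := by
    simp [div_eq_mul_inv]
  by_cases hs : IsSquare (Q v / Q w)
  · rw [(sqChar_eq_one_iff _).2 (hval ▸ hs), same hv hw hs, Int.units_mul_self]
  rw [(sqChar_eq_neg_one_iff _).2 (hval ▸ hs)]
  obtain ⟨ε, v', w', hv', hw', hε, hv1, hw1, hvw⟩ := exists_two_refl h2 hQ hT
  have hcl : ∀ {x : V} (hx : Q x ≠ 0), theta Q (refl hx) =
      if IsSquare (Q x) then theta Q (refl hv') else theta Q (refl hw') := fun {x} hx => by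
    split_ifs with h
    · exact same hx hv' (by rw [hv1, div_one]; exact h)
    · refine same hx hw' ?_
      rw [hw1, div_eq_mul_inv]
      exact isSquare_of_two_nonsquares h2 h fun h' => hε (by simpa using h'.inv)
  rw [hcl hv, hcl hw]
  split_ifs with h1 h3 h3
  · exact absurd (by simpa [div_eq_mul_inv] using h1.mul h3.inv) hs
  · exact hvw
  · rw [mul_comm]; exact hvw
  · exact absurd (by rw [div_eq_mul_inv]; exact isSquare_of_two_nonsquares h2 h1 fun h' => h3 (by
      simpa using h'.inv)) hs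

theorem theta_negOne (h2 : (2 : F) ≠ 0) (H : EvenSpace Q n) :
    theta Q (negOne Q) = sqChar F H.gramD := by
  classical
  obtain ⟨k, b, hb, hq⟩ := exists_orth_basis h2 H.nd
  obtain ⟨v, hv⟩ := H.exists_one
  have hv0 : Q v ≠ 0 := by rw [hv]; exact one_ne_zero
  have key : ∀ S : Finset (Fin k), ∃ g : OG, (∀ i ∈ S, ogVal g *ᵥ b i = -b i) ∧
      (∀ i ∉ S, ogVal g *ᵥ b i = b i) ∧
      theta Q g = theta Q (refl hv0) ^ S.card * sqChar F (∏ i ∈ S, Units.mk0 _ (hq i)) := by
    intro S
    induction S using Finset.induction_on with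
    | empty => exact ⟨1, by simp, by simp, by simp⟩
    | insert i S hi ih =>
      obtain ⟨g, h1, h2', h3⟩ := ih
      refine ⟨refl (hq i) * g, fun j hj => ?_, fun j hj => ?_, ?_⟩
      · rw [ogVal_mul, ← Matrix.mulVec_mulVec]
        rcases Finset.mem_insert.1 hj with rfl | hj'
        · rw [h2' j hi, refl_apply, polar_self2]
          match_scalars
          linear_combination (-2 : F) * inv_mul_cancel₀ (hq j)
        · rw [h1 j hj', refl_apply, QuadraticMap.polar_neg_right, hb i j fun e => hi (e ▸ hj'), neg_zero,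
            mul_zero, zero_smul, sub_zero]
      · rw [Finset.mem_insert, not_or] at hj
        rw [ogVal_mul, ← Matrix.mulVec_mulVec, h2' j hj.2, refl_apply, hb i j (Ne.symm hj.1), mul_zero,
          zero_smul, sub_zero]
      · rw [map_mul, h3, Finset.card_insert_of_notMem hi, Finset.prod_insert hi, map_mul, pow_succ']
        have e := theta_refl_eq h2 H.nd H.tri (hq i) hv0
        rw [show (Units.mk0 _ hv0 : Fˣ) = 1 from Units.ext hv, inv_one, mul_one] at e
        rw [← e, mul_mul_mul_comm, ← mul_assoc (theta Q (refl hv0)), mul_comm (theta Q (refl hv0)) (theta Q (refl (hq i))),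
          mul_assoc (theta Q (refl (hq i))), Int.units_mul_self, mul_one]
  obtain ⟨g, h1, -, h3⟩ := key Finset.univ
  have hg : g = negOne Q := ogVal_ext (Matrix.ext_iff_mulVec.2 fun x => by
    have : (Matrix.mulVecLin (ogVal g)) = Matrix.mulVecLin (ogVal (negOne Q)) := b.ext fun i => by
      rw [Matrix.mulVecLin_apply, Matrix.mulVecLin_apply, h1 i (Finset.mem_univ i), ogVal_negOne,
        Matrix.neg_mulVec, Matrix.one_mulVec]
    exact LinearMap.congr_fun this x)
  have hk : k = 2 * n := by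
    rw [← H.card, ← Module.finrank_pi F (ι := ι), Module.finrank_eq_card_basis b, Fintype.card_fin]
  subst hk
  rw [← hg, h3, Finset.card_univ, Fintype.card_fin, pow_mul, sq, Int.units_mul_self, one_pow, one_mul]
  obtain ⟨t, ht, hdet⟩ := gramDet_change (QuadraticMap.polarBilin Q) (Pi.basisFun F ι) b
  have hdiag : gramDet (QuadraticMap.polarBilin Q) b = ∏ i, (2 * Q (b i)) := by
    rw [gramDet, show LinearMap.BilinForm.toMatrix b (QuadraticMap.polarBilin Q) =
      Matrix.diagonal (fun i => 2 * Q (b i)) from Matrix.ext fun i j => by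
        rw [LinearMap.BilinForm.toMatrix_apply, QuadraticMap.polarBilin_apply_apply]
        by_cases hij : i = j
        · subst hij; rw [Matrix.diagonal_apply_eq, polar_self2]
        · rw [Matrix.diagonal_apply_ne _ hij, hb i j hij], Matrix.det_diagonal]
  rw [Finset.prod_mul_distrib, Finset.prod_const, Finset.card_univ, Fintype.card_fin] at hdiag
  have e : (∏ i, Units.mk0 _ (hq i) : Fˣ) * (Units.mk0 _ h2 ^ n) ^ 2 = Units.mk0 t ht ^ 2 * H.gramD := by
    refine Units.ext ?_
    simp only [Units.val_mul, Units.val_pow_eq_pow_val, Units.coe_prod, Units.val_mk0, EvenSpace.gramD]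
    rw [← hdet, hdiag, ← pow_mul, mul_comm n 2, mul_comm]
  have := congrArg (sqChar F) e
  simpa [map_mul, map_pow, sq, Int.units_mul_self] using this

end Cfsg.Agent.Classical.OrthAut
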