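import Cfsg.Agent.Lib.Classical.OrthOmegaIndex

/-!
The subgroup generated by the long root elements: its transitivity, its equality with `Ω(Q)` in odd
characteristic, and the simplicity of `PΩ(Q)`.
-/

set_option autoImplicit false
set_option linter.unusedSectionVars false
set_option quotPrecheck false

namespace Cfsg.Agent.Classical.OrthAut

open Matrix
open scoped commutatorElement

variable {F : Type*} [Field F] {ι : Type} [Fintype ι] [DecidableEq ι] {Q : QuadraticForm F (ι → F)}

local notation "Mn" => Matrix ι ι F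
local notation "B" => QuadraticMap.polar ⇑Q
local notation "OG" => isometryGroup F ⇑Q

theorem det_eMat_ne {e w : ι → F} (h : OK Q e w) : (eMat Q e w).det ≠ 0 := fun h0 => by
  have h1 := congrArg Matrix.det (eMat_mul h (h.smul (-1)))
  rw [show w + (-1 : F) • w = 0 by module, eMat_zero, Matrix.det_mul, h0, zero_mul, Matrix.det_one] at h1
  exact zero_ne_one h1

/-- A Siegel transformation as an isometry. -/
noncomputable def eOG {e w : ι → F} (h : OK Q e w) : isometryGroup F ⇑Q :=
  mkIsometry (eMat Q e w) (det_eMat_ne h) (eMat_quad h)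

theorem eOG_val {e w : ι → F} (h : OK Q e w) : ogVal (eOG h) = eMat Q e w := rfl

theorem eOG_inv {e w : ι → F} (h : OK Q e w) : (eOG h)⁻¹ = eOG (h.smul (-1)) := by
  refine inv_eq_of_mul_eq_one_right (ogVal_ext ?_)
  rw [ogVal_mul, eOG_val, eOG_val, eMat_mul h (h.smul (-1)), show w + (-1 : F) • w = 0 by module, eMat_zero,
    ogVal_one]

variable (Q) in
/-- The subgroup generated by the long root elements. -/
def sR : Subgroup (isometryGroup F ⇑Q) := Subgroup.closure {g | ogVal g ∈ rootSet Q}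

theorem root_mem_sR {e w : ι → F} (h : TS Q e w) : eOG h.ok ∈ sR Q :=
  Subgroup.subset_closure ⟨e, w, h, rfl⟩

theorem TS.map (g : OG) {a b : ι → F} (h : TS Q a b) : TS Q (ogVal g *ᵥ a) (ogVal g *ᵥ b) := by
  refine ⟨by rw [ogVal_quad]; exact h.1, by rw [ogVal_quad]; exact h.2.1,
    by rw [isometry_polar (ogVal_quad g)]; exact h.2.2.1, fun s t h0 => h.2.2.2 s t ?_⟩
  have h1 := congrArg (ogVal g⁻¹ *ᵥ ·) h0
  simp only [Matrix.mulVec_add, Matrix.mulVec_smul, ogVal_inv_cancel, Matrix.mulVec_zero] at h1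
  exact h1

theorem conj_eOG (g : OG) {e w : ι → F} (h : OK Q e w) :
    ogVal (g * eOG h * g⁻¹) = eMat Q (ogVal g *ᵥ e) (ogVal g *ᵥ w) := by
  rw [ogVal_mul, ogVal_mul, eOG_val, isometry_eMat (ogVal_quad g), Matrix.mul_assoc, ← ogVal_mul,
    mul_inv_cancel, ogVal_one, Matrix.mul_one]

instance sR_normal : (sR Q).Normal := by
  refine ⟨fun n hn g => ?_⟩
  have hle : sR Q ≤ (sR Q).comap (MulAut.conj g).toMonoidHom := by
    refine (Subgroup.closure_le _).2 ?_
    rintro x ⟨a, b, h, hx⟩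
    obtain rfl : x = eOG h.ok := ogVal_ext hx
    exact Subgroup.subset_closure ⟨_, _, h.map g, conj_eOG g h.ok⟩
  exact hle hn

variable (hQ : (QuadraticMap.polarBilin Q).Nondegenerate) (hT : Tri Q)
include hQ hT

/-- All Siegel transformations lie in `sR`. -/
theorem eOG_mem {e w : ι → F} (h : OK Q e w) : eOG h ∈ sR Q := by
  by_cases he : e = 0
  · have h1 : eOG h = 1 := ogVal_ext (by
      rw [eOG_val, he, show (0 : ι → F) = (0 : F) • (0 : ι → F) by simp, eMat_smul_left, zero_smul, eMat_zero,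
        ogVal_one])
    rw [h1]; exact one_mem _
  obtain ⟨f, hf, hef⟩ := exists_pair hQ he h.1
  have P : Pair Q e f := ⟨h.1, hf, hef⟩
  obtain ⟨u, u', hu, h1, h2⟩ := exists_frame hQ hT P
  have sing : ∀ x, Q x = 0 → Perp Q e f x → ∀ hx : OK Q e x, eOG hx ∈ sR Q := by
    intro x hx hp hok
    by_cases hx0 : x = 0
    · have h3 : eOG hok = 1 := ogVal_ext (by rw [eOG_val, hx0, eMat_zero, ogVal_one])
      rw [h3]; exact one_mem _
    · exact root_mem_sR (TS.of_perp P hx hp hx0)
  set w₀ := w + (-B f w) • e with hw0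
  have hp : Perp Q e f w₀ := by
    constructor
    · rw [hw0, QuadraticMap.polar_add_right, h.2, QuadraticMap.polar_smul_right, polar_self' h.1]; simp
    · rw [hw0, QuadraticMap.polar_add_right, QuadraticMap.polar_smul_right,
        QuadraticMap.polar_comm _ f e, hef]; simp
  obtain ⟨s, t, hst⟩ := exists_sing_shift hu w₀
  have hp' : Perp Q e f (w₀ + s • u + t • u') := by
    constructor <;> simp [QuadraticMap.polar_add_right, QuadraticMap.polar_smul_right, hp.1, hp.2, h1.1,
      h1.2, h2.1, h2.2]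
  have hs : Perp Q e f ((-s) • u) := ⟨by simp [QuadraticMap.polar_smul_right, h1.1],
    by simp [QuadraticMap.polar_smul_right, h1.2]⟩
  have ht : Perp Q e f ((-t) • u') := ⟨by simp [QuadraticMap.polar_smul_right, h2.1],
    by simp [QuadraticMap.polar_smul_right, h2.2]⟩
  have k1 : OK Q e (w₀ + s • u + t • u') := ⟨h.1, hp'.1⟩
  have k2 : OK Q e ((-s) • u) := ⟨h.1, hs.1⟩
  have k3 : OK Q e ((-t) • u') := ⟨h.1, ht.1⟩
  have heq : eOG h = eOG k1 * eOG k2 * eOG k3 := ogVal_ext (by
    simp only [ogVal_mul, eOG_val]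
    rw [eMat_mul k1 k2, eMat_mul (k1.add k2) k3, ← eMat_add_self h (-B f w), ← hw0]
    congr 1
    module)
  rw [heq]
  exact mul_mem (mul_mem (sing _ hst hp' k1) (sing _ (by simp [QuadraticMap.map_smul, hu.1]) hs k2))
    (sing _ (by simp [QuadraticMap.map_smul, hu.2.1]) ht k3)

/-- The basic move between orthogonal singular vectors. -/
theorem exists_step {x y z : ι → F} (hx : Q x = 0) (hy : Q y = 0) (hxy : B x y = 0) (hzx : B z x = 1)
    (hzy : B z y = 1) :
    ∃ g ∈ sR Q, ogVal g *ᵥ x = y ∧ ∀ a, B a x = 0 → B a y = 0 → B a z = 0 → ogVal g *ᵥ a = a := by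
  set z' := z + (-Q z) • x with hz'
  have hz'x : B z' x = 1 := by
    rw [hz', QuadraticMap.polar_add_left, hzx, QuadraticMap.polar_smul_left, polar_self' hx]; simp
  have hz'y : B z' y = 1 := by
    rw [hz', QuadraticMap.polar_add_left, hzy, QuadraticMap.polar_smul_left, hxy]; simp
  have hok : OK Q z' (y - x) :=
    ⟨by rw [hz', quad_add_smul, hx, hzx]; ring,
      by rw [QuadraticMap.polar_sub_right, hz'x, hz'y, sub_self]⟩
  have hq : Q (y - x) = 0 := by
    rw [sub_eq_add_neg, ← neg_one_smul F x, quad_add_smul, hy, hx, QuadraticMap.polar_comm _ y x, hxy]; ring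
  refine ⟨eOG hok, eOG_mem hQ hT hok, ?_, fun a h1 h2 h3 => ?_⟩
  · rw [eOG_val, eMat_mulVec, hq, hz'x, QuadraticMap.polar_sub_left, QuadraticMap.polar_comm _ y x, hxy,
      polar_self' hx]
    module
  · have haz : B z' a = 0 := by
      rw [hz', QuadraticMap.polar_add_left, QuadraticMap.polar_comm _ z a, h3, QuadraticMap.polar_smul_left,
        QuadraticMap.polar_comm _ x a, h1]; simp
    rw [eOG_val, eMat_mulVec, haz, QuadraticMap.polar_sub_left, QuadraticMap.polar_comm _ y a, h2,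
      QuadraticMap.polar_comm _ x a, h1]
    module

/-- `sR` is transitive on singular points with signs and scalars. -/
theorem exists_move {a b : ι → F} (ha : a ≠ 0) (haa : Q a = 0) (hb : b ≠ 0) (hbb : Q b = 0) :
    ∃ g ∈ sR Q, ogVal g *ᵥ a = b := by
  have key : ∀ {x y : ι → F}, TS Q x y → ∃ g ∈ sR Q, ogVal g *ᵥ x = y := fun {x y} h => by
    obtain ⟨z, h1, h2⟩ := exists_polar2 hQ h.2.2.2 1 1
    obtain ⟨g, hg, hgx, -⟩ := exists_step hQ hT h.1 h.2.1 h.2.2.1 (z := z)
      (by rw [QuadraticMap.polar_comm]; exact h1) (by rw [QuadraticMap.polar_comm]; exact h2)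
    exact ⟨g, hg, hgx⟩
  suffices h : ∃ c, TS Q a c ∧ TS Q c b by
    obtain ⟨c, h1, h2⟩ := h
    obtain ⟨g, hg, hga⟩ := key h1
    obtain ⟨k, hk, hkc⟩ := key h2
    exact ⟨k * g, mul_mem hk hg, by rw [ogVal_mul, ← Matrix.mulVec_mulVec, hga, hkc]⟩
  obtain ⟨f, hf, haf⟩ := exists_pair hQ ha haa
  have P : Pair Q a f := ⟨haa, hf, haf⟩
  by_cases hab : B a b = 0
  · by_cases hdep : ∃ r : F, b = r • a
    · obtain ⟨r, rfl⟩ := hdep
      have hr : r ≠ 0 := fun h0 => hb (by rw [h0, zero_smul])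
      obtain ⟨u, u', hu, h1, -⟩ := exists_frame hQ hT P
      have hts := TS.of_perp P hu.1 h1 hu.ne
      refine ⟨u, hts, hu.1, hbb, by rw [QuadraticMap.polar_smul_right, QuadraticMap.polar_comm, h1.1]; simp,
        fun s t h0 => ?_⟩
      obtain ⟨e1, e2⟩ := hts.2.2.2 (t * r) s (by rw [← h0]; module)
      exact ⟨e2, by simpa [hr] using e1⟩
    · have hind : ∀ s t : F, s • a + t • b = 0 → s = 0 ∧ t = 0 := fun s t h0 => by
        by_cases ht : t = 0
        · exact ⟨(smul_eq_zero.1 (by simpa [ht] using h0)).resolve_right ha, ht⟩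
        · exfalso
          refine hdep ⟨-(t⁻¹ * s), ?_⟩
          have := congrArg (t⁻¹ • ·) h0
          simp only [smul_add, smul_smul, inv_mul_cancel₀ ht, one_smul, smul_zero] at this
          linear_combination (norm := module) this
      -- a point orthogonal to both, outside their line
      set b₀ := b + (-B f b) • a with hb₀
      have hp : Perp Q a f b₀ := by
        constructor
        · rw [hb₀, QuadraticMap.polar_add_right, hab, QuadraticMap.polar_smul_right, polar_self' haa]; simp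
        · rw [hb₀, QuadraticMap.polar_add_right, QuadraticMap.polar_smul_right,
            QuadraticMap.polar_comm _ f a, haf]; simp
      have hb0 : b₀ ≠ 0 := fun h0 => one_ne_zero (hind (-B f b) 1 (by rw [← h0, hb₀]; module)).2
      have hq0 : Q b₀ = 0 := by rw [hb₀, quad_add_smul, hbb, haa, QuadraticMap.polar_comm _ b a, hab]; ring
      obtain ⟨b', P', hp'⟩ := exists_partner hQ P hp hb0 hq0
      obtain ⟨u, hu0, hu, hu1, hu2⟩ := exists_singular_perp2 hQ hT P P' hp hp'
      have hub : B u b = 0 := by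
        rw [QuadraticMap.polar_comm, show b = b₀ + B f b • a by rw [hb₀]; module,
          QuadraticMap.polar_add_left, QuadraticMap.polar_smul_left, hu2.1, hu1.1]; simp
      refine ⟨u, TS.of_perp P hu hu1 hu0, hu, hbb, hub, fun s t h0 => ?_⟩
      have h4 := congrArg (B b') h0
      have hb'b : B b' b = 1 := by
        rw [show b = b₀ + B f b • a by rw [hb₀]; module, QuadraticMap.polar_add_right,
          QuadraticMap.polar_comm _ b' b₀, P'.2.2, QuadraticMap.polar_smul_right,
          QuadraticMap.polar_comm _ b' a, hp'.1]; simp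
      simp [QuadraticMap.polar_add_right, QuadraticMap.polar_smul_right, hu2.2, hb'b] at h4
      exact ⟨by simpa [h4, hu0] using h0, h4⟩
  · obtain ⟨c, hc0, hc, h1, h2⟩ := exists_singular_perp hT a b
    refine ⟨c, ⟨haa, hc, h1, fun s t h0 => ?_⟩, hc, hbb, by rw [QuadraticMap.polar_comm]; exact h2,
      fun s t h0 => ?_⟩
    · have h3 := congrArg (B b) h0
      simp [QuadraticMap.polar_add_right, QuadraticMap.polar_smul_right, h2,
        QuadraticMap.polar_comm _ b a, hab] at h3
      exact ⟨h3, by simpa [h3, hc0] using h0⟩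
    · have h3 := congrArg (B a) h0
      simp [QuadraticMap.polar_add_right, QuadraticMap.polar_smul_right, h1, hab] at h3
      exact ⟨by simpa [h3, hc0] using h0, h3⟩

/-- `sR` is transitive on pairs. -/
theorem exists_move_pair {a f a' f' : ι → F} (P : Pair Q a f) (P' : Pair Q a' f') :
    ∃ g ∈ sR Q, ogVal g *ᵥ a = a' ∧ ogVal g *ᵥ f = f' := by
  obtain ⟨g, hg, hga⟩ := exists_move hQ hT P.ne P.1 P'.ne P'.1
  set f₁ := ogVal g *ᵥ f
  have h1 : B a' f₁ = 1 := by rw [← hga, isometry_polar (ogVal_quad g), P.2.2]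
  have h2 : Q f₁ = 0 := by rw [ogVal_quad]; exact P.2.1
  have hok : OK Q a' (f' - f₁) := ⟨P'.1, by rw [QuadraticMap.polar_sub_right, h1, P'.2.2, sub_self]⟩
  refine ⟨eOG hok * g, mul_mem (eOG_mem hQ hT hok) hg, ?_, ?_⟩
  · rw [ogVal_mul, ← Matrix.mulVec_mulVec, hga, eOG_val, eMat_mulVec, polar_self' P'.1,
      QuadraticMap.polar_comm _ _ a', hok.2]
    module
  · rw [ogVal_mul, ← Matrix.mulVec_mulVec, eOG_val]
    have h3 := eMat_quad hok f₁
    have h4 : eMat Q a' (f' - f₁) *ᵥ f₁ = f' + (-(B (f' - f₁) f₁) - Q (f' - f₁)) • a' := by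
      rw [eMat_mulVec, h1]; module
    rw [h4, quad_add_smul, P'.1, P'.2.1, QuadraticMap.polar_comm _ f' a', P'.2.2, h2] at h3
    rw [h4, show -(B (f' - f₁) f₁) - Q (f' - f₁) = 0 by linear_combination h3, zero_smul, add_zero]

/-- An anisotropic vector is in a hyperbolic plane. -/
theorem exists_pair_through {v : ι → F} (hv : Q v ≠ 0) :
    ∃ a b, Pair Q a b ∧ v = b + Q v • a := by
  obtain ⟨e, f, P⟩ := exists_basePair hQ hT
  obtain ⟨a, ha, hav⟩ : ∃ a, Q a = 0 ∧ B a v ≠ 0 := by
    by_contra hcon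
    push Not at hcon
    refine hv ?_
    rw [show v = 0 from eq_zero_of_polar hQ fun z => ?_, QuadraticMap.map_zero]
    obtain ⟨s, t, hz⟩ := exists_sing_shift P z
    have h1 := hcon _ hz
    rw [QuadraticMap.polar_add_left, QuadraticMap.polar_add_left, QuadraticMap.polar_smul_left,
      QuadraticMap.polar_smul_left, hcon e P.1, hcon f P.2.1, smul_zero, smul_zero, add_zero, add_zero] at h1
    rw [QuadraticMap.polar_comm]; exact h1
  set a' := (B a v)⁻¹ • a with ha'
  have h1 : B a' v = 1 := by rw [ha', QuadraticMap.polar_smul_left, smul_eq_mul, inv_mul_cancel₀ hav]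
  have h0 : Q a' = 0 := by rw [ha', QuadraticMap.map_smul, ha, smul_zero]
  refine ⟨a', v + (-Q v) • a', ⟨h0, ?_, ?_⟩, by module⟩
  · rw [quad_add_smul, h0, QuadraticMap.polar_comm, h1]; ring
  · rw [QuadraticMap.polar_add_right, h1, QuadraticMap.polar_smul_right, polar_self' h0]; simp

/-- `sR` is transitive on the vectors of a given non-zero value. -/
theorem exists_move_value {v w : ι → F} (hv : Q v ≠ 0) (h : Q w = Q v) :
    ∃ g ∈ sR Q, ogVal g *ᵥ v = w := by
  obtain ⟨a, b, P, hab⟩ := exists_pair_through hQ hT hv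
  obtain ⟨a', b', P', hab'⟩ := exists_pair_through hQ hT (v := w) (by rw [h]; exact hv)
  obtain ⟨g, hg, h1, h2⟩ := exists_move_pair hQ hT P P'
  exact ⟨g, hg, by rw [hab, Matrix.mulVec_add, Matrix.mulVec_smul, h1, h2, ← h, ← hab']⟩

variable [Fintype F]

theorem sR_le_omega : sR Q ≤ Omega F ⇑Q := by
  obtain ⟨p, hp⟩ := CharP.exists F
  haveI : Fact p.Prime := ⟨CharP.char_is_prime F p⟩
  refine (Subgroup.closure_le _).2 ?_
  rintro x ⟨a, b, h, hx⟩
  obtain ⟨s, hs⟩ := exists_eOm (p := p) hQ hT h.ok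
  rw [show x = (s : OG) from ogVal_ext (hx.trans hs.symm)]
  exact s.2

/-- In odd characteristic `Ω` is generated by the long root elements. -/
theorem omega_eq_sR (h2 : (2 : F) ≠ 0) : Omega F ⇑Q = sR Q := by
  refine le_antisymm ?_ (sR_le_omega hQ hT)
  set q := QuotientGroup.mk' (sR Q)
  obtain ⟨ε, hε⟩ := FiniteField.exists_nonsquare (F := F)
    (fun hc => h2 (by haveI := ringChar.of_eq hc; exact CharTwo.two_eq_zero))
  have hε0 : ε ≠ 0 := fun h0 => hε (h0 ▸ IsSquare.zero)
  obtain ⟨e, f, P⟩ := exists_basePair hQ hT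
  obtain ⟨u, u', hu, h1, h1'⟩ := exists_frame hQ hT P
  have hQv : Q (e + f) = 1 := by rw [quad_add, P.1, P.2.1, P.2.2]; simp
  have hQw : Q (u + ε • u') = ε := by rw [quad_add_smul, hu.1, hu.2.1, hu.2.2]; ring
  have hv : Q (e + f) ≠ 0 := by rw [hQv]; exact one_ne_zero
  have hw : Q (u + ε • u') ≠ 0 := by rw [hQw]; exact hε0
  have horth : B (e + f) (u + ε • u') = 0 := by
    simp [QuadraticMap.polar_add_left, QuadraticMap.polar_add_right, QuadraticMap.polar_smul_right,
      h1.1, h1.2, h1'.1, h1'.2]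
  have hcom : refl hv * refl hw = refl hw * refl hv := by
    refine ogVal_ext (Matrix.ext_iff_mulVec.2 fun x => ?_)
    rw [ogVal_mul, ogVal_mul, ← Matrix.mulVec_mulVec, ← Matrix.mulVec_mulVec]
    simp only [refl_apply, QuadraticMap.polar_sub_right, QuadraticMap.polar_smul_right, horth,
      QuadraticMap.polar_comm _ (u + ε • u') (e + f), smul_zero, sub_zero]
    module
  have same : ∀ {v w : ι → F} (hv : Q v ≠ 0) (hw : Q w ≠ 0), IsSquare (Q v / Q w) →
      q (refl hv) = q (refl hw) := by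
    intro v w hv hw hs
    obtain ⟨c, hc⟩ := hs
    have hvw : Q (c • w) = Q v := by
      rw [QuadraticMap.map_smul, smul_eq_mul, ← hc, div_mul_cancel₀ _ hw]
    obtain ⟨g, hg, hgv⟩ := exists_move_value hQ hT hv hvw
    have hgv0 : Q (ogVal g *ᵥ v) ≠ 0 := by rw [ogVal_quad]; exact hv
    have e1 : refl hgv0 = refl hw := (refl_congr hw hgv0 hgv).symm
    rw [← e1, ← refl_conj g hv hgv0, map_mul, map_mul,
      show q g = 1 from (QuotientGroup.eq_one_iff g).2 hg, map_inv,
      show q g = 1 from (QuotientGroup.eq_one_iff g).2 hg, inv_one, one_mul, mul_one]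
  have two : ∀ {v : ι → F} (hv' : Q v ≠ 0), q (refl hv') = q (refl hv) ∨ q (refl hv') = q (refl hw) := by
    intro v hv'
    by_cases hs : IsSquare (Q v)
    · exact Or.inl (same hv' hv (by rwa [hQv, div_one]))
    · refine Or.inr (same hv' hw ?_)
      rw [hQw, div_eq_mul_inv]
      exact isSquare_of_two_nonsquares h2 hs fun h => hε (by simpa using h.inv)
  have hgen : ∀ {v v' : ι → F} (h : Q v ≠ 0) (h' : Q v' ≠ 0), Commute (q (refl h)) (q (refl h')) := by
    intro v v' h h'
    have hq : Commute (q (refl hv)) (q (refl hw)) := by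
      show q (refl hv) * q (refl hw) = q (refl hw) * q (refl hv)
      rw [← map_mul, ← map_mul, hcom]
    rcases two h with e1 | e1 <;> rcases two h' with e2 | e2 <;> rw [e1, e2]
    exacts [hq, hq.symm]
  have hstep : ∀ (y : OG) {v : ι → F} (h : Q v ≠ 0), Commute (q (refl h)) (q y) := by
    intro y v h
    refine Subgroup.closure_induction (p := fun y _ => Commute (q (refl h)) (q y)) ?_ ?_ ?_ ?_
      (reflections_generate h2 hQ y)
    · rintro _ ⟨w, hw', rfl⟩; exact hgen h hw'
    · rw [map_one]; exact Commute.one_right _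
    · intro a b _ _ ha hb; rw [map_mul]; exact ha.mul_right hb
    · intro a _ ha; rw [map_inv]; exact ha.inv_right
  have hall : ∀ x y : OG, Commute (q x) (q y) := by
    intro x y
    refine Subgroup.closure_induction (p := fun x _ => Commute (q x) (q y)) ?_ ?_ ?_ ?_
      (reflections_generate h2 hQ x)
    · rintro _ ⟨w, hw', rfl⟩; exact hstep y hw'
    · rw [map_one]; exact Commute.one_left _
    · intro a b _ _ ha hb; rw [map_mul]; exact ha.mul_left hb
    · intro a _ ha; rw [map_inv]; exact ha.inv_left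
  show commutator _ ≤ sR Q
  rw [commutator_def, Subgroup.commutator_le]
  intro x _ y _
  rw [← QuotientGroup.eq_one_iff]
  show q ⁅x, y⁆ = 1
  rw [map_commutatorElement]
  exact commutatorElement_eq_one_iff_commute.2 (hall x y)

omit [Fintype F] in
/-- `sR` is transitive on flags of a singular point and a long root element through it. -/
theorem exists_move_TS {a b c d : ι → F} (h : TS Q a b) (h' : TS Q c d) :
    ∃ g ∈ sR Q, ogVal g *ᵥ a = c ∧ ∃ k : F, ogVal g *ᵥ b = d + k • c := by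
  obtain ⟨g, hg, hga⟩ := exists_move hQ hT h.left_ne h.1 h'.left_ne h'.1
  have hts : TS Q c (ogVal g *ᵥ b) := hga ▸ h.map g
  obtain ⟨f, hf, hcf⟩ := exists_pair hQ h'.left_ne h'.1
  have P : Pair Q c f := ⟨h'.1, hf, hcf⟩
  have prep : ∀ {y : ι → F}, TS Q c y → Perp Q c f (y + (-B f y) • c) ∧ Q (y + (-B f y) • c) = 0 ∧
      y + (-B f y) • c ≠ 0 := fun {y} hy => by
    refine ⟨⟨?_, ?_⟩, ?_, fun h0 => ?_⟩
    · rw [QuadraticMap.polar_add_right, hy.2.2.1, QuadraticMap.polar_smul_right, polar_self' hy.1]; simp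
    · rw [QuadraticMap.polar_add_right, QuadraticMap.polar_smul_right, QuadraticMap.polar_comm _ f c, hcf]
      simp
    · rw [quad_add_smul, hy.2.1, hy.1, QuadraticMap.polar_comm _ y c, hy.2.2.1]; ring
    · exact one_ne_zero (hy.2.2.2 (-B f y) 1 (by rw [← h0]; module)).2
  obtain ⟨hx, hxq, hx0⟩ := prep hts
  obtain ⟨hy, hyq, hy0⟩ := prep h'
  set x := ogVal g *ᵥ b + (-B f (ogVal g *ᵥ b)) • c
  set y := d + (-B f d) • c
  -- moves inside the orthogonal space of the pair
  have step : ∀ {x y : ι → F}, Perp Q c f x → Perp Q c f y → TS Q x y →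
      ∃ k ∈ sR Q, ogVal k *ᵥ c = c ∧ ogVal k *ᵥ x = y := fun {x y} hx hy hxy => by
    obtain ⟨z, h1, h2, h3⟩ := exists_polar3 hQ (a := x) (b := y) (c := c) (fun s t r h0 => by
      have h4 := congrArg (B f) h0
      simp [QuadraticMap.polar_add_right, QuadraticMap.polar_smul_right, hx.2, hy.2,
        QuadraticMap.polar_comm _ f c, hcf] at h4
      obtain ⟨h5, h6⟩ := hxy.2.2.2 s t (by simpa [h4] using h0)
      exact ⟨h5, h6, h4⟩) 1 1 0
    obtain ⟨k, hk, hkx, hkfix⟩ := exists_step hQ hT hxy.1 hxy.2.1 hxy.2.2.1 (z := z)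
      (by rw [QuadraticMap.polar_comm]; exact h1) (by rw [QuadraticMap.polar_comm]; exact h2)
    exact ⟨k, hk, hkfix c hx.1 hy.1 h3, hkx⟩
  obtain ⟨k, hk, hkc, hkx⟩ : ∃ k ∈ sR Q, ogVal k *ᵥ c = c ∧ ogVal k *ᵥ x = y := by
    suffices h5 : ∃ u, Perp Q c f u ∧ TS Q x u ∧ TS Q u y by
      obtain ⟨u, hu, h1, h2⟩ := h5
      obtain ⟨k1, hk1, hc1, hx1⟩ := step hx hu h1
      obtain ⟨k2, hk2, hc2, hx2⟩ := step hu hy h2
      exact ⟨k2 * k1, mul_mem hk2 hk1, by rw [ogVal_mul, ← Matrix.mulVec_mulVec, hc1, hc2],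
        by rw [ogVal_mul, ← Matrix.mulVec_mulVec, hx1, hx2]⟩
    by_cases hxy : B x y = 0
    · by_cases hdep : ∃ r : F, y = r • x
      · obtain ⟨r, hr⟩ := hdep
        have hr0 : r ≠ 0 := fun h0 => hy0 (by rw [hr, h0, zero_smul])
        obtain ⟨x', Px, hpx⟩ := exists_partner hQ P hx hx0 hxq
        obtain ⟨u, hu0, hu, hu1, hu2⟩ := exists_singular_perp2 hQ hT P Px hx hpx
        have hts' := TS.of_perp Px hu hu2 hu0
        refine ⟨u, hu1, hts', hu, hyq, ?_, fun s t h0 => ?_⟩
        · rw [hr, QuadraticMap.polar_smul_right, QuadraticMap.polar_comm, hu2.1]; simp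
        · obtain ⟨e1, e2⟩ := hts'.2.2.2 (t * r) s (by rw [← h0, hr]; module)
          exact ⟨e2, by simpa [hr0] using e1⟩
      · have hind : ∀ s t : F, s • x + t • y = 0 → s = 0 ∧ t = 0 := fun s t h0 => by
          by_cases ht : t = 0
          · exact ⟨(smul_eq_zero.1 (by simpa [ht] using h0)).resolve_right hx0, ht⟩
          · exfalso
            refine hdep ⟨-(t⁻¹ * s), ?_⟩
            have := congrArg (t⁻¹ • ·) h0
            simp only [smul_add, smul_smul, inv_mul_cancel₀ ht, one_smul, smul_zero] at this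
            linear_combination (norm := module) this
        -- a partner of `x` orthogonal to `y`, then a point orthogonal to all
        obtain ⟨z, h1, h2, h3, h4⟩ := exists_polar4 hQ (a := x) (b := y) (c := c) (d := f)
          (fun s t r r' h0 => by
            have e1 := congrArg (B f) h0
            have e2 := congrArg (B c) h0
            simp [QuadraticMap.polar_add_right, QuadraticMap.polar_smul_right, hx.1, hy.1, hx.2, hy.2,
              QuadraticMap.polar_comm _ f c, hcf, polar_self' P.1, polar_self' P.2.1] at e1 e2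
            obtain ⟨e3, e4⟩ := hind s t (by simpa [e1, e2] using h0)
            exact ⟨e3, e4, e1, e2⟩) 1 0 0 0
        set x' := z + (-Q z) • x
        have Px : Pair Q x x' := ⟨hxq, by rw [quad_add_smul, hxq, QuadraticMap.polar_comm, h1]; ring,
          by rw [QuadraticMap.polar_add_right, h1, QuadraticMap.polar_smul_right, polar_self' hxq]; simp⟩
        have hpy : Perp Q x x' y := ⟨hxy, by
          rw [QuadraticMap.polar_add_left, QuadraticMap.polar_comm _ z y, h2, QuadraticMap.polar_smul_left,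
            hxy]; simp⟩
        have hpx' : Perp Q c f x' := by
          constructor
          · rw [QuadraticMap.polar_add_right, h3, QuadraticMap.polar_smul_right, hx.1]; simp
          · rw [QuadraticMap.polar_add_right, h4, QuadraticMap.polar_smul_right, hx.2]; simp
        -- `x` itself followed by a direct step is not needed: take a third point
        obtain ⟨y', Py, hpy', hpy''⟩ := exists_partner2 hQ P Px hx hpx' hy hpy hy0 hyq
        refine ⟨x + y, ⟨?_, ?_⟩, ⟨hxq, ?_, ?_, fun s t h0 => ?_⟩, ?_, hyq, ?_, fun s t h0 => ?_⟩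
        · rw [QuadraticMap.polar_add_right, hx.1, hy.1, add_zero]
        · rw [QuadraticMap.polar_add_right, hx.2, hy.2, add_zero]
        · rw [quad_add, hxq, hyq, hxy]; simp
        · rw [QuadraticMap.polar_add_right, polar_self' hxq, hxy, add_zero]
        · obtain ⟨e1, e2⟩ := hind (s + t) t (by rw [← h0]; module)
          exact ⟨by simpa [e2] using e1, e2⟩
        · rw [quad_add, hxq, hyq, hxy]; simp
        · rw [QuadraticMap.polar_add_left, polar_self' hyq, hxy, add_zero]
        · obtain ⟨e1, e2⟩ := hind s (s + t) (by rw [← h0]; module)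
          exact ⟨e1, by simpa [e1] using e2⟩
    · set y' := (B x y)⁻¹ • y with hy'
      have Pxy : Pair Q x y' := ⟨hxq, by rw [hy', QuadraticMap.map_smul, hyq, smul_zero],
        by rw [hy', QuadraticMap.polar_smul_right, smul_eq_mul, inv_mul_cancel₀ hxy]⟩
      have hpy' : Perp Q c f y' := ⟨by rw [hy', QuadraticMap.polar_smul_right, hy.1]; simp,
        by rw [hy', QuadraticMap.polar_smul_right, hy.2]; simp⟩
      obtain ⟨u, hu0, hu, hu1, hu2⟩ := exists_singular_perp2 hQ hT P Pxy hx hpy'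
      have hts' := TS.of_perp Pxy hu hu2 hu0
      have huy : B u y = 0 := by
        rw [QuadraticMap.polar_comm, show y = B x y • y' by
          rw [hy', smul_smul, mul_inv_cancel₀ hxy, one_smul], QuadraticMap.polar_smul_left, hu2.2]; simp
      refine ⟨u, hu1, hts', hu, hyq, huy, fun s t h0 => ?_⟩
      have e1 := congrArg (B x) h0
      simp [QuadraticMap.polar_add_right, QuadraticMap.polar_smul_right, hu2.1, hxy] at e1
      exact ⟨by simpa [e1, hu0] using h0, e1⟩
  refine ⟨k * g, mul_mem hk hg, by rw [ogVal_mul, ← Matrix.mulVec_mulVec, hga, hkc],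
    B f (ogVal g *ᵥ b) + -B f d, ?_⟩
  have hgb : ogVal g *ᵥ b = x + B f (ogVal g *ᵥ b) • c := by simp only [x]; module
  rw [ogVal_mul, ← Matrix.mulVec_mulVec]
  conv_lhs => rw [hgb]
  rw [Matrix.mulVec_add, Matrix.mulVec_smul, hkx, hkc]
  simp only [y]
  module

omit [Fintype F] in
/-- A group normalised by `sR` with a non-scalar element contains `sR`. -/
theorem sR_le_of_normalized {N : Subgroup (isometryGroup F ⇑Q)}
    (hN : ∀ n ∈ N, ∀ t ∈ sR Q, t * n * t⁻¹ ∈ N) {n : OG} (hn : n ∈ N)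
    (hns : ¬ ∃ c : F, ogVal n = c • (1 : Mn)) : sR Q ≤ N := by
  -- a single root element is enough
  suffices h : ∃ a b, ∃ h : TS Q a b, eOG h.ok ∈ N by
    obtain ⟨a, b, h, hab⟩ := h
    refine (Subgroup.closure_le _).2 ?_
    rintro x ⟨c, d, h', hx⟩
    obtain ⟨t, ht, hta, k, htb⟩ := exists_move_TS hQ hT h h'
    have := hN _ hab t ht
    rwa [show t * eOG h.ok * t⁻¹ = x from ogVal_ext (by
      rw [conj_eOG, hta, htb, eMat_add_self h'.ok, hx])] at this
  have comm : ∀ {m : OG}, m ∈ N → ∀ {e w : ι → F} (h : OK Q e w), m * eOG h * m⁻¹ * (eOG h)⁻¹ ∈ N :=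
    fun {m} hm {e w} h => by
      have := mul_mem hm (hN _ (inv_mem hm) _ (eOG_mem hQ hT h))
      rwa [← mul_assoc, ← mul_assoc] at this
  -- an element moving a singular point to an orthogonal one
  obtain ⟨m, a, hm, haa, hab, hind⟩ : ∃ m a, m ∈ N ∧ Q a = 0 ∧ B a (ogVal m *ᵥ a) = 0 ∧
      ∀ s t : F, s • a + t • (ogVal m *ᵥ a) = 0 → s = 0 ∧ t = 0 := by
    obtain ⟨a, haa, hna⟩ : ∃ a, Q a = 0 ∧ ¬ ∃ c : F, ogVal n *ᵥ a = c • a := by
      by_contra hcon
      push Not at hcon
      exact hns (scalar_of_fix_singular hQ hT hcon)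
    have ha : a ≠ 0 := fun h0 => hna ⟨0, by simp [h0]⟩
    have hind : ∀ s t : F, s • a + t • (ogVal n *ᵥ a) = 0 → s = 0 ∧ t = 0 := fun s t h0 => by
      by_cases ht : t = 0
      · exact ⟨(smul_eq_zero.1 (by simpa [ht] using h0)).resolve_right ha, ht⟩
      · exfalso
        refine hna ⟨-(t⁻¹ * s), ?_⟩
        have := congrArg (t⁻¹ • ·) h0
        simp only [smul_add, smul_smul, inv_mul_cancel₀ ht, one_smul, smul_zero] at this
        linear_combination (norm := module) this
    by_cases hab : B a (ogVal n *ᵥ a) = 0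
    · exact ⟨n, a, hn, haa, hab, hind⟩
    set b := ogVal n *ᵥ a
    set a₀ := ogVal n⁻¹ *ᵥ a
    obtain ⟨x, hx0, hx, hax, ha0x⟩ := exists_singular_perp hT a a₀
    have hok : OK Q a x := ⟨haa, hax⟩
    have hav : B a (ogVal n *ᵥ x) = 0 := by
      conv_lhs => arg 2; rw [← ogVal_cancel_inv n a]
      rw [isometry_polar (ogVal_quad n), ha0x]
    refine ⟨n * eOG hok * n⁻¹ * (eOG hok)⁻¹, a, comm hn hok, haa, ?_⟩
    have hval : ogVal (n * eOG hok * n⁻¹ * (eOG hok)⁻¹) *ᵥ a = a + B b a • (ogVal n *ᵥ x) := by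
      rw [ogVal_mul, conj_eOG, ← Matrix.mulVec_mulVec, eOG_inv, eOG_val]
      have h1 : eMat Q a ((-1 : F) • x) *ᵥ a = a := by
        rw [eMat_mulVec, polar_self' haa, QuadraticMap.polar_smul_left, QuadraticMap.polar_comm _ x a, hax]
        simp
      rw [h1, eMat_mulVec, QuadraticMap.polar_comm _ (ogVal n *ᵥ x) a, hav, ogVal_quad, hx]
      module
    rw [hval]
    refine ⟨?_, fun s t h0 => ?_⟩
    · rw [QuadraticMap.polar_add_right, polar_self' haa, QuadraticMap.polar_smul_right, hav]; simp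
    · have hba : B b a ≠ 0 := by rw [QuadraticMap.polar_comm]; exact hab
      have h1 := congrArg (fun z => B a (ogVal n⁻¹ *ᵥ z)) h0
      simp only [Matrix.mulVec_add, Matrix.mulVec_smul, ogVal_inv_cancel, QuadraticMap.polar_add_right,
        QuadraticMap.polar_smul_right, hax, Matrix.mulVec_zero, QuadraticMap.polar_zero_right,
        smul_eq_mul, mul_zero, add_zero] at h1
      have h2 : B a (ogVal n⁻¹ *ᵥ a) ≠ 0 := by
        rw [← isometry_polar (ogVal_quad n), ogVal_cancel_inv]; exact hba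
      have h3 : s + t = 0 := by
        have : (s + t) * B a (ogVal n⁻¹ *ᵥ a) = 0 := by linear_combination h1
        exact (mul_eq_zero.1 this).resolve_right h2
      have h4 : (t * B b a) • (ogVal n *ᵥ x) = 0 := by
        linear_combination (norm := module) h0 - h3 • a
      have hne : ogVal n *ᵥ x ≠ 0 := fun h5 => hx0 (by rw [← ogVal_inv_cancel n x, h5, Matrix.mulVec_zero])
      have ht : t = 0 := (mul_eq_zero.1 ((smul_eq_zero.1 h4).resolve_right hne)).resolve_right hba
      exact ⟨by simpa [ht] using h3, ht⟩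
  obtain ⟨b, hbdef⟩ : ∃ b, ogVal m *ᵥ a = b := ⟨_, rfl⟩
  rw [hbdef] at hab hind
  have hts : TS Q a b := ⟨haa, by rw [← hbdef, ogVal_quad]; exact haa, hab, hind⟩
  -- a third point, orthogonal to both
  obtain ⟨f, hfa, hfb⟩ := exists_polar2 hQ hind 1 0
  set f' := f + (-Q f) • a
  have P : Pair Q a f' := ⟨haa, by rw [quad_add_smul, haa, QuadraticMap.polar_comm, hfa]; ring,
    by rw [QuadraticMap.polar_add_right, hfa, QuadraticMap.polar_smul_right, polar_self' haa]; simp⟩
  have hbp : Perp Q a f' b := ⟨hab, by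
    rw [QuadraticMap.polar_add_left, QuadraticMap.polar_comm _ f b, hfb, QuadraticMap.polar_smul_left, hab]
    simp⟩
  obtain ⟨b', Pb, hb'⟩ := exists_partner hQ P hbp hts.right_ne hts.2.1
  obtain ⟨v, hv0, -, hv1, hv2⟩ := exists_singular_perp2 hQ hT P Pb hbp hb'
  obtain ⟨y, hy1, hy2, hy3⟩ := exists_polar3 hQ (a := a) (b := b) (c := v) (fun s t r h0 => by
    have e1 := congrArg (B f') h0
    have e2 := congrArg (B b') h0
    simp [QuadraticMap.polar_add_right, QuadraticMap.polar_smul_right, hbp.2, hv1.2, hv2.2,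
      QuadraticMap.polar_comm _ f' a, P.2.2, QuadraticMap.polar_comm _ b' a, hb'.1,
      QuadraticMap.polar_comm _ b' b, Pb.2.2] at e1 e2
    exact ⟨e1, e2, (smul_eq_zero.1 (by simpa [e1, e2] using h0)).resolve_right hv0⟩) 0 0 1
  set x := ogVal m⁻¹ *ᵥ v
  have hmx : ogVal m *ᵥ x = v := ogVal_cancel_inv m v
  have hax : B a x = 0 := by
    rw [← isometry_polar (ogVal_quad m), hmx, hbdef]; exact hv2.1
  have hokx : OK Q a x := ⟨haa, hax⟩
  have hoky : OK Q a y := ⟨haa, hy1⟩
  have hts' : TS Q a ((-1 : F) • b) := ⟨haa, by rw [QuadraticMap.map_smul, hts.2.1]; simp,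
    by rw [QuadraticMap.polar_smul_right, hab]; simp, fun s t h0 => by
      obtain ⟨e1, e2⟩ := hind s (-t) (by rw [← h0]; module)
      exact ⟨e1, neg_eq_zero.1 e2⟩⟩
  refine ⟨a, (-1 : F) • b, hts', ?_⟩
  have hh := comm hm hokx
  have h2 := comm hh hoky
  refine cast ?_ h2
  congr 1
  refine ogVal_ext ?_
  rw [ogVal_mul, conj_eOG, eOG_inv hoky, eOG_val, eOG_val]
  have hx1 : eMat Q a ((-1 : F) • x) *ᵥ a = a := by
    rw [eMat_mulVec, polar_self' haa, QuadraticMap.polar_smul_left, QuadraticMap.polar_comm _ x a, hax]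
    simp
  have hha : ogVal (m * eOG hokx * m⁻¹ * (eOG hokx)⁻¹) *ᵥ a = a := by
    rw [ogVal_mul, conj_eOG, ← Matrix.mulVec_mulVec, eOG_inv, eOG_val, hx1, eMat_mulVec, hmx, hbdef,
      QuadraticMap.polar_comm _ b a, hab, QuadraticMap.polar_comm _ v a, hv1.1]
    module
  have hhy : ogVal (m * eOG hokx * m⁻¹ * (eOG hokx)⁻¹) *ᵥ y =
      (y + (-1 : F) • b) + B x y • a := by
    rw [ogVal_mul, conj_eOG, ← Matrix.mulVec_mulVec, eOG_inv, eOG_val, eMat_mulVec a, hy1, hmx, hbdef]
    simp only [eMat_mulVec, QuadraticMap.polar_smul_left, QuadraticMap.polar_add_right,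
      QuadraticMap.polar_sub_right, QuadraticMap.polar_smul_right, QuadraticMap.polar_zero_right, smul_eq_mul,
      zero_smul, mul_zero, sub_zero, add_zero, hy2, hy3, QuadraticMap.polar_comm _ b a, hab,
      QuadraticMap.polar_comm _ v a, hv1.1]
    module
  have hok' : OK Q a (y + (-1 : F) • b) := hoky.add hts'.ok
  rw [hha, hhy, eMat_add_self hok', eMat_mul hok' (hoky.smul (-1))]
  congr 1
  module

/-- Simplicity of `PΩ(Q)` when `Ω` is generated by root elements. -/
theorem pomega_simple (hgen : Omega F ⇑Q = sR Q) : IsSimpleGroup (POmega F ⇑Q) := by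
  obtain ⟨p, hp⟩ := CharP.exists F
  haveI : Fact p.Prime := ⟨CharP.char_is_prime F p⟩
  have hne : Nontrivial (POmega F ⇑Q) := by
    obtain ⟨e, f, P⟩ := exists_basePair hQ hT
    obtain ⟨u, u', hu, h1, -⟩ := exists_frame hQ hT P
    have h := TS.of_perp P hu.1 h1 hu.ne
    obtain ⟨s, hs⟩ := exists_eOm (p := p) hQ hT h.ok
    refine ⟨omPi (Q := Q) s, 1, fun h0 => ?_⟩
    obtain ⟨l, hl⟩ := (omPi_eq_one_iff hQ hT (p := p)).1 h0
    rw [hs] at hl
    have h3 := congrArg (· *ᵥ e) hl
    simp [eMat_mulVec, polar_self' h.1, QuadraticMap.polar_comm _ u e, h.2.2.1, Matrix.smul_mulVec] at h3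
    have hl1 : l = 1 := by
      have h4 : (1 - l) • e = 0 := by linear_combination (norm := module) h3
      exact (sub_eq_zero.1 ((smul_eq_zero.1 h4).resolve_right P.ne)).symm
    exact thru_ne_one hQ ⟨u, h, rfl⟩ (by rw [hl, hl1, one_smul])
  refine ⟨fun M hM => ?_⟩
  set N := (M.comap (omPi (Q := Q))).map (Omega F ⇑Q).subtype
  by_cases hsc : ∀ s ∈ M.comap (omPi (Q := Q)), ∃ c : F, omVal s = c • (1 : Mn)
  · refine Or.inl ((Subgroup.eq_bot_iff_forall _).2 fun x hx => ?_)
    obtain ⟨s, rfl⟩ := omPi_surjective (Q := Q) x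
    exact (omPi_eq_one_iff hQ hT (p := p)).2 (hsc s hx)
  · push Not at hsc
    obtain ⟨s, hs, hns⟩ := hsc
    have hle : sR Q ≤ N := by
      have hsN : (s : OG) ∈ N := Subgroup.mem_map_of_mem (Omega F ⇑Q).subtype hs
      have hns' : ¬ ∃ c : F, ogVal (s : OG) = c • (1 : Mn) := fun ⟨c, hc⟩ => hns c hc
      refine sR_le_of_normalized hQ hT ?_ hsN hns'
      intro n hn t ht
      obtain ⟨n, hn', rfl⟩ := Subgroup.mem_map.1 hn
      have ht' : t ∈ Omega F ⇑Q := sR_le_omega hQ hT ht
      exact Subgroup.mem_map.2 ⟨(⟨t, ht'⟩ : Omega F ⇑Q) * n * (⟨t, ht'⟩ : Omega F ⇑Q)⁻¹,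
        (hM.comap (omPi (Q := Q))).conj_mem _ hn' _, rfl⟩
    refine Or.inr ((Subgroup.eq_top_iff' _).2 fun x => ?_)
    obtain ⟨t, rfl⟩ := omPi_surjective (Q := Q) x
    obtain ⟨u, hu, hut⟩ := hle (le_of_eq hgen t.2)
    rw [show t = u from (Subtype.ext hut).symm]
    exact hu

end Cfsg.Agent.Classical.OrthAut
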