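import Cfsg.Agent.Lib.Classical.OrthOddField
import Cfsg.Agent.Lib.Classical.OrthSimple
import Cfsg.Agent.Lib.Classical.PSpLocalBalance

/-!
Failure of local balance in almost simple groups with socle an odd-dimensional `PΩ(Q)`.
-/

set_option autoImplicit false
set_option linter.unusedSectionVars false
set_option quotPrecheck false

namespace Cfsg.Agent.Classical.OrthAut

open Matrix Cfsg.Agent.Classical.Descent

variable {F : Type*} [Field F] {ι : Type} [Fintype ι] [DecidableEq ι] {Q : QuadraticForm F (ι → F)}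
  {F₀ : Type*} [Field F₀] (j : F₀ →+* F) {P : QuadraticForm F₀ (ι → F₀)}

local notation "Mn" => Matrix ι ι F
local notation "PQ" => POmega F ⇑Q
local notation "SO'" => specialIsometryGL F ⇑Q

variable (hP : ∀ u, Q (j ∘ u) = j (P u))

theorem mapOG_mem_omega (hP : ∀ u, Q (j ∘ u) = j (P u)) {g : isometryGroup F₀ ⇑P}
    (hg : g ∈ Omega F₀ ⇑P) : mapOG j hP g ∈ Omega F ⇑Q := by
  have hle : Omega F₀ ⇑P ≤ (Omega F ⇑Q).comap (mapOG j hP) := by
    show commutator _ ≤ _
    rw [commutator_def, Subgroup.commutator_le]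
    intro a _ b _
    show mapOG j hP _ ∈ Omega F ⇑Q
    rw [map_commutatorElement]
    exact Subgroup.commutator_mem_commutator (Subgroup.mem_top _) (Subgroup.mem_top _)
  exact hle hg

/-- `Ω` over the small field, over the large one. -/
def mapOm : Omega F₀ ⇑P →* Omega F ⇑Q :=
  ((mapOG j hP).comp (Omega F₀ ⇑P).subtype).codRestrict _ fun s => mapOG_mem_omega j hP s.2

variable [Fintype F] [Fintype F₀]

theorem omToSO_mapOm (s : Omega F₀ ⇑P) :
    omToSO Q (mapOm j hP s) = mapSO j hP (omToSO P s) := Subtype.ext (Units.ext rfl)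

/-- `Ω` over the small field, inside `PΩ(Q)`. -/
def subHomP : Omega F₀ ⇑P →* POmega F ⇑Q := (omPi (Q := Q)).comp (mapOm j hP)

/-- The restriction to the small field of an automorphism preserving it. -/
theorem exists_restrict {τ : RingAut F} (h : ∀ a, τ (j a) ∈ j.range) :
    ∃ τ₀ : RingAut F₀, ∀ a, j (τ₀ a) = τ (j a) := by
  choose b hb using h
  let φ : F₀ →+* F₀ :=
    { toFun := b
      map_one' := j.injective (by rw [hb, map_one, map_one])
      map_mul' := fun x y => j.injective (by rw [map_mul, hb, hb, hb, map_mul, map_mul])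
      map_zero' := j.injective (by rw [hb, map_zero, map_zero])
      map_add' := fun x y => j.injective (by rw [map_add, hb, hb, hb, map_add, map_add]) }
  exact ⟨RingEquiv.ofBijective φ (Finite.injective_iff_bijective.1 φ.injective), hb⟩

variable (H : OddSpace Q) (H₀ : OddSpace P)
include H H₀

theorem subHomP_injective : Function.Injective (subHomP j hP) := fun a b e => by
  have h1 : omToSO Q (mapOm j hP a) = omToSO Q (mapOm j hP b) := by rw [omPi_injective H e]
  rw [omToSO_mapOm, omToSO_mapOm] at h1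
  exact omVal_ext (congrArg (fun g : specialIsometryGL F₀ ⇑P => ((g : GL ι F₀) : Matrix ι ι F₀))
    (mapSO_injective j hP h1))

theorem two_dvd_omega : 2 ∣ Nat.card (Omega F₀ ⇑P) := by
  obtain ⟨e, f, Pe⟩ := exists_basePair H₀.nd H₀.tri
  obtain ⟨u, u', hu, h1, h1'⟩ := exists_frame H₀.nd H₀.tri Pe
  have hv : P (e + f) = 1 := by rw [quad_add, Pe.1, Pe.2.1, Pe.2.2]; simp
  have hw : P (u + u') = 1 := by rw [quad_add, hu.1, hu.2.1, hu.2.2]; simp
  have hv0 : P (e + f) ≠ 0 := by rw [hv]; exact one_ne_zero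
  have hw0 : P (u + u') ≠ 0 := by rw [hw]; exact one_ne_zero
  have horth : QuadraticMap.polar ⇑P (e + f) (u + u') = 0 := by
    simp [QuadraticMap.polar_add_left, QuadraticMap.polar_add_right, h1.1, h1.2, h1'.1, h1'.2]
  set g := refl hv0 * refl hw0 with hg
  have hmem : g ∈ Omega F₀ ⇑P := refl_mod H₀.two H₀.nd hv0 hw0 (by rw [hv, hw, div_one]; exact IsSquare.one)
  have hcom : refl hv0 * refl hw0 = refl hw0 * refl hv0 := by
    refine ogVal_ext (Matrix.ext_iff_mulVec.2 fun x => ?_)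
    rw [ogVal_mul, ogVal_mul, ← Matrix.mulVec_mulVec, ← Matrix.mulVec_mulVec]
    simp only [refl_apply, QuadraticMap.polar_sub_right, QuadraticMap.polar_smul_right, horth,
      QuadraticMap.polar_comm _ (u + u') (e + f), smul_zero, sub_zero]
    module
  have hsq : (⟨g, hmem⟩ : Omega F₀ ⇑P) ^ 2 = 1 := Subtype.ext (by
    show g ^ 2 = 1
    rw [sq, hg, mul_assoc, ← mul_assoc (refl hw0), ← hcom, mul_assoc, refl_mul_self, mul_one, refl_mul_self])
  have hne : (⟨g, hmem⟩ : Omega F₀ ⇑P) ≠ 1 := fun h0 => by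
    have h2 : refl hw0 = refl hv0 := by
      have h3 : refl hv0 * refl hw0 = 1 := congrArg Subtype.val h0
      calc refl hw0 = refl hv0 * (refl hv0 * refl hw0) := by rw [← mul_assoc, refl_mul_self, one_mul]
        _ = _ := by rw [h3, mul_one]
    have h4 := congrArg (fun r => ogVal r *ᵥ (e + f)) h2
    simp only [refl_apply, QuadraticMap.polar_comm _ (u + u') (e + f), horth, polar_self2, hv, mul_zero,
      zero_smul, sub_zero, inv_one, one_mul, mul_one] at h4
    refine hv0 ?_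
    have h5 : e + f = 0 := smul_right_injective (ι → F₀) H₀.two (by
      show (2 : F₀) • (e + f) = (2 : F₀) • 0
      linear_combination (norm := module) h4)
    rw [h5, QuadraticMap.map_zero]
  rw [← orderOf_eq_prime hsq hne]
  exact orderOf_dvd_natCard _

theorem simple_small : IsSimpleGroup (POmega F₀ ⇑P) :=
  pomega_simple H₀.nd H₀.tri (omega_eq_sR H₀.nd H₀.tri H₀.two)

variable {σ : RingAut F} (hj : ∀ x, σ x = x ↔ x ∈ j.range)

/-- The fixed points of a standard field automorphism. -/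
theorem fixed_mem (hj : ∀ x, σ x = x ↔ x ∈ j.range) {t : Omega F ⇑Q}
    (ht : fieldHom H.rat σ (omPi (Q := Q) t) = omPi (Q := Q) t) :
    omToSO Q t ∈ (mapSO j hP).range := by
  refine (mem_range_mapSO_iff j hP hj H.rat).2 ?_
  have h1 : fieldHom H.rat σ * MulAut.conj (omPi (Q := Q) t) =
      MulAut.conj (omPi (Q := Q) t) * fieldHom H.rat σ := MulEquiv.ext fun z => by
    simp only [MulAut.mul_apply, MulAut.conj_apply, map_mul, map_inv, ht]
  rw [conj_eq_soHom, field_conj] at h1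
  exact (soHom_mul_field_inj H h1).1

set_option maxHeartbeats 800000 in
/-- An automorphism commuting with the field automorphism and fixing `Ω` over the small field. -/
theorem cent_subHomP (hj : ∀ x, σ x = x ↔ x ∈ j.range) {β : MulAut PQ}
    (hc : Commute β (fieldHom H.rat σ)) (hfix : ∀ w, β (subHomP j hP w) = subHomP j hP w) :
    β ∈ Subgroup.zpowers (fieldHom H.rat σ) := by
  obtain ⟨s, τ, rfl⟩ := decomp H β
  have hc' : soHom Q s * fieldHom H.rat (τ * σ) = soHom Q (soMap H.rat σ s) * fieldHom H.rat (σ * τ) := by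
    have h := hc.eq
    rw [← mul_assoc (fieldHom H.rat σ), field_conj, mul_assoc, mul_assoc, ← map_mul, ← map_mul] at h
    exact h
  obtain ⟨hs, hστ⟩ := soHom_mul_field_inj H hc'
  obtain ⟨s₀, hs₀⟩ := (mem_range_mapSO_iff j hP hj H.rat).2 hs.symm
  obtain ⟨τ₀, hτ₀⟩ := exists_restrict j (τ := τ) fun a => (hj _).1 (by
    have h := DFunLike.congr_fun hστ (j a)
    rw [RingAut.mul_apply, RingAut.mul_apply, (hj (j a)).2 ⟨a, rfl⟩] at h
    exact h.symm)
  have hmap : ∀ g₀, soMap H.rat τ (mapSO j hP g₀) = mapSO j hP (soMap H₀.rat τ₀ g₀) := fun g₀ =>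
    Subtype.ext (Units.ext (Matrix.ext fun a b => (hτ₀ _).symm))
  have hβ₀ : soHom P s₀ * fieldHom H₀.rat τ₀ = 1 := by
    set β₀ := soHom P s₀ * fieldHom H₀.rat τ₀
    refine MulEquiv.ext fun z => ?_
    obtain ⟨w, rfl⟩ := omPi_surjective (Q := P) z
    have h1 : soHom Q s * fieldHom H.rat τ * MulAut.conj (subHomP j hP w) =
        MulAut.conj (subHomP j hP w) * (soHom Q s * fieldHom H.rat τ) := MulEquiv.ext fun z => by
      simp only [MulAut.mul_apply, MulAut.conj_apply, map_mul, map_inv]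
      rw [show (soHom Q s) ((fieldHom H.rat τ) (subHomP j hP w)) = subHomP j hP w from hfix w]
    rw [show MulAut.conj (subHomP j hP w) = soHom Q (mapSO j hP (omToSO P w)) by
      rw [← omToSO_mapOm, ← conj_eq_soHom]; rfl, mul_assoc, field_conj, ← mul_assoc, ← map_mul, hmap,
      ← hs₀, ← map_mul, ← mul_assoc, ← map_mul, ← map_mul] at h1
    have h2 := mapSO_injective j hP (soHom_mul_field_inj H h1).1
    have h3 : β₀ * MulAut.conj (omPi (Q := P) w) = MulAut.conj (omPi (Q := P) w) * β₀ := by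
      rw [conj_eq_soHom]
      simp only [β₀]
      rw [mul_assoc, field_conj, ← mul_assoc, ← map_mul, h2, map_mul]
      group
    have h4 : MulAut.conj (β₀ (omPi (Q := P) w)) = MulAut.conj (omPi (Q := P) w) := by
      rw [show MulAut.conj (β₀ (omPi (Q := P) w)) = β₀ * MulAut.conj (omPi (Q := P) w) * β₀⁻¹ from
        MulEquiv.ext fun z => by simp [MulAut.mul_apply], h3, mul_inv_cancel_right]
    exact conj_injective H₀.nd H₀.tri H₀.good h4
  obtain ⟨h5, h6⟩ := soHom_mul_field_inj H₀ (s := s₀) (σ := τ₀) (t := 1) (τ := 1) (by rw [map_one, map_one, one_mul]; exact hβ₀)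
  have hs1 : s = 1 := by rw [← hs₀, h5, map_one]
  have hτ : τ ∈ Subgroup.zpowers σ := PSpAut.zpowers_of_fix j hj τ fun a => by
    rw [← hτ₀, h6, RingAut.one_apply]
  obtain ⟨k, rfl⟩ := Subgroup.mem_zpowers_iff.1 hτ
  exact Subgroup.mem_zpowers_iff.2 ⟨k, by rw [hs1, map_one, one_mul, map_zpow]⟩

omit H₀ in
/-- An automorphism of prime order which is not inner-diagonal is a field automorphism. -/
theorem exists_field_form {r : ℕ} [Fact r.Prime] {x : MulAut PQ} (hord : orderOf x = r)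
    (hnot : ¬ IsSimilarityInducedAutPOmega (⇑Q) x) :
    ∃ (σ : RingAut F) (y : SO'), σ ≠ 1 ∧ x = soHom Q y * fieldHom H.rat σ * (soHom Q y)⁻¹ := by
  obtain ⟨s, σ, hx⟩ := decomp H x
  have hσ : σ ≠ 1 := fun h1 => hnot (by
    rw [hx, h1, map_one, mul_one, soHom_apply]
    exact ⟨_, isometry_mem_go (soIso s), poSemi_induced _⟩)
  obtain ⟨hσr, hN⟩ := orderOf_std H (Fact.out : r.Prime) hσ (hx ▸ hord)
  obtain ⟨y, hy⟩ := exists_coboundary_SO H (hσr ▸ hN)
  exact ⟨σ, y, hσ, by rw [conj_field H, ← hy, hx]⟩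

/-- Local balance. -/
theorem balance {r : ℕ} [Fact r.Prime] (hj : ∀ x, σ x = x ↔ x ∈ j.range)
    (hP : ∀ u, Q (j ∘ u) = j (P u)) (hσ : σ ≠ 1) (y : SO')
    {A : Subgroup (MulAut PQ)} (hinn : ∀ k : PQ, MulAut.conj k ∈ A) {x : MulAut PQ}
    (hx : x = soHom Q y * fieldHom H.rat σ * (soHom Q y)⁻¹) (hord : orderOf x = r) :
    pPrimeCore r ↥(A ⊓ Subgroup.centralizer {x}) ≠ ⊥ ↔
      Nat.Coprime r (Nat.card ↥(MonoidHom.eqLocus x.toMonoidHom (MonoidHom.id PQ))) := by
  classical
  have hr : r.Prime := Fact.out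
  set a : MulAut PQ := soHom Q y
  set φ : MulAut PQ := fieldHom H.rat σ
  have hfixiff : ∀ z, x (a z) = a z ↔ φ z = z := fun z => by
    rw [show x (a z) = a (φ z) by rw [hx]; simp [MulAut.mul_apply]]
    exact a.injective.eq_iff
  have hinj := subHomP_injective j hP H H₀
  set W := (subHomP (Q := Q) j hP).range
  have hW : Nat.card W = Nat.card (Omega F₀ ⇑P) := (Nat.card_congr (MonoidHom.ofInjective hinj).toEquiv).symm
  refine balance_iff (conj_injective H.nd H.tri H.good) hinn hord (fun k hk => hσ ?_) (P₀ := W.map a.toMonoidHom)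
    ?_ ?_ ?_ ?_ ?_ ?_
  · obtain ⟨t, rfl⟩ := omPi_surjective (Q := Q) k
    rw [hx, conj_field H, conj_eq_soHom] at hk
    exact (soHom_mul_field_inj H (t := omToSO Q t) (τ := 1) (hk.symm.trans (by rw [map_one, mul_one]))).2
  · intro h
    rw [Subgroup.map_eq_bot_iff_of_injective (f := a.toMonoidHom) _ a.injective] at h
    have h2 := two_dvd_omega H H₀
    rw [← hW, h, Subgroup.card_bot] at h2
    exact absurd h2 (by decide)
  · rintro _ ⟨_, ⟨w, rfl⟩, rfl⟩
    refine (hfixiff _).2 (conj_injective H.nd H.tri H.good ?_)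
    have h1 : MulAut.conj (φ (subHomP j hP w)) = φ * MulAut.conj (subHomP j hP w) * φ⁻¹ :=
      MulEquiv.ext fun z => by simp [MulAut.mul_apply]
    rw [h1, show MulAut.conj (subHomP j hP w) = soHom Q (mapSO j hP (omToSO P w)) by
      rw [← omToSO_mapOm, ← conj_eq_soHom]; rfl]
    show fieldHom H.rat σ * _ * _ = _
    rw [field_conj, (mem_range_mapSO_iff j hP hj H.rat).1 ⟨_, rfl⟩, mul_inv_cancel_right]
  · rintro k hk _ ⟨u, ⟨w, rfl⟩, rfl⟩
    obtain ⟨k, rfl⟩ := a.surjective k
    obtain ⟨t, rfl⟩ := omPi_surjective (Q := Q) k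
    obtain ⟨g₀, hg₀⟩ := fixed_mem j hP H H₀ hj ((hfixiff _).1 hk)
    have hconj : (soIso g₀ : isometryGroup F₀ ⇑P) * w.1 * (soIso g₀)⁻¹ ∈ Omega F₀ ⇑P :=
      Subgroup.Normal.conj_mem inferInstance _ w.2 _
    refine ⟨omPi (Q := Q) t * subHomP j hP w * (omPi (Q := Q) t)⁻¹, ⟨⟨_, hconj⟩, ?_⟩, by simp⟩
    show omPi (Q := Q) _ = omPi (Q := Q) t * omPi (Q := Q) (mapOm j hP w) * (omPi (Q := Q) t)⁻¹
    rw [← map_inv, ← map_mul, ← map_mul]
    congr 1
    refine Subtype.ext ?_
    have ht : (t : isometryGroup F ⇑Q) = mapOG j hP (soIso g₀) := Subtype.ext (Units.ext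
      (congrArg (fun g : SO' => ((g : GL ι F) : Mn)) hg₀).symm)
    show mapOG j hP (soIso g₀ * w.1 * (soIso g₀)⁻¹) = (t : isometryGroup F ⇑Q) * mapOG j hP w.1 * (t : isometryGroup F ⇑Q)⁻¹
    rw [ht, map_mul, map_mul, map_inv]
  · intro β hβc hβ
    have hc' : Commute (a⁻¹ * β * a) φ := by
      show a⁻¹ * β * a * φ = φ * (a⁻¹ * β * a)
      have h1 : β * x = x * β := hβc
      rw [hx] at h1
      calc a⁻¹ * β * a * φ = a⁻¹ * (β * (a * φ * a⁻¹)) * a := by group
        _ = _ := by rw [h1]; group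
    obtain ⟨k, hk⟩ := Subgroup.mem_zpowers_iff.1 (cent_subHomP j hP H H₀ hj hc' fun w => by
      show (a⁻¹ : MulAut PQ) (β (a (subHomP j hP w))) = _
      have h3 : β (a (subHomP j hP w)) = a (subHomP j hP w) := hβ _ ⟨_, ⟨w, rfl⟩, rfl⟩
      rw [h3]
      exact a.symm_apply_apply _)
    refine Subgroup.mem_zpowers_iff.2 ⟨k, ?_⟩
    rw [hx, conj_zpow, hk]
    group
  · intro hd
    rw [Subgroup.card_map_of_injective (f := a.toMonoidHom) a.injective, hW]
    rcases hr.eq_two_or_odd' with h2 | hodd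
    · rw [h2]; exact two_dvd_omega H H₀
    obtain ⟨k, hk⟩ := exists_prime_orderOf_dvd_card' r hd
    obtain ⟨z, hz⟩ := a.surjective (k : PQ)
    obtain ⟨t, rfl⟩ := omPi_surjective (Q := Q) z
    obtain ⟨g₀, hg₀⟩ := fixed_mem j hP H H₀ hj ((hfixiff _).1 (hz ▸ k.2))
    have hordt : orderOf g₀ = r := by
      rw [← hk, ← Subgroup.orderOf_coe k, ← hz, MulEquiv.orderOf_eq,
        orderOf_injective _ (omPi_injective H) t, ← orderOf_injective _ (mapSO_injective j hP) g₀, hg₀,
        orderOf_injective (omToSO Q) (fun s t e => omVal_ext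
          (congrArg (fun g : SO' => ((g : GL ι F) : Mn)) e)) t]
    have hker : g₀ ∈ (spinSO P).ker := by
      obtain ⟨i, hi⟩ := hodd
      rw [show g₀ = (g₀ ^ 2) ^ (i + 1) by
        rw [← pow_mul, show 2 * (i + 1) = r + 1 by omega, pow_succ, ← hordt, pow_orderOf_eq_one, one_mul],
        MonoidHom.mem_ker, map_pow, map_pow, sq, Int.units_mul_self, one_pow]
    rw [spin_ker H₀] at hker
    obtain ⟨w, rfl⟩ := hker
    rw [← hordt, orderOf_injective (omToSO P) (fun s t e => omVal_ext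
      (congrArg (fun g : specialIsometryGL F₀ ⇑P => ((g : GL ι F₀) : Matrix ι ι F₀)) e)) w]
    exact orderOf_dvd_natCard _
  · intro hd M hM hc
    haveI := simple_small H H₀
    haveI : IsSimpleGroup (Omega F₀ ⇑P) :=
      (MulEquiv.ofBijective (omPi (Q := P)) ⟨omPi_injective H₀, omPi_surjective⟩).isSimpleGroup
    let e : Omega F₀ ⇑P ≃* W.map a.toMonoidHom :=
      (MonoidHom.ofInjective hinj).trans (Subgroup.equivMapOfInjective W a.toMonoidHom a.injective)
    rcases (hM.comap e.toMonoidHom).eq_bot_or_eq_top with h | h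
    · rw [← Subgroup.map_comap_eq_self_of_surjective (f := e.toMonoidHom) e.surjective M, h,
        Subgroup.map_bot]
    · exfalso
      have hM' : M = ⊤ := by
        rw [← Subgroup.map_comap_eq_self_of_surjective (f := e.toMonoidHom) e.surjective M, h,
          Subgroup.map_top_of_surjective _ e.surjective]
      rw [hM', Subgroup.card_top] at hc
      exact hr.ne_one (Nat.dvd_one.1 (hc ▸ Nat.dvd_gcd hd dvd_rfl))

omit hP hj H H₀

theorem balance_qfOdd {m : ℕ} (hm : 3 ≤ m) (hodd : Odd (Fintype.card F)) {r : ℕ} [Fact r.Prime]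
    {fn : (Unit ⊕ (Fin m ⊕ Fin m) → F) → F} (hfn : ⇑(qfOdd m F) = fn)
    {A : Subgroup (MulAut (POmega F fn))} (hinn : ∀ k, MulAut.conj k ∈ A) {x : MulAut (POmega F fn)}
    (hord : orderOf x = r) (hnot : ¬ IsSimilarityInducedAutPOmega fn x) :
    IsFieldAutClassPOmega fn x ∧ (pPrimeCore r ↥(A ⊓ Subgroup.centralizer {x}) ≠ ⊥ ↔
      Nat.Coprime r (Nat.card ↥(MonoidHom.eqLocus x.toMonoidHom (MonoidHom.id (POmega F fn))))) := by
  classical
  subst hfn
  have H := oddSpace_qfOdd (F := F) hm hodd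
  obtain ⟨σ, y, hσ, hx⟩ := exists_field_form H hord hnot
  refine ⟨⟨(soHom _ y)⁻¹, fieldHom H.rat σ, σ, hσ, (stdField_iff H.rat).2 rfl,
    by rw [hx, inv_inv]; group⟩, ?_⟩
  let K : Subfield F := RingHom.eqLocusField σ.toRingHom (RingHom.id F)
  have hj : ∀ z, σ z = z ↔ z ∈ K.subtype.range := fun z =>
    ⟨fun h => ⟨⟨z, h⟩, rfl⟩, fun ⟨k, hk⟩ => hk ▸ k.2⟩
  letI : Fintype K := Fintype.ofFinite _
  have hK : Odd (Fintype.card K) := Nat.odd_iff.2 (FiniteField.odd_card_of_char_ne_two fun h => by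
    haveI := ringChar.of_eq h
    have h2 : (2 : K) = 0 := CharTwo.two_eq_zero
    exact H.two ((map_ofNat K.subtype 2).symm.trans ((congrArg K.subtype h2).trans (map_zero _))))
  have H₀ := oddSpace_qfOdd (F := K) hm hK
  exact balance K.subtype H H₀ hj (fun u => by simp [qfOdd_apply, quadFormOdd]) hσ y hinn hx hord

end Cfsg.Agent.Classical.OrthAut
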