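import Cfsg.Agent.Lib.Classical.OrthMinusField
import Cfsg.Agent.Lib.Classical.OrthSimple
import Cfsg.Agent.Lib.Classical.OrthLocalBalance
import Cfsg.Agent.Lib.Classical.LocalBalance

/-!
Local balance for a standard field automorphism of odd prime order of an even-dimensional `PΩ(Q)`.
-/

set_option autoImplicit false
set_option linter.unusedSectionVars false
set_option quotPrecheck false

namespace Cfsg.Agent.Classical.OrthAut

open Matrix Module Cfsg.Agent.Classical.Descent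

variable {F : Type*} [Field F] [Fintype F] {ι : Type} [Fintype ι] [DecidableEq ι]
  {Q : QuadraticForm F (ι → F)} {n : ℕ}
  {F₀ : Type*} [Field F₀] [Fintype F₀] {P : QuadraticForm F₀ (ι → F₀)} {j : F₀ →+* F} {σ : RingAut F}

local notation "Mn" => Matrix ι ι F
local notation "PQ" => POmega F ⇑Q
local notation "GO" => Geo.quadSimilarityGroup (F := F) ⇑Q

namespace EvenSpace

variable (H : EvenSpace Q n) (H₀ : EvenSpace P n) (hP : ∀ u, Q (j ∘ u) = j (P u))
include H H₀ hP

theorem conj_map_omega (t : Omega F₀ ⇑P) : MulAut.conj (omPi (Q := Q) (mapOm j hP t)) =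
    goHom Q (mapGO hP ⟨_, isometry_mem_go (t : isometryGroup F₀ ⇑P)⟩) := by
  rw [conj_eq_goHom]
  rfl

theorem pi_map_eq_one_iff (t : Omega F₀ ⇑P) :
    omPi (Q := Q) (mapOm j hP t) = 1 ↔ omPi (Q := P) t = 1 := by
  have h0 := SetLike.ext_iff.1 (H.ker_comp_mapGO hP H₀) ⟨_, isometry_mem_go (t : isometryGroup F₀ ⇑P)⟩
  simp only [MonoidHom.mem_ker, MonoidHom.comp_apply] at h0
  constructor
  · intro h
    refine conj_injective H₀.nd H₀.tri H₀.good ?_
    rw [conj_eq_goHom, map_one]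
    refine h0.1 ?_
    rw [← conj_map_omega H H₀ hP, h, map_one]
  · intro h
    refine conj_injective H.nd H.tri H.good ?_
    rw [conj_map_omega H H₀ hP, map_one]
    refine h0.2 ?_
    rw [← conj_eq_goHom, h, map_one]

/-- `PΩ` over the small field, inside `PΩ(Q)`. -/
theorem exists_subPO : ∃ f : POmega F₀ ⇑P →* PQ, Function.Injective f ∧
    ∀ t, f (omPi (Q := P) t) = omPi (Q := Q) (mapOm j hP t) := by
  refine ⟨(omPi (Q := P)).liftOfSurjective omPi_surjective ⟨(omPi (Q := Q)).comp (mapOm j hP), fun t ht =>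
    (H.pi_map_eq_one_iff H₀ hP t).2 ht⟩, ?_, fun t => MonoidHom.liftOfRightInverse_comp_apply _ _ _ _ t⟩
  refine (injective_iff_map_eq_one _).2 fun z hz => ?_
  obtain ⟨t, rfl⟩ := omPi_surjective (Q := P) z
  have h : omPi (Q := Q) (mapOm j hP t) = 1 :=
    (MonoidHom.liftOfRightInverse_comp_apply _ _ _ _ t).symm.trans hz
  exact (H.pi_map_eq_one_iff H₀ hP t).1 h

variable (hR : RatAt Q σ) (hj : ∀ x, σ x = x ↔ x ∈ j.range)
include hR hj

set_option maxHeartbeats 1000000 in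
/-- An automorphism commuting with the field automorphism restricts to the small group. -/
theorem exists_restrict_cent {β : MulAut PQ} (hc : Commute β (fld hR)) :
    ∃ β₀ : MulAut (POmega F₀ ⇑P),
      (∀ (f : POmega F₀ ⇑P →* PQ), (∀ t, f (omPi (Q := P) t) = omPi (Q := Q) (mapOm j hP t)) →
        ∀ z, β (f z) = f (β₀ z)) ∧
      (β₀ = 1 → β ∈ Subgroup.zpowers (fld hR)) := by
  haveI : Finite (RingAut F) := Finite.of_injective (fun φ => (φ : F → F)) DFunLike.coe_injective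
  obtain ⟨v₀, hv₀⟩ := H.exists_one
  haveI : Nonempty ι := by
    by_contra h
    rw [not_nonempty_iff] at h
    rw [Subsingleton.elim v₀ 0, QuadraticMap.map_zero] at hv₀
    exact zero_ne_one hv₀
  obtain ⟨u, τ, h, rfl⟩ := H.exists_poSemi β
  have hc' := hc.eq
  rw [show (fld hR : MulAut PQ) = poSemi (isPair_fld hR) from rfl,
    poSemi_mul (σ := τ) (τ := σ) h (isPair_fld hR), poSemi_mul (σ := σ) (τ := τ) (isPair_fld hR) h] at hc'
  obtain ⟨hστ, c, hc'⟩ := H.poSemi_inj _ _ hc'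
  rw [map_one, mul_one, one_mul] at hc'
  have hc0 : c ≠ 0 := fun h0 => u.det_ne_zero (by rw [hc', h0, zero_smul, Matrix.det_zero])
  obtain ⟨μ, k, hk, huk⟩ := exists_fixed_of_map_eq_smul σ u (c := (Units.mk0 c hc0)⁻¹) (Units.ext (by
    rw [Units.val_mul, coe_scalar_smul, Units.val_inv_eq_inv_val, Units.val_mk0, Matrix.smul_mul, Matrix.one_mul,
      hc', smul_smul, inv_mul_cancel₀ hc0, one_smul]))
  have hfix : ∀ a b, ∃ y, j y = (k : Mn) a b := fun a b =>
    (hj _).1 (congrFun (congrFun (congrArg (fun u : GL ι F => (u : Mn)) hk) a) b)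
  choose B hB using hfix
  have hB' : (Matrix.of B).map j = (k : Mn) := Matrix.ext hB
  have hd : (Matrix.of B).det ≠ 0 := fun h0 => k.det_ne_zero (by
    rw [← hB', ← RingHom.mapMatrix_apply, ← RingHom.map_det, h0, map_zero])
  set k₀ := Matrix.GeneralLinearGroup.mkOfDetNeZero (Matrix.of B) hd
  have huk' : (u : Mn) = (μ : F) • (k : Mn) := by
    rw [huk, Units.val_mul, coe_scalar_smul, Matrix.smul_mul, Matrix.one_mul]
  obtain ⟨τ₀, hτ₀⟩ := exists_restrict j (τ := τ) fun a => (hj _).1 (by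
    have h1 := DFunLike.congr_fun hστ (j a)
    rw [RingAut.mul_apply, RingAut.mul_apply, (hj (j a)).2 ⟨a, rfl⟩] at h1
    exact h1.symm)
  have hτv : ∀ v : ι → F₀, (τ : F → F) ∘ (j ∘ v) = j ∘ ((τ₀ : F₀ → F₀) ∘ v) := fun v =>
    funext fun i => (hτ₀ (v i)).symm
  have hkq : ∀ v, j (P ((k₀ : Matrix ι ι F₀) *ᵥ ((τ₀ : F₀ → F₀) ∘ v))) =
      ((pmul h : F) / ((μ : F) * μ)) * j (τ₀ (P v)) := fun v => by
    have h1 := pmul_spec h (j ∘ v)
    rw [show (k₀ : Matrix ι ι F₀) = Matrix.of B from rfl]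
    rw [hτv, huk', Matrix.smul_mulVec, QuadraticMap.map_smul, ← hB', mulVec_rat, hP, hP, ← hτ₀, smul_eq_mul] at h1
    field_simp
    linear_combination h1
  have hk₀ : IsSemisimilarityPair (⇑P) k₀ τ₀ := by
    obtain ⟨v, hv⟩ := H₀.exists_one
    have h1 := hkq v
    rw [hv, map_one, map_one, mul_one] at h1
    refine ⟨Units.mk0 (P ((k₀ : Matrix ι ι F₀) *ᵥ ((τ₀ : F₀ → F₀) ∘ v))) fun h0 => ?_, fun w => j.injective ?_⟩
    · rw [h0, map_zero] at h1
      exact div_ne_zero (pmul h).ne_zero (mul_ne_zero μ.ne_zero μ.ne_zero) h1.symm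
    · rw [Units.val_mk0, map_mul, h1]; exact hkq w
  refine ⟨poSemi hk₀, fun f hf z => ?_, fun h1 => ?_⟩
  · obtain ⟨t, rfl⟩ := omPi_surjective (Q := P) z
    rw [poSemi_pi, hf, hf, poSemi_pi]
    refine congrArg omPi (omVal_ext ?_)
    show omVal (omSemi h (mapOm j hP t)) = (omVal (omSemi hk₀ t)).map j
    rw [omSemi_coe, omSemi_coe, Matrix.map_mul, Matrix.map_mul, show (omVal (mapOm j hP t)).map τ =
      ((omVal t).map τ₀).map j from Matrix.ext fun a b => (hτ₀ _).symm]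
    have hkinv : ((k₀⁻¹ : GL ι F₀) : Matrix ι ι F₀).map j = ((k⁻¹ : GL ι F) : Mn) := by
      have e : Matrix.GeneralLinearGroup.map j k₀ = k := Units.ext hB'
      rw [← e, ← map_inv]; rfl
    have huinv : ((u⁻¹ : GL ι F) : Mn) = (μ : F)⁻¹ • ((k⁻¹ : GL ι F) : Mn) :=
      Units.inv_eq_of_mul_eq_one_right (by
        rw [huk', Matrix.smul_mul, Matrix.mul_smul, Units.mul_inv, smul_smul, mul_inv_cancel₀ μ.ne_zero, one_smul])
    rw [hkinv, show (k₀ : Matrix ι ι F₀).map j = (k : Mn) from hB', huk', huinv, Matrix.smul_mul, Matrix.smul_mul,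
      Matrix.mul_smul, smul_smul, mul_inv_cancel₀ μ.ne_zero, one_smul]
  · obtain ⟨h2, d, hd'⟩ := poSemi_eq_one H₀.nd H₀.tri H₀.good hk₀ h1
    obtain ⟨i, hi⟩ := Subgroup.mem_zpowers_iff.1 (PSpAut.zpowers_of_fix j hj τ fun a => by
      rw [← hτ₀, h2]; rfl)
    have hu : (u : Mn) = ((μ : F) * j d) • 1 := by
      rw [huk', ← hB', show Matrix.of B = d • 1 from hd',
        show (d • (1 : Matrix ι ι F₀)).map j = j d • (1 : Mn) from
          Matrix.ext fun a b => by by_cases hab : a = b <;> simp [hab], smul_smul]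
    have hτR : RatAt Q τ := by
      rw [← hi]
      obtain ⟨l, hl⟩ : ∃ l : ℕ, σ ^ i = σ ^ l := by
        haveI : Finite (RingAut F) := Finite.of_injective (fun φ => (φ : F → F)) DFunLike.coe_injective
        obtain ⟨l, hl⟩ := (isOfFinOrder_of_finite σ).mem_powers_iff_mem_zpowers.2
          (Subgroup.zpow_mem_zpowers σ i)
        exact ⟨l, hl.symm⟩
      rw [hl]; exact hR.pow l
    have hue : u ∈ Geo.quadSimilarityGroup (F := F) ⇑Q := by
      refine ⟨Units.mk0 (((μ : F) * j d) * ((μ : F) * j d)) ?_, fun v => ?_⟩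
      · intro h0
        exact u.det_ne_zero (by rw [hu, mul_self_eq_zero.1 h0, zero_smul, Matrix.det_zero])
      · conv_lhs => rw [hu]
        rw [Matrix.smul_mulVec, Matrix.one_mulVec, QuadraticMap.map_smul, Units.val_mk0, smul_eq_mul]
    have e : (poSemi h : MulAut PQ) = goHom Q ⟨u, hue⟩ * fld hτR := by
      rw [goHom_apply]
      show _ = poSemi _ * poSemi (isPair_fld hτR)
      rw [poSemi_mul (σ := (1 : RingAut F)) (τ := τ) (isPair_refl hue)]
      exact poSemi_congr _ _ (by rw [map_one, mul_one]) (one_mul τ).symm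
    rw [e, goHom_scalar (g := ⟨u, hue⟩) hu, one_mul]
    obtain ⟨l, hl⟩ := (isOfFinOrder_of_finite σ (G := RingAut F)).mem_powers_iff_mem_zpowers.2
      (Subgroup.mem_zpowers_iff.2 ⟨i, hi⟩)
    have hpow : ∀ l : ℕ, (fld hR : MulAut PQ) ^ l = fld (hR.pow l) := fun l => by
      induction l with
      | zero => rw [pow_zero, fld_congr (hR.pow 0) RatAt.one (pow_zero σ), fld_one]
      | succ l ih => rw [pow_succ, ih, fld_mul]; exact fld_congr _ _ (pow_succ σ l).symm
    rw [fld_congr hτR (hR.pow l) hl.symm, ← hpow]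
    exact Subgroup.npow_mem_zpowers _ l

/-- Local balance. -/
theorem balance_fld {p : ℕ} [Fact p.Prime] (hp : Odd p) (hσ : σ ≠ 1) (hord : orderOf (fld hR : MulAut PQ) = p)
    {A : Subgroup (MulAut PQ)} (hinn : ∀ k : PQ, MulAut.conj k ∈ A) :
    pPrimeCore p ↥(A ⊓ Subgroup.centralizer {(fld hR : MulAut PQ)}) ≠ ⊥ ↔
      Nat.Coprime p (Nat.card ↥(MonoidHom.eqLocus (fld hR : MulAut PQ).toMonoidHom (MonoidHom.id PQ))) := by
  classical
  have hpr : p.Prime := Fact.out
  obtain ⟨f, hfi, hf⟩ := H.exists_subPO H₀ hP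
  haveI hsimp : IsSimpleGroup (POmega F₀ ⇑P) := pomega_simple H₀.nd H₀.tri (omega_eq_sR_all H₀.nd H₀.tri)
  have hfixc : ∀ k, fld hR k = k ↔ Commute (MulAut.conj k) (fld hR) := fun k => by
    constructor
    · intro h
      exact MulEquiv.ext fun z => by simp only [MulAut.mul_apply, MulAut.conj_apply, map_mul, map_inv, h]
    · intro h
      refine conj_injective H.nd H.tri H.good ?_
      refine MulEquiv.ext fun z => ?_
      have h1 := DFunLike.congr_fun h.eq ((fld hR).symm z)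
      simp only [MulAut.mul_apply, MulAut.conj_apply, map_mul, map_inv, MulEquiv.apply_symm_apply] at h1 ⊢
      exact h1.symm
  have hmapfix : ∀ g : Geo.quadSimilarityGroup (F := F₀) ⇑P, goMap hR (mapGO hP g) = mapGO hP g := fun g =>
    go_ext (Matrix.ext fun a b => (hj _).2 ⟨_, rfl⟩)
  refine balance_iff (conj_injective H.nd H.tri H.good) hinn hord ?_ (P₀ := f.range) ?_ ?_ ?_ ?_ ?_ ?_
  · intro k hk
    obtain ⟨t, rfl⟩ := omPi_surjective (Q := Q) k
    rw [conj_eq_goHom, ← mul_one (goHom Q _), ← fld_one (Q := Q), ← one_mul (fld hR), ← map_one (goHom Q)] at hk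
    exact hσ (H.go_field_inj RatAt.one hR hk).1.symm
  · intro h
    obtain ⟨z, hz⟩ := exists_ne (1 : POmega F₀ ⇑P)
    have h2 : f z ∈ f.range := ⟨z, rfl⟩
    rw [h, Subgroup.mem_bot] at h2
    exact hz (hfi (h2.trans (map_one f).symm))
  · rintro _ ⟨z, rfl⟩
    obtain ⟨t, rfl⟩ := omPi_surjective (Q := P) z
    rw [hf, hfixc, H.conj_map_omega H₀ hP]
    show goHom Q _ * fld hR = fld hR * goHom Q _
    rw [field_conj_go, hmapfix]
  · rintro k hk _ ⟨z, rfl⟩
    obtain ⟨β₀, hβ, -⟩ := H.exists_restrict_cent H₀ hP hR hj ((hfixc k).1 hk)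
    exact ⟨β₀ z, (hβ f hf z).symm⟩
  · intro β hc hfix
    obtain ⟨β₀, hβ, hβ1⟩ := H.exists_restrict_cent H₀ hP hR hj hc
    refine hβ1 (MulEquiv.ext fun z => hfi ?_)
    rw [← hβ f hf z, hfix _ ⟨z, rfl⟩, MulAut.one_apply]
  · intro hd
    obtain ⟨k, hk⟩ := exists_prime_orderOf_dvd_card' p hd
    rw [← Subgroup.orderOf_coe] at hk
    obtain ⟨t, ht⟩ := omPi_surjective (Q := Q) (k : PQ)
    have hinD : MulAut.conj (k : PQ) ∈ H.diagAut ⊓ Subgroup.centralizer {(fld hR : MulAut PQ)} :=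
      ⟨H.inn_le_diagAut ⟨_, rfl⟩, Subgroup.mem_centralizer_singleton_iff.2 ((hfixc _).1 k.2).eq⟩
    rw [H.centralizer_eq_map hR hP H₀ hj] at hinD
    obtain ⟨g, hg, hgk⟩ := hinD
    rw [MonoidHom.comp_apply] at hgk
    set γ : MulAut (POmega F₀ ⇑P) := goHom P g
    have hγp : γ ^ p = 1 := by
      rw [← map_pow]
      refine (SetLike.ext_iff.1 (H.ker_comp_mapGO hP H₀) (g ^ p)).1 ?_
      rw [MonoidHom.mem_ker, map_pow, MonoidHom.comp_apply, hgk, ← map_pow, ← hk, pow_orderOf_eq_one, map_one]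
    have hγ4 : γ ^ 4 ∈ Inn (POmega F₀ ⇑P) := by
      by_cases h2 : (2 : F₀) = 0
      · exact pow_mem (H₀.diagAut_eq_inn_two h2 ▸ ⟨g, hg, rfl⟩ : γ ∈ Inn (POmega F₀ ⇑P)) 4
      · set c : F₀ := ((mu g : F₀ˣ) : F₀) with hc
        have hc0 : c ≠ 0 := (mu g).ne_zero
        have hgd : ((g : GL ι F₀) : Matrix ι ι F₀).det = c ^ n := (psgn_eq_one_iff_det h2 g).1 hg
        set M : Matrix ι ι F₀ := c⁻¹ • (((g : GL ι F₀) : Matrix ι ι F₀) * ((g : GL ι F₀) : Matrix ι ι F₀))
        have hMd : M.det = 1 := by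
          rw [Matrix.det_smul, Matrix.det_mul, hgd, H₀.card, ← pow_add, ← two_mul, ← mul_pow,
            inv_mul_cancel₀ hc0, one_pow]
        let w : isometryGroup F₀ ⇑P := mkIsometry M (by rw [hMd]; exact one_ne_zero) fun v => by
          rw [Matrix.smul_mulVec, ← Matrix.mulVec_mulVec, QuadraticMap.map_smul, mu_spec, mu_spec, ← hc,
            smul_eq_mul]
          field_simp
        have hw : w * w ∈ Omega F₀ ⇑P := by
          refine (mem_omega_iff h2 H₀.nd H₀.tri _).2 ⟨?_, by rw [map_mul, Int.units_mul_self]⟩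
          rw [ogVal_mul, Matrix.det_mul, show (ogVal w).det = 1 from hMd, one_mul]
        rw [inn_eq_map]
        refine ⟨w * w, hw, ?_⟩
        rw [show γ ^ 4 = goHom P (g ^ 4) from (map_pow _ _ _).symm, eq_comm, ← mul_inv_eq_one,
          show ogHom P (w * w) = goHom P (ogToGO P (w * w)) from rfl, ← map_inv, ← map_mul]
        refine goHom_scalar (c := c * c) ?_
        have e : (((g ^ 4 : Geo.quadSimilarityGroup (F := F₀) ⇑P) : GL ι F₀) : Matrix ι ι F₀) =
            (c * c) • (ogVal (w * w)) := by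
          rw [ogVal_mul, show ogVal w = M from rfl, Matrix.smul_mul, Matrix.mul_smul, smul_smul, smul_smul,
            show c * c * c⁻¹ * c⁻¹ = 1 by field_simp, one_smul, SubmonoidClass.coe_pow, Units.val_pow_eq_pow_val]
          simp only [pow_succ, pow_zero, one_mul, mul_assoc]
        rw [Subgroup.coe_mul, Units.val_mul, e, Matrix.smul_mul]
        congr 1
        show ogVal (w * w) * ogVal (w * w)⁻¹ = 1
        rw [← ogVal_mul, mul_inv_cancel, ogVal_one]
    have hγI : γ ∈ Inn (POmega F₀ ⇑P) := by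
      obtain ⟨i, hi⟩ : ∃ i : ℕ, p * i + 1 = 4 * ((p * i + 1) / 4) := by
        obtain ⟨r, rfl⟩ := hp
        rcases Nat.even_or_odd r with ⟨s, rfl⟩ | ⟨s, rfl⟩
        · exact ⟨3, by omega⟩
        · exact ⟨1, by omega⟩
      have e : γ = (γ ^ 4) ^ ((p * i + 1) / 4) := by
        rw [← pow_mul, ← hi, pow_succ, pow_mul, hγp, one_pow, one_mul]
      rw [e]; exact pow_mem hγ4 _
    obtain ⟨z, hz⟩ := hγI
    obtain ⟨s, rfl⟩ := omPi_surjective (Q := P) z
    have hks : f (omPi (Q := P) s) = (k : PQ) := by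
      refine conj_injective H.nd H.tri H.good ?_
      rw [hf, H.conj_map_omega H₀ hP, ← hgk]
      rw [← mul_inv_eq_one, ← map_inv, ← map_mul, ← map_inv, ← map_mul]
      refine (SetLike.ext_iff.1 (H.ker_comp_mapGO hP H₀) _).2 ?_
      rw [MonoidHom.mem_ker, map_mul, map_inv, mul_inv_eq_one, ← conj_eq_goHom]
      exact hz
    rw [← hk, ← Nat.card_zpowers, ← hks, ← MonoidHom.map_zpowers]
    exact Subgroup.card_dvd_of_le (fun x ⟨y, _, hy⟩ => ⟨y, hy⟩)
  · intro hd M hM hc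
    haveI : IsSimpleGroup f.range := (MonoidHom.ofInjective hfi).symm.isSimpleGroup
    rcases hM.eq_bot_or_eq_top with h | h
    · exact h
    · exfalso
      rw [h, Subgroup.card_top] at hc
      exact hpr.ne_one (Nat.eq_one_of_dvd_coprimes hc hd dvd_rfl)

end EvenSpace

end Cfsg.Agent.Classical.OrthAut
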