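import Cfsg.Agent.Lib.Classical.SympEvenIsom
import Cfsg.Agent.Lib.Classical.Symp

/-!
Involutions of `Sp(2m, q)`, `q` even: conjugacy classes and centraliser orders.
-/

set_option autoImplicit false

namespace Cfsg.Agent.Classical.SympEven

open Module Matrix Cfsg.Agent.Classical

universe u

variable {F : Type u} [Field F] [CharP F 2] {m : ℕ}

attribute [local instance] Classical.propDecidable

/-- The map `t - 1`. -/
noncomputable def nilOf (t : Matrix.symplecticGroup (Fin m) F) : Module.End F (Fin m ⊕ Fin m → F) :=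
  Matrix.toLin' ((t : Matrix (Fin m ⊕ Fin m) (Fin m ⊕ Fin m) F) - 1)

theorem nilOf_apply (t : Matrix.symplecticGroup (Fin m) F) (v : Fin m ⊕ Fin m → F) :
    nilOf t v = (t : Matrix (Fin m ⊕ Fin m) (Fin m ⊕ Fin m) F) *ᵥ v + v := by
  rw [nilOf, Matrix.toLin'_apply, Matrix.sub_mulVec, Matrix.one_mulVec]
  ext i
  simp [CharTwo.sub_eq_add]

theorem nil_of_sq {t : Matrix.symplecticGroup (Fin m) F} (ht : t ^ 2 = 1) : Nil (sympB m F) (nilOf t) := by
  have hsq : ∀ v, (t : Matrix (Fin m ⊕ Fin m) (Fin m ⊕ Fin m) F) *ᵥ ((t : Matrix (Fin m ⊕ Fin m) (Fin m ⊕ Fin m) F) *ᵥ v) = v :=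
    fun v => by rw [Matrix.mulVec_mulVec, ← Submonoid.coe_mul, ← sq, ht, OneMemClass.coe_one, Matrix.one_mulVec]
  refine ⟨fun v => by rw [sympB_apply, sympForm_self], fun x hx => eq_zero_of_sympForm_eq_zero fun v => by
    rw [← sympB_apply]; exact hx v, fun v => ?_, fun u v => ?_⟩
  · rw [nilOf_apply, nilOf_apply, Matrix.mulVec_add, hsq]
    ext i
    simp only [Pi.add_apply, Pi.zero_apply]
    linear_combination (v i + ((t : Matrix (Fin m ⊕ Fin m) (Fin m ⊕ Fin m) F) *ᵥ v) i) * CharTwo.two_eq_zero (R := F)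
  · rw [nilOf_apply, nilOf_apply, map_add, map_add, LinearMap.add_apply, sympB_apply, sympB_apply, sympB_apply,
      ← sympForm_map t ((t : Matrix (Fin m ⊕ Fin m) (Fin m ⊕ Fin m) F) *ᵥ u) v, hsq]

theorem rank_eq (t : Matrix.symplecticGroup (Fin m) F) :
    ((t : Matrix (Fin m ⊕ Fin m) (Fin m ⊕ Fin m) F) - 1).rank = finrank F (LinearMap.range (nilOf t)) := rfl

theorem form_apply_nil (t : Matrix.symplecticGroup (Fin m) F) (v : Fin m ⊕ Fin m → F) :
    sympB m F v (nilOf t v) = sympForm m F v ((t : Matrix (Fin m ⊕ Fin m) (Fin m ⊕ Fin m) F) *ᵥ v) := by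
  rw [nilOf_apply, map_add, sympB_apply, sympB_apply, sympForm_self, add_zero]

theorem finrank_space : finrank F (Fin m ⊕ Fin m → F) = 2 * m := by
  rw [Module.finrank_fintype_fun_eq_card, Fintype.card_sum, Fintype.card_fin, two_mul]

variable [Finite F] {I : Type} [Fintype I] [DecidableEq I] {G : Matrix I I F}

theorem card_le_of_frame {t : Matrix.symplecticGroup (Fin m) F} (ht : t ^ 2 = 1) {u : I → Fin m ⊕ Fin m → F}
    (hu : IsTFrame (sympB m F) (nilOf t) G u) (hG : IsUnit G.det) : Fintype.card I ≤ m := by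
  have h := finrank_perp (nil_of_sq ht) hu hG
  rw [finrank_space] at h
  omega

/-- The isometry of a symplectic matrix. -/
noncomputable def linOf (g : Matrix.symplecticGroup (Fin m) F) : (Fin m ⊕ Fin m → F) ≃ₗ[F] (Fin m ⊕ Fin m → F) :=
  LinearEquiv.ofLinear (Matrix.toLin' (g : Matrix (Fin m ⊕ Fin m) (Fin m ⊕ Fin m) F))
    (Matrix.toLin' ((g⁻¹ : Matrix.symplecticGroup (Fin m) F) : Matrix (Fin m ⊕ Fin m) (Fin m ⊕ Fin m) F))
    (by rw [← Matrix.toLin'_mul, ← Submonoid.coe_mul, mul_inv_cancel, OneMemClass.coe_one, Matrix.toLin'_one])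
    (by rw [← Matrix.toLin'_mul, ← Submonoid.coe_mul, inv_mul_cancel, OneMemClass.coe_one, Matrix.toLin'_one])

omit [CharP F 2] [Finite F] in
theorem linOf_apply (g : Matrix.symplecticGroup (Fin m) F) (v : Fin m ⊕ Fin m → F) :
    linOf g v = (g : Matrix (Fin m ⊕ Fin m) (Fin m ⊕ Fin m) F) *ᵥ v :=
  Matrix.toLin'_apply _ _

omit [Finite F] in
theorem intertwine_iff (t t' g : Matrix.symplecticGroup (Fin m) F) :
    (∀ v, linOf g (nilOf t v) = nilOf t' (linOf g v)) ↔ g * t = t' * g := by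
  simp only [linOf_apply, nilOf_apply, Matrix.mulVec_add, Matrix.mulVec_mulVec, add_left_inj]
  rw [Subtype.ext_iff, Matrix.ext_iff_mulVec]
  rfl

omit [CharP F 2] [Finite F] in
theorem exists_of_iso (e : (Fin m ⊕ Fin m → F) ≃ₗ[F] (Fin m ⊕ Fin m → F))
    (he : ∀ x y, sympB m F (e x) (e y) = sympB m F x y) :
    ∃ g : Matrix.symplecticGroup (Fin m) F, linOf g = e := by
  have hv : ∀ v, LinearMap.toMatrix' e.toLinearMap *ᵥ v = e v := fun v => by
    rw [← Matrix.toLin'_apply, Matrix.toLin'_toMatrix']; rfl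
  refine ⟨⟨_, mem_symplecticGroup_iff_form.2 fun u v => ?_⟩, LinearEquiv.ext fun v => (linOf_apply _ v).trans (hv v)⟩
  rw [hv, hv, ← sympB_apply, he, sympB_apply]

theorem isConj_of_frames {t t' : Matrix.symplecticGroup (Fin m) F} (ht : t ^ 2 = 1) (ht' : t' ^ 2 = 1)
    {u u' : I → Fin m ⊕ Fin m → F} (hu : IsTFrame (sympB m F) (nilOf t) G u)
    (hu' : IsTFrame (sympB m F) (nilOf t') G u') (hG : IsUnit G.det)
    (hr : finrank F (LinearMap.range (nilOf t)) = Fintype.card I)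
    (hr' : finrank F (LinearMap.range (nilOf t')) = Fintype.card I) : IsConj t t' := by
  have hle := card_le_of_frame ht hu hG
  have hd : finrank F (Fin m ⊕ Fin m → F) = 2 * Fintype.card I + 2 * (m - Fintype.card I) := by
    rw [finrank_space]; omega
  obtain ⟨e, he, hN⟩ := exists_iso (nil_of_sq ht) (nil_of_sq ht') hu hu' hG hr hr' hd hd
  obtain ⟨g, rfl⟩ := exists_of_iso e he
  exact isConj_iff.2 ⟨g, mul_inv_eq_iff_eq_mul.2 ((intertwine_iff t t' g).1 hN)⟩

/-- Centraliser order from a frame. -/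
theorem card_centralizer_of_frame {t : Matrix.symplecticGroup (Fin m) F} (ht : t ^ 2 = 1)
    {u : I → Fin m ⊕ Fin m → F} (hu : IsTFrame (sympB m F) (nilOf t) G u) (hG : IsUnit G.det) {s : ℕ}
    (hI : Fintype.card I = s) (hr : finrank F (LinearMap.range (nilOf t)) = s) :
    s ≤ m ∧ Nat.card ↥(Subgroup.centralizer ({t} : Set (Matrix.symplecticGroup (Fin m) F))) =
      Nat.card {A : Matrix I I F // A * G * Aᵀ = G} * Nat.card F ^ (2 * m * s - (3 * s ^ 2 - s) / 2) *
        spNum (Nat.card F) (m - s) := by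
  have hle : s ≤ m := hI ▸ card_le_of_frame ht hu hG
  refine ⟨hle, ?_⟩
  haveI := Fintype.ofFinite F
  have h := nil_of_sq ht
  have hd : finrank F (Fin m ⊕ Fin m → F) = 2 * Fintype.card I + 2 * (m - s) := by
    rw [finrank_space, hI]; omega
  have hfr := card_frames h hu hG (hr.trans hI.symm)
  have hker : finrank F (LinearMap.ker (nilOf t)) = 2 * m - s := by
    have := (nilOf t).finrank_range_add_finrank_ker
    rw [finrank_space] at this
    omega
  rw [hker, hI] at hfr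
  have hexp : s * (2 * m - s) = (2 * m * s - (3 * s ^ 2 - s) / 2) + s.choose 2 := by
    obtain ⟨d, rfl⟩ := Nat.exists_eq_add_of_le hle
    rcases s with _ | s
    · simp
    rw [Nat.choose_two_right, Nat.add_sub_cancel]
    obtain ⟨c, hc⟩ := Nat.even_mul_succ_self s
    have hc' : (s + 1) * s / 2 = c := by rw [mul_comm, hc]; omega
    rw [hc', show 2 * (s + 1 + d) - (s + 1) = s + 1 + 2 * d by omega,
      show 3 * (s + 1) ^ 2 - (s + 1) = 2 * ((s + 1) * (s + 1) + c) by
        rw [show 3 * (s + 1) ^ 2 = 2 * ((s + 1) * (s + 1) + c) + (s + 1) by linear_combination hc]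
        omega,
      Nat.mul_div_cancel_left _ two_pos,
      show 2 * (s + 1 + d) * (s + 1) = ((s + 1) * (s + 1 + 2 * d) - c) + ((s + 1) * (s + 1) + c) by
        rw [show (s + 1) * (s + 1 + 2 * d) - c + ((s + 1) * (s + 1) + c) = (s + 1) * (s + 1 + 2 * d) + (s + 1) * (s + 1) from by
          have : c ≤ (s + 1) * (s + 1 + 2 * d) := le_trans (by nlinarith) (Nat.mul_le_mul_left _ (Nat.le_add_right (s+1) (2*d)))
          omega]
        ring,
      Nat.add_sub_cancel, Nat.sub_add_cancel (le_trans (show c ≤ (s + 1) * (s + 1) by nlinarith) (Nat.mul_le_mul_left _ (Nat.le_add_right (s+1) (2*d))))]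
  rw [hexp, pow_add, ← mul_assoc] at hfr
  have hfr' := mul_right_cancel₀ (pow_ne_zero _ (Nat.card_pos (α := F)).ne') hfr
  have hsp : Nat.card (Matrix.symplecticGroup (Fin (m - s)) F) = spNum (Nat.card F) (m - s) := by
    rw [Nat.card_eq_fintype_card (α := F), spNum, Fin.prod_univ_eq_prod_range
      (fun i => Fintype.card F ^ (2 * (i + 1)) - 1), Cfsg.Agent.S0245.result (F := F) rfl (m - s)]
  rw [← hfr', ← hsp, ← card_commutant h hu hG (hr.trans hI.symm) hd]
  refine Nat.card_eq_of_bijective (fun g => ⟨linOf g.1, fun x y => ?_, (intertwine_iff t t g.1).2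
    (Subgroup.mem_centralizer_singleton_iff.1 g.2)⟩) ⟨fun g g' he => ?_, fun e => ?_⟩
  · rw [linOf_apply, linOf_apply, sympB_apply, sympB_apply, sympForm_map]
  · refine Subtype.ext (Subtype.ext (Matrix.ext_iff_mulVec.2 fun v => ?_))
    rw [← linOf_apply, ← linOf_apply, show linOf g.1 = linOf g'.1 from congrArg Subtype.val he]
  · obtain ⟨g, hg⟩ := exists_of_iso e.1 e.2.1
    exact ⟨⟨g, Subgroup.mem_centralizer_singleton_iff.2 ((intertwine_iff t t g).1 (hg.symm ▸ e.2.2))⟩, Subtype.ext hg⟩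

theorem centralizer_odd {s : ℕ} {t : Matrix.symplecticGroup (Fin m) F} (ht : t ^ 2 = 1)
    (hs : finrank F (LinearMap.range (nilOf t)) = s) (hodd : Odd s) :
    Nat.card ↥(Subgroup.centralizer ({t} : Set (Matrix.symplecticGroup (Fin m) F))) =
      Nat.card F ^ (2 * m * s - (3 * s ^ 2 - s) / 2) * spNum (Nat.card F) ((s - 1) / 2) *
        spNum (Nat.card F) (m - s) := by
  obtain ⟨halt, hna⟩ := exists_normal (nil_of_sq ht)
  have hex : ∃ v, sympB m F v (nilOf t v) ≠ 0 := by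
    by_contra! hall
    obtain ⟨k, hk, -⟩ := halt hall
    rw [hs, Fintype.card_sum, Fintype.card_fin] at hk
    exact Nat.not_even_iff_odd.2 hodd ⟨k, hk⟩
  obtain ⟨u, hu⟩ := hna hex
  obtain ⟨hle, hcard⟩ := card_centralizer_of_frame ht hu (by simp) (Fintype.card_fin _) rfl
  rw [hs] at hcard
  rw [hcard, card_orth_one]
  obtain ⟨h, rfl⟩ := hodd
  rw [(onNum_eq _ h).1, Nat.add_sub_cancel, Nat.mul_div_cancel_left _ two_pos]
  ring

theorem centralizer_even_alt {s : ℕ} {t : Matrix.symplecticGroup (Fin m) F} (ht : t ^ 2 = 1)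
    (hs : finrank F (LinearMap.range (nilOf t)) = s) (halt : ∀ v, sympB m F v (nilOf t v) = 0) :
    Nat.card ↥(Subgroup.centralizer ({t} : Set (Matrix.symplecticGroup (Fin m) F))) =
      Nat.card F ^ (2 * m * s - (3 * s ^ 2 - s) / 2) * spNum (Nat.card F) (s / 2) *
        spNum (Nat.card F) (m - s) := by
  obtain ⟨k, hk, u, hu⟩ := (exists_normal (nil_of_sq ht)).1 halt
  obtain ⟨hle, hcard⟩ := card_centralizer_of_frame ht hu (Matrix.isUnit_det_J (Fin k) F) rfl hk
  rw [hcard, card_isom_J, ← hk, hs]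
  rw [hs, Fintype.card_sum, Fintype.card_fin] at hk
  rw [show s / 2 = k by omega]
  ring

theorem centralizer_even {s : ℕ} {t : Matrix.symplecticGroup (Fin m) F} (ht : t ^ 2 = 1)
    (hs : finrank F (LinearMap.range (nilOf t)) = s) (heven : Even s) (hna : ∃ v, sympB m F v (nilOf t v) ≠ 0) :
    Nat.card ↥(Subgroup.centralizer ({t} : Set (Matrix.symplecticGroup (Fin m) F))) =
      Nat.card F ^ (2 * m * s - (3 * s ^ 2 - 3 * s) / 2 - 1) * spNum (Nat.card F) ((s - 2) / 2) *
        spNum (Nat.card F) (m - s) := by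
  obtain ⟨u, hu⟩ := (exists_normal (nil_of_sq ht)).2 hna
  obtain ⟨hle, hcard⟩ := card_centralizer_of_frame ht hu (by simp) (Fintype.card_fin _) rfl
  have hpos : s ≠ 0 := fun h0 => by
    obtain ⟨v, hv⟩ := hna
    rw [h0] at hs
    have hz : nilOf t v = 0 := by
      have := Submodule.finrank_eq_zero.1 hs
      exact (Submodule.mem_bot F).1 (this ▸ LinearMap.mem_range_self (nilOf t) v)
    rw [hz, map_zero] at hv
    exact hv rfl
  rw [hs] at hcard hle
  rw [hcard, card_orth_one]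
  obtain ⟨h, rfl⟩ := heven
  obtain ⟨h, rfl⟩ : ∃ l, h = l + 1 := ⟨h - 1, by omega⟩
  rw [show h + 1 + (h + 1) = 2 * h + 2 by ring, (onNum_eq _ h).2, show (2 * h + 2 - 2) / 2 = h by omega]
  have hexp : 2 * h + 1 + (2 * m * (2 * h + 2) - (3 * (2 * h + 2) ^ 2 - (2 * h + 2)) / 2) =
      2 * m * (2 * h + 2) - (3 * (2 * h + 2) ^ 2 - 3 * (2 * h + 2)) / 2 - 1 := by
    have h1 : (3 * (2 * h + 2) ^ 2 - (2 * h + 2)) / 2 = 6 * h * h + 11 * h + 5 := by
      rw [show 3 * (2 * h + 2) ^ 2 = 2 * (6 * h * h + 11 * h + 5) + (2 * h + 2) by ring, Nat.add_sub_cancel,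
        Nat.mul_div_cancel_left _ two_pos]
    have h3 : (3 * (2 * h + 2) ^ 2 - 3 * (2 * h + 2)) / 2 = 6 * h * h + 9 * h + 3 := by
      rw [show 3 * (2 * h + 2) ^ 2 = 2 * (6 * h * h + 9 * h + 3) + 3 * (2 * h + 2) by ring, Nat.add_sub_cancel,
        Nat.mul_div_cancel_left _ two_pos]
    have h4 : 2 * (2 * h + 2) * (2 * h + 2) ≤ 2 * m * (2 * h + 2) :=
      Nat.mul_le_mul_right _ (Nat.mul_le_mul_left _ (by omega))
    have h5 : 2 * (2 * h + 2) * (2 * h + 2) = 8 * h * h + 16 * h + 8 := by ring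
    have h6 : 6 * h * h ≤ 8 * h * h := by nlinarith
    rw [h1, h3]
    omega
  rw [← hexp, pow_add]
  ring

end Cfsg.Agent.Classical.SympEven
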