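import Cfsg.Agent.Lib.Classical.OrthEvenOmega
import Cfsg.Agent.Lib.Classical.SympEvenInvolutions

/-!
The centraliser of an involution in a plus-type orthogonal group, `q` even, inside the symplectic one: the quadratic
forms with the given polar form fixed by the involution are `x ↦ Q x + B(x,a)²` with `a` fixed by it, and the
isometries of `B` commuting with it reach exactly those with `Q a` of the form `c² + c`.
-/

set_option autoImplicit false
set_option linter.unusedSectionVars false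

namespace Cfsg.Agent.Classical.SympEven

open Module Matrix Cfsg.Agent.Classical Cfsg.Agent.Classical.OrthAut

universe u v

attribute [-simp] QuadraticMap.polarBilin_apply_apply

variable {F : Type u} [Field F]

/-- The values `c² + c`. -/
def IsAS (x : F) : Prop := ∃ c : F, c * c + c = x

theorem two_mul_card_of_flip {α : Type v} [Finite α] (P : α → Prop) (σ : α ≃ α) (h : ∀ x, P (σ x) ↔ ¬ P x) :
    2 * Nat.card {x : α // P x} = Nat.card α := by
  classical
  have h1 : Nat.card {x : α // P x} = Nat.card {x : α // ¬ P x} :=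
    Nat.card_congr (σ.subtypeEquiv fun x => by rw [h, not_not])
  have h2 : Nat.card α = Nat.card {x : α // P x} + Nat.card {x : α // ¬ P x} := by
    rw [← Nat.card_sum, Nat.card_congr (Equiv.sumCompl P)]
  omega

variable [CharP F 2] [Finite F]

theorem isAS_add_delta {δ : F} (hδ : ∀ c : F, c * c + c ≠ δ) (x : F) : IsAS (x + δ) ↔ ¬ IsAS x := by
  classical
  let P : F →+ F :=
    { toFun := fun c => c * c + c
      map_zero' := by simp
      map_add' := fun x y => by linear_combination x * y * CharTwo.two_eq_zero (R := F) }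
  have hker : Nat.card P.ker ≤ 2 := by
    refine (Nat.card_le_card_of_injective (fun x : P.ker => decide ((x : F) = 0)) fun x y hxy => ?_).trans (by simp)
    have key : ∀ z : P.ker, (z : F) = 0 ∨ (z : F) = 1 := fun z => by
      have hz : (z : F) * z + z = 0 := z.2
      rcases mul_eq_zero.1 (show (z : F) * (z + 1) = 0 by linear_combination hz) with h | h
      · exact Or.inl h
      · exact Or.inr (CharTwo.add_eq_zero.1 h)
    refine Subtype.ext ?_
    rcases key x with h1 | h1 <;> rcases key y with h3 | h3 <;> simp [h1, h3] at hxy ⊢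
  have hn : δ ∉ P.range := fun ⟨c, hc⟩ => hδ c hc
  have hidx : P.range.index = 2 := by
    have h1 := P.range.index_mul_card
    have h3 := AddSubgroup.index_mul_card P.ker
    rw [AddSubgroup.index_ker] at h3
    have hne : P.range.index ≠ 1 := fun h0 => hn ((AddSubgroup.index_eq_one.1 h0) ▸ AddSubgroup.mem_top _)
    have hne0 : P.range.index ≠ 0 := AddSubgroup.index_ne_zero_of_finite
    have h5 := Nat.eq_of_mul_eq_mul_right (Nat.card_pos (α := P.range))
      (show P.range.index * Nat.card P.range = Nat.card P.ker * Nat.card P.range by rw [h1, ← h3, mul_comm])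
    omega
  have hiff : ∀ z : F, IsAS z ↔ z ∈ P.range := fun z => Iff.rfl
  rw [hiff, hiff, AddSubgroup.add_mem_iff_of_index_two hidx]
  tauto

theorem isAS_zero : IsAS (0 : F) := ⟨0, by simp⟩

variable {V : Type v} [AddCommGroup V] [Module F V] [FiniteDimensional F V] {Q : QuadraticForm F V}
  {N : Module.End F V} {m : ℕ}

local notation3 "B" => QuadraticMap.polarBilin Q

omit [Finite F] [FiniteDimensional F V] in
/-- The transvection carrying `Q` to `Q + B(·,a)²`. -/
theorem exists_transv (h : QNil Q N) {a : V} (ha : N a = 0) (hAS : IsAS (Q a)) :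
    ∃ T : V ≃ₗ[F] V, (∀ x, T (T x) = x) ∧ (∀ x y, B (T x) (T y) = B x y) ∧ (∀ x, T (N x) = N (T x)) ∧
      ∀ x, Q (T x) = Q x + B x a * B x a := by
  obtain ⟨c, hc⟩ : ∃ c : F, c + c * c * Q a = 1 := by
    by_cases h0 : Q a = 0
    · exact ⟨1, by rw [h0]; ring⟩
    · obtain ⟨y, hy⟩ := hAS
      refine ⟨y / Q a, ?_⟩
      field_simp
      linear_combination hy
  have haa : B a a = 0 := polar_alt Q a
  let T : V →ₗ[F] V := LinearMap.id + (c • LinearMap.flip B a).smulRight a
  have hT : ∀ x, T x = x + (c * B x a) • a := fun x => rfl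
  have hTT : ∀ x, T (T x) = x := fun x => by
    rw [hT, hT]
    simp only [map_add, LinearMap.add_apply, map_smul, LinearMap.smul_apply, smul_eq_mul, haa, mul_zero, add_zero,
      add_assoc, ← two_smul F ((c * B x a) • a), CharTwo.two_eq_zero, zero_smul]
  refine ⟨LinearEquiv.ofLinear T T (LinearMap.ext hTT) (LinearMap.ext hTT), hTT, fun x y => ?_, fun x => ?_, fun x => ?_⟩
  · show B (T x) (T y) = B x y
    rw [hT, hT]
    simp only [map_add, LinearMap.add_apply, map_smul, LinearMap.smul_apply, smul_eq_mul, haa,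
      alt_comm (polar_alt Q) a y]
    linear_combination (c * B x a * B y a) * CharTwo.two_eq_zero (R := F)
  · show T (N x) = N (T x)
    rw [hT, hT, map_add, map_smul, ha, smul_zero, h.nil.adj, ha, map_zero, mul_zero, zero_smul]
  · show Q (T x) = _
    rw [hT, quad_add', quad_smul, map_smul, smul_eq_mul]
    linear_combination (B x a * B x a) * hc

/-- The translate of `Q` under an isometry of `B` commuting with `N`. -/
theorem exists_trans_vec (hQ : (QuadraticMap.polarBilin Q).Nondegenerate) (h : QNil Q N) {e : V ≃ₗ[F] V}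
    (he : ∀ x y, B (e x) (e y) = B x y) (heN : ∀ x, e (N x) = N (e x)) :
    ∃ a, N a = 0 ∧ ∀ x, Q (e x) = Q x + B x a * B x a := by
  have := Fintype.ofFinite F
  choose r hr using fun x => FiniteField.isSquare_of_char_two (ringChar.eq F 2) (Q (e x) + Q x)
  have hinj : ∀ {a b : F}, a * a = b * b → a = b := fun {a b} hab => by
    refine CharTwo.add_eq_zero.1 (mul_self_eq_zero.1 ?_)
    linear_combination hab + (b * b + a * b) * CharTwo.two_eq_zero (R := F)
  let φ : V →ₗ[F] F :=
    { toFun := r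
      map_add' := fun x y => hinj (by
        rw [← hr, map_add, quad_add', quad_add', he]
        linear_combination hr x + hr y + (B x y - r x * r y) * CharTwo.two_eq_zero (R := F))
      map_smul' := fun c x => hinj (by
        rw [← hr, map_smul, quad_smul, quad_smul, RingHom.id_apply, smul_eq_mul]
        linear_combination (c * c) * hr x) }
  refine ⟨(LinearMap.BilinForm.toDual B hQ).symm φ, ?_⟩
  have hφ : ∀ x, B x ((LinearMap.BilinForm.toDual B hQ).symm φ) = r x := fun x => by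
    rw [alt_comm (polar_alt Q), LinearMap.BilinForm.apply_toDual_symm_apply]
    rfl
  have hval : ∀ x, Q (e x) = Q x + B x ((LinearMap.BilinForm.toDual B hQ).symm φ) *
      B x ((LinearMap.BilinForm.toDual B hQ).symm φ) := fun x => by
    rw [hφ, ← hr]
    linear_combination (-Q x) * CharTwo.two_eq_zero (R := F)
  refine ⟨hQ.2 _ fun x => ?_, hval⟩
  have h1 := hval (N x)
  rw [heN, h.quad, h.quad, ← heN, he, h.nil.adj] at h1
  exact mul_self_eq_zero.1 (by linear_combination -h1)

/-- Only the vectors of value `c² + c` are reached. -/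
theorem isAS_of_trans (hQ : (QuadraticMap.polarBilin Q).Nondegenerate) (hV : finrank F V = 2 * m) (hP : IsPlus Q m)
    {e : V ≃ₗ[F] V} {a : V} (hea : ∀ x, Q (e x) = Q x + B x a * B x a) :
    IsAS (Q a) := by
  classical
  by_contra hAS
  obtain ⟨U₀, hU₀, hU₀0⟩ := hP
  let U := U₀.map e.symm.toLinearMap
  have hU : finrank F U = m := by
    rw [show U = U₀.map e.symm.toLinearMap from rfl, ← hU₀]
    exact (e.symm.submoduleMap U₀).finrank_eq.symm
  have hval : ∀ u ∈ U, Q u = B u a * B u a := by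
    rintro u ⟨w, hw, rfl⟩
    have h1 := hea (e.symm w)
    rw [LinearEquiv.apply_symm_apply, hU₀0 w hw] at h1
    exact CharTwo.add_eq_zero.1 h1.symm
  have hiso : ∀ u ∈ U, ∀ w ∈ U, B u w = 0 := fun u hu w hw => by
    have h1 := hval _ (U.add_mem hu hw)
    rw [quad_add', hval u hu, hval w hw, map_add, LinearMap.add_apply] at h1
    linear_combination h1 + (B u a * B w a) * CharTwo.two_eq_zero (R := F)
  have hperp : ∀ z, (∀ u ∈ U, B z u = 0) → z ∈ U := fun z hz => by
    have hle : U ≤ LinearMap.BilinForm.orthogonal B U := fun w hw =>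
      LinearMap.BilinForm.mem_orthogonal_iff.2 fun u hu => hiso u hu w hw
    have heq : U = LinearMap.BilinForm.orthogonal B U := Submodule.eq_of_le_of_finrank_eq hle (by
      rw [LinearMap.BilinForm.finrank_orthogonal hQ, hU, hV]; omega)
    rw [heq, LinearMap.BilinForm.mem_orthogonal_iff]
    intro u hu
    show B u z = 0
    rw [alt_comm (polar_alt Q), hz u hu]
  obtain ⟨u₁, hu₁, hu₁a⟩ : ∃ u ∈ U, B u a = 1 := by
    by_contra! hall
    refine hAS ?_
    have hz : a ∈ U := hperp a fun u hu => by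
      by_contra hne
      rw [alt_comm (polar_alt Q)] at hne
      refine hall _ (U.smul_mem (B u a)⁻¹ hu) ?_
      rw [map_smul, LinearMap.smul_apply, smul_eq_mul, inv_mul_cancel₀ hne]
    rw [hval a hz, show B a a = 0 from polar_alt Q a, mul_zero]
    exact isAS_zero
  let W₀ := U ⊓ LinearMap.ker (LinearMap.flip B a)
  have hmem : ∀ {w}, w ∈ W₀ ↔ w ∈ U ∧ B w a = 0 := fun {w} => Iff.rfl
  have hle := singular_finrank_le Q hQ (A := W₀) (C := U₀)
    (fun w hw => by rw [hval w (hmem.1 hw).1, (hmem.1 hw).2, mul_zero]) hU₀0 fun W hW hW0 => by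
      refine le_antisymm (fun z hz => ?_) hW
      have hzW : ∀ w ∈ W₀, B z w = 0 := fun w hw => by
        show QuadraticMap.polar ⇑Q z w = 0
        rw [QuadraticMap.polar, hW0 _ (W.add_mem hz (hW hw)), hW0 _ hz, hW0 _ (hW hw)]; ring
      set c := B z u₁
      have hu : z + c • a ∈ U := hperp _ fun u hu => by
        have h1 := hzW (u + B u a • u₁) (hmem.2 ⟨U.add_mem hu (U.smul_mem _ hu₁), by
          rw [map_add, LinearMap.add_apply, map_smul, LinearMap.smul_apply, hu₁a, smul_eq_mul, mul_one,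
            CharTwo.add_self_eq_zero]⟩)
        rw [map_add, map_smul, smul_eq_mul] at h1
        rw [map_add, LinearMap.add_apply, map_smul, LinearMap.smul_apply, smul_eq_mul, alt_comm (polar_alt Q) a u]
        linear_combination h1
      have hz0 := hW0 z hz
      set d := B (z + c • a) a with hd
      have hzsum : z = (z + c • a) + c • a := by
        rw [add_assoc, ← two_smul F (c • a), CharTwo.two_eq_zero, zero_smul, add_zero]
      rw [hzsum, quad_add', hval _ hu, ← hd, quad_smul, map_smul, smul_eq_mul, ← hd] at hz0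
      by_cases hc : c = 0
      · rw [hc] at hz0
        have hd0 : d = 0 := mul_self_eq_zero.1 (by linear_combination hz0)
        rw [hd, hc, zero_smul, add_zero] at hd0
        rw [hc, zero_smul, add_zero] at hu
        exact hmem.2 ⟨hu, hd0⟩
      · refine absurd ⟨d / c, ?_⟩ hAS
        field_simp
        linear_combination hz0 - c ^ 2 * Q a * CharTwo.two_eq_zero (R := F)
  have hlt : W₀ < U := lt_of_le_of_ne inf_le_left fun h0 => by
    rw [← h0] at hu₁
    exact zero_ne_one ((hmem.1 hu₁).2.symm.trans hu₁a)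
  have := Submodule.finrank_lt_finrank_of_lt hlt
  rw [hU₀] at hle
  omega

/-- The isometries of `B` commuting with `N` against those of `Q`. -/
theorem card_bcomm_eq (hQ : (QuadraticMap.polarBilin Q).Nondegenerate) (hV : finrank F V = 2 * m) (hP : IsPlus Q m)
    (h : QNil Q N) :
    Nat.card {e : V ≃ₗ[F] V // (∀ x y, B (e x) (e y) = B x y) ∧ ∀ x, e (N x) = N (e x)} =
      Nat.card {a : LinearMap.ker N // IsAS (Q a)} *
        Nat.card {e : V ≃ₗ[F] V // (∀ x, Q (e x) = Q x) ∧ ∀ x, e (N x) = N (e x)} := by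
  classical
  rw [← Nat.card_prod]
  choose T hTT hTB hTN hTQ using fun a : {a : LinearMap.ker N // IsAS (Q a)} => exists_transv h a.1.2 a.2
  have hB : ∀ (e : V ≃ₗ[F] V), (∀ x, Q (e x) = Q x) → ∀ x y, B (e x) (e y) = B x y := fun e he =>
    polar_preserved_of_map Q (L := e.toLinearMap) he
  let f : {a : LinearMap.ker N // IsAS (Q a)} × {e : V ≃ₗ[F] V // (∀ x, Q (e x) = Q x) ∧ ∀ x, e (N x) = N (e x)} →
      {e : V ≃ₗ[F] V // (∀ x y, B (e x) (e y) = B x y) ∧ ∀ x, e (N x) = N (e x)} := fun p =>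
    ⟨(T p.1).trans p.2.1, fun x y => by simp only [LinearEquiv.trans_apply]; rw [hB _ p.2.2.1, hTB],
      fun x => by simp only [LinearEquiv.trans_apply]; rw [hTN, p.2.2.2]⟩
  refine (Nat.card_eq_of_bijective f ⟨fun p p' hp => ?_, fun e => ?_⟩).symm
  · obtain ⟨a, e, he⟩ := p
    obtain ⟨a', e', he'⟩ := p'
    have h1 : ∀ x, e (T a x) = e' (T a' x) := fun x => LinearEquiv.congr_fun (congrArg Subtype.val hp) x
    have hsq : ∀ x, B x (a.1 : V) = B x (a'.1 : V) := fun x => by
      have h3 := congrArg Q (h1 x)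
      rw [he.1, he'.1, hTQ, hTQ] at h3
      refine CharTwo.add_eq_zero.1 (mul_self_eq_zero.1 ?_)
      linear_combination h3 + (B x (a'.1 : V) * B x (a'.1 : V) + B x (a.1 : V) * B x (a'.1 : V)) *
        CharTwo.two_eq_zero (R := F)
    obtain rfl : a = a' := Subtype.ext (Subtype.ext (sub_eq_zero.1 (hQ.2 _ fun x => by rw [map_sub, hsq, sub_self])))
    refine Prod.ext rfl (Subtype.ext (LinearEquiv.ext fun x => ?_))
    obtain ⟨y, rfl⟩ := (T a).surjective x
    exact h1 y
  · obtain ⟨a, ha, hval⟩ := exists_trans_vec hQ h e.2.1 e.2.2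
    let a' : {a : LinearMap.ker N // IsAS (Q a)} := ⟨⟨a, ha⟩, isAS_of_trans hQ hV hP hval⟩
    refine ⟨(a', ⟨(T a').trans e.1, fun x => ?_, fun x => ?_⟩), Subtype.ext (LinearEquiv.ext fun x => ?_)⟩
    · show Q (e.1 (T a' x)) = Q x
      have h4 := hTQ a' (T a' x)
      rw [hTT, hTQ] at h4
      rw [hval, hTQ]
      exact h4.symm
    · simp only [LinearEquiv.trans_apply]; rw [hTN, e.2.2]
    · show e.1 (T a' (T a' x)) = e.1 x
      rw [hTT]

omit [Finite F] in
theorem finrank_ker (hV : finrank F V = 2 * m) :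
    finrank F (LinearMap.ker N) + finrank F (LinearMap.range N) = 2 * m := by
  rw [add_comm, N.finrank_range_add_finrank_ker, hV]

theorem card_AS_nonalt (hV : finrank F V = 2 * m) (h : QNil Q N) (hna : ∃ v, B v (N v) ≠ 0) :
    2 * Nat.card {a : LinearMap.ker N // IsAS (Q a)} = Nat.card F ^ (2 * m - finrank F (LinearMap.range N)) := by
  haveI : Finite V := Module.finite_of_finite F
  have := Fintype.ofFinite F
  obtain ⟨v, hv⟩ := hna
  obtain ⟨δ, hδ⟩ := exists_delta (F := F)
  obtain ⟨c, hc⟩ := FiniteField.isSquare_of_char_two (ringChar.eq F 2) (δ / B v (N v))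
  let r : LinearMap.ker N := ⟨N (c • v), LinearMap.mem_ker.2 (h.nil.sq _)⟩
  have hr : Q (r : V) = δ := by
    show Q (N (c • v)) = δ
    rw [map_smul, quad_smul, h.quad, ← hc, div_mul_cancel₀ _ hv]
  rw [two_mul_card_of_flip _ (Equiv.addRight r) fun a => ?_, Module.natCard_eq_pow_finrank (K := F),
    ← finrank_ker (N := N) hV, Nat.add_sub_cancel]
  have ha : B (a : V) (r : V) = 0 := by
    show B (a : V) (N (c • v)) = 0
    rw [← h.nil.adj, LinearMap.mem_ker.1 a.2, map_zero, LinearMap.zero_apply]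
  show IsAS (Q ((a : V) + (r : V))) ↔ _
  rw [quad_add', hr, ha, add_zero, isAS_add_delta hδ]

theorem card_AS_alt (hQ : (QuadraticMap.polarBilin Q).Nondegenerate) (hV : finrank F V = 2 * m) (hP : IsPlus Q m)
    (h : QNil Q N) (halt : ∀ v, B v (N v) = 0) :
    2 * Nat.card {a : LinearMap.ker N // IsAS (Q a)} =
      Nat.card F ^ (2 * m - finrank F (LinearMap.range N)) + Nat.card F ^ m := by
  classical
  haveI : Finite V := Module.finite_of_finite F
  obtain ⟨δ, hδ⟩ := exists_delta (F := F)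
  have hR : ∀ r ∈ LinearMap.range N, Q r = 0 := by
    rintro _ ⟨v, rfl⟩
    rw [h.quad, halt]
  have hs : finrank F (LinearMap.range N) ≤ m := by
    have hle : LinearMap.range N ≤ LinearMap.ker N := by
      rintro _ ⟨v, rfl⟩
      exact h.nil.sq v
    have h1 := Submodule.finrank_mono hle
    have h3 := finrank_ker (N := N) hV
    omega
  obtain ⟨U₀, hU₀, hU₀0⟩ := hP
  obtain ⟨U, hRU, hU, hU0⟩ : ∃ U : Submodule F V, LinearMap.range N ≤ U ∧ finrank F U = m ∧ ∀ u ∈ U, Q u = 0 := by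
    obtain ⟨ψ, hψ⟩ : ∃ ψ : LinearMap.range N →ₗ[F] U₀, Function.Injective ψ := by
      have hle : finrank F (LinearMap.range N) ≤ finrank F U₀ := by omega
      exact ⟨(Fintype.linearCombination F (fun i => Module.finBasis F U₀ (Fin.castLE hle i))).comp
          (Module.finBasis F (LinearMap.range N)).equivFun.toLinearMap,
        (linearIndependent_iff_injective_fintypeLinearCombination.1
          ((Module.finBasis F U₀).linearIndependent.comp _ (Fin.castLE_injective hle))).comp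
          (Module.finBasis F (LinearMap.range N)).equivFun.injective⟩
    obtain ⟨g, hg, hgX⟩ := witt_quadratic Q hQ (LinearMap.range N) (U₀.subtype.comp ψ)
      (U₀.subtype_injective.comp hψ) fun x => by
        show Q (ψ x : V) = Q (x : V)
        rw [hU₀0 _ (ψ x).2, hR _ x.2]
    refine ⟨U₀.map g.symm.toLinearMap, fun x hx => ?_, ?_, ?_⟩
    · exact ⟨_, (ψ ⟨x, hx⟩).2, g.symm_apply_eq.2 (hgX ⟨x, hx⟩).symm⟩
    · rw [← hU₀]; exact (g.symm.submoduleMap U₀).finrank_eq.symm
    · rintro _ ⟨w, hw, rfl⟩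
      rw [← hg]
      show Q (g (g.symm w)) = 0
      rw [LinearEquiv.apply_symm_apply, hU₀0 w hw]
  have hiso : ∀ u ∈ U, ∀ w ∈ U, B u w = 0 := fun u hu w hw => by
    show QuadraticMap.polar ⇑Q u w = 0
    rw [QuadraticMap.polar, hU0 _ (U.add_mem hu hw), hU0 _ hu, hU0 _ hw]; ring
  have hUK : U ≤ LinearMap.ker N := fun u hu => LinearMap.mem_ker.2 (h.nil.nondeg _ fun y => by
    rw [h.nil.adj]
    exact hiso u hu _ (hRU ⟨y, rfl⟩))
  have hperp : ∀ z, (∀ u ∈ U, B z u = 0) → z ∈ U := fun z hz => by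
    have heq : U = LinearMap.BilinForm.orthogonal B U := Submodule.eq_of_le_of_finrank_eq
      (fun w hw => LinearMap.BilinForm.mem_orthogonal_iff.2 fun u hu => hiso u hu w hw) (by
        rw [LinearMap.BilinForm.finrank_orthogonal hQ, hU, hV]; omega)
    rw [heq, LinearMap.BilinForm.mem_orthogonal_iff]
    intro u hu
    show B u z = 0
    rw [alt_comm (polar_alt Q), hz u hu]
  have hw : ∀ x : V ⧸ U, ∃ w : U, ∀ a : V, Submodule.Quotient.mk a = x → a ∉ U → B a (w : V) = δ := fun x => by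
    obtain ⟨a, rfl⟩ := Submodule.Quotient.mk_surjective U x
    by_cases ha : a ∈ U
    · exact ⟨0, fun b hb hbU => absurd ((Submodule.sub_mem_iff_left U ha).1 ((Submodule.Quotient.eq U).1 hb)) hbU⟩
    obtain ⟨u, hu, hu0⟩ : ∃ u ∈ U, B a u ≠ 0 := by
      by_contra! hall
      exact ha (hperp a hall)
    refine ⟨(δ / B a u) • ⟨u, hu⟩, fun b hb _ => ?_⟩
    have hba : B b u = B a u := by
      rw [← sub_eq_zero, ← LinearMap.sub_apply, ← map_sub]
      exact hiso _ ((Submodule.Quotient.eq U).1 hb) u hu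
    show B b ((δ / B a u) • u) = δ
    rw [map_smul, smul_eq_mul, hba, div_mul_cancel₀ _ hu0]
  choose wf hwf using hw
  let X := {a : LinearMap.ker N // (a : V) ∉ U}
  have hmk : ∀ (a : V) (w : U), (Submodule.Quotient.mk (p := U) (a + w) : V ⧸ U) = Submodule.Quotient.mk a := fun a w =>
    (Submodule.Quotient.eq U).2 (by rw [add_sub_cancel_left]; exact w.2)
  let mv : X → X := fun a => ⟨a.1 + ⟨_, hUK (wf (Submodule.Quotient.mk (a.1 : V))).2⟩, fun hh =>
    a.2 ((Submodule.add_mem_iff_left U (wf _).2).1 hh)⟩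
  have hmv : Function.Involutive mv := fun a => Subtype.ext (Subtype.ext (by
    show ((a.1 : V) + _) + ((wf (Submodule.Quotient.mk ((a.1 : V) + _))) : V) = (a.1 : V)
    rw [hmk, add_assoc, ← two_smul F ((wf _ : U) : V), CharTwo.two_eq_zero, zero_smul, add_zero]))
  have hX : 2 * Nat.card {a : X // IsAS (Q (a.1 : V))} = Nat.card X := by
    refine two_mul_card_of_flip _ hmv.toPerm fun a => ?_
    show IsAS (Q ((a.1 : V) + ((wf (Submodule.Quotient.mk (a.1 : V))) : V))) ↔ _
    rw [quad_add', hU0 _ (wf _).2, add_zero, hwf _ _ rfl a.2, isAS_add_delta hδ]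
  have hsplit : ∀ P : LinearMap.ker N → Prop, Nat.card {a : LinearMap.ker N // P a} =
      Nat.card {a : LinearMap.ker N // P a ∧ (a : V) ∈ U} + Nat.card {a : X // P a.1} := fun P => by
    rw [Nat.card_congr (Equiv.subtypeSubtypeEquivSubtypeInter (fun a : LinearMap.ker N => (a : V) ∉ U) P),
      ← Nat.card_sum]
    exact Nat.card_congr
      { toFun := fun a => if ha : (a.1 : V) ∈ U then Sum.inl ⟨a.1, a.2, ha⟩ else Sum.inr ⟨a.1, ha, a.2⟩
        invFun := Sum.elim (fun a => ⟨a.1, a.2.1⟩) fun a => ⟨a.1, a.2.2⟩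
        left_inv := fun a => by by_cases ha : (a.1 : V) ∈ U <;> simp [ha]
        right_inv := fun a => by rcases a with a | a <;> simp [a.2.1, a.2.2] }
  have hin : ∀ P : LinearMap.ker N → Prop, (∀ a : LinearMap.ker N, (a : V) ∈ U → P a) →
      Nat.card {a : LinearMap.ker N // P a ∧ (a : V) ∈ U} = Nat.card F ^ m := fun P hPU => by
    rw [← hU, ← Module.natCard_eq_pow_finrank]
    exact Nat.card_congr
      { toFun := fun a => ⟨a.1, a.2.2⟩
        invFun := fun u => ⟨⟨u, hUK u.2⟩, hPU _ u.2, u.2⟩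
        left_inv := fun a => rfl
        right_inv := fun u => rfl }
  have h1 := hsplit fun a => IsAS (Q (a : V))
  have h2 := hsplit fun _ => True
  rw [hin _ fun a ha => by rw [hU0 _ ha]; exact isAS_zero] at h1
  rw [hin _ fun _ _ => trivial, Nat.card_congr (Equiv.subtypeUnivEquiv fun _ => trivial),
    Nat.card_congr (Equiv.subtypeUnivEquiv fun _ => trivial), Module.natCard_eq_pow_finrank (K := F)] at h2
  have hK : finrank F (LinearMap.ker N) = 2 * m - finrank F (LinearMap.range N) := by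
    have := finrank_ker (N := N) hV
    omega
  rw [hK] at h2
  omega

section Matrix

variable {ι : Type} [Fintype ι] [DecidableEq ι] {q : QuadraticForm F (ι → F)}

omit [Finite F] in
theorem card_og_comm (t : isometryGroup F ⇑q) :
    Nat.card {g : isometryGroup F ⇑q // g * t = t * g} =
      Nat.card {e : (ι → F) ≃ₗ[F] (ι → F) // (∀ x, q (e x) = q x) ∧ ∀ x, e (qmove t x) = qmove t (e x)} := by
  refine Nat.card_eq_of_bijective (fun g => ⟨LinearEquiv.ofLinear (Matrix.toLin' (ogVal g.1)) (Matrix.toLin' (ogVal g.1⁻¹))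
    (LinearMap.ext fun v => by
      simp only [LinearMap.comp_apply, Matrix.toLin'_apply, ogVal_cancel_inv, LinearMap.id_apply])
    (LinearMap.ext fun v => by
      simp only [LinearMap.comp_apply, Matrix.toLin'_apply, ogVal_inv_cancel, LinearMap.id_apply]),
    fun x => ?_, fun x => ?_⟩) ⟨fun g g' he => ?_, fun e => ?_⟩
  · show q (Matrix.toLin' (ogVal g.1) x) = q x
    rw [Matrix.toLin'_apply, ogVal_quad]
  · show Matrix.toLin' (ogVal g.1) (qmove t x) = qmove t (Matrix.toLin' (ogVal g.1) x)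
    rw [Matrix.toLin'_apply, Matrix.toLin'_apply]
    exact (qintertwine_iff t t g.1).2 g.2 x
  · refine Subtype.ext (ogVal_ext (Matrix.ext_iff_mulVec.2 fun v => ?_))
    have h1 := LinearEquiv.congr_fun (congrArg Subtype.val he) v
    change Matrix.toLin' (ogVal g.1) v = Matrix.toLin' (ogVal g'.1) v at h1
    rwa [Matrix.toLin'_apply, Matrix.toLin'_apply] at h1
  · obtain ⟨g, hg⟩ := exists_of_qiso e.1 e.2.1
    refine ⟨⟨g, (qintertwine_iff t t g).1 fun v => by rw [hg, hg, e.2.2]⟩, Subtype.ext (LinearEquiv.ext fun v => ?_)⟩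
    show Matrix.toLin' (ogVal g) v = e.1 v
    rw [Matrix.toLin'_apply, hg]

variable (hq : (QuadraticMap.polarBilin q).Nondegenerate) (hD : OmegaDick q)
include hq hD

/-- Half of the centraliser lies in `Ω`, unless all of it does. -/
theorem card_omega_comm (hι : Fintype.card ι = 2 * m)
    (hhalf : ∀ (U : Submodule F (ι → F)) (g : isometryGroup F ⇑q), Half q U →
      imageSubmodule (ogVal g) U = U → dick g = 1) {t : isometryGroup F ⇑q} (ht : t ^ 2 = 1) (ht1 : t ≠ 1) :
    ((∀ v, QuadraticMap.polarBilin q v (qmove t v) = 0) ∧ finrank F (LinearMap.range (qmove t)) = m →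
      Nat.card {g : isometryGroup F ⇑q // g * t = t * g} =
        Nat.card {g : ↥(Omega F ⇑q) // (g : isometryGroup F ⇑q) * t = t * (g : isometryGroup F ⇑q)}) ∧
    (¬ ((∀ v, QuadraticMap.polarBilin q v (qmove t v) = 0) ∧ finrank F (LinearMap.range (qmove t)) = m) →
      Nat.card {g : isometryGroup F ⇑q // g * t = t * g} =
        2 * Nat.card {g : ↥(Omega F ⇑q) // (g : isometryGroup F ⇑q) * t = t * (g : isometryGroup F ⇑q)}) := by
  classical
  have := Fintype.ofFinite F
  obtain ⟨hΩ, hmul⟩ := hD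
  have hsub : Nat.card {g : ↥(Omega F ⇑q) // (g : isometryGroup F ⇑q) * t = t * (g : isometryGroup F ⇑q)} =
      Nat.card {g : {g : isometryGroup F ⇑q // g * t = t * g} // dick g.1 = 1} :=
    Nat.card_congr
      { toFun := fun g => ⟨⟨g.1.1, g.2⟩, (hΩ _).1 g.1.2⟩
        invFun := fun g => ⟨⟨g.1.1, (hΩ _).2 g.2⟩, g.1.2⟩
        left_inv := fun g => rfl
        right_inv := fun g => rfl }
  rw [hsub]
  refine ⟨fun hs => (Nat.card_congr (Equiv.subtypeUnivEquiv fun g =>
    centralizer_proper hq hhalf hι ht hs.1 hs.2 g.2)).symm, fun hs => ?_⟩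
  obtain ⟨z, hzd, hz⟩ := exists_improper hq hι ht ht1 hs
  let σ : {g : isometryGroup F ⇑q // g * t = t * g} ≃ {g : isometryGroup F ⇑q // g * t = t * g} :=
    { toFun := fun g => ⟨z * g.1, by rw [mul_assoc, g.2, ← mul_assoc, hz, mul_assoc]⟩
      invFun := fun g => ⟨z⁻¹ * g.1, by
        rw [mul_assoc, g.2, ← mul_assoc, inv_mul_eq_iff_eq_mul.2 (show t = z * (t * z⁻¹) by
          rw [← mul_assoc, hz, mul_inv_cancel_right]), mul_assoc]⟩
      left_inv := fun g => Subtype.ext (inv_mul_cancel_left _ _)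
      right_inv := fun g => Subtype.ext (mul_inv_cancel_left _ _) }
  refine (two_mul_card_of_flip _ σ fun g => ?_).symm
  show dick (z * g.1) = 1 ↔ _
  rw [hmul, hzd]
  rcases Int.units_eq_one_or (dick g.1) with e | e <;> simp [e]

end Matrix

theorem sympB_eq_polar (m : ℕ) : sympB m F = QuadraticMap.polarBilin (qfPlus m F) := by
  ext u v
  simp only [LinearMap.comp_apply, LinearMap.coe_single]
  rw [sympB_apply, QuadraticMap.polarBilin_apply_apply, polar_qfPlus, sympForm, dotProduct, Fintype.sum_sum_type,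
    ← Finset.sum_add_distrib]
  simp only [J_mulVec_inl, J_mulVec_inr, CharTwo.neg_eq]
  exact Finset.sum_congr rfl fun i _ => by ring

/-- The centraliser in `Ω⁺` against that in the symplectic group. -/
theorem plus_omega_centralizer (hG : GenQ F (Fin m ⊕ Fin m)) {t : isometryGroup F ⇑(qfPlus m F)} (ht : t ^ 2 = 1)
    (ht1 : t ≠ 1) :
    ∃ τ : Matrix.symplecticGroup (Fin m) F, τ ^ 2 = 1 ∧ nilOf τ = qmove t ∧
      finrank F (LinearMap.range (qmove t)) ≤ m ∧
      ((∀ v, QuadraticMap.polarBilin (qfPlus m F) v (qmove t v) = 0) →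
        Nat.card ↥(Subgroup.centralizer ({τ} : Set (Matrix.symplecticGroup (Fin m) F))) =
          (if finrank F (LinearMap.range (qmove t)) = m then Nat.card F ^ m
            else Nat.card F ^ (2 * m - finrank F (LinearMap.range (qmove t))) + Nat.card F ^ m) *
          Nat.card {g : ↥(Omega F ⇑(qfPlus m F)) //
            (g : isometryGroup F ⇑(qfPlus m F)) * t = t * (g : isometryGroup F ⇑(qfPlus m F))}) ∧
      ((∃ v, QuadraticMap.polarBilin (qfPlus m F) v (qmove t v) ≠ 0) →
        Nat.card ↥(Subgroup.centralizer ({τ} : Set (Matrix.symplecticGroup (Fin m) F))) =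
          Nat.card F ^ (2 * m - finrank F (LinearMap.range (qmove t))) *
          Nat.card {g : ↥(Omega F ⇑(qfPlus m F)) //
            (g : isometryGroup F ⇑(qfPlus m F)) * t = t * (g : isometryGroup F ⇑(qfPlus m F))}) := by
  classical
  have := Fintype.ofFinite F
  have hQ := nondegenerate_qfPlus (F := F) m
  have hι : Fintype.card (Fin m ⊕ Fin m) = 2 * m := by simp [two_mul]
  have hV : finrank F (Fin m ⊕ Fin m → F) = 2 * m := finrank_space
  have hS := sympB_eq_polar (F := F) m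
  let τ : Matrix.symplecticGroup (Fin m) F := ⟨ogVal t, mem_symplecticGroup_iff_form.2 fun u v => by
    rw [← sympB_apply, ← sympB_apply, hS]
    exact isometry_polar (ogVal_quad t) u v⟩
  have hτ : τ ^ 2 = 1 := Subtype.ext (by
    show ogVal t ^ 2 = 1
    rw [sq, ← ogVal_mul, ← sq, ht, ogVal_one])
  have hN : nilOf τ = qmove t := rfl
  have hcard : Nat.card ↥(Subgroup.centralizer ({τ} : Set (Matrix.symplecticGroup (Fin m) F))) =
      Nat.card {e : (Fin m ⊕ Fin m → F) ≃ₗ[F] (Fin m ⊕ Fin m → F) //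
        (∀ x y, QuadraticMap.polarBilin (qfPlus m F) (e x) (e y) = QuadraticMap.polarBilin (qfPlus m F) x y) ∧
          ∀ x, e (qmove t x) = qmove t (e x)} := by
    refine Nat.card_eq_of_bijective (fun g => ⟨linOf g.1, fun x y => ?_, fun x => (intertwine_iff τ τ g.1).2
      (Subgroup.mem_centralizer_singleton_iff.1 g.2) x⟩) ⟨fun g g' he => ?_, fun e => ?_⟩
    · rw [← hS, linOf_apply, linOf_apply, sympB_apply, sympB_apply, sympForm_map]
    · refine Subtype.ext (Subtype.ext (Matrix.ext_iff_mulVec.2 fun v => ?_))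
      rw [← linOf_apply, ← linOf_apply, show linOf g.1 = linOf g'.1 from congrArg Subtype.val he]
    · obtain ⟨g, hg⟩ := exists_of_iso e.1 (by rw [hS]; exact e.2.1)
      exact ⟨⟨g, Subgroup.mem_centralizer_singleton_iff.2 ((intertwine_iff τ τ g).1 (hg.symm ▸ e.2.2))⟩,
        Subtype.ext hg⟩
  rw [card_bcomm_eq hQ hV (isPlus_qfPlus m) (qnil_of_sq hQ ht), ← card_og_comm] at hcard
  obtain ⟨hall, hhalf⟩ := card_omega_comm hQ (omegaDick_of_genQ hQ hG) hι
    (fun U g hU h => dick_of_fixes_half hQ hG hU h) ht ht1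
  have hle := (valid_invariants hQ hι ht ht1).2.1
  refine ⟨τ, hτ, hN, hle, fun halt => ?_, fun hna => ?_⟩
  · have hA := card_AS_alt hQ hV (isPlus_qfPlus m) (qnil_of_sq hQ ht) halt
    rw [hcard]
    split_ifs with hs
    · rw [hs, two_mul m, Nat.add_sub_cancel] at hA
      rw [hall ⟨halt, hs⟩, show Nat.card {a : LinearMap.ker (qmove t) // IsAS (qfPlus m F a)} = Nat.card F ^ m by omega]
    · rw [hhalf fun hh => hs hh.2, ← hA]
      ring
  · obtain ⟨v, hv⟩ := hna
    rw [hcard, hhalf fun hh => hv (hh.1 v), ← card_AS_nonalt hV (qnil_of_sq hQ ht) ⟨v, hv⟩]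
    ring

theorem spNum_succ (q l : ℕ) :
    spNum q (l + 1) = (q ^ (2 * (l + 1) - (l + 1)) * (q ^ (l + 1) + 1)) *
      (q ^ ((l + 1) * l) * (q ^ (l + 1) - 1) * ∏ i : Fin l, (q ^ (2 * ((i : ℕ) + 1)) - 1)) := by
  have h1 : q ^ (2 * (l + 1)) - 1 = (q ^ (l + 1) + 1) * (q ^ (l + 1) - 1) := by
    rw [← Nat.sq_sub_sq, one_pow, ← pow_mul, mul_comm (l + 1) 2]
  rw [spNum, Fin.prod_univ_castSucc]
  simp only [Fin.val_castSucc, Fin.val_last]
  rw [h1, show 2 * (l + 1) - (l + 1) = l + 1 by omega, show (l + 1) ^ 2 = l + 1 + (l + 1) * l by ring, pow_add]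
  ring

section Values

open scoped Classical in
theorem centralizer_nonalt_odd (hG : GenQ F (Fin m ⊕ Fin m)) {Qf : (Fin m ⊕ Fin m → F) → F}
    (hQf : ⇑(qfPlus m F) = Qf) (x : isometryGroup F Qf) (hx : x ^ 2 = 1) {s : ℕ}
    (hs : (((x : GL (Fin m ⊕ Fin m) F) : Matrix (Fin m ⊕ Fin m) (Fin m ⊕ Fin m) F) - 1).rank = s) (hodd : Odd s) :
    Nat.card {g : ↥(Omega F Qf) // (g : isometryGroup F Qf) * x = x * (g : isometryGroup F Qf)} =
      Nat.card F ^ (2 * m * (s - 1) - (3 * s ^ 2 - 3 * s) / 2) * spNum (Nat.card F) ((s - 1) / 2) *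
        spNum (Nat.card F) (m - s) := by
  subst hQf
  change finrank F (LinearMap.range (qmove x)) = s at hs
  have hx1 : x ≠ 1 := fun h0 => by
    rw [h0, show qmove (1 : isometryGroup F ⇑(qfPlus m F)) = 0 by rw [qmove, ogVal_one, sub_self, map_zero],
      LinearMap.range_zero, finrank_bot] at hs
    subst hs
    exact Nat.not_even_iff_odd.2 hodd ⟨0, rfl⟩
  have := Fintype.ofFinite F
  obtain ⟨τ, hτ, hN, hle, -, hcount⟩ := plus_omega_centralizer hG hx hx1
  rw [hs] at hle hcount
  have hc := centralizer_odd hτ (hN.symm ▸ hs) hodd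
  rw [hcount ?_] at hc
  · refine Nat.eq_of_mul_eq_mul_left (Nat.pow_pos (Nat.card_pos (α := F))) (hc.trans ?_)
    obtain ⟨h, rfl⟩ := hodd
    obtain ⟨k, rfl⟩ := Nat.exists_eq_add_of_le hle
    rw [← mul_assoc, ← mul_assoc, ← pow_add]
    congr 3
    have e1 : (3 * (2 * h + 1) ^ 2 - (2 * h + 1)) / 2 = 6 * h * h + 5 * h + 1 := by
      rw [show 3 * (2 * h + 1) ^ 2 = 2 * (6 * h * h + 5 * h + 1) + (2 * h + 1) by ring, Nat.add_sub_cancel,
        Nat.mul_div_cancel_left _ two_pos]
    have e2 : (3 * (2 * h + 1) ^ 2 - 3 * (2 * h + 1)) / 2 = 6 * h * h + 3 * h := by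
      rw [show 3 * (2 * h + 1) ^ 2 = 2 * (6 * h * h + 3 * h) + 3 * (2 * h + 1) by ring, Nat.add_sub_cancel,
        Nat.mul_div_cancel_left _ two_pos]
    have e3 : 2 * (2 * h + 1 + k) * (2 * h + 1) = 8 * (h * h) + 8 * h + 2 + 4 * (h * k) + 2 * k := by ring
    have e4 : 2 * (2 * h + 1 + k) * (2 * h) = 8 * (h * h) + 4 * h + 4 * (h * k) := by ring
    rw [e1, e2, Nat.add_sub_cancel, e3, e4, mul_assoc 6 h h]
    omega
  · by_contra! hall
    exact Nat.not_even_iff_odd.2 hodd
      (hs ▸ ((valid_invariants (nondegenerate_qfPlus m) (m := m) (by simp [two_mul]) hx hx1).2.2 hall).1)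

theorem centralizer_nonalt_even (hG : GenQ F (Fin m ⊕ Fin m)) {Qf : (Fin m ⊕ Fin m → F) → F}
    (hQf : ⇑(qfPlus m F) = Qf) (x : isometryGroup F Qf) (hx : x ^ 2 = 1) {s : ℕ}
    (hs : (((x : GL (Fin m ⊕ Fin m) F) : Matrix (Fin m ⊕ Fin m) (Fin m ⊕ Fin m) F) - 1).rank = s) (heven : Even s)
    (hna : ∃ v : Fin m ⊕ Fin m → F,
      Qf ((((x : GL (Fin m ⊕ Fin m) F) : Matrix (Fin m ⊕ Fin m) (Fin m ⊕ Fin m) F) - 1) *ᵥ v) ≠ 0) :
    Nat.card {g : ↥(Omega F Qf) // (g : isometryGroup F Qf) * x = x * (g : isometryGroup F Qf)} =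
      Nat.card F ^ (2 * m * (s - 1) - (3 * s ^ 2 - 5 * s) / 2 - 1) * spNum (Nat.card F) ((s - 2) / 2) *
        spNum (Nat.card F) (m - s) := by
  subst hQf
  change finrank F (LinearMap.range (qmove x)) = s at hs
  obtain ⟨v, hv⟩ := hna
  have hx1 : x ≠ 1 := fun h0 => hv (by
    rw [show ((x : GL (Fin m ⊕ Fin m) F) : Matrix (Fin m ⊕ Fin m) (Fin m ⊕ Fin m) F) = 1 by rw [h0]; exact ogVal_one,
      sub_self, Matrix.zero_mulVec, QuadraticMap.map_zero])
  have hne : QuadraticMap.polarBilin (qfPlus m F) v (qmove x v) ≠ 0 := by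
    rw [← (qnil_of_sq (nondegenerate_qfPlus m) hx).quad, qmove, Matrix.toLin'_apply]
    exact hv
  have := Fintype.ofFinite F
  obtain ⟨τ, hτ, hN, hle, -, hcount⟩ := plus_omega_centralizer hG hx hx1
  rw [hs] at hle hcount
  have hc := centralizer_even hτ (hN.symm ▸ hs) heven ⟨v, by rw [sympB_eq_polar, hN]; exact hne⟩
  rw [hcount ⟨v, hne⟩] at hc
  refine Nat.eq_of_mul_eq_mul_left (Nat.pow_pos (Nat.card_pos (α := F))) (hc.trans ?_)
  have hpos := (valid_invariants (nondegenerate_qfPlus (F := F) m) (m := m) (by simp [two_mul]) hx hx1).1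
  rw [hs] at hpos
  obtain ⟨h, rfl⟩ : ∃ h, s = 2 * h + 2 := ⟨s / 2 - 1, by obtain ⟨c, hc⟩ := heven; omega⟩
  obtain ⟨k, rfl⟩ := Nat.exists_eq_add_of_le hle
  rw [← mul_assoc, ← mul_assoc, ← pow_add]
  congr 3
  have e1 : (3 * (2 * h + 2) ^ 2 - 3 * (2 * h + 2)) / 2 = 6 * h * h + 9 * h + 3 := by
    rw [show 3 * (2 * h + 2) ^ 2 = 2 * (6 * h * h + 9 * h + 3) + 3 * (2 * h + 2) by ring, Nat.add_sub_cancel,
      Nat.mul_div_cancel_left _ two_pos]
  have e2 : (3 * (2 * h + 2) ^ 2 - 5 * (2 * h + 2)) / 2 = 6 * h * h + 7 * h + 1 := by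
    rw [show 3 * (2 * h + 2) ^ 2 = 2 * (6 * h * h + 7 * h + 1) + 5 * (2 * h + 2) by ring, Nat.add_sub_cancel,
      Nat.mul_div_cancel_left _ two_pos]
  have e3 : 2 * (2 * h + 2 + k) * (2 * h + 2) = 8 * (h * h) + 16 * h + 8 + 4 * (h * k) + 4 * k := by ring
  have e4 : 2 * (2 * h + 2 + k) * (2 * h + 1) = 8 * (h * h) + 12 * h + 4 + 4 * (h * k) + 2 * k := by ring
  rw [e1, e2, show 2 * h + 2 - 1 = 2 * h + 1 by omega, e3, e4, mul_assoc 6 h h]
  omega

theorem centralizer_alt (hG : GenQ F (Fin m ⊕ Fin m)) {Qf : (Fin m ⊕ Fin m → F) → F}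
    (hQf : ⇑(qfPlus m F) = Qf) (x : isometryGroup F Qf) (hx : x ^ 2 = 1) (hx1 : x ≠ 1) {s : ℕ}
    (hs : (((x : GL (Fin m ⊕ Fin m) F) : Matrix (Fin m ⊕ Fin m) (Fin m ⊕ Fin m) F) - 1).rank = s) (heven : Even s)
    (halt : ∀ v : Fin m ⊕ Fin m → F,
      Qf ((((x : GL (Fin m ⊕ Fin m) F) : Matrix (Fin m ⊕ Fin m) (Fin m ⊕ Fin m) F) - 1) *ᵥ v) = 0) :
    Nat.card {g : ↥(Omega F Qf) // (g : isometryGroup F Qf) * x = x * (g : isometryGroup F Qf)} =
      Nat.card F ^ (2 * m * s - (3 * s ^ 2 + s) / 2) * spNum (Nat.card F) (s / 2) *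
        (if s = m then 1 else Nat.card F ^ ((m - s) * (m - s - 1)) * (Nat.card F ^ (m - s) - 1) *
          ∏ i : Fin (m - s - 1), (Nat.card F ^ (2 * ((i : ℕ) + 1)) - 1)) := by
  subst hQf
  change finrank F (LinearMap.range (qmove x)) = s at hs
  have hA : ∀ v, QuadraticMap.polarBilin (qfPlus m F) v (qmove x v) = 0 := fun v => by
    rw [← (qnil_of_sq (nondegenerate_qfPlus m) hx).quad, qmove, Matrix.toLin'_apply]
    exact halt v
  have := Fintype.ofFinite F
  obtain ⟨τ, hτ, hN, hle, hcount, -⟩ := plus_omega_centralizer hG hx hx1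
  have hpos := (valid_invariants (nondegenerate_qfPlus (F := F) m) (m := m) (by simp [two_mul]) hx hx1).1
  rw [hs] at hle hcount hpos
  have hc := centralizer_even_alt hτ (hN.symm ▸ hs) (fun v => by rw [sympB_eq_polar, hN]; exact hA v)
  rw [hcount hA] at hc
  obtain ⟨h, rfl⟩ : ∃ h, s = 2 * h + 2 := ⟨s / 2 - 1, by obtain ⟨c, hc⟩ := heven; omega⟩
  obtain ⟨k, rfl⟩ := Nat.exists_eq_add_of_le hle
  rw [Nat.add_sub_cancel_left] at hc ⊢
  have e1 : (3 * (2 * h + 2) ^ 2 - (2 * h + 2)) / 2 = 6 * h * h + 11 * h + 5 := by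
    rw [show 3 * (2 * h + 2) ^ 2 = 2 * (6 * h * h + 11 * h + 5) + (2 * h + 2) by ring, Nat.add_sub_cancel,
      Nat.mul_div_cancel_left _ two_pos]
  have e2 : (3 * (2 * h + 2) ^ 2 + (2 * h + 2)) / 2 = 6 * h * h + 13 * h + 7 := by
    rw [show 3 * (2 * h + 2) ^ 2 + (2 * h + 2) = 2 * (6 * h * h + 13 * h + 7) by ring,
      Nat.mul_div_cancel_left _ two_pos]
  have e3 : 2 * (2 * h + 2 + k) * (2 * h + 2) = 8 * (h * h) + 16 * h + 8 + 4 * (h * k) + 4 * k := by ring
  have hexp : 2 * (2 * h + 2 + k) * (2 * h + 2) - (3 * (2 * h + 2) ^ 2 - (2 * h + 2)) / 2 =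
      2 * h + 2 + (2 * (2 * h + 2 + k) * (2 * h + 2) - (3 * (2 * h + 2) ^ 2 + (2 * h + 2)) / 2) := by
    rw [e1, e2, e3, mul_assoc 6 h h]
    omega
  rw [hexp, pow_add] at hc
  rcases k with _ | l
  · simp only [Nat.add_zero, if_true, pow_zero, mul_one] at hc ⊢
    refine Nat.eq_of_mul_eq_mul_left (Nat.pow_pos (Nat.card_pos (α := F))) (hc.trans ?_)
    simp [spNum]
    ring
  · rw [if_neg (by omega)] at hc ⊢
    rw [spNum_succ, show 2 * (2 * h + 2 + (l + 1)) - (2 * h + 2) = (2 * h + 2) + ((l + 1) + (l + 1)) by omega,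
      show 2 * (l + 1) - (l + 1) = l + 1 by omega] at hc
    refine Nat.eq_of_mul_eq_mul_left (Nat.add_pos_left (Nat.pow_pos (Nat.card_pos (α := F))) _) (hc.trans ?_)
    simp only [Nat.add_sub_cancel]
    generalize (2 * (2 * h + 2 + (l + 1)) * (2 * h + 2) - (3 * (2 * h + 2) ^ 2 + (2 * h + 2)) / 2) = E
    generalize spNum (Nat.card F) ((2 * h + 2) / 2) = S
    generalize Nat.card F ^ (l + 1) - 1 = T
    rw [show (∏ i : Fin (l + 1 - 1), (Nat.card F ^ (2 * ((i : ℕ) + 1)) - 1)) =
      ∏ i : Fin l, (Nat.card F ^ (2 * ((i : ℕ) + 1)) - 1) from rfl]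
    simp only [pow_add]
    ring

end Values

end Cfsg.Agent.Classical.SympEven
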