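import Cfsg.Agent.Lib.Classical.OrthTransport

/-!
Elements of prime order in the coset of a field automorphism, and the splitting of its class.
-/

set_option autoImplicit false
set_option linter.unusedSectionVars false
set_option quotPrecheck false

namespace Cfsg.Agent.Classical

theorem splitClassCount_map {X Y : Type*} [Group X] [Group Y] (e : X ≃* Y) (H K : Subgroup X) (x : X) :
    splitClassCount (H.map e.toMonoidHom) (K.map e.toMonoidHom) (e x) = splitClassCount H K x := by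
  have key : ∀ (S : Subgroup X) (a b : X),
      IsConjUnder (S.map e.toMonoidHom) (e a) (e b) ↔ IsConjUnder S a b := by
    intro S a b
    constructor
    · rintro ⟨_, ⟨h, hh, rfl⟩, he⟩
      exact ⟨h, hh, e.injective (by simpa using he)⟩
    · rintro ⟨h, hh, rfl⟩
      exact ⟨e h, ⟨h, hh, rfl⟩, by simp⟩
  refine (Nat.card_congr (Quot.congr (e.toEquiv.subtypeEquiv fun y => (key H x y).symm) fun a b => ?_)).symm
  exact (key K a.1 b.1).symm

theorem centralizer_map {X Y : Type*} [Group X] [Group Y] (e : X ≃* Y) (H : Subgroup X) (x : X) :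
    (H ⊓ Subgroup.centralizer {x}).map e.toMonoidHom =
      H.map e.toMonoidHom ⊓ Subgroup.centralizer {e x} := by
  ext y
  obtain ⟨z, rfl⟩ := e.surjective y
  have h : ∀ S : Subgroup X, e z ∈ S.map e.toMonoidHom ↔ z ∈ S := fun S => by
    rw [Subgroup.mem_map_equiv, MulEquiv.symm_apply_apply]
  rw [h, Subgroup.mem_inf, Subgroup.mem_inf, h, Subgroup.mem_centralizer_singleton_iff,
    Subgroup.mem_centralizer_singleton_iff, ← map_mul, ← map_mul, e.injective.eq_iff]

namespace OrthAut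

open Matrix Module Cfsg.Agent.Classical.Descent

variable {F : Type*} [Field F] [Fintype F] {ι : Type} [Fintype ι] [DecidableEq ι]
  {Q : QuadraticForm F (ι → F)} {n : ℕ}

local notation "Mn" => Matrix ι ι F
local notation "PQ" => POmega F ⇑Q
local notation "GO" => Geo.quadSimilarityGroup (F := F) ⇑Q

/-- A nonsquare stays a nonsquare in an extension of odd degree. -/
theorem nonsquare_of_odd {F₀ : Type*} [Field F₀] {j : F₀ →+* F} {σ : RingAut F}
    (hj : ∀ x, σ x = x ↔ x ∈ j.range) (hσ : Odd (orderOf σ)) (h2 : (2 : F) ≠ 0) {c : F₀} (hc : ¬ IsSquare c) :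
    ¬ IsSquare (j c) := by
  rintro ⟨a, ha⟩
  have hfix : σ (j c) = j c := (hj _).2 ⟨c, rfl⟩
  rw [ha, map_mul] at hfix
  rcases mul_self_eq_mul_self_iff.1 hfix with h1 | h1
  · obtain ⟨b, hb⟩ := (hj a).1 h1
    exact hc ⟨b, j.injective (by rw [map_mul, hb, ha])⟩
  · obtain ⟨k, hk⟩ := hσ
    have h3 : ∀ n : ℕ, (σ ^ n : RingAut F) a = (-1) ^ n * a := fun n => by
      induction n with
      | zero => simp
      | succ n ih => rw [pow_succ', RingAut.mul_apply, ih, map_mul, map_pow, map_neg, map_one, h1]; ring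
    have h4 := h3 (orderOf σ)
    rw [pow_orderOf_eq_one, hk, RingAut.one_apply, pow_succ, pow_mul] at h4
    have ha0 : a = 0 := mul_left_cancel₀ h2 (by rw [mul_zero]; linear_combination (norm := ring_nf) h4)
    exact hc ⟨0, j.injective (by rw [ha, ha0, mul_zero, map_mul, map_zero, mul_zero])⟩

namespace EvenSpace

variable (H : EvenSpace Q n)
include H

/-- In characteristic two the inner-diagonal group is the inner group. -/
theorem diagAut_eq_inn_two (h2 : (2 : F) = 0) : H.diagAut = Inn PQ := by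
  refine le_antisymm ?_ H.inn_le_diagAut
  rintro _ ⟨g, hg, rfl⟩
  obtain ⟨s, h, -, hgh⟩ := exists_norm_iso h2 g
  have hh : h ∈ Omega F ⇑Q :=
    (mem_omega_iff_dick H.nd H.tri h2 h).2 ((H.psgn_eq_dick h2 hgh).symm.trans hg)
  rw [inn_eq_map]
  refine ⟨h, hh, ?_⟩
  have ht : (((g * (ogToGO Q h)⁻¹ : GO) : GL ι F) : Mn) = s • 1 := by
    rw [Subgroup.coe_mul, Units.val_mul, hgh, Matrix.smul_mul]
    show s • (ogVal h * ogVal h⁻¹) = s • 1
    rw [← ogVal_mul, mul_inv_cancel, ogVal_one]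
  have h1 := goHom_scalar ht
  rw [map_mul, map_inv, mul_inv_eq_one] at h1
  exact h1.symm

section Fixed

variable {F₀ : Type*} [Field F₀] [Fintype F₀] {P : QuadraticForm F₀ (ι → F₀)} {j : F₀ →+* F}
  {σ : RingAut F}

theorem ratAt_of_fixed (hP : ∀ u, Q (j ∘ u) = j (P u)) (hj : ∀ x, σ x = x ↔ x ∈ j.range) : RatAt Q σ := by
  have hsum : ∀ u v : ι → F, (σ : F → F) ∘ (u + v) = σ ∘ u + σ ∘ v := fun u v => funext fun l => map_add σ _ _
  have hpol : ∀ u v : ι → F, QuadraticMap.polar (fun v => σ (Q (σ.symm ∘ v))) u v =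
      σ (QuadraticMap.polar ⇑Q (σ.symm ∘ u) (σ.symm ∘ v)) := fun u v => by
    simp only [QuadraticMap.polar, map_sub,
      show σ.symm ∘ (u + v) = σ.symm ∘ u + σ.symm ∘ v from funext fun l => map_add σ.symm _ _]
  let Q' : QuadraticForm F (ι → F) := QuadraticMap.ofPolar (fun v => σ (Q (σ.symm ∘ v)))
    (fun c v => by
      rw [show σ.symm ∘ (c • v) = σ.symm c • (σ.symm ∘ v) from funext fun l => map_mul σ.symm _ _,
        QuadraticMap.map_smul, smul_eq_mul, smul_eq_mul, map_mul, map_mul, σ.apply_symm_apply])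
    (fun u u' v => by
      rw [hpol, hpol, hpol, ← map_add,
        show σ.symm ∘ (u + u') = σ.symm ∘ u + σ.symm ∘ u' from funext fun l => map_add σ.symm _ _,
        QuadraticMap.polar_add_left])
    (fun c u v => by
      rw [hpol, hpol,
        show σ.symm ∘ (c • u) = σ.symm c • (σ.symm ∘ u) from funext fun l => map_mul σ.symm _ _,
        QuadraticMap.polar_smul_left, smul_eq_mul, smul_eq_mul, map_mul, σ.apply_symm_apply])
  have e : Q' = Q := quad_ext_rat j fun u => by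
    show σ (Q (σ.symm ∘ (j ∘ u))) = Q (j ∘ u)
    rw [show σ.symm ∘ (j ∘ u) = j ∘ u from funext fun i =>
        σ.injective (by rw [Function.comp_apply, σ.apply_symm_apply]; exact ((hj _).2 ⟨u i, rfl⟩).symm),
      hP, (hj _).2 ⟨_, rfl⟩]
  intro v
  conv_lhs => rw [← e]
  show σ (Q (σ.symm ∘ σ ∘ v)) = _
  rw [show σ.symm ∘ σ ∘ v = v from funext fun i => σ.symm_apply_apply _]

variable (hR : RatAt Q σ) (hP : ∀ u, Q (j ∘ u) = j (P u)) (H₀ : EvenSpace P n)
  (hj : ∀ x, σ x = x ↔ x ∈ j.range)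
include hR hP H₀ hj

theorem coset_conj {r : ℕ} (hr : r.Prime) (hσ : σ ≠ 1) {d : GO}
    (hord : orderOf (goHom Q d * fld hR) = r)
    (hsame : ∀ (y : GL ι F) (ε : Fˣ) (P' : QuadraticForm F₀ (ι → F₀)),
      (QuadraticMap.polarBilin P').Nondegenerate →
      (∀ u, Q ((y : Mn) *ᵥ (j ∘ u)) = (ε : F) * j (P' u)) →
      ∃ z : GL ι F₀, ∀ u, P' ((z : Matrix ι ι F₀) *ᵥ u) = P u) :
    ∃ g : GO, psgn n g = 1 ∧ goHom Q d * fld hR = goHom Q g * fld hR * (goHom Q g)⁻¹ := by
  obtain ⟨hσr, -, c, hc⟩ := H.orderOf_go_field hR hr hσ hord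
  obtain ⟨μ, y, ε, P', hd, hP', hPn'⟩ := H.exists_twisted_form hR hj hσr hc
  obtain ⟨z, hz⟩ := hsame y ε P' hPn' hP'
  obtain ⟨g, hg, -⟩ := H.exists_split hR hP hj hd hP' hz
  obtain ⟨v, hv⟩ := H₀.exists_one
  have hv0 : Q (j ∘ v) ≠ 0 := by rw [hP, hv, map_one]; exact one_ne_zero
  have hfix : goMap hR (ogToGO Q (refl hv0)) = ogToGO Q (refl hv0) := by
    have hv0' : P v ≠ 0 := by rw [hv]; exact one_ne_zero
    have e := mapOG_refl j hP hv0'
    refine go_ext (Matrix.ext fun a b => ?_)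
    show σ (ogVal (refl hv0) a b) = ogVal (refl hv0) a b
    rw [← e, mapOG_val]
    exact (hj _).2 ⟨_, rfl⟩
  rcases H.exists_rat_improper hv0 g with h | h
  · exact ⟨g, h, by rw [conj_field_go, hg]⟩
  · refine ⟨g * ogToGO Q (refl hv0), h, ?_⟩
    rw [conj_field_go, hg]
    congr 2
    rw [map_mul, hfix]
    group

/-- With odd degree the class of a field automorphism does not split. -/
theorem split_eq_one (hσ : Odd (orderOf σ) ∨ (2 : F) = 0) :
    splitClassCount H.diagAut (Inn PQ) (fld hR) = 1 := by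
  rw [splitClassCount_eq_relIndex _ _ H.inn_le_diagAut, Subgroup.relIndex_eq_one]
  by_cases h2 : (2 : F) = 0
  · rw [H.diagAut_eq_inn_two h2]; exact le_sup_left
  have hodd := hσ.resolve_right h2
  have h20 : (2 : F₀) ≠ 0 := fun h => h2 (by rw [← map_ofNat j, h, map_zero])
  rw [H.centralizer_eq_map hR hP H₀ hj]
  set C := H₀.psgnHom.ker.map ((goHom Q).comp (mapGO hP))
  obtain ⟨ε₀, hε₀⟩ := FiniteField.exists_nonsquare (F := F₀)
    (fun hc => h20 (by haveI := ringChar.of_eq hc; exact CharTwo.two_eq_zero))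
  have hε0 : ε₀ ≠ 0 := fun h0 => hε₀ (h0 ▸ IsSquare.zero)
  have hns := nonsquare_of_odd hj hodd h2 hε₀
  obtain ⟨v₀, hv₀⟩ := H₀.exists_one
  have hv00 : P v₀ ≠ 0 := by rw [hv₀]; exact one_ne_zero
  -- a rational element of non-square multiplier
  obtain ⟨k, hk1, hk2⟩ : ∃ k : Geo.quadSimilarityGroup (F := F₀) ⇑P, psgn n k = 1 ∧ (mu k : F₀) = ε₀ := by
    obtain ⟨s, hs⟩ := H₀.sim ε₀ hε0
    set k : Geo.quadSimilarityGroup (F := F₀) ⇑P := ⟨s, Units.mk0 ε₀ hε0, hs⟩
    have hk : (mu k : F₀) = ε₀ := congrArg Units.val (H₀.mu_eq (d := Units.mk0 ε₀ hε0) hs)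
    rcases H₀.exists_rat_improper hv00 k with h | h
    · exact ⟨k, h, hk⟩
    · exact ⟨k * ogToGO P (refl hv00), h, by rw [H₀.mu_mul, H₀.mu_og, mul_one, hk]⟩
  -- a rational isometry of spinor norm minus one
  obtain ⟨u, hu1, hu2⟩ : ∃ u : isometryGroup F₀ ⇑P, dick u = 1 ∧ theta Q (mapOG j hP u) = -1 := by
    obtain ⟨ε', v', w', hv', hw', hε', hv1, hw1, -⟩ := exists_two_refl h20 H₀.nd H₀.tri
    refine ⟨refl hv' * refl hw', by rw [dick_mul H₀.nd H₀.tri, dick_refl H₀.nd, dick_refl H₀.nd]; rfl, ?_⟩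
    rw [map_mul (mapOG j hP), map_mul, mapOG_refl, mapOG_refl, theta_refl_eq h2 H.nd H.tri,
      sqChar_eq_neg_one_iff, Units.val_mul, Units.val_inv_eq_inv_val, Units.val_mk0, Units.val_mk0, hP, hP,
      hv1, hw1, map_one, one_mul, isSquare_inv]
    exact nonsquare_of_odd hj hodd h2 hε'
  have main : ∀ g : GO, psgn n g = 1 → IsSquare (mu g : F) → goHom Q g ∈ Inn PQ ⊔ C := by
    intro g hg ⟨s, hs⟩
    have hs0 : s ≠ 0 := fun h0 => (mu g).ne_zero (by rw [hs, h0, mul_zero])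
    set M : Mn := s⁻¹ • ((g : GL ι F) : Mn)
    have hMq : ∀ w, Q (M *ᵥ w) = Q w := fun w => by
      rw [Matrix.smul_mulVec, QuadraticMap.map_smul, mu_spec, hs, smul_eq_mul]; field_simp
    let h : isometryGroup F ⇑Q := mkIsometry M
      (by rw [Matrix.det_smul]; exact mul_ne_zero (pow_ne_zero _ (inv_ne_zero hs0)) (g : GL ι F).det_ne_zero) hMq
    set t : GO := g * (ogToGO Q h)⁻¹
    have ht : ((t : GL ι F) : Mn) = s • 1 := by
      rw [Subgroup.coe_mul, Units.val_mul, show ((g : GL ι F) : Mn) = s • ogVal h by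
        show _ = s • (s⁻¹ • _); rw [smul_smul, mul_inv_cancel₀ hs0, one_smul], Matrix.smul_mul]
      show s • (ogVal h * ogVal h⁻¹) = s • 1
      rw [← ogVal_mul, mul_inv_cancel, ogVal_one]
    have hgt : g = t * ogToGO Q h := (inv_mul_cancel_right _ _).symm
    have hdh : dick h = 1 := by
      rw [← H.psgn_og, ← hg, hgt, H.psgn_mul, H.psgn_scalar ht, one_mul]
    rw [hgt, map_mul, goHom_scalar ht, one_mul]
    have hdet : (ogVal h).det = 1 := by rw [det_eq_dick H.nd H.tri, hdh]; simp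
    rcases Int.units_eq_one_or (theta Q h) with e | e
    · refine Subgroup.mem_sup_left ?_
      rw [inn_eq_map]
      exact ⟨h, (mem_omega_iff h2 H.nd H.tri h).2 ⟨hdet, e⟩, rfl⟩
    · rw [show h = h * (mapOG j hP u)⁻¹ * mapOG j hP u by group, map_mul (ogToGO Q), map_mul]
      refine mul_mem (Subgroup.mem_sup_left ?_) (Subgroup.mem_sup_right ⟨ogToGO P u, ?_, rfl⟩)
      · rw [inn_eq_map]
        refine ⟨_, (mem_omega_iff h2 H.nd H.tri _).2 ⟨?_, ?_⟩, rfl⟩
        · rw [det_eq_dick H.nd H.tri, dick_mul H.nd H.tri, hdh,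
            show dick (mapOG j hP u)⁻¹ = dick (mapOG j hP u) from
              ((dickHom H.nd H.tri).map_inv _).trans (Int.units_inv_eq_self _),
            dick_mapOG j hP H₀.nd H₀.tri H.nd H.tri, hu1]
          simp
        · rw [map_mul, map_inv, e, hu2]; rfl
      · exact (H₀.psgn_og u).trans hu1
  rintro _ ⟨g, hg, rfl⟩
  by_cases hsq : IsSquare (mu g : F)
  · exact main g hg hsq
  · set kF := mapGO hP k
    have hkF : goHom Q kF ∈ Inn PQ ⊔ C := Subgroup.mem_sup_right ⟨k, hk1, rfl⟩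
    rw [show g = g * kF * kF⁻¹ by group, map_mul, map_inv]
    refine mul_mem (main _ ?_ ?_) (inv_mem hkF)
    · rw [H.psgn_mul, show psgn n g = 1 from hg, H.psgn_mapGO hP H₀, hk1, one_mul]
    · rw [H.mu_mul, Units.val_mul, H.mu_mapGO hP, hk2]
      exact isSquare_of_two_nonsquares h2 hsq hns

end Fixed

end EvenSpace

end OrthAut

end Cfsg.Agent.Classical
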