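import Cfsg.Agent.Lib.Classical.SympEvenIsom
import Cfsg.Agent.Lib.Classical.QuadClass
import Cfsg.Agent.Lib.Classical.QuadModels

/-!
Involutions of orthogonal groups in characteristic two: normal frames and isometries between them.
-/

set_option autoImplicit false

namespace Cfsg.Agent.Classical.SympEven

attribute [-simp] QuadraticMap.polarBilin_apply_apply

open Module Matrix Cfsg.Agent.Classical

universe u v

variable {F : Type u} [Field F] {V : Type v} [AddCommGroup V] [Module F V]

/-- A totally singular subspace of dimension `m`. -/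
def IsPlus (Q : QuadraticForm F V) (m : ℕ) : Prop :=
  ∃ U : Submodule F V, finrank F U = m ∧ ∀ u ∈ U, Q u = 0

/-- The data of an involution `1 + N` of a quadratic space. -/
structure QNil (Q : QuadraticForm F V) (N : Module.End F V) : Prop where
  nil : Nil (QuadraticMap.polarBilin Q) N
  quad : ∀ v, Q (N v) = QuadraticMap.polarBilin Q v (N v)

variable {Q : QuadraticForm F V} {N : Module.End F V}

theorem quad_add' (x y : V) : Q (x + y) = Q x + Q y + QuadraticMap.polarBilin Q x y := by
  rw [QuadraticMap.map_add ⇑Q x y]; rfl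

theorem quad_sum_orth {α : Type} (s : Finset α) (f : α → V)
    (h : ∀ i ∈ s, ∀ j ∈ s, QuadraticMap.polarBilin Q (f i) (f j) = 0) : Q (∑ i ∈ s, f i) = ∑ i ∈ s, Q (f i) := by
  classical
  induction s using Finset.induction with
  | empty => simp
  | insert a s ha ih =>
    rw [Finset.sum_insert ha, Finset.sum_insert ha, quad_add',
      ih fun i hi j hj => h i (Finset.mem_insert_of_mem hi) j (Finset.mem_insert_of_mem hj), map_sum,
      Finset.sum_eq_zero fun j hj => h a (Finset.mem_insert_self a s) j (Finset.mem_insert_of_mem hj), add_zero]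

theorem exists_delta [Finite F] [CharP F 2] : ∃ δ : F, ∀ c : F, c * c + c ≠ δ := by
  by_contra! h
  have hsur : Function.Surjective fun c : F => c * c + c := h
  exact zero_ne_one (Finite.injective_iff_surjective.2 hsur (show (0 : F) * 0 + 0 = 1 * 1 + 1 by
    rw [mul_zero, add_zero, mul_one, CharTwo.add_self_eq_zero]))

variable [CharP F 2]

omit [CharP F 2] in
theorem quad_smul (c : F) (x : V) : Q (c • x) = c * c * Q x := by
  rw [QuadraticMap.map_smul, smul_eq_mul]

theorem polar_alt (Q : QuadraticForm F V) : (QuadraticMap.polarBilin Q).IsAlt := fun x => by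
  rw [polarBilin_self, CharTwo.two_eq_zero, zero_mul]

variable {I : Type} [Fintype I] [DecidableEq I] {G : Matrix I I F} {u u' : I → V}

theorem polar_comb (h : Nil (QuadraticMap.polarBilin Q) N) (hu : IsTFrame (QuadraticMap.polarBilin Q) N G u)
    (p p' : (I → F) × (I → F)) : QuadraticMap.polarBilin Q (comb N u p) (comb N u p') =
      (∑ j, p'.1 j * (p.2 ᵥ* G) j) + ∑ j, p'.2 j * (p.1 ᵥ* G) j := by
  have hp1 : ∀ j, QuadraticMap.polarBilin Q (comb N u p) (u j) = (p.2 ᵥ* G) j := fun j => (pairings h hu p.1 p.2 j).1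
  have hp2 : ∀ j, QuadraticMap.polarBilin Q (comb N u p) (N (u j)) = (p.1 ᵥ* G) j := fun j => (pairings h hu p.1 p.2 j).2
  rw [show p' = (p'.1, p'.2) from rfl, comb_apply p'.1 p'.2]
  simp only [map_add, map_sum, map_smul, smul_eq_mul, hp1, hp2]

/-- Frames of the same shape and the same values are carried to each other by an isometry commuting with the maps. -/
theorem exists_qiso [FiniteDimensional F V] (hQ : (QuadraticMap.polarBilin Q).Nondegenerate) {N' : Module.End F V}
    (h : QNil Q N) (h' : QNil Q N') (hu : IsTFrame (QuadraticMap.polarBilin Q) N G u)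
    (hu' : IsTFrame (QuadraticMap.polarBilin Q) N' G u') (hG : IsUnit G.det)
    (hr : finrank F (LinearMap.range N) = Fintype.card I) (hr' : finrank F (LinearMap.range N') = Fintype.card I)
    (hval : ∀ i, Q (u i) = Q (u' i)) :
    ∃ g : V ≃ₗ[F] V, (∀ x, Q (g x) = Q x) ∧ ∀ x, g (N x) = N' (g x) := by
  classical
  let bb := (Pi.basisFun F I).prod (Pi.basisFun F I)
  have hb1 : ∀ (M : Module.End F V) (w : I → V) i, comb M w (bb (Sum.inl i)) = w i := fun M w i => by
    rw [show bb (Sum.inl i) = (Pi.single i (1 : F), (0 : I → F)) from Prod.ext (by simp [bb]) (by simp [bb]), comb_apply]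
    simp [Pi.single_apply]
  have hb2 : ∀ (M : Module.End F V) (w : I → V) i, comb M w (bb (Sum.inr i)) = M (w i) := fun M w i => by
    rw [show bb (Sum.inr i) = ((0 : I → F), Pi.single i (1 : F)) from Prod.ext (by simp [bb]) (by simp [bb]), comb_apply]
    simp [Pi.single_apply]
  have hQc : ∀ p, Q (comb N' u' p) = Q (comb N u p) := by
    have e : Q.comp (comb N' u') = Q.comp (comb N u) := by
      refine quad_ext_basis bb (fun x => ?_) fun x y => ?_
      · simp only [QuadraticMap.comp_apply]
        rcases x with i | i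
        · rw [hb1, hb1, hval]
        · rw [hb2, hb2, h.quad, h'.quad, hu.1, hu'.1]
      · simp only [QuadraticMap.polar, QuadraticMap.comp_apply, map_add]
        show QuadraticMap.polarBilin Q (comb N' u' (bb x)) (comb N' u' (bb y)) =
          QuadraticMap.polarBilin Q (comb N u (bb x)) (comb N u (bb y))
        rw [polar_comb h.nil hu, polar_comb h'.nil hu']
    exact fun p => congrArg (fun q : QuadraticForm F ((I → F) × (I → F)) => q p) e
  let ec := LinearEquiv.ofInjective (comb N u) (comb_injective h.nil hu hG)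
  obtain ⟨g, hgQ, hgX⟩ := witt_quadratic Q hQ (LinearMap.range (comb N u)) ((comb N' u').comp ec.symm.toLinearMap)
    ((comb_injective h'.nil hu' hG).comp ec.symm.injective) (fun x => by
      obtain ⟨p, rfl⟩ := ec.surjective x
      show Q (comb N' u' (ec.symm (ec p))) = Q (comb N u p)
      rw [LinearEquiv.symm_apply_apply, hQc])
  have hgc : ∀ p, g (comb N u p) = comb N' u' p := fun p => by
    refine (hgX (ec p)).trans ?_
    show comb N' u' (ec.symm (ec p)) = _
    rw [LinearEquiv.symm_apply_apply]
  refine ⟨g, hgQ, fun x => ?_⟩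
  obtain ⟨⟨a, b⟩, hp⟩ := comb_perp h.nil hu hG x
  have hgB : ∀ a b, QuadraticMap.polarBilin Q (g a) (g b) = QuadraticMap.polarBilin Q a b :=
    polar_preserved_of_map Q (L := g.toLinearMap) hgQ
  have hz : g (x - comb N u (a, b)) ∈ perp (QuadraticMap.polarBilin Q) N' u' := by
    rw [mem_perp]
    refine ⟨fun i => ?_, fun i => ?_⟩
    · rw [← hb1 N' u' i, ← hgc, hgB, hb1]; exact (mem_perp.1 hp).1 i
    · rw [← hb2 N' u' i, ← hgc, hgB, hb2]; exact (mem_perp.1 hp).2 i
  have h1 := N_perp h.nil hu hG hr hp
  have h3 := N_perp h'.nil hu' hG hr' hz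
  rw [map_sub, sub_eq_zero] at h1
  rw [map_sub g, map_sub, sub_eq_zero, hgc] at h3
  have hN : ∀ (M : Module.End F V) (w : I → V), (∀ v, M (M v) = 0) → M (comb M w (a, b)) = comb M w (0, a) :=
    fun M w hM => by simp [comb_apply, map_sum, hM]
  rw [h1, h3, hN N u h.nil.sq, hN N' u' h'.nil.sq, hgc]

variable [Finite F] [FiniteDimensional F V]

/-- Alternating type: a singular frame. -/
theorem alt_normal (h : QNil Q N) (halt : ∀ v, QuadraticMap.polarBilin Q v (N v) = 0) :
    ∃ t, finrank F (LinearMap.range N) = Fintype.card (Fin t ⊕ Fin t) ∧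
      ∃ w : Fin t ⊕ Fin t → V, IsTFrame (QuadraticMap.polarBilin Q) N (Matrix.J (Fin t) F) w ∧ ∀ i, Q (w i) = 0 := by
  obtain ⟨t, ht, u, hu⟩ := (exists_normal h.nil).1 halt
  let sw : Fin t ⊕ Fin t → Fin t ⊕ Fin t := Sum.swap
  have hJ : ∀ i j, Matrix.J (Fin t) F i (sw j) = if i = j then 1 else 0 := by
    rintro (i | i) (j | j) <;> simp [sw, Matrix.J, Matrix.one_apply, CharTwo.neg_eq]
  refine ⟨t, ht, fun i => u i + Q (u i) • N (u (sw i)), ⟨fun i j => ?_, fun i j => ?_⟩, fun i => ?_⟩
  · simp [h.nil.sq, map_add, map_smul, hu.1, h.nil.pair_zero]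
  · simp only [map_add, LinearMap.add_apply, map_smul, LinearMap.smul_apply, smul_eq_mul, hu.2, h.nil.pair_zero,
      h.nil.adj, hu.1, hJ, h.nil.sq, map_zero, mul_zero, add_zero, zero_add]
    rw [show Matrix.J (Fin t) F (sw i) j = Matrix.J (Fin t) F j (sw i) by
      rcases i with i | i <;> rcases j with j | j <;> simp [sw, Matrix.J, Matrix.one_apply, eq_comm, CharTwo.neg_eq], hJ]
    split_ifs with h1 h2 h2
    · subst h1; simp [CharTwo.add_self_eq_zero]
    · exact absurd h1.symm h2
    · exact absurd h2.symm h1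
    · simp
  · rw [quad_add', quad_smul, h.quad, halt, map_smul, smul_eq_mul, hu.1, hJ, if_pos rfl]
    linear_combination (Q (u i)) * CharTwo.two_eq_zero (R := F)

/-- A frame with one anisotropic plane bounds the singular subspaces. -/
theorem not_isPlus_of_frame {m n : ℕ} (hQ : (QuadraticMap.polarBilin Q).Nondegenerate) (hV : finrank F V = 2 * m)
    (h : QNil Q N) (hnm : n + 1 = m) {u : Fin (n + 1) → V} (hu : IsTFrame (QuadraticMap.polarBilin Q) N 1 u)
    (hu0 : ∀ i, i ≠ Fin.last n → Q (u i) = 0) {δ : F} (hδ : ∀ c : F, c * c + c ≠ δ)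
    (hul : Q (u (Fin.last n)) = δ) : ¬ IsPlus Q m := by
  rintro ⟨U, hU, hU0⟩
  have hG : IsUnit (1 : Matrix (Fin (n + 1)) (Fin (n + 1)) F).det := by simp
  have hperp : ∀ z, z ∈ perp (QuadraticMap.polarBilin Q) N u → z = 0 := fun z hz => by
    have h1 := finrank_perp h.nil hu hG
    rw [hV, Fintype.card_fin, ← hnm] at h1
    have : perp (QuadraticMap.polarBilin Q) N u = ⊥ := Submodule.finrank_eq_zero.1 (by omega)
    rwa [this, Submodule.mem_bot] at hz
  let w : Fin n → V := fun i => u i.castSucc
  have hw0 : ∀ z ∈ Submodule.span F (Set.range w), Q z = 0 := fun z hz => by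
    obtain ⟨c, rfl⟩ := (Submodule.mem_span_range_iff_exists_fun F).1 hz
    rw [quad_sum_orth _ _ fun i _ j _ => by simp [map_smul, w, hu.2]]
    exact Finset.sum_eq_zero fun i _ => by rw [quad_smul, hu0 _ (Fin.castSucc_lt_last i).ne, mul_zero]
  have hli : LinearIndependent F w :=
    (LinearIndependent.of_comp N (li_N h.nil hu.1 hG)).comp _ (Fin.castSucc_injective n)
  have hdimA : finrank F (Submodule.span F (Set.range w)) = n := by rw [finrank_span_eq_card hli, Fintype.card_fin]
  have hle := singular_finrank_le Q hQ hw0 hU0 fun W hAW hW => by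
    refine le_antisymm (fun z hz => ?_) hAW
    have hpol : ∀ i : Fin n, QuadraticMap.polarBilin Q z (u i.castSucc) = 0 := fun i => by
      have hi : u i.castSucc ∈ W := hAW (Submodule.subset_span ⟨i, rfl⟩)
      show QuadraticMap.polar ⇑Q z (u i.castSucc) = 0
      rw [QuadraticMap.polar, hW _ (W.add_mem hz hi), hW _ hz, hW _ hi]; ring
    obtain ⟨⟨x, y⟩, hp⟩ := comb_perp h.nil hu hG z
    have hz' : z = comb N u (x, y) := sub_eq_zero.1 (hperp _ hp)
    have hy : ∀ i : Fin n, y i.castSucc = 0 := fun i => by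
      have h1 := hpol i
      rw [hz', (pairings h.nil hu x y _).1, Matrix.vecMul_one] at h1
      exact h1
    obtain ⟨a, ha, hza⟩ : ∃ a ∈ Submodule.span F (Set.range w),
        z = a + (x (Fin.last n) • u (Fin.last n) + y (Fin.last n) • N (u (Fin.last n))) := by
      refine ⟨∑ i : Fin n, x i.castSucc • u i.castSucc, Submodule.sum_mem _ fun i _ =>
        Submodule.smul_mem _ _ (Submodule.subset_span ⟨i, rfl⟩), ?_⟩
      rw [hz', comb_apply, Fin.sum_univ_castSucc, Fin.sum_univ_castSucc]
      simp only [hy, zero_smul, Finset.sum_const_zero, zero_add, add_assoc]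
    have hrest := hW _ (W.sub_mem hz (hAW ha))
    rw [show z - a = x (Fin.last n) • u (Fin.last n) + y (Fin.last n) • N (u (Fin.last n)) from by
      rw [hza]; abel, quad_add', quad_smul, quad_smul, hul, h.quad, hu.1, map_smul, map_smul, LinearMap.smul_apply,
      smul_eq_mul, smul_eq_mul, hu.1, Matrix.one_apply_eq] at hrest
    have hx : x (Fin.last n) = 0 := by
      by_contra hx
      refine hδ (y (Fin.last n) / x (Fin.last n)) ?_
      field_simp
      linear_combination hrest - δ * x (Fin.last n) ^ 2 * CharTwo.two_eq_zero (R := F)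
    have hyl : y (Fin.last n) = 0 := by
      rw [hx] at hrest
      exact mul_self_eq_zero.1 (by linear_combination hrest)
    rw [hza, hx, hyl, zero_smul, zero_smul, add_zero, add_zero]
    exact ha
  omega

/-- Non-alternating type: a normal frame. -/
theorem nonalt_normal {m n : ℕ} (hQ : (QuadraticMap.polarBilin Q).Nondegenerate) (hV : finrank F V = 2 * m)
    (h : QNil Q N) (hna : ∃ v, QuadraticMap.polarBilin Q v (N v) ≠ 0)
    (hrank : finrank F (LinearMap.range N) = n + 1) {δ : F} (hδ : ∀ c : F, c * c + c ≠ δ) :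
    ∃ w : Fin (n + 1) → V, IsTFrame (QuadraticMap.polarBilin Q) N 1 w ∧ (∀ i, i ≠ Fin.last n → Q (w i) = 0) ∧
      (n + 1 = m ∧ ¬ IsPlus Q m → Q (w (Fin.last n)) = δ) ∧
      (¬ (n + 1 = m ∧ ¬ IsPlus Q m) → Q (w (Fin.last n)) = 0) := by
  classical
  have := Fintype.ofFinite F
  obtain ⟨u₀, hu₀⟩ := (exists_normal h.nil).2 hna
  set l := Fin.last n
  let u : Fin (n + 1) → V := fun i => u₀ (Fin.cast hrank.symm i)
  have hu : IsTFrame (QuadraticMap.polarBilin Q) N 1 u :=
    ⟨fun i j => by rw [hu₀.1, Matrix.one_apply, Matrix.one_apply]; simp, fun i j => hu₀.2 _ _⟩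
  choose t ht using fun i => FiniteField.isSquare_of_char_two (ringChar.eq F 2) (Q (u i))
  -- move all values to the last index
  let e : Fin (n + 1) → V := fun i =>
    if i = l then u l + ∑ j ∈ Finset.univ.erase l, t j • N (u j) else u i + t i • N (u l)
  have hNe : ∀ i, N (e i) = N (u i) := fun i => by
    simp only [e]; split_ifs with hi <;> simp [h.nil.sq, map_sum, hi]
  have he : IsTFrame (QuadraticMap.polarBilin Q) N 1 e := by
    refine ⟨fun i j => ?_, fun i j => ?_⟩
    · rw [hNe, ← h.nil.adj, hNe, h.nil.adj, hu.1]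
    · simp only [e]
      split_ifs with hi hj hj
      · exact polar_alt Q _
      · subst hi
        simp [map_sum, hu.2, hu.1, h.nil.adj, h.nil.sq, Matrix.one_apply, Finset.mem_erase, hj, Ne.symm hj,
          CharTwo.add_self_eq_zero]
      · subst hj
        simp [map_sum, hu.2, hu.1, h.nil.adj, h.nil.sq, Matrix.one_apply, Finset.mem_erase, hi,
          CharTwo.add_self_eq_zero]
      · simp [hu.2, hu.1, h.nil.adj, h.nil.sq, Matrix.one_apply, hi, hj, Ne.symm hi, Ne.symm hj]
  have he0 : ∀ i, i ≠ l → Q (e i) = 0 := fun i hi => by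
    simp only [e, if_neg hi]
    rw [quad_add', quad_smul, h.quad, hu.1, map_smul, smul_eq_mul, hu.1, Matrix.one_apply_eq, Matrix.one_apply_ne hi,
      mul_zero, add_zero, mul_one, ← ht i, CharTwo.add_self_eq_zero]
  obtain ⟨a, ha⟩ : ∃ a, Q (e l) = a := ⟨_, rfl⟩
  by_cases hs : n + 1 < m
  · -- absorb the last value in the orthogonal
    have hG : IsUnit (1 : Matrix (Fin (n + 1)) (Fin (n + 1)) F).det := by simp
    have hperp := finrank_perp h.nil he hG
    rw [hV, Fintype.card_fin] at hperp
    obtain ⟨z, hz, hzQ⟩ : ∃ z ∈ perp (QuadraticMap.polarBilin Q) N e, Q z = a := by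
      obtain ⟨x, hx, hx0⟩ : ∃ x ∈ perp (QuadraticMap.polarBilin Q) N e, Q x ≠ 0 := by
        by_contra! hall
        obtain ⟨x, hx, hx0⟩ := (perp (QuadraticMap.polarBilin Q) N e).exists_mem_ne_zero_of_ne_bot fun hb => by
          rw [hb, finrank_bot] at hperp; omega
        refine hx0 (h.nil.nondeg x fun y => ?_)
        obtain ⟨⟨p₁, p₂⟩, hp⟩ := comb_perp h.nil he hG y
        have h1 : QuadraticMap.polarBilin Q x (y - comb N e (p₁, p₂)) = 0 := by
          show QuadraticMap.polar ⇑Q _ _ = 0
          rw [QuadraticMap.polar, hall _ (Submodule.add_mem _ hx hp), hall _ hx, hall _ hp]; ring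
        rw [map_sub, sub_eq_zero] at h1
        rw [h1, comb_apply]
        simp only [map_add, map_sum, map_smul, (mem_perp.1 hx).1, (mem_perp.1 hx).2, smul_zero, Finset.sum_const_zero,
          add_zero]
      obtain ⟨c, hc⟩ := FiniteField.isSquare_of_char_two (ringChar.eq F 2) (a / Q x)
      exact ⟨c • x, Submodule.smul_mem _ _ hx, by rw [quad_smul, ← hc, div_mul_cancel₀ _ hx0]⟩
    have hNz : N z = 0 := N_perp h.nil he hG (by rw [hrank, Fintype.card_fin]) hz
    refine ⟨fun i => e i + (if i = l then z else 0), ⟨fun i j => ?_, fun i j => ?_⟩, fun i hi => ?_, fun hh => ?_,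
      fun _ => ?_⟩
    · rw [map_add N, show N (if j = l then z else 0) = 0 by split_ifs <;> simp [hNz], add_zero, map_add,
        LinearMap.add_apply, he.1]
      split_ifs <;> simp [(mem_perp.1 hz).2]
    · have hz1 : ∀ k, QuadraticMap.polarBilin Q z (e k) = 0 := (mem_perp.1 hz).1
      have hz2 : ∀ k, QuadraticMap.polarBilin Q (e k) z = 0 := fun k => by rw [alt_comm (polar_alt Q), hz1]
      dsimp only
      split_ifs with hi hj <;>
        simp [he.2, hz1, hz2, polar_alt Q z, -QuadraticMap.polarBilin_apply_apply]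
    · simp only [if_neg hi, add_zero]; exact he0 i hi
    · omega
    · show Q (e l + if l = l then z else 0) = 0
      rw [if_pos rfl, quad_add', ha, hzQ]
      rw [alt_comm (polar_alt Q), (mem_perp.1 hz).1, add_zero, CharTwo.add_self_eq_zero]
  have hnm : n + 1 = m := by
    have := finrank_perp h.nil hu (by simp)
    rw [hV, Fintype.card_fin] at this
    omega
  have shift : ∀ c : F, IsTFrame (QuadraticMap.polarBilin Q) N 1 (fun i => e i + (if i = l then c • N (e l) else 0)) ∧
      (∀ i, i ≠ l → Q (e i + (if i = l then c • N (e l) else 0)) = 0) ∧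
      Q (e l + (if l = l then c • N (e l) else 0)) = a + (c * c + c) := fun c => by
    refine ⟨⟨fun i j => ?_, fun i j => ?_⟩, fun i hi => ?_, ?_⟩
    · rw [map_add N, show N (if j = l then c • N (e l) else 0) = 0 by split_ifs <;> simp [h.nil.sq], add_zero,
        map_add, LinearMap.add_apply, he.1]
      split_ifs <;> simp [h.nil.pair_zero, -QuadraticMap.polarBilin_apply_apply]
    · dsimp only
      split_ifs with hi hj hj
      · simp [hi, hj, he.2, he.1, h.nil.adj, h.nil.sq, Matrix.one_apply, CharTwo.add_self_eq_zero]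
      · simp [hi, Ne.symm hj, hj, he.2, he.1, h.nil.adj, h.nil.sq, Matrix.one_apply]
      · simp [hi, hj, he.2, he.1, h.nil.adj, h.nil.sq, Matrix.one_apply]
      · simp [hi, hj, he.2, he.1, h.nil.adj, h.nil.sq, Matrix.one_apply]
    · simp only [if_neg hi, add_zero]; exact he0 i hi
    · rw [if_pos rfl, quad_add', quad_smul, ha, h.quad, map_smul, smul_eq_mul, he.1, Matrix.one_apply_eq]
      ring
  by_cases hA : ∃ c : F, c * c + c = a
  · obtain ⟨c, hc⟩ := hA
    obtain ⟨s1, s2, s3⟩ := shift c
    have s4 := s3.trans (by rw [hc, CharTwo.add_self_eq_zero])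
    refine ⟨_, s1, s2, fun hh => absurd ?_ hh.2, fun _ => s4⟩
    refine ⟨Submodule.span F (Set.range fun i => e i + (if i = l then c • N (e l) else 0)), ?_, fun x hx => ?_⟩
    · rw [finrank_span_eq_card (LinearIndependent.of_comp N (li_N h.nil s1.1 (by simp))), Fintype.card_fin, hnm]
    · obtain ⟨d, rfl⟩ := (Submodule.mem_span_range_iff_exists_fun F).1 hx
      rw [quad_sum_orth _ _ fun i _ j _ => by
        simp only [map_smul, LinearMap.smul_apply, s1.2, smul_zero]]
      refine Finset.sum_eq_zero fun i _ => ?_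
      by_cases hi : i = l
      · subst hi; rw [quad_smul, s4, mul_zero]
      · rw [quad_smul, s2 i hi, mul_zero]
  · -- both are outside the image of `c ↦ c² + c`
    push Not at hA
    obtain ⟨c, hc⟩ : ∃ c : F, c * c + c = a + δ := by
      let P : F →+ F :=
        { toFun := fun c => c * c + c
          map_zero' := by simp
          map_add' := fun x y => by linear_combination x * y * CharTwo.two_eq_zero (R := F) }
      have hle : Nat.card P.ker ≤ 2 := by
        refine (Nat.card_le_card_of_injective (fun x : P.ker => decide ((x : F) = 0)) fun x y hxy => ?_).trans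
          (by simp)
        have key : ∀ z : P.ker, (z : F) = 0 ∨ (z : F) = 1 := fun z => by
          have hz : (z : F) * z + z = 0 := z.2
          rcases mul_eq_zero.1 (show (z : F) * (z + 1) = 0 by linear_combination hz) with h | h
          · exact Or.inl h
          · exact Or.inr (CharTwo.add_eq_zero.1 h)
        refine Subtype.ext ?_
        rcases key x with h1 | h1 <;> rcases key y with h3 | h3 <;> simp [h1, h3] at hxy ⊢
      have hidx : P.range.index = 2 := by
        have h1 := P.range.index_mul_card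
        have h3 := AddSubgroup.index_mul_card P.ker
        rw [AddSubgroup.index_ker] at h3
        have hpos : 0 < Nat.card P.range := Nat.card_pos
        have hne : P.range.index ≠ 1 := fun h0 => by
          obtain ⟨x, hx⟩ : δ ∈ P.range := (AddSubgroup.index_eq_one.1 h0) ▸ AddSubgroup.mem_top _
          exact hδ x hx
        have hne0 : P.range.index ≠ 0 := AddSubgroup.index_ne_zero_of_finite
        have h4 : P.range.index * Nat.card P.range = Nat.card P.ker * Nat.card P.range := by
          rw [h1, ← h3, mul_comm]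
        have h5 := Nat.eq_of_mul_eq_mul_right hpos h4
        omega
      exact (AddSubgroup.add_mem_iff_of_index_two hidx).2 (iff_of_false (fun ⟨x, hx⟩ => hA x hx) fun ⟨x, hx⟩ => hδ x hx)
    obtain ⟨s1, s2, s3⟩ := shift c
    have s4 : Q (e l + (if l = l then c • N (e l) else 0)) = δ := by
      rw [s3, hc, ← add_assoc, CharTwo.add_self_eq_zero, zero_add]
    exact ⟨_, s1, s2, fun _ => s4,
      fun hh => absurd ⟨hnm, not_isPlus_of_frame hQ hV h hnm s1 s2 hδ s4⟩ hh⟩

/-- A maximal involution of alternating type lives only in plus type. -/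
theorem isPlus_of_alt (h : QNil Q N) (halt : ∀ v, QuadraticMap.polarBilin Q v (N v) = 0) :
    IsPlus Q (finrank F (LinearMap.range N)) :=
  ⟨LinearMap.range N, rfl, by rintro _ ⟨x, rfl⟩; rw [h.quad, halt]⟩

end Cfsg.Agent.Classical.SympEven
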