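import Cfsg.Agent.Lib.Classical.OrthEvenFrames
import Cfsg.Agent.Lib.Classical.OrthOmegaIndex

/-!
Involutions of isometry groups in characteristic two: the two invariants determine the class.
-/

set_option autoImplicit false
set_option quotPrecheck false

namespace Cfsg.Agent.Classical.SympEven

open Module Matrix Cfsg.Agent.Classical Cfsg.Agent.Classical.OrthAut

universe u

variable {F : Type u} [Field F] [CharP F 2] {ι : Type} [Fintype ι] [DecidableEq ι] {Q : QuadraticForm F (ι → F)}

attribute [-simp] QuadraticMap.polarBilin_apply_apply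

local notation "OG" => isometryGroup F ⇑Q

/-- The map `g - 1` of an isometry. -/
noncomputable def qmove (g : isometryGroup F ⇑Q) : Module.End F (ι → F) := Matrix.toLin' (ogVal g - 1)

theorem qmove_apply (g : OG) (v : ι → F) : qmove g v = ogVal g *ᵥ v + v := by
  rw [qmove, Matrix.toLin'_apply, Matrix.sub_mulVec, Matrix.one_mulVec]
  ext i
  simp [CharTwo.sub_eq_add]

omit [CharP F 2] in
theorem rank_qmove (g : OG) : (ogVal g - 1).rank = finrank F (LinearMap.range (qmove g)) := rfl

theorem qnil_of_sq (hQ : (QuadraticMap.polarBilin Q).Nondegenerate) {g : OG} (hg : g ^ 2 = 1) :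
    QNil Q (qmove g) := by
  have hsq : ∀ v, ogVal g *ᵥ (ogVal g *ᵥ v) = v := fun v => by
    rw [Matrix.mulVec_mulVec, ← ogVal_mul, ← sq, hg, ogVal_one, Matrix.one_mulVec]
  have hB : ∀ x y, QuadraticMap.polarBilin Q (ogVal g *ᵥ x) (ogVal g *ᵥ y) = QuadraticMap.polarBilin Q x y :=
    fun x y => isometry_polar (ogVal_quad g) x y
  refine ⟨⟨polar_alt Q, hQ.1, fun v => ?_, fun u v => ?_⟩, fun v => ?_⟩
  · rw [qmove_apply, qmove_apply, Matrix.mulVec_add, hsq]
    ext i
    simp only [Pi.add_apply, Pi.zero_apply]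
    linear_combination (v i + (ogVal g *ᵥ v) i) * CharTwo.two_eq_zero (R := F)
  · rw [qmove_apply, qmove_apply, map_add, map_add, LinearMap.add_apply, ← hB (ogVal g *ᵥ u) v, hsq]
  · have hq : Q (v + qmove g v) = Q v := by
      rw [show v + qmove g v = ogVal g *ᵥ v from ?_, ogVal_quad]
      rw [qmove_apply]
      ext i
      simp only [Pi.add_apply]
      linear_combination v i * CharTwo.two_eq_zero (R := F)
    rw [quad_add'] at hq
    exact CharTwo.add_eq_zero.1 (by linear_combination hq)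

theorem qintertwine_iff (t t' g : OG) :
    (∀ v, ogVal g *ᵥ qmove t v = qmove t' (ogVal g *ᵥ v)) ↔ g * t = t' * g := by
  simp only [qmove_apply, Matrix.mulVec_add, Matrix.mulVec_mulVec, add_left_inj, ← ogVal_mul]
  rw [← Matrix.ext_iff_mulVec]
  exact ⟨ogVal_ext, fun h => by rw [h]⟩

omit [CharP F 2] in
theorem exists_of_qiso (e : (ι → F) ≃ₗ[F] (ι → F)) (he : ∀ x, Q (e x) = Q x) :
    ∃ g : OG, ∀ v, ogVal g *ᵥ v = e v := by
  have hv : ∀ v, LinearMap.toMatrix' e.toLinearMap *ᵥ v = e v := fun v => by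
    rw [← Matrix.toLin'_apply, Matrix.toLin'_toMatrix']; rfl
  refine ⟨mkIsometry (Q := ⇑Q) (LinearMap.toMatrix' e.toLinearMap) ?_ fun u => by rw [hv, he], hv⟩
  rw [LinearMap.det_toMatrix']
  exact LinearEquiv.isUnit_det' e |>.ne_zero

variable [Finite F] {m : ℕ}

theorem isConj_of_invariants (hQ : (QuadraticMap.polarBilin Q).Nondegenerate) (hι : Fintype.card ι = 2 * m)
    {t t' : OG} (ht : t ^ 2 = 1) (ht' : t' ^ 2 = 1)
    (hr : finrank F (LinearMap.range (qmove t)) = finrank F (LinearMap.range (qmove t')))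
    (hal : (∀ v, QuadraticMap.polarBilin Q v (qmove t v) = 0) ↔ ∀ v, QuadraticMap.polarBilin Q v (qmove t' v) = 0) :
    IsConj t t' := by
  classical
  have h := qnil_of_sq hQ ht
  have h' := qnil_of_sq hQ ht'
  have hV : finrank F (ι → F) = 2 * m := by rw [Module.finrank_fintype_fun_eq_card, hι]
  have fin : ∀ (e : (ι → F) ≃ₗ[F] (ι → F)), (∀ x, Q (e x) = Q x) → (∀ x, e (qmove t x) = qmove t' (e x)) →
      IsConj t t' := fun e he hN => by
    obtain ⟨g, hg⟩ := exists_of_qiso e he
    exact isConj_iff.2 ⟨g, mul_inv_eq_iff_eq_mul.2 ((qintertwine_iff t t' g).1 fun v => by rw [hg, hg, hN])⟩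
  by_cases hA : ∀ v, QuadraticMap.polarBilin Q v (qmove t v) = 0
  · obtain ⟨a, ha, w, hw, hw0⟩ := alt_normal h hA
    obtain ⟨b, hb, w', hw', hw'0⟩ := alt_normal h' (hal.1 hA)
    obtain rfl : b = a := by
      rw [hr, hb, Fintype.card_sum, Fintype.card_fin, Fintype.card_sum, Fintype.card_fin] at ha
      omega
    obtain ⟨e, he, hN⟩ := exists_qiso hQ h h' hw hw' (Matrix.isUnit_det_J (Fin b) F) ha hb
      fun i => by rw [hw0, hw'0]
    exact fin e he hN
  · have hne : ∃ v, QuadraticMap.polarBilin Q v (qmove t v) ≠ 0 := not_forall.1 hA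
    have hne' : ∃ v, QuadraticMap.polarBilin Q v (qmove t' v) ≠ 0 := not_forall.1 fun h0 => hA (hal.2 h0)
    obtain ⟨n, hn⟩ : ∃ n, finrank F (LinearMap.range (qmove t)) = n + 1 := by
      refine ⟨finrank F (LinearMap.range (qmove t)) - 1, (Nat.sub_add_cancel (Nat.one_le_iff_ne_zero.2 fun h0 => ?_)).symm⟩
      obtain ⟨v, hv⟩ := hne
      refine hv ?_
      have := Submodule.finrank_eq_zero.1 h0
      have hz : qmove t v = 0 := by
        have hm := LinearMap.mem_range_self (qmove t) v
        rw [this] at hm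
        exact (Submodule.mem_bot F).1 hm
      rw [hz, map_zero]
    obtain ⟨δ, hδ⟩ := exists_delta (F := F)
    obtain ⟨w, hw, h0, h1, h3⟩ := nonalt_normal hQ hV h hne hn hδ
    obtain ⟨w', hw', h0', h1', h3'⟩ := nonalt_normal hQ hV h' hne' (hr ▸ hn) hδ
    obtain ⟨e, he, hN⟩ := exists_qiso hQ h h' hw hw' (by simp) (by rw [hn, Fintype.card_fin])
      (by rw [← hr, hn, Fintype.card_fin]) fun i => by
        by_cases hi : i = Fin.last n
        · subst hi
          by_cases hc : n + 1 = m ∧ ¬ IsPlus Q m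
          · rw [h1 hc, h1' hc]
          · rw [h3 hc, h3' hc]
        · rw [h0 i hi, h0' i hi]
    exact fin e he hN

theorem qinvariants_of_conj {t t' : OG} (h : IsConj t t') :
    finrank F (LinearMap.range (qmove t)) = finrank F (LinearMap.range (qmove t')) ∧
      ((∀ v, QuadraticMap.polarBilin Q v (qmove t v) = 0) ↔ ∀ v, QuadraticMap.polarBilin Q v (qmove t' v) = 0) := by
  obtain ⟨g, hg⟩ := isConj_iff.1 h
  let e : (ι → F) ≃ₗ[F] (ι → F) :=
    { (Matrix.mulVecLin (ogVal g)) with
      invFun := fun v => ogVal g⁻¹ *ᵥ v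
      left_inv := ogVal_inv_cancel g
      right_inv := ogVal_cancel_inv g }
  have he : ∀ v, e (qmove t v) = qmove t' (e v) := (qintertwine_iff t t' g).2 (mul_inv_eq_iff_eq_mul.1 hg)
  have hB : ∀ x y, QuadraticMap.polarBilin Q (e x) (e y) = QuadraticMap.polarBilin Q x y :=
    fun x y => isometry_polar (ogVal_quad g) x y
  constructor
  · rw [show LinearMap.range (qmove t') = (LinearMap.range (qmove t)).map e.toLinearMap from ?_]
    · exact (e.submoduleMap _).finrank_eq
    ext w
    simp only [LinearMap.mem_range, Submodule.mem_map, LinearEquiv.coe_coe]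
    constructor
    · rintro ⟨v, rfl⟩
      exact ⟨_, ⟨e.symm v, rfl⟩, by rw [he, LinearEquiv.apply_symm_apply]⟩
    · rintro ⟨_, ⟨v, rfl⟩, rfl⟩
      exact ⟨_, (he v).symm⟩
  · constructor
    · intro hv v
      obtain ⟨x, rfl⟩ := e.surjective v
      rw [← he, hB, hv]
    · intro hv v
      rw [← hB, he, hv]

/-- The possible invariants of an involution. -/
theorem valid_invariants (hQ : (QuadraticMap.polarBilin Q).Nondegenerate) (hι : Fintype.card ι = 2 * m)
    {t : OG} (ht : t ^ 2 = 1) (ht1 : t ≠ 1) :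
    1 ≤ finrank F (LinearMap.range (qmove t)) ∧ finrank F (LinearMap.range (qmove t)) ≤ m ∧
      ((∀ v, QuadraticMap.polarBilin Q v (qmove t v) = 0) →
        Even (finrank F (LinearMap.range (qmove t))) ∧
          (¬ IsPlus Q m → finrank F (LinearMap.range (qmove t)) ≠ m)) := by
  have h := qnil_of_sq hQ ht
  refine ⟨Nat.one_le_iff_ne_zero.2 fun h0 => ht1 (ogVal_ext ?_), ?_, fun hA => ⟨?_, fun hp hm => hp (hm ▸ isPlus_of_alt h hA)⟩⟩
  · rw [Submodule.finrank_eq_zero, LinearMap.range_eq_bot] at h0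
    rw [ogVal_one, ← sub_eq_zero]
    exact Matrix.toLin'.injective (h0.trans (map_zero _).symm)
  · have hle : LinearMap.range (qmove t) ≤ LinearMap.ker (qmove t) := by
      rintro _ ⟨v, rfl⟩
      exact h.nil.sq v
    have h1 := Submodule.finrank_mono hle
    have h3 := (qmove t).finrank_range_add_finrank_ker
    rw [Module.finrank_fintype_fun_eq_card, hι] at h3
    omega
  · obtain ⟨a, ha, -⟩ := alt_normal h hA
    rw [ha, Fintype.card_sum, Fintype.card_fin]
    exact ⟨a, rfl⟩

/-- Classes of involutions from a complete irredundant list of representatives. -/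
theorem card_classes_of_reps (hQ : (QuadraticMap.polarBilin Q).Nondegenerate) (hι : Fintype.card ι = 2 * m)
    {J : Type} [Fintype J] (f : J → OG) (rk : J → ℕ) (al : J → Prop) (hpos : ∀ a, 1 ≤ rk a) (hsq : ∀ a, f a ^ 2 = 1)
    (hr : ∀ a, finrank F (LinearMap.range (qmove (f a))) = rk a)
    (hal : ∀ a, (∀ v, QuadraticMap.polarBilin Q v (qmove (f a) v) = 0) ↔ al a)
    (hinj : ∀ a b, rk a = rk b → (al a ↔ al b) → a = b)
    (hcomp : ∀ (s : ℕ) (P : Prop), 1 ≤ s → s ≤ m → (P → Even s ∧ (¬ IsPlus Q m → s ≠ m)) → ∃ a, rk a = s ∧ (al a ↔ P)) :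
    Nat.card {C : ConjClasses OG // ∃ g : OG, ConjClasses.mk g = C ∧ orderOf g = 2} = Fintype.card J := by
  have hne : ∀ a, f a ≠ 1 := fun a h0 => by
    have h1 := hr a
    rw [h0, show qmove (1 : OG) = 0 by rw [qmove, ogVal_one, sub_self, map_zero], LinearMap.range_zero,
      finrank_bot] at h1
    have := hpos a
    omega
  let g : J → {C : ConjClasses OG // ∃ g : OG, ConjClasses.mk g = C ∧ orderOf g = 2} := fun a =>
    ⟨ConjClasses.mk (f a), f a, rfl, orderOf_eq_prime (hsq a) (hne a)⟩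
  have hg : Function.Bijective g := by
    constructor
    · intro a b hab
      obtain ⟨h1, h3⟩ := qinvariants_of_conj (ConjClasses.mk_eq_mk_iff_isConj.1 (congrArg Subtype.val hab))
      rw [hr, hr] at h1
      rw [hal, hal] at h3
      exact hinj a b h1 h3
    · rintro ⟨C, t, rfl, ho⟩
      have ht : t ^ 2 = 1 := ho ▸ pow_orderOf_eq_one t
      have ht1 : t ≠ 1 := fun h => by rw [h, orderOf_one] at ho; omega
      obtain ⟨v1, v2, v3⟩ := valid_invariants hQ hι ht ht1
      obtain ⟨a, ha, hP⟩ := hcomp _ _ v1 v2 v3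
      exact ⟨a, Subtype.ext (ConjClasses.mk_eq_mk_iff_isConj.2
        (isConj_of_invariants hQ hι (hsq a) ht ((hr a).trans ha) ((hal a).trans hP)))⟩
  rw [← Nat.card_eq_of_bijective g hg, Nat.card_eq_fintype_card]

end Cfsg.Agent.Classical.SympEven
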