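import Cfsg.Agent.Lib.Classical.OrthEvenNondegUnipotent

/-! Involutions of orthogonal groups in characteristic two: invariant non-degenerate subspaces of each type. -/

set_option autoImplicit false
set_option linter.unusedSectionVars false
set_option quotPrecheck false

namespace Cfsg.Agent.OrthEvenNondegCharTwo

open Module Matrix Cfsg.Agent.Classical Cfsg.Agent.Classical.OrthAut Cfsg.Agent.OrthNondegInvolution
  Cfsg.Agent.OrthNondegDerange

variable {F : Type*} [Field F] [Fintype F] [CharP F 2] {ι : Type} [Fintype ι] [DecidableEq ι]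
  {Q : QuadraticForm F (ι → F)}

local notation "B" => QuadraticMap.polar ⇑Q

/-- Which pairs (half dimension, type) occur inside a space of half dimension `e` and type `β`. -/
def Cond (e k : ℕ) (β t : Prop) : Prop :=
  (β ∧ t ∧ (k % 2 = 0 ∨ e % 2 = 1)) ∨ (¬ β ∧ t ∧ ((k % 2 = 0 ∧ k < e) ∨ (k % 2 = 1 ∧ e % 2 = 0))) ∨
    (¬ β ∧ ¬ t ∧ (k % 2 = 1 ∨ (e % 2 = 0 ∧ 0 < k)))

theorem cond_step {e k p : ℕ} {β π β' t : Prop} (hk : 0 < k) (hke : k < e) (hp : p = 1 ∨ (p = 2 ∧ π))
    (hpe : p ≤ e) (hβ : β ↔ (π ↔ β')) (h0 : p = e → β') (h : Cond e k β t) :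
    (k ≤ e - p ∧ Cond (e - p) k β' t) ∨ (p ≤ k ∧ k - p ≤ e - p ∧ Cond (e - p) (k - p) β' (π ↔ t)) := by
  by_cases hb : β <;> by_cases hπ : π <;> by_cases hb' : β' <;> by_cases ht : t <;>
    simp only [Cond, hb, hπ, hb', ht, true_and, false_and, not_true, not_false_iff, or_false, false_or, true_iff, iff_true,
      false_iff, iff_false, and_true, and_false, not_not, imp_false, implies_true, iff_self] at h hβ hp h0 ⊢ <;>
    omega

theorem cancel_iff (π t : Prop) : (π ↔ (π ↔ t)) ↔ t := by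
  by_cases π <;> simp [*]

theorem span_data {k : ℕ} (f : Fin k → ι → F)
    (h : ∀ c : Fin k → F, (∀ j, B (∑ i, c i • f i) (f j) = 0) → c = 0) :
    finrank F (Submodule.span F (Set.range f)) = k ∧ NonSing Q (Submodule.span F (Set.range f)) := by
  refine ⟨(finrank_span_eq_card (Fintype.linearIndependent_iff.2 fun c hc i => ?_)).trans (Fintype.card_fin k),
    fun w hw hw0 => ?_⟩
  · rw [h c (fun j => by rw [hc, QuadraticMap.polar_zero_left])]; rfl
  · obtain ⟨c, rfl⟩ := (Submodule.mem_span_range_iff_exists_fun F).1 hw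
    by_contra hno
    push Not at hno
    exact hw0 (by simp [h c fun j => hno _ (Submodule.subset_span ⟨j, rfl⟩)])

variable (hQ : (QuadraticMap.polarBilin Q).Nondegenerate) {N : Module.End F (ι → F)} (hN : SympEven.QNil Q N)

include hN in
theorem adj (u v : ι → F) : B (N u) v = B u (N v) := hN.nil.adj u v

theorem self_zero (v : ι → F) : B v v = 0 := by
  rw [QuadraticMap.polar_self, two_nsmul]; exact CharTwo.add_self_eq_zero _

include hQ hN in
/-- An invariant plane, or an invariant hyperbolic four-space. -/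
theorem exists_piece {E : Submodule F (ι → F)} (hE : NonSing Q E) (hinv : ∀ x ∈ E, N x ∈ E) (hpos : 0 < finrank F E) :
    ∃ (p : ℕ) (P : Submodule F (ι → F)), P ≤ E ∧ NonSing Q P ∧ finrank F P = 2 * p ∧ (∀ x ∈ P, N x ∈ P) ∧
      (p = 1 ∨ (p = 2 ∧ EvenType.Plus (EvenType.res Q P))) := by
  classical
  have hspan : ∀ {k : ℕ} (f : Fin k → ι → F), (∀ i, f i ∈ E) →
      (∀ i, N (f i) ∈ Submodule.span F (Set.range f)) → Submodule.span F (Set.range f) ≤ E ∧
        ∀ x ∈ Submodule.span F (Set.range f), N x ∈ Submodule.span F (Set.range f) := fun f h1 h2 =>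
    ⟨Submodule.span_le.2 (by rintro _ ⟨i, rfl⟩; exact h1 i), fun x hx => by
      have : Submodule.span F (Set.range f) ≤ (Submodule.span F (Set.range f)).comap N :=
        Submodule.span_le.2 (by rintro _ ⟨i, rfl⟩; exact h2 i)
      exact this hx⟩
  have plane : ∀ v ∈ E, ∀ w ∈ E, B v w ≠ 0 → N v ∈ Submodule.span F (Set.range ![v, w]) →
      N w ∈ Submodule.span F (Set.range ![v, w]) → ∃ (p : ℕ) (P : Submodule F (ι → F)), P ≤ E ∧ NonSing Q P ∧
        finrank F P = 2 * p ∧ (∀ x ∈ P, N x ∈ P) ∧ (p = 1 ∨ (p = 2 ∧ EvenType.Plus (EvenType.res Q P))) := by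
    intro v hv w hw hvw h1 h2
    obtain ⟨ha, hb⟩ := span_data (Q := Q) ![v, w] fun c hc => by
      have e0 := hc 0
      have e1 := hc 1
      simp [Fin.sum_univ_two, QuadraticMap.polar_add_left, QuadraticMap.polar_smul_left, CharTwo.two_eq_zero,
        QuadraticMap.polar_comm _ w v, hvw] at e0 e1
      funext i
      fin_cases i <;> simp [e0, e1]
    obtain ⟨hc, hd⟩ := hspan ![v, w] (fun i => by fin_cases i <;> assumption) (fun i => by fin_cases i <;> assumption)
    exact ⟨1, _, hc, hb, by rw [ha], hd, Or.inl rfl⟩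
  by_cases ha : ∃ v ∈ E, B v (N v) ≠ 0
  · obtain ⟨v, hv, hvn⟩ := ha
    exact plane v hv (N v) (hinv v hv) hvn (Submodule.subset_span ⟨1, rfl⟩)
      (by rw [hN.nil.sq]; exact Submodule.zero_mem _)
  push Not at ha
  by_cases hz : ∀ v ∈ E, N v = 0
  · obtain ⟨v, hv, hv0⟩ := Submodule.exists_mem_ne_zero_of_ne_bot (p := E) fun e => by
      rw [e, finrank_bot] at hpos; omega
    obtain ⟨w, hw, hvw⟩ := hE v hv hv0
    exact plane v hv w hw hvw (by rw [hz v hv]; exact Submodule.zero_mem _)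
      (by rw [hz w hw]; exact Submodule.zero_mem _)
  push Not at hz
  obtain ⟨v, hv, hNv⟩ := hz
  obtain ⟨w, hw, hc⟩ := hE (N v) (hinv v hv) hNv
  have hvv := ha v hv
  have hww := ha w hw
  have h3 : ∀ x y, B (N x) (N y) = 0 := fun x y => by rw [adj hN, hN.nil.sq, QuadraticMap.polar_zero_right]
  have hvw' : B v (N w) = B (N v) w := (adj hN v w).symm
  set f : Fin 4 → ι → F := ![v, w, N v, N w]
  obtain ⟨hd, hn⟩ := span_data (Q := Q) f fun c hcc => by
    have e0 := hcc 0
    have e1 := hcc 1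
    have e2 := hcc 2
    have e3 := hcc 3
    simp [f, Fin.sum_univ_four, QuadraticMap.polar_add_left, QuadraticMap.polar_smul_left, self_zero, h3, hvv, hww,
      QuadraticMap.polar_comm _ (N v) v, QuadraticMap.polar_comm _ (N w) v, QuadraticMap.polar_comm _ w (N v),
      QuadraticMap.polar_comm _ (N w) w, hvw', hc] at e0 e1 e2 e3
    simp [e2, e3, QuadraticMap.polar_comm _ w v, hc] at e0 e1
    funext i
    fin_cases i <;> simp [e0, e1, e2, e3]
  obtain ⟨hle, hinvP⟩ := hspan f (fun i => by fin_cases i <;> simp [f, hv, hw, hinv v hv, hinv w hw]) fun i => by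
    fin_cases i
    · exact Submodule.subset_span ⟨2, rfl⟩
    · exact Submodule.subset_span ⟨3, rfl⟩
    · simp [f, hN.nil.sq]
    · simp [f, hN.nil.sq]
  refine ⟨2, _, hle, hn, hd, hinvP, Or.inr ⟨rfl, (EvenType.plus_res_iff _).2 ⟨Submodule.span F {N v, N w}, ?_, ?_, ?_⟩⟩⟩
  · refine Submodule.span_le.2 ?_
    rintro x (rfl | rfl)
    · exact Submodule.subset_span ⟨2, rfl⟩
    · exact Submodule.subset_span ⟨3, rfl⟩
  · intro x hx
    obtain ⟨a, b, rfl⟩ := Submodule.mem_span_pair.1 hx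
    rw [QuadraticMap.map_add ⇑Q, QuadraticMap.map_smul, QuadraticMap.map_smul, QuadraticMap.polar_smul_left,
      QuadraticMap.polar_smul_right, h3, hN.quad, hN.quad, QuadraticMap.polarBilin_apply_apply,
      QuadraticMap.polarBilin_apply_apply, hvv, hww]
    simp
  · rw [hd, show Submodule.span F {N v, N w} = Submodule.span F (Set.range ![N v, N w]) by
      simp [Matrix.range_cons, Matrix.range_empty, Set.union_singleton, Set.pair_comm],
      finrank_span_eq_card (Fintype.linearIndependent_iff.2 fun c hcs => ?_), Fintype.card_fin]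
    simp [Fin.sum_univ_two] at hcs
    have e1 := congrArg (fun x => B x v) hcs
    have e2 := congrArg (fun x => B x w) hcs
    simp [QuadraticMap.polar_add_left, QuadraticMap.polar_smul_left, QuadraticMap.polar_comm _ (N v) v, hvv,
      QuadraticMap.polar_comm _ (N w) v, hvw', hc, QuadraticMap.polar_comm _ (N w) w, hww] at e1 e2
    intro i
    fin_cases i <;> assumption

include hQ hN in
theorem exists_sub : ∀ (e : ℕ) (E : Submodule F (ι → F)), NonSing Q E → (∀ x ∈ E, N x ∈ E) → finrank F E = 2 * e →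
    ∀ (k : ℕ) (t : Prop), k ≤ e → Cond e k (EvenType.Plus (EvenType.res Q E)) t →
    ∃ W ≤ E, NonSing Q W ∧ finrank F W = 2 * k ∧ (∀ x ∈ W, N x ∈ W) ∧ (EvenType.Plus (EvenType.res Q W) ↔ t) := by
  intro e
  induction e using Nat.strong_induction_on with
  | _ e ih =>
  intro E hE hinv hd k t hk hC
  rcases Nat.eq_zero_or_pos k with rfl | hk0
  · refine ⟨⊥, bot_le, nonSing_bot, finrank_bot F _, fun x hx => ?_, iff_of_true
      (OrthPrimeOrderClasses.plus_of_finrank_zero _ (finrank_bot F _)) ?_⟩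
    · rw [(Submodule.mem_bot F).1 hx, map_zero]; exact Submodule.zero_mem _
    · unfold Cond at hC
      rcases hC with ⟨-, ht, -⟩ | ⟨-, ht, -⟩ | ⟨-, -, h⟩
      exacts [ht, ht, absurd h (by omega)]
  rcases eq_or_lt_of_le hk with rfl | hke
  · refine ⟨E, le_rfl, hE, hd, hinv, ?_⟩
    unfold Cond at hC
    rcases hC with ⟨h1, h2, -⟩ | ⟨-, -, h⟩ | ⟨h1, h2, -⟩
    exacts [iff_of_true h1 h2, absurd h (by omega), iff_of_false h1 h2]
  obtain ⟨p, P, hPE, hP, hPd, hPinv, hp⟩ := exists_piece hQ hN hE hinv (by omega)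
  set E' := E ⊓ OrthNondegCount.perp Q P
  have horth : ∀ x ∈ P, ∀ y ∈ E', B x y = 0 := fun x hx y hy => hy.2 x hx
  have hsup : P ⊔ E' = E := by
    refine le_antisymm (sup_le hPE inf_le_left) fun x hx => ?_
    obtain ⟨y, hy, z, hz, rfl⟩ := Submodule.mem_sup.1
      ((OrthNondegCount.split_perp (EvenType.nondeg_res hP)).sup ▸ Submodule.mem_top :
        x ∈ P ⊔ OrthNondegCount.perp Q P)
    exact Submodule.add_mem_sup hy ⟨(Submodule.add_mem_iff_right E (hPE hy)).1 hx, hz⟩
  have hdim := finrank_sup_orth hP horth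
  rw [hsup, hd, hPd] at hdim
  have hE' : NonSing Q E' := fun x hx hx0 => by
    obtain ⟨u, hu, hxu⟩ := hE x hx.1 hx0
    rw [← hsup] at hu
    obtain ⟨y, hy, z, hz, rfl⟩ := Submodule.mem_sup.1 hu
    refine ⟨z, hz, ?_⟩
    rwa [QuadraticMap.polar_add_right, QuadraticMap.polar_comm _ x y, horth y hy x hx, zero_add] at hxu
  have hinv' : ∀ x ∈ E', N x ∈ E' := fun x hx => ⟨hinv x hx.1, OrthNondegCount.mem_perp.2 fun y hy => by
    rw [← adj hN]; exact horth _ (hPinv y hy) x hx⟩
  have hβ : EvenType.Plus (EvenType.res Q E) ↔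
      (EvenType.Plus (EvenType.res Q P) ↔ EvenType.Plus (EvenType.res Q E')) := by
    rcases Nat.eq_zero_or_pos (e - p) with h0 | h0
    · have hb : E' = ⊥ := Submodule.finrank_eq_zero.1 (by omega)
      rw [← hsup, hb, sup_bot_eq, iff_true_right (OrthPrimeOrderClasses.plus_of_finrank_zero _ (finrank_bot F _))]
    · have h1 : 1 ≤ p := by omega
      rw [← OrthComplexStructure.plus_sup_iff hP hE' horth (a := p - 1) (c := e - p - 1) (by omega) (by omega), hsup]
  have h00 : p = e → EvenType.Plus (EvenType.res Q E') := fun h =>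
    OrthPrimeOrderClasses.plus_of_finrank_zero _ (by omega)
  rcases cond_step hk0 hke hp (by omega) hβ h00 hC with ⟨h1, h2⟩ | ⟨h1, h2, h3⟩
  · obtain ⟨W, hW, h4⟩ := ih (e - p) (by omega) E' hE' hinv' (by omega) k t h1 h2
    exact ⟨W, hW.trans inf_le_left, h4⟩
  · obtain ⟨W, hW, hWn, hWd, hWi, hWt⟩ := ih (e - p) (by omega) E' hE' hinv' (by omega) (k - p) _ h2 h3
    have ho : ∀ x ∈ P, ∀ y ∈ W, B x y = 0 := fun x hx y hy => horth x hx y (hW hy)
    refine ⟨P ⊔ W, sup_le hPE (hW.trans inf_le_left), nonSing_sup hP hWn ho,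
      by rw [finrank_sup_orth hP ho, hPd, hWd]; omega, fun x hx => ?_, ?_⟩
    · obtain ⟨y, hy, z, hz, rfl⟩ := Submodule.mem_sup.1 hx
      rw [map_add]; exact Submodule.add_mem_sup (hPinv y hy) (hWi z hz)
    · rcases Nat.eq_zero_or_pos (k - p) with h0 | h0
      · have hb : W = ⊥ := Submodule.finrank_eq_zero.1 (by omega)
        subst hb
        rw [iff_true_left (OrthPrimeOrderClasses.plus_of_finrank_zero _ (finrank_bot F _))] at hWt
        rw [sup_bot_eq]; exact hWt
      · have hp1 : 1 ≤ p := by omega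
        rw [OrthComplexStructure.plus_sup_iff hP hWn ho (a := p - 1) (c := k - p - 1) (by omega) (by omega), hWt]
        exact cancel_iff _ _

include hQ in
/-- The elements of order two modulo scalars. -/
theorem fixes_two {d M : ℕ} (hι : Fintype.card ι = 2 * d) (hd : 1 ≤ d) (hMd : M ≤ d) (b ε : Prop)
    (hε : EvenType.Plus Q ↔ ε) (hC : Cond d M ε b) : OrthEvenNondegTwo.Fixes Q 2 M b := by
  rintro x hx ⟨z, hz⟩ -
  obtain ⟨g, -, rfl⟩ := hx
  have hg : g * g = 1 := by
    rcases OrthEvenTSMain.sq_cases hQ (by omega) g hz with hgg | hgg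
    · exact hgg
    · refine ogVal_ext (Matrix.ext_iff_mulVec.2 fun v => ?_)
      rw [ogVal_mul, ← Matrix.mulVec_mulVec, hgg, ogVal_one, Matrix.one_mulVec]
      exact funext fun i => CharTwo.neg_eq (v i)
  have hN := SympEven.qnil_of_sq hQ (show g ^ 2 = 1 by rw [sq, hg])
  have htop : EvenType.Plus (EvenType.res Q ⊤) ↔ ε :=
    (OrthNondegRealize.plus_of_similar (Submodule.topEquiv : (⊤ : Submodule F (ι → F)) ≃ₗ[F] (ι → F)) one_ne_zero
      fun v => (one_mul _).symm).trans hε
  obtain ⟨W, -, hW, hWd, hWi, hWt⟩ := exists_sub hQ hN d ⊤ (OrthAut.nondeg_top hQ) (fun x _ => Submodule.mem_top)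
    (by rw [finrank_top, Module.finrank_pi, hι]) M b hMd (by rwa [propext htop])
  refine ⟨W, (good_iff Q W).2 ⟨hWd, EvenType.nondeg_res hW, hWt⟩, ?_⟩
  rw [Submodule.map_le_iff_le_comap]
  intro w hw
  have h := Submodule.sub_mem W (hWi w hw) hw
  rw [SympEven.qmove_apply, add_sub_cancel_right] at h
  exact h

end Cfsg.Agent.OrthEvenNondegCharTwo
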