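import Cfsg.Agent.Lib.Classical.OrthNondegCrit

/-! Types of orthogonal products, the fixed space of an isometry of order prime to the characteristic, and the
passage from `PΩ` to `Ω` for elements of odd order. -/

set_option autoImplicit false
set_option linter.unusedSectionVars false

namespace Cfsg.Agent.OrthEvenProd

open Polynomial Module Matrix Cfsg.Agent.Classical

variable {F : Type*} [Field F] [Fintype F]

/-- The type of a product. -/
theorem plus_prod {V W : Type*} [AddCommGroup V] [Module F V] [FiniteDimensional F V] [AddCommGroup W] [Module F W]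
    [FiniteDimensional F W] {A : QuadraticForm F V} {B : QuadraticForm F W}
    (hA : (QuadraticMap.polarBilin A).Nondegenerate) (hB : (QuadraticMap.polarBilin B).Nondegenerate) {a b : ℕ}
    (hV : finrank F V = 2 * a) (hW : finrank F W = 2 * b) :
    EvenType.Plus (A.prod B) ↔ (EvenType.Plus A ↔ EvenType.Plus B) := by
  set Q := A.prod B
  let L₁ : V →ₗ[F] V × W := LinearMap.inl F V W
  let L₂ : W →ₗ[F] V × W := LinearMap.inr F V W
  have hsp : EvenType.Split Q (LinearMap.range L₁) (LinearMap.range L₂) := by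
    refine ⟨?_, ?_, ?_⟩
    · exact LinearMap.sup_range_inl_inr
    · exact (LinearMap.disjoint_inl_inr).eq_bot
    · rintro _ ⟨v, rfl⟩ _ ⟨w, rfl⟩
      simp [Q, L₁, L₂, QuadraticMap.polar]
  let e₁ : V ≃ₗ[F] LinearMap.range L₁ := LinearEquiv.ofInjective L₁ LinearMap.inl_injective
  let e₂ : W ≃ₗ[F] LinearMap.range L₂ := LinearEquiv.ofInjective L₂ LinearMap.inr_injective
  have h1 : EvenType.Plus A ↔ EvenType.Plus (EvenType.res Q (LinearMap.range L₁)) :=
    OrthNondegRealize.plus_of_similar e₁ one_ne_zero fun v => by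
      rw [one_mul]; show Q (L₁ v) = A v; simp [Q, L₁]
  have h2 : EvenType.Plus B ↔ EvenType.Plus (EvenType.res Q (LinearMap.range L₂)) :=
    OrthNondegRealize.plus_of_similar e₂ one_ne_zero fun v => by
      rw [one_mul]; show Q (L₂ v) = B v; simp [Q, L₂]
  rcases Nat.eq_zero_or_pos a with rfl | ha
  · have hp : EvenType.Plus A := OrthPrimeOrderClasses.plus_of_finrank_zero A hV
    refine ⟨fun h => iff_of_true hp ?_, fun h => hsp.plus_plus (h1.1 hp) (h2.1 (h.1 hp))⟩
    haveI : Subsingleton V := Module.finrank_zero_iff.1 hV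
    let φ : (V × W) ≃ₗ[F] W :=
      LinearEquiv.ofBijective (LinearMap.snd F V W) ⟨fun x y e => Prod.ext (Subsingleton.elim _ _) e,
        fun w => ⟨(0, w), rfl⟩⟩
    refine h.map φ fun v => ?_
    show B v.2 = Q v
    rw [QuadraticMap.prod_apply, Subsingleton.elim v.1 0, QuadraticMap.map_zero, zero_add]
  rcases Nat.eq_zero_or_pos b with rfl | hb
  · have hp : EvenType.Plus B := OrthPrimeOrderClasses.plus_of_finrank_zero B hW
    refine ⟨fun h => iff_of_true ?_ hp, fun h => hsp.plus_plus (h1.1 (h.2 hp)) (h2.1 hp)⟩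
    haveI : Subsingleton W := Module.finrank_zero_iff.1 hW
    let φ : (V × W) ≃ₗ[F] V :=
      LinearEquiv.ofBijective (LinearMap.fst F V W) ⟨fun x y e => Prod.ext e (Subsingleton.elim _ _),
        fun v => ⟨(v, 0), rfl⟩⟩
    refine h.map φ fun v => ?_
    show A v.1 = Q v
    rw [QuadraticMap.prod_apply, Subsingleton.elim v.2 0, QuadraticMap.map_zero, add_zero]
  rw [h1, h2]
  exact hsp.plus_iff (OrthPrimeOrderClasses.nondegenerate_prod hA hB) (a := a - 1) (b := b - 1)
    (by rw [← e₁.finrank_eq, hV]; omega) (by rw [← e₂.finrank_eq, hW]; omega)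

section Fixed

variable {V : Type*} [AddCommGroup V] [Module F V] [FiniteDimensional F V] {r : ℕ} {Q : QuadraticForm F V}

/-- Fixed vectors and moved vectors split an isometry of order prime to `p`. -/
theorem fixed_split (hr0 : (r : F) ≠ 0) (g : Module.End F V) (hg : ∀ v, Q (g v) = Q v) (hgr : g ^ r = 1) :
    ∃ E K : Submodule F V, EvenType.Split Q E K ∧ (∀ x ∈ E, g x = x) ∧ (∀ x ∈ K, g x ∈ K) ∧
      (∀ x ∈ K, g x = x → x = 0) ∧
      ∀ W : Submodule F V, (∀ w ∈ W, g w ∈ W) → W = (W ⊓ E) ⊔ (W ⊓ K) := by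
  classical
  set R : Module.End F V := (r : F)⁻¹ • ∑ s ∈ Finset.range r, g ^ s
  have hR : ∀ x, R x = (r : F)⁻¹ • ∑ s ∈ Finset.range r, (g ^ s) x := fun x => by
    simp [R, LinearMap.sum_apply]
  have hB : ∀ u v, QuadraticMap.polar (⇑Q) (g u) (g v) = QuadraticMap.polar (⇑Q) u v := fun u v => by
    simp only [QuadraticMap.polar, ← map_add, hg]
  have hgR : ∀ x, g (R x) = R x := fun x => by
    rw [hR, map_smul, map_sum]
    congr 1
    have h1 := Finset.sum_range_succ' (fun s => (g ^ s) x) r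
    rw [Finset.sum_range_succ, hgr, pow_zero] at h1
    have h2 : ∀ s, g ((g ^ s) x) = (g ^ (s + 1)) x := fun s => by rw [pow_succ']; rfl
    simp only [h2]
    exact (add_right_cancel h1).symm
  have hfix : ∀ x, g x = x → R x = x := fun x hx => by
    have h1 : ∀ s, (g ^ s) x = x := fun s => by
      induction s with
      | zero => rfl
      | succ s ih => rw [pow_succ', Module.End.mul_apply, ih, hx]
    rw [hR, Finset.sum_congr rfl fun s _ => h1 s, Finset.sum_const, Finset.card_range, ← Nat.cast_smul_eq_nsmul F,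
      smul_smul, inv_mul_cancel₀ hr0, one_smul]
  have hRg : ∀ x, R (g x) = R x := fun x => by
    rw [← hgR x, hR, hR, map_smul, map_sum]
    refine congrArg _ (Finset.sum_congr rfl fun s _ => ?_)
    rw [← Module.End.mul_apply, ← Module.End.mul_apply, ← pow_succ, ← pow_succ']
  have hpow : ∀ (W : Submodule F V), (∀ w ∈ W, g w ∈ W) → ∀ w ∈ W, ∀ s, (g ^ s) w ∈ W := fun W hW w hw s => by
    induction s with
    | zero => exact hw
    | succ s ih => rw [pow_succ', Module.End.mul_apply]; exact hW _ ih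
  refine ⟨LinearMap.range R, LinearMap.ker R, ⟨?_, ?_, ?_⟩, ?_, ?_, ?_, ?_⟩
  · refine eq_top_iff.2 fun x _ => Submodule.mem_sup.2 ⟨R x, ⟨x, rfl⟩, x - R x, ?_, add_sub_cancel _ _⟩
    rw [LinearMap.mem_ker, map_sub, hfix _ (hgR x), sub_self]
  · rw [Submodule.eq_bot_iff]
    rintro x ⟨⟨y, rfl⟩, hx⟩
    rw [SetLike.mem_coe, LinearMap.mem_ker, hfix _ (hgR y)] at hx
    exact hx
  · rintro _ ⟨u, rfl⟩ v hv
    have h1 : ∀ s, QuadraticMap.polar (⇑Q) (R u) ((g ^ s) v) = QuadraticMap.polar (⇑Q) (R u) v := fun s => by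
      induction s with
      | zero => rfl
      | succ s ih => rw [pow_succ', Module.End.mul_apply]; conv_lhs => rw [← hgR u, hB, ih]
    have h2 : QuadraticMap.polar (⇑Q) (R u) (R v) = QuadraticMap.polar (⇑Q) (R u) v := by
      rw [hR v, ← QuadraticMap.polarBilin_apply_apply, map_smul, map_sum]
      simp only [QuadraticMap.polarBilin_apply_apply]
      rw [Finset.sum_congr rfl fun s _ => h1 s,
        Finset.sum_const, Finset.card_range, ← Nat.cast_smul_eq_nsmul F, smul_smul, inv_mul_cancel₀ hr0, one_smul]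
    rw [← h2, LinearMap.mem_ker.1 hv, QuadraticMap.polar_zero_right]
  · rintro _ ⟨u, rfl⟩; exact hgR u
  · intro x hx
    rw [LinearMap.mem_ker] at hx ⊢
    rw [hRg, hx]
  · intro x hx hgx
    rw [← hfix x hgx]; exact LinearMap.mem_ker.1 hx
  · intro W hW
    refine le_antisymm (fun w hw => ?_) (sup_le inf_le_left inf_le_left)
    have hRw : R w ∈ W := by
      rw [hR]; exact W.smul_mem _ (W.sum_mem fun s _ => hpow W hW w hw s)
    exact Submodule.mem_sup.2 ⟨R w, ⟨hRw, w, rfl⟩, w - R w, ⟨W.sub_mem hw hRw, by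
      rw [SetLike.mem_coe, LinearMap.mem_ker, map_sub, hfix _ (hgR w), sub_self]⟩, add_sub_cancel _ _⟩

end Fixed

section Scalar

variable {ι : Type} [Fintype ι] [DecidableEq ι] {Q : QuadraticForm F (ι → F)}

/-- An element of odd prime order modulo scalars has a multiple of that order fixing the same subspaces. -/
theorem lift_of_scalar (hι : 0 < Fintype.card ι) (hQ : (QuadraticMap.polarBilin Q).Nondegenerate) {r : ℕ}
    (hr : Odd r) (x : GL ι F) (hx : x ∈ isometryGroup F ⇑Q)
    (hz : ∃ z : F, ((x ^ r : GL ι F) : Matrix ι ι F) = z • (1 : Matrix ι ι F)) :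
    ∃ y : isometryGroup F ⇑Q, y ^ r = 1 ∧
      ∀ W : Submodule F (ι → F), (∀ w ∈ W, ((y : GL ι F) : Matrix ι ι F) *ᵥ w ∈ W) →
        W.map (Matrix.toLin' (x : Matrix ι ι F)) ≤ W := by
  obtain ⟨z, hz⟩ := hz
  have hpow : x ^ r ∈ isometryGroup F ⇑Q := Subgroup.pow_mem _ hx r
  obtain ⟨v, w, hvw⟩ : ∃ v w : ι → F, QuadraticMap.polar (⇑Q) v w ≠ 0 := by
    by_contra hno
    push Not at hno
    obtain ⟨a⟩ := Fintype.card_pos_iff.1 hι
    have : (Pi.single a (1 : F) : ι → F) = 0 := hQ.1 _ fun w => hno _ w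
    simpa using congrFun this a
  have hzz : z * z = 1 := by
    have h1 : ∀ u, Q (z • u) = Q u := fun u => by
      have := mem_isometryGroup.1 hpow u
      rwa [hz, Matrix.smul_mulVec, Matrix.one_mulVec] at this
    have h2 : QuadraticMap.polar (⇑Q) (z • v) (z • w) = QuadraticMap.polar (⇑Q) v w := by
      simp only [QuadraticMap.polar, ← smul_add, h1]
    rw [QuadraticMap.polar_smul_left, QuadraticMap.polar_smul_right, smul_eq_mul, smul_eq_mul, ← mul_assoc] at h2
    exact mul_right_cancel₀ hvw (h2.trans (one_mul _).symm)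
  have hz0 : z ≠ 0 := fun e => by rw [e, zero_mul] at hzz; exact zero_ne_one hzz
  obtain ⟨k, hk⟩ := hr
  have hzr : z ^ r * z = 1 := by
    rw [← pow_succ, hk, show 2 * k + 1 + 1 = 2 * (k + 1) by ring, pow_mul, pow_two, hzz, one_pow]
  let y : GL ι F := ⟨z • (x : Matrix ι ι F), z • ((x⁻¹ : GL ι F) : Matrix ι ι F),
    by rw [smul_mul_smul_comm, ← Units.val_mul, mul_inv_cancel, hzz, one_smul, Units.val_one],
    by rw [smul_mul_smul_comm, ← Units.val_mul, inv_mul_cancel, hzz, one_smul, Units.val_one]⟩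
  have hy : y ∈ isometryGroup F ⇑Q := mem_isometryGroup.2 fun u => by
    show Q ((z • (x : Matrix ι ι F)) *ᵥ u) = Q u
    rw [Matrix.smul_mulVec, QuadraticMap.map_smul, hzz, one_smul, mem_isometryGroup.1 hx]
  refine ⟨⟨y, hy⟩, Subtype.ext (Units.ext ?_), fun W hW => ?_⟩
  · show ((y ^ r : GL ι F) : Matrix ι ι F) = 1
    rw [Units.val_pow_eq_pow_val]
    show (z • (x : Matrix ι ι F)) ^ r = 1
    rw [_root_.smul_pow, ← Units.val_pow_eq_pow_val, hz, smul_smul, hzr, one_smul]
  · rw [Submodule.map_le_iff_le_comap]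
    intro u hu
    have := W.smul_mem z (hW u hu)
    show (x : Matrix ι ι F) *ᵥ u ∈ W
    rwa [show ((⟨y, hy⟩ : isometryGroup F ⇑Q) : GL ι F).val = z • (x : Matrix ι ι F) from rfl, Matrix.smul_mulVec,
      smul_smul, hzz, one_smul] at this

end Scalar

end Cfsg.Agent.OrthEvenProd
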