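import Cfsg.Agent.Lib.Classical.OrthEvenOddCount
import Cfsg.Agent.Lib.Classical.OrthEvenTSMain
import Cfsg.Agent.Lib.Classical.OrthEvenProd

/-! Non-degenerate subspaces of even dimension and given type in even dimension: orbit, and primes dividing their
number. -/

set_option autoImplicit false
set_option linter.unusedSectionVars false

namespace Cfsg.Agent.OrthEvenNondegCount

open Module Cfsg.Agent.Classical Cfsg.Agent.OrthSingularCount Cfsg.Agent.OrthNondegCount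

variable {F : Type*} [Field F] [Fintype F] {ι : Type} [Fintype ι] [DecidableEq ι] {Q : QuadraticForm F (ι → F)}
  (hQ : (QuadraticMap.polarBilin Q).Nondegenerate) {d M : ℕ} (hι : Fintype.card ι = 2 * d) (hM : 1 ≤ M) (hMd : M < d)
  (b b' : Prop) (hb : EvenType.Plus Q ↔ (b ↔ b'))

include hQ hι hM hMd hb in
/-- Subspaces of each type exist. -/
theorem exists_class : ∃ W : Submodule F (ι → F), OrthNondegDerange.Good Q M b W := by
  obtain ⟨a, rfl⟩ : ∃ a, M = a + 1 := ⟨M - 1, by omega⟩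
  obtain ⟨n, A, hA, hAd, hAb⟩ := OrthNondegRealize.exists_model (F := F) a b
  obtain ⟨n', T, hT, hTd, hTb⟩ := OrthNondegRealize.exists_model (F := F) (d - (a + 2)) b'
  have hnd := OrthPrimeOrderClasses.nondegenerate_prod hA hT
  obtain ⟨e, rfl⟩ : ∃ e, d = e + 1 := ⟨d - 1, by omega⟩
  obtain ⟨φ, hφ⟩ := EvenType.iso_of_type (m := e) hnd hQ (by rw [Module.finrank_prod, hAd, hTd]; omega)
    (by rw [Module.finrank_pi, hι])
    ((OrthEvenProd.plus_prod hA hT (a := a + 1) (b := e + 1 - (a + 2) + 1) hAd hTd).trans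
      (by rw [hAb, hTb]; exact hb.symm))
  let L : ((Fin a ⊕ Fin a → F) × (Fin n → F)) →ₗ[F] (ι → F) := φ.toLinearMap ∘ₗ LinearMap.inl F _ _
  have hL : Function.Injective L := φ.injective.comp LinearMap.inl_injective
  let ψ := LinearEquiv.ofInjective L hL
  have hψ : ∀ v, EvenType.res Q (LinearMap.range L) (ψ v) = 1 * A v := fun v => by
    show Q (φ (v, 0)) = _
    rw [hφ, QuadraticMap.prod_apply, QuadraticMap.map_zero, add_zero, one_mul]
  exact ⟨LinearMap.range L, (OrthNondegDerange.good_iff Q _).2 ⟨ψ.finrank_eq.symm.trans hAd,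
    OrthNondegRealize.res_nondeg_of_map ψ one_ne_zero hψ hA,
    (OrthNondegRealize.plus_of_similar ψ one_ne_zero hψ).symm.trans hAb⟩⟩

include hQ hι hM hMd hb in
theorem perp_data {W : Submodule F (ι → F)} (hW : OrthNondegDerange.Good Q M b W) :
    finrank F (perp Q W) = 2 * (d - M) ∧ (QuadraticMap.polarBilin (EvenType.res Q (perp Q W))).Nondegenerate ∧
      (EvenType.Plus (EvenType.res Q (perp Q W)) ↔ b') := by
  obtain ⟨hWd, hWn, hWb⟩ := (OrthNondegDerange.good_iff Q W).1 hW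
  have hs := split_perp hWn
  have hd := hs.dim
  rw [Module.finrank_pi, hι] at hd
  have hdim : finrank F (perp Q W) = 2 * (d - M) := by omega
  refine ⟨hdim, hs.symm.nondeg_left hQ, ?_⟩
  have h := hs.plus_iff hQ (a := M - 1) (b := d - M - 1) (by omega) (by omega)
  rw [hb, hWb] at h
  tauto

theorem good_iff_iso (hM : 1 ≤ M) {W : Submodule F (ι → F)} (hW : OrthNondegDerange.Good Q M b W)
    (W' : Submodule F (ι → F)) :
    OrthNondegDerange.Good Q M b W' ↔ ∃ φ : W ≃ₗ[F] W', ∀ w, EvenType.res Q W' (φ w) = EvenType.res Q W w := by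
  obtain ⟨hWd, hWn, hWb⟩ := (OrthNondegDerange.good_iff Q W).1 hW
  constructor
  · intro hW'
    obtain ⟨hWd', hWn', hWb'⟩ := (OrthNondegDerange.good_iff Q W').1 hW'
    exact EvenType.iso_of_type hWn hWn' (m := M - 1) (by omega) (by omega) (hWb.trans hWb'.symm)
  · rintro ⟨φ, hφ⟩
    have hφ' : ∀ w, EvenType.res Q W' (φ w) = 1 * EvenType.res Q W w := fun w => by rw [one_mul, hφ]
    exact (OrthNondegDerange.good_iff Q W').2 ⟨φ.finrank_eq.symm.trans hWd,
      OrthNondegRealize.res_nondeg_of_map φ one_ne_zero hφ' hWn,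
      (OrthNondegRealize.plus_of_similar φ one_ne_zero hφ').symm.trans hWb⟩

/-- The sign of a type. -/
noncomputable def sg (b : Prop) : ℤ :=
  haveI := Classical.propDecidable b
  if b then 1 else -1

include hQ hι hM hMd hb in
/-- The exponents of a prime dividing the number of subspaces. -/
theorem exists_exponent {r : ℕ} (hr : r.Prime) (hrq : ¬ r ∣ Fintype.card F)
    (h : r ∣ Nat.card {W : Submodule F (ι → F) // OrthNondegDerange.Good Q M b W}) :
    (r : ℤ) ∣ (Fintype.card F : ℤ) ^ d - sg (b ↔ b') ∨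
      (r : ℤ) ∣ (Fintype.card F : ℤ) ^ (d - M) + sg b' ∨
      ∃ j, d - M < j ∧ j < d ∧ (r : ℤ) ∣ (Fintype.card F : ℤ) ^ (2 * j) - 1 := by
  classical
  obtain ⟨W, hW⟩ := exists_class hQ hι hM hMd b b' hb
  obtain ⟨hWd, hWn, hWb⟩ := (OrthNondegDerange.good_iff Q W).1 hW
  obtain ⟨hPd, hPn, hPb⟩ := perp_data hQ hι hM hMd b b' hb hW
  obtain ⟨a, rfl⟩ : ∃ a, M = a + 1 := ⟨M - 1, by omega⟩
  obtain ⟨c, rfl⟩ : ∃ c, d = a + c + 2 := ⟨d - (a + 2), by omega⟩
  rw [show a + c + 2 - (a + 1) = c + 1 by omega] at hPd ⊢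
  have hcz := congrArg (Nat.cast : ℕ → ℤ) (card_orbit hQ (OrthNondegDerange.Good Q (a + 1) b) hWn (good_iff_iso b hM hW))
  obtain ⟨s, hs1, hs2, hiso⟩ := OrthEvenOddCount.isoCard_even hQ (m := a + c + 1) (by rw [Module.finrank_pi, hι])
  obtain ⟨t, ht1, ht2, hisoW⟩ := OrthEvenOddCount.isoCard_even hWn (m := a) hWd
  obtain ⟨u, hu1, hu2, hisoP⟩ := OrthEvenOddCount.isoCard_even hPn (m := c) hPd
  have hs : s = sg (b ↔ b') := by
    unfold sg
    by_cases hp : EvenType.Plus Q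
    · rw [hs1 hp, if_pos (hb.1 hp)]
    · rw [hs2 hp, if_neg fun h' => hp (hb.2 h')]
  have hu : u = sg b' := by
    unfold sg
    by_cases hp : EvenType.Plus (EvenType.res Q (perp Q W))
    · rw [hu1 hp, if_pos (hPb.1 hp)]
    · rw [hu2 hp, if_neg fun h' => hp (hPb.2 h')]
  rw [Nat.cast_mul, Nat.cast_mul, hiso, hisoW, hisoP] at hcz
  set q : ℤ := (Fintype.card F : ℤ) with hqdef
  have hq : 1 < q := Nat.one_lt_cast.2 (Fintype.one_lt_card (α := F))
  set A := ∏ i ∈ Finset.range a, (q ^ (2 * (i + 1)) - 1)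
  set C := ∏ i ∈ Finset.range c, (q ^ (2 * (i + 1)) - 1)
  set S := ∏ i ∈ Finset.range a, (q ^ (2 * (c + 1 + (i + 1))) - 1)
  have hprod : (∏ i ∈ Finset.range (a + c + 1), (q ^ (2 * (i + 1)) - 1)) = C * (q ^ (2 * (c + 1)) - 1) * S := by
    rw [show a + c + 1 = (c + 1) + a by omega, Finset.prod_range_add, Finset.prod_range_succ]
    rfl
  rw [hprod] at hcz
  have hu' : u * u = 1 := by rw [hu]; unfold sg; split_ifs <;> norm_num
  have hne : ∀ n : ℕ, q ^ (n + 1) - u ≠ 0 := fun n e => by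
    have h1 : 1 < q ^ (n + 1) := one_lt_pow₀ hq (Nat.succ_ne_zero n)
    have : u ≤ 1 := by rw [hu]; unfold sg; split_ifs <;> norm_num
    linarith
  have hC : C ≠ 0 := Finset.prod_ne_zero_iff.2 fun i _ =>
    sub_ne_zero.2 (one_lt_pow₀ hq (show 2 * (i + 1) ≠ 0 by omega)).ne'
  rw [show q ^ (2 * (c + 1)) - 1 = (q ^ (c + 1) - u) * (q ^ (c + 1) + u) by
    rw [two_mul, pow_add]; linear_combination hu'] at hcz
  have hrP : Prime (r : ℤ) := Nat.prime_iff_prime_int.1 hr
  have hkey : (r : ℤ) ∣ q ^ ((a + c + 1) * (a + c + 1 + 1)) * ((q ^ (a + c + 2) - s) * ((q ^ (c + 1) + u) * S)) := by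
    obtain ⟨k, hk⟩ := h
    rw [hk, Nat.cast_mul] at hcz
    refine ⟨(k : ℤ) * 2 * q ^ (a * (a + 1)) * q ^ (c * (c + 1)) * (q ^ (a + 1) - t) * A,
      mul_left_cancel₀ (mul_ne_zero (mul_ne_zero (two_ne_zero (α := ℤ)) hC) (hne c)) ?_⟩
    linear_combination hcz
  rcases hrP.dvd_or_dvd hkey with h' | h'
  · exact absurd (Int.natCast_dvd_natCast.1 (hrP.dvd_of_dvd_pow h')) hrq
  rcases hrP.dvd_or_dvd h' with h' | h'
  · exact Or.inl (hs ▸ h')
  rcases hrP.dvd_or_dvd h' with h' | h'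
  · exact Or.inr (Or.inl (hu ▸ h'))
  obtain ⟨i, hi, hd⟩ := hrP.exists_mem_finset_dvd h'
  rw [Finset.mem_range] at hi
  exact Or.inr (Or.inr ⟨c + 1 + (i + 1), by omega, by omega, hd⟩)

end Cfsg.Agent.OrthEvenNondegCount
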