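import Cfsg.Agent.Lib.Classical.OrthEvenOddCount
import Cfsg.Agent.Lib.Classical.OrthEvenTSCriterion

/-! Elements of odd prime order of `Ω^±_{2d}(q)` fixing a non-degenerate subspace of odd dimension of given class. -/

set_option autoImplicit false
set_option linter.unusedSectionVars false

namespace Cfsg.Agent.OrthEvenOddDerange

open Polynomial Matrix Module Cfsg.Agent.SelfReciprocalFactors Cfsg.Agent.SelfRecipDivisors
  Cfsg.Agent.UnitaryDetCentralizer Cfsg.Agent.Classical Cfsg.Agent.OrthNondegDerange Cfsg.Agent.OrthEvenTS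

variable {F : Type*} [Field F] [Fintype F] {r i t : ℕ} {ι : Type} [Fintype ι] [DecidableEq ι]
  (Q : QuadraticForm F (ι → F))

/-- The class of subspaces. -/
def InClass (m : ℕ) (W₀ W : Submodule F (ι → F)) : Prop :=
  finrank F W = m ∧ Geo.IsNondegenerateOn (QuadraticMap.polar ⇑Q) W ∧ Geo.AreIsometricFor (⇑Q) W W₀

theorem inClass_iff {m : ℕ} {W₀ : Submodule F (ι → F)} (hd : finrank F W₀ = m)
    (hn : (QuadraticMap.polarBilin (EvenType.res Q W₀)).Nondegenerate) (W : Submodule F (ι → F)) :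
    InClass Q m W₀ W ↔ ∃ φ : W₀ ≃ₗ[F] W, ∀ w, EvenType.res Q W (φ w) = EvenType.res Q W₀ w := by
  constructor
  · rintro ⟨-, -, e, he⟩
    refine ⟨e.symm, fun w => ?_⟩
    have h := he (e.symm w)
    rw [e.apply_symm_apply] at h
    exact h.symm
  · rintro ⟨φ, hφ⟩
    refine ⟨φ.finrank_eq.symm.trans hd, (OrthNondegRealize.nondeg_on_iff W).2
      (OrthNondegRealize.res_nondeg_of_map φ one_ne_zero (fun v => by rw [one_mul, hφ]) hn), φ.symm, fun w => ?_⟩
    have h := hφ (φ.symm w)
    rw [φ.apply_symm_apply] at h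
    exact h.symm

theorem spec_any_odd (h : Ctx F r i t) (h2 : (2 : F) ≠ 0) {V : Type*} [AddCommGroup V] [Module F V]
    [FiniteDimensional F V] {A : QuadraticForm F V} (hA : (QuadraticMap.polarBilin A).Nondegenerate) {a : ℕ}
    (hV : finrank F V = 2 * a + 1) {P : F[X]} (hP : P ∈ selfRecip F r (2 * a + 1)) :
    P ∈ OrthPrimeOrderClasses.spec r A := by
  rw [← OrthPrimeOrderClasses.spec_odd h h2 a] at hP
  obtain ⟨g, hg, hr, rfl⟩ := hP
  obtain ⟨c, e, hc, he⟩ := OrthSingularCount.exists_odd_equiv hV A hA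
  obtain ⟨h1, h3, h4⟩ := OrthPrimeOrderClasses.transport e hc he hg hr
  exact ⟨_, h1, h3, h4⟩

/-- The number theoretic criterion. -/
def Crit (F : Type*) [Fintype F] (r i d a : ℕ) (ε : Prop) [Decidable ε] : Prop :=
  (d % half i = 0 ∧ ¬ PowTy F r d ε) ∨ a % half i < d % half i

variable (hQ : (QuadraticMap.polarBilin Q).Nondegenerate) (hG : OrthAut.GenQ F ι) (h2 : (2 : F) ≠ 0) {d a : ℕ}
  (hι : Fintype.card ι = 2 * d) (had : a < d) (ε : Prop) [Decidable ε] (hε : EvenType.Plus Q ↔ ε)
  (W₀ : Submodule F (ι → F)) (hW₀ : finrank F W₀ = 2 * a + 1)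
  (hn₀ : (QuadraticMap.polarBilin (EvenType.res Q W₀)).Nondegenerate)

include hQ h2 hι had hε hW₀ hn₀ in
theorem small (h : Ctx F r i t) (hrq : ¬ r ∣ Fintype.card F)
    (hrΩ : r ∣ Nat.card {W : Submodule F (ι → F) // InClass Q (2 * a + 1) W₀ W}) :
    half i ≤ d ∧ (a % half i < d % half i → half i ≤ a) := by
  haveI := Fact.mk h.prime
  have hh := half_pos h
  have hone : ∀ n, r ∣ Fintype.card F ^ n - 1 → (Fintype.card F : ZMod r) ^ n = 1 := fun n hn => by
    rwa [← ZMod.natCast_eq_zero_iff, Nat.cast_sub (Nat.one_le_pow _ _ Fintype.card_pos), Nat.cast_pow,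
      Nat.cast_one, sub_eq_zero] at hn
  have hmult : (∃ w, d = half i * w) ∨ ∃ w, d ≤ half i * w + a ∧ half i * w < d := by
    rcases OrthEvenOddCount.exists_exponent hQ h2 (by rw [Module.finrank_pi, hι]) had h.prime h.odd hrq
      (InClass Q (2 * a + 1) W₀) hW₀ hn₀ (inClass_iff Q hW₀ hn₀) hrΩ with ⟨-, h'⟩ | ⟨-, h'⟩ | ⟨j, hj1, hj2, h'⟩
    · exact Or.inl (OrthEvenTSCriterion.mult_of_pow h (one_mul 1) (hone _ h'))
    · refine Or.inl (OrthEvenTSCriterion.mult_of_pow h (z := -1) (by rw [neg_mul_neg, one_mul]) ?_)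
      rwa [← ZMod.natCast_eq_zero_iff, Nat.cast_add, Nat.cast_pow, Nat.cast_one, add_eq_zero_iff_eq_neg] at h'
    · refine Or.inr ?_
      have h1 := hone _ h'
      rw [two_mul, pow_add] at h1
      obtain ⟨w, hw⟩ := OrthEvenTSCriterion.mult_of_pow h (j := j) h1 rfl
      exact ⟨w, by omega, by omega⟩
  have hd := Nat.div_add_mod d (half i)
  have hr := Nat.mod_lt d hh
  rcases hmult with ⟨w, rfl⟩ | ⟨w, hw1, hw2⟩
  · refine ⟨?_, fun hlt => ?_⟩
    · rcases Nat.eq_zero_or_pos w with rfl | hw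
      · omega
      · exact Nat.le_mul_of_pos_right _ hw
    · rw [Nat.mul_mod_right] at hlt; omega
  · refine ⟨?_, fun hlt => ?_⟩
    · rcases Nat.eq_zero_or_pos w with rfl | hw
      · omega
      · have := Nat.le_mul_of_pos_right (half i) hw; omega
    · by_contra hlt'
      rw [Nat.mod_eq_of_lt (by omega : a < half i)] at hlt
      have hwn : w ≤ d / half i := by rw [Nat.le_div_iff_mul_le hh, mul_comm]; omega
      have := Nat.mul_le_mul_left (half i) hwn
      omega

include hQ hG h2 hι had hε hW₀ hn₀ in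
theorem criterion (h : Ctx F r i t) (hrq : ¬ r ∣ Fintype.card F)
    (hrΩ : r ∣ Nat.card {W : Submodule F (ι → F) // InClass Q (2 * a + 1) W₀ W}) :
    (∀ x : GL ι F, x ∈ Geo.omegaGL ⇑Q → (∃ z : F, ((x ^ r : GL ι F) : Matrix ι ι F) = z • (1 : Matrix ι ι F)) →
      (∀ z : F, (x : Matrix ι ι F) ≠ z • (1 : Matrix ι ι F)) →
      ∃ W : Submodule F (ι → F), InClass Q (2 * a + 1) W₀ W ∧ W.map (Matrix.toLin' (x : Matrix ι ι F)) ≤ W) ↔
      Crit F r i d a ε := by
  classical
  obtain ⟨hhd, -⟩ := small Q hQ h2 hι had ε hε W₀ hW₀ hn₀ h hrq hrΩ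
  have hh := half_pos h
  have hV : finrank F (ι → F) = 2 * d := by rw [Module.finrank_pi, hι]
  have hsgn : (Fintype.card F : ZMod r) ^ d = OrthPrimeOrderClasses.sgn r Q ↔ PowTy F r d ε := by
    unfold PowTy
    rw [OrthPrimeOrderClasses.sgn]
    simp only [hε]
  have hinv : ∀ (x : GL ι F) (W : Submodule F (ι → F)), W.map (Matrix.toLin' (x : Matrix ι ι F)) ≤ W ↔
      ∀ w ∈ W, (x : Matrix ι ι F) *ᵥ w ∈ W := fun x W => by
    rw [Submodule.map_le_iff_le_comap]; exact Iff.rfl
  constructor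
  · intro H
    by_contra hC
    obtain ⟨f, hf⟩ : (factorSet F r).Nonempty := by
      rw [← Finset.card_pos, card_factorSet h]
      rcases Nat.eq_zero_or_pos t with rfl | ht
      · have := h.ht; have := h.prime.two_le; have := h.odd; omega
      · exact ht
    set N := Multiset.replicate (d / half i) (basic i f) with hNdef
    have hN : ∀ u ∈ N, u ∈ basics F r i := fun u hu => by
      rw [Multiset.eq_of_mem_replicate hu]; exact mem_basics.2 ⟨f, hf, rfl⟩
    have hc : N.card = d / half i := Multiset.card_replicate _ _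
    have hA : half i * N.card + d % half i = d := by rw [hc, Nat.div_add_mod]
    have hj : 0 < d % half i ∨ PowTy F r d ε := by
      rcases Nat.eq_zero_or_pos (d % half i) with h0 | h0
      · exact Or.inr (by by_contra hb; exact hC (Or.inl ⟨h0, hb⟩))
      · exact Or.inl h0
    obtain ⟨x, hx, hxr, hxs, hxP⟩ := OrthEvenTSCriterion.exists_element Q h hQ hG hι hN
      (by rw [hc]; exact Nat.div_pos hhd hh) hA (hj.imp_right hsgn.2)
    obtain ⟨W, hW, hWx⟩ := H x hx ⟨1, by rw [hxr, Units.val_one, one_smul]⟩ hxs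
    obtain ⟨g, -, rfl⟩ := hx
    obtain ⟨hWd, hWn, -⟩ := hW
    rw [OrthNondegRealize.nondeg_on_iff] at hWn
    set G := Matrix.toLinAlgEquiv' ((g : GL ι F) : Matrix ι ι F)
    have hGr : G ^ r = 1 := by
      rw [← map_pow, ← Units.val_pow_eq_pow_val, show ((g : GL ι F)) ^ r = 1 from hxr, Units.val_one, map_one]
    have hGq : ∀ v, Q (G v) = Q v := fun v => by
      rw [Matrix.toLinAlgEquiv'_apply]; exact mem_isometryGroup.1 g.2 v
    have hgW : ∀ w ∈ W, G w ∈ W := fun w hw => by
      rw [Matrix.toLinAlgEquiv'_apply]; exact (hinv _ _).1 hWx w hw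
    have hR := OrthPrimeOrderClasses.spec_subset h _ hWn ⟨G.restrict hgW, fun v => hGq v, restrict_pow hGr hgW, rfl⟩
    rw [hWd] at hR
    have h1 := OrthPrimeOrderClasses.eval_one_of_odd h hR
    obtain ⟨R', hR', hRe⟩ := OrthPrimeOrderClasses.exists_div_X_sub_one h hR h1
    obtain ⟨N₁, l, hN₁, hRl, hl⟩ := shape h hR'
    have hdvd : (G.restrict hgW).charpoly ∣ N.prod * (X - Polynomial.C 1) ^ (2 * (d % half i)) := by
      rw [← hxP, ← OrthIsoDerange.charpoly_eq]
      exact InvCharpoly.charpoly_restrict_dvd_self hgW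
    rw [hRe, hRl, mul_assoc, ← pow_succ] at hdvd
    have h3 := (le_rootMultiplicity_iff (mul_ne_zero (basic_monic h hN).1.ne_zero
      (pow_ne_zero _ (X_sub_C_ne_zero (1 : F))))).2 ((dvd_mul_left _ _).trans hdvd)
    rw [rootMultiplicity_mul_X_sub_C_pow (basic_monic h hN).1.ne_zero,
      rootMultiplicity_eq_zero (fun e => (basic_monic h hN).2.2 e), zero_add] at h3
    have hr := Nat.mod_lt d hh
    rw [← two_half, mul_assoc] at hl
    refine hC (Or.inr ?_)
    rw [show a = l + half i * N₁.card by omega, Nat.add_mul_mod_self_left, Nat.mod_eq_of_lt (by omega)]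
    omega
  · intro hC x hxΩ hz hxs
    obtain ⟨y, hyr, hyW⟩ := OrthEvenProd.lift_of_scalar (by omega) hQ (h.prime.odd_of_ne_two h.odd) x
      (by obtain ⟨b, -, rfl⟩ := hxΩ; exact b.2) hz
    obtain ⟨hmem, hor⟩ := OrthEvenTSCriterion.charpoly_mem Q h hQ hι y hyr
    obtain ⟨N, j, hN, hPN, hA⟩ := shape h hmem
    rw [← two_half, mul_assoc] at hA
    have hA' : half i * N.card + j = d := by omega
    have hjmod : j % half i = d % half i := by
      conv_rhs => rw [← hA', add_comm, Nat.add_mul_mod_self_left]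
    have hj0 : 0 < j := by
      refine Nat.pos_of_ne_zero fun e => ?_
      subst e
      rw [Nat.zero_mod] at hjmod
      rcases hC with ⟨-, h4⟩ | h4
      · refine h4 (hsgn.1 (hor.resolve_left ?_))
        rw [hPN, mul_zero, pow_zero, mul_one]
        exact (basic_monic h hN).2.2
      · omega
    set e := min N.card (a / half i)
    have heM : half i * e ≤ a := (Nat.mul_le_mul_left _ (min_le_right _ _)).trans (Nat.mul_div_le a _)
    set l := a - half i * e
    have hlj : l < j := by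
      rcases le_total N.card (a / half i) with hle | hle
      · have : e = N.card := min_eq_left hle
        simp only [l, this] at *
        omega
      · have : e = a / half i := min_eq_right hle
        have h5 := Nat.div_add_mod a (half i)
        have h6 := Nat.mod_lt a hh
        rcases hC with ⟨h3, -⟩ | h3
        · have h7 : half i ≤ j := by
            by_contra hlt
            rw [Nat.mod_eq_of_lt (by omega)] at hjmod
            omega
          simp only [l, this]; omega
        · have h7 := Nat.mod_le j (half i)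
          simp only [l, this]; omega
    set N₁ : Multiset F[X] := ↑(N.toList.take e) with hN₁def
    set N₂ : Multiset F[X] := ↑(N.toList.drop e) with hN₂def
    have hsplit : N = N₁ + N₂ := by
      rw [hN₁def, hN₂def, Multiset.coe_add, List.take_append_drop, Multiset.coe_toList]
    have hm₁ : ∀ u ∈ N₁, u ∈ basics F r i := fun u hu => hN u (hsplit ▸ Multiset.mem_add.2 (Or.inl hu))
    have hm₂ : ∀ u ∈ N₂, u ∈ basics F r i := fun u hu => hN u (hsplit ▸ Multiset.mem_add.2 (Or.inr hu))
    have hc₁ : N₁.card = e := by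
      rw [hN₁def, Multiset.coe_card, List.length_take, Multiset.length_toList]
      exact min_eq_left (min_le_left _ _)
    have hc₂ : N₂.card = N.card - e := by
      rw [hN₂def, Multiset.coe_card, List.length_drop, Multiset.length_toList]
    have eA : half i * N.card = half i * e + half i * (N.card - e) := by
      rw [← Nat.mul_add, Nat.add_sub_cancel' (min_le_left _ _)]
    have h₁ := mem_selfRecip h hm₁ (2 * l + 1)
    have h₂ := mem_selfRecip h hm₂ (2 * (j - l - 1) + 1)
    rw [hc₁, ← two_half, mul_assoc, show 2 * (half i * e) + (2 * l + 1) = 2 * a + 1 by omega] at h₁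
    rw [hc₂, ← two_half, mul_assoc, show 2 * (half i * (N.card - e)) + (2 * (j - l - 1) + 1) = 2 * (d - a - 1) + 1 by omega]
      at h₂
    have hs := OrthNondegCount.split_perp hn₀
    set T := OrthNondegCount.perp Q W₀
    have hTd : finrank F T = 2 * (d - a - 1) + 1 := by have := hs.dim; omega
    obtain ⟨g₁, hg₁, hr₁, hP₁⟩ := spec_any_odd h h2 hn₀ hW₀ h₁
    obtain ⟨g₂, hg₂, hr₂, hP₂⟩ := spec_any_odd h h2 (hs.symm.nondeg_left hQ) hTd h₂
    obtain ⟨p1, p2, p3⟩ := OrthPrimeOrderClasses.prod_isometry hg₁ hg₂ hr₁ hr₂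
    let φ := Submodule.prodEquivOfIsCompl W₀ T ⟨disjoint_iff.2 hs.inf, codisjoint_iff.2 hs.sup⟩
    obtain ⟨t1, t2, t3⟩ := OrthPrimeOrderClasses.transport φ one_ne_zero (Q' := Q)
      (fun p => by rw [one_mul]; exact hs.quad p.1 p.2) p1 p2
    set G := φ.conj (g₁.prodMap g₂)
    have hch : G.charpoly = ((y : GL ι F) : Matrix ι ι F).charpoly := by
      rw [t3, p3, hP₁, hP₂, hPN, hsplit, Multiset.prod_add,
        show 2 * j = (2 * l + 1) + (2 * (j - l - 1) + 1) by omega, pow_add]
      ring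
    obtain ⟨T', hT', hTA⟩ := OrthNondegRealize.exists_conj Q h hQ y hyr G t1 t2 hch
    refine ⟨W₀.map (T' : (ι → F) →ₗ[F] (ι → F)), (inClass_iff Q hW₀ hn₀ _).2
      ⟨T'.submoduleMap W₀, fun w => hT' w⟩, hyW _ ?_⟩
    rintro _ ⟨w, hw, rfl⟩
    refine ⟨G w, ?_, (hTA w).symm⟩
    have : G w = (g₁ ⟨w, hw⟩ : ι → F) := by
      show φ.conj _ w = _
      rw [LinearEquiv.conj_apply_apply, show φ.symm w = (⟨w, hw⟩, 0) from φ.symm_apply_eq.2 (by simp [φ])]
      simp [φ]
    rw [SetLike.mem_coe, this]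
    exact (g₁ _).2

end Cfsg.Agent.OrthEvenOddDerange
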