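import Cfsg.Agent.Lib.Classical.OrthEvenNondegCount
import Cfsg.Agent.Lib.Classical.OrthEvenOddDerange

/-! Elements of odd prime order of `Ω^±_{2d}(q)` fixing a non-degenerate subspace of even dimension and given type. -/

set_option autoImplicit false
set_option linter.unusedSectionVars false

namespace Cfsg.Agent.OrthEvenNondegDerange

open Polynomial Matrix Module Cfsg.Agent.SelfReciprocalFactors Cfsg.Agent.SelfRecipDivisors
  Cfsg.Agent.UnitaryDetCentralizer Cfsg.Agent.Classical Cfsg.Agent.OrthNondegDerange Cfsg.Agent.OrthEvenTS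

variable {F : Type*} [Field F] [Fintype F] {r i t : ℕ} {ι : Type} [Fintype ι] [DecidableEq ι]
  (Q : QuadraticForm F (ι → F))

/-- The number theoretic criterion; `ε`, `b`, `b'` are the types of the space, the subspace and its complement. -/
def Crit (F : Type*) [Fintype F] (r i d M : ℕ) (ε b b' : Prop) [Decidable ε] [Decidable b] [Decidable b'] : Prop :=
  (d % half i = 0 ∧ ¬ PowTy F r d ε) ∨ (0 < M % half i ∧ M % half i < d % half i) ∨
    (0 < M % half i ∧ M % half i = d % half i ∧ PowTy F r (d - M) b') ∨ (M % half i = 0 ∧ PowTy F r M b)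

/-- Types multiply. -/
theorem powTy_mul (h : Ctx F r i t) (a c : ℕ) {ε b b' : Prop} [Decidable ε] [Decidable b] [Decidable b']
    (hε : ε ↔ (b ↔ b')) :
    PowTy F r (half i * (a + c)) ε ↔ (PowTy F r (half i * a) b ↔ PowTy F r (half i * c) b') := by
  rw [powTy_iff h, powTy_iff h, powTy_iff h]
  split_ifs
  · simp only [SplitArith.G, Nat.even_add]
    tauto
  · exact hε

theorem powTy_not (h : Ctx F r i t) (n : ℕ) (b : Prop) [Decidable b]
    (he : (Fintype.card F : ZMod r) ^ n = -(if b then 1 else -1)) : ¬ PowTy F r n b := by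
  haveI := Fact.mk h.prime
  haveI : Fact (2 < r) := ⟨lt_of_le_of_ne h.prime.two_le (Ne.symm h.odd)⟩
  have hne : (-1 : ZMod r) ≠ 1 := ZMod.neg_one_ne_one
  intro h1
  unfold PowTy at h1
  rw [h1] at he
  split_ifs at he with hb
  · exact hne he.symm
  · rw [neg_neg] at he; exact hne he

/-- The arithmetic of the split. -/
theorem exists_split_arith (h : Ctx F r i t) {d M n j : ℕ} (hM : 1 ≤ M) (hMd : M < d) {ε b b' : Prop} [Decidable ε]
    [Decidable b] [Decidable b'] (hεb : ε ↔ (b ↔ b')) (hA' : half i * n + j = d) (hor' : j = 0 → PowTy F r d ε)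
    (hC : Crit F r i d M ε b b') :
    ∃ e ≤ n, half i * e ≤ M ∧ M - half i * e ≤ j ∧
      (M - half i * e = 0 → PowTy F r M b) ∧ (M - half i * e = j → PowTy F r (d - M) b') := by
  have hh := half_pos h
  have hjmod : j % half i = d % half i := by
    conv_rhs => rw [← hA', add_comm, Nat.add_mul_mod_self_left]
  obtain ⟨M', hM'⟩ : ∃ M', M' = M / half i := ⟨_, rfl⟩
  have hMM : half i * M' + M % half i = M := by rw [hM', Nat.div_add_mod]
  have hMr := Nat.mod_lt M hh
  have hdd := Nat.div_add_mod d (half i)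
  rcases Nat.lt_or_ge n M' with hn | hn
  · have := Nat.mul_le_mul_left (half i) (show n + 1 ≤ M' from hn)
    rw [mul_add, mul_one] at this
    exact ⟨n, le_rfl, by omega, by omega, fun h0 => by omega, fun h0 => by omega⟩
  have hjk : half i ≤ j ∨ j = d % half i := by
    rcases Nat.lt_or_ge j (half i) with hlt | hge
    · exact Or.inr (by rw [← hjmod, Nat.mod_eq_of_lt hlt])
    · exact Or.inl hge
  rcases Nat.eq_zero_or_pos (M % half i) with hl0 | hlpos
  · obtain ⟨M'', hM''⟩ : ∃ M'', M' = M'' + 1 := ⟨M' - 1, by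
      rcases Nat.eq_zero_or_pos M' with e0 | e0
      · rw [e0] at hMM; omega
      · omega⟩
    by_cases hP : PowTy F r M b
    · refine ⟨M', hn, by omega, by omega, fun _ => hP, fun h0 => ?_⟩
      have hj0 : j = 0 := by omega
      have hd0 : d % half i = 0 := by rw [← hjmod, hj0, Nat.zero_mod]
      have h1 := hor' hj0
      rw [show d = half i * (M' + (d / half i - M')) by
        rw [Nat.mul_add, Nat.mul_sub]; omega, powTy_mul h _ _ hεb] at h1
      rw [show M = half i * M' by omega] at hP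
      rw [show d - M = half i * (d / half i - M') by rw [Nat.mul_sub]; omega]
      exact h1.1 hP
    · have hC1 : d % half i = 0 ∧ ¬ PowTy F r d ε := by
        rcases hC with h1 | ⟨h1, -⟩ | ⟨h1, -⟩ | ⟨-, h1⟩
        · exact h1
        · omega
        · omega
        · exact absurd h1 hP
      have hj : half i ≤ j := hjk.resolve_right fun e => hC1.2 (hor' (by omega))
      have hmul : half i * (M'' + 1) = half i * M'' + half i := Nat.mul_succ _ _
      rw [hM''] at hMM
      refine ⟨M'', by omega, by omega, by omega, fun h0 => by omega, fun h0 => ?_⟩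
      have h1 := hC1.2
      rw [show d = half i * (M' + (d / half i - M')) by
        rw [hM'', Nat.mul_add, Nat.mul_sub]; omega, powTy_mul h _ _ hεb] at h1
      rw [show M = half i * M' by rw [hM'']; omega] at hP
      rw [show d - M = half i * (d / half i - M') by rw [hM'', Nat.mul_sub]; omega]
      tauto
  · have hMM' : half i * M' + M % half i = M := hMM
    refine ⟨M', hn, by omega, ?_, fun h0 => by omega, fun h0 => ?_⟩
    · rcases hjk with hj | hj
      · omega
      · rcases hC with ⟨h1, h3⟩ | ⟨-, h1⟩ | ⟨-, h1, -⟩ | ⟨h1, -⟩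
        · exact absurd (hor' (by omega)) h3
        · omega
        · omega
        · omega
    · have hje : j = M % half i := by omega
      rcases hC with ⟨h1, h3⟩ | ⟨-, h1⟩ | ⟨-, -, h1⟩ | ⟨h1, -⟩
      · rw [h1, hje, Nat.mod_mod] at hjmod; omega
      · rw [hje, Nat.mod_mod] at hjmod; omega
      · exact h1
      · omega

variable (hQ : (QuadraticMap.polarBilin Q).Nondegenerate) (hG : OrthAut.GenQ F ι) {d M : ℕ}
  (hι : Fintype.card ι = 2 * d) (hM : 1 ≤ M) (hMd : M < d) (ε b b' : Prop) [Decidable ε] [Decidable b] [Decidable b']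
  (hε : EvenType.Plus Q ↔ ε) (hεb : ε ↔ (b ↔ b'))

include hQ hι hM hMd hε hεb in
theorem small (h : Ctx F r i t) (hrq : ¬ r ∣ Fintype.card F)
    (hrΩ : r ∣ Nat.card {W : Submodule F (ι → F) // Good Q M b W}) :
    half i ≤ d ∧ (Crit F r i d M ε b b' → 0 < d % half i → half i ≤ M) := by
  classical
  haveI := Fact.mk h.prime
  have hh := half_pos h
  have hzm : ∀ (n : ℕ) (z : ℤ), (r : ℤ) ∣ (Fintype.card F : ℤ) ^ n - z →
      (Fintype.card F : ZMod r) ^ n = (z : ZMod r) := fun n z hd => by
    rw [← sub_eq_zero]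
    have := (ZMod.intCast_zmod_eq_zero_iff_dvd _ r).2 hd
    simpa using this
  have hsg : ∀ (X : Prop) [Decidable X],
      ((OrthEvenNondegCount.sg X : ℤ) : ZMod r) = if X then 1 else -1 := fun X _ => by
    unfold OrthEvenNondegCount.sg
    by_cases hX : X <;> simp [hX]
  have hcases : (∃ w, d = half i * w) ∨ (∃ w, d - M = half i * w ∧ ¬ PowTy F r (d - M) b') ∨
      ∃ w, d - M < half i * w ∧ half i * w < d := by
    rcases OrthEvenNondegCount.exists_exponent hQ hι hM hMd b b' (hε.trans hεb) h.prime hrq hrΩ with h' | h' |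
      ⟨j, hj1, hj2, h'⟩
    · refine Or.inl ?_
      have h1 := hzm _ _ h'
      rw [hsg] at h1
      refine OrthEvenTSCriterion.mult_of_pow h (z := if (b ↔ b') then 1 else -1) ?_ h1
      split_ifs <;> ring
    · refine Or.inr (Or.inl ?_)
      have h1 := hzm _ (-OrthEvenNondegCount.sg b') (by rwa [sub_neg_eq_add])
      rw [Int.cast_neg, hsg] at h1
      obtain ⟨w, hw⟩ := OrthEvenTSCriterion.mult_of_pow h (z := -(if b' then 1 else -1)) (by split_ifs <;> ring) h1
      exact ⟨w, hw, powTy_not h _ _ h1⟩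
    · refine Or.inr (Or.inr ?_)
      have h1 := hzm _ _ h'
      rw [Int.cast_one, two_mul, pow_add] at h1
      obtain ⟨w, hw⟩ := OrthEvenTSCriterion.mult_of_pow h (j := j) h1 rfl
      exact ⟨w, by omega, by omega⟩
  have hd := Nat.div_add_mod d (half i)
  have hr := Nat.mod_lt d hh
  refine ⟨?_, fun hC hk => ?_⟩
  · rcases hcases with ⟨w, hw⟩ | ⟨w, hw, -⟩ | ⟨w, hw, hw'⟩ <;>
      rcases Nat.eq_zero_or_pos w with rfl | hw0 <;>
      first
      | omega
      | (have := Nat.le_mul_of_pos_right (half i) hw0; omega)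
  · by_contra hlt
    have hMm : M % half i = M := Nat.mod_eq_of_lt (by omega)
    unfold Crit at hC
    rw [hMm] at hC
    rcases hcases with ⟨w, hw⟩ | ⟨w, hw, hP⟩ | ⟨w, hw, hw'⟩
    · rw [hw, Nat.mul_mod_right] at hk; omega
    · have hdm : d % half i = M := by
        conv_lhs => rw [show d = M + half i * w by omega, Nat.add_mul_mod_self_left]
        exact hMm
      rcases hC with ⟨h1, -⟩ | ⟨-, h1⟩ | ⟨-, -, h1⟩ | ⟨h1, -⟩
      · omega
      · omega
      · exact hP h1
      · omega
    · have hdm : d % half i < M := by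
        have := Nat.mod_le (d - half i * w) (half i)
        rw [show d = (d - half i * w) + half i * w by omega, Nat.add_mul_mod_self_left]
        omega
      rcases hC with ⟨h1, -⟩ | ⟨-, h1⟩ | ⟨-, h1, -⟩ | ⟨h1, -⟩ <;> omega

include hQ hG hι hM hMd hε hεb in
theorem criterion (h : Ctx F r i t) (hrq : ¬ r ∣ Fintype.card F)
    (hrΩ : r ∣ Nat.card {W : Submodule F (ι → F) // Good Q M b W}) :
    (∀ x : GL ι F, x ∈ Geo.omegaGL ⇑Q → (∃ z : F, ((x ^ r : GL ι F) : Matrix ι ι F) = z • (1 : Matrix ι ι F)) →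
      (∀ z : F, (x : Matrix ι ι F) ≠ z • (1 : Matrix ι ι F)) →
      ∃ W : Submodule F (ι → F), Good Q M b W ∧ W.map (Matrix.toLin' (x : Matrix ι ι F)) ≤ W) ↔
      Crit F r i d M ε b b' := by
  classical
  obtain ⟨hhd, -⟩ := small Q hQ hι hM hMd ε b b' hε hεb h hrq hrΩ
  have hh := half_pos h
  have hb := hε.trans hεb
  have hsgn : (Fintype.card F : ZMod r) ^ d = OrthPrimeOrderClasses.sgn r Q ↔ PowTy F r d ε := by
    unfold PowTy
    rw [OrthPrimeOrderClasses.sgn]
    simp only [hε]
  have hinv : ∀ (x : GL ι F) (W : Submodule F (ι → F)), W.map (Matrix.toLin' (x : Matrix ι ι F)) ≤ W ↔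
      ∀ w ∈ W, (x : Matrix ι ι F) *ᵥ w ∈ W := fun x W => by
    rw [Submodule.map_le_iff_le_comap]; exact Iff.rfl
  constructor
  · intro H
    by_contra hC
    obtain ⟨f, hf⟩ : (factorSet F r).Nonempty := by
      rw [← Finset.card_pos, card_factorSet h]
      rcases Nat.eq_zero_or_pos t with rfl | ht
      · have := h.ht; have := h.prime.two_le; have := h.odd; omega
      · exact ht
    set N := Multiset.replicate (d / half i) (basic i f) with hNdef
    have hN : ∀ u ∈ N, u ∈ basics F r i := fun u hu => by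
      rw [Multiset.eq_of_mem_replicate hu]; exact mem_basics.2 ⟨f, hf, rfl⟩
    have hc : N.card = d / half i := Multiset.card_replicate _ _
    have hA : half i * N.card + d % half i = d := by rw [hc, Nat.div_add_mod]
    have hj : 0 < d % half i ∨ PowTy F r d ε := by
      rcases Nat.eq_zero_or_pos (d % half i) with h0 | h0
      · exact Or.inr (by by_contra hb'; exact hC (Or.inl ⟨h0, hb'⟩))
      · exact Or.inl h0
    obtain ⟨x, hx, hxr, hxs, hxP⟩ := OrthEvenTSCriterion.exists_element Q h hQ hG hι hN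
      (by rw [hc]; exact Nat.div_pos hhd hh) hA (hj.imp_right hsgn.2)
    obtain ⟨W, hW, hWx⟩ := H x hx ⟨1, by rw [hxr, Units.val_one, one_smul]⟩ hxs
    obtain ⟨g, -, rfl⟩ := hx
    obtain ⟨hTd, hTn, hTb⟩ := OrthEvenNondegCount.perp_data hQ hι hM hMd b b' hb hW
    obtain ⟨hWd, hWn, hWb⟩ := (good_iff Q W).1 hW
    set G := Matrix.toLinAlgEquiv' ((g : GL ι F) : Matrix ι ι F)
    have hGr : G ^ r = 1 := by
      rw [← map_pow, ← Units.val_pow_eq_pow_val, show ((g : GL ι F)) ^ r = 1 from hxr, Units.val_one, map_one]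
    have hGq : ∀ v, Q (G v) = Q v := fun v => by
      rw [Matrix.toLinAlgEquiv'_apply]; exact mem_isometryGroup.1 g.2 v
    have hgW : ∀ w ∈ W, G w ∈ W := fun w hw => by
      rw [Matrix.toLinAlgEquiv'_apply]; exact (hinv _ _).1 hWx w hw
    set T := OrthNondegCount.perp Q W
    have hs := OrthNondegCount.split_perp hWn
    have hgT : ∀ v ∈ T, G v ∈ T := fun v hv => by
      rw [OrthNondegCount.mem_perp] at hv ⊢
      intro w hw
      let f : W →ₗ[F] W := G.restrict hgW
      have hf : Function.Injective f := fun u v e => by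
        have h1 := congrArg (fun z : W => (G ^ (r - 1)) (z : ι → F)) e
        simp only [f, LinearMap.restrict_apply, ← Module.End.mul_apply, ← pow_succ,
          Nat.sub_add_cancel h.prime.one_le, hGr, Module.End.one_apply] at h1
        exact Subtype.ext h1
      obtain ⟨⟨w', hw'⟩, e⟩ := LinearMap.surjective_of_injective hf ⟨w, hw⟩
      rw [← show G w' = w from congrArg Subtype.val e]
      have h1 : QuadraticMap.polar (⇑Q) (G w') (G v) = QuadraticMap.polar (⇑Q) w' v := by
        simp only [QuadraticMap.polar, ← map_add, hGq]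
      rw [h1, hv w' hw']
    have hR := OrthPrimeOrderClasses.spec_subset h _ hWn ⟨G.restrict hgW, fun v => hGq v, restrict_pow hGr hgW, rfl⟩
    have hR₂ := OrthPrimeOrderClasses.spec_subset h _ hTn ⟨G.restrict hgT, fun v => hGq v, restrict_pow hGr hgT, rfl⟩
    rw [hWd] at hR
    rw [hTd] at hR₂
    obtain ⟨N₁, l, hN₁, hRl, hl⟩ := shape h hR
    obtain ⟨N₂, l₂, hN₂, hRl₂, hl₂⟩ := shape h hR₂
    have hprod : N₁.prod * (X - Polynomial.C (1 : F)) ^ (2 * l) * (N₂.prod * (X - Polynomial.C 1) ^ (2 * l₂)) =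
        N.prod * (X - Polynomial.C 1) ^ (2 * (d % half i)) := by
      rw [← hRl, ← hRl₂, ← charpoly_sup hs.inf hgW hgT (fun x _ => by rw [hs.sup]; exact Submodule.mem_top),
        ← hxP, ← OrthIsoDerange.charpoly_eq]
      exact LinearEquiv.charpoly_conj ((LinearEquiv.ofEq _ _ hs.sup).trans Submodule.topEquiv) _ |>.symm.trans
        (congrArg _ (LinearMap.ext fun v => rfl))
    rw [mul_mul_mul_comm, ← pow_add, ← Multiset.prod_add] at hprod
    have hN12 : ∀ u ∈ N₁ + N₂, u ∈ basics F r i := fun u hu =>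
      (Multiset.mem_add.1 hu).elim (hN₁ u) (hN₂ u)
    have hsum := (mult_unique (basic_monic h hN12).2.2 (basic_monic h hN).2.2 hprod).1
    have hr := Nat.mod_lt d hh
    rw [← two_half, mul_assoc] at hl hl₂
    have hMl : M % half i = l := by
      rw [show M = l + half i * N₁.card by omega, Nat.add_mul_mod_self_left, Nat.mod_eq_of_lt (by omega)]
    refine hC ?_
    unfold Crit
    rcases Nat.eq_zero_or_pos l with rfl | hlp
    · refine Or.inr (Or.inr (Or.inr ⟨hMl, ?_⟩))
      refine (plus_iff_of_pow h hWd hWn (fun v => hGq v) (restrict_pow hGr hgW) ?_).2 hWb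
      rw [hRl, mul_zero, pow_zero, mul_one]
      exact (basic_monic h hN₁).2.2
    · rcases Nat.eq_zero_or_pos l₂ with rfl | hl2p
      · refine Or.inr (Or.inr (Or.inl ⟨by omega, by omega, ?_⟩))
        refine (plus_iff_of_pow h hTd hTn (fun v => hGq v) (restrict_pow hGr hgT) ?_).2 hTb
        rw [hRl₂, mul_zero, pow_zero, mul_one]
        exact (basic_monic h hN₂).2.2
      · exact Or.inr (Or.inl ⟨by omega, by omega⟩)
  · intro hC x hxΩ hz hxs
    obtain ⟨y, hyr, hyW⟩ := OrthEvenProd.lift_of_scalar (by omega) hQ (h.prime.odd_of_ne_two h.odd) x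
      (by obtain ⟨b₀, -, rfl⟩ := hxΩ; exact b₀.2) hz
    obtain ⟨hmem, hor⟩ := OrthEvenTSCriterion.charpoly_mem Q h hQ hι y hyr
    obtain ⟨N, j, hN, hPN, hA⟩ := shape h hmem
    rw [← two_half, mul_assoc] at hA
    have hA' : half i * N.card + j = d := by omega
    have hjmod : j % half i = d % half i := by
      conv_rhs => rw [← hA', add_comm, Nat.add_mul_mod_self_left]
    have hor' : j = 0 → PowTy F r d ε := fun e => by
      subst e
      refine hsgn.1 (hor.resolve_left ?_)
      rw [hPN, mul_zero, pow_zero, mul_one]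
      exact (basic_monic h hN).2.2
    obtain ⟨e, heN, heM, hlj, hb1, hb2⟩ := exists_split_arith h hM hMd hεb hA' hor' hC
    set l := M - half i * e with hldef
    set N₁ : Multiset F[X] := ↑(N.toList.take e) with hN₁def
    set N₂ : Multiset F[X] := ↑(N.toList.drop e) with hN₂def
    have hsplit : N = N₁ + N₂ := by
      rw [hN₁def, hN₂def, Multiset.coe_add, List.take_append_drop, Multiset.coe_toList]
    have hm₁ : ∀ u ∈ N₁, u ∈ basics F r i := fun u hu => hN u (hsplit ▸ Multiset.mem_add.2 (Or.inl hu))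
    have hm₂ : ∀ u ∈ N₂, u ∈ basics F r i := fun u hu => hN u (hsplit ▸ Multiset.mem_add.2 (Or.inr hu))
    have hc₁ : N₁.card = e := by
      rw [hN₁def, Multiset.coe_card, List.length_take, Multiset.length_toList]
      exact min_eq_left heN
    have hc₂ : N₂.card = N.card - e := by
      rw [hN₂def, Multiset.coe_card, List.length_drop, Multiset.length_toList]
    have eA : half i * N.card = half i * e + half i * (N.card - e) := by
      rw [← Nat.mul_add, Nat.add_sub_cancel' heN]
    have h₁ := mem_selfRecip h hm₁ (2 * l)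
    have h₂ := mem_selfRecip h hm₂ (2 * (j - l))
    rw [hc₁, ← two_half, mul_assoc, show 2 * (half i * e) + 2 * l = 2 * M by omega] at h₁
    rw [hc₂, ← two_half, mul_assoc, show 2 * (half i * (N.card - e)) + 2 * (j - l) = 2 * (d - M) by omega] at h₂
    obtain ⟨W₀, hW₀⟩ := OrthEvenNondegCount.exists_class hQ hι hM hMd b b' hb
    obtain ⟨hTd, hTn, hTb⟩ := OrthEvenNondegCount.perp_data hQ hι hM hMd b b' hb hW₀
    obtain ⟨hWd, hWn, hWb⟩ := (good_iff Q W₀).1 hW₀
    have hs := OrthNondegCount.split_perp hWn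
    set T := OrthNondegCount.perp Q W₀
    have hsp₁ : N₁.prod * (X - Polynomial.C 1) ^ (2 * l) ∈ OrthPrimeOrderClasses.spec r (EvenType.res Q W₀) := by
      rw [OrthPrimeOrderClasses.spec_even h hWd _ hWn]
      refine ⟨h₁, ?_⟩
      rcases Nat.eq_zero_or_pos l with h0 | h0
      · refine Or.inr ?_
        have h3 := hb1 h0
        unfold PowTy at h3
        rw [h3, OrthPrimeOrderClasses.sgn]
        simp only [hWb]
      · exact Or.inl (OrthPrimeOrderClasses.eval_one_pow (by omega))
    have hsp₂ : N₂.prod * (X - Polynomial.C 1) ^ (2 * (j - l)) ∈ OrthPrimeOrderClasses.spec r (EvenType.res Q T) := by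
      rw [OrthPrimeOrderClasses.spec_even h hTd _ hTn]
      refine ⟨h₂, ?_⟩
      rcases Nat.eq_zero_or_pos (j - l) with h0 | h0
      · refine Or.inr ?_
        have h3 := hb2 (by omega)
        unfold PowTy at h3
        rw [h3, OrthPrimeOrderClasses.sgn]
        simp only [hTb]
      · exact Or.inl (OrthPrimeOrderClasses.eval_one_pow (by omega))
    obtain ⟨g₁, hg₁, hr₁, hP₁⟩ := hsp₁
    obtain ⟨g₂, hg₂, hr₂, hP₂⟩ := hsp₂
    obtain ⟨p1, p2, p3⟩ := OrthPrimeOrderClasses.prod_isometry hg₁ hg₂ hr₁ hr₂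
    let φ := Submodule.prodEquivOfIsCompl W₀ T ⟨disjoint_iff.2 hs.inf, codisjoint_iff.2 hs.sup⟩
    obtain ⟨t1, t2, t3⟩ := OrthPrimeOrderClasses.transport φ one_ne_zero (Q' := Q)
      (fun p => by rw [one_mul]; exact hs.quad p.1 p.2) p1 p2
    set G := φ.conj (g₁.prodMap g₂)
    have hch : G.charpoly = ((y : GL ι F) : Matrix ι ι F).charpoly := by
      rw [t3, p3, hP₁, hP₂, hPN, hsplit, Multiset.prod_add,
        show 2 * j = 2 * l + 2 * (j - l) by omega, pow_add]
      ring
    obtain ⟨T', hT', hTA⟩ := OrthNondegRealize.exists_conj Q h hQ y hyr G t1 t2 hch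
    refine ⟨W₀.map (T' : (ι → F) →ₗ[F] (ι → F)), (OrthEvenNondegCount.good_iff_iso b hM hW₀ _).2
      ⟨T'.submoduleMap W₀, fun w => hT' w⟩, hyW _ ?_⟩
    rintro _ ⟨w, hw, rfl⟩
    refine ⟨G w, ?_, (hTA w).symm⟩
    have : G w = (g₁ ⟨w, hw⟩ : ι → F) := by
      show φ.conj _ w = _
      rw [LinearEquiv.conj_apply_apply, show φ.symm w = (⟨w, hw⟩, 0) from φ.symm_apply_eq.2 (by simp [φ])]
      simp [φ]
    rw [SetLike.mem_coe, this]
    exact (g₁ _).2

end Cfsg.Agent.OrthEvenNondegDerange
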