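import Cfsg.Agent.Lib.Classical.OrthEvenNondegCharTwo

/-! Prime order elements of `Ω^±_{2d}(q)` and non-degenerate subspaces of even dimension: the criteria in terms of
`i` and `c`. -/

set_option autoImplicit false
set_option linter.unusedSectionVars false

namespace Cfsg.Agent.OrthEvenNondegMain

open Module Matrix Cfsg.Agent.Classical Cfsg.Agent.OrthNondegDerange Cfsg.Agent.OrthEvenNondegTwo
  Cfsg.Agent.UnitaryDetCentralizer Cfsg.Agent.SelfReciprocalFactors Cfsg.Agent.OrthEvenTS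
  Cfsg.Agent.OrthEvenNondegDerange

variable {F : Type*} [Field F] [Fintype F]

/-- The value of a type on a number of blocks. -/
def Ty (i : ℕ) (ε : Prop) (n : ℕ) : Prop := (Even i ∧ (n % 2 = 0 ↔ ε)) ∨ (¬ Even i ∧ ε)

theorem powTy_ty {r i t : ℕ} (h : Ctx F r i t) {n : ℕ} (hn : n % half i = 0) (ε : Prop) [Decidable ε] :
    PowTy F r n ε ↔ Ty i ε (n / half i) := by
  conv_lhs => rw [show n = half i * (n / half i) from (Nat.mul_div_cancel' (Nat.dvd_of_mod_eq_zero hn)).symm]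
  rw [powTy_iff h]
  unfold Ty SplitArith.G
  rw [Nat.even_iff (n := n / half i)]
  by_cases he : Even i <;> simp [he]

/-- `Crit` in terms of `c` and `i`. -/
theorem crit_iff {r i t c d M m : ℕ} (h : Ctx F r i t) (hc : c = if Even i then i else 2 * i) (hm : m = 2 * M)
    (hMd : M ≤ d) (ε b b' : Prop) [Decidable ε] [Decidable b] [Decidable b'] :
    OrthEvenNondegDerange.Crit F r i d M ε b b' ↔
      ((2 * d) % c = 0 ∧ ¬ Ty i ε (2 * d / i)) ∨ (0 < m % c ∧ m % c < (2 * d) % c) ∨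
      (0 < m % c ∧ m % c = (2 * d) % c ∧ Ty i b' ((2 * d + m - 2 * ((2 * d) % c)) / i)) ∨
      (m % c = 0 ∧ Ty i b (m / i)) := by
  subst hm
  obtain ⟨hch, hmm, -, hdiv⟩ := OrthNondegCrit.mods (d := d) (M := M) hc
  obtain ⟨-, hdm, -, hdivd⟩ := OrthNondegCrit.mods (d := d) (M := d) hc
  have hh := half_pos h
  have tyc : ∀ (X : Prop) (u v : ℕ), (Even i → u % 2 = v % 2) → (Ty i X u ↔ Ty i X v) := fun X u v huv => by
    unfold Ty
    by_cases he : Even i
    · simp [he, huv he]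
    · simp [he]
  have e1 : d % half i = 0 → (PowTy F r d ε ↔ Ty i ε (2 * d / i)) := fun e =>
    (powTy_ty h e ε).trans (tyc _ _ _ fun he => by rw [hdivd he])
  have e2 : M % half i = 0 → (PowTy F r M b ↔ Ty i b (2 * M / i)) := fun e =>
    (powTy_ty h e b).trans (tyc _ _ _ fun he => by rw [hdiv he])
  have e3 : M % half i = d % half i →
      (PowTy F r (d - M) b' ↔ Ty i b' ((2 * d + 2 * M - 2 * (2 * (d % half i))) / i)) := fun e => by
    have hd' := Nat.div_add_mod d (half i)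
    have hM' := Nat.div_add_mod M (half i)
    obtain ⟨a, ha⟩ : ∃ a, d / half i = a := ⟨_, rfl⟩
    obtain ⟨c', hc'⟩ : ∃ c', M / half i = c' := ⟨_, rfl⟩
    rw [ha] at hd'
    rw [hc'] at hM'
    have hle : c' ≤ a := ha ▸ hc' ▸ Nat.div_le_div_right hMd
    have e' : d - M = half i * (a - c') := by rw [Nat.mul_sub]; omega
    refine (powTy_ty h (by rw [e', Nat.mul_mod_right]) b').trans (tyc _ _ _ fun he => ?_)
    have hi2 : i = 2 * half i := by rw [hc, if_pos he] at hch; omega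
    have e5 : 2 * d + 2 * M - 2 * (2 * (d % half i)) = (2 * half i) * (a + c') := by
      rw [mul_assoc, Nat.mul_add]; omega
    conv_rhs => rw [e5, ← hi2, Nat.mul_div_cancel_left _ (by omega : 0 < i)]
    rw [e', Nat.mul_div_cancel_left _ hh]
    omega
  unfold OrthEvenNondegDerange.Crit
  rw [hmm, hdm]
  refine or_congr ?_ (or_congr ?_ (or_congr ?_ ?_))
  · rw [show 2 * (d % half i) = 0 ↔ d % half i = 0 by omega]
    exact and_congr_right fun e => not_congr (e1 e)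
  · omega
  · rw [show 0 < 2 * (M % half i) ↔ 0 < M % half i by omega,
      show 2 * (M % half i) = 2 * (d % half i) ↔ M % half i = d % half i by omega]
    exact and_congr_right fun _ => and_congr_right e3
  · rw [show 2 * (M % half i) = 0 ↔ M % half i = 0 by omega]
    exact and_congr_right e2

variable {p q r i c d M m : ℕ} [Fact p.Prime] [CharP F p] [Fact r.Prime] {ι : Type} [Fintype ι] [DecidableEq ι]
  {Q : QuadraticForm F (ι → F)} (hQ : (QuadraticMap.polarBilin Q).Nondegenerate)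
  (hι : Fintype.card ι = 2 * d) (hd : 4 ≤ d) (hm : m = 2 * M) (hM : 1 ≤ M) (hMd : M < d)
  (ε b b' : Prop) [Decidable ε] [Decidable b] [Decidable b'] (hε : EvenType.Plus Q ↔ ε) (hεb : ε ↔ (b ↔ b'))

include hQ hι hd hm hM hMd hε hεb in
/-- The criterion for odd `r ≠ p`. -/
theorem main (hq : Fintype.card F = q) (hrp : r ≠ p) (hr2 : r ≠ 2)
    (hrΩ : r ∣ Nat.card {W : Submodule F (ι → F) // Good Q M b W}) (hi : i = orderOf (q : ZMod r))
    (hc : c = if Even i then i else 2 * i) :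
    ∃ C : Prop, (Fixes Q r M b ↔ C) ∧ (C → 0 < (2 * d) % c → c ≤ m) ∧
      (C ↔ ((2 * d) % c = 0 ∧ ¬ Ty i ε (2 * d / i)) ∨ (0 < m % c ∧ m % c < (2 * d) % c) ∨
        (0 < m % c ∧ m % c = (2 * d) % c ∧ Ty i b' ((2 * d + m - 2 * ((2 * d) % c)) / i)) ∨
        (m % c = 0 ∧ Ty i b (m / i))) := by
  obtain ⟨h, hrq⟩ := OrthNondegCrit.ctx (p := p) hq hrp hr2 hi
  refine ⟨OrthEvenNondegDerange.Crit F r i d M ε b b', criterion Q hQ (Or.inr (by omega)) hι hM hMd ε b b' hε hεb h hrq hrΩ, fun hC hk => ?_,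
    crit_iff h hc hm hMd.le ε b b'⟩
  obtain ⟨hch, hdm, -, -⟩ := OrthNondegCrit.mods (d := d) (M := d) hc
  have := (small Q hQ hι hM hMd ε b b' hε hεb h hrq hrΩ).2 hC (by omega)
  omega

theorem isSquare_pow_facts (h2 : (2 : F) ≠ 0) (hq : Fintype.card F = q) (n : ℕ) :
    (q % 2 = 1 ∧ (IsSquare (2 : F) ↔ (q % 8 = 1 ∨ q % 8 = 7))) ∧
      (IsSquare ((-1 : F) ^ n) ↔ (n % 2 = 0 ∨ q % 4 = 1)) := by
  obtain ⟨hodd, hs1, hs2⟩ := OrthEvenTSMain.isSquare_facts h2 hq
  refine ⟨⟨hodd, hs2⟩, ?_⟩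
  rcases Nat.even_or_odd n with e | e
  · simp [e.neg_one_pow, Nat.even_iff.1 e]
  · simp [e.neg_one_pow, hs1, Nat.odd_iff.1 e]

theorem even_card (hq : Fintype.card F = q) (hp : p = 2) : q % 2 = 0 := by
  subst hp
  rw [← hq]
  exact FiniteField.even_card_of_char_two (ringChar.eq F 2)

omit [Fintype ι] in
theorem good_false (hm : m = 2 * M) (W : Submodule F (ι → F)) :
    Good Q M False W ↔ finrank F W = m ∧ Geo.IsNondegenerateOn (QuadraticMap.polar ⇑Q) W ∧ ¬ Geo.IsPlusTypeOn (⇑Q) W := by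
  rw [Good, hm, iff_false]

theorem good_true (hm : m = 2 * M) (W : Submodule F (ι → F)) :
    Good Q M True W ↔ finrank F W = m ∧ (∀ u ∈ W, u ≠ 0 → ∃ v ∈ W, QuadraticMap.polar (⇑Q) u v ≠ 0) ∧
      ∃ U : Submodule F (ι → F), U ≤ W ∧ 2 * finrank F U = m ∧ ∀ u ∈ U, Q u = 0 := by
  rw [Good, hm, iff_true]
  refine and_congr_right fun hW => and_congr ⟨fun h u hu hu0 => (h u hu hu0).2, fun h u hu hu0 => ?_⟩
    ⟨fun ⟨U, h1, h2, h3⟩ => ⟨U, h1, h3.trans hW, h2⟩, fun ⟨U, h1, h3, h2⟩ => ⟨U, h1, h2, h3.trans hW.symm⟩⟩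
  obtain ⟨v, hv, hne⟩ := h u hu hu0
  exact ⟨⟨v, hv, by rwa [QuadraticMap.polar_comm]⟩, v, hv, hne⟩

include hQ hι hd hM hMd in
/-- A square-zero element of large rank fixes nothing. -/
theorem bad (b b' : Prop) (hb : EvenType.Plus Q ↔ (b ↔ b')) {N : Module.End F (ι → F)}
    (hN : OrthEvenNondegUnipotent.Sq Q N) (h0 : N ≠ 0)
    (hno : ∀ s₁ s₂ : ℕ, s₁ + s₂ = finrank F (LinearMap.range N) → Even s₁ → Even s₂ → s₁ ≤ M → s₂ + M ≤ d →
      (s₁ = M → b) → (s₂ + M = d → b') → False) : ¬ Fixes Q p M b := by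
  intro H
  obtain ⟨x, hx, hz, hns, hv⟩ := OrthEvenNondegUnipotent.exists_element (p := p) hQ hι (by omega) hN h0
  obtain ⟨W, hW, hWx⟩ := H x hx hz hns
  rw [Submodule.map_le_iff_le_comap] at hWx
  have hinv : ∀ w ∈ W, N w ∈ W := fun w hw => by
    have h := Submodule.sub_mem W (hWx hw) hw
    rw [Matrix.toLin'_apply, hv, add_sub_cancel_left] at h
    exact h
  obtain ⟨s₁, s₂, e, h1, h2, h3, h4, h5, h6⟩ := OrthEvenNondegUnipotent.split_rank hQ hι hM hMd b b' hb hN hW hinv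
  exact hno s₁ s₂ e h1 h2 h3 h4 h5 h6

omit [Fintype F] in
theorem sq_of_qnil {k : Type*} [Field k] [CharP k 2] {κ : Type} [Fintype κ] [DecidableEq κ]
    {R : QuadraticForm k (κ → k)} {N : Module.End k (κ → k)} (h : SympEven.QNil R N)
    (ha : ∀ v, QuadraticMap.polarBilin R v (N v) = 0) : OrthEvenNondegUnipotent.Sq R N :=
  ⟨h.nil.sq, fun v => by rw [h.quad, ha], fun v => by rw [SympEven.quad_add', h.quad, ha]; ring⟩

end Cfsg.Agent.OrthEvenNondegMain
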