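import Cfsg.Agent.Lib.Classical.OrthEvenNondegDerange
import Cfsg.Agent.Lib.Classical.OrthEvenTSMain

/-! Elements of order two modulo scalars of `Ω^±_{2d}(q)`, `q` odd, and non-degenerate subspaces of even dimension. -/

set_option autoImplicit false
set_option linter.unusedSectionVars false
set_option quotPrecheck false

namespace Cfsg.Agent.OrthEvenNondegTwo

open Module Matrix Cfsg.Agent.Classical Cfsg.Agent.Classical.OrthAut Cfsg.Agent.OrthNondegInvolution
  Cfsg.Agent.OrthNondegDerange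

variable {F : Type*} [Field F] [Fintype F] {ι : Type} [Fintype ι] [DecidableEq ι] {Q : QuadraticForm F (ι → F)}

local notation "OG" => isometryGroup F ⇑Q
local notation "B" => QuadraticMap.polar ⇑Q

/-- Every element of order `r` modulo scalars fixes one of the subspaces. -/
def Fixes (Q : QuadraticForm F (ι → F)) (r M : ℕ) (b : Prop) : Prop :=
  ∀ x : GL ι F, x ∈ Geo.omegaGL ⇑Q → (∃ z : F, ((x ^ r : GL ι F) : Matrix ι ι F) = z • (1 : Matrix ι ι F)) →
    (∀ z : F, (x : Matrix ι ι F) ≠ z • (1 : Matrix ι ι F)) →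
    ∃ W : Submodule F (ι → F), Good Q M b W ∧ W.map (Matrix.toLin' (x : Matrix ι ι F)) ≤ W

variable (h2 : (2 : F) ≠ 0) (hQ : (QuadraticMap.polarBilin Q).Nondegenerate)

include h2 hQ in
/-- An isometry squaring to `-1` has invariant non-degenerate subspaces of all even dimensions. -/
theorem of_square {g : OG} (hg : ∀ x, ogVal g *ᵥ (ogVal g *ᵥ x) = -x) : ∀ (k : ℕ) (N : Submodule F (ι → F)),
    NonSing Q N → (∀ x ∈ N, ogVal g *ᵥ x ∈ N) → 2 * k ≤ finrank F N →
    ∃ W : Submodule F (ι → F), W ≤ N ∧ NonSing Q W ∧ finrank F W = 2 * k ∧ ∀ w ∈ W, ogVal g *ᵥ w ∈ W := by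
  intro k
  induction k with
  | zero =>
    exact fun N _ _ _ => ⟨⊥, bot_le, nonSing_bot, finrank_bot F _, fun w hw => by
      rw [(Submodule.mem_bot F).1 hw, Matrix.mulVec_zero]; exact Submodule.zero_mem _⟩
  | succ k ih =>
    intro N hN hinv hk
    obtain ⟨v, N', hv, hv0, hvw, hle, hN', hprop, hd⟩ := OrthEvenTSInvolution.peel h2 hQ hg hN hinv (by omega)
    obtain ⟨W', hW'le, hW', hW'd, hW'inv⟩ := ih N' hN' (fun x hx => (hprop x hx).1) (by omega)
    obtain ⟨hPd, hPn, -⟩ := OrthComplexStructure.plane_plus h2 hv0 (ogVal_quad g v) hvw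
    set P : Submodule F (ι → F) := Submodule.span F {v} ⊔ Submodule.span F {ogVal g *ᵥ v}
    have horth : ∀ x ∈ P, ∀ y ∈ W', B x y = 0 := fun x hx y hy => by
      obtain ⟨a, ha, c, hc, rfl⟩ := Submodule.mem_sup.1 hx
      obtain ⟨s, rfl⟩ := Submodule.mem_span_singleton.1 ha
      obtain ⟨t, rfl⟩ := Submodule.mem_span_singleton.1 hc
      obtain ⟨-, h1, h3⟩ := hprop y (hW'le hy)
      rw [QuadraticMap.polar_add_left, QuadraticMap.polar_smul_left, QuadraticMap.polar_smul_left, h1, h3, smul_zero,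
        smul_zero, add_zero]
    have hPinv : ∀ x ∈ P, ogVal g *ᵥ x ∈ P := fun x hx => by
      obtain ⟨a, ha, c, hc, rfl⟩ := Submodule.mem_sup.1 hx
      obtain ⟨s, rfl⟩ := Submodule.mem_span_singleton.1 ha
      obtain ⟨t, rfl⟩ := Submodule.mem_span_singleton.1 hc
      rw [Matrix.mulVec_add, Matrix.mulVec_smul, Matrix.mulVec_smul, hg, add_comm, smul_neg, ← neg_smul]
      exact Submodule.add_mem_sup (Submodule.smul_mem _ _ (Submodule.mem_span_singleton_self _))
        (Submodule.smul_mem _ _ (Submodule.mem_span_singleton_self _))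
    refine ⟨P ⊔ W', sup_le (sup_le ((Submodule.span_singleton_le_iff_mem _ _).2 hv)
      ((Submodule.span_singleton_le_iff_mem _ _).2 (hinv v hv))) (hW'le.trans hle), nonSing_sup hPn hW' horth,
      by rw [finrank_sup_orth hPn horth, hPd, hW'd]; ring, fun w hw => ?_⟩
    obtain ⟨x, hx, y, hy, rfl⟩ := Submodule.mem_sup.1 hw
    rw [Matrix.mulVec_add]
    exact Submodule.add_mem_sup (hPinv x hx) (hW'inv y hy)

variable {d M : ℕ} (hι : Fintype.card ι = 2 * d) (hd : 2 ≤ d) (hM : 1 ≤ M) (hMd : M < d) (b ε : Prop)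
  (hε : EvenType.Plus Q ↔ ε)

include h2 hQ hι hd hM hMd in
/-- Involutions fix subspaces of both types. -/
theorem of_involution {g : OG} (hg : g * g = 1) :
    ∃ W : Submodule F (ι → F), Good Q M b W ∧ ∀ w ∈ W, ogVal g *ᵥ w ∈ W := by
  obtain ⟨a, rfl⟩ : ∃ a, M = a + 1 := ⟨M - 1, by omega⟩
  set Em := InvolutionSingular.negSub g
  set Ep := fixSub g
  have hinf : Ep ⊓ Em = ⊥ := by
    rw [Submodule.eq_bot_iff]
    rintro x ⟨h1, h1'⟩
    have e : ogVal g *ᵥ x = x := mem_fixSub.1 h1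
    have e' : ogVal g *ᵥ x = -x := InvolutionSingular.mem_negSub.1 h1'
    have h3 : (2 : F) • x = 0 := by rw [two_smul]; exact add_eq_zero_iff_eq_neg.2 (e.symm.trans e')
    exact (smul_eq_zero.1 h3).resolve_left h2
  have hsup : Ep ⊔ Em = ⊤ := by
    refine eq_top_iff.2 fun x _ => ?_
    have : x = (2 : F)⁻¹ • (x + ogVal g *ᵥ x) + (2 : F)⁻¹ • (x - ogVal g *ᵥ x) := by
      rw [← smul_add, show x + ogVal g *ᵥ x + (x - ogVal g *ᵥ x) = (2 : F) • x by module, smul_smul,
        inv_mul_cancel₀ h2, one_smul]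
    rw [this]
    exact Submodule.add_mem_sup
      (Ep.smul_mem _ (mem_fixSub.2 (by rw [Matrix.mulVec_add, InvolutionSingular.sq_apply hg, add_comm])))
      (Em.smul_mem _ (InvolutionSingular.mem_negSub.2 (by rw [Matrix.mulVec_sub, InvolutionSingular.sq_apply hg, neg_sub])))
  have horth : ∀ p ∈ Ep, ∀ n ∈ Em, B p n = 0 := fun p hp n hn => by
    have h := InvolutionSingular.polar_isometry g p n
    rw [mem_fixSub.1 hp, InvolutionSingular.mem_negSub.1 hn, QuadraticMap.polar_neg_right] at h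
    exact (mul_eq_zero.1 (show (2 : F) * B p n = 0 by linear_combination -h)).resolve_left h2
  have hsp : EvenType.Split Q Ep Em := ⟨hsup, hinf, horth⟩
  have hdim := hsp.dim
  rw [Module.finrank_pi, hι] at hdim
  have hNp : NonSing Q Ep := fun w hw hw0 =>
    ((OrthNondegRealize.nondeg_on_iff _).2 (hsp.nondeg_left hQ) w hw hw0).2
  have hNm : NonSing Q Em := InvolutionSingular.nondeg_negSub h2 hQ hg
  have key : ∀ (U V : Submodule F (ι → F)) (s t : F), (∀ u ∈ U, ogVal g *ᵥ u = s • u) →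
      (∀ u ∈ V, ogVal g *ᵥ u = t • u) → ∀ w ∈ U ⊔ V, ogVal g *ᵥ w ∈ U ⊔ V := fun U V s t hU hV w hw => by
    obtain ⟨u, hu, x, hx, rfl⟩ := Submodule.mem_sup.1 hw
    rw [Matrix.mulVec_add, hU u hu, hV x hx]
    exact Submodule.add_mem_sup (U.smul_mem _ hu) (V.smul_mem _ hx)
  have hfix : ∀ x ∈ Ep, ogVal g *ᵥ x = (1 : F) • x := fun x hx => by rw [one_smul]; exact mem_fixSub.1 hx
  have hneg : ∀ x ∈ Em, ogVal g *ᵥ x = (-1 : F) • x := fun x hx => by
    rw [neg_one_smul]; exact InvolutionSingular.mem_negSub.1 hx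
  rcases Nat.lt_or_ge (finrank F Ep) 2 with h | h
  · obtain ⟨U, V, hU, hV, h1, h3, h4⟩ := exists_in_split h2 hQ hNm hNp
      (fun x hx y hy => by rw [QuadraticMap.polar_comm]; exact horth y hy x hx) (a := a) (by omega) (by omega) b
    exact ⟨U ⊔ V, (good_iff Q _).2 ⟨h1, EvenType.nondeg_res h3, h4⟩,
      key U V _ _ (fun u hu => hneg u (hU hu)) fun u hu => hfix u (hV hu)⟩
  · obtain ⟨U, V, hU, hV, h1, h3, h4⟩ := exists_in_split h2 hQ hNp hNm horth (a := a) h (by omega) b
    exact ⟨U ⊔ V, (good_iff Q _).2 ⟨h1, EvenType.nondeg_res h3, h4⟩,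
      key U V _ _ (fun u hu => hfix u (hU hu)) fun u hu => hneg u (hV hu)⟩

include h2 hQ hι hd hM hMd hε in
theorem two_iff : Fixes Q 2 M b ↔
    (¬ ((Even d ∨ IsSquare (2 : F)) ∧ (ε ↔ IsSquare ((-1 : F) ^ d))) ∨ (b ↔ IsSquare ((-1 : F) ^ M))) := by
  classical
  constructor
  · intro H
    refine or_iff_not_imp_left.2 fun hC => ?_
    obtain ⟨hΩ, htype⟩ := not_not.1 hC
    obtain ⟨g, hg⟩ := OrthComplexStructure.exists_sq_neg_one h2 hQ hι (by omega) (hε.trans htype)
    have hgs : ∀ z : F, ogVal g ≠ z • (1 : Matrix ι ι F) := fun z hz => by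
      obtain ⟨v, -, hv⟩ := OrthNondegInvolution.exists_aniso h2 (E := (⊤ : Submodule F (ι → F))) (OrthAut.nondeg_top hQ)
        (by rw [finrank_top, Module.finrank_pi]; omega)
      have h1 := hg v
      have h3 := ogVal_quad g v
      simp only [hz, Matrix.smul_mulVec, Matrix.one_mulVec, smul_smul] at h1 h3
      rw [QuadraticMap.map_smul, smul_eq_mul] at h3
      have hvne : v ≠ 0 := fun e => hv (by rw [e, QuadraticMap.map_zero])
      have hz1 : z * z = -1 := smul_left_injective F hvne (h1.trans (neg_one_smul F v).symm)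
      rw [hz1] at h3
      exact mul_ne_zero h2 hv (by linear_combination -h3)
    obtain ⟨W, hW, hWx⟩ := H g ⟨g, ((OrthComplexStructure.of_sq_neg_one h2 hQ hg hι).1).2 hΩ, rfl⟩
      ⟨-1, by
        rw [pow_two, Units.val_mul]
        exact Matrix.ext_iff_mulVec.2 fun x => by
          rw [← Matrix.mulVec_mulVec, Matrix.smul_mulVec, Matrix.one_mulVec, neg_one_smul]
          exact hg x⟩ hgs
    obtain ⟨hWd, hWn, hWb⟩ := (good_iff Q W).1 hW
    rw [Submodule.map_le_iff_le_comap] at hWx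
    obtain ⟨j, hj, hp⟩ := OrthComplexStructure.plus_sub h2 hQ hg
      (fun w hw hw0 => (((OrthNondegRealize.nondeg_on_iff W).2 hWn) w hw hw0).2) fun x hx => hWx hx
    obtain rfl : j = M := by omega
    exact hWb.symm.trans hp
  · rintro hC x hx ⟨z, hz⟩ -
    obtain ⟨g, hgΩ, rfl⟩ := hx
    rcases OrthEvenTSMain.sq_cases hQ (by omega) g hz with hgg | hg
    · obtain ⟨W, hW, hinv⟩ := of_involution h2 hQ hι hd hM hMd b hgg
      exact ⟨W, hW, by rw [Submodule.map_le_iff_le_comap]; exact fun w hw => hinv w hw⟩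
    · obtain ⟨h1, h3⟩ := OrthComplexStructure.of_sq_neg_one h2 hQ hg hι
      obtain ⟨W, -, hWn, hWd, hinv⟩ := of_square h2 hQ hg M ⊤ (OrthAut.nondeg_top hQ) (fun x _ => Submodule.mem_top)
        (by rw [finrank_top, Module.finrank_pi]; omega)
      obtain ⟨j, hj, hp⟩ := OrthComplexStructure.plus_sub h2 hQ hg hWn hinv
      obtain rfl : j = M := by omega
      exact ⟨W, (good_iff Q W).2 ⟨hWd, EvenType.nondeg_res hWn,
        hp.trans (hC.resolve_left fun hn => hn ⟨h1.1 hgΩ, hε.symm.trans h3⟩).symm⟩,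
        by rw [Submodule.map_le_iff_le_comap]; exact fun w hw => hinv w hw⟩

end Cfsg.Agent.OrthEvenNondegTwo
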