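import Cfsg.Agent.Lib.Classical.OrthEvenOddUnipotent
import Cfsg.Agent.Lib.Classical.OrthEvenOddDerange

/-! An element of order `p` of `Ω^±_{2d}(q)` fixing no non-degenerate subspace of given class and odd dimension. -/

set_option autoImplicit false
set_option linter.unusedSectionVars false

namespace Cfsg.Agent.OrthEvenOddBad

open Module Matrix Cfsg.Agent.Classical Cfsg.Agent.OrthEvenOddDisc Cfsg.Agent.OrthEvenOddDerange

variable {F : Type*} [Field F] [Fintype F] {ι : Type} [Fintype ι] [DecidableEq ι] {Q : QuadraticForm F (ι → F)}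

theorem exists_bad_p (p : ℕ) [Fact p.Prime] [CharP F p] (h2 : (2 : F) ≠ 0)
    (hQ : (QuadraticMap.polarBilin Q).Nondegenerate) {d m : ℕ} (hι : Fintype.card ι = 2 * d) (hd : 4 ≤ d)
    (hm : Odd m) (hmd : m < d) {W₀ : Submodule F (ι → F)} (hW₀ : finrank F W₀ = m)
    (hn₀ : (QuadraticMap.polarBilin (EvenType.res Q W₀)).Nondegenerate) :
    ¬ ∀ x : GL ι F, x ∈ Geo.omegaGL ⇑Q → (∃ z : F, ((x ^ p : GL ι F) : Matrix ι ι F) = z • (1 : Matrix ι ι F)) →
      (∀ z : F, (x : Matrix ι ι F) ≠ z • (1 : Matrix ι ι F)) →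
      ∃ W : Submodule F (ι → F), InClass Q m W₀ W ∧ W.map (Matrix.toLin' (x : Matrix ι ι F)) ≤ W := by
  classical
  intro H
  have hp2 : p ≠ 2 := fun e => h2 (by
    have h := CharP.cast_eq_zero F p
    rwa [e, Nat.cast_ofNat] at h)
  have hpo : Odd p := (Fact.out : p.Prime).odd_of_ne_two hp2
  have hp3 : 3 ≤ p := by have := (Fact.out : p.Prime).two_le; omega
  have H' : ∀ A : GL ι F, A ∈ Geo.omegaGL ⇑Q → orderOf A = p → (∀ z : F, (A : Matrix ι ι F) ≠ z • (1 : Matrix ι ι F)) →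
      ∃ W, InClass Q m W₀ W ∧ W.map (Matrix.toLin' (A : Matrix ι ι F)) ≤ W := fun A hA ho hs =>
    H A hA ⟨1, by rw [← ho, pow_orderOf_eq_one, one_smul, Units.val_one]⟩ hs
  obtain ⟨j, hj⟩ := hm
  rcases Nat.even_or_odd d with hde | hdo
  · obtain ⟨l, hl⟩ := hde
    set μ : Multiset ℕ := {1, 3} + Multiset.replicate (d - 2) 2 with hμ
    have hgood : OrthJordanTypes.Good p μ := by
      refine ⟨fun e he => ?_, fun e he => ?_⟩
      · simp only [μ, Multiset.mem_add, Multiset.insert_eq_cons, Multiset.mem_cons, Multiset.mem_singleton,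
          Multiset.mem_replicate] at he
        omega
      · simp only [μ, Multiset.count_add, Multiset.insert_eq_cons, Multiset.count_cons, Multiset.count_singleton,
          Multiset.count_replicate]
        obtain ⟨k, rfl⟩ := he
        rw [if_neg (by omega), if_neg (by omega)]
        split_ifs
        · exact ⟨l - 1, by omega⟩
        · exact ⟨0, rfl⟩
    have hsum : μ.sum = Fintype.card ι := by
      simp only [μ, Multiset.sum_add, Multiset.insert_eq_cons, Multiset.sum_cons, Multiset.sum_singleton,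
        Multiset.sum_replicate, smul_eq_mul, hι]
      omega
    obtain ⟨A, hAΩ, hAo, hAn, hAp, hAs⟩ := OrthJordanTypes.exists_isometry p h2 Q hQ μ hgood hsum
      ⟨1, by simp [μ], odd_one⟩ ⟨3, by simp [μ], by omega⟩
    set N : Module.End F (ι → F) := Matrix.toLinAlgEquiv' ((A : Matrix ι ι F) - 1) with hNdef
    have hNx : ∀ x, x + N x = (A : Matrix ι ι F) *ᵥ x := fun x => by
      rw [hNdef, Matrix.toLinAlgEquiv'_apply, Matrix.sub_mulVec, Matrix.one_mulVec, add_sub_cancel]
    have hAiso : A ∈ isometryGroup F ⇑Q := by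
      obtain ⟨b, -, hb⟩ := hAΩ
      exact hb ▸ b.2
    have hiso : ∀ x, Q (x + N x) = Q x := fun x => by rw [hNx]; exact mem_isometryGroup.1 hAiso x
    have hrank : ∀ l, finrank F (LinearMap.range (N ^ l)) = (μ.map fun a => a - l).sum := fun l => by
      rw [← hAp, ← GLUnipotentTypes.rank_pow hAn l, hNdef, ← map_pow]
      rfl
    have hr1 : finrank F (LinearMap.range N) = d := by
      rw [← pow_one N, hrank]
      simp only [μ, Multiset.map_add, Multiset.insert_eq_cons, Multiset.map_cons, Multiset.map_singleton,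
        Multiset.map_replicate, Multiset.sum_add, Multiset.sum_cons, Multiset.sum_singleton, Multiset.sum_replicate,
        smul_eq_mul]
      omega
    have hr2 : finrank F (LinearMap.range (N ∘ₗ N)) = 1 := by
      rw [show N ∘ₗ N = N ^ 2 from (pow_two N).symm, hrank]
      simp [μ, Multiset.map_replicate, Multiset.sum_replicate]
    have hV : finrank F (ι → F) = 2 * d := by rw [Module.finrank_pi, hι]
    have hK : finrank F (LinearMap.ker N) ≤
        finrank F (LinearMap.ker N ⊓ LinearMap.range N : Submodule F (ι → F)) + 1 := by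
      have h1 := LinearMap.finrank_range_add_finrank_ker N
      have h3 := LinearMap.finrank_range_add_finrank_ker (N.domRestrict (LinearMap.range N))
      have h4 : LinearMap.range (N.domRestrict (LinearMap.range N)) = LinearMap.range (N ∘ₗ N) := by
        ext x
        constructor
        · rintro ⟨⟨_, y, rfl⟩, rfl⟩; exact ⟨y, rfl⟩
        · rintro ⟨y, rfl⟩; exact ⟨⟨N y, y, rfl⟩, rfl⟩
      have h5 : finrank F (LinearMap.ker (N.domRestrict (LinearMap.range N))) =
          finrank F (LinearMap.ker N ⊓ LinearMap.range N : Submodule F (ι → F)) := by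
        have hmap : (LinearMap.ker (N.domRestrict (LinearMap.range N))).map (LinearMap.range N).subtype =
            LinearMap.ker N ⊓ LinearMap.range N := by
          rw [LinearMap.ker_domRestrict, Submodule.map_comap_subtype, inf_comm]
        rw [← hmap, Submodule.finrank_map_subtype_eq]
      rw [h4, h5, hr1, hr2] at h3
      rw [hr1, hV] at h1
      omega
    obtain ⟨ν, hν⟩ := FiniteField.exists_nonsquare (F := F) fun h => h2 (by
      have h' : ((ringChar F : ℕ) : F) = 0 := ringChar.Nat.cast_ringChar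
      rwa [h, Nat.cast_ofNat] at h')
    have hν0 : ν ≠ 0 := fun e => hν (e ▸ IsSquare.zero)
    have hνQ : (QuadraticMap.polarBilin (ν • Q)).Nondegenerate :=
      OrthNondegRealize.res_nondeg_of_map (LinearEquiv.refl F (ι → F)) hν0 (fun v => by simp) hQ
    obtain ⟨φ, hφ⟩ := EvenType.iso_of_type hνQ hQ (m := d - 1) (by omega) (by omega)
      (OrthNondegRealize.plus_of_similar (LinearEquiv.refl F (ι → F)) hν0 (fun v => by simp)).symm
    have hφ' : ∀ v, Q (φ v) = ν * Q v := fun v => by rw [hφ, _root_.QuadraticMap.smul_apply, smul_eq_mul]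
    have hcomp : ∀ f f' : (ι → F) ≃ₗ[F] (ι → F), (∀ v, f (f' v) = v) →
        LinearMap.toMatrix' (f : (ι → F) →ₗ[F] (ι → F)) * LinearMap.toMatrix' (f' : (ι → F) →ₗ[F] (ι → F)) = 1 :=
      fun f f' h => by
        rw [← LinearMap.toMatrix'_comp, show (f : (ι → F) →ₗ[F] (ι → F)) ∘ₗ (f' : (ι → F) →ₗ[F] (ι → F)) =
          LinearMap.id from LinearMap.ext h, LinearMap.toMatrix'_id]
    let P : GL ι F := ⟨LinearMap.toMatrix' (φ : (ι → F) →ₗ[F] (ι → F)),
      LinearMap.toMatrix' (φ.symm : (ι → F) →ₗ[F] (ι → F)), hcomp φ φ.symm φ.apply_symm_apply,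
      hcomp φ.symm φ φ.symm_apply_apply⟩
    have hA' : ∀ x, ((P * A * P⁻¹ : GL ι F) : Matrix ι ι F) *ᵥ x = φ ((A : Matrix ι ι F) *ᵥ φ.symm x) := fun x => by
      rw [Units.val_mul, Units.val_mul, ← Matrix.mulVec_mulVec, ← Matrix.mulVec_mulVec]
      show LinearMap.toMatrix' (φ : (ι → F) →ₗ[F] (ι → F)) *ᵥ
        ((A : Matrix ι ι F) *ᵥ (LinearMap.toMatrix' (φ.symm : (ι → F) →ₗ[F] (ι → F)) *ᵥ x)) = _
      rw [LinearMap.toMatrix'_mulVec, LinearMap.toMatrix'_mulVec]
      rfl
    have hA'iso : P * A * P⁻¹ ∈ isometryGroup F ⇑Q := mem_isometryGroup.2 fun x => by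
      rw [hA', hφ', mem_isometryGroup.1 hAiso, ← hφ', φ.apply_symm_apply]
    have hA'p : (P * A * P⁻¹) ^ p = 1 := by
      rw [conj_pow, show A ^ p = 1 by rw [← hAo, pow_orderOf_eq_one], mul_one, mul_inv_cancel]
    obtain ⟨W, hW, hWA⟩ := H' A hAΩ hAo hAs
    obtain ⟨W', hW', hWA'⟩ := H (P * A * P⁻¹) (OrthJordanTypes.mem_omegaGL h2 Q hQ _ hA'iso hpo hA'p)
      ⟨1, by rw [hA'p, one_smul, Units.val_one]⟩ (fun z hz => hAs z (Matrix.ext_iff_mulVec.2 fun x => φ.injective (by
        have h := hA' (φ x)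
        rw [hz, φ.symm_apply_apply] at h
        rw [← h, Matrix.smul_mulVec, Matrix.one_mulVec, Matrix.smul_mulVec, Matrix.one_mulVec, map_smul])))
    rw [Submodule.map_le_iff_le_comap] at hWA hWA'
    obtain ⟨ψ, hψ⟩ := (inClass_iff Q hW₀ hn₀ W).1 hW
    obtain ⟨ψ', hψ'⟩ := (inClass_iff Q hW₀ hn₀ W').1 hW'
    set W₁ := W'.map (φ.symm : (ι → F) →ₗ[F] (ι → F))
    let τ : W' ≃ₗ[F] W₁ := φ.symm.submoduleMap W'
    have hτ : ∀ w, EvenType.res Q W₁ (τ w) = ν⁻¹ * EvenType.res Q W' w := fun w => by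
      show Q (φ.symm (w : ι → F)) = ν⁻¹ * Q (w : ι → F)
      conv_rhs => rw [← φ.apply_symm_apply (w : ι → F), hφ']
      rw [← mul_assoc, inv_mul_cancel₀ hν0, one_mul]
    have hnW := OrthNondegRealize.res_nondeg_of_map ψ one_ne_zero (fun w => by rw [one_mul, hψ]) hn₀
    have hnW₁ := OrthNondegRealize.res_nondeg_of_map τ (inv_ne_zero hν0) hτ
      (OrthNondegRealize.res_nondeg_of_map ψ' one_ne_zero (fun w => by rw [one_mul, hψ']) hn₀)
    have hdW : finrank F W = m := ψ.finrank_eq.symm.trans hW₀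
    have hdW₁ : finrank F W₁ = m := τ.finrank_eq.symm.trans (ψ'.finrank_eq.symm.trans hW₀)
    have hinv : ∀ x ∈ W, N x ∈ W := fun x hx => by
      rw [hNdef, Matrix.toLinAlgEquiv'_apply, Matrix.sub_mulVec, Matrix.one_mulVec]
      exact W.sub_mem (hWA hx) hx
    have hinv₁ : ∀ x ∈ W₁, N x ∈ W₁ := by
      rintro _ ⟨y, hy, rfl⟩
      rw [hNdef, Matrix.toLinAlgEquiv'_apply, Matrix.sub_mulVec, Matrix.one_mulVec]
      refine W₁.sub_mem ⟨((P * A * P⁻¹ : GL ι F) : Matrix ι ι F) *ᵥ y, hWA' hy, ?_⟩ ⟨y, hy, rfl⟩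
      show φ.symm _ = _
      rw [hA', φ.symm_apply_apply]
      rfl
    have hsq := OrthEvenOddUnipotent.pair h2 hQ N hiso hK hr2 hV ⟨l, hl⟩ ⟨j, hj⟩ hnW hinv hdW hnW₁ hinv₁ hdW₁
    obtain ⟨θ, hθ⟩ := (iso_iff h2 hnW hnW₁ (hdW.trans hdW₁.symm)).2 hsq
    have hθ' : ∀ v, EvenType.res Q W₀ ((((ψ.trans θ).trans τ.symm).trans ψ'.symm) v) = ν * EvenType.res Q W₀ v :=
      fun v => by
        have h1 := hψ' ((((ψ.trans θ).trans τ.symm).trans ψ'.symm) v)
        simp only [LinearEquiv.trans_apply, LinearEquiv.apply_symm_apply] at h1 ⊢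
        have h3 := hτ (τ.symm (θ (ψ v)))
        rw [τ.apply_symm_apply, hθ, hψ, h1] at h3
        rw [h3, ← mul_assoc, mul_inv_cancel₀ hν0, one_mul]
    exact hν (square_of_self_similar hn₀ (hW₀ ▸ ⟨j, hj⟩) _ hθ')
  · obtain ⟨l, hl⟩ := hdo
    obtain ⟨e, k, hk, he, hsum, hmod⟩ : ∃ e k, Even k ∧ (e = 1 ∨ e = 3) ∧ 2 * k + 2 * e = 2 * d ∧
        ((e = 1 ∧ m % 4 = 3) ∨ (e = 3 ∧ m % 4 = 1)) := by
      rcases Nat.even_or_odd j with ⟨i, hi⟩ | ⟨i, hi⟩
      · exact ⟨3, d - 3, ⟨l - 1, by omega⟩, Or.inr rfl, by omega, Or.inr ⟨rfl, by omega⟩⟩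
      · exact ⟨1, d - 1, ⟨l, by omega⟩, Or.inl rfl, by omega, Or.inl ⟨rfl, by omega⟩⟩
    set μ : Multiset ℕ := Multiset.replicate k 2 + Multiset.replicate 2 e with hμ
    have hk0 : 0 < k := by rcases he with rfl | rfl <;> omega
    have hgood : OrthJordanTypes.Good p μ := by
      refine ⟨fun x hx => ?_, fun x hx => ?_⟩
      · simp only [μ, Multiset.mem_add, Multiset.mem_replicate] at hx
        omega
      · simp only [μ, Multiset.count_add, Multiset.count_replicate]
        obtain ⟨c, rfl⟩ := hx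
        rw [if_neg (show ¬ e = c + c by omega), add_zero]
        split_ifs
        · exact hk
        · exact ⟨0, rfl⟩
    obtain ⟨ν, hν, hνs, hνe, -⟩ := OrthJordanTypes.partitions_of_fixes p h2 Q hQ (InClass Q m W₀)
      (fun W hW => ⟨hW.1, hW.2.1⟩) H' μ hgood
      (by simp only [μ, Multiset.sum_add, Multiset.sum_replicate, smul_eq_mul, hι]; omega)
      ⟨e, by simp [μ], by rcases he with rfl | rfl <;> decide⟩ ⟨2, Multiset.mem_add.2 (Or.inl (Multiset.mem_replicate.2 ⟨hk0.ne', rfl⟩)), by omega⟩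
    obtain ⟨R', hR', hνeq⟩ := OrthJordanTypes.sub_twos hν (fun h => by
      have := Multiset.eq_of_mem_replicate h; omega)
    obtain ⟨c, hc⟩ := hνe 2 even_two
    have hR : R' = Multiset.replicate (Multiset.card R') e :=
      Multiset.eq_replicate_card.2 fun x hx => Multiset.eq_of_mem_replicate (Multiset.mem_of_le hR' hx)
    have hcard := Multiset.card_le_card hR'
    rw [Multiset.card_replicate] at hcard
    rw [hνeq, Multiset.sum_add, hR, Multiset.sum_replicate, Multiset.sum_replicate, smul_eq_mul, smul_eq_mul, hc] at hνs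
    generalize Multiset.card R' = n at hcard hνs
    rcases he with rfl | rfl <;> rcases (show n = 0 ∨ n = 1 ∨ n = 2 by omega) with rfl | rfl | rfl <;> omega

end Cfsg.Agent.OrthEvenOddBad
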