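import Cfsg.Agent.Lib.Classical.OrthNondegInvolution
import Cfsg.Agent.Lib.Classical.OrthNondegCount

/-! Discriminants of odd dimensional subspaces and completion of an even piece by one vector. -/

set_option autoImplicit false

namespace Cfsg.Agent.OrthEvenOddDisc

open Module Cfsg.Agent.Classical

variable {F : Type*} [Field F] {V : Type*} [AddCommGroup V] [Module F V] [FiniteDimensional F V]

theorem polar_self2 (Q : QuadraticForm F V) (v : V) : QuadraticMap.polar (⇑Q) v v = 2 * Q v := by
  rw [QuadraticMap.polar_self, two_nsmul, two_mul]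

/-- The Gram determinant in some basis. -/
noncomputable def disc (Q : QuadraticForm F V) : F :=
  gramDet (QuadraticMap.polarBilin Q) (Module.finBasis F V)

theorem disc_ne_zero {Q : QuadraticForm F V} (hQ : (QuadraticMap.polarBilin Q).Nondegenerate) : disc Q ≠ 0 :=
  gramDet_ne_zero hQ _

theorem disc_basis {κ : Type*} [Fintype κ] [DecidableEq κ] (Q : QuadraticForm F V) (b : Module.Basis κ F V) :
    IsSquare (disc Q * gramDet (QuadraticMap.polarBilin Q) b) := by
  obtain ⟨t, -, ht⟩ := gramDet_change (QuadraticMap.polarBilin Q) b (Module.finBasis F V)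
  exact ⟨t * gramDet (QuadraticMap.polarBilin Q) b, by rw [disc, ht]; ring⟩

theorem sq_trans {a b c : F} (h1 : IsSquare (a * b)) (h3 : IsSquare (c * b)) (hb : b ≠ 0) : IsSquare (a * c) := by
  obtain ⟨s, hs⟩ := h1
  obtain ⟨t, ht⟩ := h3
  exact ⟨s * t / b, by field_simp; linear_combination (c * b) * hs + (s * s) * ht⟩

theorem iso_iff [Fintype F] (h2 : (2 : F) ≠ 0) {W : Type*} [AddCommGroup W] [Module F W] [FiniteDimensional F W]
    {Q : QuadraticForm F V} {Q' : QuadraticForm F W} (hQ : (QuadraticMap.polarBilin Q).Nondegenerate)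
    (hQ' : (QuadraticMap.polarBilin Q').Nondegenerate) (hd : finrank F V = finrank F W) :
    (∃ φ : V ≃ₗ[F] W, ∀ v, Q' (φ v) = Q v) ↔ IsSquare (disc Q * disc Q') :=
  isometric_iff_disc h2 hQ hQ' _ _ (by simpa using hd)

theorem disc_split {Q : QuadraticForm F V} {A C : Submodule F V} (h : EvenType.Split Q A C) :
    IsSquare (disc Q * (disc (EvenType.res Q A) * disc (EvenType.res Q C))) := by
  obtain ⟨c, hc⟩ := EvenType.gramDet_split h (Module.finBasis F A) (Module.finBasis F C)
  have h1 := disc_basis Q c
  rw [hc] at h1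
  exact h1

/-- The discriminant of a line. -/
theorem disc_line (Q : QuadraticForm F V) {v : V} (hv : v ≠ 0) :
    IsSquare (disc (EvenType.res Q (Submodule.span F {v})) * (2 * Q v)) := by
  let b := (Module.Basis.singleton Unit F).map (LinearEquiv.toSpanNonzeroSingleton F V v hv)
  have h := disc_basis (EvenType.res Q (Submodule.span F {v})) b
  rwa [gramDet_eq_of, Matrix.det_unique, Matrix.of_apply,
    show ((b default : Submodule.span F {v})) = LinearEquiv.toSpanNonzeroSingleton F V v hv 1 by
      simp [b],
    LinearEquiv.toSpanNonzeroSingleton_one, EvenType.polar_res, polar_self2] at h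

/-- A similitude of an odd dimensional space onto itself has square multiplier. -/
theorem square_of_self_similar {Q : QuadraticForm F V} (hQ : (QuadraticMap.polarBilin Q).Nondegenerate)
    (hodd : Odd (finrank F V)) {c : F} (θ : V ≃ₗ[F] V) (hθ : ∀ v, Q (θ v) = c * Q v) : IsSquare c := by
  classical
  set b := Module.finBasis F V
  obtain ⟨t, -, ht⟩ := gramDet_change (QuadraticMap.polarBilin Q) b (b.map θ)
  have h1 := gramDet_isometry (Q := c • Q) (Q' := Q) θ (fun v => by rw [hθ, _root_.QuadraticMap.smul_apply, smul_eq_mul]) b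
  rw [ht, show QuadraticMap.polarBilin (c • Q) = c • QuadraticMap.polarBilin Q from
    LinearMap.ext₂ fun u v => by simp [QuadraticMap.polar]; ring, gramDet_smul, Fintype.card_fin] at h1
  have h3 := mul_right_cancel₀ (gramDet_ne_zero hQ b) h1
  rcases eq_or_ne c 0 with rfl | hc
  · exact IsSquare.zero
  obtain ⟨k, hk⟩ := hodd
  rw [hk, pow_succ c, pow_mul] at h3
  exact ⟨t / c ^ k, by field_simp; linear_combination -h3⟩

theorem nondeg_res_comap {Q : QuadraticForm F V} {A W : Submodule F V} (hle : A ≤ W)
    (hA : (QuadraticMap.polarBilin (EvenType.res Q A)).Nondegenerate) :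
    (QuadraticMap.polarBilin (EvenType.res (EvenType.res Q W) (A.comap W.subtype))).Nondegenerate :=
  OrthNondegRealize.res_nondeg_of_map (Submodule.comapSubtypeEquivOfLe hle).symm one_ne_zero
    (fun x => by rw [one_mul]; rfl) hA

theorem disc_res_comap [Fintype F] (h2 : (2 : F) ≠ 0) {Q : QuadraticForm F V} {A W : Submodule F V} (hle : A ≤ W)
    (hA : (QuadraticMap.polarBilin (EvenType.res Q A)).Nondegenerate) :
    IsSquare (disc (EvenType.res (EvenType.res Q W) (A.comap W.subtype)) * disc (EvenType.res Q A)) :=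
  (iso_iff h2 (nondeg_res_comap hle hA) hA (Submodule.comapSubtypeEquivOfLe hle).finrank_eq).1
    ⟨Submodule.comapSubtypeEquivOfLe hle, fun _ => rfl⟩

end Cfsg.Agent.OrthEvenOddDisc
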