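import Cfsg.Agent.Lib.Classical.OrthEvenOddTwo

/-! One class of non-degenerate subspaces of odd dimension of `Ω^±_{2d}(q)`: the criterion in the shape of the
statements. -/

set_option autoImplicit false
set_option linter.unusedSectionVars false

namespace Cfsg.Agent.OrthEvenOddMain

open Module Cfsg.Agent.Classical Cfsg.Agent.OrthEvenOddDerange

variable {F : Type*} [Field F] [Fintype F] {ι : Type} [Fintype ι] [DecidableEq ι] {Q : QuadraticForm F (ι → F)}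

theorem main {p q : ℕ} [Fact p.Prime] [CharP F p] (hq : Fintype.card F = q) (hodd : Odd q)
    (hQ : (QuadraticMap.polarBilin Q).Nondegenerate) {d m : ℕ} (hd : 4 ≤ d) (hm : Odd m) (hmd : m < d)
    (hι : Fintype.card ι = 2 * d) (ε : Prop) (hε : EvenType.Plus Q ↔ ε) {W₀ : Submodule F (ι → F)}
    (hW₀ : finrank F W₀ = m) (hn₀ : Geo.IsNondegenerateOn (QuadraticMap.polar ⇑Q) W₀) {r : ℕ} [Fact r.Prime]
    (hrΩ : r ∣ Nat.card {W : Submodule F (ι → F) // InClass Q m W₀ W}) {i c : ℕ} (hi : i = orderOf (q : ZMod r))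
    (hc : c = if Even i then i else 2 * i) :
    OrthEvenOddTwo.Fixes Q r m W₀ ↔
      ((r = 2 ∧ ¬ ((Even d ∨ IsSquare (2 : F)) ∧ (ε ↔ IsSquare ((-1 : F) ^ d)))) ∨
        (r ≠ p ∧ 2 < r ∧ ((2 * d % c = 0 ∧ ((Even i ∧ ¬ SplitArith.G ε (2 * d / i)) ∨ (Odd i ∧ ¬ ε))) ∨
          (c ≤ m ∧ 0 < m % c ∧ m % c < 2 * d % c)))) := by
  classical
  obtain ⟨a, rfl⟩ := hm
  have h2 : (2 : F) ≠ 0 := by
    intro h
    haveI : CharP F 2 := CharTwo.of_one_ne_zero_of_two_eq_zero one_ne_zero h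
    have h' := FiniteField.even_card_of_char_two (F := F) (ringChar.eq F 2)
    rw [hq] at h'
    obtain ⟨k, hk⟩ := hodd
    omega
  have hn := (OrthNondegRealize.nondeg_on_iff W₀).1 hn₀
  rcases eq_or_ne r 2 with rfl | hr2
  · rw [OrthEvenOddTwo.two_iff h2 hQ hW₀ hn hι (by omega) ε hε]
    simp
  have hr3 : 2 < r := lt_of_le_of_ne (Fact.out : r.Prime).two_le (Ne.symm hr2)
  rcases eq_or_ne r p with rfl | hrp
  · refine iff_of_false (OrthEvenOddBad.exists_bad_p r h2 hQ hι hd ⟨a, rfl⟩ hmd hW₀ hn) ?_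
    simp [hr2]
  obtain ⟨h, hrq⟩ := OrthNondegCrit.ctx (p := p) hq hrp hr2 hi
  have hG : OrthAut.GenQ F ι := Or.inr (by omega)
  obtain ⟨-, hsm⟩ := OrthEvenOddDerange.small Q hQ h2 hι (by omega) ε hε W₀ hW₀ hn h hrq hrΩ
  rw [OrthEvenOddTwo.Fixes, OrthEvenOddDerange.criterion Q hQ hG h2 hι (by omega) ε hε W₀ hW₀ hn h hrq hrΩ]
  have hh := OrthNondegDerange.half_pos h
  obtain ⟨hch, e1, -, e3⟩ := OrthNondegCrit.mods (d := a) (M := d) hc
  obtain ⟨-, -, e2, -⟩ := OrthNondegCrit.mods (d := a) (M := a) hc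
  have hP : d % OrthNondegDerange.half i = 0 →
      (OrthEvenTS.PowTy F r d ε ↔ if Even i then SplitArith.G ε (d / OrthNondegDerange.half i) else ε) := fun h0 => by
    have hdd : OrthNondegDerange.half i * (d / OrthNondegDerange.half i) = d := by
      rw [Nat.mul_div_cancel' (Nat.dvd_of_mod_eq_zero h0)]
    have h5 := OrthEvenTS.powTy_iff h (d / OrthNondegDerange.half i) ε
    rwa [hdd] at h5
  simp only [hr2, false_and, false_or, ne_eq, hrp, not_false_iff, hr3, true_and]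
  rw [e1, e2 hh, Crit]
  have hcm : c ≤ 2 * a + 1 ↔ OrthNondegDerange.half i ≤ a := by omega
  rw [hcm]
  refine or_congr ⟨fun ⟨h0, h3⟩ => ⟨by omega, ?_⟩, fun ⟨h0, h3⟩ => ⟨by omega, ?_⟩⟩
    ⟨fun h3 => ⟨hsm h3, by omega, by omega⟩, fun ⟨_, _, h3⟩ => by omega⟩
  · rw [hP h0] at h3
    rcases Nat.even_or_odd i with he | ho
    · rw [if_pos he] at h3
      exact Or.inl ⟨he, by rwa [e3 he]⟩
    · rw [if_neg (Nat.not_even_iff_odd.2 ho)] at h3
      exact Or.inr ⟨ho, h3⟩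
  · rw [hP (by omega)]
    rcases h3 with ⟨he, h3⟩ | ⟨ho, h3⟩
    · rwa [if_pos he, ← e3 he]
    · rwa [if_neg (Nat.not_even_iff_odd.2 ho)]

end Cfsg.Agent.OrthEvenOddMain
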