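import Cfsg.Agent.Lib.Classical.OrthEvenOddBad
import Cfsg.Agent.Lib.Classical.OrthEvenTSMain

/-! Involutions of `PΩ^±_{2d}(q)` and the classes of non-degenerate subspaces of odd dimension. -/

set_option autoImplicit false
set_option linter.unusedSectionVars false
set_option quotPrecheck false

namespace Cfsg.Agent.OrthEvenOddTwo

open Module Matrix Cfsg.Agent.Classical Cfsg.Agent.Classical.OrthAut Cfsg.Agent.OrthNondegInvolution
  Cfsg.Agent.OrthEvenOddDisc Cfsg.Agent.OrthEvenOddDerange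

variable {F : Type*} [Field F] [Fintype F] {ι : Type} [Fintype ι] [DecidableEq ι] {Q : QuadraticForm F (ι → F)}

local notation "OG" => isometryGroup F ⇑Q
local notation "B" => QuadraticMap.polar ⇑Q

/-- Every element of order `r` modulo scalars fixes a space of the class. -/
def Fixes (Q : QuadraticForm F (ι → F)) (r m : ℕ) (W₀ : Submodule F (ι → F)) : Prop :=
  ∀ x : GL ι F, x ∈ Geo.omegaGL ⇑Q → (∃ z : F, ((x ^ r : GL ι F) : Matrix ι ι F) = z • (1 : Matrix ι ι F)) →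
    (∀ z : F, (x : Matrix ι ι F) ≠ z • (1 : Matrix ι ι F)) →
    ∃ W : Submodule F (ι → F), InClass Q m W₀ W ∧ W.map (Matrix.toLin' (x : Matrix ι ι F)) ≤ W

variable (h2 : (2 : F) ≠ 0) (hQ : (QuadraticMap.polarBilin Q).Nondegenerate) {a : ℕ}
  {W₀ : Submodule F (ι → F)} (hW₀ : finrank F W₀ = 2 * a + 1)
  (hn₀ : (QuadraticMap.polarBilin (EvenType.res Q W₀)).Nondegenerate)

include h2 hQ hW₀ hn₀ in
/-- An even piece and a further piece of dimension at least two contain a space of each odd class. -/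
theorem exists_extra {U R : Submodule F (ι → F)} (hU : NonSing Q U) (hR : NonSing Q R) (hR2 : 2 ≤ finrank F R)
    (horth : ∀ u ∈ U, ∀ v ∈ R, B u v = 0) (hUd : finrank F U = 2 * a) :
    ∃ v ∈ R, InClass Q (2 * a + 1) W₀ (U ⊔ Submodule.span F {v}) := by
  have hUn : (QuadraticMap.polarBilin (EvenType.res Q U)).Nondegenerate := EvenType.nondeg_res hU
  set G₁ := disc (EvenType.res Q U)
  set G₀ := disc (EvenType.res Q W₀)
  obtain ⟨v, hv, hvQ⟩ := exists_value_in hQ h2 hR hR2 (2 * G₁ * G₀)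
  have hv0 : Q v ≠ 0 := hvQ ▸ mul_ne_zero (mul_ne_zero h2 (disc_ne_zero hUn)) (disc_ne_zero hn₀)
  have hvne : v ≠ 0 := fun e => hv0 (by rw [e, QuadraticMap.map_zero])
  have horth' : ∀ u ∈ U, ∀ x ∈ Submodule.span F {v}, B u x = 0 := fun u hu x hx => by
    obtain ⟨c, rfl⟩ := Submodule.mem_span_singleton.1 hx
    rw [QuadraticMap.polar_smul_right, horth u hu v hv, smul_zero]
  have hline : NonSing Q (Submodule.span F {v}) := fun w hw hw0 => by
    obtain ⟨c, rfl⟩ := Submodule.mem_span_singleton.1 hw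
    refine ⟨v, Submodule.mem_span_singleton_self v, ?_⟩
    rw [QuadraticMap.polar_smul_left, smul_eq_mul, OrthEvenOddDisc.polar_self2]
    exact mul_ne_zero (fun e => hw0 (by rw [e, zero_smul])) (mul_ne_zero h2 hv0)
  set W : Submodule F (ι → F) := U ⊔ Submodule.span F {v}
  have hWd : finrank F W = 2 * a + 1 := by
    rw [finrank_sup_orth hU horth', finrank_span_singleton hvne, hUd]
  have hWn : (QuadraticMap.polarBilin (EvenType.res Q W)).Nondegenerate :=
    EvenType.nondeg_res (nonSing_sup hU hline horth')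
  have hleU : U ≤ W := le_sup_left
  have hlev : Submodule.span F {v} ≤ W := le_sup_right
  have hsplit : EvenType.Split (EvenType.res Q W) (U.comap W.subtype) ((Submodule.span F {v}).comap W.subtype) := by
    refine ⟨eq_top_iff.2 fun x _ => ?_, ?_, fun x hx y hy => horth' _ hx _ hy⟩
    · obtain ⟨y, hy, z, hz, e⟩ := Submodule.mem_sup.1 x.2
      exact Submodule.mem_sup.2 ⟨⟨y, hleU hy⟩, hy, ⟨z, hlev hz⟩, hz, Subtype.ext e⟩
    · rw [Submodule.eq_bot_iff]
      rintro x ⟨hx, hy⟩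
      by_contra h0
      obtain ⟨u, hu, hxu⟩ := hU x hx fun e => h0 (Subtype.ext e)
      exact hxu (by rw [QuadraticMap.polar_comm]; exact horth' u hu x hy)
  have hiU : IsSquare (disc (V := (U.comap W.subtype : Submodule F W)) (EvenType.res (EvenType.res Q W) (U.comap W.subtype)) * G₁) :=
    disc_res_comap h2 hleU hUn
  have hiv : IsSquare (disc (V := ((Submodule.span F {v}).comap W.subtype : Submodule F W)) (EvenType.res (EvenType.res Q W) ((Submodule.span F {v}).comap W.subtype)) *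
      disc (EvenType.res Q (Submodule.span F {v}))) := disc_res_comap h2 hlev (EvenType.nondeg_res hline)
  have h1 := disc_split hsplit
  have h3 := disc_line Q hvne
  have hlv : disc (EvenType.res Q (Submodule.span F {v})) ≠ 0 := disc_ne_zero (EvenType.nondeg_res hline)
  obtain ⟨s, hs⟩ := hiU.mul hiv
  obtain ⟨t, ht⟩ := h1
  obtain ⟨u, hu⟩ := h3
  rw [hvQ] at hu
  have hG : G₁ ≠ 0 := disc_ne_zero hUn
  have hG0 : G₀ ≠ 0 := disc_ne_zero hn₀
  have hs0 : s ≠ 0 := by
    intro e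
    rw [e, mul_zero] at hs
    exact mul_ne_zero (mul_ne_zero (disc_ne_zero (nondeg_res_comap hleU hUn)) hG)
      (mul_ne_zero (disc_ne_zero (nondeg_res_comap hlev (EvenType.nondeg_res hline))) hlv) hs
  have hsq : IsSquare (disc (EvenType.res Q W) * G₀) := by
    refine ⟨t * u / (2 * s), ?_⟩
    field_simp
    linear_combination (disc (EvenType.res Q W) * G₀ * 4) * (-hs) +
      (disc (EvenType.res Q (Submodule.span F {v})) * (4 * G₁ * G₀)) * ht + (t * t) * hu
  exact ⟨v, hv, hWd, (OrthNondegRealize.nondeg_on_iff W).2 hWn,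
    (iso_iff h2 hWn hn₀ (hWd.trans hW₀.symm)).2 hsq⟩

variable {d : ℕ} (hι : Fintype.card ι = 2 * d) (had : 2 * a + 1 < d) (ε : Prop) (hε : EvenType.Plus Q ↔ ε)

include h2 hQ hW₀ hn₀ hι had in
theorem of_involution {g : OG} (hg : g * g = 1) :
    ∃ W : Submodule F (ι → F), InClass Q (2 * a + 1) W₀ W ∧ ∀ w ∈ W, ogVal g *ᵥ w ∈ W := by
  classical
  set Em := InvolutionSingular.negSub g
  set Ep := fixSub g
  have hinf : Ep ⊓ Em = ⊥ := by
    rw [Submodule.eq_bot_iff]
    rintro x ⟨h1, h1'⟩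
    have e : ogVal g *ᵥ x = x := mem_fixSub.1 h1
    have e' : ogVal g *ᵥ x = -x := InvolutionSingular.mem_negSub.1 h1'
    have h3 : (2 : F) • x = 0 := by rw [two_smul]; exact add_eq_zero_iff_eq_neg.2 (e.symm.trans e')
    exact (smul_eq_zero.1 h3).resolve_left h2
  have hsup : Ep ⊔ Em = ⊤ := by
    refine eq_top_iff.2 fun x _ => ?_
    have : x = (2 : F)⁻¹ • (x + ogVal g *ᵥ x) + (2 : F)⁻¹ • (x - ogVal g *ᵥ x) := by
      rw [← smul_add, show x + ogVal g *ᵥ x + (x - ogVal g *ᵥ x) = (2 : F) • x by module, smul_smul,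
        inv_mul_cancel₀ h2, one_smul]
    rw [this]
    exact Submodule.add_mem_sup
      (Ep.smul_mem _ (mem_fixSub.2 (by rw [Matrix.mulVec_add, InvolutionSingular.sq_apply hg, add_comm])))
      (Em.smul_mem _ (InvolutionSingular.mem_negSub.2 (by rw [Matrix.mulVec_sub, InvolutionSingular.sq_apply hg, neg_sub])))
  have horth : ∀ p ∈ Ep, ∀ n ∈ Em, B p n = 0 := fun p hp n hn => by
    have h := InvolutionSingular.polar_isometry g p n
    rw [mem_fixSub.1 hp, InvolutionSingular.mem_negSub.1 hn, QuadraticMap.polar_neg_right] at h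
    exact (mul_eq_zero.1 (show (2 : F) * B p n = 0 by linear_combination -h)).resolve_left h2
  have hsp : EvenType.Split Q Ep Em := ⟨hsup, hinf, horth⟩
  have hdim := hsp.dim
  rw [Module.finrank_pi, hι] at hdim
  have hNp : NonSing Q Ep := fun w hw hw0 =>
    ((OrthNondegRealize.nondeg_on_iff _).2 (hsp.nondeg_left hQ) w hw hw0).2
  have hNm : NonSing Q Em := fun w hw hw0 =>
    ((OrthNondegRealize.nondeg_on_iff _).2 (hsp.symm.nondeg_left hQ) w hw hw0).2
  obtain ⟨k, hk⟩ : ∃ k, k = min (finrank F Ep) (2 * a) := ⟨_, rfl⟩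
  obtain ⟨U₁, R₁, hU₁, hR₁, hnU₁, hnR₁, ho₁, hdU₁, hdR₁⟩ := exists_pieces h2 hQ hNp k (by omega)
  obtain ⟨U₂, R₂, hU₂, hR₂, hnU₂, hnR₂, ho₂, hdU₂, hdR₂⟩ := exists_pieces h2 hQ hNm (2 * a - k) (by omega)
  have hUU : ∀ u ∈ U₁, ∀ v ∈ U₂, B u v = 0 := fun u hu v hv => horth u (hU₁ hu) v (hU₂ hv)
  set U : Submodule F (ι → F) := U₁ ⊔ U₂
  have hnU : NonSing Q U := nonSing_sup hnU₁ hnU₂ hUU
  have hdU : finrank F U = 2 * a := by rw [finrank_sup_orth hnU₁ hUU, hdU₁, hdU₂]; omega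
  have hfix : ∀ x ∈ Ep, ogVal g *ᵥ x = x := fun x hx => mem_fixSub.1 hx
  have hneg : ∀ x ∈ Em, ogVal g *ᵥ x = -x := fun x hx => InvolutionSingular.mem_negSub.1 hx
  obtain ⟨R, c, hnR, hR2, hUR, hgR⟩ : ∃ (R : Submodule F (ι → F)) (c : F), NonSing Q R ∧ 2 ≤ finrank F R ∧
      (∀ u ∈ U, ∀ v ∈ R, B u v = 0) ∧ ∀ v ∈ R, ogVal g *ᵥ v = c • v := by
    rcases Nat.lt_or_ge (finrank F R₁) 2 with h | h
    · refine ⟨R₂, -1, hnR₂, (show 2 ≤ finrank F R₂ by omega), fun u hu v hv => ?_, fun v hv => by rw [hneg v (hR₂ hv), neg_one_smul]⟩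
      obtain ⟨x, hx, y, hy, rfl⟩ := Submodule.mem_sup.1 hu
      rw [QuadraticMap.polar_add_left, horth x (hU₁ hx) v (hR₂ hv), ho₂ y hy v hv, add_zero]
    · refine ⟨R₁, 1, hnR₁, h, fun u hu v hv => ?_, fun v hv => by rw [hfix v (hR₁ hv), one_smul]⟩
      obtain ⟨x, hx, y, hy, rfl⟩ := Submodule.mem_sup.1 hu
      rw [QuadraticMap.polar_add_left, ho₁ x hx v hv, QuadraticMap.polar_comm _ y v, horth v (hR₁ hv) y (hU₂ hy),
        add_zero]
  obtain ⟨v, hv, hW⟩ := exists_extra h2 hQ hW₀ hn₀ hnU hnR hR2 hUR hdU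
  refine ⟨_, hW, fun w hw => ?_⟩
  obtain ⟨u, hu, z, hz, rfl⟩ := Submodule.mem_sup.1 hw
  obtain ⟨x, hx, y, hy, rfl⟩ := Submodule.mem_sup.1 hu
  obtain ⟨e, rfl⟩ := Submodule.mem_span_singleton.1 hz
  rw [Matrix.mulVec_add, Matrix.mulVec_add, Matrix.mulVec_smul, hfix x (hU₁ hx), hneg y (hU₂ hy), hgR v hv, smul_smul]
  exact Submodule.add_mem_sup (Submodule.add_mem_sup hx (U₂.neg_mem hy))
    (Submodule.smul_mem _ _ (Submodule.mem_span_singleton_self v))

include h2 hQ hW₀ hn₀ hι had hε in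
theorem two_iff : Fixes Q 2 (2 * a + 1) W₀ ↔
    ¬ ((Even d ∨ IsSquare (2 : F)) ∧ (ε ↔ IsSquare ((-1 : F) ^ d))) := by
  classical
  constructor
  · rintro H ⟨hΩ, htype⟩
    obtain ⟨g, hg⟩ := OrthComplexStructure.exists_sq_neg_one h2 hQ hι (by omega) (hε.trans htype)
    have hgs : ∀ z : F, ogVal g ≠ z • (1 : Matrix ι ι F) := fun z hz => by
      obtain ⟨v, -, hv⟩ := OrthNondegInvolution.exists_aniso h2 (E := (⊤ : Submodule F (ι → F))) (OrthAut.nondeg_top hQ)
        (by rw [finrank_top, Module.finrank_pi]; omega)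
      have h1 := hg v
      have h3 := ogVal_quad g v
      simp only [hz, Matrix.smul_mulVec, Matrix.one_mulVec, smul_smul] at h1 h3
      rw [QuadraticMap.map_smul, smul_eq_mul] at h3
      have hvne : v ≠ 0 := fun e => hv (by rw [e, QuadraticMap.map_zero])
      have hz1 : z * z = -1 := smul_left_injective F hvne (h1.trans (neg_one_smul F v).symm)
      rw [hz1] at h3
      exact mul_ne_zero h2 hv (by linear_combination -h3)
    obtain ⟨W, ⟨hWd, hWn, -⟩, hWx⟩ := H g ⟨g, ((OrthComplexStructure.of_sq_neg_one h2 hQ hg hι).1).2 hΩ, rfl⟩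
      ⟨-1, by
        rw [pow_two, Units.val_mul]
        exact Matrix.ext_iff_mulVec.2 fun x => by
          rw [← Matrix.mulVec_mulVec, Matrix.smul_mulVec, Matrix.one_mulVec, neg_one_smul]
          exact hg x⟩ hgs
    rw [Submodule.map_le_iff_le_comap] at hWx
    obtain ⟨j, hj, -⟩ := OrthComplexStructure.plus_sub h2 hQ hg (fun w hw hw0 => (hWn w hw hw0).2) fun x hx => hWx hx
    omega
  · rintro hC x hx ⟨z, hz⟩ -
    obtain ⟨g, hgΩ, rfl⟩ := hx
    rcases OrthEvenTSMain.sq_cases hQ (by omega) g hz with hgg | hg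
    · obtain ⟨W, hW, hinv⟩ := of_involution h2 hQ hW₀ hn₀ hι had hgg
      exact ⟨W, hW, by rw [Submodule.map_le_iff_le_comap]; exact fun w hw => hinv w hw⟩
    · obtain ⟨h1, h3⟩ := OrthComplexStructure.of_sq_neg_one h2 hQ hg hι
      exact absurd ⟨h1.1 hgΩ, hε.symm.trans h3⟩ hC

end Cfsg.Agent.OrthEvenOddTwo
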