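import Cfsg.Agent.Lib.Classical.UnipotentRealisation
import Cfsg.Agent.Lib.Classical.QuadModels
import Cfsg.Agent.Lib.Classical.OrthSpinor
import Cfsg.Prelude.Def_GeometricClasses

/-! Unipotent elements of prescribed Jordan type in orthogonal groups of odd characteristic, and their invariant
non-degenerate subspaces. -/

set_option autoImplicit false

namespace Cfsg.Agent.OrthJordanTypes

open Matrix

variable {F : Type*} [Field F]

/-- Partitions with parts at most `p` whose even parts have even multiplicity. -/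
def Good (p : ℕ) (μ : Multiset ℕ) : Prop :=
  (∀ e ∈ μ, 0 < e ∧ e ≤ p) ∧ ∀ e : ℕ, Even e → Even (μ.count e)

/-- Reduction to partitions with an odd part. -/
theorem all_partitions {p m n : ℕ} (hp : Odd p) (hm : Even m) (hmn : m ≤ n)
    (H : ∀ μ : Multiset ℕ, Good p μ → μ.sum = n → (∃ e ∈ μ, Odd e) → (∃ e ∈ μ, e ≠ 1) →
      ∃ ν : Multiset ℕ, ν ≤ μ ∧ ν.sum = m ∧ ∀ e : ℕ, Even e → Even (ν.count e))
    (μ : Multiset ℕ) (h1 : ∀ e ∈ μ, 0 < e ∧ e ≤ p) (h2 : ∀ e : ℕ, Even e → Even (μ.count e)) (hs : μ.sum = n) :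
    ∃ ν : Multiset ℕ, ν ≤ μ ∧ ν.sum = m ∧ ∀ e : ℕ, Even e → Even (ν.count e) := by
  classical
  by_cases hone : ∀ e ∈ μ, e = 1
  · refine ⟨Multiset.replicate m 1, ?_, by simp, fun e he => ?_⟩
    · have hμ := Multiset.eq_replicate_card.2 hone
      rw [hμ, Multiset.sum_replicate, smul_eq_mul, mul_one] at hs
      rw [hμ, hs, Multiset.replicate_le_replicate]
      exact hmn
    · rw [Multiset.count_replicate]
      split_ifs with h
      · exact absurd (h ▸ he) (by decide)
      · exact Even.zero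
  push Not at hone
  by_cases hodd : ∃ e ∈ μ, Odd e
  · exact H μ ⟨h1, h2⟩ hs hodd hone
  push Not at hodd
  obtain ⟨a, ha, -⟩ := hone
  have hae : Even a := Nat.not_odd_iff_even.1 (hodd a ha)
  obtain ⟨ν₀, rfl⟩ := Multiset.exists_cons_of_mem ha
  have hc := h2 a hae
  rw [Multiset.count_cons_self] at hc
  have ha2 : a ∈ ν₀ := Multiset.count_pos.1 (by rcases hc with ⟨r, hr⟩; omega)
  obtain ⟨ρ, rfl⟩ := Multiset.exists_cons_of_mem ha2
  have ha0 := h1 a ha
  have hap : a + 1 ≤ p := by
    rcases Nat.lt_or_ge a p with h | h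
    · exact h
    · obtain ⟨r, hr⟩ := hae; obtain ⟨l, hl⟩ := hp; omega
  have ha1 : 2 ≤ a := by obtain ⟨r, hr⟩ := hae; omega
  have hρodd : ∀ e ∈ ρ, ¬ Odd e := fun e he => hodd e (Multiset.mem_cons_of_mem (Multiset.mem_cons_of_mem he))
  have ho1 : Odd (a + 1) := Even.add_one hae
  have ho2 : Odd (a - 1) := Nat.Even.sub_odd (by omega) hae odd_one
  have hρc : ∀ e : ℕ, Even e → Even (ρ.count e) := fun e he => by
    have := h2 e he
    rw [Multiset.count_cons, Multiset.count_cons] at this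
    split_ifs at this
    · obtain ⟨r, hr⟩ := this; exact ⟨r - 1, by omega⟩
    · simpa using this
  have hG : Good p ((a + 1) ::ₘ (a - 1) ::ₘ ρ) := by
    refine ⟨fun e he => ?_, fun e he => ?_⟩
    · simp only [Multiset.mem_cons] at he
      rcases he with rfl | rfl | he
      · exact ⟨by omega, hap⟩
      · exact ⟨by omega, by omega⟩
      · exact h1 e (Multiset.mem_cons_of_mem (Multiset.mem_cons_of_mem he))
    · rw [Multiset.count_cons_of_ne (fun h => (Nat.not_odd_iff_even.2 he) (by rw [h]; exact ho1)),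
        Multiset.count_cons_of_ne (fun h => (Nat.not_odd_iff_even.2 he) (by rw [h]; exact ho2))]
      exact hρc e he
  obtain ⟨ν, hν, hνs, hνe⟩ := H _ hG (by simp only [Multiset.sum_cons] at hs ⊢; omega)
    ⟨a + 1, Multiset.mem_cons_self _ _, ho1⟩ ⟨a + 1, Multiset.mem_cons_self _ _, by omega⟩
  set νe := ν.filter fun e => Even e
  set νo := ν.filter fun e => ¬ Even e
  have hsplit : νe + νo = ν := Multiset.filter_add_not _ ν
  have hle_e : νe ≤ ρ := by
    refine le_trans (Multiset.filter_le_filter _ hν) ?_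
    rw [Multiset.filter_cons_of_neg _ (Nat.not_even_iff_odd.2 ho1), Multiset.filter_cons_of_neg _ (Nat.not_even_iff_odd.2 ho2)]
    exact Multiset.filter_le _ _
  have hle_o : νo ≤ {a + 1, a - 1} := by
    refine le_trans (Multiset.filter_le_filter _ hν) (le_of_eq ?_)
    rw [Multiset.filter_cons_of_pos (p := fun e => ¬ Even e) _ (Nat.not_even_iff_odd.2 ho1),
      Multiset.filter_cons_of_pos (p := fun e => ¬ Even e) _ (Nat.not_even_iff_odd.2 ho2),
      Multiset.filter_eq_nil.2 fun e he h => h (Nat.not_odd_iff_even.1 (hρodd e he))]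
    rfl
  have hνesum : Even νe.sum := Multiset.sum_induction _ _ (fun x y hx hy => hx.add hy) Even.zero
    fun x hx => (Multiset.mem_filter.1 hx).2
  have hνec : ∀ e : ℕ, Even e → Even (νe.count e) := fun e he => by
    rw [Multiset.count_filter_of_pos (p := fun e => Even e) he]; exact hνe e he
  rw [← hsplit, Multiset.sum_add] at hνs
  have hcard := Multiset.card_le_card hle_o
  simp only [Multiset.insert_eq_cons, Multiset.card_cons, Multiset.card_singleton] at hcard
  have h012 : Multiset.card νo = 0 ∨ Multiset.card νo = 1 ∨ Multiset.card νo = 2 := by omega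
  rcases h012 with hz | hz | hz
  · rw [Multiset.card_eq_zero] at hz
    rw [hz, Multiset.sum_zero, add_zero] at hνs
    exact ⟨νe, hle_e.trans ((Multiset.le_cons_self _ _).trans (Multiset.le_cons_self _ _)), hνs, hνec⟩
  · exfalso
    obtain ⟨b, hb⟩ := Multiset.card_eq_one.1 hz
    have hbo : ¬ Even b := (Multiset.mem_filter.1 (show b ∈ νo from hb ▸ Multiset.mem_singleton_self b)).2
    rw [hb, Multiset.sum_singleton] at hνs
    rw [← hνs, Nat.even_add] at hm
    exact hbo (hm.1 hνesum)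
  · have heq : νo = {a + 1, a - 1} := Multiset.eq_of_le_of_card_le hle_o
      (by simp only [Multiset.insert_eq_cons, Multiset.card_cons, Multiset.card_singleton]; omega)
    rw [heq] at hνs
    simp only [Multiset.insert_eq_cons, Multiset.sum_cons, Multiset.sum_singleton] at hνs
    refine ⟨a ::ₘ a ::ₘ νe, Multiset.cons_le_cons _ (Multiset.cons_le_cons _ hle_e),
      by simp only [Multiset.sum_cons]; omega, fun e he => ?_⟩
    rw [Multiset.count_cons, Multiset.count_cons]
    split_ifs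
    · obtain ⟨r, hr⟩ := hνec e he; exact ⟨r + 1, by omega⟩
    · simpa using hνec e he

variable {V : Type*} [AddCommGroup V] [Module F V] [FiniteDimensional F V]

/-- If all Jordan blocks of an isometry are of even size the form is hyperbolic. -/
theorem exists_half_isotropic (B : LinearMap.BilinForm F V) (hsym : ∀ u v, B u v = B v u) (g g' : Module.End F V)
    (hg'g : g' * g = 1) (hgg' : g * g' = 1) (hiso : ∀ u v, B (g u) (g v) = B u v) (hN : IsNilpotent (g - 1))
    (hev : ∀ a ∈ JordanChains.parts (g - 1), Even a) :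
    ∃ U : Submodule F V, (∀ u ∈ U, B u u = 0) ∧ 2 * Module.finrank F U = Module.finrank F V := by
  set N := g - 1
  obtain ⟨s, k, v, h⟩ := JordanChains.exists_chains hN
  have hk : ∀ i, Even (k i) := fun i => hev _ (by rw [h.parts_eq]; exact Multiset.mem_map.2 ⟨i, Finset.mem_univ_val i, rfl⟩)
  have hadj : ∀ u v, B u (N v) = B ((g' - 1) u) v := fun u v => by
    show B u (g v - v) = B (g' u - u) v
    rw [map_sub, map_sub, LinearMap.sub_apply]
    congr 1
    conv_lhs => rw [show u = g (g' u) from (LinearMap.congr_fun hgg' u).symm]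
    exact hiso _ _
  have hpow : ∀ (j : ℕ) u v, B u ((N ^ j) v) = B (((g' - 1) ^ j) u) v := fun j => by
    induction j with
    | zero => intro u v; rfl
    | succ j ih => intro u v; rw [JordanChains.pow_succ_apply' N, ih, hadj, JordanChains.pow_succ_apply (g' - 1)]
  have hcomm : Commute (g' - 1) N :=
    (Commute.sub_left (Commute.sub_right (hg'g.trans hgg'.symm) (Commute.one_right _))
      ((Commute.one_left _).sub_right (Commute.one_left _)))
  have hzero : ∀ (i l : Fin s) (a b : ℕ), k i ≤ a + b → B ((N ^ a) (v i)) ((N ^ b) (v l)) = 0 := by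
    intro i l a b hab
    have e : (g' - 1) = -(g' * N) := by rw [mul_sub, mul_one, hg'g, neg_sub]
    have hc' : Commute g' N := Commute.sub_right (hg'g.trans hgg'.symm) (Commute.one_right _)
    rw [hpow, show ((g' - 1) ^ b) ((N ^ a) (v i)) = ((g' - 1) ^ b * N ^ a) (v i) from rfl,
      (hcomm.pow_pow b a).eq, e, neg_pow, hc'.mul_pow,
      show N ^ a * ((-1) ^ b * (g' ^ b * N ^ b)) = ((-1) ^ b * g' ^ b) * N ^ (a + b) by
        have h1 : Commute (N ^ a) ((-1) ^ b * g' ^ b) :=
          ((Commute.neg_one_right _).pow_right b).mul_right ((hc'.pow_pow b a).symm)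
        rw [← mul_assoc ((-1 : Module.End F V) ^ b), ← mul_assoc, h1.eq, mul_assoc, ← pow_add],
      Module.End.mul_apply, h.pow_eq_zero_of_le i hab, map_zero, map_zero, LinearMap.zero_apply]
  let e : (Σ i : Fin s, Fin (k i / 2)) → Σ i, Fin (k i) := fun x => ⟨x.1, ⟨k x.1 / 2 + x.2, by
    obtain ⟨r, hr⟩ := hk x.1; omega⟩⟩
  have he : Function.Injective e := by
    rintro ⟨i, a⟩ ⟨j, b⟩ hab
    obtain rfl : i = j := congrArg Sigma.fst hab
    have := congrArg Fin.val (eq_of_heq (Sigma.mk.inj hab).2)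
    exact congrArg _ (Fin.ext (by simpa using this))
  refine ⟨Submodule.span F (Set.range (JordanChains.chainVec N k v ∘ e)), ?_, ?_⟩
  · have key : ∀ x y, B (JordanChains.chainVec N k v (e x)) (JordanChains.chainVec N k v (e y)) = 0 := by
      intro x y
      obtain ⟨r, hr⟩ := hk x.1
      obtain ⟨r', hr'⟩ := hk y.1
      rcases le_total (k x.1) (k y.1) with hle | hle
      · exact hzero _ _ _ _ (by simp only [e]; omega)
      · rw [hsym]; exact hzero _ _ _ _ (by simp only [e]; omega)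
    have hall : ∀ u ∈ Submodule.span F (Set.range (JordanChains.chainVec N k v ∘ e)),
        ∀ w ∈ Submodule.span F (Set.range (JordanChains.chainVec N k v ∘ e)), B u w = 0 := by
      intro u hu w hw
      induction hu using Submodule.span_induction with
      | zero => simp
      | add a b _ _ ha hb => rw [map_add, LinearMap.add_apply, ha, hb, add_zero]
      | smul c a _ ha => rw [map_smul, LinearMap.smul_apply, ha, smul_zero]
      | mem u hu =>
        induction hw using Submodule.span_induction with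
        | zero => simp
        | add a b _ _ ha hb => rw [map_add, ha, hb, add_zero]
        | smul c a _ ha => rw [map_smul, ha, smul_zero]
        | mem w hw =>
          obtain ⟨x, rfl⟩ := hu
          obtain ⟨y, rfl⟩ := hw
          exact key x y
    exact fun u hu => hall u hu u hu
  · rw [finrank_span_eq_card (h.2.2.1.comp e he), h.finrank_eq, Fintype.card_sigma, Finset.mul_sum]
    refine Finset.sum_congr rfl fun i _ => ?_
    rw [Fintype.card_fin]
    obtain ⟨r, hr⟩ := hk i
    omega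

variable {ι : Type} [Fintype ι] [DecidableEq ι]

/-- An invariant non-degenerate subspace gives a good sub-partition, with an odd part unless the subspace has plus type. -/
theorem invariant_subspace (h2 : (2 : F) ≠ 0) (Q : QuadraticForm F (ι → F)) (A : GL ι F)
    (hA : A ∈ isometryGroup F ⇑Q) (hn : IsNilpotent ((A : Matrix ι ι F) - 1)) {W : Submodule F (ι → F)}
    (hnd : Geo.IsNondegenerateOn (QuadraticMap.polar ⇑Q) W)
    (hinv : W.map (Matrix.toLin' (A : Matrix ι ι F)) ≤ W) :
    ∃ ν : Multiset ℕ, ν ≤ GLUnipotentTypes.mparts ((A : Matrix ι ι F) - 1) ∧ ν.sum = Module.finrank F W ∧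
      (∀ e : ℕ, Even e → Even (ν.count e)) ∧ ((∀ e ∈ ν, Even e) → Geo.IsPlusTypeOn (⇑Q) W) := by
  classical
  set g : Module.End F (ι → F) := Matrix.toLinAlgEquiv' (A : Matrix ι ι F)
  set g' : Module.End F (ι → F) := Matrix.toLinAlgEquiv' ((A⁻¹ : GL ι F) : Matrix ι ι F)
  have hg'g : g' * g = 1 := by rw [← map_mul, Units.inv_mul, map_one]
  have hgg' : g * g' = 1 := by rw [← map_mul, Units.mul_inv, map_one]
  set B : LinearMap.BilinForm F (ι → F) := QuadraticMap.polarBilin Q
  have hBs : ∀ u v, B u v = B v u := fun u v => by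
    simp only [B, QuadraticMap.polarBilin_apply_apply]; exact QuadraticMap.polar_comm _ _ _
  have hiso : ∀ u v, B (g u) (g v) = B u v := fun u v => by
    simp only [B, g, QuadraticMap.polarBilin_apply_apply, QuadraticMap.polar, Matrix.toLinAlgEquiv'_apply,
      ← Matrix.mulVec_add, Classical.mem_isometryGroup.1 hA]
  have hgW : ∀ x ∈ W, g x ∈ W := fun x hx => hinv (Submodule.mem_map_of_mem hx)
  have hinj : Function.Injective g := fun a b e => by
    rw [show a = (g' * g) a by rw [hg'g]; rfl, show b = (g' * g) b by rw [hg'g]; rfl]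
    exact congrArg g' e
  have hmapW : W.map g = W := Submodule.eq_of_le_of_finrank_eq hinv
    (Submodule.equivMapOfInjective g hinj W).finrank_eq.symm
  have hg'W : ∀ x ∈ W, g' x ∈ W := fun x hx => by
    obtain ⟨y, hy, rfl⟩ : x ∈ W.map g := by rwa [hmapW]
    rwa [show g' (g y) = (g' * g) y from rfl, hg'g]
  set W' := B.orthogonal W
  have hgW' : ∀ x ∈ W', g x ∈ W' := fun x hx => by
    rw [LinearMap.BilinForm.mem_orthogonal_iff] at hx ⊢
    intro w hw
    show B w (g x) = 0
    rw [show w = g (g' w) from (LinearMap.congr_fun hgg' w).symm, hiso]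
    exact hx _ (hg'W w hw)
  have hndW : (B.restrict W).Nondegenerate := by
    constructor
    · intro x hx
      by_contra hne
      obtain ⟨-, y, hy, h⟩ := hnd x x.2 (fun e => hne (Subtype.ext e))
      exact h (hx ⟨y, hy⟩)
    · intro x hx
      by_contra hne
      obtain ⟨⟨y, hy, h⟩, -⟩ := hnd x x.2 (fun e => hne (Subtype.ext e))
      exact h (hx ⟨y, hy⟩)
  have hc : IsCompl W W' := LinearMap.BilinForm.isCompl_orthogonal_of_restrict_nondegenerate
    (fun u v h => by rw [hBs]; exact h) hndW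
  set N := g - 1
  have hNA : N = Matrix.toLinAlgEquiv' ((A : Matrix ι ι F) - 1) := by rw [map_sub, map_one]
  have hNn : IsNilpotent N := hNA ▸ GLUnipotentTypes.nil_end hn
  have hN1 : ∀ x ∈ W, N x ∈ W := fun x hx => W.sub_mem (hgW x hx) hx
  have hN2 : ∀ x ∈ W', N x ∈ W' := fun x hx => W'.sub_mem (hgW' x hx) hx
  have hres : ∀ (S : Submodule F (ι → F)) (hS : ∀ x ∈ S, N x ∈ S), IsNilpotent (N.restrict hS) := fun S hS => by
    obtain ⟨l, hl⟩ := hNn
    refine ⟨l, LinearMap.ext fun x => Subtype.ext ?_⟩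
    have : ∀ (j : ℕ) (x : S), ((N.restrict hS ^ j) x : ι → F) = (N ^ j) (x : ι → F) := fun j => by
      induction j with
      | zero => intro x; rfl
      | succ j ihj => intro x; rw [JordanChains.pow_succ_apply, JordanChains.pow_succ_apply, ← ihj]; rfl
    rw [this, hl]; rfl
  have hsum : JordanChains.parts N = JordanChains.parts (N.restrict hN1) + JordanChains.parts (N.restrict hN2) := by
    rw [← UnipotentRealisation.parts_prod (hres W hN1) (hres W' hN2)]
    refine JordanChains.parts_congr ?_ (Submodule.prodEquivOfIsCompl W W' hc) fun x => ?_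
    · obtain ⟨a, ha⟩ := hres W hN1
      obtain ⟨b, hb⟩ := hres W' hN2
      refine ⟨a + b, ?_⟩
      have hp : ∀ j : ℕ, ((N.restrict hN1).prodMap (N.restrict hN2) : Module.End F (W × W')) ^ j =
          (N.restrict hN1 ^ j).prodMap (N.restrict hN2 ^ j) := fun j => by
        induction j with
        | zero => rfl
        | succ j ih => rw [pow_succ, ih]; rfl
      rw [hp, pow_eq_zero_of_le (Nat.le_add_right a b) ha, pow_eq_zero_of_le (Nat.le_add_left b a) hb,
        LinearMap.prodMap_zero]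
    · rw [Submodule.coe_prodEquivOfIsCompl', Submodule.coe_prodEquivOfIsCompl']
      simp [map_add]
  let gr : Module.End F W := g.restrict hgW
  let gr' : Module.End F W := g'.restrict hg'W
  have hgr : gr - 1 = N.restrict hN1 := LinearMap.ext fun x => Subtype.ext rfl
  have hr1 : gr' * gr = 1 := LinearMap.ext fun x => Subtype.ext (LinearMap.congr_fun hg'g (x : ι → F))
  have hr2 : gr * gr' = 1 := LinearMap.ext fun x => Subtype.ext (LinearMap.congr_fun hgg' (x : ι → F))
  refine ⟨JordanChains.parts (N.restrict hN1), ?_, JordanChains.sum_parts (hres W hN1), fun e he => ?_, fun hall => ?_⟩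
  · rw [GLUnipotentTypes.mparts, ← hNA, hsum]; exact Multiset.le_add_right _ _
  · rcases e.eq_zero_or_pos with rfl | he0
    · rw [Multiset.count_eq_zero.2 fun h => absurd (JordanChains.pos_of_mem_parts (hres W hN1) h) (lt_irrefl 0)]
      exact Even.zero
    rw [← hgr]
    exact UnipotentParity.even_count (B.restrict W) hndW gr gr' hr1 hr2
      (fun u v => hiso (u : ι → F) (v : ι → F)) (hgr ▸ hres W hN1) he0
      (Or.inr ⟨fun u v => hBs (u : ι → F) (v : ι → F), he, h2⟩)
  · rw [← hgr] at hall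
    obtain ⟨U, hU, hUd⟩ := exists_half_isotropic (B.restrict W) (fun u v => hBs (u : ι → F) (v : ι → F)) gr gr' hr1 hr2
      (fun u v => hiso (u : ι → F) (v : ι → F)) (hgr ▸ hres W hN1) hall
    refine ⟨U.map W.subtype, Submodule.map_subtype_le W U, ?_, ?_⟩
    · rintro _ ⟨u, hu, rfl⟩
      have h : B (u : ι → F) (u : ι → F) = 0 := hU u hu
      simp only [B, QuadraticMap.polarBilin_apply_apply, QuadraticMap.polar_self, nsmul_eq_mul, Nat.cast_ofNat,
        smul_eq_mul] at h
      exact (mul_eq_zero.1 h).resolve_left h2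
    · rw [← (Submodule.equivMapOfInjective W.subtype W.injective_subtype U).finrank_eq, hUd]

variable [Fintype F]

/-- Isometries of odd order lie in `Ω`. -/
theorem mem_omegaGL (h2 : (2 : F) ≠ 0) (Q : QuadraticForm F (ι → F)) (hQ : (QuadraticMap.polarBilin Q).Nondegenerate)
    (A : GL ι F) (hA : A ∈ isometryGroup F ⇑Q) {k : ℕ} (hk : Odd k) (hAk : A ^ k = 1) : A ∈ Geo.omegaGL ⇑Q := by
  let a : isometryGroup F ⇑Q := ⟨A, hA⟩
  refine ⟨a, ?_, rfl⟩
  let π := Abelianization.of (G := isometryGroup F ⇑Q)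
  have hsq : ∀ x, π x * π x = 1 := by
    intro x
    have hx : x ∈ Classical.OrthAut.reflGroup Q := by
      rw [Classical.OrthAut.reflGroup_eq_top_gen hQ (Classical.OrthAut.genQ_odd hQ h2)]; trivial
    induction hx using Subgroup.closure_induction with
    | mem y hy =>
      obtain ⟨v, hv, rfl⟩ := hy
      rw [← map_mul, Classical.OrthAut.refl_mul_self, map_one]
    | one => simp
    | mul y z _ _ hy hz => rw [map_mul, mul_mul_mul_comm, hy, hz, one_mul]
    | inv y _ hy => rw [map_inv, ← mul_inv, hy, inv_one]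
  have hak : a ^ k = 1 := Subtype.ext (by simpa using hAk)
  have h1 : π a = 1 := by
    obtain ⟨r, rfl⟩ := hk
    have := congrArg π hak
    rwa [map_pow, map_one, pow_succ, pow_mul, pow_two, hsq, one_pow, one_mul] at this
  exact (QuotientGroup.eq_one_iff a).1 h1

theorem isSquare_or_mul {ν₀ x : F} (h2 : (2 : F) ≠ 0) (hν : ¬ IsSquare ν₀) : IsSquare x ∨ IsSquare (ν₀ * x) := by
  by_cases h : IsSquare x
  · exact Or.inl h
  · exact Or.inr (Classical.isSquare_of_two_nonsquares h2 hν h)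

/-- A unipotent isometry of a given type with an odd part, in any non-degenerate quadratic space of that dimension. -/
theorem exists_isometry (p : ℕ) [Fact p.Prime] [CharP F p] (h2 : (2 : F) ≠ 0) (Q : QuadraticForm F (ι → F))
    (hQ : (QuadraticMap.polarBilin Q).Nondegenerate) (μ : Multiset ℕ) (hμ : Good p μ) (hsum : μ.sum = Fintype.card ι)
    (hodd : ∃ e ∈ μ, Odd e) (hne : ∃ e ∈ μ, e ≠ 1) :
    ∃ A : GL ι F, A ∈ Geo.omegaGL ⇑Q ∧ orderOf A = p ∧ IsNilpotent ((A : Matrix ι ι F) - 1) ∧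
      GLUnipotentTypes.mparts ((A : Matrix ι ι F) - 1) = μ ∧ (∀ z : F, (A : Matrix ι ι F) ≠ z • (1 : Matrix ι ι F)) := by
  classical
  obtain ⟨a, ha, hao⟩ := hodd
  obtain ⟨μ', rfl⟩ := Multiset.exists_cons_of_mem ha
  obtain ⟨ι₁, _, _, g₁, S₁, hS₁, hS₁u, hg₁, hn₁, hp₁⟩ := UnipotentRealisation.oform_single (F := F) p h2 hao
  obtain ⟨ι₂, _, _, g₂, S₂, hS₂, hS₂u, hg₂, hn₂, hp₂⟩ := UnipotentRealisation.exists_oform (F := F) p h2 μ'
    (fun e he => (hμ.1 e (Multiset.mem_cons_of_mem he)).1) (fun e _ he => by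
      have := hμ.2 e (Nat.not_odd_iff_even.1 he)
      rwa [Multiset.count_cons_of_ne (fun h => he (by rw [h]; exact hao))] at this)
  have hc₁ : Fintype.card ι₁ = a := by rw [← GLUnipotentTypes.sum_mparts hn₁, hp₁, Multiset.sum_singleton]
  have hg : ∀ c : F, (Matrix.fromBlocks g₁ 0 0 g₂)ᵀ * Matrix.fromBlocks (c • S₁) 0 0 S₂ * Matrix.fromBlocks g₁ 0 0 g₂ =
      Matrix.fromBlocks (c • S₁) 0 0 S₂ := fun c => by
    rw [Matrix.fromBlocks_transpose, Matrix.transpose_zero, Matrix.transpose_zero, Matrix.fromBlocks_multiply,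
      Matrix.fromBlocks_multiply]
    simp only [Matrix.mul_zero, Matrix.zero_mul, add_zero, zero_add, Matrix.mul_smul, Matrix.smul_mul, smul_zero, hg₁, hg₂]
  obtain ⟨ν₀, hν₀⟩ := FiniteField.exists_nonsquare (F := F) fun h => h2 (by
    have h' : ((ringChar F : ℕ) : F) = 0 := ringChar.Nat.cast_ringChar
    rwa [h, Nat.cast_ofNat] at h')
  set D₀ := Classical.gramDet (QuadraticMap.polarBilin Q) (Pi.basisFun F ι)
  set n₁₂ := Fintype.card (ι₁ ⊕ ι₂)
  have hν0 : ν₀ ≠ 0 := fun h => hν₀ (h ▸ IsSquare.zero)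
  obtain ⟨c, hc0, hcsq⟩ : ∃ c : F, c ≠ 0 ∧ IsSquare ((2 : F) ^ n₁₂ * (c ^ a * S₁.det * S₂.det) * D₀) := by
    rcases isSquare_or_mul (x := (2 : F) ^ n₁₂ * (S₁.det * S₂.det) * D₀) h2 hν₀ with h | h
    · exact ⟨1, one_ne_zero, by rwa [one_pow, one_mul]⟩
    · refine ⟨ν₀, hν0, ?_⟩
      obtain ⟨r, hr⟩ := hao
      obtain ⟨t, ht⟩ := h
      exact ⟨ν₀ ^ r * t, by rw [hr, pow_succ, pow_mul]; linear_combination (ν₀ ^ r) ^ 2 * ht⟩
  set S := Matrix.fromBlocks (c • S₁) 0 0 S₂
  set G := Matrix.fromBlocks g₁ 0 0 g₂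
  have hSt : Sᵀ = S := by
    simp only [S, Matrix.fromBlocks_transpose, Matrix.transpose_smul, hS₁, hS₂, Matrix.transpose_zero]
  have hSdet : S.det = c ^ a * S₁.det * S₂.det := by
    simp only [S, Matrix.det_fromBlocks_zero₂₁, Matrix.det_smul, hc₁]
  let QS : QuadraticForm F (ι₁ ⊕ ι₂ → F) := LinearMap.BilinMap.toQuadraticMap (Matrix.toBilin' S)
  have hpol : QuadraticMap.polarBilin QS = Matrix.toBilin' ((2 : F) • S) := by
    refine LinearMap.ext₂ fun u v => ?_
    rw [LinearMap.BilinMap.polarBilin_toQuadraticMap, LinearMap.add_apply, LinearMap.add_apply, LinearMap.flip_apply,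
      Matrix.toBilin'_apply', Matrix.toBilin'_apply', Matrix.toBilin'_apply', Matrix.smul_mulVec, dotProduct_smul,
      smul_eq_mul, two_mul, Matrix.dotProduct_mulVec v, ← Matrix.mulVec_transpose, hSt, dotProduct_comm _ u]
  have hQS : (QuadraticMap.polarBilin QS).Nondegenerate := by
    rw [hpol]
    refine LinearMap.BilinForm.nondegenerate_toBilin'_iff_det_ne_zero.2 ?_
    rw [Matrix.det_smul, hSdet]
    exact mul_ne_zero (pow_ne_zero _ h2) (mul_ne_zero (mul_ne_zero (pow_ne_zero _ hc0) hS₁u.ne_zero) hS₂u.ne_zero)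
  have hgram : Classical.gramDet (QuadraticMap.polarBilin QS) (Pi.basisFun F (ι₁ ⊕ ι₂)) =
      (2 : F) ^ n₁₂ * (c ^ a * S₁.det * S₂.det) := by
    rw [Classical.gramDet, hpol]
    show (LinearMap.BilinForm.toMatrix' (Matrix.toBilin' ((2 : F) • S))).det = _
    rw [LinearMap.BilinForm.toMatrix'_toBilin', Matrix.det_smul, hSdet]
  have hnG : IsNilpotent (G - 1) ∧ GLUnipotentTypes.mparts (G - 1) = a ::ₘ μ' := by
    have e : G - 1 = Matrix.fromBlocks (g₁ - 1) 0 0 (g₂ - 1) := by
      rw [← Matrix.fromBlocks_one]; ext (i | i) (j | j) <;> simp [G, Matrix.one_apply]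
    rw [e]
    exact ⟨UnipotentRealisation.nil_fromBlocks hn₁ hn₂, by
      rw [UnipotentRealisation.mparts_fromBlocks hn₁ hn₂, hp₁, hp₂, Multiset.singleton_add]⟩
  have hcard : n₁₂ = Fintype.card ι := by
    show Fintype.card (ι₁ ⊕ ι₂) = _
    rw [← GLUnipotentTypes.sum_mparts hnG.1, hnG.2, hsum]
  obtain ⟨φ, hφ⟩ := (Classical.isometric_iff_disc h2 hQS hQ (Pi.basisFun F (ι₁ ⊕ ι₂)) (Pi.basisFun F ι) hcard).2
    (by rw [hgram]; exact hcsq)
  let T : Module.End F (ι → F) := (φ.toLinearMap ∘ₗ Matrix.toLinAlgEquiv' G) ∘ₗ φ.symm.toLinearMap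
  set M := LinearMap.toMatrixAlgEquiv' T
  have hMv : ∀ w, M *ᵥ w = φ (G *ᵥ φ.symm w) := fun w => by
    show Matrix.toLinAlgEquiv' M w = _
    rw [Matrix.toLinAlgEquiv'_toMatrixAlgEquiv']; rfl
  have hn : IsNilpotent (Matrix.toLinAlgEquiv' (G - 1)) := GLUnipotentTypes.nil_end hnG.1
  have hsub : ∀ x, φ (Matrix.toLinAlgEquiv' (G - 1) x) = Matrix.toLinAlgEquiv' (M - 1) (φ x) := fun x => by
    simp only [Matrix.toLinAlgEquiv'_apply, Matrix.sub_mulVec, Matrix.one_mulVec]
    rw [map_sub, hMv, LinearEquiv.symm_apply_apply]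
  have hparts : GLUnipotentTypes.mparts (M - 1) = a ::ₘ μ' :=
    (JordanChains.parts_congr hn φ hsub).trans hnG.2
  have hMn : IsNilpotent (M - 1) := by
    obtain ⟨l, hl⟩ := hn
    refine ⟨l, Matrix.toLinAlgEquiv'.injective (LinearMap.ext fun w => ?_)⟩
    have hit : ∀ (j : ℕ) x, φ ((Matrix.toLinAlgEquiv' (G - 1) ^ j) x) = (Matrix.toLinAlgEquiv' (M - 1) ^ j) (φ x) := fun j => by
      induction j with
      | zero => intro x; rfl
      | succ j ih => intro x; rw [JordanChains.pow_succ_apply, hsub, ih, JordanChains.pow_succ_apply]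
    rw [map_pow, map_zero, ← φ.apply_symm_apply w, ← hit, hl]
    simp
  have hMp0 : (M - 1) ^ p = 0 :=
    (GLUnipotentTypes.pow_eq_zero_iff hMn p).2 (hparts ▸ fun e he => (hμ.1 e he).2)
  haveI : Nonempty ι := Fintype.card_pos_iff.1 (by rw [← hsum, Multiset.sum_cons]; have := hao.pos; omega)
  have hMp : M ^ p = 1 := by
    rw [← add_sub_cancel 1 M, add_pow_char_of_commute p (Commute.one_left _), one_pow, hMp0, add_zero]
  obtain ⟨A, hAM⟩ : IsUnit M := by
    have := IsNilpotent.isUnit_one_add hMn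
    rwa [add_sub_cancel] at this
  have hAiso : A ∈ isometryGroup F ⇑Q := Classical.mem_isometryGroup.2 fun w => by
    rw [hAM, hMv, hφ]
    conv_rhs => rw [← φ.apply_symm_apply w, hφ]
    simp only [QS, LinearMap.BilinMap.toQuadraticMap_apply, Matrix.toBilin'_apply']
    conv_rhs => rw [← show Gᵀ * S * G = S from hg c, ← Matrix.mulVec_mulVec, ← Matrix.mulVec_mulVec, Matrix.dotProduct_mulVec,
      Matrix.vecMul_transpose]
  have hAp : A ^ p = 1 := Units.ext (by rw [Units.val_pow_eq_pow_val, hAM, hMp, Units.val_one])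
  have hM1 : M ≠ 1 := fun h => by
    obtain ⟨e, he, he1⟩ := hne
    have h0 : M - 1 = 0 := sub_eq_zero.2 h
    exact he1 ((GLUnipotentTypes.eq_zero_iff hMn).1 h0 e (hparts.symm ▸ he))
  refine ⟨A, mem_omegaGL h2 Q hQ A hAiso ((Fact.out : p.Prime).odd_of_ne_two fun hp2 => h2 ?_) hAp,
    orderOf_eq_prime hAp (fun h => hM1 (by rw [← hAM, h, Units.val_one])), hAM ▸ hMn, hAM ▸ hparts, fun z hz => ?_⟩
  · subst hp2
    exact_mod_cast CharP.cast_eq_zero F 2
  · rw [hAM] at hz
    have hz1 : M - 1 = (z - 1) • (1 : Matrix ι ι F) := by rw [hz, sub_smul, one_smul]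
    have hz0 : z - 1 = 0 := by
      by_contra hne'
      rw [hz1, smul_pow, one_pow] at hMp0
      exact pow_ne_zero p hne' ((smul_eq_zero.1 hMp0).resolve_right one_ne_zero)
    exact hM1 (sub_eq_zero.1 (by rw [hz1, hz0, zero_smul]))

/-- The consequences of all elements of order `p` fixing a subspace in the given family. -/
theorem partitions_of_fixes (p : ℕ) [Fact p.Prime] [CharP F p] (h2 : (2 : F) ≠ 0) (Q : QuadraticForm F (ι → F))
    (hQ : (QuadraticMap.polarBilin Q).Nondegenerate) {m : ℕ} (P : Submodule F (ι → F) → Prop)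
    (hP : ∀ W, P W → Module.finrank F W = m ∧ Geo.IsNondegenerateOn (QuadraticMap.polar ⇑Q) W)
    (hfix : ∀ A : GL ι F, A ∈ Geo.omegaGL ⇑Q → orderOf A = p → (∀ z : F, (A : Matrix ι ι F) ≠ z • (1 : Matrix ι ι F)) →
      ∃ W, P W ∧ W.map (Matrix.toLin' (A : Matrix ι ι F)) ≤ W)
    (μ : Multiset ℕ) (hμ : Good p μ) (hsum : μ.sum = Fintype.card ι) (hodd : ∃ e ∈ μ, Odd e) (hne : ∃ e ∈ μ, e ≠ 1) :
    ∃ ν : Multiset ℕ, ν ≤ μ ∧ ν.sum = m ∧ (∀ e : ℕ, Even e → Even (ν.count e)) ∧
      ∃ W, P W ∧ ((∀ e ∈ ν, Even e) → Geo.IsPlusTypeOn (⇑Q) W) := by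
  obtain ⟨A, hAΩ, hAo, hAn, hAp, hAs⟩ := exists_isometry p h2 Q hQ μ hμ hsum hodd hne
  obtain ⟨W, hW, hWA⟩ := hfix A hAΩ hAo hAs
  obtain ⟨B, -, hB⟩ := hAΩ
  obtain ⟨ν, hν, hνs, hνe, hνp⟩ := invariant_subspace h2 Q A (hB ▸ B.2) hAn (hP W hW).2 hWA
  exact ⟨ν, hAp ▸ hν, hνs.trans (hP W hW).1, hνe, W, hW, hνp⟩

/-- Sub-partitions of `2^k + rest`. -/
theorem sub_twos {k : ℕ} {R ν : Multiset ℕ} (hν : ν ≤ Multiset.replicate k 2 + R) (hR : 2 ∉ R) :
    ∃ R', R' ≤ R ∧ ν = Multiset.replicate (ν.count 2) 2 + R' := by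
  refine ⟨ν.filter (fun e => ¬ (2 = e)), ?_, ?_⟩
  · refine (Multiset.filter_le_filter _ hν).trans ?_
    rw [Multiset.filter_add, Multiset.filter_eq_nil.2 fun e he h => h (Multiset.eq_of_mem_replicate he).symm, zero_add]
    exact Multiset.filter_le _ _
  · rw [← Multiset.filter_eq, Multiset.filter_add_not]

end Cfsg.Agent.OrthJordanTypes
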