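import Cfsg.Agent.Lib.Classical.OrthEvenOddDisc
import Cfsg.Agent.Lib.Classical.InvolutionRanks
import Cfsg.Agent.Lib.Classical.OrthJordanTypes

/-! Unipotent isometries of even dimensional spaces with one block of size three: the invariant non-degenerate
subspaces of odd dimension form one isometry class. -/

set_option autoImplicit false
set_option linter.unusedSectionVars false

namespace Cfsg.Agent.OrthEvenOddUnipotent

open Module Cfsg.Agent.Classical Cfsg.Agent.OrthEvenOddDisc Cfsg.Agent.OrthSingularCount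

variable {F : Type*} [Field F] [Fintype F] {V : Type*} [AddCommGroup V] [Module F V] [FiniteDimensional F V]
  {Q : QuadraticForm F V} (h2 : (2 : F) ≠ 0) (hQ : (QuadraticMap.polarBilin Q).Nondegenerate) (N : Module.End F V)
  (hiso : ∀ x, Q (x + N x) = Q x)

set_option quotPrecheck false
local notation "B" => QuadraticMap.polar ⇑Q


include hiso in
theorem skew (x y : V) : B (N x) y + B x (N y) + B (N x) (N y) = 0 := by
  have h : B (x + N x) (y + N y) = B x y := by
    simp only [QuadraticMap.polar]
    rw [show x + N x + (y + N y) = (x + y) + N (x + y) by rw [map_add]; abel, hiso, hiso, hiso]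
  rw [QuadraticMap.polar_add_left, QuadraticMap.polar_add_right, QuadraticMap.polar_add_right] at h
  linear_combination h

include hiso in
/-- The kernel is orthogonal to the image. -/
theorem ker_perp {v : V} (hv : N v = 0) (y : V) : B v (N y) = 0 := by
  have h := skew N hiso v y
  rwa [hv, QuadraticMap.polar_zero_left, QuadraticMap.polar_zero_left, zero_add, add_zero] at h

include h2 hQ hiso in
/-- An isometry `1 + N` with `N² = 0` in odd dimension, the image of the largest possible size. -/
theorem square_zero_split (hNN : ∀ x, N (N x) = 0) {t : ℕ} (hV : finrank F V = 2 * t + 1)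
    (ht : finrank F (LinearMap.range N) = t) :
    Even t ∧ ∃ v, N v = 0 ∧ Q v ≠ 0 ∧ IsSquare (disc Q * (2 * Q v)) := by
  classical
  have hNN' : ∀ x y, B (N x) (N y) = 0 := fun x y => ker_perp N hiso (hNN x) y
  have hs : ∀ x y, B (N x) y = -B x (N y) := fun x y => by
    have h := skew N hiso x y
    rw [hNN', add_zero] at h
    exact eq_neg_of_add_eq_zero_left h
  set A := LinearMap.range N
  set C := LinearMap.ker N
  have hrefl : (pol Q).IsRefl := fun u v h => by
    show B v u = 0
    rw [QuadraticMap.polar_comm]; exact h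
  have hAC : (pol Q).orthogonal A = C := by
    ext x
    rw [LinearMap.BilinForm.mem_orthogonal_iff, LinearMap.mem_ker]
    refine ⟨fun h => hQ.1 _ fun y => ?_, fun h => ?_⟩
    · show B (N x) y = 0
      rw [hs, neg_eq_zero]
      rw [QuadraticMap.polar_comm]
      exact h _ ⟨y, rfl⟩
    · rintro _ ⟨y, rfl⟩
      show B (N y) x = 0
      rw [QuadraticMap.polar_comm]
      exact ker_perp N hiso h y
  have hCA : (pol Q).orthogonal C = A := by
    rw [← hAC]; exact LinearMap.BilinForm.orthogonal_orthogonal hQ hrefl A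
  have hC : finrank F C = t + 1 := by
    have h := LinearMap.finrank_range_add_finrank_ker N
    simp only [A, C] at *
    omega
  have heven : Even t := by
    let D : LinearMap.BilinForm F V := (pol Q).compl₁₂ N LinearMap.id
    have hA : D.IsAlt := fun x => by
      have h : B (N x) x = -B (N x) x := by
        conv_lhs => rw [hs, QuadraticMap.polar_comm]
      rw [eq_neg_iff_add_eq_zero, ← two_mul] at h
      exact (mul_eq_zero.1 h).resolve_left h2
    obtain ⟨k, hk⟩ := Cfsg.Agent.Lie.alt_rank_even D hA _ ⊤ rfl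
    have : (⊤ : Submodule F V) ⊓ D.orthogonal ⊤ = C := by
      ext y
      rw [Submodule.mem_inf, LinearMap.BilinForm.mem_orthogonal_iff, ← hAC, LinearMap.BilinForm.mem_orthogonal_iff]
      refine ⟨fun h z hz => ?_, fun h => ⟨Submodule.mem_top, fun x _ => h _ ⟨x, rfl⟩⟩⟩
      obtain ⟨x, rfl⟩ := hz
      exact h.2 x Submodule.mem_top
    rw [this, hC, finrank_top, hV] at hk
    exact ⟨k, by omega⟩
  refine ⟨heven, ?_⟩
  · obtain ⟨v, hv, hv0⟩ : ∃ v ∈ C, Q v ≠ 0 := by
      by_contra hno
      push Not at hno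
      have hle : C ≤ (pol Q).orthogonal C := fun y hy x hx => by
        show B x y = 0
        rw [QuadraticMap.polar, hno _ (C.add_mem hx hy), hno _ hx, hno _ hy]
        simp
      rw [hCA] at hle
      have := Submodule.finrank_mono hle
      simp only [A] at *
      omega
    refine ⟨v, hv, hv0, ?_⟩
    have hvne : v ≠ 0 := fun e => hv0 (by rw [e, QuadraticMap.map_zero])
    have hn : (QuadraticMap.polarBilin (EvenType.res Q (Submodule.span F {v}))).Nondegenerate := by
      refine EvenType.nondeg_res fun a ha ha0 => ?_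
      obtain ⟨c, rfl⟩ := Submodule.mem_span_singleton.1 ha
      refine ⟨v, Submodule.mem_span_singleton_self v, ?_⟩
      rw [QuadraticMap.polar_smul_left, smul_eq_mul, polar_self2]
      exact mul_ne_zero (fun e => ha0 (by rw [e, zero_smul])) (mul_ne_zero h2 hv0)
    have hsp := OrthNondegCount.split_perp hn
    set P := OrthNondegCount.perp Q (Submodule.span F {v})
    have hPd : finrank F P = 2 * t := by
      have := hsp.dim
      rw [finrank_span_singleton hvne, hV] at this
      omega
    have hAP : A ≤ P := by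
      rintro _ ⟨y, rfl⟩ w hw
      obtain ⟨c, rfl⟩ := Submodule.mem_span_singleton.1 hw
      show B (c • v) (N y) = 0
      rw [QuadraticMap.polar_smul_left, ker_perp N hiso hv y, smul_zero]
    have hPn := hsp.symm.nondeg_left hQ
    have hPsq : IsSquare (disc (EvenType.res Q P)) := by
      obtain ⟨k, hk⟩ := heven
      rcases Nat.eq_zero_or_pos t with ht0 | ht0
      · haveI : IsEmpty (Fin (finrank F P)) := by
          exact ⟨fun i => by have := i.isLt; omega⟩
        rw [disc, gramDet, Matrix.det_isEmpty]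
        exact IsSquare.one
      obtain ⟨a, ha⟩ : ∃ a, t = a + 1 := ⟨t - 1, by omega⟩
      have hp : EvenType.Plus (EvenType.res Q P) := by
        refine ⟨A.comap P.subtype, fun u hu => ?_, ?_⟩
        · obtain ⟨y, hy⟩ := hu
          have hy' : N y = (u : V) := hy
          rw [EvenType.res_apply, ← hy']
          have h := hNN' y y
          rw [polar_self2] at h
          exact (mul_eq_zero.1 h).resolve_left h2
        · rw [(Submodule.comapSubtypeEquivOfLe hAP).finrank_eq, hPd, ← ht]
      have h := (EvenType.plus_iff_disc h2 hPn (m := a) (by omega) (Module.finBasis F P)).1 hp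
      rwa [show (-1 : F) ^ (a + 1) = 1 from Even.neg_one_pow ⟨k, by omega⟩, one_mul] at h
    have h1 := disc_split hsp
    have h3 := disc_line Q hvne
    obtain ⟨s, hs'⟩ := hPsq
    have hs0 : s ≠ 0 := fun e => disc_ne_zero hPn (by rw [hs', e, mul_zero])
    obtain ⟨u, hu⟩ := h1
    refine sq_trans (b := disc (EvenType.res Q (Submodule.span F {v}))) ⟨u / s, ?_⟩ (by rwa [mul_comm] at h3)
      (disc_ne_zero hn)
    rw [hs'] at hu
    field_simp
    linear_combination hu

include hQ hiso in
theorem one_add_injective {x : V} (hx : x + N x = 0) : x = 0 := by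
  refine hQ.1 _ fun y => ?_
  show B x y = 0
  have h : B (x + N x) (y + N y) = B x y := by
    simp only [QuadraticMap.polar]
    rw [show x + N x + (y + N y) = (x + y) + N (x + y) by rw [map_add]; abel, hiso, hiso, hiso]
  rw [hx, QuadraticMap.polar_zero_left] at h
  exact h.symm

include hQ hiso in
theorem perp_invariant {W : Submodule F V} (hW : ∀ x ∈ W, N x ∈ W) {b : V} (hb : b ∈ OrthNondegCount.perp Q W) :
    N b ∈ OrthNondegCount.perp Q W := by
  rw [OrthNondegCount.mem_perp] at hb ⊢
  intro w hw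
  let g : Module.End F W := (LinearMap.id + N).restrict fun x hx => W.add_mem hx (hW x hx)
  by_cases hg : Function.Injective g
  · obtain ⟨⟨z, hz⟩, hgz⟩ := LinearMap.surjective_of_injective hg ⟨w, hw⟩
    have hzw : z + N z = w := congrArg Subtype.val hgz
    have h := skew N hiso z b
    rw [hb _ (hW z hz), zero_add, ← QuadraticMap.polar_add_left, hzw] at h
    exact h
  · refine absurd ((injective_iff_map_eq_zero g).2 fun a ha => Subtype.ext (one_add_injective hQ N hiso ?_)) hg
    exact congrArg Subtype.val ha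

include h2 hQ hiso in
/-- An invariant subspace killed by `N²`. -/
theorem killed (hK : finrank F (LinearMap.ker N) ≤ finrank F (LinearMap.ker N ⊓ LinearMap.range N : Submodule F V) + 1)
    {W : Submodule F V} (hWn : (QuadraticMap.polarBilin (EvenType.res Q W)).Nondegenerate)
    (hW : ∀ x ∈ W, N x ∈ W) (hWk : ∀ x ∈ W, N (N x) = 0) {m : ℕ} (hm : Odd m) (hWd : finrank F W = m) :
    m % 4 = 1 ∧ ∃ v, N v = 0 ∧ Q v ≠ 0 ∧ IsSquare (disc (EvenType.res Q W) * (2 * Q v)) := by
  classical
  set M : Module.End F W := N.restrict hW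
  have hMM : ∀ x, M (M x) = 0 := fun x => Subtype.ext (hWk x x.2)
  set t := finrank F (LinearMap.range M)
  have hrk : t + finrank F (LinearMap.ker M) = m := hWd ▸ LinearMap.finrank_range_add_finrank_ker M
  have hle : t ≤ finrank F (LinearMap.ker M) := Submodule.finrank_mono fun x hx => by
    obtain ⟨y, rfl⟩ := hx
    exact LinearMap.mem_ker.2 (hMM y)
  have hs := OrthNondegCount.split_perp hWn
  set K := LinearMap.ker N
  set R := K ⊓ LinearMap.range N
  set KU := (LinearMap.ker M).map W.subtype
  have hKU : finrank F KU = finrank F (LinearMap.ker M) := Submodule.finrank_map_subtype_eq _ _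
  have hKUK : KU ≤ K := by
    rintro _ ⟨x, hx, rfl⟩
    exact LinearMap.mem_ker.2 (congrArg Subtype.val (LinearMap.mem_ker.1 hx))
  have hinf : KU ⊓ R ≤ (LinearMap.range M).map W.subtype := by
    rintro x ⟨hx, -, y, hy⟩
    have hxW : x ∈ W := Submodule.map_subtype_le _ _ hx
    obtain ⟨a, ha, b, hb, hab⟩ := Submodule.mem_sup.1 (hs.sup.symm ▸ Submodule.mem_top : y ∈ W ⊔ _)
    have hNb : N b ∈ OrthNondegCount.perp Q W := perp_invariant hQ N hiso hW hb
    have hzero : N b = 0 := by
      rw [← Submodule.mem_bot F, ← hs.inf]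
      refine ⟨?_, hNb⟩
      rw [show N b = x - N a by rw [← hy, ← hab, map_add]; abel]
      exact W.sub_mem hxW (hW a ha)
    exact ⟨M ⟨a, ha⟩, LinearMap.mem_range_self M _, by
      show N a = x
      rw [← hy, ← hab, map_add, hzero, add_zero]⟩
  have h1 := Submodule.finrank_sup_add_finrank_inf_eq KU R
  have h3 : finrank F (KU ⊔ R : Submodule F V) ≤ finrank F K := Submodule.finrank_mono (sup_le hKUK inf_le_left)
  have h4 := Submodule.finrank_mono hinf
  rw [Submodule.finrank_map_subtype_eq] at h4
  obtain ⟨k, hk⟩ := hm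
  have hmt : m = 2 * t + 1 := by omega
  obtain ⟨⟨l, hl⟩, v, hv, hv0, hd⟩ := square_zero_split h2 hWn M (fun x => hiso x) hMM (t := t) (by omega) rfl
  exact ⟨by omega, v, congrArg Subtype.val hv, hv0, hd⟩

include h2 hQ hiso in
/-- The values on the kernel lie in one square class. -/
theorem ker_class (hK : finrank F (LinearMap.ker N) ≤ finrank F (LinearMap.ker N ⊓ LinearMap.range N : Submodule F V) + 1)
    {v v' : V} (hv : N v = 0) (hv0 : Q v ≠ 0) (hv' : N v' = 0) : IsSquare (2 * Q v' * (2 * Q v)) := by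
  set R := LinearMap.ker N ⊓ LinearMap.range N
  have hR0 : ∀ x ∈ R, Q x = 0 ∧ B v x = 0 := fun x hx => by
    obtain ⟨hx0, y, hy⟩ := hx
    subst hy
    have h := ker_perp N hiso (LinearMap.mem_ker.1 hx0) y
    rw [polar_self2] at h
    exact ⟨(mul_eq_zero.1 h).resolve_left h2, ker_perp N hiso hv y⟩
  have hvR : v ∉ R := fun h => hv0 (hR0 v h).1
  have hlt : R < R ⊔ Submodule.span F {v} := lt_of_le_of_ne le_sup_left fun e =>
    hvR (e ▸ Submodule.mem_sup_right (Submodule.mem_span_singleton_self v))
  have heq : R ⊔ Submodule.span F {v} = LinearMap.ker N :=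
    Submodule.eq_of_le_of_finrank_le (sup_le inf_le_left ((Submodule.span_singleton_le_iff_mem _ _).2 hv))
      (by have := Submodule.finrank_lt_finrank_of_lt hlt; omega)
  obtain ⟨x, hx, y, hy, rfl⟩ := Submodule.mem_sup.1 (heq.symm ▸ (LinearMap.mem_ker.2 hv') : v' ∈ R ⊔ Submodule.span F {v})
  obtain ⟨c, rfl⟩ := Submodule.mem_span_singleton.1 hy
  refine ⟨c * (2 * Q v), ?_⟩
  rw [QuadraticMap.map_add (⇑Q), QuadraticMap.map_smul, QuadraticMap.polar_smul_right, QuadraticMap.polar_comm _ x v,
    (hR0 x hx).1, (hR0 x hx).2, smul_eq_mul, smul_eq_mul]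
  ring

include h2 hQ hiso in
/-- Two invariant non-degenerate subspaces of one odd dimension have the same discriminant. -/
theorem pair (hK : finrank F (LinearMap.ker N) ≤ finrank F (LinearMap.ker N ⊓ LinearMap.range N : Submodule F V) + 1)
    (hN2 : finrank F (LinearMap.range (N ∘ₗ N)) = 1) {d : ℕ} (hV : finrank F V = 2 * d) (hd : Even d) {m : ℕ}
    (hm : Odd m) {W W' : Submodule F V} (hWn : (QuadraticMap.polarBilin (EvenType.res Q W)).Nondegenerate)
    (hW : ∀ x ∈ W, N x ∈ W) (hWd : finrank F W = m)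
    (hWn' : (QuadraticMap.polarBilin (EvenType.res Q W')).Nondegenerate) (hW' : ∀ x ∈ W', N x ∈ W')
    (hWd' : finrank F W' = m) : IsSquare (disc (EvenType.res Q W) * disc (EvenType.res Q W')) := by
  classical
  have hperp : ∀ U : Submodule F V, (QuadraticMap.polarBilin (EvenType.res Q U)).Nondegenerate →
      (∀ x ∈ U, N x ∈ U) → finrank F U = m →
      (∀ x ∈ U, N (N x) = 0) ∨ ((∀ x ∈ OrthNondegCount.perp Q U, N (N x) = 0) ∧ finrank F (OrthNondegCount.perp Q U) = 2 * d - m) := by
    intro U hUn hU hUd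
    by_cases hk : ∀ x ∈ U, N (N x) = 0
    · exact Or.inl hk
    push Not at hk
    obtain ⟨a, ha, ha0⟩ := hk
    have hs := OrthNondegCount.split_perp hUn
    refine Or.inr ⟨fun x hx => ?_, by have := hs.dim; omega⟩
    obtain ⟨w, -, hw⟩ := finrank_eq_one_iff'.1 hN2
    obtain ⟨c, hc⟩ := hw ⟨N (N x), x, rfl⟩
    obtain ⟨e, he⟩ := hw ⟨N (N a), a, rfl⟩
    have he' : e • (w : V) = N (N a) := congrArg Subtype.val he
    have hc' : c • (w : V) = N (N x) := congrArg Subtype.val hc
    have he0 : e ≠ 0 := fun h => ha0 (by rw [← he', h, zero_smul])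
    rw [← Submodule.mem_bot F, ← hs.inf]
    refine ⟨?_, perp_invariant hQ N hiso hU (perp_invariant hQ N hiso hU hx)⟩
    rw [← hc', show c • (w : V) = (c / e) • N (N a) by rw [← he', smul_smul, div_mul_cancel₀ _ he0]]
    exact U.smul_mem _ (hU _ (hU a ha))
  have hcl : ∀ U U' : Submodule F V, (QuadraticMap.polarBilin (EvenType.res Q U)).Nondegenerate →
      (∀ x ∈ U, N x ∈ U) → (∀ x ∈ U, N (N x) = 0) → (QuadraticMap.polarBilin (EvenType.res Q U')).Nondegenerate →
      (∀ x ∈ U', N x ∈ U') → (∀ x ∈ U', N (N x) = 0) → ∀ l, Odd l → finrank F U = l → finrank F U' = l →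
      IsSquare (disc (EvenType.res Q U) * disc (EvenType.res Q U')) := by
    intro U U' hUn hU hUk hUn' hU' hUk' l hl hUd hUd'
    obtain ⟨-, v, hv, hv0, hvd⟩ := killed h2 hQ N hiso hK hUn hU hUk hl hUd
    obtain ⟨-, v', hv', hv0', hvd'⟩ := killed h2 hQ N hiso hK hUn' hU' hUk' hl hUd'
    have h := ker_class h2 hQ N hiso hK hv hv0 hv'
    exact sq_trans (sq_trans hvd h (mul_ne_zero h2 hv0)) hvd' (mul_ne_zero h2 hv0')
  obtain ⟨l, hl⟩ := hd
  obtain ⟨j, hj⟩ := hm
  have hj' : Odd m := ⟨j, hj⟩
  have hodd : Odd (2 * d - m) ∨ 2 * d ≤ m := by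
    by_cases h : 2 * d ≤ m
    · exact Or.inr h
    · exact Or.inl ⟨d - j - 1, by omega⟩
  have hmle : m ≤ 2 * d := hV ▸ hWd ▸ Submodule.finrank_le W
  have hodd' : Odd (2 * d - m) := hodd.resolve_right (by omega)
  rcases hperp W hWn hW hWd with hk | ⟨hk, hkd⟩ <;> rcases hperp W' hWn' hW' hWd' with hk' | ⟨hk', hkd'⟩
  · exact hcl W W' hWn hW hk hWn' hW' hk' m hj' hWd hWd'
  · obtain ⟨h1, -⟩ := killed h2 hQ N hiso hK hWn hW hk hj' hWd
    obtain ⟨h3, -⟩ := killed h2 hQ N hiso hK ((OrthNondegCount.split_perp hWn').symm.nondeg_left hQ)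
      (fun x hx => perp_invariant hQ N hiso hW' hx) hk' hodd' hkd'
    omega
  · obtain ⟨h1, -⟩ := killed h2 hQ N hiso hK hWn' hW' hk' hj' hWd'
    obtain ⟨h3, -⟩ := killed h2 hQ N hiso hK ((OrthNondegCount.split_perp hWn).symm.nondeg_left hQ)
      (fun x hx => perp_invariant hQ N hiso hW hx) hk hodd' hkd
    omega
  · have hs := OrthNondegCount.split_perp hWn
    have hs' := OrthNondegCount.split_perp hWn'
    have hP := hs.symm.nondeg_left hQ
    have hP' := hs'.symm.nondeg_left hQ
    have h := hcl _ _ hP (fun x hx => perp_invariant hQ N hiso hW hx) hk hP'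
      (fun x hx => perp_invariant hQ N hiso hW' hx) hk' _ hodd' hkd hkd'
    have h1 := disc_split hs
    have h3 := disc_split hs'
    rw [mul_comm (disc Q)] at h1 h3
    have h5 := sq_trans h1 h3 (disc_ne_zero hQ)
    obtain ⟨u, hu⟩ := h
    have hu0 : u ≠ 0 := fun e => mul_ne_zero (disc_ne_zero hP) (disc_ne_zero hP') (by rw [hu, e, mul_zero])
    obtain ⟨z, hz⟩ := h5
    refine ⟨z / u, ?_⟩
    field_simp
    linear_combination hz - disc (EvenType.res Q W) * disc (EvenType.res Q W') * hu

end Cfsg.Agent.OrthEvenOddUnipotent
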