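import Cfsg.Agent.Lib.Classical.OrthEvenInvolutions

/-!
Representatives of the involution classes of `O±(2m, q)`, `q` even, and their number.
-/

set_option autoImplicit false
set_option quotPrecheck false

namespace Cfsg.Agent.Classical.SympEven

open Module Matrix Cfsg.Agent.Classical Cfsg.Agent.Classical.OrthAut

universe u

variable {F : Type u} [Field F] [CharP F 2]

attribute [-simp] QuadraticMap.polarBilin_apply_apply

section General

variable {ι : Type} [Fintype ι] [DecidableEq ι] {Q : QuadraticForm F (ι → F)}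

omit [CharP F 2] in
/-- An involutive linear isometry as a group element. -/
theorem exists_inv_elem (T : Module.End F (ι → F)) (hT : ∀ v, T (T v) = v) (hQ : ∀ v, Q (T v) = Q v) :
    ∃ g : isometryGroup F ⇑Q, g ^ 2 = 1 ∧ ∀ v, ogVal g *ᵥ v = T v := by
  obtain ⟨g, hg⟩ := exists_of_qiso (Q := Q) (LinearEquiv.ofLinear T T (LinearMap.ext hT) (LinearMap.ext hT)) hQ
  refine ⟨g, ogVal_ext (Matrix.ext_iff_mulVec.2 fun v => ?_), hg⟩
  rw [sq, ogVal_mul, ← Matrix.mulVec_mulVec, hg, hg, ogVal_one, Matrix.one_mulVec]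
  exact hT v

/-- The rank from a witnessing family. -/
theorem rank_of_witness {I : Type} [Fintype I] [DecidableEq I] {B : LinearMap.BilinForm F (ι → F)}
    {N : Module.End F (ι → F)} (u : I → ι → F) (G : Matrix I I F) (hG : IsUnit G.det)
    (hu : ∀ i j, B (u i) (N (u j)) = G i j) (hdet : ∀ v, (∀ i, B (u i) (N v) = 0) → N v = 0) :
    finrank F (LinearMap.range N) = Fintype.card I := by
  refine le_antisymm ?_ ?_
  · rw [← Module.finrank_fintype_fun_eq_card F (η := I)]
    refine LinearMap.finrank_le_finrank_of_injective (f := (LinearMap.pi fun i => B (u i)).comp (LinearMap.range N).subtype)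
      ((injective_iff_map_eq_zero _).2 ?_)
    rintro ⟨_, v, rfl⟩ h0
    exact Subtype.ext (hdet v fun i => congrFun h0 i)
  · refine le_of_eq_of_le (finrank_span_eq_card ?_).symm (Submodule.finrank_mono (Submodule.span_le.2
      (Set.range_subset_iff.2 fun i => LinearMap.mem_range_self N (u i))))
    rw [Fintype.linearIndependent_iff]
    intro c hc
    have h0 : G *ᵥ c = 0 := funext fun j => by
      have h1 := congrArg (fun z => B (u j) z) hc
      simp only [map_sum, map_smul, smul_eq_mul, hu, map_zero] at h1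
      rw [Pi.zero_apply, ← h1]
      exact Finset.sum_congr rfl fun i _ => mul_comm _ _
    exact congrFun (Matrix.mulVec_injective_iff_isUnit.2 ((Matrix.isUnit_iff_isUnit_det _).2 hG)
      (a₁ := c) (a₂ := 0) (h0.trans (Matrix.mulVec_zero G).symm))

end General

variable {m : ℕ}

/-- The partner index below `2h`. -/
def partnerFin (m h : ℕ) (i : Fin m) : Fin m :=
  if hi : (i : ℕ) < 2 * h ∧ 2 * h ≤ m then
    ⟨if (i : ℕ) % 2 = 0 then (i : ℕ) + 1 else (i : ℕ) - 1, by split_ifs <;> omega⟩ else i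

theorem partnerFin_invol (m h : ℕ) (i : Fin m) : partnerFin m h (partnerFin m h i) = i := by
  by_cases hi : (i : ℕ) < 2 * h ∧ 2 * h ≤ m
  · simp only [partnerFin, dif_pos hi]
    by_cases he : (i : ℕ) % 2 = 0
    · simp only [if_pos he]
      rw [dif_pos ⟨by omega, hi.2⟩]
      ext; simp only; rw [if_neg (by omega)]; omega
    · simp only [if_neg he]
      rw [dif_pos ⟨by omega, hi.2⟩]
      ext; simp only; rw [if_pos (by omega)]; omega
  · simp only [partnerFin, dif_neg hi]

theorem partnerFin_even {m h : ℕ} (hm : 2 * h ≤ m) (k : Fin h) :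
    ((partnerFin m h ⟨2 * k, by omega⟩ : Fin m) : ℕ) = 2 * k + 1 := by
  simp only [partnerFin]
  rw [dif_pos ⟨by omega, hm⟩]
  simp

/-- The permutation of the coordinates: `s` planes flipped, `2h` of them paired. -/
def sig (m s h : ℕ) : Fin m ⊕ Fin m → Fin m ⊕ Fin m
  | Sum.inl i => if (i : ℕ) < s then Sum.inr i else Sum.inl (partnerFin m h i)
  | Sum.inr i => if (i : ℕ) < s then Sum.inl i else Sum.inr (partnerFin m h i)

theorem sig_invol (m s h : ℕ) (hsh : s = 0 ∨ h = 0) (x : Fin m ⊕ Fin m) : sig m s h (sig m s h x) = x := by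
  have key : ∀ i : Fin m, ¬ (i : ℕ) < s → ¬ (partnerFin m h i : ℕ) < s := fun i hi => by
    rcases hsh with rfl | rfl
    · simp
    · simpa [partnerFin] using hi
  rcases x with i | i <;> simp only [sig] <;> by_cases hi : (i : ℕ) < s
  all_goals simp [hi, key i, partnerFin_invol]

/-- Permuting the coordinates. -/
noncomputable def sigMap (F : Type u) [Field F] (m s h : ℕ) : Module.End F (Fin m ⊕ Fin m → F) :=
  LinearMap.funLeft F F (sig m s h)

omit [CharP F 2] in
theorem sigMap_apply (s h : ℕ) (v : Fin m ⊕ Fin m → F) : sigMap F m s h v = v ∘ sig m s h := rfl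

omit [CharP F 2] in
theorem sigMap_invol (s h : ℕ) (hsh : s = 0 ∨ h = 0) (v : Fin m ⊕ Fin m → F) :
    sigMap F m s h (sigMap F m s h v) = v :=
  funext fun x => congrArg v (sig_invol m s h hsh x)

omit [CharP F 2] in
theorem quad_sigMap (s h : ℕ) (hsh : s = 0 ∨ h = 0) (v : Fin m ⊕ Fin m → F) :
    qfPlus m F (sigMap F m s h v) = qfPlus m F v := by
  rw [qfPlus_apply, qfPlus_apply, quadFormPlus, quadFormPlus, sigMap_apply]
  rcases hsh with rfl | rfl
  · let e : Fin m ≃ Fin m := ⟨partnerFin m h, partnerFin m h, partnerFin_invol m h, partnerFin_invol m h⟩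
    rw [← e.sum_comp (fun i => v (Sum.inl i) * v (Sum.inr i))]
    exact Finset.sum_congr rfl fun i _ => by simp [sig, e]
  · refine Finset.sum_congr rfl fun i _ => ?_
    by_cases hi : (i : ℕ) < s <;> simp [sig, hi, partnerFin, mul_comm]

omit [CharP F 2] in
theorem polar_single_inl (i : Fin m) (w : Fin m ⊕ Fin m → F) :
    QuadraticMap.polarBilin (qfPlus m F) (Pi.single (Sum.inl i) 1) w = w (Sum.inr i) := by
  rw [QuadraticMap.polarBilin_apply_apply, polar_qfPlus, Finset.sum_eq_single i (fun j _ hj => by simp [hj]) (by simp)]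
  simp

omit [CharP F 2] in
theorem polar_single_inr (i : Fin m) (w : Fin m ⊕ Fin m → F) :
    QuadraticMap.polarBilin (qfPlus m F) (Pi.single (Sum.inr i) 1) w = w (Sum.inl i) := by
  rw [QuadraticMap.polarBilin_apply_apply, polar_qfPlus, Finset.sum_eq_single i (fun j _ hj => by simp [hj]) (by simp)]
  simp

theorem sigMove_flip (s : ℕ) (v : Fin m ⊕ Fin m → F) (i : Fin m) :
    ((i : ℕ) < s → (sigMap F m s 0 v + v) (Sum.inl i) = v (Sum.inr i) + v (Sum.inl i) ∧
      (sigMap F m s 0 v + v) (Sum.inr i) = v (Sum.inl i) + v (Sum.inr i)) ∧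
    (¬ (i : ℕ) < s → (sigMap F m s 0 v + v) (Sum.inl i) = 0 ∧ (sigMap F m s 0 v + v) (Sum.inr i) = 0) := by
  constructor <;> intro hi <;>
    simp [sigMap_apply, sig, hi, partnerFin, CharTwo.add_self_eq_zero]

theorem sigMove_pair (h : ℕ) (v : Fin m ⊕ Fin m → F) (i : Fin m) :
    (sigMap F m 0 h v + v) (Sum.inl i) = v (Sum.inl (partnerFin m h i)) + v (Sum.inl i) ∧
      (sigMap F m 0 h v + v) (Sum.inr i) = v (Sum.inr (partnerFin m h i)) + v (Sum.inr i) := by
  simp [sigMap_apply, sig]

/-- The witnessing family of the flipping type. -/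
noncomputable def flipWit (F : Type u) [Field F] (m : ℕ) {s : ℕ} (hs : s ≤ m) (i : Fin s) : Fin m ⊕ Fin m → F :=
  Pi.single (Sum.inl (Fin.castLE hs i)) 1

theorem flip_facts {s : ℕ} (hs : s ≤ m) :
    (∀ i j, QuadraticMap.polarBilin (qfPlus m F) (flipWit F m hs i) (sigMap F m s 0 (flipWit F m hs j) + flipWit F m hs j) =
      (1 : Matrix (Fin s) (Fin s) F) i j) ∧
    ∀ v, (∀ i, QuadraticMap.polarBilin (qfPlus m F) (flipWit F m hs i) (sigMap F m s 0 v + v) = 0) →
      sigMap F m s 0 v + v = 0 := by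
  refine ⟨fun i j => ?_, fun v hv => ?_⟩
  · rw [flipWit, flipWit, polar_single_inl, ((sigMove_flip s _ (Fin.castLE hs i)).1 i.2).2, Matrix.one_apply]
    simp only [Pi.single_apply, reduceCtorEq, if_false, add_zero, Sum.inl.injEq, Fin.castLE_inj]
  · funext x
    rcases x with i | i <;> by_cases hi : (i : ℕ) < s
    · have h0 := hv ⟨i, hi⟩
      rw [flipWit, polar_single_inl, show Fin.castLE hs ⟨i, hi⟩ = i from rfl, ((sigMove_flip s v i).1 hi).2] at h0
      rw [((sigMove_flip s v i).1 hi).1, add_comm]; exact h0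
    · exact ((sigMove_flip s v i).2 hi).1
    · have h0 := hv ⟨i, hi⟩
      rw [flipWit, polar_single_inl, show Fin.castLE hs ⟨i, hi⟩ = i from rfl] at h0
      exact h0
    · exact ((sigMove_flip s v i).2 hi).2

/-- The witnessing family of the pairing type. -/
noncomputable def pairWit (F : Type u) [Field F] (m : ℕ) {h : ℕ} (hm : 2 * h ≤ m) :
    Fin h ⊕ Fin h → Fin m ⊕ Fin m → F :=
  Sum.elim (fun k => Pi.single (Sum.inl ⟨2 * k, by omega⟩) 1) fun k => Pi.single (Sum.inr ⟨2 * k, by omega⟩) 1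

theorem pair_facts {h : ℕ} (hm : 2 * h ≤ m) :
    (∀ i j, QuadraticMap.polarBilin (qfPlus m F) (pairWit F m hm i) (sigMap F m 0 h (pairWit F m hm j) + pairWit F m hm j) =
      Matrix.J (Fin h) F i j) ∧
    (∀ v, (∀ i, QuadraticMap.polarBilin (qfPlus m F) (pairWit F m hm i) (sigMap F m 0 h v + v) = 0) →
      sigMap F m 0 h v + v = 0) ∧
    ∀ v, QuadraticMap.polarBilin (qfPlus m F) v (sigMap F m 0 h v + v) = 0 := by
  have hne : ∀ k k' : Fin h, partnerFin m h ⟨2 * k, by omega⟩ ≠ (⟨2 * k', by omega⟩ : Fin m) := fun k k' e => by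
    have := congrArg Fin.val e
    rw [partnerFin_even hm] at this
    simp only at this
    omega
  refine ⟨?_, fun v hv => ?_, fun v => ?_⟩
  · rintro (i | i) (j | j) <;>
      simp [pairWit, polar_single_inl, polar_single_inr, sigMap_apply, sig, Pi.single_apply, Matrix.J, Matrix.one_apply,
        CharTwo.neg_eq, hne, Fin.ext_iff]
  · have key : ∀ x : Fin m ⊕ Fin m → Prop, True := fun _ => trivial
    have hE : ∀ (P : Fin m → F), (∀ k : Fin h, P (partnerFin m h ⟨2 * k, by omega⟩) + P ⟨2 * k, by omega⟩ = 0) →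
        ∀ i, P (partnerFin m h i) + P i = 0 := by
      intro P hP i
      by_cases hi : (i : ℕ) < 2 * h
      · rcases Nat.even_or_odd' (i : ℕ) with ⟨k, hk | hk⟩
        · have hi' : i = ⟨2 * (⟨k, by omega⟩ : Fin h), by show 2 * k < m; omega⟩ := Fin.ext hk
          rw [hi']; exact hP ⟨k, by omega⟩
        · have h1 := hP ⟨k, by omega⟩
          have hi' : partnerFin m h ⟨2 * k, by omega⟩ = i := Fin.ext (by
            rw [show (⟨2 * k, by omega⟩ : Fin m) = ⟨2 * (⟨k, by omega⟩ : Fin h), by show 2 * k < m; omega⟩ from rfl,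
              partnerFin_even hm]
            exact hk.symm)
          rw [← hi', partnerFin_invol, add_comm]
          rw [hi'] at h1 ⊢
          exact h1
      · rw [show partnerFin m h i = i from dif_neg fun hh => hi hh.1, CharTwo.add_self_eq_zero]
    funext x
    rcases x with i | i
    · rw [(sigMove_pair h v i).1]
      refine hE (fun i => v (Sum.inl i)) (fun k => ?_) i
      have h0 := hv (Sum.inr k)
      rwa [pairWit, Sum.elim_inr, polar_single_inr, (sigMove_pair h v _).1] at h0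
    · rw [(sigMove_pair h v i).2]
      refine hE (fun i => v (Sum.inr i)) (fun k => ?_) i
      have h0 := hv (Sum.inl k)
      rwa [pairWit, Sum.elim_inl, polar_single_inl, (sigMove_pair h v _).2] at h0
  · rw [QuadraticMap.polarBilin_apply_apply, polar_qfPlus]
    simp only [(sigMove_pair h v _).1, (sigMove_pair h v _).2]
    let e : Fin m ≃ Fin m := ⟨partnerFin m h, partnerFin m h, partnerFin_invol m h, partnerFin_invol m h⟩
    have h2 : (2 : F) = 0 := CharTwo.two_eq_zero
    have hsum : ∑ i, v (Sum.inl i) * v (Sum.inr (partnerFin m h i)) =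
        ∑ i, v (Sum.inl (partnerFin m h i)) * v (Sum.inr i) := by
      rw [← e.sum_comp (fun i => v (Sum.inl i) * v (Sum.inr (partnerFin m h i)))]
      exact Finset.sum_congr rfl fun i _ => by simp [e, partnerFin_invol]
    simp only [mul_add, add_mul, Finset.sum_add_distrib, hsum]
    linear_combination ((∑ i, v (Sum.inl (partnerFin m h i)) * v (Sum.inr i)) +
      ∑ i, v (Sum.inl i) * v (Sum.inr i)) * h2

section Plus

/-- The representative maps of plus type. -/
noncomputable def plusMap (F : Type u) [Field F] (m : ℕ) : Fin m ⊕ Fin (m / 2) → Module.End F (Fin m ⊕ Fin m → F) :=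
  Sum.elim (fun i => sigMap F m ((i : ℕ) + 1) 0) fun j => sigMap F m 0 ((j : ℕ) + 1)

theorem plus_facts (a : Fin m ⊕ Fin (m / 2)) :
    ∃ g : isometryGroup F ⇑(qfPlus m F), g ^ 2 = 1 ∧
      finrank F (LinearMap.range (qmove g)) = Sum.elim (fun i : Fin m => (i : ℕ) + 1) (fun j : Fin (m / 2) => 2 * ((j : ℕ) + 1)) a ∧
      ((∀ v, QuadraticMap.polarBilin (qfPlus m F) v (qmove g v) = 0) ↔ a.isRight) ∧
      ∀ v, ogVal g *ᵥ v = plusMap F m a v := by
  rcases a with i | j
  · obtain ⟨g, hg, hgv⟩ := exists_inv_elem (Q := qfPlus m F) (sigMap F m ((i : ℕ) + 1) 0)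
      (sigMap_invol _ _ (Or.inr rfl)) (quad_sigMap _ _ (Or.inr rfl))
    have hN : ∀ v, qmove g v = sigMap F m ((i : ℕ) + 1) 0 v + v := fun v => by rw [qmove_apply, hgv]
    obtain ⟨f1, f2⟩ := flip_facts (F := F) (show (i : ℕ) + 1 ≤ m from i.2)
    refine ⟨g, hg, ?_, iff_of_false (fun h0 => ?_) (by simp), hgv⟩
    · rw [rank_of_witness (B := QuadraticMap.polarBilin (qfPlus m F)) (flipWit F m i.2) 1 (by simp)
        (fun a b => by rw [hN]; exact f1 a b) (fun v hv => by rw [hN]; exact f2 v fun a => by rw [← hN]; exact hv a),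
        Fintype.card_fin]
      rfl
    · have h1 := f1 ⟨0, Nat.succ_pos _⟩ ⟨0, Nat.succ_pos _⟩
      rw [← hN, h0, Matrix.one_apply_eq] at h1
      exact zero_ne_one h1
  · have hj : 2 * ((j : ℕ) + 1) ≤ m := by omega
    obtain ⟨g, hg, hgv⟩ := exists_inv_elem (Q := qfPlus m F) (sigMap F m 0 ((j : ℕ) + 1))
      (sigMap_invol _ _ (Or.inl rfl)) (quad_sigMap _ _ (Or.inl rfl))
    have hN : ∀ v, qmove g v = sigMap F m 0 ((j : ℕ) + 1) v + v := fun v => by rw [qmove_apply, hgv]
    obtain ⟨f1, f2, f3⟩ := pair_facts (F := F) hj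
    refine ⟨g, hg, ?_, iff_of_true (fun v => by rw [hN]; exact f3 v) rfl, hgv⟩
    rw [rank_of_witness (B := QuadraticMap.polarBilin (qfPlus m F)) (pairWit F m hj) (Matrix.J _ F)
      (Matrix.isUnit_det_J _ F) (fun a b => by rw [hN]; exact f1 a b)
      (fun v hv => by rw [hN]; exact f2 v fun a => by rw [← hN]; exact hv a), Fintype.card_sum, Fintype.card_fin]
    exact (two_mul _).symm

omit [CharP F 2] in
theorem isPlus_qfPlus (m : ℕ) : IsPlus (qfPlus m F) m := by
  obtain ⟨U, h1, h2⟩ := exists_singular_plus (F := F) m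
  exact ⟨U, h2, h1⟩

theorem plus_card_classes [Finite F] (m : ℕ) :
    Nat.card {C : ConjClasses ↥(isometryGroup F ⇑(qfPlus m F)) //
      ∃ g : ↥(isometryGroup F ⇑(qfPlus m F)), ConjClasses.mk g = C ∧ orderOf g = 2} = m + m / 2 := by
  choose f hsq hr hal _hv using fun a => plus_facts (F := F) (m := m) a
  rw [card_classes_of_reps (m := m) (nondegenerate_qfPlus m) (by simp [two_mul]) f
    (Sum.elim (fun i : Fin m => (i : ℕ) + 1) fun j : Fin (m / 2) => 2 * ((j : ℕ) + 1)) (fun a => a.isRight = true)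
    (fun a => by rcases a with i | j <;> simp only [Sum.elim_inl, Sum.elim_inr] <;> omega) hsq hr hal ?_ ?_]
  · simp
  · intro a b h1 h3
    rcases a with i | j <;> rcases b with i' | j' <;> simp at h1 h3
    · exact congrArg Sum.inl (Fin.ext h1)
    · exact congrArg Sum.inr (Fin.ext h1)
  · intro s P h1 h3 hP
    by_cases hp : P
    · obtain ⟨k, hk⟩ := (hP hp).1
      exact ⟨Sum.inr ⟨k - 1, by omega⟩, by simp; omega, by simp [hp]⟩
    · exact ⟨Sum.inl ⟨s - 1, by omega⟩, by simp; omega, by simp [hp]⟩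

end Plus

section Minus

variable {k : ℕ} {a b : F}

/-- A map of the hyperbolic part and, optionally, the reflection of the anisotropic plane. -/
noncomputable def minusMap (k : ℕ) (a : F) (T : Module.End F (Fin k ⊕ Fin k → F)) (r : Bool) :
    Module.End F ((Fin k ⊕ Fin k) ⊕ Fin 2 → F) where
  toFun v := Sum.elim (T (v ∘ Sum.inl))
    (if r then ![v (Sum.inr 0) + a * v (Sum.inr 1), v (Sum.inr 1)] else v ∘ Sum.inr)
  map_add' v w := by
    funext x
    rcases x with x | x
    · simp [show (v + w) ∘ Sum.inl = v ∘ Sum.inl + w ∘ Sum.inl from rfl]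
    · cases r
      · simp
      · fin_cases x <;> simp <;> ring
  map_smul' c v := by
    funext x
    rcases x with x | x
    · simp [show (c • v) ∘ Sum.inl = c • (v ∘ Sum.inl) from rfl]
    · cases r
      · simp
      · fin_cases x <;> simp <;> ring

theorem minusMap_invol {T : Module.End F (Fin k ⊕ Fin k → F)} (hT : ∀ v, T (T v) = v) (r : Bool)
    (v : (Fin k ⊕ Fin k) ⊕ Fin 2 → F) : minusMap k a T r (minusMap k a T r v) = v := by
  funext x
  rcases x with x | x
  · simp [minusMap, hT]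
  · cases r
    · simp [minusMap]
    · fin_cases x <;> simp [minusMap, add_assoc, CharTwo.add_self_eq_zero]

theorem quad_minusMap {T : Module.End F (Fin k ⊕ Fin k → F)} (hT : ∀ v, qfPlus k F (T v) = qfPlus k F v) (r : Bool)
    (v : (Fin k ⊕ Fin k) ⊕ Fin 2 → F) : qfMinus k F a b (minusMap k a T r v) = qfMinus k F a b v := by
  have h2 : (2 : F) = 0 := CharTwo.two_eq_zero
  have h1 := hT (v ∘ Sum.inl)
  rw [qfPlus_apply, qfPlus_apply] at h1
  simp only [qfMinus_apply, quadFormMinus, quadFormPlus, Function.comp_apply] at h1 ⊢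
  cases r
  · simp only [minusMap, LinearMap.coe_mk, AddHom.coe_mk, Sum.elim_inl, Sum.elim_inr, Function.comp_apply,
      Bool.false_eq_true, if_false]
    rw [h1]
  · simp only [minusMap, LinearMap.coe_mk, AddHom.coe_mk, Sum.elim_inl, Sum.elim_inr, Function.comp_apply, if_true,
      Matrix.cons_val_zero, Matrix.cons_val_one]
    rw [h1]
    linear_combination (a * v (Sum.inr 0) * v (Sum.inr 1) + a * a * v (Sum.inr 1) * v (Sum.inr 1)) * h2

theorem minusMove (T : Module.End F (Fin k ⊕ Fin k → F)) (r : Bool) (v : (Fin k ⊕ Fin k) ⊕ Fin 2 → F) :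
    (minusMap k a T r v + v) ∘ Sum.inl = T (v ∘ Sum.inl) + v ∘ Sum.inl ∧
      (minusMap k a T r v + v) (Sum.inr 0) = (if r then a * v (Sum.inr 1) else 0) ∧
      (minusMap k a T r v + v) (Sum.inr 1) = 0 := by
  refine ⟨funext fun x => rfl, ?_, ?_⟩ <;> cases r <;> simp [minusMap, CharTwo.add_self_eq_zero]
  linear_combination v (Sum.inr 0) * CharTwo.two_eq_zero (R := F)

theorem polar_minus_split (v w : (Fin k ⊕ Fin k) ⊕ Fin 2 → F) :
    QuadraticMap.polarBilin (qfMinus k F a b) v w = QuadraticMap.polarBilin (qfPlus k F) (v ∘ Sum.inl) (w ∘ Sum.inl) +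
      a * (v (Sum.inr 0) * w (Sum.inr 1) + w (Sum.inr 0) * v (Sum.inr 1)) := by
  rw [QuadraticMap.polarBilin_apply_apply, QuadraticMap.polarBilin_apply_apply, polar_qfMinus, polar_qfPlus]
  simp only [Function.comp_apply]
  linear_combination (v (Sum.inr 0) * w (Sum.inr 0) + b * v (Sum.inr 1) * w (Sum.inr 1)) * CharTwo.two_eq_zero (R := F)

theorem aniso_a_ne_zero [Finite F] (hab : ∀ z₁ z₂ : F, z₁ ^ 2 + a * z₁ * z₂ + b * z₂ ^ 2 = 0 → z₁ = 0 ∧ z₂ = 0) :
    a ≠ 0 := fun h => binary_disc_ne_zero hab (by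
  rw [h]; linear_combination 2 * b * CharTwo.two_eq_zero (R := F))

/-- The representative maps of minus type. -/
noncomputable def minusRep (F : Type u) [Field F] [CharP F 2] (k : ℕ) (a : F) :
    Fin (k + 1) ⊕ Fin (k / 2) → Module.End F ((Fin k ⊕ Fin k) ⊕ Fin 2 → F) :=
  Sum.elim (fun i => if (i : ℕ) < k then minusMap k a (sigMap F k ((i : ℕ) + 1) 0) false
    else minusMap k a (sigMap F k k 0) true) fun j => minusMap k a (sigMap F k 0 ((j : ℕ) + 1)) false

theorem minus_facts [Finite F] (hab : ∀ z₁ z₂ : F, z₁ ^ 2 + a * z₁ * z₂ + b * z₂ ^ 2 = 0 → z₁ = 0 ∧ z₂ = 0)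
    (x : Fin (k + 1) ⊕ Fin (k / 2)) :
    ∃ g : isometryGroup F ⇑(qfMinus k F a b), g ^ 2 = 1 ∧
      finrank F (LinearMap.range (qmove g)) = Sum.elim (fun i : Fin (k + 1) => (i : ℕ) + 1) (fun j : Fin (k / 2) => 2 * ((j : ℕ) + 1)) x ∧
      ((∀ v, QuadraticMap.polarBilin (qfMinus k F a b) v (qmove g v) = 0) ↔ x.isRight) ∧
      ∀ v, ogVal g *ᵥ v = minusRep F k a x v := by
  have ha := aniso_a_ne_zero hab
  rcases x with i | j
  · by_cases hi : (i : ℕ) < k
    · obtain ⟨g, hg, hgv⟩ := exists_inv_elem (Q := qfMinus k F a b) (minusMap k a (sigMap F k ((i : ℕ) + 1) 0) false)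
        (minusMap_invol (sigMap_invol _ _ (Or.inr rfl)) _) (quad_minusMap (quad_sigMap _ _ (Or.inr rfl)) _)
      obtain ⟨f1, f2⟩ := flip_facts (F := F) (show (i : ℕ) + 1 ≤ k from hi)
      have hN : ∀ v, qmove g v = minusMap k a (sigMap F k ((i : ℕ) + 1) 0) false v + v := fun v => by
        rw [qmove_apply, hgv]
      let u : Fin ((i : ℕ) + 1) → (Fin k ⊕ Fin k) ⊕ Fin 2 → F := fun c => Sum.elim (flipWit F k hi c) 0
      have hu : ∀ c v, QuadraticMap.polarBilin (qfMinus k F a b) (u c) (qmove g v) =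
          QuadraticMap.polarBilin (qfPlus k F) (flipWit F k hi c)
            (sigMap F k ((i : ℕ) + 1) 0 (v ∘ Sum.inl) + v ∘ Sum.inl) := fun c v => by
        rw [polar_minus_split, hN, (minusMove _ _ v).1]
        simp [u]
      refine ⟨g, hg, ?_, iff_of_false (fun h0 => ?_) (by simp), fun v => by rw [hgv, minusRep, Sum.elim_inl, if_pos hi]⟩
      · rw [rank_of_witness u 1 (by simp) (fun c d => by rw [hu]; exact f1 c d) (fun v hv => ?_), Fintype.card_fin]
        · rfl
        have h1 := f2 (v ∘ Sum.inl) fun c => by rw [← hu]; exact hv c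
        funext x
        rw [hN]
        rcases x with x | x
        · exact (congrFun (minusMove _ _ v).1 x).trans (congrFun h1 x)
        · fin_cases x
          exacts [(minusMove _ _ v).2.1, (minusMove _ _ v).2.2]
      · have h1 := (hu ⟨0, Nat.succ_pos _⟩ (u ⟨0, Nat.succ_pos _⟩)).trans (f1 _ _)
        rw [h0, Matrix.one_apply_eq] at h1
        exact zero_ne_one h1
    · obtain ⟨g, hg, hgv⟩ := exists_inv_elem (Q := qfMinus k F a b) (minusMap k a (sigMap F k k 0) true)
        (minusMap_invol (sigMap_invol _ _ (Or.inr rfl)) _) (quad_minusMap (quad_sigMap _ _ (Or.inr rfl)) _)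
      obtain ⟨f1, f2⟩ := flip_facts (F := F) (le_refl k)
      have hN : ∀ v, qmove g v = minusMap k a (sigMap F k k 0) true v + v := fun v => by rw [qmove_apply, hgv]
      let u : Fin k ⊕ Fin 1 → (Fin k ⊕ Fin k) ⊕ Fin 2 → F :=
        Sum.elim (fun c => Sum.elim (flipWit F k (le_refl k) c) 0) fun _ => Sum.elim 0 ![0, a⁻¹]
      have hu : ∀ c v, QuadraticMap.polarBilin (qfMinus k F a b) (u c) (qmove g v) =
          Sum.elim (fun c => QuadraticMap.polarBilin (qfPlus k F) (flipWit F k (le_refl k) c)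
            (sigMap F k k 0 (v ∘ Sum.inl) + v ∘ Sum.inl)) (fun _ => a * v (Sum.inr 1)) c := fun c v => by
        rw [polar_minus_split, hN, (minusMove _ _ v).1, (minusMove _ _ v).2.1, (minusMove _ _ v).2.2]
        rcases c with c | c
        · simp [u]
        · simp [u, ha]
          rw [mul_right_comm, mul_inv_cancel₀ ha, one_mul]
      have hG : ∀ c d, QuadraticMap.polarBilin (qfMinus k F a b) (u c) (qmove g (u d)) =
          (1 : Matrix (Fin k ⊕ Fin 1) (Fin k ⊕ Fin 1) F) c d := fun c d => by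
        rw [hu]
        rcases c with c | c <;> rcases d with d | d
        · simp only [u, Sum.elim_inl, Matrix.one_apply, Sum.inl.injEq]
          exact (f1 c d).trans Matrix.one_apply
        · simp [u, sigMap_apply, show ((0 : Fin k ⊕ Fin k → F) ∘ sig k k 0) = 0 from rfl]
        · simp [u]
        · simp [u, Matrix.one_apply, ha, Subsingleton.elim c d]
      refine ⟨g, hg, ?_, iff_of_false (fun h0 => ?_) (by simp), fun v => by rw [hgv, minusRep, Sum.elim_inl, if_neg hi]⟩
      · rw [rank_of_witness u 1 (by simp) hG (fun v hv => ?_), Fintype.card_sum, Fintype.card_fin, Fintype.card_fin]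
        · show k + 1 = (i : ℕ) + 1
          omega
        have h1 := f2 (v ∘ Sum.inl) fun c => by
          have := hv (Sum.inl c)
          rwa [hu, Sum.elim_inl] at this
        have h3 : a * v (Sum.inr 1) = 0 := by
          have := hv (Sum.inr 0)
          rwa [hu, Sum.elim_inr] at this
        funext x
        rw [hN]
        rcases x with x | x
        · exact (congrFun (minusMove _ _ v).1 x).trans (congrFun h1 x)
        · fin_cases x
          exacts [(minusMove _ _ v).2.1.trans h3, (minusMove _ _ v).2.2]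
      · have h1 := hG (Sum.inr 0) (Sum.inr 0)
        rw [h0, Matrix.one_apply_eq] at h1
        exact zero_ne_one h1
  · have hj : 2 * ((j : ℕ) + 1) ≤ k := by omega
    obtain ⟨g, hg, hgv⟩ := exists_inv_elem (Q := qfMinus k F a b) (minusMap k a (sigMap F k 0 ((j : ℕ) + 1)) false)
      (minusMap_invol (sigMap_invol _ _ (Or.inl rfl)) _) (quad_minusMap (quad_sigMap _ _ (Or.inl rfl)) _)
    obtain ⟨f1, f2, f3⟩ := pair_facts (F := F) hj
    have hN : ∀ v, qmove g v = minusMap k a (sigMap F k 0 ((j : ℕ) + 1)) false v + v := fun v => by rw [qmove_apply, hgv]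
    let u : Fin ((j : ℕ) + 1) ⊕ Fin ((j : ℕ) + 1) → (Fin k ⊕ Fin k) ⊕ Fin 2 → F := fun c => Sum.elim (pairWit F k hj c) 0
    have hu : ∀ w v, QuadraticMap.polarBilin (qfMinus k F a b) w (qmove g v) =
        QuadraticMap.polarBilin (qfPlus k F) (w ∘ Sum.inl)
          (sigMap F k 0 ((j : ℕ) + 1) (v ∘ Sum.inl) + v ∘ Sum.inl) := fun w v => by
      rw [polar_minus_split, hN, (minusMove _ _ v).1, (minusMove _ _ v).2.1, (minusMove _ _ v).2.2]
      simp
    refine ⟨g, hg, ?_, iff_of_true (fun v => by rw [hu]; exact f3 _) rfl, fun v => by rw [hgv]; rfl⟩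
    rw [rank_of_witness u (Matrix.J _ F) (Matrix.isUnit_det_J _ F) (fun c d => (hu (u c) (u d)).trans (f1 c d))
      (fun v hv => ?_), Fintype.card_sum, Fintype.card_fin]
    · exact (two_mul _).symm
    have h1 := f2 (v ∘ Sum.inl) fun c => (hu (u c) v).symm.trans (hv c)
    funext x
    rw [hN]
    rcases x with x | x
    · exact (congrFun (minusMove _ _ v).1 x).trans (congrFun h1 x)
    · fin_cases x
      exacts [(minusMove _ _ v).2.1, (minusMove _ _ v).2.2]

omit [CharP F 2] in
theorem not_isPlus_qfMinus [Finite F] (hab : ∀ z₁ z₂ : F, z₁ ^ 2 + a * z₁ * z₂ + b * z₂ ^ 2 = 0 → z₁ = 0 ∧ z₂ = 0)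
    (k : ℕ) : ¬ IsPlus (qfMinus k F a b) (k + 1) := fun ⟨U, h1, h2⟩ => by
  have := singular_finrank_le_minus k hab U h2
  omega

theorem minus_card_classes [Finite F] (hab : ∀ z₁ z₂ : F, z₁ ^ 2 + a * z₁ * z₂ + b * z₂ ^ 2 = 0 → z₁ = 0 ∧ z₂ = 0)
    (k : ℕ) :
    Nat.card {C : ConjClasses ↥(isometryGroup F ⇑(qfMinus k F a b)) //
      ∃ g : ↥(isometryGroup F ⇑(qfMinus k F a b)), ConjClasses.mk g = C ∧ orderOf g = 2} = k + 1 + k / 2 := by
  choose f hsq hr hal _hv using fun x => minus_facts (F := F) (k := k) hab x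
  rw [card_classes_of_reps (m := k + 1) (nondegenerate_qfMinus k hab) (by simp; omega) f
    (Sum.elim (fun i : Fin (k + 1) => (i : ℕ) + 1) fun j : Fin (k / 2) => 2 * ((j : ℕ) + 1))
    (fun x => x.isRight = true)
    (fun x => by rcases x with i | j <;> simp only [Sum.elim_inl, Sum.elim_inr] <;> omega) hsq hr hal ?_ ?_]
  · simp
  · intro x y h1 h3
    rcases x with i | j <;> rcases y with i' | j' <;> simp at h1 h3
    · exact congrArg Sum.inl (Fin.ext h1)
    · exact congrArg Sum.inr (Fin.ext h1)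
  · intro s P h1 h3 hP
    by_cases hp : P
    · obtain ⟨t, ht⟩ := (hP hp).1
      have := (hP hp).2 (not_isPlus_qfMinus hab k)
      exact ⟨Sum.inr ⟨t - 1, by omega⟩, by simp; omega, by simp [hp]⟩
    · exact ⟨Sum.inl ⟨s - 1, by omega⟩, by simp; omega, by simp [hp]⟩

end Minus

end Cfsg.Agent.Classical.SympEven
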