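import Mathlib

/-!
Arithmetic of splitting `m` as `i * e + l` inside a product of `A` basic factors and `j` pairs of trivial
factors, with a type condition in the boundary case `l = j`.
-/

set_option autoImplicit false

namespace Cfsg.Agent.SplitArith

/-- A split exists. -/
def Fix (i j m K : ℕ) (G : Prop) : Prop := ∃ e l, e ≤ K ∧ i * e + l = m ∧ l ≤ j ∧ (l < j ∨ j = 0 ∨ G)

theorem rem_le {i m K e l : ℕ} (he : e ≤ K) (h : i * e + l = m) : i * (m / i - K) + m % i ≤ l := by
  have h1 := Nat.div_add_mod m i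
  have h4 : m % i ≤ l := by
    rw [← h, Nat.mul_add_mod]
    exact Nat.mod_le _ _
  rcases Nat.eq_zero_or_pos (m / i - K) with h0 | h0
  · rw [h0, mul_zero]; omega
  · have h3 : i * (m / i - K) + i * K = i * (m / i) := by rw [← Nat.mul_add, Nat.sub_add_cancel (by omega)]
    have := Nat.mul_le_mul_left i he
    omega

theorem not_fix {i j m K : ℕ} {G : Prop}
    (h : j < i * (m / i - K) + m % i ∨ (j = i * (m / i - K) + m % i ∧ 0 < j ∧ ¬ G)) : ¬ Fix i j m K G := by
  rintro ⟨e, l, he, hel, hlj, hor⟩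
  have := rem_le he hel
  rcases h with h | ⟨h, hj, hG⟩
  · omega
  · rcases hor with h' | h' | h'
    · omega
    · omega
    · exact hG h'

theorem fix_of {i j m K : ℕ} {G : Prop}
    (h : i * (m / i - K) + m % i ≤ j ∧ (i * (m / i - K) + m % i < j ∨ j = 0 ∨ G)) : Fix i j m K G := by
  have h1 := Nat.div_add_mod m i
  refine ⟨min K (m / i), i * (m / i - K) + m % i, min_le_left _ _, ?_, h.1, h.2⟩
  rcases le_total K (m / i) with hle | hle
  · rw [min_eq_left hle, ← add_assoc, ← Nat.mul_add, Nat.add_sub_cancel' hle, h1]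
  · rw [min_eq_right hle, Nat.sub_eq_zero_of_le hle, mul_zero, zero_add, h1]

section Even

variable (h t d m : ℕ) (ε : Prop)

/-- The parity matching the type. -/
def G (ε : Prop) (n : ℕ) : Prop := Even n ↔ ε

theorem G_succ (n : ℕ) : G ε (n + 1) ↔ ¬ G ε n := by
  unfold G
  rw [Nat.even_add_one]
  by_cases h1 : Even n <;> by_cases h2 : ε <;> simp [h1, h2]

theorem G_congr {a b : ℕ} (hab : a % 2 = b % 2) : G ε a ↔ G ε b := by
  unfold G; rw [Nat.even_iff, Nat.even_iff, hab]

/-- The multiples of `h` provided by divisibility of the count. -/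
def Mult : Prop := ∃ w, (d < h * w + m ∧ h * w ≤ d ∧ G ε w) ∨ (d ≤ h * w + m ∧ h * w < d ∧ ¬ G ε w)

/-- The conditions on the remainders. -/
def RemOK : Prop :=
  (m % (2 * h) ≤ h ∧ d % h = 0 ∧ ¬ G ε (d / h)) ∨ (m % (2 * h) ≤ d % h ∧ G ε (d / h)) ∨
    (m % (2 * h) < d % h ∧ ¬ G ε (d / h))

/-- The criterion. -/
def Crit : Prop :=
  2 * h ≤ m ∧ t + 2 * (m / (2 * h)) ≤ d / h ∧
    ((m % (2 * h) ≤ h ∧ d % h = 0 ∧ ¬ G ε (d / h) ∧ t + 2 * (m / (2 * h)) < d / h) ∨
      (m % (2 * h) ≤ d % h ∧ G ε (d / h)) ∨ (m % (2 * h) < d % h ∧ ¬ G ε (d / h)))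

variable {h t d m ε}

theorem le_of_mult (hh : 0 < h) (hM : Mult h d m ε) (hR : RemOK h d m ε) : 2 * h ≤ m := by
  by_contra hlt
  unfold RemOK at hR
  rw [Nat.mod_eq_of_lt (by omega : m < 2 * h)] at hR
  have hd := Nat.div_add_mod d h
  have hr := Nat.mod_lt d hh
  obtain ⟨w, hw⟩ := hM
  have hwn : w ≤ d / h := by
    rw [Nat.le_div_iff_mul_le hh, mul_comm]
    rcases hw with hw | hw <;> omega
  rcases Nat.lt_or_ge w (d / h) with hlt' | hge
  · have hw1 : h * w + h ≤ h * (d / h) := by rw [← Nat.mul_succ]; exact Nat.mul_le_mul_left _ hlt'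
    rcases hR with ⟨hm, h0, hG⟩ | ⟨hm, hG⟩ | ⟨hm, hG⟩
    · rcases hw with ⟨h1, -, h3⟩ | ⟨h1, -, h3⟩
      · omega
      · have e : w + 1 = d / h := by
          by_contra hne
          have : h * (w + 1) + h ≤ h * (d / h) := by rw [← Nat.mul_succ]; exact Nat.mul_le_mul_left _ (by omega)
          rw [Nat.mul_succ] at this
          omega
        exact hG (e ▸ (G_succ ε w).2 h3)
    all_goals rcases hw with ⟨h1, -, -⟩ | ⟨h1, -, -⟩ <;> omega
  · obtain rfl : w = d / h := le_antisymm hwn hge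
    rcases hR with ⟨hm, h0, hG⟩ | ⟨hm, hG⟩ | ⟨hm, hG⟩
    · rcases hw with ⟨-, -, h3⟩ | ⟨-, h2, -⟩
      · exact hG h3
      · omega
    · rcases hw with ⟨h1, -, -⟩ | ⟨-, -, h3⟩
      · omega
      · exact h3 hG
    · rcases hw with ⟨h1, -, -⟩ | ⟨h1, -, -⟩ <;> omega

theorem fix_of_crit (hh : 0 < h) (hC : Crit h t d m ε) {A K S j : ℕ} (hA : h * A + j = d)
    (hAK : A ≤ 2 * K + t) (hS : A = 2 * K + S) (hG : 0 < j ∨ G ε A) : Fix (2 * h) j m K (G ε A) := by
  obtain ⟨-, hle, hor⟩ := hC
  have hd := Nat.div_add_mod d h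
  have hr := Nat.mod_lt d hh
  have hAn : A ≤ d / h := by rw [Nat.le_div_iff_mul_le hh, mul_comm]; omega
  set μ := m % (2 * h) with hμdef
  set M₁ := m / (2 * h) with hMdef
  rcases Nat.lt_or_ge K M₁ with hK | hK
  · obtain ⟨a, ha⟩ : ∃ a, M₁ = K + a := ⟨M₁ - K, by omega⟩
    have e1 : h * A = 2 * (h * K) + h * S := by rw [hS]; ring
    have e2 : h * (t + 2 * M₁) = h * t + 2 * (h * K) + 2 * (h * a) := by rw [ha]; ring
    have e3 : h * S ≤ h * t := Nat.mul_le_mul_left _ (by omega)
    have hsub : M₁ - K = a := by omega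
    have e4 : 2 * h * (M₁ - K) = 2 * (h * a) := by rw [hsub, mul_assoc]
    rcases hor with ⟨h1, h0, hnG, hlt⟩ | ⟨h1, hG'⟩ | ⟨h1, hnG⟩
    · have e5 : h * (t + 2 * M₁) + h ≤ h * (d / h) := by rw [← Nat.mul_succ]; exact Nat.mul_le_mul_left _ hlt
      refine fix_of ⟨by rw [← hMdef, ← hμdef, e4]; omega, ?_⟩
      rw [← hMdef, ← hμdef, e4]
      rcases Nat.lt_or_ge (2 * (h * a) + μ) j with hj | hj
      · exact Or.inl hj
      · right; right
        have hSt : S = t := Nat.eq_of_mul_eq_mul_left hh (by omega)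
        have ht' : t + 2 * M₁ + 1 = d / h := Nat.eq_of_mul_eq_mul_left hh (by rw [Nat.mul_succ]; omega)
        rw [G_congr ε (show A % 2 = (t + 2 * M₁) % 2 by omega)]
        by_contra hb
        exact hnG (ht' ▸ (G_succ ε _).2 hb)
    all_goals
      have e5 : h * (t + 2 * M₁) ≤ h * (d / h) := Nat.mul_le_mul_left _ hle
      refine fix_of ⟨by rw [← hMdef, ← hμdef, e4]; omega, ?_⟩
      rw [← hMdef, ← hμdef, e4]
      rcases Nat.lt_or_ge (2 * (h * a) + μ) j with hj | hj
      · exact Or.inl hj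
    · right; right
      have hSt : S = t := Nat.eq_of_mul_eq_mul_left hh (by omega)
      have ht' : t + 2 * M₁ = d / h := Nat.eq_of_mul_eq_mul_left hh (by omega)
      rwa [G_congr ε (show A % 2 = (d / h) % 2 by omega)]
    · omega
  · have e4 : 2 * h * (M₁ - K) = 0 := by rw [Nat.sub_eq_zero_of_le hK, mul_zero]
    have hj : A = d / h ∧ j = d % h ∨ d % h + h ≤ j := by
      rcases Nat.lt_or_ge A (d / h) with h' | h'
      · right
        have : h * A + h ≤ h * (d / h) := by rw [← Nat.mul_succ]; exact Nat.mul_le_mul_left _ h'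
        omega
      · left
        obtain rfl : A = d / h := le_antisymm hAn h'
        exact ⟨rfl, by omega⟩
    refine fix_of ⟨?_, ?_⟩ <;> rw [← hMdef, ← hμdef, e4, zero_add]
    · rcases hor with ⟨h1, h0, hnG, -⟩ | ⟨h1, -⟩ | ⟨h1, -⟩
      · rcases hj with ⟨e, e'⟩ | e
        · rcases hG with hp | hp
          · omega
          · exact absurd (e ▸ hp) hnG
        · omega
      all_goals rcases hj with ⟨-, e'⟩ | e <;> omega
    · rcases Nat.lt_or_ge μ j with h' | h'
      · exact Or.inl h'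
      rcases hor with ⟨h1, h0, hnG, -⟩ | ⟨h1, hG'⟩ | ⟨h1, -⟩
      · rcases hj with ⟨e, e'⟩ | e
        · exact Or.inr (Or.inl (by omega))
        · right; right
          have : A + 1 = d / h := Nat.eq_of_mul_eq_mul_left hh (by rw [Nat.mul_succ]; omega)
          by_contra hb
          exact hnG (this ▸ (G_succ ε _).2 hb)
      · rcases hj with ⟨e, -⟩ | e
        · exact Or.inr (Or.inr (e ▸ hG'))
        · omega
      · rcases hj with ⟨-, e'⟩ | e <;> omega

theorem exists_bad (hh : 0 < h) (ht : 0 < t) (hmd : m < d) (hM : Mult h d m ε) (hC : ¬ Crit h t d m ε) :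
    ∃ A K S j, 0 < A ∧ h * A + j = d ∧ A = 2 * K + S ∧ S ≤ t ∧ (0 < j ∨ G ε A) ∧ ¬ Fix (2 * h) j m K (G ε A) := by
  classical
  have hd := Nat.div_add_mod d h
  have hr := Nat.mod_lt d hh
  have hm2 := Nat.mod_lt m (show 0 < 2 * h by omega)
  have hn : 0 < d / h := by
    rw [Nat.div_pos_iff]
    obtain ⟨w, hw⟩ := hM
    rcases Nat.eq_zero_or_pos w with rfl | hw0
    · rcases hw with hw | hw <;> omega
    · have := Nat.le_mul_of_pos_right h hw0
      rcases hw with hw | hw <;> exact ⟨hh, by omega⟩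
  set n := d / h with hndef
  have hn1 : h * (n - 1) + h = h * n := by rw [← Nat.mul_succ, Nat.succ_eq_add_one, Nat.sub_add_cancel hn]
  have hG1 : G ε n ↔ ¬ G ε (n - 1) := by conv_lhs => rw [← Nat.sub_add_cancel hn, G_succ]
  by_cases hR : RemOK h d m ε
  · have h2h := le_of_mult hh hM hR
    have hM1 : 1 ≤ m / (2 * h) := Nat.div_pos h2h (by omega)
    set M₁ := m / (2 * h) with hMdef
    set μ := m % (2 * h) with hμdef
    have key : ∀ K, K < M₁ → 2 * h ≤ 2 * h * (M₁ - K) := fun K hK => Nat.le_mul_of_pos_right _ (by omega)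
    by_cases h0 : d % h = 0 ∧ ¬ G ε n
    · obtain ⟨h0, hnG⟩ := h0
      have hG' : G ε (n - 1) := by by_contra hb; exact hnG (hG1.2 hb)
      have hμ : μ ≤ h := by
        rcases hR with ⟨h1, -, -⟩ | ⟨-, hg⟩ | ⟨h1, -⟩
        · exact h1
        · exact absurd hg hnG
        · omega
      have ht' : n ≤ t + 2 * M₁ := by
        by_contra hlt
        exact hC ⟨h2h, by omega, Or.inl ⟨hμ, h0, hnG, by omega⟩⟩
      rcases Nat.eq_or_lt_of_le ht' with heq | hlt
      · have hn2 : h * (n - 2) + 2 * h = h * n := by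
          rw [mul_comm 2 h, ← Nat.mul_add, Nat.sub_add_cancel (by omega)]
        refine ⟨n - 2, M₁ - 1, t, 2 * h, by omega, by omega, by omega, le_rfl, Or.inl (by omega), not_fix ?_⟩
        rw [← hMdef, ← hμdef, show M₁ - (M₁ - 1) = 1 by omega, mul_one]
        rcases Nat.eq_zero_or_pos μ with e | e
        · refine Or.inr ⟨by omega, by omega, fun hb => hnG ((G_congr ε ?_).1 hb)⟩
          omega
        · exact Or.inl (by omega)
      · set S := if n - 1 ≤ t then n - 1 else t - (n - 1 - t) % 2 with hS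
        have hn2 : 2 ≤ n := by
          by_contra hlt'
          rcases (show n = 1 ∨ n = 0 by omega) with e | e
          · rw [e, mul_one] at hd; omega
          · omega
        refine ⟨n - 1, (n - 1 - S) / 2, S, h, by omega, by omega, ?_, ?_, Or.inl hh, not_fix (Or.inl ?_)⟩
        · rw [hS]; split_ifs <;> omega
        · rw [hS]; split_ifs <;> omega
        · rw [← hMdef, ← hμdef]
          have := key ((n - 1 - S) / 2) (by rw [hS]; split_ifs <;> omega)
          omega
    · have hμ : μ ≤ d % h := by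
        rcases hR with ⟨-, h1, h3⟩ | ⟨h1, -⟩ | ⟨h1, -⟩
        · exact absurd ⟨h1, h3⟩ h0
        · exact h1
        · omega
      have ht' : n < t + 2 * M₁ := by
        by_contra hle
        refine hC ⟨h2h, by omega, ?_⟩
        rcases hR with ⟨-, h1, h3⟩ | h1 | h1
        · exact absurd ⟨h1, h3⟩ h0
        · exact Or.inr (Or.inl h1)
        · exact Or.inr (Or.inr h1)
      have hjn : 0 < d % h ∨ G ε n := by
        by_cases hg : G ε n
        · exact Or.inr hg
        · exact Or.inl (Nat.pos_of_ne_zero fun e => h0 ⟨e, hg⟩)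
      set S := if n ≤ t then n else t - (n - t) % 2 with hS
      by_cases hK : (n - S) / 2 < M₁
      · refine ⟨n, (n - S) / 2, S, d % h, hn, by omega, ?_, ?_, hjn, not_fix (Or.inl ?_)⟩
        · rw [hS]; split_ifs <;> omega
        · rw [hS]; split_ifs <;> omega
        · rw [← hMdef, ← hμdef]
          have := key _ hK
          omega
      · rw [hS] at hK
        have hn2 : n + 1 = t + 2 * M₁ ∧ t < n := by split_ifs at hK <;> omega
        refine ⟨n - 1, M₁ - 1, t, d % h + h, by omega, by omega, by omega, le_rfl, Or.inl (by omega),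
          not_fix (Or.inl ?_)⟩
        rw [← hMdef, ← hμdef]
        have := key (M₁ - 1) (by omega)
        omega
  · unfold RemOK at hR
    simp only [not_or, not_and] at hR
    obtain ⟨ha, hb, hc⟩ := hR
    have hS1 : ∀ A : ℕ, A = 2 * (A / 2) + A % 2 ∧ A % 2 ≤ t := fun A => ⟨(Nat.div_add_mod A 2).symm, by omega⟩
    by_cases hg : G ε n
    · refine ⟨n, n / 2, n % 2, d % h, hn, by omega, (hS1 n).1, (hS1 n).2, Or.inr hg, not_fix (Or.inl ?_)⟩
      have : ¬ m % (2 * h) ≤ d % h := fun h' => hb h' hg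
      omega
    · rcases Nat.eq_zero_or_pos (d % h) with h0 | h0
      · have hμ : h < m % (2 * h) := by
          by_contra h'; exact ha (by omega) h0 hg
        have hn2 : 2 ≤ n := by
          by_contra hlt'
          rcases (show n = 1 ∨ n = 0 by omega) with e | e
          · have := Nat.mod_le m (2 * h)
            rw [e, mul_one] at hd; omega
          · omega
        refine ⟨n - 1, (n - 1) / 2, (n - 1) % 2, h, by omega, by omega, (hS1 _).1, (hS1 _).2, Or.inl hh,
          not_fix (Or.inl ?_)⟩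
        omega
      · refine ⟨n, n / 2, n % 2, d % h, hn, by omega, (hS1 n).1, (hS1 n).2, Or.inl h0, not_fix ?_⟩
        have : ¬ m % (2 * h) < d % h := fun h' => hc h' hg
        rcases Nat.eq_or_lt_of_le (show d % h ≤ 2 * h * (m / (2 * h) - n / 2) + m % (2 * h) by omega) with e | e
        · exact Or.inr ⟨e, h0, hg⟩
        · exact Or.inl e

end Even

section Odd

variable {i d m : ℕ} {ε : Prop}

/-- The criterion for odd `i`. -/
def CritOdd (i d m : ℕ) (ε : Prop) : Prop :=
  i ≤ m ∧ ((ε ∧ m % i ≤ d % i) ∨ (¬ ε ∧ (d % i = 0 ∨ m % i < d % i)))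

theorem fix_of_odd (hi : 0 < i) (hmd : m < d) (hC : CritOdd i d m ε) {A j : ℕ} (hA : i * A + j = d)
    (hG : 0 < j ∨ ε) : Fix i j m A ε := by
  obtain ⟨-, hor⟩ := hC
  have hd := Nat.div_add_mod d i
  have hm := Nat.div_add_mod m i
  have hr := Nat.mod_lt d hi
  have hm' := Nat.mod_lt m hi
  rcases Nat.lt_or_ge A (m / i) with hK | hK
  · have e : i * (m / i - A) + i * A = i * (m / i) := by rw [← Nat.mul_add, Nat.sub_add_cancel hK.le]
    exact fix_of ⟨by omega, Or.inl (by omega)⟩
  · refine fix_of ?_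
    rw [Nat.sub_eq_zero_of_le hK, mul_zero, zero_add]
    have hAn : A ≤ d / i := by rw [Nat.le_div_iff_mul_le hi, mul_comm]; omega
    rcases Nat.lt_or_ge A (d / i) with h' | h'
    · have : i * A + i ≤ i * (d / i) := by rw [← Nat.mul_succ]; exact Nat.mul_le_mul_left _ h'
      exact ⟨by omega, Or.inl (by omega)⟩
    · obtain rfl : A = d / i := le_antisymm hAn h'
      rcases hor with ⟨he, h1⟩ | ⟨he, h1⟩
      · exact ⟨by omega, Or.inr (Or.inr he)⟩
      · have hj : 0 < j := hG.resolve_right he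
        exact ⟨by omega, Or.inl (by omega)⟩

theorem exists_bad_odd (hi : 0 < i) (hmd : m < d)
    (hM : ∃ w, (d < i * w + m ∧ i * w ≤ d ∧ ε) ∨ (d ≤ i * w + m ∧ i * w < d ∧ ¬ ε)) (hC : ¬ CritOdd i d m ε) :
    ∃ A j, 0 < A ∧ i * A + j = d ∧ (0 < j ∨ ε) ∧ ¬ Fix i j m A ε := by
  have hd := Nat.div_add_mod d i
  have hr := Nat.mod_lt d hi
  obtain ⟨w, hw⟩ := hM
  have hwn : w ≤ d / i := by
    rw [Nat.le_div_iff_mul_le hi, mul_comm]
    rcases hw with hw | hw <;> omega
  have hw1 := Nat.mul_le_mul_left i hwn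
  have hn : 0 < d / i := by
    rcases Nat.eq_zero_or_pos w with rfl | hw0
    · rcases hw with hw | hw <;> omega
    · omega
  by_cases him : i ≤ m
  · refine ⟨d / i, d % i, hn, hd, ?_, ?_⟩
    · by_cases he : ε
      · exact Or.inr he
      · left
        by_contra h0
        exact hC ⟨him, Or.inr ⟨he, Or.inl (by omega)⟩⟩
    · by_cases he : ε
      · have : ¬ m % i ≤ d % i := fun h => hC ⟨him, Or.inl ⟨he, h⟩⟩
        exact not_fix (Or.inl (by omega))
      · have h1 : ¬ d % i = 0 := fun h => hC ⟨him, Or.inr ⟨he, Or.inl h⟩⟩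
        have h2 : ¬ m % i < d % i := fun h => hC ⟨him, Or.inr ⟨he, Or.inr h⟩⟩
        rcases Nat.eq_or_lt_of_le (show d % i ≤ i * (m / i - d / i) + m % i by omega) with e | e
        · exact not_fix (Or.inr ⟨e, by omega, he⟩)
        · exact not_fix (Or.inl e)
  · have hmod : m % i = m := Nat.mod_eq_of_lt (by omega)
    rcases hw with ⟨h1, -, he⟩ | ⟨h1, h3, he⟩
    · exact ⟨d / i, d % i, hn, hd, Or.inr he, not_fix (Or.inl (by omega))⟩
    · have hlt : d % i ≤ m ∧ 0 < d % i := by
        refine ⟨by omega, Nat.pos_of_ne_zero fun h0 => ?_⟩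
        have hlt' : w < d / i := by
          by_contra hge
          obtain rfl : w = d / i := by omega
          omega
        have : i * w + i ≤ i * (d / i) := by rw [← Nat.mul_succ]; exact Nat.mul_le_mul_left _ hlt'
        omega
      refine ⟨d / i, d % i, hn, hd, Or.inl hlt.2, ?_⟩
      rcases Nat.eq_or_lt_of_le (show d % i ≤ i * (m / i - d / i) + m % i by omega) with e | e
      · exact not_fix (Or.inr ⟨e, hlt.2, he⟩)
      · exact not_fix (Or.inl e)

end Odd

end Cfsg.Agent.SplitArith
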