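import Cfsg.Agent.Lib.Classical.OrthEvenProd
import Cfsg.Agent.Lib.Classical.SplitArith

/-! Elements of odd prime order of `Ω^±_{2d}(q)` fixing totally singular subspaces. -/

set_option autoImplicit false
set_option linter.unusedSectionVars false

namespace Cfsg.Agent.OrthEvenTS

open Polynomial Matrix Module Cfsg.Agent.SelfReciprocalFactors Cfsg.Agent.SelfRecipDivisors
  Cfsg.Agent.UnitaryDetCentralizer Cfsg.Agent.Classical Cfsg.Agent.OrthNondegDerange

variable {F : Type*} [Field F] [Fintype F] {r i t : ℕ}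

/-- The type forced by an isometry without fixed vectors. -/
def PowTy (F : Type*) [Fintype F] (r n : ℕ) (ε : Prop) [Decidable ε] : Prop :=
  (Fintype.card F : ZMod r) ^ n = if ε then 1 else -1

theorem powTy_iff (h : Ctx F r i t) (n : ℕ) (ε : Prop) [Decidable ε] :
    PowTy F r (half i * n) ε ↔ if Even i then SplitArith.G ε n else ε := by
  have hh := half_pos h
  have hmod : half i * n % half i = 0 := Nat.mul_mod_right _ _
  have hdiv : half i * n / half i = n := Nat.mul_div_cancel_left n hh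
  obtain ⟨h1, h2⟩ := OrthNondegCrit.pow_one_iff h hmod
  rw [hdiv] at h1 h2
  unfold PowTy
  by_cases he : ε
  · rw [if_pos he, h1]
    split_ifs with hi
    · simp [SplitArith.G, he, Nat.not_odd_iff_even.2 hi]
    · simp [he, Nat.not_even_iff_odd.1 hi]
  · rw [if_neg he, h2]
    split_ifs with hi
    · simp [SplitArith.G, he, hi]
    · simp [hi, he]

theorem plus_iff_of_pow (h : Ctx F r i t) {V : Type*} [AddCommGroup V] [Module F V] [FiniteDimensional F V]
    {n : ℕ} (hV : finrank F V = 2 * n) {A : QuadraticForm F V} (hA : (QuadraticMap.polarBilin A).Nondegenerate)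
    {g : Module.End F V} (hg : ∀ v, A (g v) = A v) (hr : g ^ r = 1) (hfix : g.charpoly.eval 1 ≠ 0) {ε : Prop}
    [Decidable ε] : PowTy F r n ε ↔ (EvenType.Plus A ↔ ε) := by
  haveI := Fact.mk h.prime
  haveI : Fact (2 < r) := ⟨lt_of_le_of_ne h.prime.two_le (Ne.symm h.odd)⟩
  have hne : (-1 : ZMod r) ≠ 1 := ZMod.neg_one_ne_one
  have hp := OrthPrimeOrderClasses.pow_eq_sgn h hV A hA g hg hr fun v hv => by
    by_contra h0; exact hfix ((OrthPrimeOrderClasses.exists_fixed_iff g).1 ⟨v, hv, h0⟩)
  unfold PowTy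
  rw [hp, OrthPrimeOrderClasses.sgn]
  by_cases h1 : EvenType.Plus A <;> by_cases h2 : ε <;> simp [h1, h2, hne, hne.symm]

section Realise

variable {ι : Type} [Fintype ι] [DecidableEq ι] {Q : QuadraticForm F (ι → F)}
  (hQ : (QuadraticMap.polarBilin Q).Nondegenerate) {d : ℕ} (hι : Fintype.card ι = 2 * d)
  (ε : Prop) [Decidable ε] (hε : EvenType.Plus Q ↔ ε)

include hQ hι hε in
theorem wit_of_iso {V : Type*} [AddCommGroup V] [Module F V] [FiniteDimensional F V] {A : QuadraticForm F V}
    (hd : 1 ≤ d) (hA : (QuadraticMap.polarBilin A).Nondegenerate) (hV : finrank F V = 2 * d)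
    (hp : EvenType.Plus A ↔ ε) {P : F[X]} {m : ℕ} (hw : OrthIsoRealize.Wit r A P m) :
    OrthIsoRealize.Wit r Q P m := by
  obtain ⟨a, rfl⟩ : ∃ a, d = a + 1 := ⟨d - 1, by omega⟩
  obtain ⟨φ, hφ⟩ := EvenType.iso_of_type hA hQ (m := a) hV (by rw [Module.finrank_pi, hι]) (hp.trans hε.symm)
  exact hw.transport φ one_ne_zero fun v => by rw [one_mul, hφ]

include hQ hι hε in
/-- Realisation of a split. -/
theorem wit_split (h : Ctx F r i t) (hd : 1 ≤ d) {N : Multiset F[X]} (hN : ∀ u ∈ N, u ∈ basics F r i) {K : ℕ}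
    (hK : ∀ e ≤ K, ∀ j l, l ≤ j →
      OrthIsoRealize.RealTS F r (N.prod * (X - Polynomial.C 1) ^ (2 * j)) (i * e + l))
    {j m : ℕ} (hA : half i * N.card + j = d) (hj : 0 < j ∨ PowTy F r d ε)
    (hF : SplitArith.Fix i j m K (PowTy F r (half i * N.card) ε)) :
    OrthIsoRealize.Wit r Q (N.prod * (X - Polynomial.C 1) ^ (2 * j)) m := by
  classical
  obtain ⟨e, l, he, rfl, hlj, hor⟩ := hF
  obtain ⟨hm1, hm2, hm3⟩ := basic_monic h hN
  rw [← two_half] at hm2
  rcases Nat.eq_zero_or_pos j with rfl | hj0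
  · obtain rfl : l = 0 := by omega
    obtain ⟨n, A, hA', hw⟩ := hK e he 0 0 le_rfl
    have hn := OrthIsoRealize.natDegree_of_wit hw
    rw [mul_zero, pow_zero, mul_one, hm2, mul_assoc] at hn
    obtain ⟨g, W, hg, hr, hP, hrest⟩ := hw
    refine wit_of_iso hQ hι ε hε hd hA' (by omega) ?_ ⟨g, W, hg, hr, hP, hrest⟩
    exact (plus_iff_of_pow h (n := d) (by omega) hA' hg hr (by rwa [hP, mul_zero, pow_zero, mul_one])).1
      (hj.resolve_left (lt_irrefl 0))
  rcases Nat.lt_or_ge l j with hl | hl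
  · obtain ⟨n, A, hA', hw⟩ := hK e he (j - 1) l (by omega)
    have hn := OrthIsoRealize.natDegree_of_wit hw
    rw [hm1.natDegree_mul ((monic_X_sub_C 1).pow _), natDegree_pow, natDegree_X_sub_C, mul_one, hm2, mul_assoc] at hn
    obtain ⟨n', Q₂, rfl, hn', hb⟩ :=
      OrthPrimeOrderClasses.exists_plane_sum (a := half i * N.card + (j - 1)) (by omega) A hA' ε
    have hw' := hw.prod (OrthIsoRealize.wit_id (r := r) Q₂)
    rw [Module.finrank_fin_fun, mul_assoc, ← pow_add, show 2 * (j - 1) + 2 = 2 * j by omega, Nat.add_zero] at hw'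
    exact wit_of_iso hQ hι ε hε hd (OrthPrimeOrderClasses.nondegenerate_prod hA' hn')
      (by rw [Module.finrank_prod, hn, Module.finrank_fin_fun]; omega) hb hw'
  · obtain rfl : l = j := by omega
    have hG : PowTy F r (half i * N.card) ε := (hor.resolve_left (lt_irrefl _)).resolve_left (by omega)
    obtain ⟨n, A, hA', hw⟩ := hK e he 0 0 le_rfl
    have hn := OrthIsoRealize.natDegree_of_wit hw
    rw [mul_zero, pow_zero, mul_one] at hw
    rw [mul_zero, pow_zero, mul_one, hm2, mul_assoc] at hn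
    obtain ⟨g, W, hg, hr, hP, hrest⟩ := hw
    have hAp : EvenType.Plus A ↔ ε := (plus_iff_of_pow h hn hA' hg hr (by rwa [hP])).1 hG
    obtain ⟨U, hU, hUd⟩ := exists_singular_plus (F := F) l
    have hw₂ : OrthIsoRealize.Wit r (qfPlus l F) ((X - Polynomial.C 1) ^ (2 * l)) l := by
      refine ⟨1, U, fun v => rfl, one_pow r, ?_, hUd, hU, fun w hw => hw⟩
      rw [LinearMap.charpoly_one, Module.finrank_pi, map_one]
      simp [two_mul]
    have hl2 : finrank F (Fin l ⊕ Fin l → F) = 2 * l := by rw [Module.finrank_pi]; simp; omega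
    have hB : EvenType.Plus (qfPlus l F) := ⟨U, hU, by rw [hUd, hl2]⟩
    have hw' : OrthIsoRealize.Wit r (A.prod (qfPlus l F)) (N.prod * (X - Polynomial.C 1) ^ (2 * l)) (i * e + 0 + l) :=
      OrthIsoRealize.Wit.prod ⟨g, W, hg, hr, hP, hrest⟩ hw₂
    rw [Nat.add_zero] at hw'
    refine wit_of_iso hQ hι ε hε hd (OrthPrimeOrderClasses.nondegenerate_prod hA' (nondegenerate_qfPlus l))
      (by rw [Module.finrank_prod, hn, hl2]; omega) ?_ hw'
    rw [OrthEvenProd.plus_prod hA' (nondegenerate_qfPlus l) hn hl2, iff_true_right hB]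
    exact hAp

end Realise

section Necessary

variable {V : Type*} [AddCommGroup V] [Module F V] [FiniteDimensional F V]

theorem mult_unique {R R' : F[X]} {a b : ℕ} (hR : R.eval 1 ≠ 0) (hR' : R'.eval 1 ≠ 0)
    (h : R * (X - Polynomial.C 1) ^ a = R' * (X - Polynomial.C 1) ^ b) : a = b ∧ R = R' := by
  have h0 : ∀ {S : F[X]}, S.eval 1 ≠ 0 → S ≠ 0 ∧ rootMultiplicity 1 S = 0 := fun {S} hS =>
    ⟨fun e => hS (by rw [e, eval_zero]), rootMultiplicity_eq_zero fun e => hS e⟩
  have h1 := congrArg (rootMultiplicity (1 : F)) h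
  rw [rootMultiplicity_mul_X_sub_C_pow (h0 hR).1, rootMultiplicity_mul_X_sub_C_pow (h0 hR').1, (h0 hR).2,
    (h0 hR').2, zero_add, zero_add] at h1
  subst h1
  exact ⟨rfl, mul_right_cancel₀ (pow_ne_zero _ (X_sub_C_ne_zero 1)) h⟩

theorem charpoly_sup {g : Module.End F V} {A B : Submodule F V} (hd : A ⊓ B = ⊥) (hA : ∀ x ∈ A, g x ∈ A)
    (hB : ∀ x ∈ B, g x ∈ B) (hS : ∀ x ∈ A ⊔ B, g x ∈ A ⊔ B) :
    (g.restrict hS).charpoly = (g.restrict hA).charpoly * (g.restrict hB).charpoly := by
  let L : A × B →ₗ[F] (A ⊔ B : Submodule F V) :=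
    (Submodule.inclusion le_sup_left).coprod (Submodule.inclusion le_sup_right)
  have hLv : ∀ p : A × B, ((L p : _) : V) = (p.1 : V) + p.2 := fun p => rfl
  have hinj : Function.Injective L := (injective_iff_map_eq_zero L).2 fun p hp => by
    have h : (p.1 : V) + p.2 = 0 := (hLv p).symm.trans (congrArg Subtype.val hp)
    have h1 : (p.1 : V) ∈ A ⊓ B := ⟨p.1.2, by rw [eq_neg_of_add_eq_zero_left h]; exact B.neg_mem p.2.2⟩
    rw [hd, Submodule.mem_bot] at h1
    rw [h1, zero_add] at h
    exact Prod.ext (Subtype.ext h1) (Subtype.ext h)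
  have hsurj : Function.Surjective L := fun y => by
    obtain ⟨a, ha, b, hb, e⟩ := Submodule.mem_sup.1 y.2
    exact ⟨(⟨a, ha⟩, ⟨b, hb⟩), Subtype.ext ((hLv _).trans e)⟩
  let φ := LinearEquiv.ofBijective L ⟨hinj, hsurj⟩
  rw [← LinearMap.charpoly_prodMap, ← LinearEquiv.charpoly_conj φ]
  congr 1
  refine LinearMap.ext fun y => ?_
  obtain ⟨p, rfl⟩ := φ.surjective y
  rw [LinearEquiv.conj_apply_apply, φ.symm_apply_apply]
  refine Subtype.ext ?_
  show g ((L p : _) : V) = ((L (g.restrict hA p.1, g.restrict hB p.2) : _) : V)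
  rw [hLv, hLv, map_add]
  rfl

theorem restrict_pow {g : Module.End F V} {r : ℕ} (hr : g ^ r = 1) {W : Submodule F V} (hW : ∀ x ∈ W, g x ∈ W) :
    (g.restrict hW) ^ r = 1 := by
  refine LinearMap.ext fun v => Subtype.ext ?_
  have : ∀ n : ℕ, (((g.restrict hW) ^ n) v : V) = (g ^ n) (v : V) := fun n => by
    induction n with
    | zero => rfl
    | succ n ih => rw [pow_succ', pow_succ', Module.End.mul_apply, Module.End.mul_apply, ← ih]; rfl
  rw [this, hr]
  rfl

/-- The number of factors with `D · rdual D ∣ N.prod`. -/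
theorem pairs_le (h : Ctx F r i t) (he : Even i) {M S : Multiset F[X]} (hM : ∀ u ∈ M, u ∈ basics F r i)
    (hS : ∀ u ∈ S, u ∈ basics F r i) (hnd : S.Nodup) {D : F[X]} (hD : D.Monic)
    (hfac : ∀ g : F[X], g.Monic → Irreducible g → g ∣ D → g ∈ factorSet F r)
    (hdvd : D * rdual D ∣ (M + M + S).prod) : ∃ k, D.natDegree = i * k ∧ k ≤ M.card := by
  classical
  set L := UniqueFactorizationMonoid.normalizedFactors D
  have hLm : ∀ u ∈ L, u ∈ factorSet F r := fun u hu => by
    have hirr := UniqueFactorizationMonoid.irreducible_of_normalized_factor u hu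
    refine hfac u ?_ hirr (UniqueFactorizationMonoid.dvd_of_mem_normalizedFactors hu)
    rw [← UniqueFactorizationMonoid.normalize_normalized_factor u hu]
    exact Polynomial.monic_normalize hirr.ne_zero
  have hLp : L.prod = D := by
    rw [UniqueFactorizationMonoid.prod_normalizedFactors_eq hD.ne_zero, hD.normalize_eq_self]
  have hdual : ∀ T : Multiset F[X], (∀ u ∈ T, u ∈ factorSet F r) → rdual T.prod = T.prod := by
    intro T
    induction T using Multiset.induction with
    | empty => intro _; rw [Multiset.prod_zero, rdual_one]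
    | cons u T ih =>
      intro hT
      rw [Multiset.prod_cons, rdual_mul, (rdual_mem h (hT u (Multiset.mem_cons_self _ _))).2.2 he,
        ih fun v hv => hT v (Multiset.mem_cons_of_mem hv)]
  have hb : ∀ u ∈ M + M + S, u ∈ factorSet F r := fun u hu => by
    have hu' : u ∈ basics F r i := by
      rcases Multiset.mem_add.1 hu with hu | hu
      · rcases Multiset.mem_add.1 hu with hu | hu <;> exact hM u hu
      · exact hS u hu
    obtain ⟨f, hf, rfl⟩ := mem_basics.1 hu'
    rwa [basic, if_pos he]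
  have hnf : ∀ T : Multiset F[X], (∀ u ∈ T, u ∈ factorSet F r) →
      UniqueFactorizationMonoid.normalizedFactors T.prod = T := fun T hT => by
    rw [UniqueFactorizationMonoid.normalizedFactors_prod_eq T fun u hu => (mem_data h (hT u hu)).2.1,
      Multiset.map_congr rfl fun u hu => (mem_data h (hT u hu)).1.normalize_eq_self, Multiset.map_id']
  have hLL : L + L ≤ M + M + S := by
    rw [← hnf (L + L) (fun u hu => (Multiset.mem_add.1 hu).elim (hLm u) (hLm u)), ← hnf _ hb]
    refine (UniqueFactorizationMonoid.dvd_iff_normalizedFactors_le_normalizedFactors ?_ ?_).1 ?_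
    · rw [Multiset.prod_add, hLp]; exact mul_ne_zero hD.ne_zero hD.ne_zero
    · exact Multiset.prod_ne_zero fun h0 => (mem_data h (hb 0 h0)).2.1.ne_zero rfl
    · rw [Multiset.prod_add]
      conv_lhs => arg 2; rw [← hdual L hLm]
      rwa [hLp]
  have hle : L ≤ M := Multiset.le_iff_count.2 fun u => by
    have h1 := Multiset.le_iff_count.1 hLL u
    rw [Multiset.count_add, Multiset.count_add, Multiset.count_add] at h1
    have h2 := Multiset.nodup_iff_count_le_one.1 hnd u
    omega
  refine ⟨L.card, ?_, Multiset.card_le_card hle⟩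
  have key : ∀ T : Multiset F[X], (∀ u ∈ T, u ∈ factorSet F r) → T.prod.natDegree = i * T.card := by
    intro T hT
    rw [Polynomial.natDegree_multiset_prod_of_monic _ fun u hu => (mem_data h (hT u hu)).1,
      Multiset.map_congr rfl fun u hu => (mem_data h (hT u hu)).2.2.1, Multiset.map_const', Multiset.sum_replicate,
      smul_eq_mul, mul_comm]
  rw [← hLp]
  exact key L hLm

variable {Q : QuadraticForm F V}

/-- What an invariant totally singular subspace forces. -/
theorem necessary (h : Ctx F r i t) (hQ : (QuadraticMap.polarBilin Q).Nondegenerate) {d : ℕ}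
    (hV : finrank F V = 2 * d) (ε : Prop) [Decidable ε] (hε : EvenType.Plus Q ↔ ε) {g : Module.End F V}
    (hg : ∀ v, Q (g v) = Q v) (hgr : g ^ r = 1) {M S : Multiset F[X]} (hM : ∀ u ∈ M, u ∈ basics F r i)
    (hS : ∀ u ∈ S, u ∈ basics F r i) (hnd : S.Nodup) {j : ℕ}
    (hP : g.charpoly = (M + M + S).prod * (X - Polynomial.C 1) ^ (2 * j))
    {W : Submodule F V} {m : ℕ} (hW : finrank F W = m) (hW0 : ∀ w ∈ W, Q w = 0) (hinv : ∀ w ∈ W, g w ∈ W) :
    SplitArith.Fix i j m (if Even i then M.card else (M + M + S).card)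
      (PowTy F r (half i * (M + M + S).card) ε) := by
  classical
  set N := M + M + S with hNdef
  have hN : ∀ u ∈ N, u ∈ basics F r i := fun u hu => by
    rcases Multiset.mem_add.1 hu with hu | hu
    · rcases Multiset.mem_add.1 hu with hu | hu <;> exact hM u hu
    · exact hS u hu
  obtain ⟨E, K, hsp, hE, hK, hKfix, hdec⟩ := OrthEvenProd.fixed_split h.ne g hg hgr
  have hgE : ∀ x ∈ E, g x ∈ E := fun x hx => by rwa [hE x hx]
  have hnK := hsp.symm.nondeg_left hQ
  have hnE := hsp.nondeg_left hQ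
  have hid : g.restrict hgE = 1 := LinearMap.ext fun x => Subtype.ext (hE x x.2)
  have hK1 : (g.restrict hK).charpoly.eval 1 ≠ 0 := fun e => by
    obtain ⟨v, hv, hv0⟩ := (OrthPrimeOrderClasses.exists_fixed_iff _).2 e
    exact hv0 (Subtype.ext (hKfix v v.2 (congrArg Subtype.val hv)))
  have htop : ∀ x ∈ E ⊔ K, g x ∈ E ⊔ K := fun x _ => hsp.sup ▸ Submodule.mem_top
  have hch : g.charpoly = (g.restrict hK).charpoly * (X - Polynomial.C 1) ^ finrank F E := by
    rw [← show (g.restrict htop).charpoly = g.charpoly by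
        rw [← LinearEquiv.charpoly_conj (LinearEquiv.ofTop _ hsp.sup)]
        exact congrArg _ (LinearMap.ext fun x => rfl),
      charpoly_sup hsp.inf hgE hK htop, hid, LinearMap.charpoly_one, map_one, mul_comm]
  obtain ⟨hEd, hKN⟩ := mult_unique hK1 (basic_monic h hN).2.2 (hch.symm.trans hP)
  have hKd : finrank F K = 2 * (half i * N.card) := by
    rw [← LinearMap.charpoly_natDegree (g.restrict hK), hKN, (basic_monic h hN).2.1, ← two_half, mul_assoc]
  have hdd := hsp.dim
  set WE := W ⊓ E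
  set WK := W ⊓ K
  have hWK : ∀ x ∈ WK, g x ∈ WK := fun x hx => ⟨hinv x hx.1, hK x hx.2⟩
  have hinf : WE ⊓ WK = ⊥ := le_bot_iff.1 (hsp.inf ▸ inf_le_inf inf_le_right inf_le_right)
  have hdim : finrank F WE + finrank F WK = m := by
    rw [← Submodule.finrank_sup_add_finrank_inf_eq WE WK, ← hdec W hinv, hinf, finrank_bot, add_zero, hW]
  set WE' := WE.comap E.subtype
  have hWE' : finrank F WE' = finrank F WE := (Submodule.comapSubtypeEquivOfLe inf_le_right).finrank_eq
  have hts : ∀ u ∈ WE', EvenType.res Q E u = 0 := fun u hu => hW0 u hu.1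
  have hlj : finrank F WE ≤ j := by
    let BE := OrthSingularCount.pol (EvenType.res Q E)
    have h1 : WE' ≤ BE.orthogonal WE' := fun v hv n hn =>
      OrthSingularCount.polar_zero_of_ts (EvenType.res Q E) hts hn hv
    have h2 := Submodule.finrank_mono h1
    rw [LinearMap.BilinForm.finrank_orthogonal (show BE.Nondegenerate from hnE), hWE', hEd] at h2
    omega
  set WK' := WK.comap K.subtype
  have hgWK : WK' ≤ WK'.comap (g.restrict hK) := fun x hx => hWK x hx
  have hdvd := IsotropicInvariant.dvd_charpoly (OrthSingularCount.pol (EvenType.res Q K)) hnK (g.restrict hK)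
    (fun u v => by
      show QuadraticMap.polar (⇑Q) (g (u : V)) (g (v : V)) = QuadraticMap.polar (⇑Q) (u : V) (v : V)
      simp only [QuadraticMap.polar, ← map_add, hg]) WK'
    (fun u hu v hv => OrthSingularCount.polar_zero_of_ts (EvenType.res Q K) (fun (x : K) (hx : x ∈ WK') => hW0 _ (show (x : V) ∈ WK from hx).1) hu hv) hgWK
  rw [hKN] at hdvd
  set D := ((g.restrict hK).restrict hgWK).charpoly
  have hDd : D.natDegree = finrank F WK := by
    rw [LinearMap.charpoly_natDegree, (Submodule.comapSubtypeEquivOfLe inf_le_right).finrank_eq]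
  have hfac : ∀ u : F[X], u.Monic → Irreducible u → u ∣ D → u ∈ factorSet F r := by
    intro u hum hui hud
    have huN : u ∣ N.prod := (hud.trans (dvd_mul_right D (rdual D))).trans hdvd
    obtain ⟨w, hw, huw⟩ := hui.prime.exists_mem_multiset_dvd huN
    obtain ⟨f, hf, rfl⟩ := mem_basics.1 (hN w hw)
    rcases eq_or_eq_of_dvd_basic h hf hum hui huw with e | e
    · exact e ▸ hf
    · exact e ▸ (rdual_mem h hf).1
  obtain ⟨k, hk, hkK⟩ : ∃ k, D.natDegree = i * k ∧ k ≤ if Even i then M.card else N.card := by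
    split_ifs with he
    · exact pairs_le h he hM hS hnd (LinearMap.charpoly_monic _) hfac hdvd
    · obtain ⟨k, hk⟩ := SelfRecipDivisors.dvd_natDegree (i := i) (LinearMap.charpoly_monic _)
        fun u a b c => by rw [(mem_data h (hfac u a b c)).2.2.1]
      refine ⟨k, hk, ?_⟩
      have h3 := Polynomial.natDegree_le_of_dvd hdvd (basic_monic h hN).1.ne_zero
      have hD0 : D.coeff 0 ≠ 0 := fun h0 => by
        have h4 : (X : F[X]) ∣ N.prod := (X_dvd_iff.2 h0).trans ((dvd_mul_right D (rdual D)).trans hdvd)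
        obtain ⟨w, hw, hXw⟩ := (Polynomial.irreducible_X (R := F)).prime.exists_mem_multiset_dvd h4
        obtain ⟨f, hf, rfl⟩ := mem_basics.1 (hN w hw)
        have hXf : (X : F[X]) ∈ factorSet F r := by
          rcases eq_or_eq_of_dvd_basic h hf monic_X irreducible_X hXw with e | e
          · exact e ▸ hf
          · exact e ▸ (rdual_mem h hf).1
        exact coeff_zero_ne h (dvd_pow_sub_one h hXf) coeff_X_zero
      have hDm : D.Monic := LinearMap.charpoly_monic _
      rw [(basic_monic h hN).2.1, basicDeg, if_neg he, hDm.natDegree_mul (cdual_monic _ hD0),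
        show (rdual D).natDegree = D.natDegree from natDegree_cdual _ hD0, hk, ← two_mul, mul_assoc] at h3
      exact Nat.le_of_mul_le_mul_left (Nat.le_of_mul_le_mul_left h3 two_pos) (i_pos h)
  refine ⟨k, finrank F WE, hkK, by omega, hlj, ?_⟩
  rcases Nat.lt_or_ge (finrank F WE) j with h1 | h1
  · exact Or.inl h1
  refine Or.inr (Or.inr ?_)
  have hEp : EvenType.Plus (EvenType.res Q E) := ⟨WE', hts, by omega⟩
  refine (plus_iff_of_pow h hKd hnK (g := g.restrict hK) (fun v => hg v) (restrict_pow hgr hK) hK1).2 ?_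
  rw [← hε]
  have hpp := OrthEvenProd.plus_prod hnE hnK (a := j) hEd hKd
  let φ := Submodule.prodEquivOfIsCompl E K ⟨disjoint_iff.2 hsp.inf, codisjoint_iff.2 hsp.sup⟩
  rw [← OrthNondegRealize.plus_of_similar φ one_ne_zero (Q := (EvenType.res Q E).prod (EvenType.res Q K)) (Q' := Q)
    (fun p => by rw [one_mul]; exact hsp.quad p.1 p.2), hpp, iff_true_left hEp]

end Necessary

end Cfsg.Agent.OrthEvenTS
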