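import Cfsg.Agent.Lib.Classical.OrthComplexStructure
import Cfsg.Agent.Lib.Classical.OrthEvenProd

/-! Elements of order two modulo scalars of `Ω^±_{2d}(q)` and invariant totally singular subspaces, `q` odd. -/

set_option autoImplicit false
set_option linter.unusedSectionVars false
set_option quotPrecheck false

namespace Cfsg.Agent.OrthEvenTSInvolution

open Module Matrix Cfsg.Agent.Classical Cfsg.Agent.Classical.OrthAut Cfsg.Agent.OrthNondegInvolution

variable {F : Type*} [Field F] [Fintype F] {ι : Type} [Fintype ι] [DecidableEq ι] {Q : QuadraticForm F (ι → F)}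

local notation "OG" => isometryGroup F ⇑Q
local notation "B" => QuadraticMap.polar ⇑Q

variable (h2 : (2 : F) ≠ 0) (hQ : (QuadraticMap.polarBilin Q).Nondegenerate) {d : ℕ}
  (hι : Fintype.card ι = 2 * d) (ε : Prop) (hε : EvenType.Plus Q ↔ ε)

include h2 in
theorem exists_two_squares (x : F) : ∃ a b : F, a * a + b * b = x := by
  classical
  obtain ⟨a, b, hab⟩ := FiniteField.exists_root_sum_quadratic (f := (Polynomial.X ^ 2 : Polynomial F))
    (g := Polynomial.X ^ 2 - Polynomial.C x) (Polynomial.degree_X_pow 2) (Polynomial.degree_X_pow_sub_C two_pos x)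
    (FiniteField.odd_card_of_char_ne_two fun h => h2 (by haveI := ringChar.of_eq h; exact CharTwo.two_eq_zero))
  refine ⟨a, b, ?_⟩
  simp only [Polynomial.eval_pow, Polynomial.eval_X, Polynomial.eval_sub, Polynomial.eval_C] at hab
  linear_combination hab

include h2 hQ in
/-- An isometry squaring to `-1` when `-1` is a square. -/
theorem of_square {g : OG} (hg : ∀ x, ogVal g *ᵥ (ogVal g *ᵥ x) = -x) {c : F} (hc : c * c = -1) {m : ℕ} (hm : 2 * m ≤ Fintype.card ι) :
    ∃ W : Submodule F (ι → F), finrank F W = m ∧ (∀ w ∈ W, Q w = 0) ∧ ∀ w ∈ W, ogVal g *ᵥ w ∈ W := by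
  have hc0 : c ≠ 0 := fun e => by rw [e, zero_mul] at hc; exact one_ne_zero (neg_eq_zero.1 hc.symm)
  have key : ∀ c : F, c * c = -1 → ∀ U : Submodule F (ι → F), U = LinearMap.ker (Matrix.toLin' (ogVal g) - c • LinearMap.id) →
      ∀ w ∈ U, ogVal g *ᵥ w = c • w ∧ Q w = 0 := by
    intro c hc U hU w hw
    rw [hU, LinearMap.mem_ker, LinearMap.sub_apply, LinearMap.smul_apply, LinearMap.id_apply, Matrix.toLin'_apply,
      sub_eq_zero] at hw
    refine ⟨hw, ?_⟩
    have h := ogVal_quad g w
    rw [hw, QuadraticMap.map_smul, hc, smul_eq_mul, neg_one_mul] at h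
    exact (mul_eq_zero.1 (show (2 : F) * Q w = 0 by linear_combination -h)).resolve_left h2
  set U := LinearMap.ker (Matrix.toLin' (ogVal g) - c • LinearMap.id) with hU
  set U' := LinearMap.ker (Matrix.toLin' (ogVal g) - (-c) • LinearMap.id) with hU'
  have hneg : -c * -c = -1 := by rw [neg_mul_neg, hc]
  have hsup : U ⊔ U' = ⊤ := by
    refine eq_top_iff.2 fun x _ => ?_
    set y := (2 : F)⁻¹ • (x - c • ogVal g *ᵥ x)
    have hy : y ∈ U := by
      rw [hU, LinearMap.mem_ker, LinearMap.sub_apply, LinearMap.smul_apply, LinearMap.id_apply, Matrix.toLin'_apply,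
        sub_eq_zero, Matrix.mulVec_smul, Matrix.mulVec_sub, Matrix.mulVec_smul, hg, smul_comm c]
      congr 1
      rw [smul_sub, smul_smul, hc, neg_one_smul, smul_neg]
      abel
    have hy' : x - y ∈ U' := by
      rw [hU', LinearMap.mem_ker, LinearMap.sub_apply, LinearMap.smul_apply, LinearMap.id_apply, Matrix.toLin'_apply,
        sub_eq_zero, Matrix.mulVec_sub, Matrix.mulVec_smul, Matrix.mulVec_sub, Matrix.mulVec_smul, hg]
      simp only [y]
      match_scalars <;> field_simp <;> first | linear_combination hc | linear_combination -hc | ring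
    exact Submodule.mem_sup.2 ⟨y, hy, x - y, hy', add_sub_cancel _ _⟩
  have hts : ∀ (c : F) (U : Submodule F (ι → F)), (∀ w ∈ U, ogVal g *ᵥ w = c • w ∧ Q w = 0) →
      2 * finrank F U ≤ Fintype.card ι := by
    intro c U hU
    let BQ := OrthSingularCount.pol Q
    have h1 : U ≤ BQ.orthogonal U := fun v hv n hn =>
      OrthSingularCount.polar_zero_of_ts Q (fun w hw => (hU w hw).2) hn hv
    have h3 := Submodule.finrank_mono h1
    rw [LinearMap.BilinForm.finrank_orthogonal (show BQ.Nondegenerate from hQ), Module.finrank_pi] at h3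
    omega
  have hU'd := hts _ U' (key (-c) hneg U' hU')
  have hdim := Submodule.finrank_add_le_finrank_add_finrank U U'
  rw [hsup, finrank_top, Module.finrank_pi] at hdim
  obtain ⟨W, hWU, hW⟩ := InvolutionSingular.exists_sub_dim U (k := m) (by omega)
  exact ⟨W, hW, fun w hw => (key c hc U hU w (hWU hw)).2, fun w hw => by
    rw [(key c hc U hU w (hWU hw)).1]; exact W.smul_mem _ hw⟩

include h2 hQ in
/-- Peeling a plane off an invariant subspace. -/
theorem peel {g : OG} (hg : ∀ x, ogVal g *ᵥ (ogVal g *ᵥ x) = -x) {N : Submodule F (ι → F)} (hN : NonSing Q N)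
    (hinv : ∀ x ∈ N, ogVal g *ᵥ x ∈ N) (hpos : 0 < finrank F N) :
    ∃ (v : ι → F) (N' : Submodule F (ι → F)), v ∈ N ∧ Q v ≠ 0 ∧ B v (ogVal g *ᵥ v) = 0 ∧ N' ≤ N ∧ NonSing Q N' ∧
      (∀ x ∈ N', ogVal g *ᵥ x ∈ N' ∧ B v x = 0 ∧ B (ogVal g *ᵥ v) x = 0) ∧ finrank F N' + 2 = finrank F N := by
  obtain ⟨v, hv, hv0⟩ := exists_aniso h2 hN hpos
  set w := ogVal g *ᵥ v with hwdef
  have hvw : B v w = 0 := by
    have h := OrthComplexStructure.polar_apply g v w
    rw [hwdef, hg, QuadraticMap.polar_neg_right, ← hwdef, QuadraticMap.polar_comm _ w v] at h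
    exact (mul_eq_zero.1 (show (2 : F) * B v w = 0 by linear_combination -h)).resolve_left h2
  obtain ⟨hPd, hPn, -⟩ := OrthComplexStructure.plane_plus h2 hv0 (ogVal_quad g v) hvw
  set P : Submodule F (ι → F) := Submodule.span F {v} ⊔ Submodule.span F {w}
  set N' : Submodule F (ι → F) :=
    N ⊓ LinearMap.ker (QuadraticMap.polarBilin Q v) ⊓ LinearMap.ker (QuadraticMap.polarBilin Q w)
  have hN' : ∀ x ∈ N', x ∈ N ∧ B v x = 0 ∧ B w x = 0 := fun x h => ⟨h.1.1, h.1.2, h.2⟩
  have hww : B w w ≠ 0 := by rw [polar_self2, hwdef, ogVal_quad]; exact mul_ne_zero h2 hv0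
  have hvv : B v v ≠ 0 := by rw [polar_self2]; exact mul_ne_zero h2 hv0
  have hsup : P ⊔ N' = N := by
    refine le_antisymm (sup_le (sup_le ((Submodule.span_singleton_le_iff_mem _ _).2 hv)
      ((Submodule.span_singleton_le_iff_mem _ _).2 (hinv v hv))) fun x hx => (hN' x hx).1) fun x hx => ?_
    have hv' : (B v x / B v v) • v + (B w x / B w w) • w ∈ P := Submodule.add_mem_sup
      (Submodule.smul_mem _ _ (Submodule.mem_span_singleton_self v))
      (Submodule.smul_mem _ _ (Submodule.mem_span_singleton_self w))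
    refine Submodule.mem_sup.2 ⟨_, hv', x - ((B v x / B v v) • v + (B w x / B w w) • w),
      ⟨⟨N.sub_mem hx (N.add_mem (N.smul_mem _ hv) (N.smul_mem _ (hinv v hv))), ?_⟩, ?_⟩, add_sub_cancel _ _⟩
    · rw [SetLike.mem_coe, LinearMap.mem_ker, QuadraticMap.polarBilin_apply_apply, QuadraticMap.polar_sub_right,
        QuadraticMap.polar_add_right, QuadraticMap.polar_smul_right, QuadraticMap.polar_smul_right, hvw, smul_eq_mul,
        smul_eq_mul, mul_zero, add_zero, div_mul_cancel₀ _ hvv, sub_self]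
    · rw [SetLike.mem_coe, LinearMap.mem_ker, QuadraticMap.polarBilin_apply_apply, QuadraticMap.polar_sub_right,
        QuadraticMap.polar_add_right, QuadraticMap.polar_smul_right, QuadraticMap.polar_smul_right,
        QuadraticMap.polar_comm _ w v, hvw, smul_eq_mul, smul_eq_mul, mul_zero, zero_add, div_mul_cancel₀ _ hww,
        sub_self]
  have horth : ∀ x ∈ P, ∀ y ∈ N', B x y = 0 := fun x hx y hy => by
    obtain ⟨a, ha, b, hb, rfl⟩ := Submodule.mem_sup.1 hx
    obtain ⟨s, rfl⟩ := Submodule.mem_span_singleton.1 ha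
    obtain ⟨t, rfl⟩ := Submodule.mem_span_singleton.1 hb
    rw [QuadraticMap.polar_add_left, QuadraticMap.polar_smul_left, QuadraticMap.polar_smul_left, (hN' y hy).2.1,
      (hN' y hy).2.2, smul_zero, smul_zero, add_zero]
  refine ⟨v, N', hv, hv0, hvw, inf_le_left.trans inf_le_left, fun x hx hx0 => ?_, fun x hx => ⟨?_, (hN' x hx).2⟩, ?_⟩
  · obtain ⟨u, hu, hxu⟩ := hN x (hN' x hx).1 hx0
    rw [← hsup] at hu
    obtain ⟨y, hy, z, hz, rfl⟩ := Submodule.mem_sup.1 hu
    refine ⟨z, hz, ?_⟩
    rwa [QuadraticMap.polar_add_right, QuadraticMap.polar_comm _ x y, horth y hy x hx, zero_add] at hxu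
  · refine ⟨⟨hinv x (hN' x hx).1, ?_⟩, ?_⟩
    · rw [SetLike.mem_coe, LinearMap.mem_ker, QuadraticMap.polarBilin_apply_apply]
      have h := OrthComplexStructure.polar_apply g w x
      rw [hwdef, hg, QuadraticMap.polar_neg_left, ← hwdef, (hN' x hx).2.2] at h
      exact neg_eq_zero.1 h
    · rw [SetLike.mem_coe, LinearMap.mem_ker, QuadraticMap.polarBilin_apply_apply, hwdef,
        OrthComplexStructure.polar_apply, (hN' x hx).2.1]
  · have := finrank_sup_orth hPn horth
    rw [hsup, hPd] at this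
    omega

include h2 hQ in
/-- An isometry squaring to `-1` has invariant totally singular subspaces of even dimension. -/
theorem of_nonsquare {g : OG} (hg : ∀ x, ogVal g *ᵥ (ogVal g *ᵥ x) = -x) : ∀ (k : ℕ) (N : Submodule F (ι → F)),
    NonSing Q N → (∀ x ∈ N, ogVal g *ᵥ x ∈ N) → 4 * k ≤ finrank F N →
    ∃ W : Submodule F (ι → F), W ≤ N ∧ finrank F W = 2 * k ∧ (∀ w ∈ W, Q w = 0) ∧ ∀ w ∈ W, ogVal g *ᵥ w ∈ W := by
  intro k
  induction k with
  | zero =>
    exact fun N _ _ _ => ⟨⊥, bot_le, finrank_bot F _, fun w hw => by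
      rw [(Submodule.mem_bot F).1 hw, QuadraticMap.map_zero], fun w hw => by
      rw [(Submodule.mem_bot F).1 hw, Matrix.mulVec_zero]; exact Submodule.zero_mem _⟩
  | succ k ih =>
    intro N hN hinv hk
    obtain ⟨v, N₁, hv, hv0, hvw, hN₁le, hN₁, hN₁i, hN₁d⟩ := peel h2 hQ hg hN hinv (by omega)
    obtain ⟨v', N₂, hv', hv'0, hvw', hN₂le, hN₂, hN₂i, hN₂d⟩ := peel h2 hQ hg hN₁ (fun x hx => (hN₁i x hx).1) (by omega)
    obtain ⟨W, hWN, hWd, hW0, hWi⟩ := ih N₂ hN₂ (fun x hx => (hN₂i x hx).1) (by omega)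
    obtain ⟨a, b, hab⟩ := exists_two_squares h2 (-Q v' / Q v)
    set w := ogVal g *ᵥ v with hwdef
    set w' := ogVal g *ᵥ v' with hw'def
    obtain ⟨hw'N, -, -⟩ := hN₁i v' hv'
    set z := a • v + b • w + v' with hz
    set u := a • w - b • v + w' with hu
    have hgz : ogVal g *ᵥ z = u := by
      rw [hz, hu, Matrix.mulVec_add, Matrix.mulVec_add, Matrix.mulVec_smul, Matrix.mulVec_smul, hwdef, hg, smul_neg]
      rw [← hw'def]; module
    have hgu : ogVal g *ᵥ u = -z := by rw [← hgz, hg]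
    have hQz : Q z = 0 := by
      rw [hz, QuadraticMap.map_add (⇑Q), QuadraticMap.map_add (⇑Q), QuadraticMap.map_smul, QuadraticMap.map_smul,
        QuadraticMap.polar_smul_left, QuadraticMap.polar_smul_right, hvw, QuadraticMap.polar_add_left,
        QuadraticMap.polar_smul_left, QuadraticMap.polar_smul_left, (hN₁i v' hv').2.1, (hN₁i v' hv').2.2,
        show Q w = Q v from ogVal_quad g v]
      simp only [smul_eq_mul]
      field_simp at hab
      linear_combination hab
    have hQu : Q u = 0 := by rw [← hgz, ogVal_quad, hQz]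
    have hzu : B z u = 0 := by
      have h := OrthComplexStructure.polar_apply g z u
      rw [hgz, hgu, QuadraticMap.polar_neg_right, QuadraticMap.polar_comm _ u z] at h
      exact (mul_eq_zero.1 (show (2 : F) * B z u = 0 by linear_combination -h)).resolve_left h2
    have hperp : ∀ x ∈ W, B z x = 0 ∧ B u x = 0 := fun x hx => by
      obtain ⟨-, h3, h4⟩ := hN₂i x (hWN hx)
      obtain ⟨-, h5, h6⟩ := hN₁i x (hN₂le (hWN hx))
      simp only [hz, hu, QuadraticMap.polar_add_left, QuadraticMap.polar_sub_left, QuadraticMap.polar_smul_left]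
      rw [h3, h4, h5, h6]
      simp
    have hzN : z ∈ N := N.add_mem (N.add_mem (N.smul_mem _ hv) (N.smul_mem _ (hinv v hv))) (hN₁le hv')
    have huN : u ∈ N := hgz ▸ hinv z hzN
    let U := Submodule.span F (Set.range ![z, u])
    have hUm : ∀ x, x ∈ U ↔ ∃ s t : F, s • z + t • u = x := fun x => by
      simp only [U, Matrix.range_cons, Matrix.range_empty, Set.union_empty, Set.singleton_union,
        Submodule.mem_span_pair]
    have hind : ∀ s t : F, B v' (s • z + t • u) = s * (2 * Q v') ∧ B w' (s • z + t • u) = t * (2 * Q v') := by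
      intro s t
      have e1 : B v' z = 2 * Q v' := by
        rw [hz, QuadraticMap.polar_add_right, QuadraticMap.polar_add_right, QuadraticMap.polar_smul_right,
          QuadraticMap.polar_smul_right, QuadraticMap.polar_comm _ v' v, QuadraticMap.polar_comm _ v' w,
          (hN₁i v' hv').2.1, (hN₁i v' hv').2.2, polar_self2]
        simp
      have e2 : B v' u = 0 := by
        rw [hu, QuadraticMap.polar_add_right, QuadraticMap.polar_sub_right, QuadraticMap.polar_smul_right,
          QuadraticMap.polar_smul_right, QuadraticMap.polar_comm _ v' v, QuadraticMap.polar_comm _ v' w,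
          (hN₁i v' hv').2.1, (hN₁i v' hv').2.2, hvw']
        simp
      have e3 : B w' u = 2 * Q v' := by
        rw [hw'def, ← hgz, OrthComplexStructure.polar_apply, e1]
      have e4 : B w' z = 0 := by
        rw [hz, QuadraticMap.polar_add_right, QuadraticMap.polar_add_right, QuadraticMap.polar_smul_right,
          QuadraticMap.polar_smul_right, QuadraticMap.polar_comm _ w' v, QuadraticMap.polar_comm _ w' w,
          (hN₁i w' hw'N).2.1, (hN₁i w' hw'N).2.2, QuadraticMap.polar_comm _ w' v', hvw']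
        simp
      constructor <;> simp only [QuadraticMap.polar_add_right, QuadraticMap.polar_smul_right, e1, e2, e3, e4, smul_eq_mul] <;>
        ring
    have hne : (2 : F) * Q v' ≠ 0 := mul_ne_zero h2 hv'0
    have hUd : finrank F U = 2 := by
      have hli : LinearIndependent F ![z, u] := LinearIndependent.pair_iff.2 fun s t h => by
        obtain ⟨h1, h3⟩ := hind s t
        rw [h, QuadraticMap.polar_zero_right] at h1 h3
        exact ⟨(mul_eq_zero.1 h1.symm).resolve_right hne, (mul_eq_zero.1 h3.symm).resolve_right hne⟩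
      rw [show U = Submodule.span F (Set.range ![z, u]) from rfl, finrank_span_eq_card hli, Fintype.card_fin]
    have hdisj : U ⊓ W = ⊥ := by
      rw [Submodule.eq_bot_iff]
      rintro x ⟨hxU, hxW⟩
      obtain ⟨s, t, rfl⟩ := (hUm x).1 hxU
      obtain ⟨-, h3, h4⟩ := hN₂i _ (hWN hxW)
      obtain ⟨h1, h5⟩ := hind s t
      rw [h3] at h1; rw [h4] at h5
      rw [(mul_eq_zero.1 h1.symm).resolve_right hne, (mul_eq_zero.1 h5.symm).resolve_right hne, zero_smul, zero_smul,
        add_zero]
    refine ⟨U ⊔ W, sup_le (fun x hx => ?_) (hWN.trans (hN₂le.trans hN₁le)), ?_, ?_, ?_⟩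
    · obtain ⟨s, t, rfl⟩ := (hUm x).1 hx
      exact N.add_mem (N.smul_mem _ hzN) (N.smul_mem _ huN)
    · have h := Submodule.finrank_sup_add_finrank_inf_eq U W
      rw [hdisj, finrank_bot, hUd, hWd] at h
      omega
    · intro x hx
      obtain ⟨y, hy, y', hy', rfl⟩ := Submodule.mem_sup.1 hx
      obtain ⟨s, t, rfl⟩ := (hUm y).1 hy
      rw [QuadraticMap.map_add (⇑Q), QuadraticMap.map_add (⇑Q), QuadraticMap.map_smul, QuadraticMap.map_smul, hQz, hQu,
        hW0 y' hy', QuadraticMap.polar_smul_left, QuadraticMap.polar_smul_right, hzu, QuadraticMap.polar_add_left,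
        QuadraticMap.polar_smul_left, QuadraticMap.polar_smul_left, (hperp y' hy').1, (hperp y' hy').2]
      simp
    · intro x hx
      obtain ⟨y, hy, y', hy', rfl⟩ := Submodule.mem_sup.1 hx
      obtain ⟨s, t, rfl⟩ := (hUm y).1 hy
      rw [Matrix.mulVec_add]
      refine Submodule.add_mem_sup ((hUm _).2 ⟨-t, s, ?_⟩) (hWi y' hy')
      rw [Matrix.mulVec_add, Matrix.mulVec_smul, Matrix.mulVec_smul, hgz, hgu]
      module

/-- No invariant subspace of odd dimension when `-1` is no square. -/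
theorem even_of_nonsquare {g : OG} (hg : ∀ x, ogVal g *ᵥ (ogVal g *ᵥ x) = -x) (hns : ¬ IsSquare (-1 : F))
    {W : Submodule F (ι → F)} {m : ℕ} (hW : finrank F W = m) (hinv : ∀ w ∈ W, ogVal g *ᵥ w ∈ W) : Even m := by
  by_contra hodd
  let f : W →ₗ[F] W := (Matrix.toLin' (ogVal g)).restrict hinv
  have hff : f * f = (-1 : F) • (1 : Module.End F W) := LinearMap.ext fun w => Subtype.ext (by
    show ogVal g *ᵥ (ogVal g *ᵥ (w : ι → F)) = ((-1 : F) • w : W)
    rw [hg]; simp)
  have h := congrArg LinearMap.det hff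
  rw [map_mul, LinearMap.det_smul, hW, map_one, mul_one, (Nat.not_even_iff_odd.1 hodd).neg_one_pow] at h
  exact hns ⟨_, h.symm⟩

include h2 hQ hι hε in
/-- An involution of `Ω` fixes totally singular subspaces. -/
theorem of_involution {g : OG} (hg : g * g = 1) (hΩ : g ∈ Omega F ⇑Q) {m : ℕ} (hmd : m < d)
    (hok : m + 2 ≤ d ∨ IsSquare (-1 : F) ∨ ¬ ε) :
    ∃ W : Submodule F (ι → F), finrank F W = m ∧ (∀ w ∈ W, Q w = 0) ∧ ∀ w ∈ W, ogVal g *ᵥ w ∈ W := by
  classical
  obtain ⟨hd, hs⟩ := (mem_omega_gen hQ (genQ_odd hQ h2) g).1 hΩ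
  have hd0 := hd
  set Em := InvolutionSingular.negSub g
  set Ep := fixSub g
  have hinf : Ep ⊓ Em = ⊥ := by
    rw [Submodule.eq_bot_iff]
    rintro x ⟨h1, h1'⟩
    have e : ogVal g *ᵥ x = x := mem_fixSub.1 h1
    have e' : ogVal g *ᵥ x = -x := InvolutionSingular.mem_negSub.1 h1'
    have h3 : (2 : F) • x = 0 := by rw [two_smul]; exact add_eq_zero_iff_eq_neg.2 (e.symm.trans e')
    exact (smul_eq_zero.1 h3).resolve_left h2
  have hsup : Ep ⊔ Em = ⊤ := by
    refine eq_top_iff.2 fun x _ => ?_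
    have : x = (2 : F)⁻¹ • (x + ogVal g *ᵥ x) + (2 : F)⁻¹ • (x - ogVal g *ᵥ x) := by
      rw [← smul_add, show x + ogVal g *ᵥ x + (x - ogVal g *ᵥ x) = (2 : F) • x by module, smul_smul,
        inv_mul_cancel₀ h2, one_smul]
    rw [this]
    exact Submodule.add_mem_sup
      (Ep.smul_mem _ (mem_fixSub.2 (by rw [Matrix.mulVec_add, InvolutionSingular.sq_apply hg, add_comm])))
      (Em.smul_mem _ (InvolutionSingular.mem_negSub.2 (by rw [Matrix.mulVec_sub, InvolutionSingular.sq_apply hg, neg_sub])))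
  have horth : ∀ p ∈ Ep, ∀ n ∈ Em, B p n = 0 := fun p hp n hn => by
    have h := InvolutionSingular.polar_isometry g p n
    rw [mem_fixSub.1 hp, InvolutionSingular.mem_negSub.1 hn, QuadraticMap.polar_neg_right] at h
    exact (mul_eq_zero.1 (show (2 : F) * B p n = 0 by linear_combination -h)).resolve_left h2
  have hsp : EvenType.Split Q Ep Em := ⟨hsup, hinf, horth⟩
  have hdim := hsp.dim
  rw [Module.finrank_pi, hι] at hdim
  obtain ⟨a, ha⟩ : Even (finrank F Ep) := by
    rw [dick, hι] at hd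
    by_contra hodd
    rw [((even_two_mul d).add_odd (Nat.not_even_iff_odd.1 hodd)).neg_one_pow] at hd
    exact absurd hd (by decide)
  have hnp := hsp.nondeg_left hQ
  have hnm := hsp.symm.nondeg_left hQ
  have ha' : finrank F Ep = 2 * a := by omega
  have hb' : finrank F Em = 2 * (d - a) := by omega
  have hiff : ε ↔ (EvenType.Plus (EvenType.res Q Ep) ↔ EvenType.Plus (EvenType.res Q Em)) := by
    rw [← hε, ← OrthEvenProd.plus_prod hnp hnm ha' hb']
    exact (OrthNondegRealize.plus_of_similar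
      (Submodule.prodEquivOfIsCompl Ep Em ⟨disjoint_iff.2 hsp.inf, codisjoint_iff.2 hsp.sup⟩) one_ne_zero
      fun p => by rw [one_mul]; exact hsp.quad p.1 p.2).symm
  have hpd : a = 0 → EvenType.Plus (EvenType.res Q Ep) := fun e =>
    OrthPrimeOrderClasses.plus_of_finrank_zero _ (by omega)
  have hmd' : d - a = 0 → EvenType.Plus (EvenType.res Q Em) := fun e =>
    OrthPrimeOrderClasses.plus_of_finrank_zero _ (by omega)
  obtain ⟨wp, hwp⟩ : ∃ k, k = if EvenType.Plus (EvenType.res Q Ep) then a else a - 1 := ⟨_, rfl⟩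
  obtain ⟨wm, hwm⟩ : ∃ k, k = if EvenType.Plus (EvenType.res Q Em) then d - a else d - a - 1 := ⟨_, rfl⟩
  have hle : m ≤ wp + wm := by
    by_cases h1 : EvenType.Plus (EvenType.res Q Ep) <;> by_cases h3 : EvenType.Plus (EvenType.res Q Em) <;>
      simp only [h1, h3, if_true, if_false] at hwp hwm
    · omega
    · omega
    · omega
    · have ha0 : 0 < a := Nat.pos_of_ne_zero fun e => h1 (hpd e)
      have hb0 : 0 < d - a := Nat.pos_of_ne_zero fun e => h3 (hmd' e)
      rcases hok with hok | ⟨c, hc⟩ | hok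
      · omega
      · exfalso
        obtain ⟨W, hWE, hW0, hWd⟩ := InvolutionSingular.exists_half_neg h2 hQ hc.symm (finrank F Em) g hg rfl hd0 hs
        refine h3 ⟨W.comap Em.subtype, fun u hu => hW0 u hu, ?_⟩
        rw [(Submodule.comapSubtypeEquivOfLe hWE).finrank_eq, hWd]
      · exact absurd (hiff.2 (iff_of_false h1 h3)) hok
  obtain ⟨U, hU, hU0⟩ := InvolutionSingular.exists_ts_even (EvenType.res Q Ep) hnp ha' (k := min m wp) (by
    rw [hwp]
    split_ifs with h1
    · exact Or.inr ⟨min_le_right _ _, h1⟩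
    · left
      have : 0 < a := Nat.pos_of_ne_zero fun e => h1 (hpd e)
      have := min_le_right m (a - 1)
      omega)
  obtain ⟨V, hV, hV0⟩ := InvolutionSingular.exists_ts_even (EvenType.res Q Em) hnm hb' (k := m - min m wp) (by
    have hwm' : m - min m wp ≤ wm := by omega
    rw [hwm] at hwm'
    split_ifs at hwm' with h1
    · exact Or.inr ⟨hwm', h1⟩
    · left
      have : 0 < d - a := Nat.pos_of_ne_zero fun e => h1 (hmd' e)
      omega)
  refine ⟨U.map Ep.subtype ⊔ V.map Em.subtype, ?_, ?_, ?_⟩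
  · have hd' : U.map Ep.subtype ⊓ V.map Em.subtype = ⊥ := le_bot_iff.1 (by
      rw [← hinf]; exact inf_le_inf (Submodule.map_subtype_le _ _) (Submodule.map_subtype_le _ _))
    have h := Submodule.finrank_sup_add_finrank_inf_eq (U.map Ep.subtype) (V.map Em.subtype)
    rw [hd', finrank_bot, Submodule.finrank_map_subtype_eq, Submodule.finrank_map_subtype_eq, hU, hV] at h
    omega
  · intro x hx
    obtain ⟨p, hp, n, hn, rfl⟩ := Submodule.mem_sup.1 hx
    obtain ⟨u, hu, rfl⟩ := hp
    obtain ⟨v, hv, rfl⟩ := hn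
    rw [QuadraticMap.map_add (⇑Q), show Q (Ep.subtype u) = 0 from hU0 u hu, show Q (Em.subtype v) = 0 from hV0 v hv,
      show B (Ep.subtype u) (Em.subtype v) = 0 from horth _ u.2 _ v.2, add_zero, add_zero]
  · intro x hx
    obtain ⟨p, hp, n, hn, rfl⟩ := Submodule.mem_sup.1 hx
    obtain ⟨u, hu, rfl⟩ := hp
    obtain ⟨v, hv, rfl⟩ := hn
    rw [Matrix.mulVec_add, show ogVal g *ᵥ (Ep.subtype u) = Ep.subtype u from mem_fixSub.1 u.2,
      show ogVal g *ᵥ (Em.subtype v) = -Em.subtype v from InvolutionSingular.mem_negSub.1 v.2]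
    exact Submodule.add_mem_sup ⟨u, hu, rfl⟩ ⟨-v, V.neg_mem hv, map_neg _ _⟩

include h2 hQ hι in
/-- In a hyperbolic space some involution of `Ω` fixes no totally singular `d - 1`-space, `-1` not a square. -/
theorem exists_bad_involution (hd : 2 ≤ d) (hp : EvenType.Plus Q) (hns : ¬ IsSquare (-1 : F)) :
    ∃ g : OG, g ∈ Omega F ⇑Q ∧ g * g = 1 ∧ (∀ z : F, ogVal g ≠ z • (1 : Matrix ι ι F)) ∧
      ∀ W : Submodule F (ι → F), finrank F W + 1 = d → (∀ w ∈ W, Q w = 0) → ¬ ∀ w ∈ W, ogVal g *ᵥ w ∈ W := by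
  classical
  have htop : NonSing Q ⊤ := OrthAut.nondeg_top hQ
  obtain ⟨v, -, hvQ⟩ := exists_value_in hQ h2 htop (by rw [finrank_top, Module.finrank_pi]; omega) 1
  have hv0 : Q v ≠ 0 := by rw [hvQ]; exact one_ne_zero
  have hvv : B v v = 2 := by rw [polar_self2, hvQ, mul_one]
  obtain ⟨R, hRn, hRv, hRd⟩ : ∃ R : Submodule F (ι → F), NonSing Q R ∧ (∀ x ∈ R, B v x = 0) ∧
      finrank F R + 1 = 2 * d := by
    have hl : NonSing Q (Submodule.span F {v}) := fun x hx hx0 => by
      obtain ⟨c, rfl⟩ := Submodule.mem_span_singleton.1 hx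
      refine ⟨v, Submodule.mem_span_singleton_self v, ?_⟩
      rw [QuadraticMap.polar_smul_left, smul_eq_mul, hvv]
      exact mul_ne_zero (fun e => hx0 (by rw [e, zero_smul])) h2
    have hs := OrthNondegCount.split_perp (EvenType.nondeg_res hl)
    have h1 := hs.dim
    rw [finrank_span_singleton (fun e => hv0 (by rw [e, QuadraticMap.map_zero])), Module.finrank_pi, hι] at h1
    exact ⟨_, fun w hw hw0 => ((OrthNondegRealize.nondeg_on_iff _).2 (hs.symm.nondeg_left hQ) w hw hw0).2,
      fun x hx => hx v (Submodule.mem_span_singleton_self v), by omega⟩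
  obtain ⟨w, hwR, hwQ⟩ := exists_value_in hQ h2 hRn (by omega) 1
  have hw0 : Q w ≠ 0 := by rw [hwQ]; exact one_ne_zero
  have hvw : B v w = 0 := hRv w hwR
  have hww : B w w = 2 := by rw [polar_self2, hwQ, mul_one]
  set g := OrthAut.refl hv0 * OrthAut.refl hw0
  have happ : ∀ z, ogVal g *ᵥ z = z - B v z • v - B w z • w := fun z => by
    rw [ogVal_mul, ← Matrix.mulVec_mulVec, refl_apply, refl_apply, QuadraticMap.polar_sub_right,
      QuadraticMap.polar_smul_right, hvw, hvQ, hwQ]
    simp only [inv_one, one_mul, smul_zero, sub_zero]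
    module
  have hne : v ≠ 0 ∧ w ≠ 0 :=
    ⟨fun e => hv0 (by rw [e, QuadraticMap.map_zero]), fun e => hw0 (by rw [e, QuadraticMap.map_zero])⟩
  obtain ⟨hPd, hPn, hPp⟩ := OrthComplexStructure.plane_plus h2 hv0 (hwQ.trans hvQ.symm) hvw
  set P : Submodule F (ι → F) := Submodule.span F {v} ⊔ Submodule.span F {w}
  have hsplit := OrthNondegCount.split_perp (EvenType.nondeg_res hPn)
  set T := OrthNondegCount.perp Q P
  have hT : ∀ x ∈ T, B v x = 0 ∧ B w x = 0 := fun x hx =>
    ⟨hx v (Submodule.mem_sup_left (Submodule.mem_span_singleton_self v)),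
      hx w (Submodule.mem_sup_right (Submodule.mem_span_singleton_self w))⟩
  have hTd := hsplit.dim
  rw [hPd, Module.finrank_pi, hι] at hTd
  refine ⟨g, (mem_omega_gen hQ (genQ_odd hQ h2) g).2 ⟨?_, ?_⟩, ?_, fun z hz => ?_, fun W hWd hW0 hinv => ?_⟩
  · rw [dick_refl_mul hQ, dick_refl hQ, neg_neg]
  · rw [spin_mul hQ, spin_refl hQ, spin_refl hQ, hvQ, hwQ, sqSign_of_isSquare IsSquare.one, one_mul]
  · refine ogVal_ext (Matrix.ext_iff_mulVec.2 fun z => ?_)
    rw [ogVal_mul g, ← Matrix.mulVec_mulVec, happ, happ, ogVal_one, Matrix.one_mulVec]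
    simp only [QuadraticMap.polar_sub_right, QuadraticMap.polar_smul_right, hvv, hww, hvw,
      QuadraticMap.polar_comm _ w v, smul_eq_mul]
    module
  · obtain ⟨x, hx, hx0⟩ := Submodule.exists_mem_ne_zero_of_ne_bot (p := T) fun e => by
      rw [e, finrank_bot] at hTd; omega
    have h1 := happ v
    have h3 := happ x
    rw [hz, Matrix.smul_mulVec, Matrix.one_mulVec] at h1 h3
    rw [hvv, QuadraticMap.polar_comm _ w v, hvw, zero_smul, sub_zero] at h1
    rw [(hT x hx).1, (hT x hx).2, zero_smul, zero_smul, sub_zero, sub_zero] at h3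
    have hz1 : z = 1 := smul_left_injective F hx0 (h3.trans (one_smul F x).symm)
    rw [hz1, one_smul] at h1
    exact hne.1 ((smul_eq_zero.1 (show (2 : F) • v = 0 by linear_combination (norm := module) h1)).resolve_left h2)
  · have hperp : ∀ y ∈ W, B v y = 0 ∧ B w y = 0 := fun y hy => by
      have h := hW0 _ (W.sub_mem hy (hinv y hy))
      rw [happ, show y - (y - B v y • v - B w y • w) = B v y • v + B w y • w by module, QuadraticMap.map_add (⇑Q),
        QuadraticMap.map_smul, QuadraticMap.map_smul, QuadraticMap.polar_smul_left, QuadraticMap.polar_smul_right,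
        hvw, hvQ, hwQ] at h
      simp only [smul_eq_mul, mul_one, mul_zero, add_zero] at h
      by_cases hb : B w y = 0
      · rw [hb, mul_zero, add_zero, mul_self_eq_zero] at h
        exact ⟨h, hb⟩
      · exact absurd ⟨B v y * (B w y)⁻¹, by field_simp; linear_combination -h⟩ hns
    have hWT : W ≤ T := fun y hy x hx => by
      obtain ⟨a, ha, b, hb, rfl⟩ := Submodule.mem_sup.1 hx
      obtain ⟨s, rfl⟩ := Submodule.mem_span_singleton.1 ha
      obtain ⟨t, rfl⟩ := Submodule.mem_span_singleton.1 hb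
      show B (s • v + t • w) y = 0
      rw [QuadraticMap.polar_add_left, QuadraticMap.polar_smul_left, QuadraticMap.polar_smul_left, (hperp y hy).1,
        (hperp y hy).2, smul_zero, smul_zero, add_zero]
    have hTp : EvenType.Plus (EvenType.res Q T) :=
      ⟨W.comap T.subtype, fun u hu => hW0 u hu, by rw [(Submodule.comapSubtypeEquivOfLe hWT).finrank_eq]; omega⟩
    have := (hsplit.plus_iff hQ (a := 0) (b := d - 2) hPd (by omega)).1 hp
    exact hns (hPp.1 (this.2 hTp))

end Cfsg.Agent.OrthEvenTSInvolution
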