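import Cfsg.Agent.Lib.Classical.OrthPlusModel

/-!
The inner-diagonal group of an even-dimensional form where triality may occur: the part of the theory
of `EvenSpace` that does not use that every automorphism is semilinear.
-/

set_option autoImplicit false
set_option linter.unusedSectionVars false
set_option quotPrecheck false
set_option maxHeartbeats 1000000

namespace Cfsg.Agent.Classical.OrthAut

open Matrix Module Cfsg.Agent.Classical.Descent

variable {F : Type*} [Field F] [Fintype F] {ι : Type} [Fintype ι] [DecidableEq ι]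
  {Q : QuadraticForm F (ι → F)} {n : ℕ}

local notation "Mn" => Matrix ι ι F
local notation "OG" => isometryGroup F ⇑Q
local notation "PQ" => POmega F ⇑Q
local notation "GO" => Geo.quadSimilarityGroup (F := F) ⇑Q
local notation "V" => (ι → F)
local notation "B" => QuadraticMap.polar ⇑Q
local notation "π" => omPi (Q := Q)

/-- An even-dimensional form with every multiplier. -/
structure EvenBase (Q : QuadraticForm F (ι → F)) (n : ℕ) : Prop where
  nd : (QuadraticMap.polarBilin Q).Nondegenerate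
  tri : Tri Q
  card : Fintype.card ι = 2 * n
  sim : ∀ c : F, c ≠ 0 → ∃ g : GL ι F, ∀ v, Q ((g : Mn) *ᵥ v) = c * Q v

/-- Semisimilarities acting trivially are scalar, without excluding triality. -/
theorem poSemi_eq_one_of_tri (hQ : (QuadraticMap.polarBilin Q).Nondegenerate) (hT : Tri Q)
    {g : GL ι F} {σ : F ≃+* F} (h : IsSemisimilarityPair (⇑Q) g σ)
    (h1 : (poSemi h : MulAut PQ) = 1) : σ = RingEquiv.refl F ∧ ∃ c : F, (g : Mn) = c • 1 := by
  obtain ⟨p, hp⟩ := CharP.exists F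
  haveI : Fact p.Prime := ⟨CharP.char_is_prime F p⟩
  obtain ⟨κ, hG'⟩ := semi_of_pair h
  have hinj : ∀ x, semiFun g σ x = 0 → x = 0 := fun x hx => eq_zero_of_polar hQ fun z =>
    σ.injective (mul_left_cancel₀ hG'.ne (by
      rw [← hG'.polar, hx, QuadraticMap.polar_zero_left, map_zero, mul_zero]))
  have hfix : ∀ a, a ≠ 0 → Q a = 0 → ∃ c : F, semiFun g σ a = c • a := by
    intro a ha haa
    obtain ⟨c, -, hc⟩ := parallel_of_thru_eq hQ hT ha haa (e' := semiFun g σ a) (by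
      rintro M ⟨w, hw, rfl⟩
      have hr := rel_semi p hQ hT h hG' (fun x => rfl) hw.ok
      rw [h1] at hr
      obtain ⟨s, t, hs, ht, hM, hN, e⟩ := hr
      have hr' : Rel p (1 : MulAut PQ) (eMat Q a w) (eMat Q a w) :=
        ⟨s, s, hs, hs, hM, hM, rfl⟩
      have e' := Rel.unique p hQ hT hr' ⟨s, t, hs, ht, hM, hN, e⟩
      rw [e']
      refine ⟨κ⁻¹ • semiFun g σ w, ⟨by rw [hG'.quad, haa, map_zero, mul_zero],
        by rw [QuadraticMap.map_smul, hG'.quad, hw.2.1]; simp,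
        by rw [QuadraticMap.polar_smul_right, hG'.polar, hw.2.2.1]; simp, fun u v h0 => ?_⟩, rfl⟩
      obtain ⟨a', b'⟩ := hw.2.2.2 (σ.symm u) (σ.symm (v * κ⁻¹)) (hinj _ (by
        rw [hG'.map_add, hG'.map_smul, hG'.map_smul, σ.apply_symm_apply, σ.apply_symm_apply, ← h0, smul_smul]))
      exact ⟨by simpa using a', by simpa [hG'.ne] using b'⟩)
    exact ⟨c, hc⟩
  obtain ⟨e, f, P⟩ := exists_basePair hQ hT
  obtain ⟨u, u', Pu, hu, hu'⟩ := exists_frame hQ hT P
  obtain ⟨l, hl⟩ := hfix e P.ne P.1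
  obtain ⟨m, hm⟩ := hfix u Pu.ne Pu.1
  have hTS := TS.of_perp P Pu.1 hu Pu.ne
  have hl0 : l ≠ 0 := fun h0 => P.ne (hinj e (by rw [hl, h0, zero_smul]))
  have key : ∀ c : F, σ c * m = c * l := fun c => by
    have hne : e + c • u ≠ 0 := fun h0 => one_ne_zero (hTS.2.2.2 1 c (by rwa [one_smul])).1
    obtain ⟨d, hd⟩ := hfix _ hne (by
      rw [quad_add_smul, P.1, Pu.1, hTS.2.2.1]; ring)
    rw [hG'.map_add, hG'.map_smul, hl, hm] at hd
    obtain ⟨e1, e2⟩ := hTS.2.2.2 (l - d) (σ c * m - d * c) (by linear_combination (norm := module) hd)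
    linear_combination e2 - c * e1
  have hlm : m = l := by simpa using key 1
  have hσ : σ = RingEquiv.refl F := RingEquiv.ext fun c => mul_right_cancel₀ hl0 (by
    have := key c; rw [hlm] at this; exact this)
  subst hσ
  refine ⟨rfl, scalar_of_fix_singular hQ hT fun a haa => ?_⟩
  by_cases ha : a = 0
  · exact ⟨0, by simp [ha]⟩
  obtain ⟨c, hc⟩ := hfix a ha haa
  exact ⟨c, hc⟩


namespace EvenBase

open EvenSpace (mapGO)

variable (H : EvenBase Q n)
include H

theorem exists_one : ∃ v : V, Q v = 1 := by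
  obtain ⟨e, f, P⟩ := exists_basePair H.nd H.tri
  exact ⟨e + (1 : F) • f, by rw [quad_add_smul, P.1, P.2.1, P.2.2]; ring⟩

theorem pmul_eq {g : GL ι F} {σ : F ≃+* F} (h : IsSemisimilarityPair (⇑Q) g σ) {d : Fˣ}
    (hd : ∀ v, Q ((g : Mn) *ᵥ (σ ∘ v)) = (d : F) * σ (Q v)) : pmul h = d := by
  obtain ⟨v, hv⟩ := H.exists_one
  have h' := (pmul_spec h v).symm.trans (hd v)
  rw [hv, map_one, mul_one, mul_one] at h'
  exact Units.ext h'

theorem det_negOne : (ogVal (negOne Q)).det = 1 := by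
  rw [ogVal_negOne, Matrix.det_neg, Matrix.det_one, mul_one, H.card, pow_mul, neg_one_sq, one_pow]

theorem mu_eq {g : GO} {d : Fˣ} (hd : ∀ v, Q (((g : GL ι F) : Mn) *ᵥ v) = (d : F) * Q v) : mu g = d :=
  H.pmul_eq _ hd

theorem mu_mul (g k : GO) : mu (g * k) = mu g * mu k := H.mu_eq fun v => by
  rw [Subgroup.coe_mul, Units.val_mul, ← Matrix.mulVec_mulVec, mu_spec, mu_spec, Units.val_mul, mul_assoc]

theorem mu_og (h : OG) : mu (ogToGO Q h) = 1 := H.mu_eq fun v => by
  rw [Units.val_one, one_mul]; exact ogVal_quad h v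

/-- Copy of the statement for a form with triality allowed. -/
noncomputable def muHom : GO →* Fˣ := MonoidHom.mk' mu H.mu_mul

theorem det_similitude (g : GO) :
    ((g : GL ι F) : Mn).det = (mu g : F) ^ n ∨ ((g : GL ι F) : Mn).det = -(mu g : F) ^ n := by
  have h := det_sq_similarity H.nd (fun v => mu_spec g v)
  rw [H.card, mul_comm 2 n, pow_mul] at h
  exact sq_eq_sq_iff_eq_or_eq_neg.1 h

theorem psgn_eq_dick (h2 : (2 : F) = 0) {g : GO} {s : F} {h : OG}
    (hgh : ((g : GL ι F) : Mn) = s • ogVal h) : psgn n g = dick h := by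
  classical
  rw [psgn, dif_pos h2]
  obtain ⟨hs, hg⟩ := (exists_norm_iso h2 g).choose_spec.choose_spec
  set h' := (exists_norm_iso h2 g).choose_spec.choose
  set s' := (exists_norm_iso h2 g).choose
  have hs' : s * s = mu g := by
    obtain ⟨v, hv⟩ := H.exists_one
    have := mu_spec g v
    rw [hgh, Matrix.smul_mulVec, QuadraticMap.map_smul, ogVal_quad, hv, smul_eq_mul, mul_one, mul_one] at this
    exact this
  obtain rfl : s' = s := sq_inj_two h2 (hs.trans hs'.symm)
  have hs0 : s' ≠ 0 := fun h0 => (mu g).ne_zero (by rw [← hs, h0, mul_zero])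
  rw [show h' = h from ogVal_ext (smul_right_injective Mn hs0 (hg.symm.trans hgh))]

theorem psgn_mul (g k : GO) : psgn n (g * k) = psgn n g * psgn n k := by
  classical
  by_cases h2 : (2 : F) = 0
  · obtain ⟨s, h, -, hg⟩ := exists_norm_iso h2 g
    obtain ⟨t, l, -, hk⟩ := exists_norm_iso h2 k
    rw [H.psgn_eq_dick h2 hg, H.psgn_eq_dick h2 hk, ← dick_mul H.nd H.tri,
      H.psgn_eq_dick h2 (g := g * k) (s := s * t) (h := h * l)]
    rw [Subgroup.coe_mul, Units.val_mul, hg, hk, ogVal_mul, Matrix.smul_mul, Matrix.mul_smul, smul_smul]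
  · have hne : ∀ x : GO, (mu x : F) ^ n ≠ -(mu x : F) ^ n := fun x =>
      two_cast_ne h2 _ (pow_ne_zero _ (mu x).ne_zero)
    have key : ∀ x : GO, ((x : GL ι F) : Mn).det = ((psgn n x : ℤˣ) : ℤ) * (mu x : F) ^ n := fun x => by
      rw [psgn, dif_neg h2]
      rcases H.det_similitude x with e | e
      · rw [if_pos e]; simpa using e
      · rw [if_neg (fun e' => hne x (e'.symm.trans e))]; simpa using e
    have h := key (g * k)
    rw [Subgroup.coe_mul, Units.val_mul, Matrix.det_mul, key g, key k, H.mu_mul, Units.val_mul, mul_pow] at h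
    have h' : (((psgn n g * psgn n k : ℤˣ) : ℤ) : F) * ((mu g : F) ^ n * (mu k : F) ^ n) =
        (((psgn n (g * k) : ℤˣ) : ℤ) : F) * ((mu g : F) ^ n * (mu k : F) ^ n) := by
      rw [← h]; push_cast; ring
    have h'' := mul_right_cancel₀ (mul_ne_zero (pow_ne_zero _ (mu g).ne_zero) (pow_ne_zero _ (mu k).ne_zero)) h'
    rcases Int.units_eq_one_or (psgn n (g * k)) with e | e <;>
      rcases Int.units_eq_one_or (psgn n g * psgn n k) with e' | e' <;> rw [e, e'] at h'' ⊢ <;>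
      exact absurd h'' (by simpa using fun h3 => h2 (by first | linear_combination h3 | linear_combination -h3))

/-- Copy of the statement for a form with triality allowed. -/
noncomputable def psgnHom : GO →* ℤˣ := MonoidHom.mk' (psgn n) H.psgn_mul

theorem psgn_og (h : OG) : psgn n (ogToGO Q h) = dick h := by
  by_cases h2 : (2 : F) = 0
  · exact H.psgn_eq_dick h2 (s := 1) (by rw [one_smul]; rfl)
  · have hd : ((((ogToGO Q h : GO) : GL ι F)) : Mn).det = (((dick h : ℤˣ) : ℤ) : F) :=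
      det_eq_dick H.nd H.tri h
    rcases Int.units_eq_one_or (dick h) with e | e <;> rw [e] at hd ⊢
    · refine (psgn_eq_one_iff_det h2 _).2 ?_
      rw [H.mu_og, Units.val_one, one_pow, hd]; simp
    · refine (Int.units_eq_one_or _).resolve_left fun h' => ?_
      have := (psgn_eq_one_iff_det h2 _).1 h'
      rw [H.mu_og, Units.val_one, one_pow, hd] at this
      exact h2 (by simp at this; linear_combination -this)

theorem psgn_refl {v : ι → F} (hv : Q v ≠ 0) : psgn n (ogToGO Q (refl hv)) = -1 := by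
  rw [H.psgn_og, dick_refl H.nd hv]

theorem psgn_scalar {g : GO} {c : F} (hg : ((g : GL ι F) : Mn) = c • 1) : psgn n g = 1 := by
  by_cases h2 : (2 : F) = 0
  · rw [H.psgn_eq_dick h2 (s := c) (h := 1) (by rw [ogVal_one]; exact hg), dick_one]
  · refine (psgn_eq_one_iff_det h2 _).2 ?_
    obtain ⟨v, hv⟩ := H.exists_one
    have := mu_spec g v
    rw [hg, Matrix.smul_mulVec, Matrix.one_mulVec, QuadraticMap.map_smul, hv, smul_eq_mul, mul_one, mul_one] at this
    rw [hg, Matrix.det_smul, Matrix.det_one, mul_one, H.card, pow_mul, sq, this]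

theorem exists_rat_improper {v : ι → F} (hv : Q v ≠ 0) (g : GO) :
    psgn n g = 1 ∨ psgn n (g * ogToGO Q (refl hv)) = 1 := by
  rcases Int.units_eq_one_or (psgn n g) with e | e
  · exact Or.inl e
  · exact Or.inr (by rw [H.psgn_mul, e, H.psgn_refl hv]; rfl)

/-- Copy of the statement for a form with triality allowed. -/
noncomputable def diagAut : Subgroup (MulAut PQ) := H.psgnHom.ker.map (goHom Q)

theorem mem_diagAut {β : MulAut PQ} : β ∈ H.diagAut ↔ ∃ g : GO, psgn n g = 1 ∧ goHom Q g = β := Iff.rfl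

theorem inn_le_diagAut : Inn PQ ≤ H.diagAut := by
  rw [inn_eq_map]
  rintro _ ⟨g, hg, rfl⟩
  exact ⟨ogToGO Q g, (H.psgn_og g).trans ((Abelianization.commutator_subset_ker (dickHom H.nd H.tri)) hg), rfl⟩

theorem autSubgroupOf_eq {P : PQ ≃* PQ → Prop}
    (hP : ∀ β : MulAut PQ, P β ↔ ∃ g : GO, psgn n g = 1 ∧ goHom Q g = β) :
    autSubgroupOf P = H.diagAut :=
  le_antisymm ((Subgroup.closure_le _).2 fun β hβ => (hP β).1 hβ)
    fun β hβ => Subgroup.subset_closure ((hP β).2 hβ)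

theorem induced_pred {C : Mn → Prop}
    (hC : ∀ g : GO, C ((g : GL ι F) : Mn) ↔ psgn n g = 1) (β : MulAut PQ) :
    (∃ g : GL ι F, g ∈ Geo.quadSimilarityGroup (F := F) ⇑Q ∧ C (g : Mn) ∧
      IsInducedBySemilinearPOmega (⇑Q) g (RingEquiv.refl F) β) ↔
      ∃ g : GO, psgn n g = 1 ∧ goHom Q g = β :=
  ⟨fun ⟨g, hg, hc, hβ⟩ => ⟨⟨g, hg⟩, (hC ⟨g, hg⟩).1 hc, ((induced_iff (isPair_refl hg)).1 hβ).symm⟩,
    fun ⟨g, hg, hβ⟩ => ⟨g, g.2, (hC g).2 hg, hβ ▸ poSemi_induced _⟩⟩

theorem poSemi_inj {g k : GL ι F} {σ τ : RingAut F} (h : IsSemisimilarityPair (⇑Q) g σ)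
    (h' : IsSemisimilarityPair (⇑Q) k τ) (e : (poSemi h : MulAut PQ) = poSemi h') :
    σ = τ ∧ ∃ c : F, (g : Mn) = c • (k : Mn) := by
  obtain ⟨h1, c, hc⟩ := poSemi_eq_one_of_tri H.nd H.tri (isPair_mul (isPair_inv h') h) (by
    rw [← poSemi_mul (isPair_inv h') h, ← poSemi_inv h', e, inv_mul_cancel])
  refine ⟨(inv_mul_eq_one.1 (h1 : τ⁻¹ * σ = 1)).symm, τ c, ?_⟩
  have h2 : (gmap (τ⁻¹ : RingAut F) (k⁻¹ * g) : Mn) = c • 1 := by rw [map_mul]; exact hc
  have h3 : (((k⁻¹ * g : GL ι F)) : Mn) = τ c • 1 := by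
    have h4 := congrArg (fun A : Mn => A.map τ) h2
    rw [show ((gmap (τ⁻¹ : RingAut F) (k⁻¹ * g) : GL ι F) : Mn).map τ = ((k⁻¹ * g : GL ι F) : Mn) from
      Matrix.ext fun a b => τ.apply_symm_apply _] at h4
    rw [h4]
    ext a b
    by_cases hab : a = b <;> simp [hab]
  calc (g : Mn) = (k : Mn) * (((k⁻¹ * g : GL ι F)) : Mn) := by
        rw [← Units.val_mul, mul_inv_cancel_left]
    _ = _ := by rw [h3, Matrix.mul_smul, Matrix.mul_one]

theorem go_field_inj {g k : GO} {σ τ : RingAut F} (hσ : RatAt Q σ) (hτ : RatAt Q τ)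
    (e : goHom Q g * fld hσ = goHom Q k * fld hτ) :
    σ = τ ∧ ∃ c : F, ((g : GL ι F) : Mn) = c • ((k : GL ι F) : Mn) := by
  change poSemi _ * poSemi (isPair_fld hσ) = poSemi _ * poSemi (isPair_fld hτ) at e
  rw [poSemi_mul (σ := (1 : RingAut F)) (τ := σ) (isPair_refl g.2),
    poSemi_mul (σ := (1 : RingAut F)) (τ := τ) (isPair_refl k.2)] at e
  obtain ⟨h1, c, hc⟩ := H.poSemi_inj _ _ e
  refine ⟨by rwa [one_mul, one_mul] at h1, c, ?_⟩
  rwa [map_one, mul_one, mul_one] at hc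

theorem goHom_inj {g k : GO} (e : goHom Q g = goHom Q k) :
    ∃ c : F, ((g : GL ι F) : Mn) = c • ((k : GL ι F) : Mn) :=
  (H.go_field_inj RatAt.one RatAt.one (by rw [e])).2

theorem mu_goMap {σ : F ≃+* F} (hR : RatAt Q σ) (g : GO) : (mu (goMap hR g) : F) = σ (mu g : F) := by
  refine congrArg Units.val (H.mu_eq (d := Units.map σ.toMonoidHom (mu g)) fun v => ?_)
  obtain ⟨w, rfl⟩ : ∃ w : ι → F, σ ∘ w = v := ⟨σ.symm ∘ v, funext fun i => σ.apply_symm_apply _⟩
  show Q (((g : GL ι F) : Mn).map σ *ᵥ (σ ∘ w)) = σ (mu g : F) * Q (σ ∘ w)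
  rw [map_comp_mulVec, hR, hR, mu_spec, map_mul]

theorem psgn_goMap {σ : F ≃+* F} (hR : RatAt Q σ) (g : GO) : psgn n (goMap hR g) = psgn n g := by
  by_cases h2 : (2 : F) = 0
  · obtain ⟨s, h, -, hg⟩ := exists_norm_iso h2 g
    rw [H.psgn_eq_dick h2 hg,
      H.psgn_eq_dick h2 (s := σ s) (h := mapOG σ.toRingHom (fun u => hR u) h),
      dick_mapOG σ.toRingHom (fun u => hR u) H.nd H.tri H.nd H.tri]
    show ((g : GL ι F) : Mn).map σ = σ s • (ogVal h).map σ
    rw [hg]; ext x y; simp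
  · have : psgn n (goMap hR g) = 1 ↔ psgn n g = 1 := by
      rw [psgn_eq_one_iff_det h2, psgn_eq_one_iff_det h2, H.mu_goMap hR, ← map_pow]
      show (((g : GL ι F) : Mn).map σ).det = _ ↔ _
      rw [show (((g : GL ι F) : Mn).map σ).det = σ ((g : GL ι F) : Mn).det from
        (RingHom.map_det (σ : F ≃+* F).toRingHom _).symm, σ.injective.eq_iff]
    rcases Int.units_eq_one_or (psgn n g) with e | e
    · rw [this.2 e, e]
    · rw [e]
      exact (Int.units_eq_one_or _).resolve_left fun h => by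
        rw [this.1 h] at e; exact absurd e (by decide)

theorem diagAut_eq_inn_two (h2 : (2 : F) = 0) : H.diagAut = Inn PQ := by
  refine le_antisymm ?_ H.inn_le_diagAut
  rintro _ ⟨g, hg, rfl⟩
  obtain ⟨s, h, -, hgh⟩ := exists_norm_iso h2 g
  have hh : h ∈ Omega F ⇑Q :=
    (mem_omega_iff_dick H.nd H.tri h2 h).2 ((H.psgn_eq_dick h2 hgh).symm.trans hg)
  rw [inn_eq_map]
  refine ⟨h, hh, ?_⟩
  have ht : (((g * (ogToGO Q h)⁻¹ : GO) : GL ι F) : Mn) = s • 1 := by
    rw [Subgroup.coe_mul, Units.val_mul, hgh, Matrix.smul_mul]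
    show s • (ogVal h * ogVal h⁻¹) = s • 1
    rw [← ogVal_mul, mul_inv_cancel, ogVal_one]
  have h1 := goHom_scalar ht
  rw [map_mul, map_inv, mul_inv_eq_one] at h1
  exact h1.symm

theorem det_eq_one_iff_dick (h2 : (2 : F) ≠ 0) (u : OG) : (ogVal u).det = 1 ↔ dick u = 1 := by
  rw [det_eq_dick H.nd H.tri]
  refine ⟨fun h => ?_, fun h => by rw [h]; simp⟩
  rcases Int.units_eq_one_or (dick u) with e | e
  · exact e
  · rw [e] at h
    exfalso
    refine h2 ?_
    simp at h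
    linear_combination -h

theorem psgn_of_smul {g : GO} {h : OG} {s : F} (hh : ((g : GL ι F) : Mn) = s • ogVal h) :
    psgn n g = dick h := by
  have ht : (((g * (ogToGO Q h)⁻¹ : GO) : GL ι F) : Mn) = s • 1 := by
    rw [Subgroup.coe_mul, Units.val_mul, hh, Matrix.smul_mul]
    show s • (ogVal h * ogVal h⁻¹) = s • 1
    rw [← ogVal_mul, mul_inv_cancel, ogVal_one]
  have e : psgn n g = psgn n (g * (ogToGO Q h)⁻¹) * psgn n (ogToGO Q h) := by
    rw [← H.psgn_mul, inv_mul_cancel_right]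
  rw [e, H.psgn_scalar ht, one_mul, H.psgn_og]

theorem goHom_mem_diagAut_iff (g : GO) : goHom Q g ∈ H.diagAut ↔ psgn n g = 1 := by
  refine ⟨?_, fun h => ⟨g, h, rfl⟩⟩
  rintro ⟨k, hk, e⟩
  obtain ⟨-, c, hc⟩ := poSemi_eq_one_of_tri H.nd H.tri (isPair_refl (g * k⁻¹).2) (by
    rw [← goHom_apply, map_mul, map_inv, e, mul_inv_cancel])
  have h1 := H.psgn_scalar (g := g * k⁻¹) hc
  rwa [H.psgn_mul, show psgn n k⁻¹ = 1 from (map_inv H.psgnHom k).trans (by rw [show H.psgnHom k = 1 from hk, inv_one]),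
    mul_one] at h1

section Fixed

variable {F₀ : Type*} [Field F₀] [Fintype F₀] {P : QuadraticForm F₀ (ι → F₀)} {j : F₀ →+* F}
  {σ : RingAut F} (hR : RatAt Q σ)
include hR

omit hR in
theorem mapGO_coe (hP : ∀ u, Q (j ∘ u) = j (P u)) (g : Geo.quadSimilarityGroup (F := F₀) ⇑P) :
    (((mapGO hP g : GO) : GL ι F) : Mn) = ((g : GL ι F₀) : Matrix ι ι F₀).map j := rfl

omit hR in
theorem mu_mapGO (hP : ∀ u, Q (j ∘ u) = j (P u)) (g : Geo.quadSimilarityGroup (F := F₀) ⇑P) :
    (mu (mapGO hP g) : F) = j (mu g : F₀) := by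
  refine congrArg Units.val (H.mu_eq (d := Units.map j.toMonoidHom (mu g)) fun v => ?_)
  have h : Q.comp (Matrix.mulVecLin (((g : GL ι F₀) : Matrix ι ι F₀).map j)) = j (mu g : F₀) • Q :=
    quad_ext_rat j fun u => by
      rw [QuadraticMap.comp_apply, Matrix.mulVecLin_apply, mulVec_rat, _root_.QuadraticMap.smul_apply,
        smul_eq_mul, hP, hP, mu_spec, map_mul]
  exact congrArg (fun q : QuadraticForm F (ι → F) => q v) h

omit hR in
theorem psgn_mapGO (hP : ∀ u, Q (j ∘ u) = j (P u)) (H₀ : EvenBase P n)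
    (g : Geo.quadSimilarityGroup (F := F₀) ⇑P) : psgn n (mapGO hP g) = psgn n g := by
  by_cases h2 : (2 : F₀) = 0
  · obtain ⟨s, h, -, hg⟩ := exists_norm_iso h2 g
    rw [H₀.psgn_eq_dick h2 hg,
      H.psgn_eq_dick (by rw [← map_ofNat j, h2, map_zero]) (s := j s) (h := mapOG j hP h),
      dick_mapOG j hP H₀.nd H₀.tri H.nd H.tri]
    show ((g : GL ι F₀) : Matrix ι ι F₀).map j = j s • (ogVal h).map j
    rw [hg]; ext x y; simp
  · have h2' : (2 : F) ≠ 0 := fun h => h2 (j.injective (by rw [map_ofNat, h, map_zero]))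
    have : psgn n (mapGO hP g) = 1 ↔ psgn n g = 1 := by
      rw [psgn_eq_one_iff_det h2', psgn_eq_one_iff_det h2, H.mu_mapGO hP, H.mapGO_coe hP, ← map_pow,
        ← RingHom.mapMatrix_apply, ← RingHom.map_det, j.injective.eq_iff]
    rcases Int.units_eq_one_or (psgn n g) with e | e
    · rw [this.2 e, e]
    · rw [e]
      exact (Int.units_eq_one_or _).resolve_left fun h => by
        rw [this.1 h] at e; exact absurd e (by decide)

theorem centralizer_eq_map (hP : ∀ u, Q (j ∘ u) = j (P u)) (H₀ : EvenBase P n)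
    (hj : ∀ x, σ x = x ↔ x ∈ j.range) :
    H.diagAut ⊓ Subgroup.centralizer {fld hR} =
      H₀.psgnHom.ker.map ((goHom Q).comp (mapGO hP)) := by
  ext β
  constructor
  · rintro ⟨⟨g, hg, rfl⟩, hc⟩
    have hc' := Subgroup.mem_centralizer_singleton_iff.1 hc
    rw [field_conj_go] at hc'
    obtain ⟨-, c, hc'⟩ := H.go_field_inj hR hR hc'.symm
    have hc0 : c ≠ 0 := fun h0 => (gmap σ (g : GL ι F)).det_ne_zero (by
      rw [show ((gmap σ (g : GL ι F) : GL ι F) : Mn) = c • ((g : GL ι F) : Mn) from hc', h0, zero_smul]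
      haveI : Nonempty ι := Fintype.card_pos_iff.1 (by
        rw [H.card]
        by_contra hn
        obtain ⟨v, hv⟩ := H.exists_one
        haveI : IsEmpty ι := Fintype.card_eq_zero_iff.1 (by rw [H.card]; omega)
        rw [Subsingleton.elim v 0, QuadraticMap.map_zero] at hv
        exact zero_ne_one hv)
      rw [Matrix.det_zero])
    haveI : Nonempty ι := Fintype.card_pos_iff.1 (by
      rw [H.card]
      by_contra hn
      obtain ⟨v, hv⟩ := H.exists_one
      haveI : IsEmpty ι := Fintype.card_eq_zero_iff.1 (by rw [H.card]; omega)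
      rw [Subsingleton.elim v 0, QuadraticMap.map_zero] at hv
      exact zero_ne_one hv)
    obtain ⟨μ, k, hk, hgk⟩ := exists_fixed_of_map_eq_smul σ (g : GL ι F) (c := Units.mk0 c hc0) (Units.ext (by
      rw [Units.val_mul, coe_scalar_smul, Units.val_mk0, Matrix.smul_mul, Matrix.one_mul]
      exact hc'))
    have hfix : ∀ a b, ∃ y, j y = (k : Mn) a b := fun a b =>
      (hj _).1 (congrFun (congrFun (congrArg (fun u : GL ι F => (u : Mn)) hk) a) b)
    choose A hA using hfix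
    have hA' : (Matrix.of A).map j = (k : Mn) := Matrix.ext hA
    have hd : (Matrix.of A).det ≠ 0 := fun h0 => k.det_ne_zero (by
      rw [← hA', ← RingHom.mapMatrix_apply, ← RingHom.map_det, h0, map_zero])
    set k₀ := Matrix.GeneralLinearGroup.mkOfDetNeZero (Matrix.of A) hd
    have hgk' : ((g : GL ι F) : Mn) = (μ : F) • (k : Mn) := by
      rw [hgk, Units.val_mul, coe_scalar_smul, Matrix.smul_mul, Matrix.one_mul]
    have hk₀ : k₀ ∈ Geo.quadSimilarityGroup (F := F₀) ⇑P := by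
      have hkq : ∀ u, Q ((k : Mn) *ᵥ (j ∘ u)) = ((mu g : F) / ((μ : F) * μ)) * j (P u) := fun u => by
        have := mu_spec g (j ∘ u)
        rw [hgk', Matrix.smul_mulVec, QuadraticMap.map_smul, hP, smul_eq_mul] at this
        field_simp
        linear_combination this
      obtain ⟨v, hv⟩ := H₀.exists_one
      have hc₀ := hkq v
      rw [← hA', mulVec_rat, hP, hv, map_one, mul_one] at hc₀
      refine ⟨Units.mk0 (P (Matrix.of A *ᵥ v)) fun h0 => ?_, fun u => j.injective ?_⟩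
      · rw [h0, map_zero] at hc₀
        exact div_ne_zero (mu g).ne_zero (mul_ne_zero μ.ne_zero μ.ne_zero) hc₀.symm
      · show j (P (Matrix.of A *ᵥ u)) = _
        rw [← hP, ← mulVec_rat, hA', hkq, Units.val_mk0, map_mul, hc₀]
    set t : GO := g * (mapGO hP ⟨k₀, hk₀⟩)⁻¹
    have ht : ((t : GL ι F) : Mn) = (μ : F) • 1 := by
      show ((g : GL ι F) : Mn) * (((Matrix.GeneralLinearGroup.map j k₀)⁻¹ : GL ι F) : Mn) = _
      rw [show Matrix.GeneralLinearGroup.map j k₀ = k from Units.ext hA', hgk', Matrix.smul_mul, Units.mul_inv]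
    refine ⟨⟨k₀, hk₀⟩, ?_, ?_⟩
    · show psgn n _ = 1
      rw [← H.psgn_mapGO hP H₀, ← show H.psgnHom g = 1 from hg,
        show g = t * mapGO hP ⟨k₀, hk₀⟩ from (inv_mul_cancel_right _ _).symm]
      show _ = H.psgnHom (t * _)
      rw [map_mul, show H.psgnHom t = 1 from H.psgn_scalar ht, one_mul]
      rfl
    · rw [MonoidHom.comp_apply, show g = t * mapGO hP ⟨k₀, hk₀⟩ from (inv_mul_cancel_right _ _).symm,
        map_mul, goHom_scalar ht, one_mul]
  · rintro ⟨g, hg, rfl⟩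
    refine ⟨⟨_, (H.psgn_mapGO hP H₀ g).trans hg, rfl⟩, Subgroup.mem_centralizer_singleton_iff.2 ?_⟩
    rw [MonoidHom.comp_apply, field_conj_go]
    congr 2
    exact (go_ext (Matrix.ext fun a b => (hj _).2 ⟨_, rfl⟩) : goMap hR _ = _).symm

omit hR in
theorem ker_comp_mapGO (hP : ∀ u, Q (j ∘ u) = j (P u)) (H₀ : EvenBase P n) :
    ((goHom Q).comp (mapGO hP)).ker = (goHom P).ker := by
  ext g
  simp only [MonoidHom.mem_ker, MonoidHom.comp_apply]
  constructor
  · intro h
    obtain ⟨c, hc⟩ := H.goHom_inj (k := 1) (h.trans (map_one _).symm)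
    rw [H.mapGO_coe hP, Subgroup.coe_one, Units.val_one] at hc
    obtain ⟨i⟩ : Nonempty ι := Fintype.card_pos_iff.1 (by
      rw [H.card]
      by_contra hn
      obtain ⟨v, hv⟩ := H.exists_one
      haveI : IsEmpty ι := Fintype.card_eq_zero_iff.1 (by rw [H.card]; omega)
      rw [Subsingleton.elim v 0, QuadraticMap.map_zero] at hv
      exact zero_ne_one hv)
    refine goHom_scalar (c := ((g : GL ι F₀) : Matrix ι ι F₀) i i) (Matrix.ext fun a b => j.injective ?_)
    have hab := congrFun (congrFun hc a) b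
    have hii := congrFun (congrFun hc i) i
    simp only [Matrix.map_apply, Matrix.smul_apply, OneMemClass.coe_one, Units.val_one, Matrix.one_apply_eq,
      smul_eq_mul, mul_one] at hab hii ⊢
    rw [hab, map_mul, hii]
    rcases eq_or_ne a b with rfl | hab' <;> [simp; simp [hab']]
  · intro h
    obtain ⟨-, c, hc⟩ := poSemi_eq_one_of_tri H₀.nd H₀.tri (isPair_refl g.2) h
    refine goHom_scalar (c := j c) ?_
    rw [H.mapGO_coe hP, hc]
    ext a b
    by_cases hab : a = b <;> simp [hab]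

theorem centralizer_iso (hP : ∀ u, Q (j ∘ u) = j (P u)) (H₀ : EvenBase P n)
    (hj : ∀ x, σ x = x ↔ x ∈ j.range) :
    Nonempty (↥(H.diagAut ⊓ Subgroup.centralizer {fld hR}) ≃* ↥H₀.diagAut) := by
  set K := H₀.psgnHom.ker
  set φ₁ := ((goHom Q).comp (mapGO hP)).comp K.subtype
  set φ₂ := (goHom P).comp K.subtype
  have hk : φ₁.ker = φ₂.ker := by
    ext g
    exact SetLike.ext_iff.1 (H.ker_comp_mapGO hP H₀) (g : Geo.quadSimilarityGroup (F := F₀) ⇑P)
  have r1 : φ₁.range = H.diagAut ⊓ Subgroup.centralizer {fld hR} := by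
    rw [H.centralizer_eq_map hR hP H₀ hj, MonoidHom.range_eq_map, ← Subgroup.map_map,
      ← MonoidHom.range_eq_map, Subgroup.range_subtype]
  have r2 : φ₂.range = H₀.diagAut := by
    show ((goHom P).comp K.subtype).range = K.map (goHom P)
    rw [MonoidHom.range_eq_map, ← Subgroup.map_map, ← MonoidHom.range_eq_map, Subgroup.range_subtype]
  exact ⟨(MulEquiv.subgroupCongr r1.symm).trans ((QuotientGroup.quotientKerEquivRange φ₁).symm.trans
    ((QuotientGroup.quotientMulEquivOfEq hk).trans ((QuotientGroup.quotientKerEquivRange φ₂).trans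
      (MulEquiv.subgroupCongr r2))))⟩

end Fixed

section Rational

variable {F₀ : Type*} [Field F₀] [Fintype F₀] {P : QuadraticForm F₀ (ι → F₀)} {j : F₀ →+* F}
  {σ : RingAut F} (hR : RatAt Q σ) (hP : ∀ u, Q (j ∘ u) = j (P u)) (H₀ : EvenBase P n)
  (hj : ∀ x, σ x = x ↔ x ∈ j.range)
include hR hP H₀ hj

theorem exists_mapGO {g : GO} (hg : goMap hR g = g) :
    ∃ k : Geo.quadSimilarityGroup (F := F₀) ⇑P, mapGO hP k = g := by
  have hfix : ∀ a b, ∃ x : F₀, j x = ((g : GL ι F) : Mn) a b := fun a b => (hj _).1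
    (congrArg (fun k : GO => ((k : GL ι F) : Mn) a b) hg)
  choose K hK using hfix
  have hK' : (Matrix.of K).map j = ((g : GL ι F) : Mn) := Matrix.ext hK
  have hdet : (Matrix.of K).det ≠ 0 := fun h0 => (g : GL ι F).det_ne_zero (by
    rw [← hK', ← RingHom.mapMatrix_apply, ← RingHom.map_det, h0, map_zero])
  obtain ⟨c, hc⟩ := (hj (mu g : F)).1 (by rw [← H.mu_goMap hR g, hg])
  have hc0 : c ≠ 0 := fun h0 => (mu g).ne_zero (by rw [← hc, h0, map_zero])
  refine ⟨⟨Matrix.GeneralLinearGroup.mkOfDetNeZero (Matrix.of K) hdet, Units.mk0 c hc0,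
    fun u => j.injective ?_⟩, Subtype.ext (Units.ext hK')⟩
  show j (P (Matrix.of K *ᵥ u)) = j (c * P u)
  rw [← hP, map_mul, ← hP, hc, ← mulVec_rat j, hK', mu_spec]

theorem mapOG_omega_of_det (h2 : (2 : F) ≠ 0) (hsq : ∀ c : F₀, IsSquare (j c)) {h : isometryGroup F₀ ⇑P}
    (hh : (ogVal h).det = 1) : mapOG j hP h ∈ Omega F ⇑Q := by
  have h20 : (2 : F₀) ≠ 0 := fun h => h2 (by rw [← map_ofNat j, h, map_zero])
  rcases Int.units_eq_one_or (theta P h) with e | e
  · exact mapOG_mem_omega j hP ((mem_omega_iff h20 H₀.nd H₀.tri h).2 ⟨hh, e⟩)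
  obtain ⟨ε', v, w, hv, hw, -, -, -, hvw⟩ := exists_two_refl h20 H₀.nd H₀.tri
  set u := refl hv * refl hw
  have hu : (ogVal u).det = 1 := by rw [ogVal_mul, Matrix.det_mul, refl_det, refl_det]; ring
  have hmu : mapOG j hP u ∈ Omega F ⇑Q := by
    refine (mem_omega_iff h2 H.nd H.tri _).2 ⟨?_, ?_⟩
    · rw [mapOG_val, ← RingHom.mapMatrix_apply, ← RingHom.map_det, hu, map_one]
    · rw [map_mul (mapOG j hP), map_mul, mapOG_refl, mapOG_refl, theta_refl_eq h2 H.nd H.tri,
        sqChar_eq_one_iff, Units.val_mul, Units.val_inv_eq_inv_val, Units.val_mk0, Units.val_mk0, hP, hP]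
      exact (hsq _).mul (hsq _).inv
  have hu' : h * u⁻¹ ∈ Omega F₀ ⇑P := by
    refine (mem_omega_iff h20 H₀.nd H₀.tri _).2 ⟨?_, ?_⟩
    · have h1 : (ogVal (h * u⁻¹)).det * (ogVal u).det = 1 := by
        rw [← Matrix.det_mul, ← ogVal_mul, inv_mul_cancel_right, hh]
      rwa [hu, mul_one] at h1
    · rw [map_mul (theta P), map_inv (theta P), e, map_mul (theta P), hvw]
      rfl
  have := mul_mem (mapOG_mem_omega j hP hu') hmu
  rwa [← map_mul, inv_mul_cancel_right] at this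

theorem theta_negOne_fixed (h2 : (2 : F) ≠ 0) (hsq : ∀ c : F₀, IsSquare (j c)) :
    theta Q (negOne Q) = 1 := by
  have e : negOne Q = mapOG j hP (negOne P) := ogVal_ext (by
    rw [ogVal_negOne, mapOG_val, ogVal_negOne, ← RingHom.mapMatrix_apply, map_neg, map_one])
  rw [e]
  exact ((mem_omega_iff h2 H.nd H.tri _).1 (H.mapOG_omega_of_det hR hP H₀ hj h2 hsq H₀.det_negOne)).2

theorem fixed_sq_inn (h2 : (2 : F) ≠ 0) (hsq : ∀ c : F₀, IsSquare (j c)) {g : GO} (hg : goMap hR g = g)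
    (hg1 : psgn n g = 1) {t : F₀} (ht : (mu g : F) = j (t * t)) : goHom Q g ∈ Inn PQ := by
  obtain ⟨k, rfl⟩ := H.exists_mapGO hR hP H₀ hj hg
  have ht0 : t ≠ 0 := fun h0 => (mu (mapGO hP k)).ne_zero (by rw [ht, h0, mul_zero, map_zero])
  set M : Matrix ι ι F₀ := t⁻¹ • ((k : GL ι F₀) : Matrix ι ι F₀)
  have hMq : ∀ w, P (M *ᵥ w) = P w := fun w => j.injective (by
    rw [Matrix.smul_mulVec, QuadraticMap.map_smul, smul_eq_mul, map_mul, ← hP, ← mulVec_rat j,
      show ((k : GL ι F₀) : Matrix ι ι F₀).map j = ((mapGO hP k : GO) : GL ι F).1 from rfl, mu_spec, ht, hP,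
      ← map_mul, ← map_mul]
    congr 1
    field_simp)
  let h : isometryGroup F₀ ⇑P := mkIsometry M
    (by rw [Matrix.det_smul]; exact mul_ne_zero (pow_ne_zero _ (inv_ne_zero ht0)) (k : GL ι F₀).det_ne_zero) hMq
  have hkh : (((mapGO hP k : GO) : GL ι F) : Mn) = j t • ogVal (mapOG j hP h) := by
    rw [mapOG_val]
    ext a b
    show j _ = j t * j (t⁻¹ * _)
    rw [← map_mul, mul_inv_cancel_left₀ ht0]
    rfl
  rw [goHom_eq_ogHom hkh, inn_eq_map]
  refine ⟨_, H.mapOG_omega_of_det hR hP H₀ hj h2 hsq ?_, rfl⟩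
  refine j.injective ?_
  rw [map_one, RingHom.map_det, RingHom.mapMatrix_apply, ← mapOG_val j hP]
  refine (H.det_eq_one_iff_dick h2 _).2 ?_
  rw [← H.psgn_of_smul hkh, hg1]

theorem split_eq_one (hσ : Odd (orderOf σ) ∨ (2 : F) = 0) :
    splitClassCount H.diagAut (Inn PQ) (fld hR) = 1 := by
  rw [splitClassCount_eq_relIndex _ _ H.inn_le_diagAut, Subgroup.relIndex_eq_one]
  by_cases h2 : (2 : F) = 0
  · rw [H.diagAut_eq_inn_two h2]; exact le_sup_left
  have hodd := hσ.resolve_right h2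
  have h20 : (2 : F₀) ≠ 0 := fun h => h2 (by rw [← map_ofNat j, h, map_zero])
  rw [H.centralizer_eq_map hR hP H₀ hj]
  set C := H₀.psgnHom.ker.map ((goHom Q).comp (mapGO hP))
  obtain ⟨ε₀, hε₀⟩ := FiniteField.exists_nonsquare (F := F₀)
    (fun hc => h20 (by haveI := ringChar.of_eq hc; exact CharTwo.two_eq_zero))
  have hε0 : ε₀ ≠ 0 := fun h0 => hε₀ (h0 ▸ IsSquare.zero)
  have hns := nonsquare_of_odd hj hodd h2 hε₀
  obtain ⟨v₀, hv₀⟩ := H₀.exists_one
  have hv00 : P v₀ ≠ 0 := by rw [hv₀]; exact one_ne_zero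
  -- a rational element of non-square multiplier
  obtain ⟨k, hk1, hk2⟩ : ∃ k : Geo.quadSimilarityGroup (F := F₀) ⇑P, psgn n k = 1 ∧ (mu k : F₀) = ε₀ := by
    obtain ⟨s, hs⟩ := H₀.sim ε₀ hε0
    set k : Geo.quadSimilarityGroup (F := F₀) ⇑P := ⟨s, Units.mk0 ε₀ hε0, hs⟩
    have hk : (mu k : F₀) = ε₀ := congrArg Units.val (H₀.mu_eq (d := Units.mk0 ε₀ hε0) hs)
    rcases H₀.exists_rat_improper hv00 k with h | h
    · exact ⟨k, h, hk⟩
    · exact ⟨k * ogToGO P (refl hv00), h, by rw [H₀.mu_mul, H₀.mu_og, mul_one, hk]⟩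
  -- a rational isometry of spinor norm minus one
  obtain ⟨u, hu1, hu2⟩ : ∃ u : isometryGroup F₀ ⇑P, dick u = 1 ∧ theta Q (mapOG j hP u) = -1 := by
    obtain ⟨ε', v', w', hv', hw', hε', hv1, hw1, -⟩ := exists_two_refl h20 H₀.nd H₀.tri
    refine ⟨refl hv' * refl hw', by rw [dick_mul H₀.nd H₀.tri, dick_refl H₀.nd, dick_refl H₀.nd]; rfl, ?_⟩
    rw [map_mul (mapOG j hP), map_mul, mapOG_refl, mapOG_refl, theta_refl_eq h2 H.nd H.tri,
      sqChar_eq_neg_one_iff, Units.val_mul, Units.val_inv_eq_inv_val, Units.val_mk0, Units.val_mk0, hP, hP,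
      hv1, hw1, map_one, one_mul, isSquare_inv]
    exact nonsquare_of_odd hj hodd h2 hε'
  have main : ∀ g : GO, psgn n g = 1 → IsSquare (mu g : F) → goHom Q g ∈ Inn PQ ⊔ C := by
    intro g hg ⟨s, hs⟩
    have hs0 : s ≠ 0 := fun h0 => (mu g).ne_zero (by rw [hs, h0, mul_zero])
    set M : Mn := s⁻¹ • ((g : GL ι F) : Mn)
    have hMq : ∀ w, Q (M *ᵥ w) = Q w := fun w => by
      rw [Matrix.smul_mulVec, QuadraticMap.map_smul, mu_spec, hs, smul_eq_mul]; field_simp
    let h : isometryGroup F ⇑Q := mkIsometry M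
      (by rw [Matrix.det_smul]; exact mul_ne_zero (pow_ne_zero _ (inv_ne_zero hs0)) (g : GL ι F).det_ne_zero) hMq
    set t : GO := g * (ogToGO Q h)⁻¹
    have ht : ((t : GL ι F) : Mn) = s • 1 := by
      rw [Subgroup.coe_mul, Units.val_mul, show ((g : GL ι F) : Mn) = s • ogVal h by
        show _ = s • (s⁻¹ • _); rw [smul_smul, mul_inv_cancel₀ hs0, one_smul], Matrix.smul_mul]
      show s • (ogVal h * ogVal h⁻¹) = s • 1
      rw [← ogVal_mul, mul_inv_cancel, ogVal_one]
    have hgt : g = t * ogToGO Q h := (inv_mul_cancel_right _ _).symm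
    have hdh : dick h = 1 := by
      rw [← H.psgn_og, ← hg, hgt, H.psgn_mul, H.psgn_scalar ht, one_mul]
    rw [hgt, map_mul, goHom_scalar ht, one_mul]
    have hdet : (ogVal h).det = 1 := by rw [det_eq_dick H.nd H.tri, hdh]; simp
    rcases Int.units_eq_one_or (theta Q h) with e | e
    · refine Subgroup.mem_sup_left ?_
      rw [inn_eq_map]
      exact ⟨h, (mem_omega_iff h2 H.nd H.tri h).2 ⟨hdet, e⟩, rfl⟩
    · rw [show h = h * (mapOG j hP u)⁻¹ * mapOG j hP u by group, map_mul (ogToGO Q), map_mul]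
      refine mul_mem (Subgroup.mem_sup_left ?_) (Subgroup.mem_sup_right ⟨ogToGO P u, ?_, rfl⟩)
      · rw [inn_eq_map]
        refine ⟨_, (mem_omega_iff h2 H.nd H.tri _).2 ⟨?_, ?_⟩, rfl⟩
        · rw [det_eq_dick H.nd H.tri, dick_mul H.nd H.tri, hdh,
            show dick (mapOG j hP u)⁻¹ = dick (mapOG j hP u) from
              ((dickHom H.nd H.tri).map_inv _).trans (Int.units_inv_eq_self _),
            dick_mapOG j hP H₀.nd H₀.tri H.nd H.tri, hu1]
          simp
        · rw [map_mul, map_inv, e, hu2]; rfl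
      · exact (H₀.psgn_og u).trans hu1
  rintro _ ⟨g, hg, rfl⟩
  by_cases hsq : IsSquare (mu g : F)
  · exact main g hg hsq
  · set kF := mapGO hP k
    have hkF : goHom Q kF ∈ Inn PQ ⊔ C := Subgroup.mem_sup_right ⟨k, hk1, rfl⟩
    rw [show g = g * kF * kF⁻¹ by group, map_mul, map_inv]
    refine mul_mem (main _ ?_ ?_) (inv_mem hkF)
    · rw [H.psgn_mul, show psgn n g = 1 from hg, H.psgn_mapGO hP H₀, hk1, one_mul]
    · rw [H.mu_mul, Units.val_mul, H.mu_mapGO hP, hk2]
      exact isSquare_of_two_nonsquares h2 hsq hns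

end Rational

end EvenBase

end Cfsg.Agent.Classical.OrthAut
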