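import Cfsg.Agent.Lib.Classical.OrthFourBase

/-!
The hyperbolic form as an `EvenBase`, and how a field automorphism class splits in dimension eight.
-/

set_option autoImplicit false
set_option linter.unusedSectionVars false
set_option quotPrecheck false
set_option maxHeartbeats 1000000
set_option maxRecDepth 8000

namespace Cfsg.Agent.Classical.OrthAut

open Matrix Module Cfsg.Agent.Classical.Descent

namespace Four

variable {F : Type*} [Field F] [Fintype F]

theorem evenBase_plus {m : ℕ} (hm : 3 ≤ m) : EvenBase (qfPlus m F) m := by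
  refine ⟨nondegenerate_qfPlus m, tri_qfPlus hm, by simp; omega, fun c hc => ?_⟩
  refine ⟨Matrix.GeneralLinearGroup.mkOfDetNeZero
    (Matrix.diagonal (Sum.elim (fun _ => (1 : F)) fun _ => c)) ?_, fun v => ?_⟩
  · rw [Matrix.det_diagonal, Finset.prod_ne_zero_iff]
    rintro (i | i) - <;> simp [hc]
  · show qfPlus m F (Matrix.diagonal _ *ᵥ v) = _
    simp only [qfPlus_apply, quadFormPlus, Matrix.mulVec_diagonal, Sum.elim_inl, Sum.elim_inr, one_mul,
      Finset.mul_sum]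
    exact Finset.sum_congr rfl fun i _ => by ring

theorem preserves_plus_iff {m : ℕ} (hm : 3 ≤ m) (g : Geo.quadSimilarityGroup (F := F) ⇑(qfPlus m F)) :
    PreservesSingularClasses (quadFormPlus m F) ((g : GL (Fin m ⊕ Fin m) F) : Matrix _ _ F) ↔ psgn m g = 1 := by
  classical
  have H := evenBase_plus (F := F) hm
  have hU := half_plusHalf (F := F) m
  rw [← coe_qfPlus, preserves_iff H.nd H.tri hU (mu g).ne_zero (fun v => mu_spec g v)]
  set c : F := ((mu g : Fˣ) : F)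
  set D : Matrix (Fin m ⊕ Fin m) (Fin m ⊕ Fin m) F := Matrix.diagonal (Sum.elim (fun _ => (1 : F)) fun _ => c)
  have hdet : D.det = c ^ m := by
    rw [Matrix.det_diagonal, Fintype.prod_sum_type]; simp
  have hD : D.det ≠ 0 := by rw [hdet]; exact pow_ne_zero _ (mu g).ne_zero
  set d : GL (Fin m ⊕ Fin m) F := Matrix.GeneralLinearGroup.mkOfDetNeZero D hD
  have hDq : ∀ v, qfPlus m F (D *ᵥ v) = c * qfPlus m F v := fun v => by
    simp only [D, qfPlus_apply, quadFormPlus, Matrix.mulVec_diagonal, Sum.elim_inl, Sum.elim_inr, one_mul,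
      Finset.mul_sum]
    exact Finset.sum_congr rfl fun i _ => by ring
  set d' : Geo.quadSimilarityGroup (F := F) ⇑(qfPlus m F) := ⟨d, mu g, hDq⟩
  have himg : imageSubmodule D (plusHalf m F) = plusHalf m F := by
    refine Submodule.eq_of_le_of_finrank_le (fun x hx => ?_) ?_
    · obtain ⟨u, hu, rfl⟩ := mem_imageSubmodule.1 hx
      refine LinearMap.mem_ker.2 (funext fun i => ?_)
      show (D *ᵥ u) (Sum.inr i) = 0
      rw [Matrix.mulVec_diagonal, show u (Sum.inr i) = 0 from congrFun (LinearMap.mem_ker.1 hu) i, mul_zero]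
    · exact ((finrank_imageSubmodule d (plusHalf m F)).ge)
  -- `g = h · d`
  have hmd : mu d' = mu g := H.mu_eq hDq
  obtain ⟨h, hh⟩ : ∃ h : isometryGroup F ⇑(qfPlus m F), ogToGO _ h = g * d'⁻¹ := by
    refine ⟨⟨((g * d'⁻¹ : Geo.quadSimilarityGroup (F := F) ⇑(qfPlus m F)) : GL _ F),
      mem_isometryGroup.2 fun v => ?_⟩, rfl⟩
    have hm1 : mu (g * d'⁻¹) = 1 := by
      have := H.mu_mul (g * d'⁻¹) d'
      rw [inv_mul_cancel_right, hmd] at this
      exact mul_eq_right.1 this.symm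
    rw [mu_spec, hm1, Units.val_one, one_mul]
  have hg : g = ogToGO _ h * d' := by rw [hh, inv_mul_cancel_right]
  have hsd : psgn m d' = 1 := by
    by_cases h2 : (2 : F) = 0
    · obtain ⟨s, k, -, hk⟩ := exists_norm_iso h2 d'
      have hs0 : s ≠ 0 := fun h0 => hD (by
        haveI : Nonempty (Fin m ⊕ Fin m) := ⟨Sum.inl ⟨0, by omega⟩⟩
        rw [show D = _ from hk, h0, zero_smul, Matrix.det_zero])
      rw [H.psgn_eq_dick h2 hk, ← pSign_scalar_mul H.nd H.tri hU hs0 hk]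
      show pSign _ (imageSubmodule D _) = 1
      rw [himg, pSign_self]
    · exact (psgn_eq_one_iff_det h2 _).2 (by rw [hmd]; exact hdet)
  rw [show psgn m g = dick h by rw [hg, H.psgn_mul, hsd, mul_one, H.psgn_og],
    show ((g : GL (Fin m ⊕ Fin m) F) : Matrix _ _ F) = ogVal h * D by rw [hg]; rfl,
    imageSubmodule_mul, himg, pSign_image H.nd H.tri hU hU, pSign_self, mul_one]

theorem inndiag_plus_eq {m : ℕ} (hm : 3 ≤ m) :
    autSubgroupOf (fun β : POmega F ⇑(qfPlus m F) ≃* POmega F ⇑(qfPlus m F) =>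
      ∃ g : GL (Fin m ⊕ Fin m) F, g ∈ Geo.quadSimilarityGroup (F := F) ⇑(qfPlus m F) ∧
        PreservesSingularClasses (quadFormPlus m F) (g : Matrix (Fin m ⊕ Fin m) (Fin m ⊕ Fin m) F) ∧
        IsInducedBySemilinearPOmega (⇑(qfPlus m F)) g (RingEquiv.refl F) β) =
      (evenBase_plus (F := F) hm).diagAut :=
  (evenBase_plus hm).autSubgroupOf_eq ((evenBase_plus hm).induced_pred (preserves_plus_iff hm))

universe u

section Torus

variable {m : ℕ}

local notation "ιp" => (Fin m ⊕ Fin m)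
local notation "Qp" => qfPlus m F
local notation "GOp" => Geo.quadSimilarityGroup (F := F) ⇑(qfPlus m F)

theorem theta_torus (hm : 3 ≤ m) (h2 : (2 : F) ≠ 0) (u : Fin m → Fˣ) :
    theta Qp (torus m F u) = ∏ i, sqChar F (u i) := by
  classical
  have H := evenBase_plus (F := F) hm
  let φ : (Fin m → Fˣ) →* ℤˣ := ∏ i, (sqChar F).comp (Pi.evalMonoidHom (fun _ => Fˣ) i)
  suffices h : (theta Qp).comp (torus m F) = φ by
    have := congrArg (fun f : (Fin m → Fˣ) →* ℤˣ => f u) h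
    simpa [φ] using this
  refine MonoidHom.functions_ext _ _ _ fun i w => ?_
  have hφ : φ (Pi.mulSingle i w) = sqChar F w := by
    simp only [φ, MonoidHom.finsetProd_apply, MonoidHom.comp_apply, Pi.evalMonoidHom_apply]
    rw [Finset.prod_eq_single i (fun l _ hl => by rw [Pi.mulSingle_eq_of_ne hl, map_one])
      (fun h => absurd (Finset.mem_univ i) h), Pi.mulSingle_eq_same]
  rw [hφ, MonoidHom.comp_apply]
  set e : ιp → F := Pi.single (Sum.inl i) 1
  set f : ιp → F := Pi.single (Sum.inr i) 1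
  have hQ : ∀ c : F, Qp (e + c • f) = c := fun c => by
    simp [e, f, qfPlus_apply, quadFormPlus, Pi.single_apply]
  have h1 : Qp (e + (1 : F) • f) ≠ 0 := by rw [hQ]; exact one_ne_zero
  have hw : Qp (e + (w : F) • f) ≠ 0 := by rw [hQ]; exact w.ne_zero
  have hre : torus m F (Pi.mulSingle i w) = refl h1 * refl hw := by
    refine ogVal_ext (Matrix.ext_iff_mulVec.2 fun x => ?_)
    rw [torus_val, ogVal_mul, ← Matrix.mulVec_mulVec, refl_apply, refl_apply, hQ, hQ]
    have hB : ∀ (c : F) (y : ιp → F), QuadraticMap.polar ⇑Qp (e + c • f) y =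
        y (Sum.inr i) + c * y (Sum.inl i) := fun c y => by
      rw [QuadraticMap.polar_add_left, QuadraticMap.polar_smul_left, polar_qfPlus, polar_qfPlus, smul_eq_mul]
      simp [e, f, Pi.single_apply]
    rw [hB, hB]
    funext l
    have hw0 : (w : F) ≠ 0 := w.ne_zero
    rcases l with l | l <;> rcases eq_or_ne l i with rfl | hl <;>
      simp [Matrix.mulVec_diagonal, e, f, Pi.single_apply, *] <;> field_simp <;> ring
  rw [hre, map_mul, theta_refl_eq h2 H.nd H.tri, show Units.mk0 _ h1 * (Units.mk0 _ hw)⁻¹ = w⁻¹ from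
    Units.ext (by simp only [Units.val_mul, Units.val_inv_eq_inv_val, Units.val_mk0, hQ, one_mul]), map_inv, Int.units_inv_eq_self]

theorem mu_diagSim (hm : 3 ≤ m) (lam : Fin m → Fˣ) (c : Fˣ) : mu (diagSim m lam c) = c :=
  (evenBase_plus (F := F) hm).mu_eq (g := diagSim m lam c) (diagSim m lam c).2.choose_spec |>.trans (by
    obtain ⟨v, hv⟩ := (evenBase_plus (F := F) hm).exists_one
    refine Units.ext ?_
    have h1 := (diagSim m lam c).2.choose_spec v
    have h2 : qfPlus m F ((diagSim m lam c : GL ιp F).1 *ᵥ v) = (c : F) * qfPlus m F v := by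
      rw [diagSim_val]
      simp only [qfPlus_apply, quadFormPlus, Matrix.mulVec_diagonal, Sum.elim_inl, Sum.elim_inr,
        Finset.mul_sum, Units.val_mul, Units.val_inv_eq_inv_val]
      exact Finset.sum_congr rfl fun i _ => by field_simp
    rw [h2, hv, mul_one, mul_one] at h1
    exact h1.symm)

theorem psgn_diagSim (hm : 3 ≤ m) (h2 : (2 : F) ≠ 0) (lam : Fin m → Fˣ) (c : Fˣ) :
    psgn m (diagSim m lam c) = 1 := by
  refine (psgn_eq_one_iff_det h2 _).2 ?_
  rw [mu_diagSim hm, diagSim_val, Matrix.det_diagonal, Fintype.prod_sum_type, ← Finset.prod_mul_distrib]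
  rw [Finset.prod_congr rfl fun i _ => show _ * _ = (c : F) by
    simp only [Sum.elim_inl, Sum.elim_inr, Units.val_mul, Units.val_inv_eq_inv_val]; field_simp]
  simp

theorem theta_diag (hm : 3 ≤ m) (h2 : (2 : F) ≠ 0) (lam : Fin m → Fˣ) (s : Fˣ) :
    theta Qp (torus m F fun i => lam i * s⁻¹) = (∏ i, sqChar F (lam i)) * sqChar F s ^ m := by
  rw [theta_torus hm h2]
  simp only [map_mul, map_inv, Int.units_inv_eq_self]
  rw [Finset.prod_mul_distrib, Finset.prod_const, Finset.card_univ, Fintype.card_fin]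

end Torus

/-- The inner group has index four. -/
theorem relIndex_inn_diag {F₀ : Type*} [Field F₀] [Fintype F₀] {j : F₀ →+* F} {σ : RingAut F}
    (h2 : (2 : F) ≠ 0) (hR : RatAt (qfPlus 4 F) σ) (hP : ∀ u, qfPlus 4 F (j ∘ u) = j (qfPlus 4 F₀ u))
    (H₀ : EvenBase (qfPlus 4 F₀) 4) (hj : ∀ x, σ x = x ↔ x ∈ j.range) (hsq : ∀ c : F₀, IsSquare (j c)) :
    (Inn (POmega F ⇑(qfPlus 4 F))).relIndex (evenBase_plus (F := F) (m := 4) (by norm_num)).diagAut = 4 := by
  classical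
  have H := evenBase_plus (F := F) (m := 4) (by norm_num)
  have hm := H.theta_negOne_fixed hR hP H₀ hj h2 hsq
  obtain ⟨ε, v, w, hv, hw, hε, hv1, hw1, hvw⟩ := exists_two_refl h2 H.nd H.tri
  let PQ := POmega F ⇑(qfPlus 4 F)
  set u := refl hv * refl hw
  have hudet : (ogVal u).det = 1 := by rw [ogVal_mul, Matrix.det_mul, refl_det, refl_det]; ring
  have huθ : theta (qfPlus 4 F) u = -1 := by rw [map_mul, hvw]
  let SOim : Subgroup (MulAut PQ) :=
    (dickHom H.nd H.tri).ker.map (ogHom (qfPlus 4 F))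
  have hmem : ∀ β, β ∈ SOim ↔ ∃ g : isometryGroup F ⇑(qfPlus 4 F), (ogVal g).det = 1 ∧ ogHom _ g = β := by
    intro β
    constructor
    · rintro ⟨g, hg, rfl⟩; exact ⟨g, (H.det_eq_one_iff_dick h2 g).2 hg, rfl⟩
    · rintro ⟨g, hg, rfl⟩; exact ⟨g, (H.det_eq_one_iff_dick h2 g).1 hg, rfl⟩
  have hinn : Inn PQ ≤ SOim := by
    rw [inn_eq_map]; rintro _ ⟨g, hg, rfl⟩; exact (hmem _).2 ⟨g, det_omega hg, rfl⟩
  have hSO : SOim ≤ H.diagAut := fun β hβ => by
    obtain ⟨g, hg, rfl⟩ := (hmem β).1 hβ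
    exact ⟨ogToGO _ g, (H.psgn_og g).trans ((H.det_eq_one_iff_dick h2 g).1 hg), rfl⟩
  have huni : ogHom (qfPlus 4 F) u ∉ Inn PQ := by
    rw [inn_eq_map]
    rintro ⟨t, ht, e⟩
    obtain ⟨-, c, hc⟩ := poSemi_eq_one_of_tri H.nd H.tri (isPair_refl (isometry_mem_go (u⁻¹ * t)))
      ((ogHom_apply _).symm.trans (by rw [map_mul, map_inv, e, inv_mul_cancel]))
    obtain ⟨x, hx⟩ := H.exists_one
    have h1 : qfPlus 4 F (ogVal (u⁻¹ * t) *ᵥ x) = 1 := by rw [ogVal_quad, hx]
    rw [show ogVal (u⁻¹ * t) = c • 1 from hc, Matrix.smul_mulVec, Matrix.one_mulVec, QuadraticMap.map_smul,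
      hx, smul_eq_mul, mul_one] at h1
    have hθ1 : theta (qfPlus 4 F) (u⁻¹ * t) = 1 := by
      rcases mul_self_eq_one_iff.1 h1 with rfl | rfl
      · rw [show u⁻¹ * t = 1 from ogVal_ext (hc.trans (by rw [one_smul, ogVal_one])), map_one]
      · rw [show u⁻¹ * t = negOne _ from ogVal_ext (hc.trans (by rw [neg_one_smul, ogVal_negOne])), hm]
    rw [map_mul, map_inv, huθ, ((mem_omega_iff h2 H.nd H.tri t).1 ht).2] at hθ1
    exact absurd hθ1 (by decide)
  obtain ⟨ε', hε'⟩ := FiniteField.exists_nonsquare (F := F) (ringChar_ne_two h2)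
  have hε'0 : ε' ≠ 0 := fun h0 => hε' (h0 ▸ IsSquare.zero)
  set d := diagSim 4 (fun _ => (1 : Fˣ)) (Units.mk0 ε' hε'0)
  have hdμ : (mu d : F) = ε' := by rw [mu_diagSim (by norm_num)]; rfl
  have hd1 : psgn 4 d = 1 := psgn_diagSim (by norm_num) h2 _ _
  have hsqmem : ∀ g : Geo.quadSimilarityGroup (F := F) ⇑(qfPlus 4 F), psgn 4 g = 1 →
      (goHom _ g ∈ SOim ↔ IsSquare (mu g : F)) := by
    intro g hg
    constructor
    · intro hβ
      obtain ⟨k, -, e⟩ := (hmem _).1 hβ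
      obtain ⟨c, hc⟩ := H.goHom_inj (g := g) (k := ogToGO _ k) e.symm
      obtain ⟨x, hx⟩ := H.exists_one
      have := mu_spec g x
      have hk1 : qfPlus 4 F (ogVal k *ᵥ x) = 1 := (ogVal_quad k x).trans hx
      rw [hc, Matrix.smul_mulVec, QuadraticMap.map_smul, hx, smul_eq_mul, mul_one] at this
      erw [hk1, mul_one] at this
      exact ⟨c, this.symm⟩
    · rintro ⟨s, hs⟩
      have hs0 : s ≠ 0 := fun h0 => (mu g).ne_zero (by rw [hs, h0, mul_zero])
      set M : Matrix (Fin 4 ⊕ Fin 4) (Fin 4 ⊕ Fin 4) F := s⁻¹ • ((g : GL (Fin 4 ⊕ Fin 4) F) : Matrix (Fin 4 ⊕ Fin 4) (Fin 4 ⊕ Fin 4) F)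
      let k : isometryGroup F ⇑(qfPlus 4 F) := mkIsometry M
        (by rw [Matrix.det_smul]; exact mul_ne_zero (pow_ne_zero _ (inv_ne_zero hs0)) (g : GL (Fin 4 ⊕ Fin 4) F).det_ne_zero)
        fun x => by rw [Matrix.smul_mulVec, QuadraticMap.map_smul, mu_spec, hs, smul_eq_mul]; field_simp
      have hgk : ((g : GL (Fin 4 ⊕ Fin 4) F) : Matrix _ _ F) = s • ogVal k := by
        show _ = s • (s⁻¹ • _); rw [smul_smul, mul_inv_cancel₀ hs0, one_smul]
      exact (hmem _).2 ⟨k, (H.det_eq_one_iff_dick h2 k).2 (by rw [← H.psgn_of_smul hgk, hg]),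
        (goHom_eq_ogHom hgk).symm⟩
  rw [← Subgroup.relIndex_mul_relIndex _ _ _ hinn hSO]
  have e1 : (Inn PQ).relIndex SOim = 2 := by
    refine Subgroup.index_eq_two_iff.2 ⟨⟨_, (hmem _).2 ⟨u, hudet, rfl⟩⟩, fun b => ?_⟩
    obtain ⟨g, hg, hb⟩ := (hmem _).1 b.2
    simp only [Subgroup.mem_subgroupOf, Subgroup.coe_mul, ← hb, ← map_mul]
    rcases Int.units_eq_one_or (theta (qfPlus 4 F) g) with e | e
    · have hgI : ogHom _ g ∈ Inn PQ := by
        rw [inn_eq_map]; exact ⟨g, (mem_omega_iff h2 H.nd H.tri g).2 ⟨hg, e⟩, rfl⟩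
      exact Or.inr ⟨hgI, fun hbad => huni (by
        rw [map_mul] at hbad
        simpa using mul_mem (inv_mem hgI) hbad)⟩
    · have hguI : ogHom _ (g * u) ∈ Inn PQ := by
        rw [inn_eq_map]
        exact ⟨g * u, (mem_omega_iff h2 H.nd H.tri _).2
          ⟨by rw [ogVal_mul, Matrix.det_mul, hg, hudet, one_mul], by rw [map_mul, e, huθ]; rfl⟩, rfl⟩
      refine Or.inl ⟨hguI, fun hbad => huni ?_⟩
      rw [map_mul] at hguI
      simpa using mul_mem (inv_mem hbad) hguI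
  have e2 : SOim.relIndex H.diagAut = 2 := by
    refine Subgroup.index_eq_two_iff.2 ⟨⟨_, H.mem_diagAut.2 ⟨d, hd1, rfl⟩⟩, fun b => ?_⟩
    obtain ⟨g, hg, hb⟩ := H.mem_diagAut.1 b.2
    simp only [Subgroup.mem_subgroupOf, Subgroup.coe_mul, ← hb, ← map_mul]
    have hgd : psgn 4 (g * d) = 1 := by rw [H.psgn_mul, hg, hd1, one_mul]
    rw [hsqmem g hg, hsqmem (g * d) hgd, H.mu_mul, Units.val_mul, hdμ]
    by_cases hs : IsSquare (mu g : F)
    · refine Or.inr ⟨hs, fun hbad => hε' ?_⟩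
      have := hs.inv.mul hbad
      rwa [inv_mul_cancel_left₀ (mu g).ne_zero] at this
    · exact Or.inl ⟨isSquare_of_two_nonsquares h2 hs hε', hs⟩
  rw [e1, e2]

variable {F₀ : Type*} [Field F₀] [Fintype F₀] {j : F₀ →+* F} {σ : RingAut F}

local notation "Q4" => qfPlus 4 F
local notation "H4" => evenBase_plus (F := F) (m := 4) (by norm_num)

/-- Four classes. -/
theorem split_four (hj : ∀ x, σ x = x ↔ x ∈ j.range) (hcard : Fintype.card F = Fintype.card F₀ ^ 2)
    (h2 : (2 : F) ≠ 0) :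
    splitClassCount (H4).diagAut (Inn (POmega F ⇑Q4)) (fld (rat_qfPlus.ratAt σ)) = 4 := by
  classical
  have hR : RatAt Q4 σ := rat_qfPlus.ratAt σ
  have H := evenBase_plus (F := F) (m := 4) (by norm_num)
  have H₀ := evenBase_plus (F := F₀) (m := 4) (by norm_num)
  have hP := qfPlus_rat (F := F) (m := 4) j
  have hsq := isSquare_fixed (j := j) hcard h2
  have h20 := two_small j h2
  obtain ⟨ε, hε⟩ := FiniteField.exists_nonsquare (F := F₀) (ringChar_ne_two h20)
  have hε0 : ε ≠ 0 := fun h0 => hε (h0 ▸ IsSquare.zero)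
  have hjε : j ε ≠ 0 := by simpa using hε0
  obtain ⟨s, hs⟩ := hsq ε
  have hs0 : s ≠ 0 := fun h0 => hjε (by rw [hs, h0, mul_zero])
  set c := Units.mk0 (j ε) hjε
  set sU := Units.mk0 s hs0
  have hsc : sU * sU = c := Units.ext hs.symm
  set g := diagSim 4 (fun _ => (1 : Fˣ)) c
  have hg : goMap hR g = g := Subtype.ext (Units.ext (by
    show (Matrix.diagonal _).map σ = Matrix.diagonal _
    rw [Matrix.diagonal_map (map_zero σ)]
    congr 1
    funext i
    rcases i with i | i <;> simp [c, (hj (j ε)).2 ⟨ε, rfl⟩]))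
  have hg1 : psgn 4 g = 1 := psgn_diagSim (by norm_num) h2 _ _
  have hgμ : (mu g : F) = j ε := by rw [mu_diagSim (by norm_num)]; rfl
  set h := torus 4 F fun _ => 1 * sU⁻¹
  have hh := diagSim_torus (fun _ : Fin 4 => (1 : Fˣ)) hsc
  have hθ : theta Q4 h = 1 := by
    rw [theta_diag (by norm_num) h2 (fun _ => (1 : Fˣ)) sU]
    simp only [map_one, Finset.prod_const_one, one_mul]
    rw [show (4 : ℕ) = 2 + 2 from rfl, pow_add, sq, Int.units_mul_self]
  have hgI : goHom Q4 g ∈ Inn (POmega F ⇑Q4) := by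
    rw [goHom_eq_ogHom hh, inn_eq_map]
    exact ⟨h, (mem_omega_iff h2 H.nd H.tri h).2
      ⟨(H.det_eq_one_iff_dick h2 h).2 (by rw [← H.psgn_of_smul hh, hg1]), hθ⟩, rfl⟩
  have hC : H.diagAut ⊓ Subgroup.centralizer {fld hR} ≤ Inn (POmega F ⇑Q4) := by
    rw [H.centralizer_eq_map hR hP H₀ hj]
    rintro _ ⟨k, hk, rfl⟩
    have hk1 : psgn 4 (EvenSpace.mapGO hP k) = 1 := (H.psgn_mapGO hP H₀ k).trans hk
    have hfix : goMap hR (EvenSpace.mapGO hP k) = EvenSpace.mapGO hP k :=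
      Subtype.ext (Units.ext (Matrix.ext fun a b => (hj _).2 ⟨_, rfl⟩))
    have hkμ : (mu (EvenSpace.mapGO hP k) : F) = j (mu k : F₀) := H.mu_mapGO hP k
    by_cases hsk : IsSquare (mu k : F₀)
    · obtain ⟨t, ht⟩ := hsk
      exact H.fixed_sq_inn hR hP H₀ hj h2 hsq hfix hk1 (t := t) (by rw [hkμ, ht])
    obtain ⟨t, ht⟩ : IsSquare ((mu k : F₀) / ε) := by
      rw [div_eq_mul_inv]; exact isSquare_of_two_nonsquares h20 hsk fun h' => hε (by simpa using h'.inv)
    rw [MonoidHom.comp_apply, ← inv_mul_cancel_right (EvenSpace.mapGO hP k) g, map_mul]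
    refine mul_mem (H.fixed_sq_inn hR hP H₀ hj h2 hsq (by rw [map_mul, map_inv, hfix, hg]) ?_ (t := t) ?_) hgI
    · rw [H.psgn_mul, hk1, show psgn 4 g⁻¹ = psgn 4 g from
        (H.psgnHom.map_inv g).trans (Int.units_inv_eq_self _), hg1, one_mul]
    · rw [H.mu_mul, show mu g⁻¹ = (mu g)⁻¹ from map_inv H.muHom g, Units.val_mul, Units.val_inv_eq_inv_val,
        hkμ, hgμ, ← ht, div_eq_mul_inv, map_mul, map_inv₀]
  rw [splitClassCount_eq_relIndex _ _ H.inn_le_diagAut, sup_eq_left.2 hC]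
  exact relIndex_inn_diag h2 hR hP H₀ hj hsq

end Four

end Cfsg.Agent.Classical.OrthAut
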