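import Cfsg.Agent.Lib.Lie.Chev.OutD4
import Cfsg.Agent.Lib.Classical.OrthFourSplit

/-!
The inner-diagonal group of `PΩ⁺₈` is normal in the automorphism group, triality included.
-/

set_option autoImplicit false
set_option linter.unusedSectionVars false
set_option quotPrecheck false
set_option maxHeartbeats 1000000
set_option maxRecDepth 20000

namespace Cfsg.Agent.Classical.OrthAut.Four

open Cfsg.Lie Matrix Cfsg.Agent.Classical Cfsg.Agent.Classical.OrthAut Cfsg.Agent.Lie.OrthGen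
open Cfsg.Agent.Lie.Chev Cfsg.Agent.Lie.Chev.IsoD4
open scoped commutatorElement

variable (F : Type*) [Field F]

/-- The isomorphism with the group of the diagram, on root elements. -/
theorem exists_iso_root :
    ∃ e : ↥(chevD4.group F) ≃* POmega F ⇑(qfPlus 4 F), ∀ r, r < chevD4.nroots → ∀ (t : F)
      (s : ↥(Omega F ⇑(qfPlus 4 F))), (s : isometryGroup F ⇑(qfPlus 4 F)) = root F r t →
      e (certFullD4.xG r t) = omPi (Q := qfPlus 4 F) s := by
  have hN : checkNbr certFullD4.T = true := by decide +kernel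
  set A := certFullD4.stCoverData F
  let ψ : chevD4.SteinbergCover F →* ↥(Omega F ⇑(qfPlus 4 F)) :=
    (coverHom F).codRestrict _ fun x => range_eq_omega F ▸ ⟨x, rfl⟩
  have hψ : Function.Surjective ψ := fun y => by
    obtain ⟨x, hx⟩ : (y : isometryGroup F ⇑(qfPlus 4 F)) ∈ (coverHom F).range :=
      (range_eq_omega F).symm ▸ y.2
    exact ⟨x, Subtype.ext hx⟩
  let φ : chevD4.SteinbergCover F →* POmega F ⇑(qfPlus 4 F) := (QuotientGroup.mk' _).comp ψ
  have hφ : Function.Surjective φ := (QuotientGroup.mk'_surjective _).comp hψ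
  let θ' : chevD4.SteinbergCover F →* ↥(chevD4.group F) := A.θ.codRestrict _ A.θ_mem_group
  have hθ : Function.Surjective θ' := fun g => by
    obtain ⟨x, hx⟩ := A.θ_surj g.2
    exact ⟨x, Subtype.ext hx⟩
  have hker : θ'.ker ≤ φ.ker := fun z hz => by
    have hz' : z ∈ Subgroup.center _ :=
      (A.ker_le hN).trans inf_le_right (congrArg Subtype.val (MonoidHom.mem_ker.1 hz))
    rw [MonoidHom.mem_ker]
    refine (QuotientGroup.eq_one_iff _).2 (Subgroup.mem_center_iff.2 fun y => ?_)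
    obtain ⟨x, rfl⟩ := hψ y
    rw [← map_mul, ← map_mul, Subgroup.mem_center_iff.1 hz' x]
  let f : ↥(chevD4.group F) →* POmega F ⇑(qfPlus 4 F) :=
    θ'.liftOfSurjective hθ ⟨φ, hker⟩
  have hf : ∀ x, f (θ' x) = φ x := fun x => MonoidHom.liftOfRightInverse_comp_apply _ _ _ ⟨φ, hker⟩ x
  have hfs : Function.Surjective f := fun y => by
    obtain ⟨x, rfl⟩ := hφ y
    exact ⟨θ' x, hf x⟩
  obtain ⟨hsimple, -⟩ := certFullD4.simple (F := F) connD4 (certFullD4.perfect perfectD4)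
  refine ⟨MulEquiv.ofBijective f ⟨(MonoidHom.ker_eq_bot_iff f).1 ?_, hfs⟩, fun r hr t s hs => ?_⟩
  swap
  · show f (certFullD4.xG r t) = _
    rw [show certFullD4.xG r t = θ' (A.X r t) from Subtype.ext (A.θX r hr t).symm, hf]
    refine congrArg (omPi (Q := qfPlus 4 F)) (Subtype.ext ?_)
    show coverHom F (A.X r t) = (s : isometryGroup F ⇑(qfPlus 4 F))
    rw [coverHom_X F hr, hs]
  refine ((hsimple.eq_bot_or_eq_top_of_normal f.ker inferInstance)).resolve_right fun htop => ?_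
  have hall : ∀ x, ψ x ∈ Subgroup.center ↥(Omega F ⇑(qfPlus 4 F)) := fun x => by
    rw [← QuotientGroup.eq_one_iff]
    show φ x = 1
    rw [← hf x, ← MonoidHom.mem_ker, htop]; trivial
  have hone : ∀ x, ψ x = 1 := fun x => by
    have hx : x ∈ commutator (chevD4.SteinbergCover F) := by
      rw [A.perfect hN perfectD4]; trivial
    suffices commutator (chevD4.SteinbergCover F) ≤ ψ.ker from this hx
    rw [commutator_def, Subgroup.commutator_le]
    intro a _ b _
    rw [MonoidHom.mem_ker, map_commutatorElement, commutatorElement_eq_one_iff_mul_comm]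
    exact Subgroup.mem_center_iff.1 (hall b) _
  have h12 : (12 : ℕ) < chevD4.nroots := by rw [nroots_D4]; norm_num
  have h := congrArg (fun g => ogVal g (Sum.inl 3) (Sum.inr 2))
    (congrArg Subtype.val (hone (A.X 12 (1 : F))))
  change ogVal (coverHom F (A.X 12 1)) _ _ = ogVal (1 : isometryGroup F ⇑(qfPlus 4 F)) _ _ at h
  rw [coverHom_X F h12, root_val (by norm_num)] at h
  simp [ent, tab, rootTab, toM_apply, coef] at h

variable [Fintype F]

local notation "I8" => (Fin 4 ⊕ Fin 4)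
local notation "Q4" => qfPlus 4 F
local notation "GO4" => Geo.quadSimilarityGroup (F := F) ⇑(qfPlus 4 F)

/-- The entries of a diagonal similarity. -/
def dvec (lam : Fin 4 → Fˣ) (c : Fˣ) : Fin 4 ⊕ Fin 4 → Fˣ := Sum.elim lam fun i => c * (lam i)⁻¹

theorem diagSim_root (lam : Fin 4 → Fˣ) (c : Fˣ) {r : ℕ} (hr : r < 24) (t : F) (κ : Fˣ)
    (h1 : dvec F lam c (tab r).2.1 = κ * dvec F lam c (tab r).1.swap)
    (h2 : dvec F lam c (tab r).1 = κ * dvec F lam c (tab r).2.1.swap) :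
    ((diagSim 4 lam c : GO4) : GL I8 F).1 * ogVal (root F r t) =
      ogVal (root F r ((κ : F) * t)) * ((diagSim 4 lam c : GO4) : GL I8 F).1 := by
  rw [show ((diagSim 4 lam c : GO4) : GL I8 F).1 =
      Matrix.diagonal (fun i => ((dvec F lam c i : Fˣ) : F)) by
    rw [diagSim_val]; congr 1; funext i; cases i <;> rfl]
  rw [root, root, coordElt_val _ _ (tab_ok ⟨r, hr⟩), coordElt_val _ _ (tab_ok ⟨r, hr⟩)]
  simp only [Matrix.mul_add, Matrix.add_mul, Matrix.mul_one, Matrix.one_mul]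
  congr 2
  all_goals
    ext i j
    simp only [Matrix.diagonal_mul, Matrix.mul_diagonal, Matrix.single_apply]
    split_ifs with hij
    · obtain ⟨rfl, rfl⟩ := hij
      first
        | (rw [h1, Units.val_mul]; ring1)
        | (rw [h2, Units.val_mul]; ring1)
    · ring1

theorem goHom_root {e : ↥(chevD4.group F) ≃* POmega F ⇑(qfPlus 4 F)}
    (he : ∀ r, r < chevD4.nroots → ∀ (t : F)
      (s : ↥(Omega F ⇑(qfPlus 4 F))), (s : isometryGroup F ⇑(qfPlus 4 F)) = root F r t →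
      e (certFullD4.xG r t) = omPi (Q := qfPlus 4 F) s)
    (lam : Fin 4 → Fˣ) (c : Fˣ) {r : ℕ} (hr : r < 24) (t : F) (κ : Fˣ)
    (h1 : dvec F lam c (tab r).2.1 = κ * dvec F lam c (tab r).1.swap)
    (h2 : dvec F lam c (tab r).1 = κ * dvec F lam c (tab r).2.1.swap) :
    goHom Q4 (diagSim 4 lam c) (e (certFullD4.xG r t)) = e (certFullD4.xG r ((κ : F) * t)) := by
  have hn : r < chevD4.nroots := by rw [nroots_D4]; exact hr
  have hm : ∀ u : F, root F r u ∈ Omega F ⇑Q4 := fun u => by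
    rw [← range_eq_omega]; exact ⟨_, coverHom_X F hn u⟩
  rw [he r hn t ⟨_, hm t⟩ rfl, he r hn _ ⟨_, hm ((κ : F) * t)⟩ rfl, goHom_apply, poSemi_pi]
  refine congrArg _ (omVal_ext ?_)
  rw [omSemi_coe]
  show ((diagSim 4 lam c : GO4) : GL I8 F).1 * (ogVal (root F r t)).map id * _ = _
  rw [Matrix.map_id, diagSim_root F lam c hr t κ h1 h2, Matrix.mul_assoc, ← Units.val_mul, mul_inv_cancel,
    Units.val_one, Matrix.mul_one]
  rfl

/-- The character of a diagonal similarity. -/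
def zOf (lam : Fin 4 → Fˣ) (c : Fˣ) : Fin chevD4.rank → Fˣ := fun i =>
  ![lam 0 * (lam 1)⁻¹, lam 1 * (lam 2)⁻¹, lam 2 * (lam 3)⁻¹, lam 2 * lam 3 * c⁻¹]
    ⟨i.val, lt_of_lt_of_le i.isLt (by decide)⟩

theorem simple_tab : ∀ i : Fin 4, certFullD4.T.simple i < 24 ∧
    certFullD4.T.neg (certFullD4.T.simple i) < 24 ∧
    ((tab (certFullD4.T.simple i)).1, (tab (certFullD4.T.simple i)).2.1) =
      ![((Sum.inl 0 : Fin 4 ⊕ Fin 4), (Sum.inr 1 : Fin 4 ⊕ Fin 4)), (Sum.inl 1, Sum.inr 2),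
        (Sum.inl 2, Sum.inr 3), (Sum.inl 2, Sum.inl 3)] i ∧
    ((tab (certFullD4.T.neg (certFullD4.T.simple i))).1,
        (tab (certFullD4.T.neg (certFullD4.T.simple i))).2.1) =
      ![((Sum.inr 0 : Fin 4 ⊕ Fin 4), (Sum.inl 1 : Fin 4 ⊕ Fin 4)), (Sum.inr 1, Sum.inl 2),
        (Sum.inr 2, Sum.inl 3), (Sum.inr 2, Sum.inr 3)] i := by decide +kernel

theorem zOf_cond (lam : Fin 4 → Fˣ) (c : Fˣ) : ∀ (k : Fin 4) (i : Fin chevD4.rank), i.val = k.val →
    dvec F lam c (tab (certFullD4.T.simple k)).2.1 =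
      zOf F lam c i * dvec F lam c (tab (certFullD4.T.simple k)).1.swap ∧
    dvec F lam c (tab (certFullD4.T.simple k)).1 =
      zOf F lam c i * dvec F lam c (tab (certFullD4.T.simple k)).2.1.swap ∧
    dvec F lam c (tab (certFullD4.T.neg (certFullD4.T.simple k))).2.1 =
      (zOf F lam c i)⁻¹ * dvec F lam c (tab (certFullD4.T.neg (certFullD4.T.simple k))).1.swap ∧
    dvec F lam c (tab (certFullD4.T.neg (certFullD4.T.simple k))).1 =
      (zOf F lam c i)⁻¹ * dvec F lam c (tab (certFullD4.T.neg (certFullD4.T.simple k))).2.1.swap := by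
  intro k i hik
  obtain ⟨-, -, e1, e2⟩ := simple_tab k
  have hk : (⟨i.val, lt_of_lt_of_le i.isLt (by decide)⟩ : Fin 4) = k := Fin.ext hik
  simp only [Prod.ext_iff] at e1 e2
  rw [zOf, hk, e1.1, e1.2, e2.1, e2.2]
  fin_cases k <;> simp [dvec, mul_assoc, mul_comm, mul_left_comm]

theorem congr_diag {e : ↥(chevD4.group F) ≃* POmega F ⇑(qfPlus 4 F)}
    (he : ∀ r, r < chevD4.nroots → ∀ (t : F)
      (s : ↥(Omega F ⇑(qfPlus 4 F))), (s : isometryGroup F ⇑(qfPlus 4 F)) = root F r t →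
      e (certFullD4.xG r t) = omPi (Q := qfPlus 4 F) s)
    (lam : Fin 4 → Fˣ) (c : Fˣ) :
    MulAut.congr e (certFullD4.diagHom F (zOf F lam c)) = goHom Q4 (diagSim 4 lam c) := by
  refine (MulAut.congr e).symm.injective ?_
  rw [MulEquiv.symm_apply_apply]
  refine certFullD4.aut_ext fun i t => ?_
  have key : ∀ y, (MulAut.congr e).symm (goHom Q4 (diagSim 4 lam c)) y =
      e.symm (goHom Q4 (diagSim 4 lam c) (e y)) := fun y => rfl
  rw [key, key, (certFullD4.diagHom_xG _ i t).1, (certFullD4.diagHom_xG _ i t).2]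
  rw [certFullD4.neg_eq (certFullD4.simple_lt i.2), certFullD4.simple_eq i.2]
  obtain ⟨hs, hns, e1, e2⟩ := simple_tab ⟨i.val, lt_of_lt_of_le i.isLt (by decide)⟩
  simp only at hs hns e1 e2
  obtain ⟨a1, a2, b1, b2⟩ := zOf_cond F lam c ⟨i.val, lt_of_lt_of_le i.isLt (by decide)⟩ i rfl
  rw [goHom_root F he lam c hs t (zOf F lam c i) a1 a2,
    goHom_root F he lam c hns t (zOf F lam c i)⁻¹ b1 b2, MulEquiv.symm_apply_apply, MulEquiv.symm_apply_apply]
  exact ⟨rfl, rfl⟩


theorem zOf_surjective : ∀ z : Fin chevD4.rank → Fˣ, ∃ lam c, zOf F lam c = z := by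
  intro z
  have h : ∀ k : Fin 4, k.val < chevD4.rank := by decide
  set w : Fin 4 → Fˣ := fun k => z ⟨k.val, h k⟩
  refine ⟨![w 0 * w 1 * w 2, w 1 * w 2, w 2, 1], w 2 * (w 3)⁻¹, funext fun i => ?_⟩
  rw [show z i = w ⟨i.val, lt_of_lt_of_le i.isLt (by decide)⟩ from rfl, zOf]
  generalize (⟨i.val, lt_of_lt_of_le i.isLt (by decide)⟩ : Fin 4) = k
  fin_cases k <;> simp

/-- The inner-diagonal group is normal. -/
theorem diagAut_normal : (evenBase_plus (F := F) (m := 4) (by norm_num)).diagAut.Normal := by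
  classical
  have H := evenBase_plus (F := F) (m := 4) (by norm_num)
  by_cases h2 : (2 : F) = 0
  · rw [H.diagAut_eq_inn_two h2]; infer_instance
  obtain ⟨e, he⟩ := exists_iso_root F
  have hK := certFullD4.outD_normal (F := F) (certFullD4.classified_simplyLaced simplyLacedD4)
  set K := (certFullD4.outD F).comap (QuotientGroup.mk' (Inn ↥(chevD4.group F)))
  have hKn : (K.map (MulAut.congr e).toMonoidHom).Normal :=
    (hK.comap _).map _ (MulAut.congr e).surjective
  suffices H.diagAut = K.map (MulAut.congr e).toMonoidHom by rw [this]; exact hKn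
  have hdg : ∀ lam c, goHom Q4 (diagSim 4 lam c) ∈ K.map (MulAut.congr e).toMonoidHom := fun lam c =>
    ⟨certFullD4.diagHom F (zOf F lam c), Subgroup.mem_map.2 ⟨_, ⟨_, rfl⟩, rfl⟩, congr_diag F he lam c⟩
  refine le_antisymm ?_ ?_
  · have hinn : Inn (POmega F ⇑Q4) ≤ K.map (MulAut.congr e).toMonoidHom := by
      rw [← OutD4.inn_map e]
      refine Subgroup.map_mono fun β hβ => ?_
      show QuotientGroup.mk β ∈ certFullD4.outD F
      rw [(QuotientGroup.eq_one_iff β).2 hβ]; exact one_mem _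
    rintro _ ⟨g, hg, rfl⟩
    have hg1 : psgn 4 g = 1 := hg
    set g₀ := diagSim 4 (fun _ => (1 : Fˣ)) (mu g)
    have hg₀μ : mu g₀ = mu g := mu_diagSim (by norm_num) _ _
    have hg₀1 : psgn 4 g₀ = 1 := psgn_diagSim (by norm_num) h2 _ _
    obtain ⟨h, hh⟩ : ∃ h : isometryGroup F ⇑Q4, ogToGO _ h = g₀⁻¹ * g := by
      refine ⟨⟨((g₀⁻¹ * g : GO4) : GL I8 F), mem_isometryGroup.2 fun v => ?_⟩, rfl⟩
      rw [mu_spec, H.mu_mul, show mu g₀⁻¹ = (mu g₀)⁻¹ from map_inv H.muHom g₀, hg₀μ, inv_mul_cancel,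
        Units.val_one, one_mul]
    have hd : (ogVal h).det = 1 := (H.det_eq_one_iff_dick h2 h).2 (by
      rw [← H.psgn_og, hh, H.psgn_mul, hg1, show psgn 4 g₀⁻¹ = psgn 4 g₀ from
        (H.psgnHom.map_inv g₀).trans (Int.units_inv_eq_self _), hg₀1]
      rfl)
    rw [show g = g₀ * ogToGO _ h by rw [hh, mul_inv_cancel_left], map_mul]
    refine mul_mem (hdg _ _) ?_
    rcases Int.units_eq_one_or (theta Q4 h) with hθ | hθ
    · refine hinn ?_
      rw [inn_eq_map]
      exact ⟨h, (mem_omega_iff h2 H.nd H.tri h).2 ⟨hd, hθ⟩, rfl⟩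
    obtain ⟨w, hw⟩ := FiniteField.exists_nonsquare (F := F) (ringChar_ne_two h2)
    have hw0 : w ≠ 0 := fun h0 => hw (h0 ▸ IsSquare.zero)
    set u : Fin 4 → Fˣ := Pi.mulSingle 0 (Units.mk0 w hw0)
    have hu : theta Q4 (torus 4 F u) = -1 := by
      rw [theta_torus (by norm_num) h2, Finset.prod_eq_single 0
        (fun l _ hl => by simp [u, Pi.mulSingle_eq_of_ne hl]) (fun h => absurd (Finset.mem_univ _) h),
        show u 0 = Units.mk0 w hw0 from Pi.mulSingle_eq_same _ _, sqChar_eq_neg_one_iff]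
      exact hw
    have htor : ogToGO Q4 (torus 4 F u) = diagSim 4 u 1 := by
      refine go_ext ?_
      show ogVal (torus 4 F u) = _
      rw [torus_val, diagSim_val]
      simp
    rw [show h = (h * (torus 4 F u)⁻¹) * torus 4 F u by group, map_mul, map_mul, htor]
    refine mul_mem (hinn ?_) (hdg _ _)
    rw [inn_eq_map]
    refine ⟨_, (mem_omega_iff h2 H.nd H.tri _).2 ⟨?_, ?_⟩, rfl⟩
    · have hdt : (ogVal (torus 4 F u)).det = 1 := by
        rw [torus_val, Matrix.det_diagonal, Fintype.prod_sum_type, ← Finset.prod_mul_distrib]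
        exact Finset.prod_eq_one fun i _ => by simp
      have h1 : (ogVal (h * (torus 4 F u)⁻¹)).det * (ogVal (torus 4 F u)).det = 1 := by
        rw [← Matrix.det_mul, ← ogVal_mul, inv_mul_cancel_right, hd]
      rwa [hdt, mul_one] at h1
    · rw [map_mul, map_inv, hθ, hu]; rfl
  · rintro _ ⟨β, hβ, rfl⟩
    obtain ⟨z, hz⟩ := certFullD4.mem_outD.1 hβ
    obtain ⟨lam, c, rfl⟩ := zOf_surjective F z
    obtain ⟨y, hy⟩ := QuotientGroup.eq.1 hz
    rw [show β = certFullD4.diagHom F (zOf F lam c) * MulAut.conj y by rw [hy, mul_inv_cancel_left], map_mul]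
    refine mul_mem ?_ (H.inn_le_diagAut ?_)
    · show MulAut.congr e _ ∈ _
      rw [congr_diag F he lam c]
      exact H.mem_diagAut.2 ⟨_, psgn_diagSim (by norm_num) h2 _ _, rfl⟩
    · rw [← OutD4.inn_map e]
      exact ⟨_, ⟨y, rfl⟩, rfl⟩

end Cfsg.Agent.Classical.OrthAut.Four
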