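import Cfsg.Agent.Lib.Classical.OrthGOModels
import Cfsg.Agent.Lib.Classical.SplitClassCount
import Mathlib.FieldTheory.ChevalleyWarning
import Mathlib.Algebra.QuadraticAlgebra.Basic
import Mathlib.RingTheory.Norm.Defs

/-!
Splitting of the class of an involutory similitude graph automorphism.
-/

set_option autoImplicit false
set_option linter.unusedSectionVars false
set_option quotPrecheck false
set_option maxHeartbeats 1000000

namespace Cfsg.Agent.Classical.GOQuot

open Matrix Module Cfsg.Agent.Classical.OrthAut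

variable {F : Type*} [Field F] [Fintype F]

/-- A quadratic form in three variables has a non-trivial zero. -/
theorem exists_zero_three (A : Fin 3 → Fin 3 → F) :
    ∃ x : Fin 3 → F, x ≠ 0 ∧ ∑ i, ∑ j, A i j * x i * x j = 0 := by
  classical
  obtain ⟨p, hp⟩ := CharP.exists F
  haveI : Fact p.Prime := ⟨CharP.char_is_prime F p⟩
  let P : MvPolynomial (Fin 3) F :=
    ∑ i, ∑ j, MvPolynomial.C (A i j) * MvPolynomial.X i * MvPolynomial.X j
  have hdeg : P.totalDegree < Fintype.card (Fin 3) := by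
    refine lt_of_le_of_lt (b := 2) ?_ (by simp)
    refine MvPolynomial.totalDegree_finsetSum_le fun i _ => MvPolynomial.totalDegree_finsetSum_le fun j _ => ?_
    refine (MvPolynomial.totalDegree_mul _ _).trans ?_
    refine (add_le_add (MvPolynomial.totalDegree_mul _ _) le_rfl).trans ?_
    rw [MvPolynomial.totalDegree_C, MvPolynomial.totalDegree_X, MvPolynomial.totalDegree_X]
  have h := char_dvd_card_solutions p hdeg
  have hev : ∀ x : Fin 3 → F, MvPolynomial.eval x P = ∑ i, ∑ j, A i j * x i * x j := fun x => by simp [P]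
  by_contra hne
  push Not at hne
  have : Fintype.card {x : Fin 3 → F // MvPolynomial.eval x P = 0} = 1 := by
    rw [Fintype.card_eq_one_iff]
    refine ⟨⟨0, by rw [hev]; simp⟩, fun x => Subtype.ext ?_⟩
    by_contra h0
    exact hne x.1 h0 ((hev x.1).symm.trans x.2)
  rw [this, Nat.dvd_one] at h
  exact (Fact.out : p.Prime).ne_one h

/-- The determinant of a square root of a non-square scalar. -/
theorem det_of_sq_nonsquare {ι : Type} [Fintype ι] [DecidableEq ι] {M : Matrix ι ι F} {l : F}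
    (hl : ¬ IsSquare l) (h : M * M = l • 1) {n : ℕ} (hn : Fintype.card ι = 2 * n) : M.det = (-l) ^ n := by
  haveI : Fact (∀ r : F, r ^ 2 ≠ l + 0 * r) :=
    ⟨fun r hr => hl ⟨r, by rw [zero_mul, add_zero, sq] at hr; exact hr.symm⟩⟩
  let E := QuadraticAlgebra F l 0
  have hu : Matrix.toLin' M * Matrix.toLin' M = l • (1 : Module.End F (ι → F)) + (0 : F) • Matrix.toLin' M := by
    rw [zero_smul, add_zero, Module.End.mul_eq_comp, ← Matrix.toLin'_mul, h, map_smul, Matrix.toLin'_one,
      Module.End.one_eq_id]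
  let ψ : E →ₐ[F] Module.End F (ι → F) := QuadraticAlgebra.lift ⟨Matrix.toLin' M, hu⟩
  letI : Module E (ι → F) := Module.compHom (ι → F) ψ.toRingHom
  haveI : IsScalarTower F E (ι → F) := IsScalarTower.of_algebraMap_smul fun r v => by
    show ψ (algebraMap F E r) v = r • v
    rw [AlgHom.commutes]; rfl
  haveI : Module.Finite E (ι → F) := Module.Finite.of_restrictScalars_finite F E (ι → F)
  let L : (ι → F) →ₗ[E] (ι → F) := (QuadraticAlgebra.omega : E) • LinearMap.id
  have hL : L.restrictScalars F = Matrix.toLin' M := by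
    refine LinearMap.ext fun v => ?_
    show ψ (QuadraticAlgebra.omega : E) v = _
    simp [ψ, QuadraticAlgebra.lift]
  have hfr : finrank E (ι → F) = n := by
    have h1 := Module.finrank_mul_finrank F E (ι → F)
    rw [QuadraticAlgebra.finrank_eq_two, Module.finrank_pi, hn] at h1
    omega
  have hnorm : Algebra.norm F (QuadraticAlgebra.omega : E) = -l := by
    rw [Algebra.norm_eq_matrix_det (QuadraticAlgebra.basis l 0), Matrix.det_fin_two]
    simp [Algebra.leftMulMatrix_eq_repr_mul, QuadraticAlgebra.basis, Module.Basis.coe_ofEquivFun]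
  have h2 : LinearMap.det (L.restrictScalars F) = Algebra.norm F (LinearMap.det L) := by
    rw [LinearMap.det_restrictScalars]
  rw [hL, LinearMap.det_toLin', LinearMap.det_smul, hfr, LinearMap.det_id, mul_one, map_pow, hnorm] at h2
  exact h2

variable {ι : Type} [Fintype ι] [DecidableEq ι] {Q : QuadraticForm F (ι → F)} {n : ℕ}

local notation "Mn" => Matrix ι ι F
local notation "OG" => isometryGroup F ⇑Q
local notation "PQ" => POmega F ⇑Q
local notation "GO" => Geo.quadSimilarityGroup (F := F) ⇑Q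
local notation "B" => QuadraticMap.polar ⇑Q

/-- An element of sign `-1` does not centralise the index-two part. -/
theorem QData.not_commute {G K : Type*} [Group G] [Group K] {κ : G →* K} {ψ : G →* ℤˣ × ℤˣ} {R : G} {z : K}
    (D : QData κ ψ R z) {s g : G} (hs : ψ s = (1, -1)) (hg : (ψ g).1 = -1) : κ g * κ s ≠ κ s * κ g := by
  intro hcomm
  have hR : κ R * κ s = z * (κ s * κ R) := by
    have h5 := congrArg (· * κ R) (D.swap (s := s) (by rw [hs]))
    simp only [mul_assoc, D.hrr, mul_one] at h5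
    exact h5
  obtain ⟨E, hE, hEp⟩ : ∃ E : G, (κ E * κ s = z * (κ s * κ E)) ∧ ψ E = ψ g := by
    rcases Int.units_eq_one_or (ψ g).2 with e | e
    · exact ⟨R, hR, by rw [D.hR]; exact (Prod.ext hg e).symm⟩
    · refine ⟨R * s, ?_, by rw [map_mul, D.hR, hs]; exact (Prod.ext hg e).symm⟩
      rw [map_mul]
      calc κ R * κ s * κ s = z * (κ s * κ R) * κ s := by rw [hR]
        _ = z * (κ s * (κ R * κ s)) := by group
  rcases D.hcases (g * E⁻¹) (by rw [map_mul, map_inv, hEp, mul_inv_cancel]) with e' | e' <;>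
    rw [map_mul, map_inv, mul_inv_eq_iff_eq_mul] at e' <;> rw [e'] at hcomm
  · rw [one_mul, hE] at hcomm
    exact D.hz (mul_eq_right.1 hcomm)
  · rw [mul_assoc, hE, ← mul_assoc (κ s), (D.hzc s).eq, mul_assoc z (κ s)] at hcomm
    exact D.hz (mul_eq_right.1 (mul_left_cancel hcomm))

namespace Ctx

variable (C : Ctx Q n)
include C

omit C in
theorem polar_go (g : GO) (v w : ι → F) :
    B (((g : GL ι F) : Mn) *ᵥ v) (((g : GL ι F) : Mn) *ᵥ w) = (mu g : F) * B v w := by
  rw [QuadraticMap.polar, QuadraticMap.polar, ← Matrix.mulVec_add, mu_spec, mu_spec, mu_spec]; ring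

/-- A rotation of an invariant plane commuting with a similitude. -/
theorem plane_rotation {g : GO} {c : F} (hgg : ((g : GL ι F) : Mn) * ((g : GL ι F) : Mn) = c • 1)
    {v : ι → F} (hv : Q v ≠ 0) (h0 : B v (((g : GL ι F) : Mn) *ᵥ v) = 0) {x y : F}
    (hN : ¬ IsSquare (x ^ 2 + (mu g : F) * y ^ 2)) (hc : c = -(mu g : F) ∨ (c = (mu g : F) ∧ x = 0)) :
    ∃ h : OG, (ogVal h).det = 1 ∧ spin h = -1 ∧ ogToGO Q h * g = g * ogToGO Q h := by
  set G := ((g : GL ι F) : Mn)
  set μ := (mu g : F)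
  have hN0 : x ^ 2 + μ * y ^ 2 ≠ 0 := fun h => hN (h ▸ IsSquare.zero)
  have hGG : ∀ z, G *ᵥ (G *ᵥ z) = c • z := fun z => by
    rw [Matrix.mulVec_mulVec, hgg, Matrix.smul_mulVec, Matrix.one_mulVec]
  have hμ : μ ≠ 0 := (mu g).ne_zero
  have hc0 : c ≠ 0 := by rcases hc with h | ⟨h, -⟩ <;> rw [h] <;> simp [hμ]
  have hadj : ∀ z, B v (G *ᵥ z) = c / μ * B (G *ᵥ v) z := fun z => by
    have := polar_go g v (G *ᵥ z)
    rw [show ((g : GL ι F) : Mn) *ᵥ (G *ᵥ z) = c • z from hGG z, QuadraticMap.polar_smul_right, smul_eq_mul] at this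
    field_simp
    linear_combination -this
  have hqw : Q (x • v + y • G *ᵥ v) = Q v * (x ^ 2 + μ * y ^ 2) := by
    rw [quad_add, QuadraticMap.map_smul, QuadraticMap.map_smul, mu_spec, QuadraticMap.polar_smul_left,
      QuadraticMap.polar_smul_right, h0]
    simp only [smul_eq_mul]; ring
  have hw : Q (x • v + y • G *ᵥ v) ≠ 0 := by rw [hqw]; exact mul_ne_zero hv hN0
  refine ⟨OrthAut.refl hv * OrthAut.refl hw, ?_, ?_, ?_⟩
  · rw [ogVal_mul, Matrix.det_mul, refl_det, refl_det]; ring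
  · rw [spin_mul C.nd, spin_refl C.nd hv, spin_refl C.nd hw, hqw, sqSign_mul hv hN0, sqSign_of_not hN]
    rcases Int.units_eq_one_or (sqSign (Q v)) with e | e <;> rw [e] <;> rfl
  · refine go_ext (Matrix.ext_iff_mulVec.2 fun z => ?_)
    show (ogVal (OrthAut.refl hv * OrthAut.refl hw) * G) *ᵥ z = (G * ogVal (OrthAut.refl hv * OrthAut.refl hw)) *ᵥ z
    have h0' : B (G *ᵥ v) v = 0 := by rw [QuadraticMap.polar_comm]; exact h0
    have h1 : B (G *ᵥ v) (G *ᵥ v) = 2 * (μ * Q v) := by rw [polar_self2, mu_spec]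
    have hpg : B (G *ᵥ v) (G *ᵥ z) = μ * B v z := polar_go g v z
    simp only [ogVal_mul, ← Matrix.mulVec_mulVec, refl_apply, Matrix.mulVec_sub, Matrix.mulVec_smul,
      QuadraticMap.polar_add_left, QuadraticMap.polar_sub_right, QuadraticMap.polar_smul_right,
      QuadraticMap.polar_add_right, QuadraticMap.polar_smul_left, Matrix.mulVec_add, hGG, hqw, hadj,
      hpg, polar_self2, h0, h0', h1, smul_eq_mul, mul_zero, add_zero, zero_add]
    rcases hc with hc | ⟨hc, rfl⟩ <;> rw [hc] <;> match_scalars <;> field_simp <;> ring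

/-- Every similitude with scalar square commutes with a special isometry outside `Ω`. -/
theorem exists_commuting_spin (hn : 4 ≤ n) {g : GO} {c : F}
    (hgg : ((g : GL ι F) : Mn) * ((g : GL ι F) : Mn) = c • 1) :
    ∃ h : OG, (ogVal h).det = 1 ∧ spin h = -1 ∧ ogToGO Q h * g = g * ogToGO Q h := by
  classical
  set G := ((g : GL ι F) : Mn) with hG
  set μ := (mu g : F) with hμd
  have hGG : ∀ z, G *ᵥ (G *ᵥ z) = c • z := fun z => by
    rw [Matrix.mulVec_mulVec, hgg, Matrix.smul_mulVec, Matrix.one_mulVec]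
  have hμ : μ ≠ 0 := (mu g).ne_zero
  obtain ⟨v₀, hv₀⟩ := exists_anisotropic C.nd C.one_le
  obtain ⟨ε, hε0, hε⟩ := C.exists_ε
  have hc : c = μ ∨ c = -μ := by
    have h1 := mu_spec g (G *ᵥ v₀)
    rw [← hG, hGG, QuadraticMap.map_smul, hG, mu_spec, smul_eq_mul, ← hμd, ← mul_assoc] at h1
    exact mul_self_eq_mul_self_iff.1 (mul_right_cancel₀ hv₀ h1)
  rcases hc with hc | hc
  swap
  · -- skew
    obtain ⟨x, y, hxy⟩ := FiniteField.exists_root_sum_quadratic (R := F)
      (f := Polynomial.X ^ 2 - Polynomial.C ε) (g := Polynomial.C μ * Polynomial.X ^ 2)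
      (Polynomial.degree_X_pow_sub_C (by norm_num) _) (Polynomial.degree_C_mul_X_pow 2 hμ)
      (FiniteField.odd_card_of_char_ne_two fun h => C.two (by haveI := ringChar.of_eq h; exact CharTwo.two_eq_zero))
    simp at hxy
    have h0 : B v₀ (G *ᵥ v₀) = 0 := by
      have h1 := polar_go g (G *ᵥ v₀) v₀
      rw [← hG, hGG, hc, QuadraticMap.polar_smul_left, smul_eq_mul, ← hμd, QuadraticMap.polar_comm _ (G *ᵥ v₀) v₀]
        at h1
      have h2 : (2 * μ) * B v₀ (G *ᵥ v₀) = 0 := by linear_combination -h1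
      exact (mul_eq_zero.1 h2).resolve_left (mul_ne_zero C.two hμ)
    exact C.plane_rotation hgg hv₀ h0 (x := x) (y := y) (by
      rwa [← hμd, show x ^ 2 + μ * y ^ 2 = ε by linear_combination hxy]) (Or.inl hc)
  have hadj : ∀ v z, B v (G *ᵥ z) = B (G *ᵥ v) z := fun v z => by
    have := polar_go g v (G *ᵥ z)
    rw [← hG, hGG, QuadraticMap.polar_smul_right, smul_eq_mul, ← hμd, hc] at this
    exact (mul_left_cancel₀ hμ this).symm
  by_cases hsq : IsSquare μ
  · -- eigenspaces
    obtain ⟨r, hr⟩ := hsq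
    have hr0 : r ≠ 0 := fun h0 => hμ (by rw [hr, h0, mul_zero])
    let W : F → Submodule F (ι → F) := fun s => LinearMap.ker (Matrix.toLin' G - s • LinearMap.id)
    have memW : ∀ s v, v ∈ W s ↔ G *ᵥ v = s • v := fun s v => by simp [W, sub_eq_zero]
    have hdec : ∀ u, ∃ a ∈ W r, ∃ b ∈ W (-r), a + b = u := fun u => by
      refine ⟨(2 * r)⁻¹ • (G *ᵥ u + r • u), (memW _ _).2 ?_, (2 * r)⁻¹ • (r • u - G *ᵥ u), (memW _ _).2 ?_, ?_⟩
      · rw [Matrix.mulVec_smul, Matrix.mulVec_add, Matrix.mulVec_smul, hGG, hc, hr]; module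
      · rw [Matrix.mulVec_smul, Matrix.mulVec_sub, Matrix.mulVec_smul, hGG, hc, hr]; module
      · have := C.two
        match_scalars <;> field_simp <;> ring
    have horth : ∀ s, (s = r ∨ s = -r) → ∀ a ∈ W s, ∀ b ∈ W (-s), B a b = 0 := by
      intro s hs a ha b hb
      have h1 := hadj a b
      rw [(memW _ _).1 ha, (memW _ _).1 hb, QuadraticMap.polar_smul_left, QuadraticMap.polar_smul_right,
        smul_eq_mul, smul_eq_mul] at h1
      have h2 : (2 * s) * B a b = 0 := by linear_combination -h1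
      exact (mul_eq_zero.1 h2).resolve_left (mul_ne_zero C.two (by rcases hs with rfl | rfl <;> simp [hr0]))
    obtain ⟨s, hs, hd⟩ : ∃ s, (s = r ∨ s = -r) ∧ 2 ≤ finrank F (W s) := by
      have htop : W r ⊔ W (-r) = ⊤ := eq_top_iff.2 fun u _ => Submodule.mem_sup.2 (hdec u)
      have h1 := Submodule.finrank_sup_add_finrank_inf_eq (W r) (W (-r))
      rw [htop, finrank_top, Module.finrank_pi, C.card] at h1
      by_contra h
      push Not at h
      have := h r (Or.inl rfl); have := h (-r) (Or.inr rfl)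
      omega
    have hnd : ∀ w ∈ W s, w ≠ 0 → ∃ u ∈ W s, B w u ≠ 0 := by
      intro w hw hw0
      by_contra h
      push Not at h
      refine hw0 (eq_zero_of_polar C.nd fun z => ?_)
      obtain ⟨a, ha, b, hb, rfl⟩ := hdec z
      rcases hs with rfl | rfl
      · rw [QuadraticMap.polar_add_right, h a ha, horth s (Or.inl rfl) w hw b hb, zero_add]
      · rw [QuadraticMap.polar_add_right, h b hb, horth (-r) (Or.inr rfl) w hw a (by rwa [neg_neg]), zero_add]
    obtain ⟨v, hvW, hv⟩ := exists_value_in C.nd C.two hnd hd 1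
    obtain ⟨w, hwW, hw⟩ := exists_value_in C.nd C.two hnd hd ε
    have hv0 : Q v ≠ 0 := by rw [hv]; exact one_ne_zero
    have hw0 : Q w ≠ 0 := by rw [hw]; exact hε0
    have hcomm : ∀ {u : ι → F} (hu : Q u ≠ 0), u ∈ W s → ogToGO Q (OrthAut.refl hu) * g = g * ogToGO Q (OrthAut.refl hu) := by
      intro u hu huW
      refine go_ext (Matrix.ext_iff_mulVec.2 fun z => ?_)
      show (ogVal (OrthAut.refl hu) * G) *ᵥ z = (G * ogVal (OrthAut.refl hu)) *ᵥ z
      rw [← Matrix.mulVec_mulVec, ← Matrix.mulVec_mulVec, refl_apply, refl_apply, Matrix.mulVec_sub,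
        Matrix.mulVec_smul, hadj, (memW _ _).1 huW, QuadraticMap.polar_smul_left, smul_smul]
      match_scalars <;> simp <;> ring
    refine ⟨OrthAut.refl hv0 * OrthAut.refl hw0, ?_, ?_, ?_⟩
    · rw [ogVal_mul, Matrix.det_mul, refl_det, refl_det]; ring
    · rw [spin_mul C.nd, spin_refl C.nd hv0, spin_refl C.nd hw0, hv, hw, sqSign_of_isSquare IsSquare.one,
        sqSign_of_not hε, one_mul]
    · rw [map_mul, mul_assoc, hcomm hw0 hwW, ← mul_assoc, hcomm hv0 hvW, mul_assoc]
  · -- no eigenvalue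
    obtain ⟨a, b, d, hab, hd, had, hbd, hind⟩ := C.tri
    let L : (Fin 3 → F) → (ι → F) := fun x => x 0 • a + x 1 • b + x 2 • d
    have hLQ : ∀ x, Q (L x) = 0 := fun x => by
      show Q (x 0 • a + x 1 • b + x 2 • d) = 0
      rw [quad_add, quad_add, QuadraticMap.map_smul, QuadraticMap.map_smul, QuadraticMap.map_smul,
        QuadraticMap.polar_add_left, QuadraticMap.polar_smul_left, QuadraticMap.polar_smul_left,
        QuadraticMap.polar_smul_left, QuadraticMap.polar_smul_right, QuadraticMap.polar_smul_right,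
        QuadraticMap.polar_smul_right, hab.1, hab.2.1, hab.2.2.1, hd, had, hbd]
      simp
    obtain ⟨x, hx0, hx⟩ := exists_zero_three fun i j => B (![a, b, d] i) (G *ᵥ ![a, b, d] j)
    set e := L x with he
    have he0 : e ≠ 0 := fun h => hx0 (by
      obtain ⟨h1, h2, h3⟩ := hind _ _ _ h
      funext i; fin_cases i <;> assumption)
    have hPe : B e (G *ᵥ e) = 0 := by
      rw [← hx, he]
      simp only [L, Fin.sum_univ_three, Matrix.mulVec_add, Matrix.mulVec_smul, QuadraticMap.polar_add_left,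
        QuadraticMap.polar_add_right, QuadraticMap.polar_smul_left, QuadraticMap.polar_smul_right, smul_eq_mul]
      simp
      ring
    have hind2 : ∀ s t : F, s • e + t • G *ᵥ e = 0 → s = 0 ∧ t = 0 := by
      intro s t h
      have h' := congrArg (G *ᵥ ·) h
      simp only [Matrix.mulVec_add, Matrix.mulVec_smul, hGG, hc, Matrix.mulVec_zero] at h'
      have h3 : (s * s - t * t * μ) • e = 0 := by
        linear_combination (norm := module) s • h - t • h'
      have h4 := (smul_eq_zero.1 h3).resolve_right he0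
      by_cases ht : t = 0
      · exact ⟨by subst ht; simpa using h4, ht⟩
      · exact absurd ⟨s / t, by field_simp; linear_combination -h4⟩ hsq
    obtain ⟨e', h1, h2⟩ := exists_polar2 C.nd hind2 1 0
    set u := e' + (1 - Q e') • e with hu
    set k := -(B e' (G *ᵥ e')) / (2 * μ) with hk
    have hge : B (G *ᵥ e) (G *ᵥ e) = 0 := by rw [polar_self2, mu_spec, he, hLQ]; ring
    have hQge : Q (G *ᵥ e) = 0 := by rw [mu_spec, he, hLQ, mul_zero]
    have hv : Q (u + k • G *ᵥ e) = 1 := by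
      rw [hu, quad_add, quad_add, QuadraticMap.map_smul, QuadraticMap.map_smul, hQge,
        he, hLQ, ← he, QuadraticMap.polar_smul_right, QuadraticMap.polar_smul_right, QuadraticMap.polar_add_left,
        QuadraticMap.polar_smul_left, QuadraticMap.polar_comm _ e' e, h1, QuadraticMap.polar_comm _ e' (G *ᵥ e),
        h2, hPe]
      simp only [smul_eq_mul]; ring
    have h0 : B (u + k • G *ᵥ e) (G *ᵥ (u + k • G *ᵥ e)) = 0 := by
      have e1 : B e' (G *ᵥ e) = 0 := by rw [QuadraticMap.polar_comm, h2]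
      have e2 : B e (G *ᵥ e') = 0 := by rw [hadj, h2]
      have e3 : B (G *ᵥ e) (G *ᵥ e') = μ := by rw [polar_go, h1, mul_one]
      have e4 : B (G *ᵥ e) e = 0 := by rw [QuadraticMap.polar_comm, hPe]
      have e5 : B e e = 0 := by rw [polar_self2, he, hLQ, mul_zero]
      have e6 : B e' e = 1 := by rw [QuadraticMap.polar_comm, h1]
      simp only [hu, Matrix.mulVec_add, Matrix.mulVec_smul, hGG, hc, QuadraticMap.polar_add_left,
        QuadraticMap.polar_add_right, QuadraticMap.polar_smul_left, QuadraticMap.polar_smul_right, smul_eq_mul,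
        e1, e2, e3, e4, e5, e6, hPe, hge]
      rw [hk]
      have := C.two
      field_simp
      ring
    exact C.plane_rotation hgg (v := u + k • G *ᵥ e) (by rw [hv]; exact one_ne_zero) h0 (x := 0) (y := 1)
      (by simpa [← hμd] using hsq) (Or.inr ⟨hc, rfl⟩)

theorem relIndex_inn_of_quot {β : Type} [Group β] {k : ℕ} (hk : Nat.card β = k)
    (h : ∃ φ : C.diag →* β, Function.Surjective φ ∧ φ.ker = (Inn PQ).subgroupOf C.diag) :
    (Inn PQ).relIndex C.diag = k := by
  obtain ⟨φ, hφ, hker⟩ := h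
  rw [Subgroup.relIndex, ← hker, Subgroup.index_ker, MonoidHom.range_eq_top.2 hφ, Subgroup.card_top, hk]

theorem inn_le_diag : Inn PQ ≤ C.diag := fun β hβ => by
  obtain ⟨h, hd, rfl⟩ := mem_pso.1 (C.inn_le_pso hβ)
  exact C.mem_diag.2 ⟨ogToGO Q h, (C.psgn_og h).2 hd, rfl⟩

/-- The class of an involutory graph similitude splits in at most two. -/
theorem split_graph (hn : 4 ≤ n) {k : GO} (hk : sqChar F (mu k) = -1) {g : GO} (hp : psgn n g = -1)
    (h2 : goHom Q g * goHom Q g = 1) :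
    (splitClassCount C.diag (Inn PQ) (goHom Q g) = 1 ∨ splitClassCount C.diag (Inn PQ) (goHom Q g) = 2) ∧
    (spin (negOne Q) = 1 → splitClassCount C.diag (Inn PQ) (goHom Q g) = 2) := by
  classical
  obtain ⟨s, hs⟩ := C.exists_psi hk
  rw [splitClassCount_eq_relIndex _ _ C.inn_le_diag]
  set L := Inn PQ ⊔ (C.diag ⊓ Subgroup.centralizer {goHom Q g}) with hL
  have hIL : Inn PQ ≤ L := le_sup_left
  have hLD : L ≤ C.diag := sup_le C.inn_le_diag inf_le_left
  have hmul := Subgroup.relIndex_mul_relIndex _ _ _ hIL hLD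
  rcases Int.units_eq_one_or (spin (negOne Q)) with hm | hm
  swap
  · have h4 := C.relIndex_inn_of_quot (k := 2) (by simp) (C.diag_quot_two hm hk)
    rw [h4] at hmul
    refine ⟨(Nat.dvd_prime Nat.prime_two).1 ⟨_, hmul.symm.trans (mul_comm _ _)⟩, fun h => ?_⟩
    rw [hm] at h; exact absurd h (by decide)
  suffices h : L.relIndex C.diag = 2 from ⟨Or.inr h, fun _ => h⟩
  have h4 : (Inn PQ).relIndex C.diag = 4 := by
    by_cases hss : kap Q (s * s) = 1
    · exact C.relIndex_inn_of_quot (by simp) (C.diag_quot_klein hm hs hss)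
    · exact C.relIndex_inn_of_quot (by simp) (C.diag_quot_cyclic hm hs hss)
  rw [h4] at hmul
  obtain ⟨c, hc⟩ := goHom_eq_one C.nd C.tri (g := g * g) (by rw [map_mul, h2])
  obtain ⟨h, hd, hsp, hcom⟩ := C.exists_commuting_spin hn (g := g) (c := c) hc
  have hmemL : goHom Q (ogToGO Q h) ∈ L := le_sup_right (a := Inn PQ)
    ⟨C.mem_diag.2 ⟨_, (C.psgn_og h).2 hd, rfl⟩, Subgroup.mem_centralizer_singleton_iff.2
      (by rw [← map_mul, hcom, map_mul])⟩
  have h1 : (Inn PQ).relIndex L ≠ 1 := fun e => by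
    have := (C.og_mem_inn hd).1 (Subgroup.relIndex_eq_one.1 e hmemL)
    rw [hsp, hm] at this; exact absurd this (by decide)
  obtain ⟨R, z, D⟩ := C.data hm
  have h2' : L.relIndex C.diag ≠ 1 := fun e => by
    have hsL : goHom Q s ∈ L := Subgroup.relIndex_eq_one.1 e
      (C.mem_diag.2 ⟨s, (Prod.ext_iff.1 ((C.psi_apply s).symm.trans hs)).1, rfl⟩)
    rw [hL, Subgroup.mem_sup_of_normal_left] at hsL
    obtain ⟨t, ht, d, ⟨hdD, hdc⟩, hts⟩ := hsL
    obtain ⟨d', hd'p, rfl⟩ := C.mem_diag.1 hdD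
    have hsd : kap Q s = kap Q d' := by
      have : goHom Q (s * d'⁻¹) ∈ Inn PQ := by rw [map_mul, map_inv, ← hts, mul_inv_cancel_right]; exact ht
      have h' := kap_eq_one.2 this
      rwa [map_mul, map_inv, mul_inv_eq_one] at h'
    have hcomm : kap Q g * kap Q d' = kap Q d' * kap Q g := by
      rw [← map_mul, ← map_mul]
      refine kap_congr ?_
      rw [map_mul, map_mul]
      exact (Subgroup.mem_centralizer_singleton_iff.1 hdc).symm
    rw [← hsd] at hcomm
    exact D.not_commute hs (g := g) (by rw [C.psi_apply, hp]) hcomm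
  have hdvd : L.relIndex C.diag ∣ 4 := ⟨_, hmul.symm.trans (mul_comm _ _)⟩
  have := Nat.le_of_dvd (by norm_num) hdvd
  interval_cases h3 : L.relIndex C.diag <;> omega

theorem split_graph' (hn : 4 ≤ n) {k : GO} (hk : sqChar F (mu k) = -1) (f : (ι → F) → F) (hf : ⇑Q = f)
    {P : GL ι F → Prop} (hP : ∀ g : GO, P g ↔ psgn n g = 1) :
    ∀ D : Subgroup (MulAut (POmega F f)),
      D = autSubgroupOf (fun β : POmega F f ≃* POmega F f => ∃ g : GL ι F,
        g ∈ Geo.quadSimilarityGroup (F := F) f ∧ P g ∧ IsInducedBySemilinearPOmega f g (RingEquiv.refl F) β) →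
      ∀ γ : MulAut (POmega F f), orderOf γ = 2 →
        (∃ g : GL ι F, g ∈ Geo.quadSimilarityGroup (F := F) f ∧ ¬ P g ∧
          IsInducedBySemilinearPOmega f g (RingEquiv.refl F) γ) →
        (splitClassCount D (Inn (POmega F f)) γ = 1 ∨ splitClassCount D (Inn (POmega F f)) γ = 2) ∧
        (spin (negOne Q) = 1 → splitClassCount D (Inn (POmega F f)) γ = 2) := by
  subst hf
  rintro D rfl γ hγ ⟨g, hg, hgP, hi⟩
  have e : autSubgroupOf (fun β : POmega F ⇑Q ≃* POmega F ⇑Q => ∃ g : GL ι F,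
        g ∈ Geo.quadSimilarityGroup (F := F) ⇑Q ∧ P g ∧ IsInducedBySemilinearPOmega (⇑Q) g (RingEquiv.refl F) β) =
      C.diag := by
    rw [← C.diag_eq (P := fun g => P g) hP]
    congr 1
    funext β
    exact propext ⟨fun ⟨g, hg, h1, h2⟩ => ⟨⟨g, hg⟩, h1, h2⟩, fun ⟨g, h1, h2⟩ => ⟨g, g.2, h1, h2⟩⟩
  rw [e]
  have hγg : γ = goHom Q ⟨g, hg⟩ := (induced_iff (isPair_refl hg)).1 hi
  subst hγg
  exact C.split_graph hn hk ((Int.units_eq_one_or _).resolve_left fun h => hgP ((hP ⟨g, hg⟩).2 h))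
    (by rw [← sq]; exact orderOf_dvd_iff_pow_eq_one.1 (dvd_of_eq hγ))

end Ctx

/-- An involution fixing an elliptic form up to semisimilarity is a similitude automorphism. -/
theorem minus_involution {m : ℕ} {a b : F} (hm : 3 ≤ m) (hab : Aniso F a b) (h2 : (2 : F) ≠ 0)
    (β : MulAut (POmega F ⇑(qfMinus m F a b))) (hβ : β * β = 1) :
    ∃ g : Geo.quadSimilarityGroup (F := F) ⇑(qfMinus m F a b), β = goHom (qfMinus m F a b) g := by
  classical
  have H := evenSpace_minus hm hab
  obtain ⟨g, σ, h, rfl⟩ := H.exists_poSemi β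
  have hI := congrArg H.invHom hβ
  rw [map_mul, map_one, H.invHom_poSemi] at hI
  have hσσ : σ * σ = 1 := congrArg (fun x => x.1.right) hI
  by_cases hσ : σ = 1
  · subst hσ
    exact ⟨⟨g, pmul h, fun v => pmul_spec h v⟩, rfl⟩
  exfalso
  have hσ2 : ∀ x, σ (σ x) = x := fun x => congrArg (fun τ : RingAut F => τ x) hσσ
  have hσ1 : (σ.toRingHom : F →+* F) ≠ RingHom.id F := fun h =>
    hσ (RingEquiv.ext fun x => RingHom.congr_fun h x)
  have hfix : ∀ e : F, σ e = e → IsSquare e := by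
    intro e he
    by_cases he0 : e = 0
    · exact ⟨0, by rw [he0, mul_zero]⟩
    obtain ⟨w, hw : w * σ w = e⟩ := exists_norm_eq hσ1 hσ2 he he0
    rw [← hw]
    by_cases hs : IsSquare w
    · exact hs.mul (hs.map σ)
    · exact isSquare_of_two_nonsquares h2 hs fun hh => hs (by simpa [hσ2] using hh.map σ)
  have hneg : IsSquare (-1 : F) := hfix _ (by rw [map_neg, map_one])
  have hmem := H.pinv_mem h
  rw [EvenSpace.mem_detGroup] at hmem
  set l : Fˣ := (pinv (m + 1) h).1.left
  have hl2 : (l : F) ^ 2 * (H.gramD : F) = σ (H.gramD : F) := by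
    have := congrArg Units.val hmem
    rw [Units.val_mul, Units.val_pow_eq_pow_val, twAct_coe] at this
    exact this
  have hlσ : (l : F) * σ (l : F) = 1 := by
    have := congrArg (fun x => ((x.1.left : Fˣ) : F)) hI
    simp only [Prod.fst_mul, SemidirectProduct.mul_left, Units.val_mul, twAct_coe] at this
    exact this
  obtain ⟨u, hu0, hu⟩ : ∃ u : F, u ≠ 0 ∧ (l : F) * σ u = u := by
    by_cases hl : (l : F) = -1
    · obtain ⟨w, hw⟩ : ∃ w, σ w ≠ w := by
        by_contra hh; push Not at hh; exact hσ (RingEquiv.ext hh)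
      exact ⟨w - σ w, sub_ne_zero.2 (Ne.symm hw), by rw [hl, map_sub, hσ2]; ring⟩
    · exact ⟨1 + (l : F), fun hh => hl (by linear_combination hh), by
        rw [map_add, map_one]; linear_combination hlσ⟩
  have hD : IsSquare ((H.gramD : F) * u ^ 2) := hfix _ (by
    rw [map_mul, map_pow, ← hl2]
    linear_combination (H.gramD : F) * ((l : F) * σ u + u) * hu)
  obtain ⟨r, hr⟩ := hD
  have := (isSquare_gramD hm hab h2).1 ⟨r / u, by field_simp; linear_combination hr⟩
  exact this.1 hneg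

/-- In an elliptic space of dimension divisible by four, a graph similitude involution has no
centralising similitude of trivial sign and non-square multiplier. -/
theorem minus_no_commute {m : ℕ} {a b : F} (hm : 3 ≤ m) (hab : Aniso F a b) (hodd : Odd (Fintype.card F))
    (he : Even (m + 1)) {g c : Geo.quadSimilarityGroup (F := F) ⇑(qfMinus m F a b)}
    (hp : psgn (m + 1) g = -1) (hg2 : goHom (qfMinus m F a b) g * goHom (qfMinus m F a b) g = 1)
    (hc : psgn (m + 1) c = 1) (hcomm : Commute (goHom (qfMinus m F a b) g) (goHom (qfMinus m F a b) c)) :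
    sqChar F (mu c) = 1 := by
  classical
  by_contra hcs
  have hns : ¬ IsSquare (mu c : F) := fun h => hcs ((sqChar_eq_one_iff _).2 h)
  have C := ctx_minus hodd hm hab
  set G := ((g : GL ((Fin m ⊕ Fin m) ⊕ Fin 2) F) : Matrix ((Fin m ⊕ Fin m) ⊕ Fin 2) ((Fin m ⊕ Fin m) ⊕ Fin 2) F)
  set K := ((c : GL ((Fin m ⊕ Fin m) ⊕ Fin 2) F) : Matrix ((Fin m ⊕ Fin m) ⊕ Fin 2) ((Fin m ⊕ Fin m) ⊕ Fin 2) F)
  have hμ : (mu g : F) ≠ 0 := (mu g).ne_zero
  have hpn : G.det ≠ (mu g : F) ^ (m + 1) := fun h => by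
    rw [(psgn_eq_one_iff_det C.two g).2 h] at hp; exact absurd hp (by decide)
  obtain ⟨c0, hgg⟩ := goHom_eq_one C.nd C.tri (g := g * g) (by rw [map_mul, hg2])
  have hgg' : G * G = c0 • 1 := hgg
  have hGG : ∀ z, G *ᵥ (G *ᵥ z) = c0 • z := fun z => by
    rw [Matrix.mulVec_mulVec, hgg', Matrix.smul_mulVec, Matrix.one_mulVec]
  obtain ⟨v₀, hv₀⟩ := exists_anisotropic C.nd C.one_le
  have hc0 : c0 = (mu g : F) ∨ c0 = -(mu g : F) := by
    have h1 := mu_spec g (G *ᵥ v₀)
    rw [show ((g : GL ((Fin m ⊕ Fin m) ⊕ Fin 2) F) : Matrix ((Fin m ⊕ Fin m) ⊕ Fin 2) ((Fin m ⊕ Fin m) ⊕ Fin 2) F) *ᵥ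
      (G *ᵥ v₀) = c0 • v₀ from hGG v₀, QuadraticMap.map_smul, mu_spec, smul_eq_mul, ← mul_assoc] at h1
    exact mul_self_eq_mul_self_iff.1 (mul_right_cancel₀ hv₀ h1)
  by_cases hsq : IsSquare c0
  swap
  · refine hpn ((det_of_sq_nonsquare hsq hgg' card_iota).trans ?_)
    rcases hc0 with e | e <;> rw [e]
    · exact he.neg_pow _
    · rw [neg_neg]
  obtain ⟨r, hr⟩ := hsq
  have hc00 : c0 ≠ 0 := by rcases hc0 with e | e <;> simp [e, hμ]
  have hr0 : r ≠ 0 := fun h0 => hc00 (by rw [hr, h0, mul_zero])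
  let W : F → Submodule F ((Fin m ⊕ Fin m) ⊕ Fin 2 → F) := fun s => LinearMap.ker (Matrix.toLin' G - s • LinearMap.id)
  have memW : ∀ s v, v ∈ W s ↔ G *ᵥ v = s • v := fun s v => by simp [W, sub_eq_zero]
  have hdec : ∀ u, ∃ x ∈ W r, ∃ y ∈ W (-r), x + y = u := fun u => by
    refine ⟨(2 * r)⁻¹ • (G *ᵥ u + r • u), (memW _ _).2 ?_, (2 * r)⁻¹ • (r • u - G *ᵥ u), (memW _ _).2 ?_, ?_⟩
    · rw [Matrix.mulVec_smul, Matrix.mulVec_add, Matrix.mulVec_smul, hGG, hr]; module
    · rw [Matrix.mulVec_smul, Matrix.mulVec_sub, Matrix.mulVec_smul, hGG, hr]; module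
    · have := C.two
      match_scalars <;> field_simp <;> ring
  have hcompl : IsCompl (W r) (W (-r)) := by
    refine IsCompl.of_eq (eq_bot_iff.2 fun x hx => ?_) (eq_top_iff.2 fun u _ => Submodule.mem_sup.2 (hdec u))
    have h1 := (memW _ _).1 hx.1
    rw [(memW _ _).1 hx.2] at h1
    have h2 : (2 * r) • x = 0 := by linear_combination (norm := module) -h1
    exact (Submodule.mem_bot F).2 ((smul_eq_zero.1 h2).resolve_left (mul_ne_zero C.two hr0))
  have hsum : finrank F (W r) + finrank F (W (-r)) = 2 * (m + 1) := by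
    rw [Submodule.finrank_add_eq_of_isCompl hcompl, Module.finrank_pi, card_iota]
  have hdet : G.det = r ^ (2 * (m + 1)) * (-1) ^ finrank F (W (-r)) := by
    let e := Submodule.prodEquivOfIsCompl _ _ hcompl
    have h1 : Matrix.toLin' G = (e : _ →ₗ[F] _) ∘ₗ ((r • LinearMap.id (R := F) (M := W r)).prodMap
        ((-r) • LinearMap.id (R := F) (M := W (-r)))) ∘ₗ (e.symm : _ →ₗ[F] _) := by
      refine LinearMap.ext fun u => ?_
      obtain ⟨⟨x, y⟩, rfl⟩ := e.surjective u
      simp [e, Submodule.coe_prodEquivOfIsCompl', Matrix.mulVec_add, (memW _ _).1 x.2, (memW _ _).1 y.2]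
    rw [← LinearMap.det_toLin', h1, LinearMap.det_conj, LinearMap.det_prodMap, LinearMap.det_smul,
      LinearMap.det_smul, LinearMap.det_id, LinearMap.det_id, mul_one, mul_one, ← hsum, neg_pow r, pow_add]
    ring
  have hodd : Odd (finrank F (W (-r))) := by
    rw [← Nat.not_even_iff_odd]
    intro hev
    refine hpn ?_
    rw [hdet, hev.neg_one_pow, mul_one, pow_mul, sq, ← hr]
    rcases hc0 with e | e <;> rw [e]
    rw [he.neg_pow]
  have hadj : c0 = (mu g : F) → ∀ v z, QuadraticMap.polar ⇑(qfMinus m F a b) v (G *ᵥ z) = QuadraticMap.polar ⇑(qfMinus m F a b) (G *ᵥ v) z :=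
    fun e v z => by
      have := Ctx.polar_go g v (G *ᵥ z)
      rw [show ((g : GL ((Fin m ⊕ Fin m) ⊕ Fin 2) F) : Matrix ((Fin m ⊕ Fin m) ⊕ Fin 2) ((Fin m ⊕ Fin m) ⊕ Fin 2) F) *ᵥ
        (G *ᵥ z) = c0 • z from hGG z, QuadraticMap.polar_smul_right, smul_eq_mul, e] at this
      exact (mul_left_cancel₀ hμ this).symm
  rcases hc0 with hc0 | hc0
  swap
  · have hts : ∀ s : F, s * s = c0 → finrank F (W s) ≤ m := fun s hs =>
      singular_finrank_le_minus m hab (W s) fun w hw => by
        have h1 := mu_spec g w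
        rw [show ((g : GL ((Fin m ⊕ Fin m) ⊕ Fin 2) F) : Matrix ((Fin m ⊕ Fin m) ⊕ Fin 2) ((Fin m ⊕ Fin m) ⊕ Fin 2) F) *ᵥ
          w = s • w from (memW _ _).1 hw, QuadraticMap.map_smul, smul_eq_mul, hs, hc0] at h1
        have h2 : (2 * (mu g : F)) * qfMinus m F a b w = 0 := by linear_combination -h1
        exact (mul_eq_zero.1 h2).resolve_left (mul_ne_zero C.two hμ)
    have := hts r hr.symm; have := hts (-r) (by rw [hr]; ring)
    omega
  -- the commutator of the two similitudes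
  obtain ⟨ε, hε⟩ := goHom_eq_one C.nd C.tri (g := g * c * (c * g)⁻¹) (by
    rw [map_mul, map_inv, map_mul, map_mul, hcomm.eq, mul_inv_cancel])
  have hKG : G * K = ε • (K * G) := by
    have h1 : ((g * c * (c * g)⁻¹ * (c * g) : Geo.quadSimilarityGroup (F := F) ⇑(qfMinus m F a b)) :
        GL ((Fin m ⊕ Fin m) ⊕ Fin 2) F) = ((g * c : Geo.quadSimilarityGroup (F := F) ⇑(qfMinus m F a b)) : GL _ F) := by
      rw [inv_mul_cancel_right]
    have h2 := congrArg Units.val h1
    rw [Subgroup.coe_mul, Units.val_mul, hε, Matrix.smul_mul, one_mul] at h2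
    exact h2.symm
  have hεε : ε = 1 ∨ ε = -1 := by
    have h1 : G * (G * K) = (ε * ε) • ((K * G) * G) := by
      rw [hKG, Matrix.mul_smul, ← Matrix.mul_assoc, hKG, Matrix.smul_mul, smul_smul]
    rw [← Matrix.mul_assoc, hgg', Matrix.mul_assoc K, hgg', Matrix.smul_mul, Matrix.one_mul, Matrix.mul_smul,
      Matrix.mul_one, smul_smul] at h1
    have hK : K ≠ 0 := (c : GL ((Fin m ⊕ Fin m) ⊕ Fin 2) F).ne_zero
    have h2 := smul_left_injective F hK h1
    exact mul_self_eq_one_iff.1 (mul_right_cancel₀ hc00 (h2.symm.trans (one_mul _).symm))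
  have hmap : ∀ s v, v ∈ W s → K *ᵥ v ∈ W (ε * s) := fun s v hv => (memW _ _).2 (by
    rw [Matrix.mulVec_mulVec, hKG, Matrix.smul_mulVec, ← Matrix.mulVec_mulVec, (memW _ _).1 hv, Matrix.mulVec_smul,
      smul_smul])
  have hKinj : Function.Injective (K *ᵥ ·) :=
    Matrix.mulVec_injective_iff_isUnit.2 (c : GL ((Fin m ⊕ Fin m) ⊕ Fin 2) F).isUnit
  rcases hεε with rfl | rfl
  swap
  · have hle : ∀ s, finrank F (W s) ≤ finrank F (W (-1 * s)) := fun s => by
      refine LinearMap.finrank_le_finrank_of_injective (f := ((Matrix.toLin' K).restrict (p := W s) (q := W (-1 * s))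
        fun v hv => hmap s v hv)) fun x y h => Subtype.ext (hKinj ?_)
      exact congrArg Subtype.val h
    have h1 := hle r; have h2 := hle (-r)
    rw [neg_one_mul] at h1 h2
    rw [neg_neg] at h2
    obtain ⟨j, hj⟩ := he
    obtain ⟨i, hi⟩ := hodd
    omega
  · set T := (Matrix.toLin' K).restrict (p := W (-r)) (q := W (-r)) fun v hv => by
      have := hmap _ v hv; rwa [one_mul] at this with hT
    set Bw : LinearMap.BilinForm F (W (-r)) := (QuadraticMap.polarBilin (qfMinus m F a b)).compl₁₂ (W (-r)).subtype (W (-r)).subtype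
    have hnd : Bw.Nondegenerate := by
      have hl : Bw.SeparatingLeft := fun x hx => by
        refine Subtype.ext (eq_zero_of_polar C.nd fun z => ?_)
        obtain ⟨y₁, h₁, y₂, h₂, rfl⟩ := hdec z
        have h0 : QuadraticMap.polar ⇑(qfMinus m F a b) x.1 y₁ = 0 := by
          have h1 := hadj hc0 x.1 y₁
          rw [(memW _ _).1 x.2, (memW _ _).1 h₁, QuadraticMap.polar_smul_left, QuadraticMap.polar_smul_right,
            smul_eq_mul, smul_eq_mul] at h1
          have h2 : (2 * r) * QuadraticMap.polar ⇑(qfMinus m F a b) x.1 y₁ = 0 := by linear_combination h1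
          exact (mul_eq_zero.1 h2).resolve_left (mul_ne_zero C.two hr0)
        rw [QuadraticMap.polar_add_right, h0, zero_add]
        exact hx ⟨y₂, h₂⟩
      refine ⟨hl, fun x hx => hl x fun y => ?_⟩
      have := hx y
      simp only [Bw, LinearMap.compl₁₂_apply, Submodule.coe_subtype, QuadraticMap.polarBilin_apply_apply] at this ⊢
      rwa [QuadraticMap.polar_comm]
    let bs := Module.finBasis F (W (-r))
    have hAd : (LinearMap.BilinForm.toMatrix bs Bw).det ≠ 0 :=
      (LinearMap.BilinForm.nondegenerate_iff_det_ne_zero bs).1 hnd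
    have key : (LinearMap.toMatrix bs bs T)ᵀ * LinearMap.BilinForm.toMatrix bs Bw * LinearMap.toMatrix bs bs T =
        (mu c : F) • LinearMap.BilinForm.toMatrix bs Bw := by
      rw [← LinearMap.BilinForm.toMatrix_comp bs bs Bw, ← map_smul]
      congr 1
      refine LinearMap.ext fun x => LinearMap.ext fun y => ?_
      exact Ctx.polar_go c x.1 y.1
    have h2 := congrArg Matrix.det key
    rw [Matrix.det_mul, Matrix.det_mul, Matrix.det_transpose, Matrix.det_smul, Fintype.card_fin] at h2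
    have h3 : (LinearMap.toMatrix bs bs T).det ^ 2 = (mu c : F) ^ finrank F (W (-r)) :=
      mul_right_cancel₀ hAd (by linear_combination h2)
    obtain ⟨i, hi⟩ := hodd
    generalize (LinearMap.toMatrix bs bs T).det = d at h3
    rw [hi, pow_succ (mu c : F), pow_mul] at h3
    refine hns ⟨d / (mu c : F) ^ i, ?_⟩
    have := (mu c).ne_zero
    field_simp
    linear_combination -h3

/-- The split count in that situation. -/
theorem split_graph_minus_even {m : ℕ} {a b : F} (hm : 3 ≤ m) (hab : Aniso F a b) (hodd : Odd (Fintype.card F))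
    (he : Even (m + 1)) {k g : Geo.quadSimilarityGroup (F := F) ⇑(qfMinus m F a b)} (hk : sqChar F (mu k) = -1)
    (hp : psgn (m + 1) g = -1) (hg2 : goHom (qfMinus m F a b) g * goHom (qfMinus m F a b) g = 1)
    (hs : spin (negOne (qfMinus m F a b)) = -1) :
    splitClassCount (ctx_minus hodd hm hab).diag (Inn (POmega F ⇑(qfMinus m F a b))) (goHom (qfMinus m F a b) g)
      = 2 := by
  have C := ctx_minus hodd hm hab
  have e : (ctx_minus hodd hm hab).diag ⊓ Subgroup.centralizer {goHom (qfMinus m F a b) g} ≤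
      Inn (POmega F ⇑(qfMinus m F a b)) := by
    rintro β ⟨hβ, hβc⟩
    obtain ⟨c, hc, rfl⟩ := C.mem_diag.1 hβ
    have h1 := minus_no_commute hm hab hodd he hp hg2 hc (Subgroup.mem_centralizer_singleton_iff.1 hβc).symm
    obtain ⟨h, hd, eh⟩ := C.exists_special (g := c) (by rw [C.psi_apply, hc, h1]; rfl)
    rw [eh, ← C.pso_eq_inn hs]
    exact Ctx.mem_pso.2 ⟨h, hd, rfl⟩
  rw [splitClassCount_eq_relIndex _ _ C.inn_le_diag, sup_eq_left.2 e]
  exact C.relIndex_inn_of_quot (by simp) (C.diag_quot_two hs hk)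

theorem minus_graph {m : ℕ} {a b : F} (hm : 3 ≤ m) (hab : Aniso F a b) (hodd : Odd (Fintype.card F))
    (f : ((Fin m ⊕ Fin m) ⊕ Fin 2 → F) → F) (hf : ⇑(qfMinus m F a b) = f) :
    ∀ D : Subgroup (MulAut (POmega F f)),
      D = autSubgroupOf (fun β : POmega F f ≃* POmega F f => ∃ g : GL ((Fin m ⊕ Fin m) ⊕ Fin 2) F,
        g ∈ Geo.quadSimilarityGroup (F := F) f ∧
        PreservesSingularClassesMinus m a b (g : Matrix ((Fin m ⊕ Fin m) ⊕ Fin 2) ((Fin m ⊕ Fin m) ⊕ Fin 2) F) ∧
        IsInducedBySemilinearPOmega f g (RingEquiv.refl F) β) →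
      ∀ γ : MulAut (POmega F f), orderOf γ = 2 → γ ∉ D →
        (splitClassCount D (Inn (POmega F f)) γ = 1 ∨ splitClassCount D (Inn (POmega F f)) γ = 2) ∧
        (¬ (Even m ∧ Fintype.card F % 4 = 1) → splitClassCount D (Inn (POmega F f)) γ = 2) := by
  subst hf
  rintro D rfl γ hγ hγD
  have C := ctx_minus hodd hm hab
  obtain ⟨k, hk⟩ := exists_nonsquare_sim_minus hodd hm hab
  have hP := preserves_minus_iff hm hab
  obtain ⟨g, hg⟩ := minus_involution hm hab C.two γ (by rw [← sq]; exact orderOf_dvd_iff_pow_eq_one.1 (dvd_of_eq hγ))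
  have hi := (induced_iff (isPair_refl g.2)).2 (show γ = poSemi (isPair_refl g.2) from hg)
  have hgP := fun hp => hγD (Subgroup.subset_closure ⟨(g : GL ((Fin m ⊕ Fin m) ⊕ Fin 2) F), g.2, hp, hi⟩)
  obtain ⟨h1, h2⟩ := C.split_graph' (by omega) hk _ rfl (P := fun g => PreservesSingularClassesMinus m a b
    (g : Matrix ((Fin m ⊕ Fin m) ⊕ Fin 2) ((Fin m ⊕ Fin m) ⊕ Fin 2) F)) hP _ rfl γ hγ ⟨_, g.2, hgP, hi⟩
  refine ⟨h1, fun hne => ?_⟩
  by_cases hsp : Even m ∧ Fintype.card F % 4 = 3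
  · exact h2 ((spin_negOne_minus hodd hm hab).2 hsp)
  have hs : spin (negOne (qfMinus m F a b)) = -1 :=
    (Int.units_eq_one_or _).resolve_left fun h => hsp ((spin_negOne_minus hodd hm hab).1 h)
  have he : Even (m + 1) := by
    rw [Nat.even_add_one]
    intro hev
    have := Nat.odd_iff.1 hodd
    rcases (by omega : Fintype.card F % 4 = 1 ∨ Fintype.card F % 4 = 3) with e | e
    · exact hne ⟨hev, e⟩
    · exact hsp ⟨hev, e⟩
  have e : autSubgroupOf (fun β : POmega F ⇑(qfMinus m F a b) ≃* POmega F ⇑(qfMinus m F a b) =>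
      ∃ g : GL ((Fin m ⊕ Fin m) ⊕ Fin 2) F,
        g ∈ Geo.quadSimilarityGroup (F := F) ⇑(qfMinus m F a b) ∧
        PreservesSingularClassesMinus m a b (g : Matrix ((Fin m ⊕ Fin m) ⊕ Fin 2) ((Fin m ⊕ Fin m) ⊕ Fin 2) F) ∧
        IsInducedBySemilinearPOmega (⇑(qfMinus m F a b)) g (RingEquiv.refl F) β) = C.diag := by
    rw [← C.diag_eq (P := fun g => PreservesSingularClassesMinus m a b
      ((g : GL ((Fin m ⊕ Fin m) ⊕ Fin 2) F) : Matrix ((Fin m ⊕ Fin m) ⊕ Fin 2) ((Fin m ⊕ Fin m) ⊕ Fin 2) F)) hP]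
    congr 1
    funext β
    exact propext ⟨fun ⟨g, hg, h1, h2⟩ => ⟨⟨g, hg⟩, h1, h2⟩, fun ⟨g, h1, h2⟩ => ⟨g, g.2, h1, h2⟩⟩
  rw [e, hg]
  exact split_graph_minus_even hm hab hodd he hk
    ((Int.units_eq_one_or _).resolve_left fun h => hgP ((hP g).2 h)) (by rw [← hg, ← sq]; exact orderOf_dvd_iff_pow_eq_one.1 (dvd_of_eq hγ)) hs

end Cfsg.Agent.Classical.GOQuot
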