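import Cfsg.Agent.Lib.Classical.OrthGOQuot
import Cfsg.Agent.S0790
import Cfsg.Agent.S0791

/-!
Outer similitude quotients for the split and elliptic model forms in odd characteristic.
-/

set_option autoImplicit false
set_option linter.unusedSectionVars false
set_option maxHeartbeats 1000000

universe u

namespace Cfsg.Agent.Classical.GOQuot

open Matrix Module Cfsg.Agent.Classical.OrthAut

variable {F : Type u} [Field F] [Fintype F]

theorem two_of_odd (hodd : Odd (Fintype.card F)) : (2 : F) ≠ 0 := two_ne_zero_of_odd rfl hodd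

theorem ctx_plus (hodd : Odd (Fintype.card F)) {m : ℕ} (hm : 3 ≤ m) : Ctx (qfPlus m F) m :=
  ⟨nondegenerate_qfPlus m, tri_qfPlus hm, by simp; omega, two_of_odd hodd⟩

theorem ctx_minus (hodd : Odd (Fintype.card F)) {m : ℕ} (hm : 3 ≤ m) {a b : F} (hab : Aniso F a b) :
    Ctx (qfMinus m F a b) (m + 1) :=
  ⟨nondegenerate_qfMinus m hab, tri_qfMinus hm a b, card_iota, two_of_odd hodd⟩

theorem spin_eq_one_iff {ι : Type} [Fintype ι] [DecidableEq ι] {Q : QuadraticForm F (ι → F)} {n : ℕ}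
    (C : Ctx Q n) (f : (ι → F) → F) (hf : ⇑Q = f) :
    spin (negOne Q) = 1 ↔
      ∃ g : isometryGroup F f, g ∈ Omega F f ∧ ((g : GL ι F) : Matrix ι ι F) = -1 := by
  subst hf
  constructor
  · intro h
    exact ⟨negOne Q, C.mem_omega.2 ⟨C.det_negOne, h⟩, ogVal_negOne⟩
  · rintro ⟨g, hg, he⟩
    obtain rfl : g = negOne Q := ogVal_ext (he.trans ogVal_negOne.symm)
    exact (C.mem_omega.1 hg).2

theorem mod_four_cases (hodd : Odd (Fintype.card F)) (m : ℕ) :
    Fintype.card F ^ m % 4 = if Fintype.card F % 4 = 3 ∧ Odd m then 3 else 1 := by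
  have h := Nat.odd_iff.1 hodd
  rw [Nat.pow_mod]
  rcases (by omega : Fintype.card F % 4 = 1 ∨ Fintype.card F % 4 = 3) with e | e <;> rw [e]
  · simp
  · rcases Nat.even_or_odd m with ⟨j, rfl⟩ | ⟨j, rfl⟩
    · rw [if_neg (fun h => Nat.not_odd_iff_even.2 ⟨j, rfl⟩ h.2), ← two_mul, pow_mul, Nat.pow_mod]; simp
    · rw [if_pos ⟨rfl, ⟨j, rfl⟩⟩, pow_succ, pow_mul, Nat.mul_mod, Nat.pow_mod]; simp

theorem spin_negOne_plus (hodd : Odd (Fintype.card F)) {m : ℕ} (hm : 3 ≤ m) :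
    spin (negOne (qfPlus m F)) = 1 ↔ ¬ (Odd m ∧ Fintype.card F % 4 = 3) := by
  rw [spin_eq_one_iff (ctx_plus hodd hm) _ (coe_qfPlus m), S0790.result rfl hodd m (by omega),
    mod_four_cases hodd]
  split_ifs with h
  · exact iff_of_false (by decide) fun hn => hn ⟨h.2, h.1⟩
  · exact iff_of_true rfl fun hn => h ⟨hn.2, hn.1⟩

theorem spin_negOne_minus (hodd : Odd (Fintype.card F)) {m : ℕ} (hm : 3 ≤ m) {a b : F} (hab : Aniso F a b) :
    spin (negOne (qfMinus m F a b)) = 1 ↔ (Even m ∧ Fintype.card F % 4 = 3) := by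
  rw [spin_eq_one_iff (ctx_minus hodd hm hab) _ (coe_qfMinus m a b)]
  refine Iff.trans (S0791.result rfl hodd (m + 1) (by omega) a b hab) ?_
  rw [mod_four_cases hodd]
  split_ifs with h
  · exact iff_of_true rfl ⟨Nat.not_odd_iff_even.1 (Nat.odd_add_one.1 h.2), h.1⟩
  · exact iff_of_false (by decide) fun hn => h ⟨hn.2, hn.1.add_one⟩

/-! ### Split forms -/

/-- A similitude of the split form with prescribed multiplier and trivial sign. -/
theorem exists_sim_plus (hodd : Odd (Fintype.card F)) {m : ℕ} (hm : 3 ≤ m) (c : Fˣ) :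
    ∃ g : Geo.quadSimilarityGroup (F := F) ⇑(qfPlus m F), mu g = c ∧ psgn m g = 1 ∧
      ((g : GL (Fin m ⊕ Fin m) F) : Matrix (Fin m ⊕ Fin m) (Fin m ⊕ Fin m) F) =
        Matrix.diagonal (Sum.elim (fun _ => (1 : F)) fun _ => (c : F)) := by
  have hd : (Matrix.diagonal (Sum.elim (fun _ : Fin m => (1 : F)) fun _ : Fin m => (c : F))).det = (c : F) ^ m := by
    rw [Matrix.det_diagonal, Fintype.prod_sum_type]; simp
  have hq : ∀ v, qfPlus m F (Matrix.diagonal (Sum.elim (fun _ => (1 : F)) fun _ => (c : F)) *ᵥ v) =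
      (c : F) * qfPlus m F v := fun v => by
    simp only [qfPlus_apply, quadFormPlus, Matrix.mulVec_diagonal, Sum.elim_inl, Sum.elim_inr, one_mul,
      Finset.mul_sum]
    exact Finset.sum_congr rfl fun i _ => by ring
  let g : Geo.quadSimilarityGroup (F := F) ⇑(qfPlus m F) :=
    ⟨Matrix.GeneralLinearGroup.mkOfDetNeZero _ (hd ▸ pow_ne_zero _ c.ne_zero), c, hq⟩
  have hmu : mu g = c := (ctx_plus hodd hm).mu_eq hq
  refine ⟨g, hmu, (psgn_eq_one_iff_det (two_of_odd hodd) g).2 ?_, rfl⟩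
  rw [hmu]; exact hd

theorem exists_nonsquare_sim_plus (hodd : Odd (Fintype.card F)) {m : ℕ} (hm : 3 ≤ m) :
    ∃ g : Geo.quadSimilarityGroup (F := F) ⇑(qfPlus m F), sqChar F (mu g) = -1 := by
  obtain ⟨ε, hε0, hε⟩ := (ctx_plus hodd hm).exists_ε
  obtain ⟨g, hg, -, -⟩ := exists_sim_plus hodd hm (Units.mk0 ε hε0)
  exact ⟨g, by rw [hg]; exact (sqChar_eq_neg_one_iff _).2 hε⟩

theorem preserves_plus {m : ℕ} (hodd : Odd (Fintype.card F)) (hm : 3 ≤ m)
    (g : Geo.quadSimilarityGroup (F := F) ⇑(qfPlus m F)) :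
    PreservesSingularClasses (⇑(qfPlus m F)) ((g : GL (Fin m ⊕ Fin m) F) : Matrix _ _ F) ↔ psgn m g = 1 := by
  classical
  have C := ctx_plus hodd hm
  have hU := half_plusHalf (F := F) m
  rw [preserves_iff C.nd C.tri hU (mu g).ne_zero (fun v => mu_spec g v)]
  obtain ⟨d, hmd, hsd, hdv⟩ := exists_sim_plus hodd hm (mu g)
  obtain ⟨h, hh⟩ : ∃ h : isometryGroup F ⇑(qfPlus m F), ogToGO _ h = g * d⁻¹ := by
    refine ⟨⟨((g * d⁻¹ : Geo.quadSimilarityGroup (F := F) ⇑(qfPlus m F)) : GL _ F),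
      mem_isometryGroup.2 fun v => ?_⟩, rfl⟩
    have hm1 : mu (g * d⁻¹) = 1 := by
      have := C.mu_mul (g * d⁻¹) d
      rw [inv_mul_cancel_right, hmd] at this
      exact mul_eq_right.1 this.symm
    rw [mu_spec, hm1, Units.val_one, one_mul]
  have hg : g = ogToGO _ h * d := by rw [hh, inv_mul_cancel_right]
  have himg : imageSubmodule ((d : GL (Fin m ⊕ Fin m) F) : Matrix (Fin m ⊕ Fin m) (Fin m ⊕ Fin m) F) (plusHalf m F) = plusHalf m F := by
    refine Submodule.eq_of_le_of_finrank_le (fun x hx => ?_) ?_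
    · obtain ⟨u, hu, rfl⟩ := mem_imageSubmodule.1 hx
      refine LinearMap.mem_ker.2 (funext fun i => ?_)
      show (((d : GL (Fin m ⊕ Fin m) F) : Matrix (Fin m ⊕ Fin m) (Fin m ⊕ Fin m) F) *ᵥ u) (Sum.inr i) = 0
      rw [hdv, Matrix.mulVec_diagonal, show u (Sum.inr i) = 0 from congrFun (LinearMap.mem_ker.1 hu) i, mul_zero]
    · exact ((finrank_imageSubmodule (d : GL (Fin m ⊕ Fin m) F) (plusHalf m F)).ge)
  rw [show ((g : GL (Fin m ⊕ Fin m) F) : Matrix _ _ F) = ogVal h * ((d : GL (Fin m ⊕ Fin m) F) : Matrix _ _ F) by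
      rw [hg]; rfl,
    imageSubmodule_mul, himg, pSign_image C.nd C.tri hU hU, pSign_self, mul_one,
    show psgn m g = psgn m (ogToGO _ h) by rw [hg, C.psgn_mul, hsd, mul_one],
    C.psgn_og, det_eq_dick C.nd C.tri]
  rcases Int.units_eq_one_or (dick h) with e | e <;> rw [e]
  · simp
  · refine iff_of_false (by decide) fun h1 => C.two ?_
    simp at h1
    linear_combination -h1

namespace Ctx

variable {ι : Type} [Fintype ι] [DecidableEq ι] {Q : QuadraticForm F (ι → F)} {n : ℕ} (C : Ctx Q n)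
include C

theorem diag_eq' (f : (ι → F) → F) (hf : ⇑Q = f) {P : GL ι F → Prop}
    (hP : ∀ g : Geo.quadSimilarityGroup (F := F) ⇑Q, P g ↔ psgn n g = 1) :
    ∀ D : Subgroup (MulAut (POmega F f)),
      D = autSubgroupOf (fun β : POmega F f ≃* POmega F f => ∃ g : GL ι F,
        g ∈ Geo.quadSimilarityGroup (F := F) f ∧ P g ∧ IsInducedBySemilinearPOmega f g (RingEquiv.refl F) β) →
      ∀ (B : Type) [Group B], (∃ φ : C.diag →* B, Function.Surjective φ ∧ φ.ker = (Inn (POmega F ⇑Q)).subgroupOf C.diag) →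
        ∃ φ : D →* B, Function.Surjective φ ∧ φ.ker = (Inn (POmega F f)).subgroupOf D := by
  subst hf
  rintro D rfl B _ h
  have e : autSubgroupOf (fun β : POmega F ⇑Q ≃* POmega F ⇑Q => ∃ g : GL ι F,
        g ∈ Geo.quadSimilarityGroup (F := F) ⇑Q ∧ P g ∧ IsInducedBySemilinearPOmega (⇑Q) g (RingEquiv.refl F) β) =
      C.diag := by
    rw [← C.diag_eq (P := fun g => P g) hP]
    congr 1
    funext β
    exact propext ⟨fun ⟨g, hg, h1, h2⟩ => ⟨⟨g, hg⟩, h1, h2⟩, fun ⟨g, h1, h2⟩ => ⟨g, g.2, h1, h2⟩⟩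
  rw [e]
  exact h

end Ctx

/-! ### Elliptic forms -/

theorem exists_nonsquare_sim_minus (hodd : Odd (Fintype.card F)) {m : ℕ} (hm : 3 ≤ m) {a b : F} (hab : Aniso F a b) :
    ∃ g : Geo.quadSimilarityGroup (F := F) ⇑(qfMinus m F a b), sqChar F (mu g) = -1 := by
  have C := ctx_minus hodd hm hab
  obtain ⟨ε, hε0, hε⟩ := C.exists_ε
  obtain ⟨g, hg⟩ := exists_similitude_minus hab hε0
  refine ⟨⟨g, Units.mk0 ε hε0, hg⟩, ?_⟩
  rw [C.mu_eq (g := ⟨g, Units.mk0 ε hε0, hg⟩) (d := Units.mk0 ε hε0) hg]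
  exact (sqChar_eq_neg_one_iff _).2 hε

theorem exists_binary_value (hodd : Odd (Fintype.card F)) {a b : F} (hab : Aniso F a b) (c : F) :
    ∃ x y : F, x ^ 2 + a * x * y + b * y ^ 2 = c := by
  have h2 := two_of_odd hodd
  have hk : a ^ 2 / 4 - b ≠ 0 := fun h0 => h2 (hab (-a) 2 (by
    have h4 : (4 : F) ≠ 0 := by rw [show (4 : F) = 2 * 2 by norm_num]; exact mul_ne_zero h2 h2
    field_simp at h0
    linear_combination -h0)).2
  obtain ⟨u, y, h⟩ := FiniteField.exists_root_sum_quadratic (R := F)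
    (f := Polynomial.X ^ 2 - Polynomial.C c) (g := Polynomial.C (-(a ^ 2 / 4 - b)) * Polynomial.X ^ 2)
    (Polynomial.degree_X_pow_sub_C (by norm_num) _) (Polynomial.degree_C_mul_X_pow 2 (neg_ne_zero.2 hk))
    (Nat.odd_iff.1 hodd)
  refine ⟨u - a / 2 * y, y, ?_⟩
  simp at h
  have h4 : (4 : F) ≠ 0 := by rw [show (4 : F) = 2 * 2 by norm_num]; exact mul_ne_zero h2 h2
  field_simp at h ⊢
  linear_combination h

/-- For `m` even there is a similitude of multiplier `-1`, sign `-1`, and square `-1`. -/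
theorem exists_sq_negOne (hodd : Odd (Fintype.card F)) {m : ℕ} (hm : 3 ≤ m) {a b : F} (hab : Aniso F a b)
    (he : Even m) : ∃ g : Geo.quadSimilarityGroup (F := F) ⇑(qfMinus m F a b),
      mu g = -1 ∧ psgn (m + 1) g = -1 ∧ goHom (qfMinus m F a b) (g * g) = 1 := by
  classical
  have C := ctx_minus hodd hm hab
  obtain ⟨t, s, hts⟩ := exists_binary_value hodd hab (-1)
  let M2 : Matrix (Fin 2) (Fin 2) F := !![t, a * t + b * s; s, -t]
  let A : Matrix (Fin m ⊕ Fin m) (Fin m ⊕ Fin m) F := Matrix.fromBlocks 0 1 (-1) 0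
  let M : Matrix ((Fin m ⊕ Fin m) ⊕ Fin 2) ((Fin m ⊕ Fin m) ⊕ Fin 2) F := Matrix.fromBlocks A 0 0 M2
  have hM2 : M2 * M2 = -1 := by
    ext i j; fin_cases i <;> fin_cases j <;> simp [M2, Matrix.mul_apply, Fin.sum_univ_two] <;>
      first | ring1 | linear_combination hts
  have hMM : M * M = (-1 : F) • 1 := by
    rw [Matrix.fromBlocks_multiply, neg_one_smul, hM2, Matrix.fromBlocks_multiply]
    simp only [Matrix.mul_zero, Matrix.zero_mul, Matrix.one_mul, Matrix.mul_one, add_zero, zero_add,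
      Matrix.neg_mul, Matrix.mul_neg]
    rw [← Matrix.fromBlocks_one (l := Fin m ⊕ Fin m) (m := Fin 2), ← Matrix.fromBlocks_one (l := Fin m) (m := Fin m),
      Matrix.fromBlocks_neg, Matrix.fromBlocks_neg]
    simp
  have hAd : A.det = 1 := by
    have hA : A = (Matrix.J (Fin m) F)ᵀ := by
      ext (i | i) (j | j) <;> simp [A, Matrix.J, Matrix.transpose_apply, Matrix.one_apply, eq_comm]
    have hJ : (Matrix.J (Fin m) F).det = 1 := by
      have : Matrix.J (Fin m) F = Matrix.fromBlocks 1 (-1) 0 1 * Matrix.fromBlocks 1 0 1 1 *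
          Matrix.fromBlocks 1 (-1) 0 1 := by
        simp [Matrix.J, Matrix.fromBlocks_multiply]
      rw [this, Matrix.det_mul, Matrix.det_mul, Matrix.det_fromBlocks_zero₂₁, Matrix.det_fromBlocks_zero₁₂]
      simp
    rw [hA, Matrix.det_transpose, hJ]
  have hd : M.det = 1 := by
    rw [Matrix.det_fromBlocks_zero₂₁, hAd, one_mul, Matrix.det_fin_two]
    simp [M2]; linear_combination -hts
  have hq : ∀ v, qfMinus m F a b (M *ᵥ v) = ((-1 : Fˣ) : F) * qfMinus m F a b v := by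
    intro v
    rw [show M *ᵥ v = Sum.elim (A *ᵥ (v ∘ Sum.inl)) (M2 *ᵥ (v ∘ Sum.inr)) from Matrix.fromBlocks_mulVec A 0 0 M2 v
      |>.trans (by simp)]
    simp only [qfMinus_apply, quadFormMinus, Units.val_neg, Units.val_one]
    simp [A, M2, Matrix.fromBlocks_mulVec, Matrix.mulVec, dotProduct, Fin.sum_univ_two, Matrix.one_apply,
      Finset.sum_neg_distrib]
    simp only [mul_comm (v (Sum.inl (Sum.inr _)))]
    linear_combination (v (Sum.inr 0) ^ 2 + a * v (Sum.inr 0) * v (Sum.inr 1) + b * v (Sum.inr 1) ^ 2) * hts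
  let g : Geo.quadSimilarityGroup (F := F) ⇑(qfMinus m F a b) :=
    ⟨Matrix.GeneralLinearGroup.mkOfDetNeZero M (hd ▸ one_ne_zero), -1, hq⟩
  have hmu : mu g = -1 := C.mu_eq hq
  refine ⟨g, hmu, (Int.units_eq_one_or _).resolve_left fun h => ?_, ?_⟩
  · have h' := (psgn_eq_one_iff_det C.two g).1 h
    have hd' : ((g : GL ((Fin m ⊕ Fin m) ⊕ Fin 2) F) : Matrix ((Fin m ⊕ Fin m) ⊕ Fin 2) ((Fin m ⊕ Fin m) ⊕ Fin 2) F).det = 1 := hd
    rw [hmu, hd', Units.val_neg, Units.val_one, (he.add_one).neg_one_pow] at h'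
    exact C.two (by linear_combination h')
  · rw [goHom_apply]
    exact poSemi_scalar _ (c := -1) hMM

/-! ### The square class of the diagonal similitude -/

theorem kap_sq_plus (hodd : Odd (Fintype.card F)) {m : ℕ} (hm : 3 ≤ m)
    (hsp : spin (negOne (qfPlus m F)) = 1) :
    ∃ s : Geo.quadSimilarityGroup (F := F) ⇑(qfPlus m F), (ctx_plus hodd hm).psi s = (1, -1) ∧
      (Ctx.kap (qfPlus m F) (s * s) = 1 ↔ Even m) := by
  have C := ctx_plus hodd hm
  obtain ⟨c, hc0, hc⟩ := C.exists_ε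
  obtain ⟨g, hmu, hsg, hgv⟩ := exists_sim_plus hodd hm (Units.mk0 c hc0)
  refine ⟨g, by rw [C.psi_apply, hsg, hmu, (sqChar_eq_neg_one_iff _).2 hc], ?_⟩
  let A : GL (Fin m) F := Matrix.GeneralLinearGroup.mkOfDetNeZero ((c⁻¹) • (1 : Matrix (Fin m) (Fin m) F))
    (by rw [Matrix.det_smul, Matrix.det_one, mul_one]; exact pow_ne_zero _ (inv_ne_zero hc0))
  have hA : ((A : Matrix (Fin m) (Fin m) F)) = c⁻¹ • 1 := rfl
  have he : goHom (qfPlus m F) (g * g) = ogHom (qfPlus m F) (leviPlus m A) := by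
    refine goHom_eq_ogHom (s := c) ?_
    rw [Subgroup.coe_mul, Units.val_mul, hgv, leviPlus_val, hA, Matrix.diagonal_mul_diagonal]
    have hinv : ((c⁻¹ : F) • (1 : Matrix (Fin m) (Fin m) F))⁻¹ = c • 1 :=
      Matrix.inv_eq_right_inv (by rw [Matrix.smul_mul, Matrix.one_mul, smul_smul, inv_mul_cancel₀ hc0, one_smul])
    rw [hinv, Matrix.transpose_smul, Matrix.transpose_one]
    ext (i | i) (j | j) <;> simp [Matrix.diagonal_apply, Matrix.one_apply, hc0]
    all_goals (by_cases hij : i = j <;> simp [hij, hc0])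
  have hG := genQ_odd C.nd C.two
  have hd : (ogVal (leviPlus m A)).det = 1 := by
    rw [leviPlus_val, Matrix.det_fromBlocks_zero₂₁, Matrix.det_transpose, Matrix.det_nonsing_inv,
      Ring.mul_inverse_cancel]
    exact isUnit_iff_ne_zero.2 (Matrix.GeneralLinearGroup.det_ne_zero A)
  rw [Ctx.kap_congr (k := ogToGO _ (leviPlus m A)) he, C.kap_og hd hsp, spin_leviPlus hG, hA, Matrix.det_smul,
    Matrix.det_one, mul_one, Fintype.card_fin]
  rcases Nat.even_or_odd m with ⟨j, rfl⟩ | ho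
  · refine iff_of_true (sqSign_of_isSquare ⟨c⁻¹ ^ j, by rw [← pow_add]⟩) ⟨j, rfl⟩
  · refine iff_of_false ?_ (Nat.not_even_iff_odd.2 ho)
    obtain ⟨j, rfl⟩ := ho
    rw [sqSign_of_not]
    · decide
    · rintro ⟨r, hr⟩
      have hp : (c⁻¹ : F) ^ j ≠ 0 := pow_ne_zero _ (inv_ne_zero hc0)
      have h : IsSquare (c⁻¹ : F) := ⟨r / c⁻¹ ^ j, by
        rw [div_mul_div_comm, ← hr, eq_div_iff (mul_ne_zero hp hp)]; ring⟩
      exact hc (by simpa using h.inv)

end Cfsg.Agent.Classical.GOQuot
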