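import Cfsg.Agent.Lib.Classical.OrthEvenAut
import Cfsg.Agent.Lib.Classical.OrthMinus
import Mathlib.GroupTheory.SpecificGroups.Dihedral
import Mathlib.GroupTheory.NoncommCoprod

/-!
Orders and structure of `Aut` and `Out` of the elliptic `PΩ`.
-/

set_option autoImplicit false
set_option linter.unusedSectionVars false
set_option quotPrecheck false

namespace Cfsg.Agent.Classical.OrthAut

open Matrix Module Cfsg.Agent.Classical.Descent

/-! ### Group theory -/

section Group

variable {O : Type*} [Group O]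

/-- An element of odd order moving `w` only by a fixed involution commutes with it. -/
theorem commute_of_conj {φ w z : O} {f : ℕ} (hf : Odd f) (hφ : φ ^ f = 1)
    (hw : φ * w * φ⁻¹ = w ∨ φ * w * φ⁻¹ = w * z) (hz : φ * z * φ⁻¹ = z) (hzz : z * z = 1) :
    Commute φ w := by
  have h2 : Commute (φ ^ 2) w := by
    refine mul_inv_eq_iff_eq_mul.1 (?_ : φ ^ 2 * w * (φ ^ 2)⁻¹ = w)
    rcases hw with h | h
    · calc _ = φ * (φ * w * φ⁻¹) * φ⁻¹ := by rw [sq, _root_.mul_inv_rev]; simp only [mul_assoc]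
        _ = _ := by rw [h, h]
    · calc _ = φ * (φ * w * φ⁻¹) * φ⁻¹ := by rw [sq, _root_.mul_inv_rev]; simp only [mul_assoc]
        _ = (φ * w * φ⁻¹) * (φ * z * φ⁻¹) := by
          conv_lhs => rw [h]
          simp only [mul_assoc, inv_mul_cancel_left]
        _ = _ := by rw [h, hz, mul_assoc, hzz, mul_one]
  obtain ⟨k, hk⟩ := hf
  have h3 := h2.pow_left (k + 1)
  rwa [← pow_mul, show 2 * (k + 1) = f + 1 by omega, pow_succ, hφ, one_mul] at h3

variable (x y : O)

/-- The map of the dihedral group of order eight given by two elements. -/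
def d4Fun : DihedralGroup 4 → O
  | .r i => x ^ i.val
  | .sr i => y * x ^ i.val

theorem d4Fun_mul (h4 : x ^ 4 = 1) (hy : y * y = 1) (hyx : y * x * y = x⁻¹) (a b : DihedralGroup 4) :
    d4Fun x y (a * b) = d4Fun x y a * d4Fun x y b := by
  have hadd : ∀ i j : ZMod 4, x ^ (i + j).val = x ^ i.val * x ^ j.val := fun i j => by
    rw [← pow_add, ZMod.val_add, ← pow_mod_orderOf x (i.val + j.val), ← pow_mod_orderOf x ((i.val + j.val) % 4),
      Nat.mod_mod_of_dvd _ (orderOf_dvd_of_pow_eq_one h4)]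
  have hsub : ∀ i j : ZMod 4, x ^ (j - i).val = (x ^ i.val)⁻¹ * x ^ j.val := fun i j => by
    rw [eq_inv_mul_iff_mul_eq, ← hadd, add_sub_cancel]
  have hyinv : y⁻¹ = y := inv_eq_of_mul_eq_one_right hy
  have hswap : ∀ i : ZMod 4, x ^ i.val * y = y * (x ^ i.val)⁻¹ := fun i => by
    have h1 : y * x⁻¹ = x * y := by
      have := congrArg (fun t => y * t * y) hyx
      simp only [← mul_assoc, hy, one_mul] at this
      rw [mul_assoc x, hy, mul_one] at this
      calc y * x⁻¹ = y * x⁻¹ * (y * y) := by rw [hy, mul_one]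
        _ = (y * x⁻¹ * y) * y := by group
        _ = x * y := by rw [← this]
    have h2 : SemiconjBy y x⁻¹ x := h1
    have h3 := h2.pow_right i.val
    rw [inv_pow] at h3
    exact h3.eq.symm
  rcases a with i | i <;> rcases b with j | j <;>
    simp only [DihedralGroup.r_mul_r, DihedralGroup.r_mul_sr, DihedralGroup.sr_mul_r, DihedralGroup.sr_mul_sr,
      d4Fun]
  · exact hadd i j
  · rw [hsub, ← mul_assoc (x ^ i.val), hswap, mul_assoc]
  · rw [hadd, mul_assoc]
  · rw [hsub, mul_assoc y, ← mul_assoc (x ^ i.val), hswap, ← mul_assoc, ← mul_assoc, hy, one_mul]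

/-- `D₈ × C_f` recognised inside a group of order `8f`. -/
theorem d4_prod_iso [Finite O] {f : ℕ} (hcard : Nat.card O = 8 * f) (h4 : x ^ 4 = 1) (hy : y * y = 1)
    (hyx : y * x * y = x⁻¹) {φ : O} (hφ : orderOf φ = f) (hcx : Commute φ x) (hcy : Commute φ y)
    (hx2 : x * x ≠ 1) (hyn : ∀ i : ℕ, y * x ^ i ≠ 1)
    {R : Type*} [Group R] (ρ : O →* R) (hρx : ρ x = 1) (hρy : ρ y = 1) (hρ : orderOf (ρ φ) = f) :
    Nonempty (O ≃* DihedralGroup 4 × Multiplicative (ZMod f)) := by
  let Φ : DihedralGroup 4 →* O := MonoidHom.mk' (d4Fun x y) (d4Fun_mul x y h4 hy hyx)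
  have hcomm : ∀ (d : DihedralGroup 4) (c : Subgroup.zpowers φ), Commute (Φ d) ((Subgroup.zpowers φ).subtype c) := by
    rintro (i | i) ⟨c, k, rfl⟩
    · exact ((hcx.symm.pow_left _).zpow_right _)
    · exact ((hcy.symm.mul_left (hcx.symm.pow_left _)).zpow_right _)
  let Ψ : DihedralGroup 4 × Subgroup.zpowers φ →* O := Φ.noncommCoprod (Subgroup.zpowers φ).subtype hcomm
  have hinj : Function.Injective Ψ := by
    refine (injective_iff_map_eq_one _).2 ?_
    rintro ⟨d, c, hc⟩ he
    obtain ⟨k, rfl⟩ := Subgroup.mem_zpowers_iff.1 hc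
    have he' : Φ d * φ ^ k = 1 := he
    have hd : ρ (Φ d) = 1 := by
      rcases d with i | i <;> simp [Φ, d4Fun, hρx, hρy]
    have h1 := congrArg ρ he'
    rw [map_mul, hd, one_mul, map_zpow, map_one, ← orderOf_dvd_iff_zpow_eq_one, hρ, ← hφ,
      orderOf_dvd_iff_zpow_eq_one] at h1
    rw [h1, mul_one] at he'
    refine Prod.ext ?_ (Subtype.ext h1)
    rcases d with i | i
    · have hi : x ^ i.val = 1 := he'
      have hx1 : x ≠ 1 := fun h => hx2 (by rw [h, one_mul])
      have hlt : i.val < 4 := ZMod.val_lt i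
      suffices i.val = 0 by rw [(ZMod.val_eq_zero i).1 this]; rfl
      by_contra h0
      rcases (by omega : i.val = 1 ∨ i.val = 2 ∨ i.val = 3) with e | e | e <;> rw [e] at hi
      · exact hx1 (by simpa using hi)
      · exact hx2 (by rwa [sq] at hi)
      · exact hx1 (by rwa [pow_succ, hi, one_mul] at h4)
    · exact absurd he' (hyn i.val)
  have hb : Function.Bijective Ψ := (Nat.bijective_iff_injective_and_card Ψ).2 ⟨hinj, by
    rw [Nat.card_prod, DihedralGroup.nat_card, Nat.card_zpowers, hφ, hcard]⟩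
  let e : Multiplicative (ZMod f) ≃* Subgroup.zpowers φ :=
    (MulEquiv.cast (M := fun n => Multiplicative (ZMod n)) (by rw [Nat.card_zpowers, hφ])).trans
      (zmodCyclicMulEquiv (G := Subgroup.zpowers φ) inferInstance)
  exact ⟨(MulEquiv.ofBijective Ψ hb).symm.trans (MulEquiv.prodCongr (MulEquiv.refl _) e.symm)⟩

end Group

/-! ### The invariants on `Out` -/

section Out

variable {F : Type*} [Field F] [Fintype F] {ι : Type} [Fintype ι] [DecidableEq ι]
  {Q : QuadraticForm F (ι → F)} {n : ℕ}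

local notation "PQ" => POmega F ⇑Q

theorem card_out_mul : Nat.card (Out PQ) * Nat.card (Inn PQ) = Nat.card (MulAut PQ) :=
  (Subgroup.card_eq_card_quotient_mul_card_subgroup _).symm

theorem card_sq_one :
    ((2 : F) = 0 → Nat.card {x : Fˣ // x ^ 2 = 1} = 1) ∧
      ((2 : F) ≠ 0 → Nat.card {x : Fˣ // x ^ 2 = 1} = 2) := by
  have key : ∀ x : Fˣ, x ^ 2 = 1 → x = 1 ∨ x = -1 := fun x hx => by
    have h : (x : F) * x = 1 := by rw [← sq]; exact congrArg Units.val hx
    rcases mul_self_eq_one_iff.1 h with h | h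
    · exact Or.inl (Units.ext h)
    · exact Or.inr (Units.ext (by simpa using h))
  refine ⟨fun h2 => ?_, fun h2 => ?_⟩
  · refine Nat.card_eq_one_iff_exists.2 ⟨⟨1, one_pow 2⟩, fun x => Subtype.ext ?_⟩
    rcases key x.1 x.2 with h | h
    · exact h
    · rw [h]; exact Units.ext (by show (-1 : F) = 1; linear_combination -h2)
  · rw [Nat.card_eq_two_iff]
    refine ⟨⟨1, one_pow 2⟩, ⟨-1, neg_one_sq⟩, fun h => h2 ?_, Set.eq_univ_iff_forall.2 fun x => ?_⟩
    · have := congrArg (fun z : {x : Fˣ // x ^ 2 = 1} => ((z.1 : Fˣ) : F)) h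
      simp at this
      linear_combination this
    · rcases key x.1 x.2 with h | h
      · exact Or.inl (Subtype.ext h)
      · exact Or.inr (Subtype.ext h)

theorem card_sqChar_range : ((2 : F) = 0 → Nat.card (sqChar F).range = 1) ∧
    ((2 : F) ≠ 0 → Nat.card (sqChar F).range = 2) := by
  refine ⟨fun h2 => ?_, fun h2 => ?_⟩
  · haveI : CharP F 2 := CharTwo.of_one_ne_zero_of_two_eq_zero one_ne_zero h2
    rw [Subgroup.card_eq_one, MonoidHom.range_eq_bot_iff]
    ext c
    exact congrArg Units.val ((sqChar_eq_one_iff c).2 (FiniteField.isSquare_of_char_two (ringChar.eq F 2) _))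
  · obtain ⟨ε, hε⟩ := FiniteField.exists_nonsquare (F := F) fun hc => h2 (by
      haveI := ringChar.of_eq hc; exact CharTwo.two_eq_zero)
    have hε0 : ε ≠ 0 := fun h0 => hε (h0 ▸ IsSquare.zero)
    have hε1 : sqChar F (Units.mk0 ε hε0) = -1 := (sqChar_eq_neg_one_iff _).2 hε
    rw [MonoidHom.range_eq_top.2 fun u => ?_, Subgroup.card_top]
    · rw [Nat.card_eq_fintype_card]; rfl
    · rcases Int.units_eq_one_or u with rfl | rfl
      · exact ⟨1, map_one _⟩
      · exact ⟨_, hε1⟩

namespace EvenSpace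

variable (H : EvenSpace Q n)
include H

/-- The invariants on `Out`. -/
noncomputable def outInv : Out PQ →* Tw F × ℤˣ :=
  QuotientGroup.lift (Inn PQ) H.invHom H.inn_le_ker

theorem outInv_mk (β : MulAut PQ) : H.outInv (QuotientGroup.mk' (Inn PQ) β) = H.invHom β := rfl

theorem card_mulAut_omega_ne (h2 : (2 : F) ≠ 0) (hD : ¬ IsSquare (H.gramD : F)) :
    H.invHom.ker = Inn PQ ∧ Nat.card (MulAut PQ) = 4 * Nat.card (RingAut F) * Nat.card PQ := by
  have hk := H.ker_eq_inn (fun g => mem_omega_iff h2 H.nd H.tri g)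
    (by rw [theta_negOne h2 H, (sqChar_eq_neg_one_iff _).2 hD])
  refine ⟨hk, ?_⟩
  rw [H.card_mulAut_eq, hk, natCard_Inn H.nd H.tri H.good, H.card_detGroup, card_sq_one.2 h2,
    card_sqChar_range.2 h2]
  ring

theorem exists_det_theta (h2 : (2 : F) ≠ 0) :
    ∃ u : isometryGroup F ⇑Q, (ogVal u).det = 1 ∧ theta Q u = -1 := by
  obtain ⟨ε, v, w, hv, hw, -, -, -, hvw⟩ := exists_two_refl h2 H.nd H.tri
  exact ⟨refl hv * refl hw, by rw [ogVal_mul, Matrix.det_mul, refl_det, refl_det]; ring,
    by rw [map_mul, hvw]⟩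

theorem card_mulAut_omega_mem (h2 : (2 : F) ≠ 0) (hD : IsSquare (H.gramD : F)) :
    Nat.card (MulAut PQ) = 8 * Nat.card (RingAut F) * Nat.card PQ := by
  obtain ⟨u, hu, hu'⟩ := H.exists_det_theta h2
  rw [H.card_mulAut_eq, H.card_ker (fun g => mem_omega_iff h2 H.nd H.tri g)
      (by rw [theta_negOne h2 H, (sqChar_eq_one_iff _).2 hD]) hu hu',
    natCard_Inn H.nd H.tri H.good, H.card_detGroup, card_sq_one.2 h2, card_sqChar_range.2 h2]
  ring

theorem det_eq_one_two (h2 : (2 : F) = 0) (g : isometryGroup F ⇑Q) : (ogVal g).det = 1 := by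
  rw [det_eq_dick H.nd H.tri]
  rcases Int.units_eq_one_or (dick g) with e | e <;> rw [e]
  · simp
  · simp; linear_combination -h2

theorem omega_iff_two (h2 : (2 : F) = 0) (g : isometryGroup F ⇑Q) :
    g ∈ Omega F ⇑Q ↔ (ogVal g).det = 1 ∧ dickHom H.nd H.tri g = 1 :=
  (mem_omega_iff_dick H.nd H.tri h2 g).trans (iff_and_self.2 fun _ => H.det_eq_one_two h2 g)

theorem dick_negOne_two (h2 : (2 : F) = 0) : dickHom H.nd H.tri (negOne Q) = 1 := by
  rw [show negOne Q = 1 from ogVal_ext (by
    rw [ogVal_negOne, ogVal_one, ← neg_one_smul F (1 : Matrix ι ι F), show (-1 : F) = 1 by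
      linear_combination -h2, one_smul]), map_one]

theorem card_mulAut_two (h2 : (2 : F) = 0) :
    Nat.card (MulAut PQ) = 2 * Nat.card (RingAut F) * Nat.card PQ := by
  obtain ⟨v, hv⟩ := H.exists_one
  have hv0 : Q v ≠ 0 := by rw [hv]; exact one_ne_zero
  rw [H.card_mulAut_eq, H.card_ker (fun g => H.omega_iff_two h2 g) (H.dick_negOne_two h2)
      (H.det_eq_one_two h2 (refl hv0)) (dick_refl H.nd hv0), natCard_Inn H.nd H.tri H.good,
    H.card_detGroup, card_sq_one.1 h2, card_sqChar_range.1 h2]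
  ring

theorem card_out {c : ℕ} (h : Nat.card (MulAut PQ) = c * Nat.card (RingAut F) * Nat.card PQ) :
    Nat.card (Out PQ) = c * Nat.card (RingAut F) := by
  haveI : Finite (isometryGroup F ⇑Q) := inferInstance
  have hpos : 0 < Nat.card PQ := Nat.card_pos
  refine Nat.eq_of_mul_eq_mul_right hpos ?_
  rw [← h, ← card_out_mul (Q := Q), natCard_Inn H.nd H.tri H.good]

theorem outInv_eq_one {z : Out PQ} (h2 : (2 : F) ≠ 0) {u : isometryGroup F ⇑Q}
    (hu : (ogVal u).det = 1) (hu' : theta Q u = -1) (hz : z = QuotientGroup.mk' _ (ogHom Q u))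
    {o : Out PQ} (ho : H.outInv o = 1) : o = 1 ∨ o = z := by
  obtain ⟨β, rfl⟩ := QuotientGroup.mk'_surjective _ o
  rw [H.outInv_mk] at ho
  obtain ⟨g, hg, rfl⟩ := (H.mem_ker_invHom β).1 ho
  have inner : ∀ k : isometryGroup F ⇑Q, (ogVal k).det = 1 → theta Q k = 1 →
      QuotientGroup.mk' (Inn PQ) (ogHom Q k) = 1 := fun k h h' =>
    (QuotientGroup.eq_one_iff _).2 (by
      rw [inn_eq_map]; exact ⟨k, (mem_omega_iff h2 H.nd H.tri k).2 ⟨h, h'⟩, rfl⟩)
  rcases Int.units_eq_one_or (theta Q g) with h | h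
  · exact Or.inl (inner g hg h)
  · refine Or.inr ?_
    have hud : (ogVal u⁻¹).det = 1 := by
      have := congrArg Matrix.det (congrArg ogVal (inv_mul_cancel u))
      rwa [ogVal_mul, Matrix.det_mul, hu, mul_one, ogVal_one, Matrix.det_one] at this
    have := inner (g * u⁻¹) (by rw [ogVal_mul, Matrix.det_mul, hg, hud, one_mul])
      (by rw [map_mul, map_inv, h, hu']; rfl)
    rw [map_mul, map_mul, map_inv, map_inv, ← hz, mul_inv_eq_one] at this
    exact this

end EvenSpace

/-- Elements with trivial field part and determinant part `±1` are central. -/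
theorem tw_central {u : Tw F × ℤˣ} (h1 : u.1.right = 1) (h2 : u.1.left * u.1.left = 1) (v : Tw F × ℤˣ) :
    v * u = u * v := by
  have hl : twAct F v.1.right u.1.left = u.1.left := by
    have h : (u.1.left : F) * u.1.left = 1 := congrArg Units.val h2
    refine Units.ext ?_
    rw [twAct_coe]
    rcases mul_self_eq_one_iff.1 h with h | h <;> rw [h] <;> simp
  refine Prod.ext (SemidirectProduct.ext ?_ ?_) (mul_comm _ _)
  · simp [h1, hl, mul_comm]
  · simp [h1]

/-- Conjugating a reflection by a similitude. -/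
theorem similitude_refl {X : GL ι F} {c : F} (hc : c ≠ 0)
    (hX : ∀ v, Q ((X : Matrix ι ι F) *ᵥ v) = c * Q v) {v : ι → F} (hv : Q v ≠ 0)
    (hXv : Q ((X : Matrix ι ι F) *ᵥ v) ≠ 0) :
    X * (refl hv : GL ι F) = (refl hXv : GL ι F) * X := by
  refine Units.ext (Matrix.ext_iff_mulVec.2 fun w => ?_)
  show ((X : Matrix ι ι F) * ogVal (refl hv)) *ᵥ w = (ogVal (refl hXv) * (X : Matrix ι ι F)) *ᵥ w
  rw [← Matrix.mulVec_mulVec, ← Matrix.mulVec_mulVec, refl_apply, refl_apply, Matrix.mulVec_sub,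
    Matrix.mulVec_smul]
  congr 2
  have hB : QuadraticMap.polar ⇑Q ((X : Matrix ι ι F) *ᵥ v) ((X : Matrix ι ι F) *ᵥ w) =
      c * QuadraticMap.polar ⇑Q v w := by
    simp only [QuadraticMap.polar, ← Matrix.mulVec_add, hX]
    ring
  rw [hB, hX]
  field_simp

set_option maxHeartbeats 1600000 in
theorem EvenSpace.out_d4 (H : EvenSpace Q n) (h2 : (2 : F) ≠ 0) (hm1 : ¬ IsSquare (-1 : F))
    (hD : IsSquare (H.gramD : F)) {f : ℕ} (hf : Odd f) (hR : IsCyclic (RingAut F))
    (hRc : Nat.card (RingAut F) = f) {X : GL ι F}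
    (hX : ∀ v, Q ((X : Matrix ι ι F) *ᵥ v) = (-1) * Q v) (hXX : (X : Matrix ι ι F) * X = -1) :
    Nonempty (Out PQ ≃* DihedralGroup 4 × Multiplicative (ZMod f)) := by
  have hm0 : (-1 : F) ≠ 0 := neg_ne_zero.2 one_ne_zero
  let X' : Geo.quadSimilarityGroup (F := F) ⇑Q := ⟨X, Units.mk0 _ hm0, hX⟩
  obtain ⟨v, hv⟩ := H.exists_one
  have hv0 : Q v ≠ 0 := by rw [hv]; exact one_ne_zero
  have hw1 : Q ((X : Matrix ι ι F) *ᵥ v) = -1 := by rw [hX, hv, mul_one]
  have hw0 : Q ((X : Matrix ι ι F) *ᵥ v) ≠ 0 := by rw [hw1]; exact hm0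
  set a := goHom Q X'
  set b := ogHom Q (refl hv0)
  set b' := ogHom Q (refl hw0)
  set mk := QuotientGroup.mk' (Inn PQ)
  have haa : a * a = 1 := by
    rw [← map_mul]
    exact poSemi_scalar _ (c := -1) (by rw [neg_one_smul]; exact hXX)
  have hbb : b * b = 1 := by rw [← map_mul, refl_mul_self, map_one]
  have hab : a * b = b' * a := by
    show goHom Q X' * goHom Q ⟨_, isometry_mem_go (refl hv0)⟩ = goHom Q ⟨_, isometry_mem_go (refl hw0)⟩ * goHom Q X'
    rw [← map_mul, ← map_mul]
    exact congrArg _ (Subtype.ext (similitude_refl hm0 hX hv0 hw0))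
  set x := mk (a * b)
  set y := mk a
  set u := refl hw0 * refl hv0
  have hu : (ogVal u).det = 1 := by rw [ogVal_mul, Matrix.det_mul, refl_det, refl_det]; ring
  have hu' : theta Q u = -1 := by
    rw [map_mul, theta_refl_eq h2 H.nd H.tri]
    refine (sqChar_eq_neg_one_iff _).2 ?_
    simpa [hw1, hv] using hm1
  set z := mk (ogHom Q u) with hz
  have hxx : x * x = z := by
    rw [← map_mul, hz, map_mul (ogHom Q), show a * b * (a * b) = b' * b by
      rw [hab]
      calc b' * a * (b' * a) = b' * (a * b') * a := by group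
        _ = b' * (b * a) * a := by
          rw [show a * b' = b * a by
            calc a * b' = a * b' * (a * a) := by rw [haa, mul_one]
              _ = a * (b' * a) * a := by group
              _ = a * a * b * a := by rw [← hab]; group
              _ = b * a := by rw [haa, one_mul]]
        _ = b' * b * (a * a) := by group
        _ = b' * b := by rw [haa, mul_one]]
  have hm := fun g => mem_omega_iff h2 H.nd H.tri g
  have hmn : theta Q (negOne Q) = 1 := by rw [theta_negOne h2 H, (sqChar_eq_one_iff _).2 hD]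
  have hz1 : z ≠ 1 := fun h => H.ogHom_not_inn hm hmn hu' ((QuotientGroup.eq_one_iff _).1 h)
  have hker : ∀ o, H.outInv o = 1 → o = 1 ∨ o = z := fun o ho => H.outInv_eq_one h2 hu hu' hz ho
  have hz0 : H.outInv z = 1 := (H.mem_ker_invHom _).2 ⟨u, hu, rfl⟩
  have hzz : z * z = 1 := by
    rcases hker (z * z) (by rw [map_mul, hz0, one_mul]) with h | h
    · exact h
    · exact absurd (mul_eq_left.1 h) hz1
  have h4 : x ^ 4 = 1 := by rw [show (4 : ℕ) = 2 * 2 from rfl, pow_mul, sq, sq, hxx, hzz]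
  have hy : y * y = 1 := by rw [← map_mul, haa, map_one]
  have hyx : y * x * y = x⁻¹ := by
    rw [← map_mul, ← map_mul, ← map_inv, _root_.mul_inv_rev, inv_eq_of_mul_eq_one_right haa,
      inv_eq_of_mul_eq_one_right hbb, ← mul_assoc, haa, one_mul]
  -- invariants
  have iy2 : (H.outInv y).2 = -1 := by
    show (H.invHom (poSemi (isPair_refl X'.2))).2 = -1
    rw [H.invHom_poSemi]
    show sqChar F _ = -1
    rw [sqChar_eq_neg_one_iff, H.pmul_eq _ (d := Units.mk0 _ hm0) fun w => hX w]
    exact hm1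
  have iyr : (H.outInv y).1.right = 1 := by
    show (H.invHom (poSemi (isPair_refl X'.2))).1.right = 1
    rw [H.invHom_poSemi]; rfl
  have iyl : (H.outInv y).1.left * (H.outInv y).1.left = 1 := by
    have h := congrArg (fun o => (H.outInv o).1.left) hy
    simpa [iyr] using h
  have ib : H.outInv (mk b) = (SemidirectProduct.inl (-1 : Fˣ), 1) := H.refl_invHom hv0
  have ixr : (H.outInv x).1.right = 1 := by
    rw [show x = y * mk b from map_mul mk a b, map_mul, ib]; simp [iyr]
  have ix2 : (H.outInv x).2 = -1 := by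
    rw [show x = y * mk b from map_mul mk a b, map_mul, ib]; simp [iy2]
  have ixl : (H.outInv x).1.left * (H.outInv x).1.left = 1 := by
    rw [show x = y * mk b from map_mul mk a b, map_mul, ib]
    simp only [Prod.fst_mul, SemidirectProduct.mul_left, SemidirectProduct.left_inl, iyr, map_one,
      MulAut.one_apply]
    rw [mul_mul_mul_comm, iyl, neg_mul_neg, one_mul, one_mul]
  have hyn : ∀ i : ℕ, y * x ^ i ≠ 1 := by
    intro i he
    have h := congrArg H.outInv he
    rw [map_mul, map_pow, map_one] at h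
    rcases Nat.even_or_odd' i with ⟨k, rfl | rfl⟩
    · rw [pow_mul, sq, ← map_mul, hxx, hz0, one_pow, mul_one] at h
      rw [h] at iy2
      have h' : (1 : ℤˣ) = -1 := iy2
      exact absurd h' (by decide)
    · rw [pow_succ, pow_mul, sq, ← map_mul, hxx, hz0, one_pow, one_mul,
        show x = y * mk b from map_mul mk a b, map_mul, ← mul_assoc, ← map_mul, hy, map_one, one_mul, ib] at h
      have := congrArg (fun o : Tw F × ℤˣ => ((o.1.left : Fˣ) : F)) h
      simp at this
      exact h2 (by linear_combination -this)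
  let ρ : Out PQ →* RingAut F := (SemidirectProduct.rightHom.comp (MonoidHom.fst _ _)).comp H.outInv
  have hρ : Function.Surjective ρ := fun σ => by
    obtain ⟨g, hg⟩ := H.lift σ
    exact ⟨mk (poSemi hg), by show (H.invHom (poSemi hg)).1.right = σ; rw [H.invHom_poSemi]; rfl⟩
  have hcard : Nat.card (Out PQ) = 8 * f := hRc ▸ H.card_out (H.card_mulAut_omega_mem h2 hD)
  have hk8 : Nat.card ρ.ker = 8 := by
    have h := ρ.ker.card_mul_index
    rw [Subgroup.index_ker, MonoidHom.range_eq_top.2 hρ, Subgroup.card_top, hRc, hcard] at h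
    exact Nat.eq_of_mul_eq_mul_right hf.pos h
  obtain ⟨σ, hσ⟩ := hR.exists_generator
  obtain ⟨τ, hτ⟩ := hρ σ
  have hσo : orderOf σ = f := (orderOf_eq_card_of_forall_mem_zpowers hσ).trans hRc
  have h8 : Nat.Coprime f 8 := (Nat.coprime_two_right.2 hf).pow_right 3
  set φ := τ ^ 8
  have hρφ : orderOf (ρ φ) = f := by
    rw [map_pow, hτ, Nat.Coprime.orderOf_pow (by rw [hσo]; exact h8), hσo]
  have hφf : φ ^ f = 1 := by
    have hmem : τ ^ f ∈ ρ.ker := by rw [MonoidHom.mem_ker, map_pow, hτ, ← hσo, pow_orderOf_eq_one]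
    have h := pow_card_eq_one' (G := ρ.ker) (x := ⟨_, hmem⟩)
    rw [hk8] at h
    rw [← pow_mul, mul_comm, pow_mul]
    exact congrArg Subtype.val h
  have hφo : orderOf φ = f := Nat.dvd_antisymm (orderOf_dvd_of_pow_eq_one hφf) (by
    conv_lhs => rw [← hρφ]
    exact orderOf_map_dvd ρ φ)
  have hzc : φ * z * φ⁻¹ = z := by
    rcases hker (φ * z * φ⁻¹) (by rw [map_mul, map_mul, hz0, mul_one, ← map_mul, mul_inv_cancel, map_one]) with
      h | h
    · exact absurd (by simpa using h) hz1
    · exact h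
  have hc : ∀ w, (H.outInv w).1.right = 1 → (H.outInv w).1.left * (H.outInv w).1.left = 1 →
      Commute φ w := fun w hr hl => by
    refine commute_of_conj hf hφf ?_ hzc hzz
    have h1 : H.outInv (w⁻¹ * (φ * w * φ⁻¹)) = 1 := by
      rw [map_mul, map_mul, map_mul, tw_central hr hl, mul_assoc (H.outInv w), ← map_mul H.outInv φ,
        mul_inv_cancel, map_one, mul_one, ← map_mul, inv_mul_cancel, map_one]
    rcases hker _ h1 with h | h
    · exact Or.inl (inv_mul_eq_one.1 h).symm
    · exact Or.inr (eq_mul_of_inv_mul_eq h)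
  exact d4_prod_iso x y hcard h4 hy hyx hφo (hc x ixr ixl) (hc y iyr iyl) (by rw [hxx]; exact hz1) hyn ρ
    ixr iyr hρφ

theorem EvenSpace.out_cyclic (H : EvenSpace Q n) (h2 : (2 : F) ≠ 0) (hD : ¬ IsSquare (H.gramD : F))
    {p f : ℕ} [Fact p.Prime] (hF : Fintype.card F = p ^ f) :
    Nonempty (Out PQ ≃* Multiplicative (ZMod 2 × ZMod (2 * f))) := by
  obtain ⟨hcy, hRc⟩ := PSLAut.card_ringAut hF
  haveI : Finite (RingAut F) := Finite.of_injective (fun σ : RingAut F => (⇑σ : F → F)) fun _ _ h => RingEquiv.ext (congrFun h)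
  haveI : CharP F p := charP_of_card_eq_prime_pow hF
  have hp : p ≠ 2 := by
    rintro rfl; exact h2 CharTwo.two_eq_zero
  have hodd : ∀ k, p ^ k % 2 = 1 := fun k => Nat.odd_iff.1 (((Fact.out : p.Prime).odd_of_ne_two hp).pow)
  have hdet : Nat.card H.detGroup = 2 * f := by rw [H.card_detGroup, card_sq_one.2 h2, hRc]
  haveI : Finite H.detGroup := Nat.finite_of_card_ne_zero (by
    rw [hdet]; have : 0 < Nat.card (RingAut F) := Nat.card_pos; omega)
  let σ : RingAut F := frobeniusEquiv F p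
  let d : Tw F := ⟨H.gramD ^ ((p - 1) / 2), σ⟩
  have hσp : ∀ u : Fˣ, twAct F σ u = u ^ p := fun u => Units.ext (by simp [σ, frobenius_def])
  have hd : d ∈ H.detGroup := by
    rw [H.mem_detGroup]
    show (H.gramD ^ ((p - 1) / 2)) ^ 2 * _ = twAct F σ _
    rw [hσp, ← pow_mul, ← pow_succ]
    congr 1
    have := hodd 1
    rw [pow_one] at this
    omega
  have hpow : ∀ k, d ^ k = (⟨H.gramD ^ ((p ^ k - 1) / 2), σ ^ k⟩ : Tw F) := by
    intro k
    induction k with
    | zero => simp
    | succ k ih =>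
      rw [pow_succ', ih]
      refine SemidirectProduct.ext ?_ (pow_succ' σ k).symm
      show H.gramD ^ ((p - 1) / 2) * twAct F σ (H.gramD ^ ((p ^ k - 1) / 2)) = _
      rw [hσp, ← pow_mul, ← pow_add]
      congr 1
      have h1 := hodd k; have h3 := hodd 1; have h4 := hodd (k + 1)
      rw [pow_one] at h3
      obtain ⟨u, hu⟩ : ∃ u, p ^ k = 2 * u + 1 := ⟨p ^ k / 2, by omega⟩
      obtain ⟨v, hv⟩ : ∃ v, p = 2 * v + 1 := ⟨p / 2, by omega⟩
      rw [pow_succ, hu]
      rw [show (2 * u + 1) * p = 2 * (u * p + v) + 1 by rw [hv]; ring, show (p - 1) / 2 = v by omega,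
        show (2 * u + 1 - 1) / 2 = u by omega]
      omega
  have hσk : ∀ k, σ ^ k = 1 → f ∣ k := fun k hk => by
    by_contra hnd
    have hlt : k % f < f := Nat.mod_lt _ (by
      rcases Nat.eq_zero_or_pos f with rfl | h
      · have := Fintype.one_lt_card (α := F); rw [hF, pow_zero] at this; omega
      · exact h)
    have hr : σ ^ (k % f) = 1 := by
      have hσf : σ ^ f = 1 := by rw [← hRc]; exact pow_card_eq_one'
      rwa [← Nat.mod_add_div k f, pow_add, pow_mul, hσf, one_pow, mul_one] at hk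
    obtain ⟨g, hg⟩ := IsCyclic.exists_generator (α := Fˣ)
    have hgo : orderOf g = p ^ f - 1 := by
      rw [orderOf_eq_card_of_forall_mem_zpowers hg, Nat.card_units, Nat.card_eq_fintype_card, hF]
    have hgk : g ^ (p ^ (k % f)) = g := by
      have hit : ∀ j (u : Fˣ), twAct F (σ ^ j) u = u ^ (p ^ j) := by
        intro j
        induction j with
        | zero => simp
        | succ j ih => intro u; rw [pow_succ', map_mul, MulAut.mul_apply, ih, hσp, ← pow_mul, pow_succ]
      rw [← hit, hr, map_one, MulAut.one_apply]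
    have hpos : 0 < k % f := Nat.pos_of_ne_zero fun h0 => hnd (Nat.dvd_of_mod_eq_zero h0)
    have hle : 1 < p ^ (k % f) := Nat.one_lt_pow hpos.ne' (Fact.out : p.Prime).one_lt
    have h1 : g ^ (p ^ (k % f) - 1) = 1 := mul_right_cancel (b := g) (by
      rw [← pow_succ, Nat.sub_add_cancel hle.le, hgk, one_mul])
    have h5 := Nat.le_of_dvd (by omega) (hgo ▸ orderOf_dvd_of_pow_eq_one h1)
    have := Nat.pow_lt_pow_right (Fact.out : p.Prime).one_lt hlt
    omega
  have hdf : d ^ f ≠ 1 := by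
    rw [hpow]
    intro h
    have h' := congrArg (fun o : Tw F => ((o.left : Fˣ) : F)) h
    simp only [Units.val_pow_eq_pow_val, SemidirectProduct.one_left, Units.val_one] at h'
    refine hD ((FiniteField.isSquare_iff (fun hc => h2 (by
      haveI := ringChar.of_eq hc; exact CharTwo.two_eq_zero)) (Units.ne_zero _)).2 ?_)
    rw [hF, show p ^ f / 2 = (p ^ f - 1) / 2 by have := hodd f; omega]
    exact h'
  have hord : orderOf d = 2 * f := by
    have h2f : d ^ (2 * f) = 1 := by
      have h := pow_card_eq_one' (G := H.detGroup) (x := ⟨d, hd⟩)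
      rw [hdet] at h
      exact congrArg Subtype.val h
    have hf1 : f ∣ orderOf d := hσk _ (by
      have := congrArg SemidirectProduct.right (pow_orderOf_eq_one d)
      rwa [hpow] at this)
    obtain ⟨c, hc⟩ := hf1
    have hdvd := orderOf_dvd_of_pow_eq_one h2f
    rw [hc] at hdvd ⊢
    have hf0 : 0 < f := by have : 0 < Nat.card (RingAut F) := Nat.card_pos; omega
    have hc2 : c ∣ 2 := Nat.dvd_of_mul_dvd_mul_left hf0 (by rwa [mul_comm 2 f] at hdvd)
    rcases (Nat.dvd_prime Nat.prime_two).1 hc2 with rfl | rfl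
    · exact absurd (by rw [← (show orderOf d = f by rw [hc, mul_one]), pow_orderOf_eq_one]) hdf
    · exact mul_comm _ _
  haveI : IsCyclic H.detGroup := isCyclic_of_orderOf_eq_card (⟨d, hd⟩ : H.detGroup)
    (by rw [Subgroup.orderOf_mk, hord, hdet])
  haveI : IsCyclic (sqChar F).range := isCyclic_of_prime_card (p := 2) (card_sqChar_range.2 h2)
  obtain ⟨hk, -⟩ := H.card_mulAut_omega_ne h2 hD
  exact ⟨((QuotientGroup.quotientMulEquivOfEq hk.symm).trans (QuotientGroup.quotientKerEquivRange H.invHom)).trans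
    ((MulEquiv.subgroupCongr H.range_invHom).trans ((Subgroup.prodEquiv _ _).trans (MulEquiv.prodComm.trans
      ((MulEquiv.prodCongr
        (mulEquivOfCyclicCardEq (G' := Multiplicative (ZMod 2)) (by rw [card_sqChar_range.2 h2, Nat.card_congr Multiplicative.toAdd, Nat.card_zmod]))
        (mulEquivOfCyclicCardEq (G' := Multiplicative (ZMod (2 * f))) (by rw [hdet, Nat.card_congr Multiplicative.toAdd, Nat.card_zmod]))).trans
          (MulEquiv.prodMultiplicative (ZMod 2) (ZMod (2 * f))).symm))))⟩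

end Out

end Cfsg.Agent.Classical.OrthAut
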