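import Cfsg.Agent.Lib.Classical.OrthPlusSplit
import Cfsg.Agent.Lib.Classical.OrthGenModels
import Cfsg.Agent.Lib.Classical.OrthMinusOut

/-!
The similitude automorphisms of `PΩ(Q)` in even dimension and odd characteristic modulo the inner ones.
No exclusion of triality is needed.
-/

set_option autoImplicit false
set_option linter.unusedSectionVars false
set_option quotPrecheck false
set_option maxHeartbeats 2000000

namespace Cfsg.Agent.Classical.GOQuot

open Matrix Module Cfsg.Agent.Classical.OrthAut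

variable {F : Type*} [Field F] {ι : Type} [Fintype ι] [DecidableEq ι] {Q : QuadraticForm F (ι → F)}

local notation "Mn" => Matrix ι ι F
local notation "OG" => isometryGroup F ⇑Q
local notation "PQ" => POmega F ⇑Q
local notation "GO" => Geo.quadSimilarityGroup (F := F) ⇑Q

/-- The standing hypotheses. -/
structure Ctx (Q : QuadraticForm F (ι → F)) (n : ℕ) [Fintype F] : Prop where
  nd : (QuadraticMap.polarBilin Q).Nondegenerate
  tri : Tri Q
  card : Fintype.card ι = 2 * n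
  two : (2 : F) ≠ 0

variable [Fintype F] {n : ℕ}

/-- A matrix commuting with the Siegel transformations is scalar. -/
theorem scalar_of_commute_roots (hQ : (QuadraticMap.polarBilin Q).Nondegenerate) (hT : Tri Q) {M : Mn}
    (hc : ∀ e w, TS Q e w → Commute M (eMat Q e w)) : ∃ c : F, M = c • (1 : Mn) := by
  refine scalar_of_fix_singular hQ hT fun e hee => ?_
  by_cases he : e = 0
  · exact ⟨1, by simp [he]⟩
  obtain ⟨w, w', h, h', hww⟩ := exists_skew hQ hT he hee
  have key : ∀ {x : ι → F}, TS Q e x → ∃ s t : F, M *ᵥ e = s • e + t • x := by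
    intro x hx
    obtain ⟨z, hz⟩ : ∃ z, QuadraticMap.polar ⇑Q x z = 1 ∧ QuadraticMap.polar ⇑Q e z = 0 :=
      exists_polar2 hQ (fun s t h0 => by
        have := hx.2.2.2 t s (by rw [← h0, add_comm])
        exact ⟨this.2, this.1⟩) 1 0
    have h1 := congrArg (fun N : Mn => N *ᵥ z) (hc e x hx).eq
    simp only [← Matrix.mulVec_mulVec, eMat_mulVec, hz.1, hz.2, hx.2.1, zero_mul, zero_smul, one_smul, sub_zero,
      add_zero, Matrix.mulVec_sub] at h1
    exact ⟨QuadraticMap.polar ⇑Q x (M *ᵥ z), -QuadraticMap.polar ⇑Q e (M *ᵥ z),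
      by linear_combination (norm := module) -h1⟩
  obtain ⟨s, t, h1⟩ := key h
  obtain ⟨s', t', h2⟩ := key h'
  have h3 := congrArg (QuadraticMap.polar ⇑Q w) (h1.symm.trans h2)
  simp [QuadraticMap.polar_add_right, QuadraticMap.polar_smul_right, polar_self' h.2.1,
    QuadraticMap.polar_comm _ w e, h.2.2.1, hww] at h3
  exact ⟨s', by rw [h2, ← h3, zero_smul, add_zero]⟩

/-- A similitude acting trivially is scalar. -/
theorem goHom_eq_one (hQ : (QuadraticMap.polarBilin Q).Nondegenerate) (hT : Tri Q) {g : GO}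
    (h1 : goHom Q g = 1) : ∃ c : F, ((g : GL ι F) : Mn) = c • 1 := by
  obtain ⟨p, hp⟩ := CharP.exists F
  haveI : Fact p.Prime := ⟨CharP.char_is_prime F p⟩
  refine scalar_of_commute_roots hQ hT fun e w hew => ?_
  obtain ⟨t, ht⟩ := exists_eOm hQ hT (p := p) hew.ok
  have h2 : omPi (omSemi (isPair_refl g.2) t) = omPi t := by
    have := DFunLike.congr_fun h1 (omPi t)
    rwa [goHom_apply, poSemi_pi, MulAut.one_apply] at this
  obtain ⟨l, hl⟩ := (omPi_eq_one_iff hQ hT (p := p) (s := omSemi (isPair_refl g.2) t * t⁻¹)).1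
    (by rw [map_mul, map_inv, h2, mul_inv_cancel])
  rw [omVal_mul] at hl
  have hl' := congrArg (· * omVal t) hl
  simp only [Matrix.mul_assoc, omVal_inv_mul, mul_one, Matrix.smul_mul, one_mul] at hl'
  rw [omSemi_coe, show (omVal t).map (RingEquiv.refl F) = omVal t from Matrix.map_id _, ht] at hl'
  have hl1 : l = 1 := by
    set v := ((g : GL ι F) : Mn) *ᵥ e with hv
    have hfix : eMat Q e w *ᵥ e = e := by
      rw [eMat_mulVec, polar_self' hew.1, QuadraticMap.polar_comm _ w e, hew.2.2.1]; simp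
    have h3 : v = l • (eMat Q e w *ᵥ v) := by
      have := congrArg (fun N : Mn => N *ᵥ v) hl'
      simp only [← Matrix.mulVec_mulVec, Matrix.smul_mulVec] at this
      rw [← this, hv, Matrix.mulVec_mulVec e ((g⁻¹ : GL ι F) : Mn), ← Units.val_mul, inv_mul_cancel, Units.val_one,
        Matrix.one_mulVec, hfix]
    have hv0 : v ≠ 0 := fun h0 => hew.left_ne (by
      have := congrArg (fun x => ((g⁻¹ : GL ι F) : Mn) *ᵥ x) h0
      simpa [hv, Matrix.mulVec_mulVec] using this)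
    have he1 := congrArg (QuadraticMap.polar ⇑Q e) h3
    have hw1 := congrArg (QuadraticMap.polar ⇑Q w) h3
    simp only [eMat_mulVec, QuadraticMap.polar_smul_right, QuadraticMap.polar_add_right, QuadraticMap.polar_sub_right,
      polar_self' hew.1, polar_self' hew.2.1, QuadraticMap.polar_comm _ w e, hew.2.2.1, mul_zero, zero_smul,
      add_zero, sub_zero, smul_eq_mul] at he1 hw1
    by_contra hne
    have he0 : QuadraticMap.polar ⇑Q e v = 0 := by
      by_contra h0; exact hne (mul_eq_right₀ h0 |>.1 he1.symm)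
    have hw0 : QuadraticMap.polar ⇑Q w v = 0 := by
      by_contra h0; exact hne (mul_eq_right₀ h0 |>.1 hw1.symm)
    rw [eMat_mulVec, he0, hw0] at h3
    simp only [zero_smul, mul_zero, add_zero, sub_zero] at h3
    have : (l - 1) • v = 0 := by rw [sub_smul, one_smul, ← h3, sub_self]
    exact (smul_eq_zero.1 this).elim (fun h => hne (sub_eq_zero.1 h)) hv0
  rw [hl1, one_smul] at hl'
  show _ * _ = _ * _
  have h3 := congrArg (· * ((g : GL ι F) : Mn)) hl'
  simp only [Matrix.mul_assoc, ← Units.val_mul, inv_mul_cancel, Units.val_one, mul_one] at h3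
  exact h3

namespace Ctx

variable (C : Ctx Q n)
include C

theorem one_le : 1 ≤ Fintype.card ι := by
  obtain ⟨e, he, -⟩ := exists_singular C.tri
  obtain ⟨i, -⟩ := Function.ne_iff.1 he
  exact Fintype.card_pos_iff.2 ⟨i⟩

theorem mu_eq {g : GO} {d : Fˣ} (hd : ∀ v, Q (((g : GL ι F) : Mn) *ᵥ v) = (d : F) * Q v) : mu g = d := by
  obtain ⟨v, hv⟩ := exists_anisotropic C.nd C.one_le
  exact Units.ext (mul_right_cancel₀ hv ((mu_spec g v).symm.trans (hd v)))

theorem mu_mul (g k : GO) : mu (g * k) = mu g * mu k := C.mu_eq fun v => by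
  rw [Subgroup.coe_mul, Units.val_mul, ← Matrix.mulVec_mulVec, mu_spec, mu_spec, Units.val_mul, mul_assoc]

theorem mu_og (h : OG) : mu (ogToGO Q h) = 1 := C.mu_eq fun v => by
  rw [Units.val_one, one_mul]; exact ogVal_quad h v

theorem det_sq (g : GO) :
    ((g : GL ι F) : Mn).det = (mu g : F) ^ n ∨ ((g : GL ι F) : Mn).det = -(mu g : F) ^ n := by
  have h := det_sq_similarity C.nd (fun v => mu_spec g v)
  rw [C.card, mul_comm 2 n, pow_mul] at h
  exact sq_eq_sq_iff_eq_or_eq_neg.1 h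

theorem psgn_mul (g k : GO) : psgn n (g * k) = psgn n g * psgn n k := by
  classical
  have h2 := C.two
  have hne : ∀ x : GO, (mu x : F) ^ n ≠ -(mu x : F) ^ n := fun x =>
    two_cast_ne h2 _ (pow_ne_zero _ (mu x).ne_zero)
  have key : ∀ x : GO, ((x : GL ι F) : Mn).det = ((psgn n x : ℤˣ) : ℤ) * (mu x : F) ^ n := fun x => by
    rw [psgn, dif_neg h2]
    rcases C.det_sq x with e | e
    · rw [if_pos e]; simpa using e
    · rw [if_neg (fun e' => hne x (e'.symm.trans e))]; simpa using e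
  have h := key (g * k)
  rw [Subgroup.coe_mul, Units.val_mul, Matrix.det_mul, key g, key k, C.mu_mul, Units.val_mul, mul_pow] at h
  have h' : (((psgn n g * psgn n k : ℤˣ) : ℤ) : F) * ((mu g : F) ^ n * (mu k : F) ^ n) =
      (((psgn n (g * k) : ℤˣ) : ℤ) : F) * ((mu g : F) ^ n * (mu k : F) ^ n) := by
    rw [← h]; push_cast; ring
  have h'' := mul_right_cancel₀ (mul_ne_zero (pow_ne_zero _ (mu g).ne_zero) (pow_ne_zero _ (mu k).ne_zero)) h'
  rcases Int.units_eq_one_or (psgn n (g * k)) with e | e <;>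
    rcases Int.units_eq_one_or (psgn n g * psgn n k) with e' | e' <;> rw [e, e'] at h'' ⊢ <;>
    exact absurd h'' (by simpa using fun h3 => h2 (by first | linear_combination h3 | linear_combination -h3))

theorem psgn_og (h : OG) : psgn n (ogToGO Q h) = 1 ↔ (ogVal h).det = 1 := by
  rw [psgn_eq_one_iff_det C.two, C.mu_og, Units.val_one, one_pow]
  rfl

/-- The two invariants of a similitude. -/
noncomputable def psi : GO →* ℤˣ × ℤˣ :=
  MonoidHom.mk' (fun g => (psgn n g, sqChar F (mu g))) fun g k => Prod.ext (C.psgn_mul g k) (by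
    show sqChar F (mu (g * k)) = _
    rw [C.mu_mul, map_mul]; rfl)

theorem psi_apply (g : GO) : C.psi g = (psgn n g, sqChar F (mu g)) := rfl

theorem psi_og {h : OG} (hd : (ogVal h).det = 1) : C.psi (ogToGO Q h) = 1 := by
  rw [psi_apply, (C.psgn_og h).2 hd, C.mu_og, map_one]
  rfl

theorem psi_refl {v : ι → F} (hv : Q v ≠ 0) : C.psi (ogToGO Q (refl hv)) = (-1, 1) := by
  rw [psi_apply, C.mu_og, map_one]
  refine Prod.ext ((Int.units_eq_one_or _).resolve_left fun h => ?_) rfl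
  rw [C.psgn_og, refl_det] at h
  exact C.two (by linear_combination -h)

/-- Similitudes with trivial invariants act as special isometries. -/
theorem exists_special {g : GO} (hg : C.psi g = 1) : ∃ h : OG, (ogVal h).det = 1 ∧ goHom Q g = ogHom Q h := by
  rw [psi_apply] at hg
  obtain ⟨hp, hs⟩ : psgn n g = 1 ∧ sqChar F (mu g) = 1 := Prod.ext_iff.1 hg
  obtain ⟨s, hs⟩ := (sqChar_eq_one_iff _).1 hs
  have hs0 : s ≠ 0 := fun h0 => (mu g).ne_zero (by rw [hs, h0, mul_zero])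
  have hd : (s⁻¹ • ((g : GL ι F) : Mn)).det = 1 := by
    rw [Matrix.det_smul, C.card, (psgn_eq_one_iff_det C.two g).1 hp, pow_mul, ← mul_pow, hs, sq, ← mul_inv,
      inv_mul_cancel₀ (mul_ne_zero hs0 hs0), one_pow]
  refine ⟨mkIsometry (s⁻¹ • ((g : GL ι F) : Mn)) (by rw [hd]; exact one_ne_zero) fun v => ?_, hd, ?_⟩
  · rw [Matrix.smul_mulVec, QuadraticMap.map_smul, mu_spec, hs, smul_eq_mul]
    field_simp
  · refine goHom_eq_ogHom (s := s) ?_
    show _ = s • (s⁻¹ • ((g : GL ι F) : Mn))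
    rw [smul_smul, mul_inv_cancel₀ hs0, one_smul]

theorem ker_le_psi : (goHom Q).ker ≤ C.psi.ker := by
  intro g hg
  obtain ⟨c, hc⟩ := goHom_eq_one C.nd C.tri (MonoidHom.mem_ker.1 hg)
  haveI : Nonempty ι := Fintype.card_pos_iff.1 C.one_le
  have hc0 : c ≠ 0 := fun h0 => (g : GL ι F).det_ne_zero (by rw [hc, h0, zero_smul, Matrix.det_zero])
  have hm : mu g = Units.mk0 (c * c) (mul_ne_zero hc0 hc0) := C.mu_eq fun v => by
    rw [hc, Matrix.smul_mulVec, Matrix.one_mulVec, QuadraticMap.map_smul]; rfl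
  rw [MonoidHom.mem_ker, psi_apply]
  refine Prod.ext ((psgn_eq_one_iff_det C.two g).2 ?_) ((sqChar_eq_one_iff _).2 (by rw [hm]; exact ⟨c, rfl⟩))
  rw [hm, hc, Matrix.det_smul, Matrix.det_one, mul_one, C.card, pow_mul, sq]
  rfl

omit C in
theorem goHom_mem_pgo (g : GO) : goHom Q g ∈ pgoAut F ⇑Q := by rw [pgoAut_eq]; exact ⟨g, rfl⟩

omit C in
/-- Similitudes acting on `PΩ(Q)`. -/
noncomputable def toPgo (Q : QuadraticForm F (ι → F)) :
    Geo.quadSimilarityGroup (F := F) ⇑Q →* pgoAut F ⇑Q := (goHom Q).codRestrict _ goHom_mem_pgo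

omit C in
theorem toPgo_surjective : Function.Surjective (toPgo Q) := by
  rintro ⟨β, hβ⟩
  rw [pgoAut_eq] at hβ
  obtain ⟨g, rfl⟩ := hβ
  exact ⟨g, rfl⟩

/-- The invariants of a similitude automorphism. -/
noncomputable def psiBar : pgoAut F ⇑Q →* ℤˣ × ℤˣ :=
  (toPgo Q).liftOfSurjective toPgo_surjective ⟨C.psi, fun g hg => C.ker_le_psi (by
    rw [MonoidHom.mem_ker] at hg ⊢; exact congrArg Subtype.val hg)⟩

theorem psiBar_apply (g : GO) : C.psiBar (toPgo Q g) = C.psi g :=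
  MonoidHom.liftOfRightInverse_comp_apply _ _ _ _ g

omit C in
theorem mem_pso {β : MulAut PQ} : β ∈ psoAut F ⇑Q ↔ ∃ h : OG, (ogVal h).det = 1 ∧ β = ogHom Q h := by
  constructor
  · intro hβ
    have hle : psoAut F ⇑Q ≤ ((Matrix.GeneralLinearGroup.det.comp (isometryGroup F ⇑Q).subtype).ker).map (ogHom Q) := by
      refine (Subgroup.closure_le _).2 ?_
      rintro γ ⟨g, ⟨hg, hd⟩, hγ⟩
      exact ⟨⟨g, hg⟩, hd, ((induced_iff (isPair_refl (isometry_mem_go ⟨g, hg⟩))).1 hγ).symm⟩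
    obtain ⟨h, hh, rfl⟩ := hle hβ
    exact ⟨h, congrArg Units.val (MonoidHom.mem_ker.1 hh), rfl⟩
  · rintro ⟨h, hd, rfl⟩
    exact Subgroup.subset_closure ⟨_, ⟨h.2, MonoidHom.mem_ker.2 (Units.ext hd)⟩, poSemi_induced _⟩

omit C in
theorem pso_le_pgo : psoAut F ⇑Q ≤ pgoAut F ⇑Q := fun β hβ => by
  obtain ⟨h, -, rfl⟩ := mem_pso.1 hβ
  exact goHom_mem_pgo (ogToGO Q h)

theorem psiBar_ker : C.psiBar.ker = (psoAut F ⇑Q).subgroupOf (pgoAut F ⇑Q) := by
  ext x
  obtain ⟨g, rfl⟩ := toPgo_surjective x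
  rw [MonoidHom.mem_ker, psiBar_apply, Subgroup.mem_subgroupOf]
  show _ ↔ goHom Q g ∈ _
  constructor
  · intro h
    obtain ⟨u, hu, e⟩ := C.exists_special h
    exact mem_pso.2 ⟨u, hu, e⟩
  · intro h
    obtain ⟨u, hu, e⟩ := mem_pso.1 h
    have : g * (ogToGO Q u)⁻¹ ∈ (goHom Q).ker := by
      rw [MonoidHom.mem_ker, map_mul, map_inv, e, mul_inv_eq_one]; rfl
    have h1 := C.ker_le_psi this
    rw [MonoidHom.mem_ker, map_mul, map_inv, C.psi_og hu, inv_one, mul_one] at h1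
    exact h1

theorem exists_ε : ∃ ε : F, ε ≠ 0 ∧ ¬ IsSquare ε := by
  obtain ⟨ε, hε⟩ := FiniteField.exists_nonsquare (F := F)
    (fun hc => C.two (by haveI := ringChar.of_eq hc; exact CharTwo.two_eq_zero))
  exact ⟨ε, fun h0 => hε (h0 ▸ IsSquare.zero), hε⟩

theorem exists_psi {g : GO} (hg : sqChar F (mu g) = -1) : ∃ s : GO, C.psi s = (1, -1) := by
  rcases Int.units_eq_one_or (psgn n g) with h | h
  · exact ⟨g, Prod.ext h hg⟩
  · obtain ⟨v, hv⟩ := exists_anisotropic C.nd C.one_le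
    refine ⟨ogToGO Q (refl hv) * g, ?_⟩
    rw [map_mul, C.psi_refl, psi_apply, h, hg]
    rfl

theorem psiBar_surjective {g : GO} (hg : sqChar F (mu g) = -1) : Function.Surjective C.psiBar := by
  obtain ⟨s, hs⟩ := C.exists_psi hg
  obtain ⟨v, hv⟩ := exists_anisotropic C.nd C.one_le
  rintro ⟨a, b⟩
  rcases Int.units_eq_one_or a with rfl | rfl <;> rcases Int.units_eq_one_or b with rfl | rfl
  · exact ⟨1, map_one _⟩
  · exact ⟨toPgo Q s, by rw [psiBar_apply, hs]⟩
  · exact ⟨toPgo Q (ogToGO Q (refl hv)), by rw [psiBar_apply, C.psi_refl]⟩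
  · exact ⟨toPgo Q (ogToGO Q (refl hv) * s), by rw [psiBar_apply, map_mul, C.psi_refl, hs]; rfl⟩

theorem mem_omega {h : OG} : h ∈ Omega F ⇑Q ↔ (ogVal h).det = 1 ∧ spin h = 1 := by
  rw [mem_omega_gen C.nd (genQ_odd C.nd C.two)]
  refine and_congr ?_ Iff.rfl
  rw [det_eq_dick_gen C.nd (genQ_odd C.nd C.two) h]
  rcases Int.units_eq_one_or (dick h) with e | e <;> rw [e]
  · simp
  · refine iff_of_false (by decide) fun h1 => C.two ?_
    simp at h1
    linear_combination -h1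

theorem det_negOne : (ogVal (negOne Q)).det = 1 := by
  rw [ogVal_negOne, Matrix.det_neg, Matrix.det_one, mul_one, C.card, pow_mul, neg_one_sq, one_pow]

/-- When a special isometry acts as an inner automorphism. -/
theorem og_mem_inn {h : OG} (hd : (ogVal h).det = 1) :
    ogHom Q h ∈ Inn PQ ↔ spin h = 1 ∨ spin (negOne Q) = -1 := by
  rw [inn_eq_map]
  constructor
  · rintro ⟨t, ht, e⟩
    have h1 : goHom Q (ogToGO Q (h⁻¹ * t)) = 1 := by
      show ogHom Q (h⁻¹ * t) = 1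
      rw [map_mul, map_inv, e, inv_mul_cancel]
    obtain ⟨c, hc⟩ := goHom_eq_one C.nd C.tri h1
    have hc' : ogVal (h⁻¹ * t) = c • 1 := hc
    obtain ⟨v, hv⟩ := exists_anisotropic C.nd C.one_le
    have h2 := ogVal_quad (h⁻¹ * t) v
    rw [hc', Matrix.smul_mulVec, Matrix.one_mulVec, QuadraticMap.map_smul, smul_eq_mul] at h2
    have ht' := (C.mem_omega.1 ht).2
    rcases mul_self_eq_one_iff.1 (mul_right_cancel₀ hv (h2.trans (one_mul _).symm)) with rfl | rfl
    · left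
      obtain rfl : h = t := inv_mul_eq_one.1 (ogVal_ext (hc'.trans (by rw [one_smul, ogVal_one])))
      exact ht'
    · have e1 : t = h * negOne Q := by
        rw [← inv_mul_eq_iff_eq_mul]
        exact ogVal_ext (hc'.trans (by rw [neg_one_smul, ogVal_negOne]))
      rw [e1, spin_mul C.nd] at ht'
      rcases Int.units_eq_one_or (spin h) with e' | e'
      · exact Or.inl e'
      · right
        rcases Int.units_eq_one_or (spin (negOne Q)) with e'' | e''
        · rw [e', e''] at ht'; exact absurd ht' (by decide)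
        · exact e''
  · intro hor
    rcases Int.units_eq_one_or (spin h) with e | e
    · exact ⟨h, C.mem_omega.2 ⟨hd, e⟩, rfl⟩
    · have hm : spin (negOne Q) = -1 := hor.resolve_left (by rw [e]; decide)
      refine ⟨h * negOne Q, C.mem_omega.2 ⟨?_, by rw [spin_mul C.nd, e, hm]; rfl⟩, by
        rw [map_mul, ogHom_negOne, mul_one]⟩
      rw [ogVal_mul, Matrix.det_mul, hd, C.det_negOne, one_mul]

theorem inn_le_pso : Inn PQ ≤ psoAut F ⇑Q := by
  rw [inn_eq_map]
  rintro _ ⟨t, ht, rfl⟩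
  exact mem_pso.2 ⟨t, (C.mem_omega.1 ht).1, rfl⟩

theorem exists_spin_neg : ∃ u : OG, (ogVal u).det = 1 ∧ spin u = -1 := by
  obtain ⟨u, hu⟩ := invHom_surjective C.nd (genQ_odd C.nd C.two) C.two
    (by have := C.one_le; have := C.card; omega) (1, -1)
  rw [invHom_apply] at hu
  obtain ⟨h1, h2⟩ := Prod.ext_iff.1 hu
  refine ⟨u, ?_, h2⟩
  rw [det_eq_dick_gen C.nd (genQ_odd C.nd C.two) u, show dick u = 1 from h1]
  simp

theorem pso_eq_inn (hm : spin (negOne Q) = -1) : psoAut F ⇑Q = Inn PQ :=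
  le_antisymm (fun β hβ => by
    obtain ⟨h, hd, rfl⟩ := mem_pso.1 hβ
    exact (C.og_mem_inn hd).2 (Or.inr hm)) C.inn_le_pso

theorem relIndex_pso (hm : spin (negOne Q) = 1) : (Inn PQ).relIndex (psoAut F ⇑Q) = 2 := by
  obtain ⟨u, hu, hus⟩ := C.exists_spin_neg
  rw [Subgroup.relIndex, Subgroup.index_eq_two_iff]
  refine ⟨⟨ogHom Q u, mem_pso.2 ⟨u, hu, rfl⟩⟩, fun b => ?_⟩
  obtain ⟨b, hb⟩ := b
  obtain ⟨h, hd, rfl⟩ := mem_pso.1 hb
  simp only [Subgroup.mem_subgroupOf, Subgroup.coe_mul, ← map_mul]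
  have hdu : (ogVal (h * u)).det = 1 := by rw [ogVal_mul, Matrix.det_mul, hd, hu, one_mul]
  rw [C.og_mem_inn hd, C.og_mem_inn hdu, hm, spin_mul C.nd, hus]
  rcases Int.units_eq_one_or (spin h) with e | e <;> rw [e]
  · exact Or.inr ⟨Or.inl rfl, by decide⟩
  · exact Or.inl ⟨Or.inl (by decide), by decide⟩

end Ctx


/-! ### Recognising quotients -/

section Abstract

/-- Two maps with the same image, one injective, give a surjection with the kernel of the other. -/
theorem exists_onto {A B K : Type*} [Group A] [Group B] [Group K] (ψ : A →* K) (Φ : B →* K)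
    (hΦ : Function.Injective Φ) (h1 : ∀ a, ψ a ∈ Φ.range) (h2 : ∀ b, Φ b ∈ ψ.range) :
    ∃ φ : A →* B, Function.Surjective φ ∧ φ.ker = ψ.ker := by
  refine ⟨(MonoidHom.ofInjective hΦ).symm.toMonoidHom.comp (ψ.codRestrict Φ.range h1), fun b => ?_, ?_⟩
  · obtain ⟨a, ha⟩ := h2 b
    refine ⟨a, (MonoidHom.ofInjective hΦ).injective ?_⟩
    simp only [MonoidHom.comp_apply, MulEquiv.coe_toMonoidHom, MulEquiv.apply_symm_apply]
    exact Subtype.ext ha
  · ext a
    simp only [MonoidHom.mem_ker, MonoidHom.comp_apply, MulEquiv.coe_toMonoidHom, MulEquiv.map_eq_one_iff]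
    exact Subtype.ext_iff

/-- Four-group coordinates. -/
def signPair : Multiplicative (ZMod 2 × ZMod 2) →* ℤˣ × ℤˣ :=
  MonoidHom.mk' (fun x => ((-1) ^ (Multiplicative.toAdd x).1.val, (-1) ^ (Multiplicative.toAdd x).2.val)) (by decide)

theorem signPair_bijective : Function.Bijective signPair := by decide

/-- Order two coordinates. -/
def signOne : Multiplicative (ZMod 2) →* ℤˣ :=
  MonoidHom.mk' (fun x => (-1) ^ (Multiplicative.toAdd x).val) (by decide)

theorem signOne_bijective : Function.Bijective signOne := by decide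

variable {K : Type*} [Group K]

/-- Powers of an element of exponent four. -/
def fourPow (x : K) (h : x ^ 4 = 1) : Multiplicative (ZMod 4) →* K :=
  MonoidHom.mk' (fun i => x ^ (Multiplicative.toAdd i).val) fun i j => by
    rw [← pow_add, toAdd_mul, ZMod.val_add]
    exact (pow_eq_pow_mod _ h).symm

/-- Two commuting involutions. -/
def kleinPow (x z : K) (hx : x ^ 2 = 1) (hz : z ^ 2 = 1) (hc : Commute x z) :
    Multiplicative (ZMod 2 × ZMod 2) →* K :=
  MonoidHom.mk' (fun i => x ^ (Multiplicative.toAdd i).1.val * z ^ (Multiplicative.toAdd i).2.val) fun i j => by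
    simp only [toAdd_mul, Prod.fst_add, Prod.snd_add, ZMod.val_add, ← pow_eq_pow_mod _ hx, ← pow_eq_pow_mod _ hz,
      pow_add]
    exact (hc.pow_pow _ _).mul_mul_mul_comm _ _

/-- An extension of a four-group of signs by a group of order two. -/
structure QData {G K : Type*} [Group G] [Group K] (κ : G →* K) (ψ : G →* ℤˣ × ℤˣ) (R : G) (z : K) : Prop where
  hk : ∀ g, κ g = 1 → ψ g = 1
  hR : ψ R = (-1, 1)
  hrr : κ R * κ R = 1
  hz : z ≠ 1
  hzz : z ^ 2 = 1
  hzc : ∀ g, Commute (κ g) z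
  hzu : ∃ u, ψ u = 1 ∧ κ u = z
  hcases : ∀ g, ψ g = 1 → κ g = 1 ∨ κ g = z
  hcomm : ∀ s, (ψ s).2 = -1 → κ R * κ s * κ R * (κ s)⁻¹ = z

namespace QData

variable {G : Type*} [Group G] {κ : G →* K} {ψ : G →* ℤˣ × ℤˣ} {R : G} {z : K} (D : QData κ ψ R z)
include D

theorem swap {s : G} (hs : (ψ s).2 = -1) : κ R * κ s * κ R = z * κ s := by rw [← D.hcomm s hs]; group

theorem pow_odd_ne {X : G} (hX : (ψ X).2 = -1) {j : ℕ} (hj : Odd j) : κ X ^ j ≠ 1 := fun h => by
  have := congrArg Prod.snd (D.hk (X ^ j) (by rw [map_pow]; exact h))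
  rw [map_pow, Prod.pow_snd, hX, hj.neg_one_pow] at this
  exact absurd this (by decide)

theorem cover (L : Subgroup K) (hzL : z ∈ L) {g : G} (h : ∃ E, κ E ∈ L ∧ ψ E = ψ g) : κ g ∈ L := by
  obtain ⟨E, hE, hEp⟩ := h
  rcases D.hcases (g * E⁻¹) (by rw [map_mul, map_inv, hEp, mul_inv_cancel]) with e | e <;>
    rw [map_mul, map_inv, mul_inv_eq_iff_eq_mul] at e <;> rw [e]
  · exact mul_mem (one_mem _) hE
  · exact mul_mem hzL hE

theorem dihedral {s : G} (hs : ψ s = (1, -1)) :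
    ∃ Φ : DihedralGroup 4 →* K, Function.Injective Φ ∧ ∀ g, κ g ∈ Φ.range := by
  obtain ⟨X, hX, hX2, hXR⟩ : ∃ X : G, (ψ X).2 = -1 ∧ κ X ^ 2 = z ∧ κ R * κ X * κ R = (κ X)⁻¹ := by
    have hw := D.swap (s := s) (by rw [hs])
    rcases D.hcases (s * s) (by rw [map_mul, hs]; rfl) with e | e <;> rw [map_mul] at e
    · refine ⟨R * s, by rw [map_mul, D.hR, hs]; rfl, ?_, ?_⟩
      · rw [map_mul, sq, ← mul_assoc, hw, mul_assoc, e, mul_one]
      · rw [map_mul, _root_.mul_inv_rev, inv_eq_of_mul_eq_one_right D.hrr, inv_eq_of_mul_eq_one_right e, ← mul_assoc, D.hrr,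
          one_mul]
    · refine ⟨s, by rw [hs], by rw [sq, e], eq_inv_of_mul_eq_one_left ?_⟩
      rw [hw, mul_assoc, e, ← sq, D.hzz]
  have h4 : κ X ^ 4 = 1 := by rw [show (4 : ℕ) = 2 * 2 from rfl, pow_mul, hX2, D.hzz]
  refine ⟨MonoidHom.mk' (d4Fun (κ X) (κ R)) (d4Fun_mul _ _ h4 D.hrr hXR),
    (injective_iff_map_eq_one _).2 ?_, fun g => ?_⟩
  · rintro (i | i) hi
    · have hi' : κ X ^ i.val = 1 := hi
      fin_cases i
      · rfl
      · exact absurd hi' (D.pow_odd_ne hX (j := 1) (by decide))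
      · exact absurd (hX2.symm.trans hi') D.hz
      · exact absurd hi' (D.pow_odd_ne hX (j := 3) (by decide))
    · exfalso
      have hi' : κ R * κ X ^ i.val = 1 := hi
      have h3 := D.hk (R * X ^ i.val) (by rw [map_mul, map_pow]; exact hi')
      rw [map_mul, map_pow, D.hR, Prod.ext_iff] at h3
      obtain ⟨a, b⟩ := h3
      simp only [Prod.fst_mul, Prod.snd_mul, Prod.pow_fst, Prod.pow_snd, hX, one_mul, Prod.fst_one,
        Prod.snd_one] at a b
      rcases Int.units_eq_one_or (ψ X).1 with hx | hx <;> rw [hx] at a <;>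
        fin_cases i <;> first | exact absurd a (by decide) | exact absurd b (by decide)
  · generalize hΦ : MonoidHom.mk' (d4Fun (κ X) (κ R)) (d4Fun_mul _ _ h4 D.hrr hXR) = Φ
    have hXm : κ X ∈ Φ.range := ⟨.r 1, by rw [← hΦ]; exact pow_one _⟩
    have hRm : κ R ∈ Φ.range := ⟨.sr 0, by rw [← hΦ]; show κ R * κ X ^ 0 = _; rw [pow_zero, mul_one]⟩
    refine D.cover _ (hX2 ▸ pow_mem hXm 2) ?_
    have : ∀ d : ℤˣ × ℤˣ, ∃ E, κ E ∈ Φ.range ∧ ψ E = d := by
      rintro ⟨d1, d2⟩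
      rcases Int.units_eq_one_or (ψ X).1 with hx | hx <;>
        rcases Int.units_eq_one_or d1 with rfl | rfl <;> rcases Int.units_eq_one_or d2 with rfl | rfl <;>
        first
        | exact ⟨1, by rw [map_one]; exact one_mem _, map_one _⟩
        | exact ⟨R, hRm, D.hR⟩
        | exact ⟨X, hXm, Prod.ext hx hX⟩
        | exact ⟨R * X, by rw [map_mul]; exact mul_mem hRm hXm, by
            rw [map_mul, D.hR]; exact Prod.ext (by rw [Prod.fst_mul, hx]; rfl) (by rw [Prod.snd_mul, hX]; rfl)⟩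
    exact this _

theorem cover_half {s : G} (hs : ψ s = (1, -1)) (L : Subgroup K) (hsL : κ s ∈ L) (hzL : z ∈ L) {g : G}
    (hg : (ψ g).1 = 1) : κ g ∈ L := by
  refine D.cover L hzL ?_
  rcases Int.units_eq_one_or (ψ g).2 with e | e
  · exact ⟨1, by rw [map_one]; exact one_mem _, by rw [map_one]; exact (Prod.ext hg e).symm⟩
  · exact ⟨s, hsL, by rw [hs]; exact (Prod.ext hg e).symm⟩

theorem z_half : z ∈ ((MonoidHom.fst ℤˣ ℤˣ).comp ψ).ker.map κ := by
  obtain ⟨u, hu, huz⟩ := D.hzu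
  exact ⟨u, MonoidHom.mem_ker.2 (by rw [MonoidHom.comp_apply, hu]; rfl), huz⟩

theorem cyclic {s : G} (hs : ψ s = (1, -1)) (h : κ (s * s) ≠ 1) :
    ∃ Φ : Multiplicative (ZMod 4) →* K, Function.Injective Φ ∧
      Φ.range = ((MonoidHom.fst ℤˣ ℤˣ).comp ψ).ker.map κ := by
  have hX : (ψ s).2 = -1 := by rw [hs]
  have hX2 : κ s ^ 2 = z := by
    rw [sq, ← map_mul]
    exact (D.hcases _ (by rw [map_mul, hs]; rfl)).resolve_left h
  have h4 : κ s ^ 4 = 1 := by rw [show (4 : ℕ) = 2 * 2 from rfl, pow_mul, hX2, D.hzz]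
  refine ⟨fourPow _ h4, (injective_iff_map_eq_one _).2 fun i hi => ?_, le_antisymm ?_ ?_⟩
  · obtain ⟨i, rfl⟩ := Multiplicative.ofAdd.surjective i
    have hi' : κ s ^ i.val = 1 := hi
    fin_cases i
    · rfl
    · exact absurd hi' (D.pow_odd_ne hX (j := 1) (by decide))
    · exact absurd (hX2.symm.trans hi') D.hz
    · exact absurd hi' (D.pow_odd_ne hX (j := 3) (by decide))
  · rintro _ ⟨b, rfl⟩
    exact pow_mem (Subgroup.mem_map_of_mem κ (MonoidHom.mem_ker.2 (by rw [MonoidHom.comp_apply, hs]; rfl))) _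
  · rintro _ ⟨g, hg, rfl⟩
    exact D.cover_half hs (MonoidHom.range _) ⟨Multiplicative.ofAdd 1, pow_one _⟩ ⟨Multiplicative.ofAdd 2, hX2⟩ (MonoidHom.mem_ker.1 hg)

theorem klein {s : G} (hs : ψ s = (1, -1)) (h : κ (s * s) = 1) :
    ∃ Φ : Multiplicative (ZMod 2 × ZMod 2) →* K, Function.Injective Φ ∧
      Φ.range = ((MonoidHom.fst ℤˣ ℤˣ).comp ψ).ker.map κ := by
  have hX : (ψ s).2 = -1 := by rw [hs]
  have hX2 : κ s ^ 2 = 1 := by rw [sq, ← map_mul, h]
  refine ⟨kleinPow _ _ hX2 D.hzz (D.hzc s), (injective_iff_map_eq_one _).2 fun i hi => ?_, le_antisymm ?_ ?_⟩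
  · obtain ⟨⟨i, j⟩, rfl⟩ := Multiplicative.ofAdd.surjective i
    have hi' : κ s ^ i.val * z ^ j.val = 1 := hi
    have hne := D.pow_odd_ne hX (j := 1) (by decide)
    fin_cases i <;> fin_cases j
    · rfl
    · have h' : κ s ^ 0 * z ^ 1 = 1 := hi'
      rw [pow_zero, one_mul, pow_one] at h'; exact absurd h' D.hz
    · have h' : κ s ^ 1 * z ^ 0 = 1 := hi'
      rw [pow_zero, mul_one] at h'; exact absurd h' hne
    · exfalso
      have h' : κ s ^ 1 * z ^ 1 = 1 := hi'
      obtain ⟨u, hu, huz⟩ := D.hzu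
      have := congrArg Prod.snd (D.hk (s * u) (by rw [map_mul, huz]; rwa [pow_one, pow_one] at h'))
      rw [map_mul, hs, hu] at this
      exact absurd this (by decide)
  · rintro _ ⟨b, rfl⟩
    exact mul_mem (pow_mem (Subgroup.mem_map_of_mem κ (MonoidHom.mem_ker.2 (by rw [MonoidHom.comp_apply, hs]; rfl))) _)
      (pow_mem D.z_half _)
  · rintro _ ⟨g, hg, rfl⟩
    exact D.cover_half hs (MonoidHom.range _) ⟨Multiplicative.ofAdd (1, 0), by
      show κ s ^ 1 * z ^ 0 = _; rw [pow_one, pow_zero, mul_one]⟩ ⟨Multiplicative.ofAdd (0, 1), by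
      show κ s ^ 0 * z ^ 1 = _; rw [pow_one, pow_zero, one_mul]⟩ (MonoidHom.mem_ker.1 hg)

end QData

end Abstract

/-- Similitudes conjugate reflections to reflections. -/
theorem go_refl_conj {g : GO} {v : ι → F} (hv : Q v ≠ 0) :
    ∃ (w : ι → F) (hw : Q w ≠ 0),
      Q w = (mu g : F) * Q v ∧ g * ogToGO Q (refl hv) = ogToGO Q (refl hw) * g := by
  have hqw := mu_spec g v
  have hw : Q (((g : GL ι F) : Mn) *ᵥ v) ≠ 0 := by rw [hqw]; exact mul_ne_zero (mu g).ne_zero hv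
  refine ⟨_, hw, hqw, go_ext (Matrix.ext_iff_mulVec.2 fun x => ?_)⟩
  show (((g : GL ι F) : Mn) * ogVal (refl hv)) *ᵥ x = (ogVal (refl hw) * ((g : GL ι F) : Mn)) *ᵥ x
  have hpol : QuadraticMap.polar ⇑Q (((g : GL ι F) : Mn) *ᵥ v) (((g : GL ι F) : Mn) *ᵥ x) =
      (mu g : F) * QuadraticMap.polar ⇑Q v x := by
    rw [QuadraticMap.polar, QuadraticMap.polar, ← Matrix.mulVec_add, mu_spec, mu_spec, mu_spec]; ring
  rw [← Matrix.mulVec_mulVec, ← Matrix.mulVec_mulVec, refl_apply, refl_apply, Matrix.mulVec_sub, Matrix.mulVec_smul,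
    hqw, hpol]
  congr 2
  have := (mu g).ne_zero
  field_simp

namespace Ctx

variable (C : Ctx Q n)
include C

theorem exists_fourGroup {g : GO} (hg : sqChar F (mu g) = -1) :
    ∃ φ : pgoAut F ⇑Q →* Multiplicative (ZMod 2 × ZMod 2),
      Function.Surjective φ ∧ φ.ker = (psoAut F ⇑Q).subgroupOf (pgoAut F ⇑Q) := by
  obtain ⟨φ, h1, h2⟩ := exists_onto C.psiBar signPair signPair_bijective.1
    (fun a => MonoidHom.mem_range.2 (signPair_bijective.2 _))
    (fun b => MonoidHom.mem_range.2 (C.psiBar_surjective hg _))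
  exact ⟨φ, h1, h2.trans C.psiBar_ker⟩

omit C in
instance innSub_normal : ((Inn PQ).subgroupOf (pgoAut F ⇑Q)).Normal := by
  haveI : (Inn PQ).Normal := inferInstance
  exact Subgroup.normal_subgroupOf

omit C in
/-- Similitudes modulo inner automorphisms. -/
noncomputable def kap (Q : QuadraticForm F (ι → F)) : Geo.quadSimilarityGroup (F := F) ⇑Q →*
    pgoAut F ⇑Q ⧸ (Inn (POmega F ⇑Q)).subgroupOf (pgoAut F ⇑Q) :=
  (QuotientGroup.mk' _).comp (toPgo Q)

omit C in
theorem kap_eq_one {g : GO} : kap Q g = 1 ↔ goHom Q g ∈ Inn PQ :=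
  (QuotientGroup.eq_one_iff _).trans Subgroup.mem_subgroupOf

omit C in
theorem kap_eq (g : GO) : kap Q g = QuotientGroup.mk' _ (toPgo Q g) := rfl

omit C in
theorem kap_congr {g k : GO} (h : goHom Q g = goHom Q k) : kap Q g = kap Q k := by
  show QuotientGroup.mk' _ (toPgo Q g) = QuotientGroup.mk' _ (toPgo Q k)
  rw [show toPgo Q g = toPgo Q k from Subtype.ext h]

omit C in
theorem kap_surjective : Function.Surjective (kap Q) :=
  (QuotientGroup.mk'_surjective _).comp toPgo_surjective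

omit C in
theorem kap_ker : (kap Q).ker = ((Inn PQ).subgroupOf (pgoAut F ⇑Q)).comap (toPgo Q) := by
  rw [kap, ← MonoidHom.comap_ker, QuotientGroup.ker_mk']

attribute [irreducible] kap

theorem psi_of_kap {g : GO} (h : kap Q g = 1) : C.psi g = 1 := by
  have h1 : toPgo Q g ∈ C.psiBar.ker := by
    rw [C.psiBar_ker, Subgroup.mem_subgroupOf]
    exact C.inn_le_pso (kap_eq_one.1 h)
  rwa [MonoidHom.mem_ker, C.psiBar_apply] at h1

theorem kap_og {h : OG} (hd : (ogVal h).det = 1) (hm : spin (negOne Q) = 1) :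
    kap Q (ogToGO Q h) = 1 ↔ spin h = 1 := by
  rw [kap_eq_one]
  show ogHom Q h ∈ _ ↔ _
  rw [C.og_mem_inn hd, hm]
  exact or_iff_left (by decide)

/-- Above `PSO` there is a single non-trivial class. -/
theorem kap_cases (hm : spin (negOne Q) = 1) {u : OG} (hu : (ogVal u).det = 1) (hus : spin u = -1) {g : GO}
    (hg : C.psi g = 1) : kap Q g = 1 ∨ kap Q g = kap Q (ogToGO Q u) := by
  obtain ⟨h, hd, e⟩ := C.exists_special hg
  have ek : kap Q g = kap Q (ogToGO Q h) := kap_congr e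
  rw [ek]
  rcases Int.units_eq_one_or (spin h) with e1 | e1
  · exact Or.inl ((C.kap_og hd hm).2 e1)
  · right
    have hdd : (ogVal (h⁻¹ * u)).det = 1 := by
      have : (ogVal h⁻¹).det * (ogVal h).det = 1 := by
        rw [← Matrix.det_mul, ← ogVal_mul, inv_mul_cancel, ogVal_one, Matrix.det_one]
      rw [hd, mul_one] at this
      rw [ogVal_mul, Matrix.det_mul, this, hu, one_mul]
    have hs : spin (h⁻¹ * u) = 1 := by
      have h3 := spin_mul C.nd h (h⁻¹ * u)
      rw [mul_inv_cancel_left, hus, e1] at h3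
      rcases Int.units_eq_one_or (spin (h⁻¹ * u)) with e2 | e2
      · exact e2
      · rw [e2] at h3; exact absurd h3 (by decide)
    have := (C.kap_og hdd hm).2 hs
    rw [map_mul, map_inv, map_mul, map_inv, inv_mul_eq_one] at this
    exact this

theorem kap_eq_z (hm : spin (negOne Q) = 1) {u : OG} (hu : (ogVal u).det = 1) (hus : spin u = -1) {g : GO}
    (hg : C.psi g = 1) (h1 : kap Q g ≠ 1) : kap Q g = kap Q (ogToGO Q u) :=
  (C.kap_cases hm hu hus hg).resolve_left h1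

/-- The data of the quotient. -/
theorem data (hm : spin (negOne Q) = 1) : ∃ R z, QData (kap Q) C.psi R z := by
  obtain ⟨v, hv⟩ := exists_anisotropic C.nd C.one_le
  obtain ⟨u, hu, hus⟩ := C.exists_spin_neg
  have hz1 : kap Q (ogToGO Q u) ≠ 1 := fun h => by
    have := (C.kap_og hu hm).1 h
    rw [hus] at this; exact absurd this (by decide)
  have hps : C.psi (ogToGO Q u) = 1 := C.psi_og hu
  refine ⟨ogToGO Q (refl hv), kap Q (ogToGO Q u),
    { hk := fun g => C.psi_of_kap, hR := C.psi_refl hv, hz := hz1, hzu := ⟨_, hps, rfl⟩,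
      hcases := fun g => C.kap_cases hm hu hus, hrr := ?_, hzz := ?_, hzc := fun g => ?_, hcomm := fun s hs => ?_ }⟩
  · rw [← map_mul, ← map_mul, refl_mul_self, map_one, map_one]
  · have hd : (ogVal (u * u)).det = 1 := by rw [ogVal_mul, Matrix.det_mul, hu, one_mul]
    rw [sq, ← map_mul, ← map_mul]
    exact (C.kap_og hd hm).2 (by rw [spin_mul C.nd, hus]; rfl)
  · have h1 : C.psi (g * ogToGO Q u * g⁻¹) = 1 := by rw [map_mul, map_mul, hps, mul_one, map_inv, mul_inv_cancel]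
    have h2 : kap Q (g * ogToGO Q u * g⁻¹) ≠ 1 := by
      rw [map_mul, map_mul, map_inv]; simpa using hz1
    have h3 := C.kap_eq_z hm hu hus h1 h2
    rw [map_mul, map_mul, map_inv, mul_inv_eq_iff_eq_mul] at h3
    exact h3
  · obtain ⟨w, hw, hqw, hc⟩ := go_refl_conj (g := s) hv
    have hsq : ¬ IsSquare (mu s : F) := (sqChar_eq_neg_one_iff _).1 hs
    have e : ogToGO Q (refl hv) * s * ogToGO Q (refl hv) * s⁻¹ = ogToGO Q (refl hv * refl hw) := by
      rw [mul_assoc (ogToGO Q (refl hv)) s, hc, map_mul, ← mul_assoc, mul_inv_cancel_right]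
    rw [← map_inv, ← map_mul, ← map_mul, ← map_mul, e]
    have hd : (ogVal (refl hv * refl hw)).det = 1 := by
      rw [ogVal_mul, Matrix.det_mul, refl_det, refl_det]; ring
    refine C.kap_eq_z hm hu hus (C.psi_og hd) fun h => ?_
    have h' := (C.kap_og hd hm).1 h
    rw [spin_mul C.nd, spin_refl C.nd hv,
      spin_refl C.nd hw, hqw, sqSign_mul (mu s).ne_zero hv, sqSign_of_not hsq] at h'
    rcases Int.units_eq_one_or (sqSign (Q v)) with e | e <;> rw [e] at h' <;> exact absurd h' (by decide)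

/-- The whole quotient is dihedral. -/
theorem exists_dihedral (hm : spin (negOne Q) = 1) {g : GO} (hg : sqChar F (mu g) = -1) :
    ∃ φ : pgoAut F ⇑Q →* DihedralGroup 4,
      Function.Surjective φ ∧ φ.ker = (Inn PQ).subgroupOf (pgoAut F ⇑Q) := by
  obtain ⟨s, hs⟩ := C.exists_psi hg
  obtain ⟨R, z, D⟩ := C.data hm
  obtain ⟨Φ, hΦ, hr⟩ := D.dihedral hs
  obtain ⟨φ, h1, h2⟩ := exists_onto (QuotientGroup.mk' ((Inn PQ).subgroupOf (pgoAut F ⇑Q))) Φ hΦ
    (fun a => by obtain ⟨g', rfl⟩ := toPgo_surjective a; exact kap_eq g' ▸ hr g')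
    (fun b => MonoidHom.mem_range.2 (QuotientGroup.mk'_surjective _ _))
  exact ⟨φ, h1, h2.trans (QuotientGroup.ker_mk' _)⟩

/-- The similitudes of trivial sign. -/
noncomputable def diag : Subgroup (MulAut PQ) :=
  ((MonoidHom.fst ℤˣ ℤˣ).comp C.psi).ker.map (goHom Q)

theorem mem_diag {β : MulAut PQ} : β ∈ C.diag ↔ ∃ g : GO, psgn n g = 1 ∧ goHom Q g = β := Iff.rfl

theorem diag_le : C.diag ≤ pgoAut F ⇑Q := fun β hβ => by
  obtain ⟨g, -, rfl⟩ := C.mem_diag.1 hβ; exact goHom_mem_pgo g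

theorem diag_eq {P : GO → Prop} (hP : ∀ g, P g ↔ psgn n g = 1) :
    autSubgroupOf (fun β : PQ ≃* PQ => ∃ g : GO, P g ∧
      IsInducedBySemilinearPOmega (⇑Q) (g : GL ι F) (RingEquiv.refl F) β) = C.diag := by
  refine le_antisymm ((Subgroup.closure_le _).2 ?_) fun β hβ => ?_
  · rintro β ⟨g, hg, hi⟩
    exact C.mem_diag.2 ⟨g, (hP g).1 hg, ((induced_iff (isPair_refl g.2)).1 hi).symm⟩
  · obtain ⟨g, hg, rfl⟩ := C.mem_diag.1 hβ
    exact Subgroup.subset_closure ⟨g, (hP g).2 hg, poSemi_induced _⟩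

/-- The inclusion into the similitude automorphisms. -/
noncomputable def incl : C.diag →* pgoAut F ⇑Q := Subgroup.inclusion C.diag_le

theorem diag_quot_two (hm : spin (negOne Q) = -1) {g : GO} (hg : sqChar F (mu g) = -1) :
    ∃ φ : C.diag →* Multiplicative (ZMod 2),
      Function.Surjective φ ∧ φ.ker = (Inn PQ).subgroupOf C.diag := by
  have hsur : ∀ b, signOne b ∈ (((MonoidHom.snd ℤˣ ℤˣ).comp C.psiBar).comp C.incl).range := by
    intro b
    obtain ⟨s, hs⟩ := C.exists_psi hg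
    rcases Int.units_eq_one_or (signOne b) with e | e <;> rw [e]
    · exact one_mem _
    · refine ⟨⟨goHom Q s, C.mem_diag.2 ⟨s, (Prod.ext_iff.1 ((C.psi_apply s).symm.trans hs)).1, rfl⟩⟩, ?_⟩
      show (C.psiBar (toPgo Q s)).2 = -1
      rw [C.psiBar_apply, hs]
  obtain ⟨φ, h1, h2⟩ := exists_onto (((MonoidHom.snd ℤˣ ℤˣ).comp C.psiBar).comp C.incl) signOne signOne_bijective.1
    (fun a => MonoidHom.mem_range.2 (signOne_bijective.2 _)) hsur
  refine ⟨φ, h1, h2.trans ?_⟩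
  ext ⟨β, hβ⟩
  obtain ⟨k, hk, rfl⟩ := C.mem_diag.1 hβ
  rw [MonoidHom.mem_ker, Subgroup.mem_subgroupOf, ← C.pso_eq_inn hm]
  show (C.psiBar (toPgo Q k)).2 = 1 ↔ (⟨goHom Q k, goHom_mem_pgo k⟩ : pgoAut F ⇑Q).1 ∈ psoAut F ⇑Q
  rw [← Subgroup.mem_subgroupOf (h := (⟨goHom Q k, goHom_mem_pgo k⟩ : pgoAut F ⇑Q)), ← C.psiBar_ker, MonoidHom.mem_ker]
  show _ ↔ C.psiBar (toPgo Q k) = 1
  rw [C.psiBar_apply, C.psi_apply, Prod.ext_iff]
  exact ⟨fun h => ⟨hk, h⟩, fun h => h.2⟩

theorem diag_quot_of {B : Type*} [Group B] {Φ : B →* pgoAut F ⇑Q ⧸ (Inn PQ).subgroupOf (pgoAut F ⇑Q)}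
    (hΦ : Function.Injective Φ) (hr : Φ.range = ((MonoidHom.fst ℤˣ ℤˣ).comp C.psi).ker.map (kap Q)) :
    ∃ φ : C.diag →* B, Function.Surjective φ ∧ φ.ker = (Inn PQ).subgroupOf C.diag := by
  have hl : ∀ a : C.diag, ((QuotientGroup.mk' _).comp C.incl) a ∈ Φ.range := by
    rintro ⟨β, hβ⟩
    obtain ⟨k, hk, rfl⟩ := C.mem_diag.1 hβ
    rw [hr]
    exact ⟨k, hk, kap_eq k⟩
  have hsur : ∀ b, Φ b ∈ ((QuotientGroup.mk' ((Inn PQ).subgroupOf (pgoAut F ⇑Q))).comp C.incl).range := by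
    intro b
    obtain ⟨k, hk, e⟩ : Φ b ∈ ((MonoidHom.fst ℤˣ ℤˣ).comp C.psi).ker.map (kap Q) := hr ▸ ⟨b, rfl⟩
    exact ⟨⟨goHom Q k, C.mem_diag.2 ⟨k, hk, rfl⟩⟩, (kap_eq k).symm.trans e⟩
  obtain ⟨φ, h1, h2⟩ := exists_onto _ Φ hΦ hl hsur
  refine ⟨φ, h1, h2.trans ?_⟩
  rw [← MonoidHom.comap_ker, QuotientGroup.ker_mk']
  rfl

/-- The inner-diagonal quotient, given the class of a square. -/
theorem diag_quot_cyclic (hm : spin (negOne Q) = 1) {s : GO} (hs : C.psi s = (1, -1)) (h : kap Q (s * s) ≠ 1) :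
    ∃ φ : C.diag →* Multiplicative (ZMod 4), Function.Surjective φ ∧ φ.ker = (Inn PQ).subgroupOf C.diag := by
  obtain ⟨R, z, D⟩ := C.data hm
  obtain ⟨Φ, hΦ, hr⟩ := D.cyclic hs h
  exact C.diag_quot_of hΦ hr

theorem diag_quot_klein (hm : spin (negOne Q) = 1) {s : GO} (hs : C.psi s = (1, -1)) (h : kap Q (s * s) = 1) :
    ∃ φ : C.diag →* Multiplicative (ZMod 2 × ZMod 2),
      Function.Surjective φ ∧ φ.ker = (Inn PQ).subgroupOf C.diag := by
  obtain ⟨R, z, D⟩ := C.data hm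
  obtain ⟨Φ, hΦ, hr⟩ := D.klein hs h
  exact C.diag_quot_of hΦ hr

/-- A product of a reflection with a scalar-square similitude has non-inner square. -/
theorem kap_sq_refl (hm : spin (negOne Q) = 1) {e : GO} (he : C.psi e = (-1, -1)) (h1 : goHom Q (e * e) = 1) :
    ∃ s : GO, C.psi s = (1, -1) ∧ kap Q (s * s) ≠ 1 := by
  obtain ⟨R, z, D⟩ := C.data hm
  refine ⟨R * e, by rw [map_mul, D.hR, he]; rfl, ?_⟩
  have he1 : kap Q e * kap Q e = 1 := by
    rw [← map_mul]; exact kap_eq_one.2 (h1 ▸ one_mem _)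
  have hw := D.hcomm e (by rw [he])
  rw [inv_eq_of_mul_eq_one_right he1] at hw
  rw [map_mul, map_mul, ← mul_assoc, hw]
  exact D.hz

end Ctx

end Cfsg.Agent.Classical.GOQuot
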