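import Cfsg.Agent.Lib.Classical.OrthRel

/-!
Automorphisms of `PΩ(Q)` permute the long root elements and the singular points.
-/

set_option autoImplicit false
set_option linter.unusedSectionVars false
set_option quotPrecheck false

namespace Cfsg.Agent.Classical.OrthAut

open Matrix
open scoped Pointwise

variable {F : Type*} [Field F] [Fintype F] {ι : Type} [Fintype ι] [DecidableEq ι]
  {Q : QuadraticForm F (ι → F)} (p : ℕ) [Fact p.Prime] [CharP F p]

local notation "V" => (ι → F)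
local notation "Mn" => Matrix ι ι F
local notation "B" => QuadraticMap.polar ⇑Q
local notation "OG" => isometryGroup F ⇑Q
local notation "Om" => Omega F ⇑Q
local notation "PQ" => POmega F ⇑Q
local notation "π" => omPi (Q := Q)

variable (hQ : (QuadraticMap.polarBilin Q).Nondegenerate) (hT : Tri Q)
include hQ hT

/-- A `p`-element commuting with the unipotent radicals at `e` and at `e₂` (inside `e`'s). -/
theorem centraliser_radicals {e f e2 f2 : V} (P : Pair Q e f) (P2 : Pair Q e2 f2) (he2 : Perp Q e f e2)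
    (hf2 : Perp Q e f f2) {M : Mn} (hM : ∀ x, Q (M *ᵥ x) = Q x) (hu : Uni p M)
    (h1 : ∀ w, OK Q e w → Commute M (eMat Q e w))
    (h2 : ∀ w, OK Q e2 w → B e w = 0 → Commute M (eMat Q e2 w)) :
    M = 1 ∨ M ∈ rootSet Q := by
  have hinj : ∀ u, M *ᵥ u = 0 → u = 0 := fun u hu => eq_zero_of_polar hQ fun z => by
    rw [← isometry_polar hM u z, hu, QuadraticMap.polar_zero_left]
  have hsurj : Function.Surjective (Matrix.mulVecLin M) :=
    LinearMap.surjective_of_injective ((injective_iff_map_eq_zero (Matrix.mulVecLin M)).2 hinj)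
  have hfix : ∀ w, OK Q e w → eMat Q e w = eMat Q (M *ᵥ e) (M *ᵥ w) := fun w hw => by
    refine Matrix.ext_iff_mulVec.2 fun z => ?_
    obtain ⟨y, rfl⟩ := hsurj z
    have h0 := (h1 w hw).eq
    rw [isometry_eMat hM] at h0
    show eMat Q e w *ᵥ (M *ᵥ y) = _ *ᵥ (M *ᵥ y)
    rw [Matrix.mulVec_mulVec, Matrix.mulVec_mulVec, h0]
  -- the point is fixed
  obtain ⟨s, hs⟩ : ∃ s : F, M *ᵥ e = s • e := by
    have key : ∀ x, TS Q e x → ∃ a b : F, M *ᵥ e = a • e + b • x := fun x hx =>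
      (span_of_eMat_eq hQ hx ⟨by rw [hM, P.1], by rw [isometry_polar hM, hx.2.2.1]⟩
        (fun a b h0 => hx.2.2.2 a b (hinj _ (by
          rw [Matrix.mulVec_add, Matrix.mulVec_smul, Matrix.mulVec_smul, h0]))) (hfix x hx.ok)).1
    obtain ⟨a, b, e1⟩ := key e2 (TS.of_perp P P2.1 he2 P2.ne)
    obtain ⟨a', b', e2'⟩ := key f2 (TS.of_perp P P2.2.1 hf2 P2.symm.ne)
    have h3 := congrArg (B e2) (e1.symm.trans e2')
    simp [QuadraticMap.polar_add_right, QuadraticMap.polar_smul_right, polar_self' P2.1,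
      QuadraticMap.polar_comm _ e2 e, he2.1, P2.2.2] at h3
    exact ⟨a', by rw [e2', ← h3, zero_smul, add_zero]⟩
  have hMe : M *ᵥ e = e := by
    obtain ⟨k, hk⟩ := hu
    have hn : ∀ n : ℕ, M ^ n *ᵥ e = s ^ n • e := fun n => by
      induction n with
      | zero => simp
      | succ n ih => rw [pow_succ', ← Matrix.mulVec_mulVec, ih, Matrix.mulVec_smul, hs, smul_smul, ← pow_succ]
    have h3 := hn (p ^ k)
    rw [hk, Matrix.one_mulVec] at h3
    have h4 : s ^ p ^ k = 1 := by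
      by_contra hne
      have : (s ^ p ^ k - 1) • e = 0 := by rw [sub_smul, one_smul, ← h3, sub_self]
      exact P.ne ((smul_eq_zero.1 this).resolve_left (sub_ne_zero.2 hne))
    rw [hs, iterateFrobenius_inj F p k (show iterateFrobenius F p k s = iterateFrobenius F p k 1 by
      simpa [iterateFrobenius_def] using h4), one_smul]
  set u := proj Q e f (M *ᵥ f) with hudef
  have hu1 : Perp Q e f u := perp_proj P _
  -- modulo `e` it fixes the orthogonal space
  have hmod : ∀ w, B e w = 0 → ∃ t : F, M *ᵥ w = w + t • e := fun w hw => by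
    have h3 := hfix w ⟨P.1, hw⟩
    rw [hMe] at h3
    exact eMat_inj hQ P.ne ⟨P.1, hw⟩ ⟨P.1, by
      have := isometry_polar hM e w
      rw [hMe] at this; rw [this, hw]⟩ h3
  have hMeq : M = eMat Q e u := by
    have hβ : B e (M *ᵥ f) = 1 := by
      have := isometry_polar hM e f
      rwa [hMe, P.2.2] at this
    have hα : B f (M *ᵥ f) = -Q u := by
      have h4 : Q (M *ᵥ f) = 0 := by rw [hM, P.2.1]
      rw [pair_decomp P (M *ᵥ f), hβ, one_smul, ← hudef, quad_add, quad_add, QuadraticMap.map_smul, P.1,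
        P.2.1, QuadraticMap.polar_smul_left, P.2.2, QuadraticMap.polar_add_left,
        QuadraticMap.polar_smul_left, hu1.1, hu1.2] at h4
      simp only [smul_eq_mul] at h4
      linear_combination h4
    have hMf : M *ᵥ f = (-Q u) • e + f + u := by
      rw [pair_decomp P (M *ᵥ f), hα, hβ, one_smul, ← hudef]
    have hMw : ∀ w, Perp Q e f w → M *ᵥ w = w - B u w • e := fun w hw => by
      obtain ⟨t, ht⟩ := hmod w hw.1
      have h3 := isometry_polar hM w f
      rw [ht, hMf] at h3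
      simp [QuadraticMap.polar_add_left, QuadraticMap.polar_smul_left, QuadraticMap.polar_add_right,
        QuadraticMap.polar_smul_right, polar_self' P.1, P.2.2, QuadraticMap.polar_comm _ w e,
        QuadraticMap.polar_comm _ w f, hw.1, hw.2, hu1.1, QuadraticMap.polar_comm _ w u] at h3
      rw [ht]
      linear_combination (norm := module) h3 • e
    refine Matrix.ext_iff_mulVec.2 fun z => ?_
    have hz := perp_proj P z
    rw [pair_decomp P z]
    simp only [Matrix.mulVec_add, Matrix.mulVec_smul, hMe, hMf, hMw _ hz, eMat_mulVec, polar_self' P.1,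
      P.2.2, hz.1, QuadraticMap.polar_comm _ u e, QuadraticMap.polar_comm _ u f, hu1.1, hu1.2]
    module
  -- and `u` lies on `e₂`
  have hue : ∀ w, OK Q e2 w → B e w = 0 → ∃ t : F, eMat Q e2 w *ᵥ u = u + t • e := by
    intro w hw hew
    set N := eMat Q e2 w with hN
    have hNe : N *ᵥ e = e := by
      rw [hN, eMat_mulVec, QuadraticMap.polar_comm _ e2 e, he2.1, QuadraticMap.polar_comm _ w e, hew]
      simp
    have h3 := (h2 w hw hew).eq
    rw [hMeq] at h3
    have h4 : N * eMat Q e u = eMat Q e (N *ᵥ u) * N := by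
      have := isometry_eMat (eMat_quad hw) e u
      rwa [← hN, hNe] at this
    rw [← h3] at h4
    have h5 := congrArg (· * eMat Q e2 (-w)) h4
    have hNinv : eMat Q e2 w * eMat Q e2 (-w) = 1 := by
      rw [eMat_mul hw ⟨P2.1, by simp [hw.2]⟩, add_neg_cancel, eMat_zero]
    simp only [Matrix.mul_assoc, hN, hNinv, Matrix.mul_one] at h5
    have hokN : OK Q e (N *ᵥ u) := ⟨P.1, by
      have := isometry_polar (eMat_quad hw) e u
      rw [← hN, hNe] at this; rw [this, hu1.1]⟩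
    exact eMat_inj hQ P.ne ⟨P.1, hu1.1⟩ hokN h5
  obtain ⟨g, hg0, hg, hge, hg2⟩ := exists_singular_perp2 hQ hT P P2 he2 hf2
  have hc2 : B e2 u = 0 := by
    obtain ⟨t, ht⟩ := hue g ⟨P2.1, hg2.1⟩ hge.1
    rw [eMat_mulVec, hg] at ht
    by_contra hne
    obtain ⟨g', Pg, hge', hg2'⟩ := exists_partner2 hQ P P2 he2 hf2 hge hg2 hg0 hg
    have h3 := congrArg (B g') ht
    simp [QuadraticMap.polar_add_right, QuadraticMap.polar_sub_right, QuadraticMap.polar_smul_right,
      QuadraticMap.polar_comm _ g' g, Pg.2.2, QuadraticMap.polar_comm _ g' e2, hg2'.1,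
      QuadraticMap.polar_comm _ g' e, hge'.1] at h3
    exact hne h3
  have hW : ∀ w, Perp Q e f w → Perp Q e2 f2 w → B w u = 0 := fun w hw hw' => by
    obtain ⟨t, ht⟩ := hue w ⟨P2.1, hw'.1⟩ hw.1
    rw [eMat_mulVec, hc2] at ht
    have h3 := congrArg (B f2) ht
    simp [QuadraticMap.polar_add_right, QuadraticMap.polar_sub_right, QuadraticMap.polar_smul_right,
      QuadraticMap.polar_comm _ f2 e2, P2.2.2, QuadraticMap.polar_comm _ f2 e, hf2.1] at h3
    exact h3
  have hu2 : u = B f2 u • e2 := by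
    refine sub_eq_zero.1 (eq_zero_of_polar hQ fun z => ?_)
    rw [pair_decomp P z, pair_decomp P2 (proj Q e f z)]
    set w := proj Q e2 f2 (proj Q e f z) with hw
    have hw1 : Perp Q e2 f2 w := perp_proj P2 _
    have hw2 : Perp Q e f w := by
      have h := perp_proj P z
      constructor
      · rw [hw, polar_proj ⟨by rw [QuadraticMap.polar_comm]; exact he2.1,
          by rw [QuadraticMap.polar_comm]; exact hf2.1⟩, h.1]
      · rw [hw, polar_proj ⟨by rw [QuadraticMap.polar_comm]; exact he2.2,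
          by rw [QuadraticMap.polar_comm]; exact hf2.2⟩, h.2]
    simp only [QuadraticMap.polar_sub_left, QuadraticMap.polar_smul_left, QuadraticMap.polar_add_right,
      QuadraticMap.polar_smul_right, smul_eq_mul, QuadraticMap.polar_comm _ u e,
      QuadraticMap.polar_comm _ u f, hu1.1, hu1.2, QuadraticMap.polar_comm _ e2 e,
      QuadraticMap.polar_comm _ e2 f, he2.1, he2.2, QuadraticMap.polar_comm _ u e2, hc2,
      QuadraticMap.polar_comm _ u f2, polar_self' P2.1, P2.2.2, hw1.1, QuadraticMap.polar_comm _ u w,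
      hW w hw2 hw1]
    ring
  have h3 : Q u = 0 := by rw [hu2, QuadraticMap.map_smul, P2.1, smul_zero]
  rcases (eMat_mem_iff hQ P.ne (u := u) ⟨P.1, hu1.1⟩).2 h3 with h4 | h4
  · exact Or.inr (hMeq ▸ h4)
  · exact Or.inl (hMeq.trans h4)

/-- The subgroup of the Siegel transformations at `e`, fixing the further vector `d`. -/
def siegelSub (e d : V) (he : Q e = 0) : Subgroup (Omega F ⇑Q) where
  carrier := {s | ∃ w, OK Q e w ∧ B d w = 0 ∧ omVal s = eMat Q e w}
  one_mem' := ⟨0, OK.zero he, by simp, by rw [omVal_one, eMat_zero]⟩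
  mul_mem' := by
    rintro s t ⟨v, hv, hv', hs⟩ ⟨w, hw, hw', ht⟩
    exact ⟨v + w, hv.add hw, by rw [QuadraticMap.polar_add_right, hv', hw', add_zero],
      by rw [omVal_mul, hs, ht, eMat_mul hv hw]⟩
  inv_mem' := by
    rintro s ⟨v, hv, hv', hs⟩
    refine ⟨-v, ⟨he, by simp [hv.2]⟩, by simp [hv'], ?_⟩
    have h1 : omVal s * eMat Q e (-v) = 1 := by
      rw [hs, eMat_mul hv ⟨he, by simp [hv.2]⟩, add_neg_cancel, eMat_zero]
    calc omVal s⁻¹ = omVal s⁻¹ * (omVal s * eMat Q e (-v)) := by rw [h1, Matrix.mul_one]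
      _ = _ := by rw [← Matrix.mul_assoc, omVal_inv_mul, Matrix.one_mul]

omit hQ hT in
theorem isPGroup_siegelSub {e d : V} (he : Q e = 0) : IsPGroup p (siegelSub e d he) := fun s => by
  obtain ⟨w, hw, -, hs⟩ := s.2
  exact ⟨1, Subtype.ext (omVal_ext (by
    rw [pow_one, Subgroup.coe_pow, omVal_pow, hs, eMat_pow_char hw]; rfl))⟩

/-- Automorphisms preserve long root elements. -/
theorem rel_root {β : MulAut PQ} {M N : Mn} (h : Rel p β M N) (hM : M ∈ rootSet Q) : N ∈ rootSet Q := by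
  classical
  haveI := nonempty_index hT
  obtain ⟨a, b, hab, rfl⟩ := hM
  obtain ⟨x, y, hx, hy, hxu, hyu, e0⟩ := id h
  obtain ⟨P, hxP, hcent⟩ := exists_centralised_sylow p hQ hT hab hx
  obtain ⟨e, f, Pe⟩ := exists_basePair hQ hT
  obtain ⟨e2, f2, P2, he2, hf2⟩ := exists_frame hQ hT Pe
  set A := siegelSub (Q := Q) e 0 Pe.1
  set C := siegelSub (Q := Q) e2 e P2.1
  have hnorm : C ≤ Subgroup.normalizer ((A : Subgroup Om) : Set Om) := by
    intro c hc
    obtain ⟨w, hw, hew, hcw⟩ := hc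
    have hce : omVal c *ᵥ e = e := by
      rw [hcw, eMat_mulVec, QuadraticMap.polar_comm _ e2 e, he2.1, QuadraticMap.polar_comm _ w e, hew]
      simp
    have key : ∀ d : Om, omVal d *ᵥ e = e → ∀ s ∈ A, d * s * d⁻¹ ∈ A := by
      rintro d hd s ⟨v, hv, -, hs⟩
      refine ⟨omVal d *ᵥ v, ⟨Pe.1, ?_⟩, by simp, ?_⟩
      · have := isometry_polar (omVal_quad d) e v
        rw [hd] at this; rw [this, hv.2]
      · rw [omVal_mul, omVal_mul, hs, omVal_conj_eMat, hd]
    refine Subgroup.mem_normalizer_iff.2 fun s => ⟨key c hce s, fun hs => ?_⟩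
    have hce' : omVal c⁻¹ *ᵥ e = e := by
      conv_lhs => arg 2; rw [← hce]
      rw [Matrix.mulVec_mulVec, omVal_inv_mul, Matrix.one_mulVec]
    have := key c⁻¹ hce' _ hs
    simpa [mul_assoc] using this
  have hUp : IsPGroup p ((C ⊔ A : Subgroup Om).map π) :=
    ((isPGroup_siegelSub p P2.1).to_sup_of_normal_right' (isPGroup_siegelSub p Pe.1) hnorm).map _
  obtain ⟨S, hS⟩ := hUp.exists_le_sylow
  obtain ⟨R, hR⟩ := (P.2.map β.toMonoidHom).exists_le_sylow
  obtain ⟨g, hg⟩ := MulAction.exists_smul_eq PQ S R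
  have hRmap : (R : Subgroup PQ) = (P : Subgroup PQ).map β.toMonoidHom := (Subgroup.eq_of_le_of_card_ge hR (by
    rw [Subgroup.card_map_of_injective β.injective, Sylow.card_eq_multiplicity,
      Sylow.card_eq_multiplicity])).symm
  obtain ⟨k, hk⟩ := omPi_surjective (Q := Q) g
  set z := k⁻¹ * y * k
  have hzu : Uni p (omVal z) := by
    have := hyu.conj p k⁻¹
    rw [inv_inv, ← hy] at this
    simpa [z] using this
  have hz : ∀ u ∈ C ⊔ A, Commute (omVal z) (omVal u) := by
    intro u hu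
    have h1 : g * π u * g⁻¹ ∈ (R : Subgroup PQ) := by
      rw [← hg]
      show g * π u * g⁻¹ ∈ (MulAut.conj g • (S : Subgroup PQ) : Subgroup PQ)
      exact ⟨π u, hS (Subgroup.mem_map_of_mem _ hu), rfl⟩
    rw [hRmap] at h1
    obtain ⟨w, hw, hwu⟩ := h1
    have h2 : Commute (π y) (g * π u * g⁻¹) := by
      rw [← show β w = g * π u * g⁻¹ from hwu, ← e0]
      exact (hcent w hw).map β.toMonoidHom
    have h3 : Commute (π z) (π u) := by
      have := h2.map (MulAut.conj g⁻¹).toMonoidHom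
      simpa [z, ← hk, mul_assoc] using this
    have h4 : π (u * z * u⁻¹) = π z := by
      rw [map_mul, map_mul, map_inv, ← h3.eq, mul_inv_cancel_right]
    obtain ⟨l, hl⟩ := (omPi_eq_iff hQ hT (p := p)).1 h4
    rw [omVal_mul, omVal_mul] at hl
    have hl1 := smul_uni p (hzu.conj p u) hzu hl
    rw [hl1, one_smul] at hl
    have h5 := congrArg (· * omVal u) hl
    simp only [Matrix.mul_assoc, omVal_inv_mul, Matrix.mul_one] at h5
    exact h5.symm
  rcases centraliser_radicals p hQ hT Pe P2 he2 hf2 (omVal_quad z) hzu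
      (fun w hw => by
        obtain ⟨u, hu⟩ := exists_eOm hQ hT (p := p) hw
        exact hu ▸ hz u (Subgroup.mem_sup_right ⟨w, hw, by simp, hu⟩))
      (fun w hw hew => by
        obtain ⟨u, hu⟩ := exists_eOm hQ hT (p := p) hw
        exact hu ▸ hz u (Subgroup.mem_sup_left ⟨w, hw, hew, hu⟩)) with h1 | h1
  · exfalso
    have hz1 : z = 1 := omVal_ext (h1.trans omVal_one.symm)
    have hy1 : y = 1 := by
      have h2 : k * z * k⁻¹ = y := by simp [z, mul_assoc]
      rw [← h2, hz1]; group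
    rw [hy1, omVal_one] at hy
    subst hy
    exact rootSet_ne_one hQ ⟨a, b, hab, rfl⟩ (Rel.inj p hQ hT h (Rel.one p β))
  · obtain ⟨c, d, hcd, hzE⟩ := h1
    refine ⟨omVal k *ᵥ c, omVal k *ᵥ d, ⟨by rw [omVal_quad]; exact hcd.1,
      by rw [omVal_quad]; exact hcd.2.1, by rw [isometry_polar (omVal_quad k)]; exact hcd.2.2.1,
      fun s t h0 => hcd.2.2.2 s t (omVal_injective k (by
        rw [Matrix.mulVec_add, Matrix.mulVec_smul, Matrix.mulVec_smul, h0]))⟩, ?_⟩
    rw [← hy, ← omVal_conj_eMat, ← hzE, ← omVal_mul, ← omVal_mul]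
    exact congrArg omVal (by simp [z, mul_assoc])

theorem rel_root_iff {β : MulAut PQ} {M N : Mn} (h : Rel p β M N) : M ∈ rootSet Q ↔ N ∈ rootSet Q :=
  ⟨rel_root p hQ hT h, rel_root p hQ hT h.symm⟩

omit hQ hT in
/-- `β` carries the root elements at `e` to those at `e'`. -/
def Img (β : MulAut (POmega F ⇑Q)) (e e' : V) : Prop :=
  ∀ M N, Rel p β M N → (M ∈ thru Q e ↔ N ∈ thru Q e')

theorem rel_near {β : MulAut PQ} {M M' N N' : Mn} (h : Rel p β M N) (h' : Rel p β M' N') :
    Near Q M M' ↔ Near Q N N' := by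
  constructor <;> rintro ⟨hc, hp⟩
  · obtain ⟨hc', hr⟩ := h.commute p hQ hT h' hc
    refine ⟨hc', hp.imp (rel_root p hQ hT hr) fun h1 => ?_⟩
    rw [h1] at hr
    exact hr.unique p hQ hT (Rel.one p β)
  · obtain ⟨hc', hr⟩ := h.symm.commute p hQ hT h'.symm hc
    refine ⟨hc', hp.imp (rel_root p hQ hT hr) fun h1 => ?_⟩
    rw [h1] at hr
    exact hr.unique p hQ hT (Rel.one p _)

theorem rel_nbr {β : MulAut PQ} {M M' N N' : Mn} (h : Rel p β M N) (h' : Rel p β M' N') :
    Nat.card (nbr Q M M') = Nat.card (nbr Q N N') := by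
  classical
  have fwd : ∀ z : nbr Q M M', ∃ w, Rel p β z.1 w := fun z => rel_exists p hQ hT β (pu_rootSet p hQ hT z.2.1)
  choose f hf using fwd
  refine Nat.card_eq_of_bijective (fun z => (⟨f z, rel_root p hQ hT (hf z) z.2.1,
    (rel_near p hQ hT (hf z) h).1 z.2.2.1, (rel_near p hQ hT (hf z) h').1 z.2.2.2⟩ : nbr Q N N')) ⟨?_, ?_⟩
  · intro z z' e
    have e1 : f z = f z' := congrArg Subtype.val e
    exact Subtype.ext (Rel.inj p hQ hT (hf z) (e1 ▸ hf z'))
  · rintro ⟨w, hw, hw1, hw2⟩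
    obtain ⟨z, hz⟩ := rel_exists p hQ hT β⁻¹ (pu_rootSet p hQ hT hw)
    have hz' : Rel p β z w := by simpa using hz.symm
    refine ⟨⟨z, (rel_root_iff p hQ hT hz').2 hw, (rel_near p hQ hT hz' h).2 hw1,
      (rel_near p hQ hT hz' h').2 hw2⟩, Subtype.ext ?_⟩
    exact (hf _).unique p hQ hT hz'

theorem rel_meets {β : MulAut PQ} {M M' N N' : Mn} (h : Rel p β M N) (h' : Rel p β M' N') :
    Meets Q M M' ↔ Meets Q N N' := by
  have key : ∀ {β : MulAut PQ} {M M' N N' : Mn}, Rel p β M N → Rel p β M' N' →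
      Meets Q M M' → Meets Q N N' := by
    intro β M M' N N' h h' hm
    obtain ⟨hc', hr⟩ := h.commute p hQ hT h' hm.1
    refine ⟨hc', ?_⟩
    rcases hm.2 with h1 | h1 | h1
    · exact Or.inl (rel_root p hQ hT hr h1)
    · exact Or.inr (Or.inl ((h1 ▸ hr).unique p hQ hT (Rel.one p β)))
    · exact Or.inr (Or.inr (rel_nbr p hQ hT h h' ▸ h1))
  exact ⟨key h h', key h.symm h'.symm⟩

variable (hG : Good Q)
include hG

/-- Automorphisms permute the singular points. -/
theorem exists_img (β : MulAut PQ) {e : V} (he : e ≠ 0) (hee : Q e = 0) :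
    ∃ e', e' ≠ 0 ∧ Q e' = 0 ∧ Img p β e e' := by
  obtain ⟨w, w', h, h', hww⟩ := exists_skew hQ hT he hee
  have hww0 : B w w' ≠ 0 := by rw [hww]; exact one_ne_zero
  obtain ⟨X, hX⟩ := rel_exists p hQ hT β (pu_eMat p hQ hT h.ok)
  obtain ⟨Y, hY⟩ := rel_exists p hQ hT β (pu_eMat p hQ hT h'.ok)
  have hXr := rel_root p hQ hT hX ⟨e, w, h, rfl⟩
  have hYr := rel_root p hQ hT hY ⟨e, w', h', rfl⟩
  have hm := (rel_meets p hQ hT hX hY).1
    ((meets_iff hQ hG ⟨e, w, h, rfl⟩ ⟨e, w', h', rfl⟩).2 ⟨e, ⟨w, h, rfl⟩, w', h', rfl⟩)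
  obtain ⟨e', ⟨v, hv, rfl⟩, v', hv', rfl⟩ := (meets_iff hQ hG hXr hYr).1 hm
  have hvv : B v v' ≠ 0 := fun h0 => hww0 ((near_thru_iff hQ h h').1
    ((rel_near p hQ hT hX hY).2 ((near_thru_iff hQ hv hv').2 h0)))
  refine ⟨e', hv.left_ne, hv.1, fun M N hMN => ?_⟩
  rw [thru_eq_of_skew hQ hG h h' hww0, thru_eq_of_skew hQ hG hv hv' hvv]
  show _ ∧ _ ∧ _ ↔ _ ∧ _ ∧ _
  rw [rel_root_iff p hQ hT hMN, rel_meets p hQ hT hMN hX, rel_meets p hQ hT hMN hY]

omit hG in
theorem img_parallel {β : MulAut PQ} {e e' e'' : V} (he' : e' ≠ 0) (hee' : Q e' = 0)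
    (h : Img p β e e') (h' : ∀ M N, Rel p β M N → M ∈ thru Q e → N ∈ thru Q e'') :
    ∃ c : F, c ≠ 0 ∧ e'' = c • e' := by
  refine parallel_of_thru_eq hQ hT he' hee' fun N hN => ?_
  obtain ⟨M, hM⟩ := rel_exists p hQ hT β⁻¹ (pu_rootSet p hQ hT (thru_subset hN))
  have hM' : Rel p β M N := by simpa using hM.symm
  exact h' M N hM' ((h M N hM').2 hN)

omit hG in
theorem img_smul {β : MulAut PQ} {e e' : V} (h : Img p β e e') {c : F} (hc : c ≠ 0) : Img p β e (c • e') :=
  fun M N hMN => by rw [thru_smul hc]; exact h M N hMN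

omit hG in
/-- Orthogonality of points is preserved. -/
theorem img_orth {β : MulAut PQ} {a b a' b' : V} (ha : a ≠ 0) (hb : b ≠ 0) (ha' : a' ≠ 0) (hb' : b' ≠ 0)
    (haa : Q a = 0) (hbb : Q b = 0) (haa' : Q a' = 0) (hbb' : Q b' = 0)
    (h : Img p β a a') (h' : Img p β b b') : B a b = 0 ↔ B a' b' = 0 := by
  rw [orth_iff_thru hQ hT ha hb haa hbb, orth_iff_thru hQ hT ha' hb' haa' hbb']
  constructor
  · rintro ⟨M, h1, h2⟩
    obtain ⟨N, hN⟩ := rel_exists p hQ hT β (pu_rootSet p hQ hT (thru_subset h1))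
    exact ⟨N, (h M N hN).1 h1, (h' M N hN).1 h2⟩
  · rintro ⟨N, h1, h2⟩
    obtain ⟨M, hM⟩ := rel_exists p hQ hT β⁻¹ (pu_rootSet p hQ hT (thru_subset h1))
    have hM' : Rel p β M N := by simpa using hM.symm
    exact ⟨M, (h M N hM').2 h1, (h' M N hM').2 h2⟩

end Cfsg.Agent.Classical.OrthAut
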