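import Cfsg.Agent.Lib.Classical.OrthInvolBalance
import Mathlib.RingTheory.Norm.Basic

/-!
Involutory similitude automorphisms of an even-dimensional `PΩ(Q)` whose square is a non-square scalar:
the space over the quadratic extension and the odd core of the centraliser.
-/

set_option autoImplicit false
set_option linter.unusedSectionVars false
set_option quotPrecheck false

namespace Cfsg.Agent.Classical.OrthAut

universe u

open Matrix Module Cfsg.Agent.Classical.Descent

variable {F : Type*} [Field F] [Fintype F] {ι : Type} [Fintype ι] [DecidableEq ι]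
  {Q : QuadraticForm F (ι → F)} {n : ℕ}

local notation "V" => (ι → F)
local notation "Mn" => Matrix ι ι F
local notation "OG" => isometryGroup F ⇑Q
local notation "Om" => Omega F ⇑Q
local notation "GO" => Geo.quadSimilarityGroup (F := F) ⇑Q
local notation "PQ" => POmega F ⇑Q

section Cx

variable {E : Type*} [Field E] [Algebra F E] [Module E (ι → F)] [IsScalarTower F E (ι → F)]

/-- The space as a space over the quadratic extension generated by `g`. -/
structure Cx (g : GL ι F) (lam : F) (α : E) : Prop where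
  sq : α * α = algebraMap F E lam
  ns : ¬ IsSquare lam
  span : ∀ z : E, ∃ c d : F, z = algebraMap F E c + d • α
  act : ∀ v : ι → F, α • v = (g : Matrix ι ι F) *ᵥ v
  dim : finrank F E = 2
  norm : Algebra.norm F α = -lam

variable {g : GL ι F} {lam : F} {α : E} (C : Cx g lam α)
include C

theorem Cx.lam_ne : lam ≠ 0 := fun h => C.ns (h ▸ IsSquare.zero)

theorem Cx.indep {c d c' d' : F} (h : algebraMap F E c + d • α = algebraMap F E c' + d' • α) :
    c = c' ∧ d = d' := by
  have h1 : (d - d') • α = algebraMap F E (c' - c) := by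
    rw [sub_smul, map_sub]; linear_combination h
  by_cases hd : d - d' = 0
  · rw [hd, zero_smul, eq_comm, map_eq_zero, sub_eq_zero] at h1
    exact ⟨h1.symm, sub_eq_zero.1 hd⟩
  · exfalso
    have hα : α = algebraMap F E ((c' - c) / (d - d')) := by
      rw [div_eq_inv_mul, map_mul, ← h1, Algebra.smul_def, ← mul_assoc, ← map_mul, inv_mul_cancel₀ hd, map_one,
        one_mul]
    refine C.ns ⟨(c' - c) / (d - d'), (algebraMap F E).injective ?_⟩
    rw [← C.sq, hα, map_mul]

theorem Cx.eq_zero {c d : F} (h : algebraMap F E c + d • α = 0) : c = 0 ∧ d = 0 :=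
  C.indep (c' := 0) (d' := 0) (by rw [h, map_zero, zero_smul, add_zero])

theorem Cx.smul_eq (c d : F) (v : V) :
    (algebraMap F E c + d • α) • v = c • v + d • ((g : Mn) *ᵥ v) := by
  rw [add_smul, algebraMap_smul, smul_assoc, C.act]

theorem Cx.gg (v : V) : (g : Mn) *ᵥ ((g : Mn) *ᵥ v) = lam • v := by
  rw [← C.act, ← C.act, smul_smul, C.sq, algebraMap_smul]

theorem Cx.finrank_eq (hn : Fintype.card ι = 2 * n) : finrank E V = n := by
  haveI : Module.Finite F E := Module.finite_of_finrank_eq_succ C.dim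
  haveI : Module.Free F E := inferInstance
  haveI : Module.Finite E V := Module.Finite.of_restrictScalars_finite F E V
  haveI : Module.Free E V := inferInstance
  have h := Module.finrank_mul_finrank F E V
  rw [C.dim, Module.finrank_pi, hn] at h
  omega

theorem Cx.det_eq (hn : Fintype.card ι = 2 * n) : (g : Mn).det = (-lam) ^ n := by
  haveI : Module.Finite F E := Module.finite_of_finrank_eq_succ C.dim
  haveI : Module.Finite E V := Module.Finite.of_restrictScalars_finite F E V
  have hr : (α • (LinearMap.id : V →ₗ[E] V)).restrictScalars F = Matrix.mulVecLin (g : Mn) :=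
    LinearMap.ext fun v => C.act v
  rw [show (g : Mn).det = LinearMap.det (Matrix.mulVecLin (g : Mn)) from (LinearMap.det_toLin' _).symm, ← hr,
    LinearMap.det_restrictScalars, LinearMap.det_smul, LinearMap.det_id, mul_one, C.finrank_eq hn, map_pow, C.norm]

/-- The similitude hypothesis. -/
def Cx.Sim (_ : Cx g lam α) (Q : QuadraticForm F (ι → F)) : Prop :=
  ∀ v : ι → F, Q ((g : Matrix ι ι F) *ᵥ v) = lam * Q v

variable (hsim : C.Sim Q)
include hsim

theorem Cx.polar_g (v w : V) :
    QuadraticMap.polar ⇑Q ((g : Mn) *ᵥ v) ((g : Mn) *ᵥ w) = lam * QuadraticMap.polar ⇑Q v w := by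
  simp only [QuadraticMap.polar, ← Matrix.mulVec_add, show ∀ v, Q ((g : Mn) *ᵥ v) = lam * Q v from hsim]
  ring

theorem Cx.selfAdj (v w : V) :
    QuadraticMap.polar ⇑Q ((g : Mn) *ᵥ v) w = QuadraticMap.polar ⇑Q v ((g : Mn) *ᵥ w) := by
  have h := C.polar_g hsim v ((g : Mn) *ᵥ w)
  rw [C.gg, QuadraticMap.polar_smul_right, smul_eq_mul] at h
  exact mul_left_cancel₀ C.lam_ne h

/-- The form over the extension. -/
noncomputable def Cx.form : LinearMap.BilinForm E (ι → F) :=
  let f : V → V → E := fun v w =>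
    algebraMap F E (QuadraticMap.polar ⇑Q v w) + (lam⁻¹ * QuadraticMap.polar ⇑Q ((g : Mn) *ᵥ v) w) • α
  LinearMap.mk₂ E f
    (fun v v' w => by
      simp only [f, QuadraticMap.polar_add_left, Matrix.mulVec_add, map_add, mul_add, add_smul]; abel)
    (fun z v w => by
      obtain ⟨c, d, rfl⟩ := C.span z
      have hl := C.lam_ne
      simp only [f]
      rw [C.smul_eq]
      simp only [QuadraticMap.polar_add_left, QuadraticMap.polar_smul_left, smul_eq_mul,
        Matrix.mulVec_add, Matrix.mulVec_smul, C.gg]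
      simp only [map_add, map_mul, Algebra.smul_def]
      have e : algebraMap F E lam⁻¹ * algebraMap F E lam = 1 := by rw [← map_mul, inv_mul_cancel₀ hl, map_one]
      linear_combination (algebraMap F E d * algebraMap F E (QuadraticMap.polar ⇑Q v w) * α -
        algebraMap F E d * algebraMap F E (QuadraticMap.polar ⇑Q ((g : Mn) *ᵥ v) w)) * e -
        algebraMap F E d * algebraMap F E lam⁻¹ * algebraMap F E (QuadraticMap.polar ⇑Q ((g : Mn) *ᵥ v) w) * C.sq)
    (fun v w w' => by
      simp only [f, QuadraticMap.polar_add_right, map_add, mul_add, add_smul]; abel)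
    (fun z v w => by
      obtain ⟨c, d, rfl⟩ := C.span z
      have hl := C.lam_ne
      simp only [f]
      rw [C.smul_eq]
      simp only [QuadraticMap.polar_add_right, QuadraticMap.polar_smul_right, smul_eq_mul,
        C.polar_g hsim, ← C.selfAdj hsim v w]
      simp only [map_add, map_mul, Algebra.smul_def]
      have e : algebraMap F E lam⁻¹ * algebraMap F E lam = 1 := by rw [← map_mul, inv_mul_cancel₀ hl, map_one]
      linear_combination (algebraMap F E d * algebraMap F E (QuadraticMap.polar ⇑Q v w) * α -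
        algebraMap F E d * algebraMap F E (QuadraticMap.polar ⇑Q ((g : Mn) *ᵥ v) w)) * e -
        algebraMap F E d * algebraMap F E lam⁻¹ * algebraMap F E (QuadraticMap.polar ⇑Q ((g : Mn) *ᵥ v) w) * C.sq)

theorem Cx.form_apply (v w : V) : C.form hsim v w =
    algebraMap F E (QuadraticMap.polar ⇑Q v w) + (lam⁻¹ * QuadraticMap.polar ⇑Q ((g : Mn) *ᵥ v) w) • α := rfl

theorem Cx.sp (hnd : (QuadraticMap.polarBilin Q).Nondegenerate) (h2 : (2 : F) ≠ 0) :
    OneClass.Sp (C.form hsim) := by
  refine ⟨fun v w => ?_, fun v hv => hnd.1 v fun w => ?_, ?_⟩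
  · rw [C.form_apply hsim, C.form_apply hsim, QuadraticMap.polar_comm _ w v, C.selfAdj hsim v w,
      QuadraticMap.polar_comm _ v ((g : Mn) *ᵥ w)]
  · have h := hv w
    rw [C.form_apply hsim] at h
    exact (C.eq_zero h).1
  · rw [← map_ofNat (algebraMap F E)]; exact (map_ne_zero _).2 h2

theorem Cx.form_eq_iff {v w : V} : C.form hsim v v = C.form hsim w w ↔
    QuadraticMap.polar ⇑Q v v = QuadraticMap.polar ⇑Q w w ∧
      QuadraticMap.polar ⇑Q ((g : Mn) *ᵥ v) v = QuadraticMap.polar ⇑Q ((g : Mn) *ᵥ w) w := by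
  rw [C.form_apply hsim, C.form_apply hsim]
  constructor
  · intro h
    obtain ⟨h1, h2⟩ := C.indep h
    exact ⟨h1, mul_left_cancel₀ (inv_ne_zero C.lam_ne) h2⟩
  · rintro ⟨h1, h2⟩; rw [h1, h2]

theorem Cx.form_iso {t : GL ι F} (ht : ∀ v, Q ((t : Mn) *ᵥ v) = Q v)
    (hc : (g : Mn) * (t : Mn) = (t : Mn) * (g : Mn)) (v w : V) :
    C.form hsim ((t : Mn) *ᵥ v) ((t : Mn) *ᵥ w) = C.form hsim v w := by
  rw [C.form_apply hsim, C.form_apply hsim, polar_map ht, Matrix.mulVec_mulVec, hc, ← Matrix.mulVec_mulVec,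
    polar_map ht]

namespace EvenSpace

variable (H : EvenSpace Q n) (h2 : (2 : F) ≠ 0)
include H h2

/-- The reflection over the extension in a vector with non-zero value, as an isometry. -/
theorem cx_refl {a : V} (ha : Q a ≠ 0) :
    ∃ r : OG, (ogVal r).det = 1 ∧ (g : Mn) * ogVal r = ogVal r * (g : Mn) ∧
      (∀ x, ogVal r *ᵥ x = OneClass.refl (C.form hsim) a x) ∧
      ∃ u : Fˣ, (u : F) = lam - (QuadraticMap.polar ⇑Q ((g : Mn) *ᵥ a) a / (2 * Q a)) ^ 2 ∧
        theta Q r = sqChar F u := by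
  set k := QuadraticMap.polar ⇑Q ((g : Mn) *ᵥ a) a / (2 * Q a) with hk
  have h2a : 2 * Q a ≠ 0 := mul_ne_zero h2 ha
  have hkB : QuadraticMap.polar ⇑Q ((g : Mn) *ᵥ a) a = 2 * k * Q a := by rw [hk]; field_simp
  have hu : lam - k ^ 2 ≠ 0 := fun e => C.ns ⟨k, by linear_combination e⟩
  set b := (g : Mn) *ᵥ a - k • a with hb
  have hab : QuadraticMap.polar ⇑Q a b = 0 := by
    rw [hb, QuadraticMap.polar_sub_right, QuadraticMap.polar_smul_right, polar_self2, QuadraticMap.polar_comm,
      hkB, smul_eq_mul]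
    ring
  have hQb : Q b = Q a * (lam - k ^ 2) := by
    rw [hb, sub_eq_add_neg, ← neg_smul, quad_add, QuadraticMap.map_smul, smul_eq_mul,
      QuadraticMap.polar_smul_right, smul_eq_mul, hkB, show Q ((g : Mn) *ᵥ a) = lam * Q a from hsim a]
    ring
  have hb0 : Q b ≠ 0 := by rw [hQb]; exact mul_ne_zero ha hu
  have hact : ∀ x, ogVal (refl ha * refl hb0) *ᵥ x = OneClass.refl (C.form hsim) a x := by
    intro x
    set d := (Q b)⁻¹ * QuadraticMap.polar ⇑Q b x with hd
    have hform : 2 * C.form hsim a x =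
        (algebraMap F E ((Q a)⁻¹ * QuadraticMap.polar ⇑Q a x - k * d) + d • α) * C.form hsim a a := by
      have hbx : QuadraticMap.polar ⇑Q b x = QuadraticMap.polar ⇑Q ((g : Mn) *ᵥ a) x -
          k * QuadraticMap.polar ⇑Q a x := by
        rw [hb, QuadraticMap.polar_sub_left, QuadraticMap.polar_smul_left, smul_eq_mul]
      have hl := C.lam_ne
      rw [C.form_apply hsim, C.form_apply hsim, polar_self2, hkB]
      have e1 : ((Q a)⁻¹ * QuadraticMap.polar ⇑Q a x - k * d) * (2 * Q a) + d * (2 * k * Q a) =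
          2 * QuadraticMap.polar ⇑Q a x := by field_simp; ring
      have e2 : ((Q a)⁻¹ * QuadraticMap.polar ⇑Q a x - k * d) * (lam⁻¹ * (2 * k * Q a)) + d * (2 * Q a) =
          2 * (lam⁻¹ * QuadraticMap.polar ⇑Q ((g : Mn) *ᵥ a) x) := by
        rw [hd, hbx, hQb]; field_simp; ring
      have e1' := congrArg (algebraMap F E) e1
      have e2' := congrArg (algebraMap F E) e2
      have e3 : algebraMap F E lam⁻¹ * algebraMap F E lam = 1 := by rw [← map_mul, inv_mul_cancel₀ hl, map_one]
      simp only [map_add, map_sub, map_mul, map_ofNat, Algebra.smul_def] at e1' e2' ⊢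
      linear_combination (-1 : E) * e1' - α * e2' -
        (algebraMap F E d * (2 * algebraMap F E k * algebraMap F E (Q a))) * e3 -
        (algebraMap F E d * algebraMap F E lam⁻¹ * (2 * algebraMap F E k * algebraMap F E (Q a))) * C.sq
    have haa : C.form hsim a a ≠ 0 := fun h => h2a (by
      rw [C.form_apply hsim] at h
      have h' := (C.eq_zero h).1
      rwa [polar_self2] at h')
    rw [OneClass.refl_apply, hform, mul_div_assoc, div_self haa, mul_one, C.smul_eq, ogVal_mul,
      ← Matrix.mulVec_mulVec, refl_apply hb0, refl_apply, QuadraticMap.polar_sub_right,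
      QuadraticMap.polar_smul_right, hab, smul_zero, sub_zero, ← hd, hb]
    module
  refine ⟨refl ha * refl hb0, by rw [ogVal_mul, Matrix.det_mul, refl_det, refl_det]; ring, ?_, hact,
    Units.mk0 _ hu, rfl, ?_⟩
  · refine Matrix.ext_iff_mulVec.2 fun x => ?_
    rw [← Matrix.mulVec_mulVec, ← Matrix.mulVec_mulVec, hact, hact, ← C.act, ← C.act, map_smul]
  · rw [map_mul, theta_refl_eq h2 H.nd H.tri]
    rw [show Units.mk0 (Q a) ha * (Units.mk0 (Q b) hb0)⁻¹ = (Units.mk0 _ hu)⁻¹ from Units.ext (by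
      simp only [Units.val_mul, Units.val_inv_eq_inv_val, Units.val_mk0, hQb]; field_simp), map_inv,
      Int.units_inv_eq_self]

omit h2 in
theorem cx_refl_smul {e : E} (he : e ≠ 0) (v : V) :
    OneClass.refl (C.form hsim) (e • v) = OneClass.refl (C.form hsim) v := LinearMap.ext fun x => by
  rw [OneClass.refl_apply, OneClass.refl_apply, map_smul, LinearMap.smul_apply, LinearMap.smul_apply, map_smul,
    smul_eq_mul, smul_eq_mul, smul_eq_mul, smul_smul]
  by_cases hv : C.form hsim v v = 0
  · simp [hv]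
  congr 2
  field_simp

/-- Two vectors of one value give an element of `Ω`. -/
theorem cx_pair {v w : V} (hv : C.form hsim v v ≠ 0) (hvw : C.form hsim w w = C.form hsim v v) :
    ∃ s : Om, g * omGL Q s = omGL Q s * g ∧ ∀ x, (omGL Q s : Mn) *ᵥ x =
      (OneClass.refl (C.form hsim) v * OneClass.refl (C.form hsim) w) x := by
  obtain ⟨e, he, hQe⟩ : ∃ e : E, e ≠ 0 ∧ Q (e • v) ≠ 0 := by
    by_cases hQv : Q v = 0
    · have hβ : QuadraticMap.polar ⇑Q ((g : Mn) *ᵥ v) v ≠ 0 := fun h => hv (by
        rw [C.form_apply hsim, h, polar_self2, hQv]; simp)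
      have hQ1 : Q ((algebraMap F E 1 + (1 : F) • α) • v) ≠ 0 := by
        rw [C.smul_eq, one_smul, one_smul, quad_add, hQv, show Q ((g : Mn) *ᵥ v) = lam * Q v from hsim v, hQv,
          mul_zero, add_zero, zero_add, QuadraticMap.polar_comm]
        exact hβ
      exact ⟨_, fun h => hQ1 (by rw [h, zero_smul, QuadraticMap.map_zero]), hQ1⟩
    · exact ⟨1, one_ne_zero, by rwa [one_smul]⟩
  have hval : C.form hsim (e • w) (e • w) = C.form hsim (e • v) (e • v) := by
    simp only [map_smul, LinearMap.smul_apply, hvw]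
  obtain ⟨hval1, hval2⟩ := (C.form_eq_iff hsim).1 hval
  rw [polar_self2, polar_self2] at hval1
  have hQw : Q (e • w) = Q (e • v) := mul_left_cancel₀ h2 hval1
  obtain ⟨r, hr1, hr2, hr3, u, hu, hr4⟩ := H.cx_refl C hsim h2 hQe
  obtain ⟨r', hr1', hr2', hr3', u', hu', hr4'⟩ := H.cx_refl C hsim h2 (a := e • w) (by rw [hQw]; exact hQe)
  have huu : u = u' := Units.ext (by rw [hu, hu', hQw, hval2])
  refine ⟨⟨r * r', (mem_omega_iff h2 H.nd H.tri _).2
    ⟨by rw [ogVal_mul, Matrix.det_mul, hr1, hr1', mul_one], by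
      rw [map_mul, hr4, hr4', huu, Int.units_mul_self]⟩⟩, Units.ext ?_, fun x => ?_⟩
  · show (g : Mn) * ogVal (r * r') = ogVal (r * r') * (g : Mn)
    rw [ogVal_mul, ← mul_assoc, hr2, mul_assoc, hr2', mul_assoc]
  · show ogVal (r * r') *ᵥ x = _
    rw [ogVal_mul, ← Matrix.mulVec_mulVec, hr3', hr3, cx_refl_smul C hsim H he, cx_refl_smul C hsim H he]
    rfl

set_option maxHeartbeats 1000000 in
/-- The odd core when the square of the similitude is a non-square. -/
theorem cx_core (hn : 5 ≤ n) (hgO : g ∈ Geo.quadSimilarityGroup (F := F) ⇑Q)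
    (hord : orderOf (goHom Q ⟨g, hgO⟩) = 2) (hps : psgn n (⟨g, hgO⟩ : GO) = -1)
    {A : Subgroup (MulAut PQ)} (hinn : ∀ k : PQ, MulAut.conj k ∈ A) :
    pPrimeCore 2 ↥(A ⊓ Subgroup.centralizer {goHom Q ⟨g, hgO⟩}) = ⊥ := by
  classical
  haveI : Module.Finite F E := Module.finite_of_finrank_eq_succ C.dim
  haveI : Finite E := Module.finite_of_finite F
  letI : Fintype E := Fintype.ofFinite E
  haveI : Module.Finite E V := Module.Finite.of_restrictScalars_finite F E V
  have hdim := C.finrank_eq (n := n) H.card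
  have hB := C.sp hsim H.nd h2
  -- a vector whose reflection is in `Ω`
  obtain ⟨s₀, t₀, hst⟩ := OddCore.exists_quad h2 (one_ne_zero (α := F)) (one_ne_zero (α := F)) lam
  set z₀ : E := algebraMap F E 2 + (lam⁻¹ * (2 * s₀)) • α with hz₀
  have hz₀ne : z₀ ≠ 0 := fun h => h2 (C.eq_zero h).1
  obtain ⟨a₀, ha₀, -⟩ := OneClass.exists_value_perp hB (S := ∅) (by simp) (by simp) (by simp; omega) z₀
  obtain ⟨ha₀1, ha₀2⟩ := C.indep ((C.form_apply hsim a₀ a₀).symm.trans ha₀)
  rw [polar_self2] at ha₀1
  have hQa₀ : Q a₀ = 1 := mul_left_cancel₀ h2 (ha₀1.trans (mul_one 2).symm)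
  have hk₀ : QuadraticMap.polar ⇑Q ((g : Mn) *ᵥ a₀) a₀ = 2 * s₀ := mul_left_cancel₀ (inv_ne_zero C.lam_ne) ha₀2
  have hRv : ∀ v, C.form hsim v v = z₀ → ∃ s : Om, g * omGL Q s = omGL Q s * g ∧
      ∀ x, (omGL Q s : Mn) *ᵥ x = OneClass.refl (C.form hsim) v x := by
    intro v hv
    obtain ⟨h1, h1'⟩ := (C.form_eq_iff hsim).1 (hv.trans ha₀.symm)
    rw [polar_self2, polar_self2, hQa₀] at h1
    have hQv : Q v = 1 := mul_left_cancel₀ h2 h1
    obtain ⟨r, hr1, hr2, hr3, u, hu, hr4⟩ := H.cx_refl C hsim h2 (a := v) (by rw [hQv]; exact one_ne_zero)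
    have huval : (u : F) = t₀ * t₀ := by
      rw [hu, h1', hk₀, hQv, mul_one, mul_div_assoc, mul_comm, div_mul_cancel₀ _ h2]
      linear_combination -hst
    exact ⟨⟨r, (mem_omega_iff h2 H.nd H.tri _).2 ⟨hr1, by rw [hr4, sqChar_eq_one_iff]; exact ⟨t₀, huval⟩⟩⟩,
      Units.ext hr2, hr3⟩
  refine H.invol_core hord hps ?_ ?_ ?_ hinn
  · obtain ⟨s, hs, hsv⟩ := hRv a₀ ha₀
    refine ⟨s, (H.goHom_fix_iff _ s).2 ⟨1, by rw [one_smul]; exact congrArg Units.val hs⟩, ?_, fun c hc => ?_⟩
    · refine omVal_ext (Matrix.ext_iff_mulVec.2 fun x => ?_)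
      show ((omGL Q (s * s) : GL ι F) : Mn) *ᵥ x = ((omGL Q (1 : Om) : GL ι F) : Mn) *ᵥ x
      rw [map_mul, Units.val_mul, ← Matrix.mulVec_mulVec, hsv, hsv, ← Module.End.mul_apply,
        OneClass.refl_sq _ (by rw [ha₀]; exact hz₀ne), map_one, Units.val_one, Matrix.one_mulVec]
      rfl
    · obtain ⟨z, hz, hz1⟩ := OneClass.exists_value_perp₁ hB (a := a₀) (by rw [ha₀]; exact hz₀ne) (by omega) (1 : E)
      have hzne : z ≠ 0 := fun h => one_ne_zero (α := E) (by rw [← hz, h, map_zero])
      have h1 := hsv z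
      rw [hc, Matrix.smul_mulVec, Matrix.one_mulVec, OneClass.refl_perp _ hz1] at h1
      have hc1 : c = 1 := smul_left_injective F hzne (h1.trans (one_smul F z).symm)
      have h3 := hsv a₀
      rw [hc, hc1, one_smul, Matrix.one_mulVec, OneClass.refl_self _ (by rw [ha₀]; exact hz₀ne)] at h3
      have h4 : (2 : F) • a₀ = 0 := by linear_combination (norm := module) h3
      have h5 : a₀ = 0 := (smul_eq_zero.1 h4).resolve_left h2
      rw [h5, QuadraticMap.map_zero] at hQa₀
      exact zero_ne_one hQa₀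
  · intro β hβ
    obtain ⟨u, τ, h, rfl⟩ := H.exists_poSemi β
    set T := semiAdd u τ with hT
    have hlines : ∀ v, C.form hsim v v ≠ 0 → ∃ a : E, T v = a • v := by
      intro v hv
      obtain ⟨b, hb, hvb⟩ := OneClass.exists_value_perp₁ hB hv (by omega) (C.form hsim v v)
      obtain ⟨c, hc, hvc, hbc⟩ := OneClass.exists_value_perp₂ hB hv (by rw [hb]; exact hv) hvb (by omega)
        (C.form hsim v v)
      have hplane : ∀ w, C.form hsim w w = C.form hsim v v → C.form hsim v w = 0 →
          ∃ s t : E, T v = s • v + t • w := fun w hw hvw => by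
        obtain ⟨s, hs, hsv⟩ := H.cx_pair C hsim h2 hv hw
        obtain ⟨e, he⟩ := H.fix_sign h s (hβ s hs)
        exact OneClass.plane hB (by omega) hv (by rw [hw]; exact hv) hvw T (semiAdd_injective u τ) (ε := e)
          fun x => by rw [← hsv, ← hsv]; exact he x
      obtain ⟨s, t, h1⟩ := hplane b hb hvb
      obtain ⟨s', t', h1'⟩ := hplane c hc hvc
      exact ⟨s, OneClass.line_of_planes (B := C.form hsim) (by rw [hb]; exact hv) (by rw [hB.symm]; exact hvb)
        hbc h1 h1'⟩
    obtain ⟨e, he⟩ := OneClass.scalar_of_lines hB (by omega) LinearMap.id Function.injective_id T hlines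
    have he' : ∀ x, T x = e • x := he
    have ha0ne : a₀ ≠ 0 := fun h0 => by rw [h0, QuadraticMap.map_zero] at hQa₀; exact zero_ne_one hQa₀
    have he0 : e ≠ 0 := fun h0 => ha0ne (semiAdd_injective u τ (by
      rw [← hT, he', h0, zero_smul, map_zero]))
    obtain rfl : τ = 1 := RingEquiv.ext fun t => by
      have h1 := he' (t • a₀)
      rw [hT, semiAdd_smul, ← hT, he', smul_comm e t a₀] at h1
      rw [← algebraMap_smul E (τ t), ← algebraMap_smul E t, smul_smul, smul_smul] at h1
      have h3 := smul_left_injective E ha0ne h1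
      exact (algebraMap F E).injective (mul_right_cancel₀ he0 h3)
    obtain ⟨c, d, rfl⟩ := C.span e
    have hu : ∀ x, (u : Mn) *ᵥ x = c • x + d • ((g : Mn) *ᵥ x) := fun x => by
      rw [← C.smul_eq, ← he']; rfl
    have hcd : c * d = 0 := by
      obtain ⟨x, hx, -⟩ := OneClass.exists_value_perp hB (S := ∅) (by simp) (by simp) (by simp; omega) α
      obtain ⟨hx1, hx2⟩ := C.indep (c' := 0) (d' := 1)
        ((C.form_apply hsim x x).symm.trans (hx.trans (by rw [map_zero, one_smul, zero_add])))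
      rw [polar_self2] at hx1
      have hQx : Q x = 0 := (mul_eq_zero.1 hx1).resolve_left h2
      have e1 := pmul_spec h x
      rw [show (u : Mn) *ᵥ ((1 : RingAut F) ∘ x) = (u : Mn) *ᵥ x from rfl, hu, quad_add, QuadraticMap.map_smul,
        QuadraticMap.map_smul, show Q ((g : Mn) *ᵥ x) = lam * Q x from hsim x, hQx, QuadraticMap.polar_smul_left,
        QuadraticMap.polar_smul_right, QuadraticMap.polar_comm] at e1
      simp only [smul_eq_mul, mul_zero, zero_add, map_zero, add_zero] at e1
      have hne : QuadraticMap.polar ⇑Q ((g : Mn) *ᵥ x) x ≠ 0 := fun h0 => by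
        rw [h0, mul_zero] at hx2; exact zero_ne_one hx2
      rw [← mul_assoc] at e1
      exact (mul_eq_zero.1 e1).resolve_right hne
    rcases mul_eq_zero.1 hcd with rfl | rfl
    · have hu' : (u : Mn) = d • (g : Mn) := Matrix.ext_iff_mulVec.2 fun x => by
        rw [hu, zero_smul, zero_add, Matrix.smul_mulVec]
      have hu'' : u ∈ Geo.quadSimilarityGroup (F := F) ⇑Q := ⟨pmul h, fun v => pmul_spec h v⟩
      have e : (poSemi h : MulAut PQ) = goHom Q ⟨u, hu''⟩ := poSemi_congr _ _ rfl rfl
      refine Subgroup.mem_zpowers_iff.2 ⟨1, ?_⟩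
      rw [zpow_one, e, eq_comm, ← mul_inv_eq_one, ← map_inv, ← map_mul]
      refine goHom_scalar (c := d) ?_
      show (u : Mn) * ((g⁻¹ : GL ι F) : Mn) = _
      rw [hu', Matrix.smul_mul, Units.mul_inv]
    · rw [poSemi_scalar h (c := c) (Matrix.ext_iff_mulVec.2 fun x => by
        rw [hu, zero_smul, add_zero, Matrix.smul_mulVec, Matrix.one_mulVec])]
      exact one_mem _
  · intro S hSQ hSc hSo hSn
    set Z := Subgroup.centralizer ({g} : Set (GL ι F))
    have hgt : ∀ t : Z, (g : Mn) * ((t : GL ι F) : Mn) = ((t : GL ι F) : Mn) * (g : Mn) := fun t =>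
      congrArg Units.val (Subgroup.mem_centralizer_singleton_iff.1 t.2).symm
    let ρ : Z →* Module.End E V :=
      { toFun := fun t =>
          { toFun := fun x => ((t : GL ι F) : Mn) *ᵥ x
            map_add' := Matrix.mulVec_add _
            map_smul' := fun z x => by
              obtain ⟨c, d, rfl⟩ := C.span z
              rw [RingHom.id_apply, C.smul_eq, C.smul_eq, Matrix.mulVec_add, Matrix.mulVec_smul, Matrix.mulVec_smul,
                Matrix.mulVec_mulVec, ← hgt t, ← Matrix.mulVec_mulVec] }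
        map_one' := LinearMap.ext fun x => Matrix.one_mulVec x
        map_mul' := fun a b => LinearMap.ext fun x =>
          (Matrix.mulVec_mulVec x ((a : GL ι F) : Mn) ((b : GL ι F) : Mn)).symm }
    intro t ht
    obtain ⟨e, he⟩ := OneClass.core hB (by omega) (D := fun z => z ≠ 0 ∧ IsSquare (z / z₀))
      ⟨z₀, hz₀ne, by rw [div_self hz₀ne]; exact IsSquare.one⟩ (fun _ hc => hc.1)
      (by
        rintro z s ⟨hz, r, hr⟩ hs
        exact ⟨mul_ne_zero hz (pow_ne_zero 2 hs), r * s, by rw [mul_div_right_comm, hr]; ring⟩)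
      (Or.inl (by omega)) ρ (M := S.subgroupOf Z)
      (fun m hm x y => C.form_iso hsim (hSQ _ hm) (hgt m) x y)
      (by
        rintro a ⟨ha, r, hr⟩
        have hr0 : r ≠ 0 := fun h0 => by
          rw [h0, mul_zero, div_eq_zero_iff] at hr
          exact hr.elim ha hz₀ne
        have hval : C.form hsim (r⁻¹ • a) (r⁻¹ • a) = z₀ := by
          rw [div_eq_iff hz₀ne] at hr
          simp only [map_smul, LinearMap.smul_apply, smul_eq_mul, hr]
          field_simp
        obtain ⟨s, hs, hsv⟩ := hRv _ hval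
        refine ⟨⟨omGL Q s, Subgroup.mem_centralizer_singleton_iff.2 hs.symm⟩, ?_, fun m hm => hSn s hs _ hm⟩
        refine LinearMap.ext fun x => ?_
        show (omGL Q s : Mn) *ᵥ x = _
        rw [hsv, cx_refl_smul C hsim H (inv_ne_zero hr0)])
      (fun m hm => by
        obtain ⟨j, hj, c, hc⟩ := hSo _ hm
        refine ⟨j, hj, algebraMap F E c, LinearMap.ext fun x => ?_⟩
        show (((m : Z) : GL ι F) ^ j : GL ι F).val *ᵥ x = algebraMap F E c • x
        rw [show (((m : Z) : GL ι F) ^ j : GL ι F).val = c • 1 from hc, Matrix.smul_mulVec, Matrix.one_mulVec,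
          algebraMap_smul])
      ⟨t, Subgroup.mem_centralizer_singleton_iff.2 (hSc t ht).symm⟩ ht
    have he' : ∀ x, (t : Mn) *ᵥ x = e • x := fun x => LinearMap.congr_fun he x
    have h1 := C.form_iso hsim (hSQ t ht) (congrArg Units.val (hSc t ht)) a₀ a₀
    rw [he'] at h1
    simp only [map_smul, LinearMap.smul_apply, ha₀, smul_smul, smul_eq_mul] at h1
    have hee : e * e = 1 := mul_right_cancel₀ hz₀ne ((mul_assoc _ _ _).trans (h1.trans (one_mul _).symm))
    rcases mul_self_eq_one_iff.1 hee with rfl | rfl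
    · exact ⟨1, Matrix.ext_iff_mulVec.2 fun x => by rw [he', one_smul, one_smul, Matrix.one_mulVec]⟩
    · exact ⟨-1, Matrix.ext_iff_mulVec.2 fun x => by
        rw [he', neg_one_smul, neg_one_smul, Matrix.neg_mulVec, Matrix.one_mulVec]⟩

end EvenSpace

end Cx

/-- A non-square scalar square root gives the quadratic extension acting on the space. -/
theorem exists_cx {F : Type u} [Field F] [Fintype F] {g : GL ι F} {lam : F} (hns : ¬ IsSquare lam)
    (hgg : (g : Matrix ι ι F) * (g : Matrix ι ι F) = lam • 1) :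
    ∃ (E : Type u) (_ : Field E) (_ : Algebra F E) (_ : Module E (ι → F)) (_ : IsScalarTower F E (ι → F))
      (α : E), Cx g lam α := by
  set f : Polynomial F := Polynomial.X ^ 2 - Polynomial.C lam with hf
  have hdeg : f.natDegree = 2 := by rw [hf]; compute_degree!
  have hmon : f.Monic := by rw [hf]; monicity!
  have hirr : Irreducible f := by
    rw [hmon.irreducible_iff_roots_eq_zero_of_degree_le_three (by rw [hdeg]) (by rw [hdeg]; norm_num)]
    refine Multiset.eq_zero_of_forall_notMem fun t ht => ?_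
    rw [Polynomial.mem_roots hmon.ne_zero, Polynomial.IsRoot] at ht
    exact hns ⟨t, by simp [hf] at ht; linear_combination -ht⟩
  haveI : Fact (Irreducible f) := ⟨hirr⟩
  let φ : AdjoinRoot f →ₐ[F] Module.End F (ι → F) :=
    Ideal.Quotient.liftₐ _ (Polynomial.aeval (Matrix.mulVecLin (g : Matrix ι ι F))) (by
      intro p hp
      obtain ⟨q, rfl⟩ := Ideal.mem_span_singleton.1 hp
      have e : Polynomial.aeval (Matrix.mulVecLin (g : Matrix ι ι F)) f = 0 := by
        rw [hf, map_sub, map_pow, Polynomial.aeval_X, Polynomial.aeval_C, sub_eq_zero]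
        refine LinearMap.ext fun x => ?_
        rw [sq, Module.End.mul_apply, Module.algebraMap_end_apply]
        show (g : Matrix ι ι F) *ᵥ ((g : Matrix ι ι F) *ᵥ x) = _
        rw [Matrix.mulVec_mulVec, hgg, Matrix.smul_mulVec, Matrix.one_mulVec]
      rw [map_mul, e, zero_mul])
  letI : Module (AdjoinRoot f) (ι → F) := Module.compHom _ φ.toRingHom
  haveI : IsScalarTower F (AdjoinRoot f) (ι → F) := ⟨fun c z x => by
    show φ (c • z) x = c • φ z x
    rw [map_smul]; rfl⟩
  refine ⟨AdjoinRoot f, inferInstance, inferInstance, inferInstance, inferInstance, AdjoinRoot.root f, ?_, hns,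
    ?_, fun v => ?_, ?_, ?_⟩
  · have h := AdjoinRoot.aeval_eq (f := f) f
    rw [AdjoinRoot.mk_self] at h
    simp only [hf, map_sub, map_pow, Polynomial.aeval_X, Polynomial.aeval_C, sub_eq_zero] at h
    rw [← sq]; exact h
  · intro z
    obtain ⟨p, rfl⟩ := AdjoinRoot.mk_surjective z
    refine ⟨(p %ₘ f).coeff 0, (p %ₘ f).coeff 1, ?_⟩
    have h1 : AdjoinRoot.mk f p = AdjoinRoot.mk f (p %ₘ f) := by
      rw [AdjoinRoot.mk_eq_mk]
      exact ⟨p /ₘ f, by linear_combination -(Polynomial.modByMonic_add_div p f)⟩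
    have hd : (p %ₘ f).degree ≤ 1 := by
      have h := Polynomial.degree_modByMonic_lt p hmon
      rw [Polynomial.degree_eq_natDegree hmon.ne_zero, hdeg] at h
      exact Order.le_of_lt_succ h
    conv_lhs => rw [h1, Polynomial.eq_X_add_C_of_degree_le_one hd]
    rw [map_add, map_mul, AdjoinRoot.mk_C, AdjoinRoot.mk_X, AdjoinRoot.mk_C, Algebra.smul_def, add_comm]
    rfl
  · show φ (AdjoinRoot.root f) v = _
    rw [show φ (AdjoinRoot.root f) = Polynomial.aeval (Matrix.mulVecLin (g : Matrix ι ι F)) Polynomial.X from rfl,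
      Polynomial.aeval_X]
    rfl
  · rw [(AdjoinRoot.powerBasis hmon.ne_zero).finrank, AdjoinRoot.powerBasis_dim, hdeg]
  · have h := Algebra.PowerBasis.norm_gen_eq_coeff_zero_minpoly (AdjoinRoot.powerBasis hmon.ne_zero)
    rw [AdjoinRoot.powerBasis_gen, AdjoinRoot.powerBasis_dim, hdeg, AdjoinRoot.minpoly_root hmon.ne_zero] at h
    rw [h, hmon.leadingCoeff, inv_one, map_one, mul_one, hf]
    simp

end Cfsg.Agent.Classical.OrthAut
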