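import Cfsg.Agent.Lib.Classical.OrthIsoRealize
import Cfsg.Agent.Lib.Classical.InvolutionSingular
import Cfsg.Agent.Lib.Classical.NonsingularPointDerange

/-! Elements of prime order of `Ω_{2d+1}(q)` fixing totally singular subspaces of a given dimension. -/

set_option autoImplicit false

namespace Cfsg.Agent.OrthIsoDerange

open Polynomial Matrix Module Cfsg.Agent.SelfReciprocalFactors Cfsg.Agent.SelfRecipDivisors
  Cfsg.Agent.UnitaryDetCentralizer Cfsg.Agent.SympIsoDerange Cfsg.Agent.Classical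

variable {F : Type*} [Field F] [Fintype F] {ι : Type} [Fintype ι] [DecidableEq ι]

theorem charpoly_eq {K : Type*} [Field K] {κ : Type*} [Fintype κ] [DecidableEq κ] (M : Matrix κ κ K) :
    LinearMap.charpoly (Matrix.toLinAlgEquiv' M) = M.charpoly := by
  rw [← LinearMap.charpoly_toMatrix _ (Pi.basisFun K κ), LinearMap.toMatrix_eq_toMatrix']
  exact congrArg _ (LinearMap.toMatrix'_toLin' M)

variable (Q : QuadraticForm F (ι → F)) (hQ : (QuadraticMap.polarBilin Q).Nondegenerate) (h2 : (2 : F) ≠ 0)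

include hQ in
/-- The characteristic polynomial of an invariant totally singular subspace. -/
theorem exists_divisor (A : GL ι F) (hA : A ∈ isometryGroup F ⇑Q) {m : ℕ} {W : Submodule F (ι → F)}
    (hWm : finrank F W = m) (hW0 : ∀ w ∈ W, Q w = 0) (hinv : ∀ w ∈ W, (A : Matrix ι ι F) *ᵥ w ∈ W) :
    ∃ D : F[X], D.Monic ∧ D.natDegree = m ∧ D * rdual D ∣ (A : Matrix ι ι F).charpoly := by
  classical
  set g := Matrix.toLin' (A : Matrix ι ι F)
  have hgW : W ≤ W.comap g := fun w hw => by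
    rw [Submodule.mem_comap, Matrix.toLin'_apply]; exact hinv w hw
  have h := IsotropicInvariant.dvd_charpoly (OrthSingularCount.pol Q) hQ g
    (fun u v => by
      show QuadraticMap.polar (⇑Q) (g u) (g v) = QuadraticMap.polar (⇑Q) u v
      simp only [g, Matrix.toLin'_apply, QuadraticMap.polar, ← Matrix.mulVec_add, mem_isometryGroup.1 hA])
    W (fun u hu v hv => OrthSingularCount.polar_zero_of_ts Q hW0 hu hv) hgW
  rw [Matrix.charpoly_toLin'] at h
  exact ⟨_, LinearMap.charpoly_monic _, by rw [LinearMap.charpoly_natDegree, hWm], h⟩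

variable {d : ℕ} (hι : Fintype.card ι = 2 * d + 1)

include hQ h2 hι in
theorem criterion_odd {q m r : ℕ} (hq : Fintype.card F = q) {p : ℕ} [Fact p.Prime] [CharP F p] (hd : 1 ≤ d)
    (hmd : m ≤ d) [hr : Fact r.Prime]
    (hrΩ : r ∣ Nat.card {W : Submodule F (ι → F) // finrank F W = m ∧ ∀ w ∈ W, Q w = 0})
    {i c : ℕ} (hi : i = orderOf (q : ZMod r)) (hc : c = if Even i then i else 2 * i) :
    (∀ x : GL ι F, x ∈ Geo.omegaGL ⇑Q → orderOf x = r →
      ∃ W : Submodule F (ι → F), finrank F ↥W = m ∧ (∀ w ∈ W, Q w = 0) ∧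
        W.map (Matrix.toLin' (x : Matrix ι ι F)) ≤ W) ↔
      ((r = 2 ∧ (m < d ∨ q % 4 = 1)) ∨
        (r ≠ p ∧ 2 < r ∧ i ≤ m ∧ 2 * (m % i) < (2 * d + 1) % c ∧
          (Odd i ∨ (r - 1) / i + 2 * (m / i) ≤ (2 * d + 1) / i))) := by
  classical
  have hinv : ∀ (x : GL ι F) (W : Submodule F (ι → F)), W.map (Matrix.toLin' (x : Matrix ι ι F)) ≤ W ↔
      ∀ w ∈ W, (x : Matrix ι ι F) *ᵥ w ∈ W := fun x W => by
    rw [Submodule.map_le_iff_le_comap]; exact Iff.rfl
  have hV : finrank F (ι → F) = 2 * d + 1 := by rw [Module.finrank_pi, hι]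
  obtain ⟨j, hj1, hj2, hjr⟩ := OrthSingularCount.exists_exponent_odd Q hQ hV hmd hr.out hrΩ
  have hq2 : 2 ≤ q := hq ▸ Fintype.one_lt_card
  have hrp : r ≠ p := by
    intro h
    obtain ⟨e, -, he⟩ := FiniteField.card F p
    have h1 : r ∣ Fintype.card F ^ (2 * j) := dvd_pow (by rw [he, h]; exact dvd_pow_self p e.pos.ne') (by omega)
    have h2 := Nat.dvd_sub h1 hjr
    rw [Nat.sub_sub_self (Nat.one_le_pow _ _ (by omega))] at h2
    exact hr.out.ne_one (Nat.dvd_one.1 h2)
  have hodd : q % 2 = 1 := by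
    rw [← hq]
    refine FiniteField.odd_card_of_char_ne_two fun hch => h2 ?_
    haveI := ringChar.of_eq hch
    exact CharTwo.two_eq_zero
  have hsq : IsSquare (-1 : F) ↔ q % 4 = 1 := by
    rw [FiniteField.isSquare_neg_one_iff, hq]; omega
  rcases eq_or_ne r 2 with hr2 | hr2
  · subst hr2
    constructor
    · intro H
      refine Or.inl ⟨rfl, ?_⟩
      by_contra hcon
      push Not at hcon
      obtain rfl : m = d := by omega
      obtain ⟨g, hgΩ, hgg, hg1, hbad⟩ := InvolutionSingular.exists_bad h2 hQ hι hd fun h => hcon.2 (hsq.1 h)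
      have ho : orderOf (g : GL ι F) = 2 :=
        orderOf_eq_prime (by rw [pow_two, ← Subgroup.coe_mul, hgg]; rfl) fun e => hg1 (Subtype.ext e)
      obtain ⟨W, hW, hW0, hWx⟩ := H g ⟨g, hgΩ, rfl⟩ ho
      exact hbad W hW hW0 ((hinv _ _).1 hWx)
    · intro H x hx ho
      obtain ⟨g, hgΩ, rfl⟩ := hx
      have hgg : g * g = 1 := Subtype.ext (by
        have := pow_orderOf_eq_one ((g : GL ι F))
        rw [show orderOf (g : GL ι F) = 2 from ho, pow_two] at this
        exact this)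
      obtain ⟨W, hW, hW0, hWx⟩ := InvolutionSingular.exists_invariant h2 hQ hι hgg hgΩ hmd
        ((H.elim (fun h => h.2) fun h => absurd h.2.1 (lt_irrefl 2)).imp id hsq.2)
      exact ⟨W, hW, hW0, (hinv _ _).2 hWx⟩
  have hr3 : 2 < r := lt_of_le_of_ne hr.out.two_le (Ne.symm hr2)
  have hr0 : (r : F) ≠ 0 := fun e =>
    hrp ((Nat.prime_dvd_prime_iff_eq (Fact.out : p.Prime) hr.out).1 ((CharP.cast_eq_zero_iff F p r).1 e)).symm
  have hqr : (q : ZMod r) ≠ 0 := by
    intro h
    rw [ZMod.natCast_eq_zero_iff, ← hq] at h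
    obtain ⟨e, -, he⟩ := FiniteField.card F p
    rw [he] at h
    exact hrp ((Nat.prime_dvd_prime_iff_eq hr.out Fact.out).1 (hr.out.dvd_of_dvd_pow h))
  have hir : i ∣ r - 1 := hi ▸ ZMod.orderOf_dvd_card_sub_one hqr
  set t := (r - 1) / i with htdef
  have h : Ctx F r i t := ⟨hr.out, hr2, hr0, by rw [hq, hi], Nat.div_mul_cancel hir⟩
  have hi0 := i_pos h
  have hij : i ∣ 2 * j := by
    rw [hi]
    apply orderOf_dvd_of_pow_eq_one
    rw [← ZMod.natCast_eq_zero_iff, Nat.cast_sub (Nat.one_le_pow _ _ (by omega)), hq, Nat.cast_pow, Nat.cast_one,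
      sub_eq_zero] at hjr
    exact hjr
  have hsmall : ∀ h', (i = h' ∧ Odd i ∨ i = 2 * h') → d % h' < m := by
    intro h' hh
    have hdvd : h' ∣ j := by
      rcases hh with ⟨rfl, ho⟩ | rfl
      · exact (Nat.Coprime.dvd_of_dvd_mul_left (Nat.coprime_two_right.2 ho) hij)
      · exact Nat.dvd_of_mul_dvd_mul_left two_pos hij
    obtain ⟨w, rfl⟩ := hdvd
    have := Nat.mod_le (d - h' * w) h'
    rw [show d = (d - h' * w) + h' * w by omega, Nat.add_mul_mod_self_left]
    omega
  have hcond : Cond i t d m ↔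
      (i ≤ m ∧ 2 * (m % i) < (2 * d + 1) % c ∧ (Odd i ∨ t + 2 * (m / i) ≤ (2 * d + 1) / i)) := by
    rcases Nat.even_or_odd i with he | ho
    · obtain ⟨hh, hhe⟩ := he
      have hie : i = 2 * hh := by omega
      have hno : ¬ Odd i := Nat.not_odd_iff_even.2 ⟨hh, hhe⟩
      rw [hc, if_pos (show Even i from ⟨hh, hhe⟩)]
      have hlt : d % hh < hh := Nat.mod_lt _ (by omega)
      have hdm : 2 * d + 1 = (2 * (d % hh) + 1) + i * (d / hh) := by
        have := Nat.div_add_mod d hh; rw [hie, mul_assoc]; omega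
      have e1 : (2 * d + 1) % i = 2 * (d % hh) + 1 := by
        rw [hdm, Nat.add_mul_mod_self_left, Nat.mod_eq_of_lt (by omega)]
      have e2 : (2 * d + 1) / i = d / hh := by
        rw [hdm, Nat.add_mul_div_left _ _ hi0, Nat.div_eq_of_lt (by omega), zero_add]
      rw [e1, e2]
      constructor
      · intro hC
        obtain ⟨h1, h2⟩ := hC.2 hh hie
        refine ⟨?_, by omega, Or.inr h2⟩
        by_contra hlt
        have := hsmall hh (Or.inr hie)
        rw [Nat.mod_eq_of_lt (by omega)] at h1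
        omega
      · rintro ⟨-, h1, h2⟩
        exact ⟨fun ho => absurd ho hno, fun h' hh' => by
          rw [show h' = hh by omega]; exact ⟨by omega, h2.resolve_left hno⟩⟩
    · rw [hc, if_neg (Nat.not_even_iff_odd.2 ho)]
      have hlt : d % i < i := Nat.mod_lt _ hi0
      have hdm : 2 * d + 1 = (2 * (d % i) + 1) + 2 * i * (d / i) := by
        have := Nat.div_add_mod d i; rw [mul_assoc]; omega
      rw [show (2 * d + 1) % (2 * i) = 2 * (d % i) + 1 by
        rw [hdm, Nat.add_mul_mod_self_left, Nat.mod_eq_of_lt (by omega)]]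
      constructor
      · intro hC
        have h1 := hC.1 ho
        refine ⟨?_, by omega, Or.inl ho⟩
        by_contra hlt
        have := hsmall i (Or.inl ⟨rfl, ho⟩)
        rw [Nat.mod_eq_of_lt (by omega : m < i)] at h1
        omega
      · rintro ⟨-, h1, -⟩
        exact ⟨fun _ => by omega, fun h' hh' => absurd (show Even i from ⟨h', by omega⟩) (Nat.not_even_iff_odd.2 ho)⟩
  constructor
  · intro H
    refine Or.inr ⟨hrp, hr3, hcond.1 ?_⟩
    by_contra hC
    obtain ⟨P, hP, hne, hbad⟩ := SympIsoDerange.exists_bad h hmd (Or.inr hsmall) hC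
    obtain ⟨a, x, hx, hxd, hxP⟩ := SympPrimeOrderClasses.real_selfRecip h hP
    have hP' := OrthPrimeOrderClasses.mul_X_sub_one_mem h hP
    obtain ⟨n, Q₁, g₁, hn₁, hg₁, hgr₁, hgP₁⟩ := OrthPrimeOrderClasses.real_even h hP
    obtain ⟨g, U, hg, hgr, hgP, -, -, -⟩ := OrthIsoRealize.wit_odd h2 (a := d) (m := 0) hP.2.1
      (OrthIsoRealize.realTS_zero ⟨n, Q₁, g₁, hn₁, hg₁, hgr₁, hgP₁⟩) Q hQ hV
    set M := LinearMap.toMatrixAlgEquiv' g
    have hMr : M ^ r = 1 := by rw [← map_pow, hgr, map_one]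
    let A : GL ι F := Units.ofPowEqOne M r hMr hr.out.ne_zero
    have hA : (A : Matrix ι ι F) = M := rfl
    have hAiso : A ∈ isometryGroup F ⇑Q := mem_isometryGroup.2 fun v => by
      show Q (Matrix.toLinAlgEquiv' M v) = _
      rw [Matrix.toLinAlgEquiv'_toMatrixAlgEquiv', hg]
    have hAr : A ^ r = 1 := Units.ext (by rw [Units.val_pow_eq_pow_val, hA, hMr, Units.val_one])
    have hMch : M.charpoly = P * (X - Polynomial.C 1) := by
      rw [← hgP, ← charpoly_eq, Matrix.toLinAlgEquiv'_toMatrixAlgEquiv']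
    have hA1 : A ≠ 1 := fun e => by
      have hM1 : M = 1 := by rw [← hA, e, Units.val_one]
      rw [hM1, Matrix.charpoly_one, hι, pow_succ, ← map_one Polynomial.C] at hMch
      exact hne (mul_right_cancel₀ (X_sub_C_ne_zero (1 : F)) hMch).symm
    obtain ⟨W, hW, hW0, hWx⟩ := H A (NonsingularPointDerange.mem_omegaGL_gen Q hQ (OrthAut.genQ_odd hQ h2) A hAiso
      (hr.out.odd_of_ne_two hr2) hAr) (orderOf_eq_prime hAr hA1)
    obtain ⟨D, hD, hDm, hDd⟩ := exists_divisor Q hQ A hAiso hW hW0 ((hinv _ _).1 hWx)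
    rw [hA, hMch] at hDd
    obtain ⟨N, j', hN, hPN, -⟩ := shape h hP
    rw [hPN] at hDd
    refine hbad D hD ?_ hDm
    rw [hPN]
    refine SelfRecipRealize.dvd_cancel hD (basic_monic h hN).2.2 (fun h0 => ?_) hDd
    obtain ⟨w, hw⟩ := (dvd_mul_right D (rdual D)).trans hDd
    have h1 : M.charpoly.coeff 0 = 0 := by rw [hMch, hPN, hw, mul_coeff_zero, h0, zero_mul]
    have h3 : IsUnit M.det := (Matrix.isUnit_iff_isUnit_det _).1 (hA ▸ A.isUnit)
    rw [Matrix.det_eq_sign_charpoly_coeff, h1, mul_zero] at h3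
    exact not_isUnit_zero h3
  · intro H x hxΩ hxo
    have hC : Cond i t d m := hcond.2 (H.elim (fun h' => absurd h'.1 hr2) fun h' => h'.2.2)
    obtain ⟨g, -, rfl⟩ := hxΩ
    have hgr : g ^ r = 1 := Subtype.ext (by
      have := pow_orderOf_eq_one (g : GL ι F)
      rw [show orderOf (g : GL ι F) = r from hxo] at this
      rw [SubgroupClass.coe_pow]; exact this)
    have hmem : ((g : GL ι F) : Matrix ι ι F).charpoly ∈ selfRecip F r (2 * d + 1) := by
      rw [← hV]
      refine OrthPrimeOrderClasses.spec_subset h Q hQ ⟨Matrix.toLinAlgEquiv' ((g : GL ι F) : Matrix ι ι F),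
        fun v => by rw [Matrix.toLinAlgEquiv'_apply]; exact mem_isometryGroup.1 g.2 v, ?_, charpoly_eq _⟩
      rw [← map_pow, ← Units.val_pow_eq_pow_val, ← SubgroupClass.coe_pow, hgr, OneMemClass.coe_one, Units.val_one,
        map_one]
    obtain ⟨P, hP, hPe⟩ := OrthPrimeOrderClasses.exists_div_X_sub_one h hmem
      (OrthPrimeOrderClasses.eval_one_of_odd h hmem)
    obtain ⟨N, j', hN, hPN, hA⟩ := shape h hP
    obtain ⟨K, hK1, hK2, hK⟩ := (OrthIsoRealize.closed h).split h N hN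
    obtain ⟨e, l, he, hl, hel⟩ := SelfRecipRealize.exists_el hi0 hmd hC hA hK1 hK2
    have hts := hK e he j' l hl
    rw [← hPN, hel] at hts
    have hw := OrthIsoRealize.wit_odd h2 hP.2.1 hts Q hQ hV
    rw [← hPe] at hw
    obtain ⟨W, hW, hW0, hWx⟩ := OrthIsoRealize.exists_invariant h Q hQ g hgr hw
    exact ⟨W, hW, hW0, (hinv _ _).2 hWx⟩

end Cfsg.Agent.OrthIsoDerange
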