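import Cfsg.Agent.Lib.Classical.OrthPrimeOrderClasses
import Cfsg.Agent.Lib.Classical.IsotropicCount
import Cfsg.Agent.Lib.Classical.IsotropicInvariant

/-! Numbers of totally singular subspaces and the primes dividing them. -/

set_option autoImplicit false

namespace Cfsg.Agent.OrthSingularCount

open Module Cfsg.Agent.Fus.FrameCount Cfsg.Agent.Classical Cfsg.Agent.SubspaceCount

variable {F : Type*} [Field F] [Fintype F] {V : Type*} [AddCommGroup V] [Module F V] [FiniteDimensional F V]

/-- An odd dimensional space is similar to the standard one. -/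
theorem exists_odd_equiv {m : ℕ} (hV : finrank F V = 2 * m + 1) (Q : QuadraticForm F V)
    (hn : (QuadraticMap.polarBilin Q).Nondegenerate) :
    ∃ (c : F) (e : (Unit ⊕ (Fin m ⊕ Fin m) → F) ≃ₗ[F] V), c ≠ 0 ∧ ∀ v, Q (e v) = c * qfOdd m F v := by
  classical
  obtain ⟨b, hb0, hb1, hq, hEF, hEE⟩ := exists_odd_basis (m := m) hV Q hn
  set c := Q (b (Sum.inl ()))
  let u : Unit ⊕ (Fin m ⊕ Fin m) → Fˣ := Sum.elim 1 (Sum.elim (fun _ => Units.mk0 c hb0) 1)
  obtain ⟨e, he⟩ : ∃ e : (Unit ⊕ (Fin m ⊕ Fin m) → F) ≃ₗ[F] V, ∀ v, Q (e v) = (c • qfOdd m F) v := by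
    refine exists_isometry_of_bases (Pi.basisFun F _) (b.unitsSMul u) (fun x => ?_) fun x y => ?_
    · simp only [Pi.basisFun_apply, Module.Basis.unitsSMul_apply, Units.smul_def, QuadraticMap.map_smul,
        _root_.QuadraticMap.smul_apply]
      rcases x with x | (x | x)
      · simp [u, c, qfOdd_apply, quadFormOdd]
      · simp [u, (hq x).1, qfOdd_apply, quadFormOdd]
      · simp [u, (hq x).2, qfOdd_apply, quadFormOdd]
    · simp only [Pi.basisFun_apply, Module.Basis.unitsSMul_apply, Units.smul_def, QuadraticMap.polar_smul_left,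
        QuadraticMap.polar_smul_right, FunLike.coe_smul, QuadraticMap.polar_smul, polar_qfOdd]
      rcases x with x | (x | x) <;> rcases y with y | (y | y)
      · simp [u, c, QuadraticMap.polar_self]; ring
      · simp [u, (hb1 y).1, Pi.single_apply]
      · simp [u, (hb1 y).2, Pi.single_apply]
      · simp [u, QuadraticMap.polar_comm _ (b (Sum.inr _)) (b (Sum.inl _)), (hb1 x).1, Pi.single_apply]
      · simp [u, (hEE x y).1, Pi.single_apply]
      · simp [u, hEF x y, Pi.single_apply, eq_comm]
      · simp [u, QuadraticMap.polar_comm _ (b (Sum.inr _)) (b (Sum.inl _)), (hb1 x).2, Pi.single_apply]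
      · simp [u, QuadraticMap.polar_comm _ (b (Sum.inr (Sum.inr x))) (b (Sum.inr (Sum.inl y))), hEF y x,
          Pi.single_apply, eq_comm]
      · simp [u, (hEE x y).2, Pi.single_apply]
  exact ⟨c, e, hb0, fun v => by rw [he, _root_.QuadraticMap.smul_apply, smul_eq_mul]⟩

theorem zeros_odd {m : ℕ} (hV : finrank F V = 2 * m + 1) (Q : QuadraticForm F V)
    (hn : (QuadraticMap.polarBilin Q).Nondegenerate) :
    Nat.card {v // Q v = 0} = Fintype.card F ^ (2 * m) := by
  obtain ⟨c, e, hc, he⟩ := exists_odd_equiv hV Q hn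
  rw [← zeros_congr e (Q := c • qfOdd m F) (fun v => by rw [he, _root_.QuadraticMap.smul_apply, smul_eq_mul]) 0,
    ← zeros_qfOdd m]
  exact Nat.card_congr (Equiv.subtypeEquivRight fun v => by
    rw [_root_.QuadraticMap.smul_apply, smul_eq_mul, mul_eq_zero, or_iff_right hc])

/-- Zeros of an even dimensional space, off the origin. -/
theorem zeros_even {m : ℕ} (hV : finrank F V = 2 * (m + 1)) (Q : QuadraticForm F V)
    (hn : (QuadraticMap.polarBilin Q).Nondegenerate) :
    (EvenType.Plus Q → (Nat.card {v // Q v = 0} : ℤ) =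
      ((Fintype.card F : ℤ) ^ (m + 1) - 1) * ((Fintype.card F : ℤ) ^ m + 1) + 1) ∧
    (¬ EvenType.Plus Q → (Nat.card {v // Q v = 0} : ℤ) =
      ((Fintype.card F : ℤ) ^ (m + 1) + 1) * ((Fintype.card F : ℤ) ^ m - 1) + 1) := by
  have hq : (Fintype.card F : ℤ) ≠ 0 := Nat.cast_ne_zero.2 Fintype.card_ne_zero
  rcases EvenType.exists_std hn hV with ⟨hp, e, he⟩ | ⟨hp, ζ, e, hζ, he⟩
  · refine ⟨fun _ => mul_right_cancel₀ hq ?_, fun h => absurd hp h⟩
    rw [← zeros_congr e he 0, zeros_qfPlus]
    ring
  · refine ⟨fun h => absurd h hp, fun _ => ?_⟩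
    rw [← zeros_congr e he 0, zeros_qfMinus m (EvenType.aniso_one hζ)]
    ring

variable (Q : QuadraticForm F V) (hQ : (QuadraticMap.polarBilin Q).Nondegenerate)

/-- The relation whose frames are the bases of totally singular subspaces. -/
noncomputable def sRel : V → V → F := by
  classical exact fun u v => if u = v then Q u else QuadraticMap.polar (⇑Q) u v

/-- The polar form as a bilinear form. -/
noncomputable def pol : LinearMap.BilinForm F V := QuadraticMap.polarBilin Q

theorem sRel_self (u : V) : sRel Q u u = Q u := by simp [sRel]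

theorem sRel_ne {u v : V} (h : u ≠ v) : sRel Q u v = QuadraticMap.polar (⇑Q) u v := by simp [sRel, h]

theorem sRel_refl (u v : V) (h : sRel Q u v = 0) : sRel Q v u = 0 := by
  rcases eq_or_ne u v with rfl | hne
  · exact h
  · rw [sRel_ne Q hne.symm, QuadraticMap.polar_comm]
    rwa [sRel_ne Q hne] at h

theorem polar_zero_of_ts {W : Submodule F V} (hW : ∀ w ∈ W, Q w = 0) {u v : V} (hu : u ∈ W) (hv : v ∈ W) :
    QuadraticMap.polar (⇑Q) u v = 0 := by
  rw [QuadraticMap.polar, hW _ (W.add_mem hu hv), hW u hu, hW v hv, sub_zero, sub_zero]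

theorem span_ts {k : ℕ} (f : Frame F (sRel Q) k) : ∀ w ∈ Submodule.span F (Set.range f.1), Q w = 0 := by
  have hp : ∀ i j, QuadraticMap.polar (⇑Q) (f.1 i) (f.1 j) = 0 := by
    intro i j
    rcases eq_or_ne i j with rfl | hne
    · have h := f.2.2 i i
      rw [sRel_self] at h
      rw [QuadraticMap.polar_self, h, smul_zero]
    · rw [← sRel_ne Q fun e => hne (f.2.1.injective e)]
      exact f.2.2 i j
  have hs := IsotropicInvariant.span_iso (B := QuadraticMap.polarBilin Q) (s := Set.range f.1) (by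
    rintro _ ⟨i, rfl⟩ _ ⟨j, rfl⟩; exact hp i j)
  intro w hw
  induction hw using Submodule.span_induction with
  | mem w hw => obtain ⟨i, rfl⟩ := hw; rw [← sRel_self]; exact f.2.2 i i
  | zero => exact QuadraticMap.map_zero Q
  | add a b ha hb h1 h2 =>
    rw [QuadraticMap.map_add (⇑Q), h1, h2, show QuadraticMap.polar (⇑Q) a b = 0 from hs a ha b hb, add_zero, add_zero]
  | smul c a _ h1 => rw [QuadraticMap.map_smul, h1, smul_zero]

theorem card_frame_eq [Finite V] (k : ℕ) :
    Nat.card (Frame F (sRel Q) k) =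
      Nat.card {W : Submodule F V // finrank F W = k ∧ ∀ w ∈ W, Q w = 0} *
        ∏ i : Fin k, (Fintype.card F ^ k - Fintype.card F ^ (i : ℕ)) := by
  classical
  haveI : Finite (Submodule F V) := Finite.of_injective SetLike.coe SetLike.coe_injective
  let S := {W : Submodule F V // finrank F W = k ∧ ∀ w ∈ W, Q w = 0}
  haveI := Fintype.ofFinite S
  let φ : Frame F (sRel Q) k → S := fun f =>
    ⟨Submodule.span F (Set.range f.1), by rw [finrank_span_eq_card f.2.1, Fintype.card_fin], span_ts Q f⟩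
  have hfib : ∀ W : S, Nat.card {f // φ f = W} = ∏ i : Fin k, (Fintype.card F ^ k - Fintype.card F ^ (i : ℕ)) := by
    intro W
    rw [← card_bases W.1 W.2.1]
    refine Nat.card_congr
      { toFun := fun f => ⟨f.1.1, f.1.2.1, fun i => by
          rw [← show Submodule.span F (Set.range f.1.1) = W.1 from congrArg Subtype.val f.2]
          exact Submodule.subset_span ⟨i, rfl⟩⟩
        invFun := fun f => ⟨⟨f.1, f.2.1, fun i j => by
            rcases eq_or_ne (f.1 i) (f.1 j) with e | e
            · rw [e, sRel_self]; exact W.2.2 _ (f.2.2 j)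
            · rw [sRel_ne Q e]; exact polar_zero_of_ts Q W.2.2 (f.2.2 i) (f.2.2 j)⟩,
          Subtype.ext (span_eq_of_frame W.2.1 f.2.1 f.2.2)⟩
        left_inv := fun f => rfl
        right_inv := fun f => rfl }
  rw [← Nat.card_congr (Equiv.sigmaFiberEquiv φ), Nat.card_sigma, Finset.sum_congr rfl fun W _ => hfib W,
    Finset.sum_const, Finset.card_univ, Nat.card_eq_fintype_card (α := S), smul_eq_mul]

include hQ in
/-- Splitting off a totally singular subspace. -/
theorem exists_anisotropic_part {k : ℕ} {W : Submodule F V} (hWk : finrank F W = k) (hW : ∀ w ∈ W, Q w = 0) :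
    ∃ (A C : Submodule F V), EvenType.Split Q A C ∧ EvenType.Plus (EvenType.res Q A) ∧
      finrank F A = 2 * k ∧ 2 * k + finrank F C = finrank F V ∧
      Nat.card {x // x ∈ (pol Q).orthogonal W ∧ Q x = 0} =
        Fintype.card F ^ k * Nat.card {c : C // EvenType.res Q C c = 0} := by
  set B := pol Q
  have hn' : B.Nondegenerate := hQ
  have hWO : W ≤ B.orthogonal W := fun v hv n hn => polar_zero_of_ts Q hW hn hv
  have hsym : B.IsRefl := fun u v h => by
    show QuadraticMap.polar (⇑Q) v u = 0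
    rw [QuadraticMap.polar_comm]; exact h
  obtain ⟨C', hC'⟩ := Submodule.exists_isCompl (W.comap (B.orthogonal W).subtype)
  set C := C'.map (B.orthogonal W).subtype
  have hCO : C ≤ B.orthogonal W := Submodule.map_subtype_le _ _
  have hsup : W ⊔ C = B.orthogonal W := by
    have h := congrArg (Submodule.map (B.orthogonal W).subtype) hC'.sup_eq_top
    rwa [Submodule.map_sup, Submodule.map_comap_subtype, inf_eq_right.2 hWO, Submodule.map_subtype_top] at h
  have hdisj : W ⊓ C = ⊥ := by
    rw [Submodule.eq_bot_iff]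
    rintro x ⟨hxW, ⟨y, hy, rfl⟩⟩
    have : y ∈ W.comap (B.orthogonal W).subtype ⊓ C' := ⟨hxW, hy⟩
    rw [hC'.inf_eq_bot, Submodule.mem_bot] at this
    rw [this]; rfl
  have hOO : B.orthogonal (B.orthogonal W) = W := LinearMap.BilinForm.orthogonal_orthogonal hQ hsym W
  have hndC : (B.restrict C).Nondegenerate := by
    have key : ∀ x : C, (∀ y : C, B (x : V) y = 0) → x = 0 := by
      intro x hx
      have h1 : (x : V) ∈ B.orthogonal (B.orthogonal W) := by
        intro n hn
        show B n (x : V) = 0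
        rw [← hsup] at hn
        obtain ⟨w, hw, c, hc, rfl⟩ := Submodule.mem_sup.1 hn
        have h2 : B w (x : V) = 0 := hCO x.2 w hw
        have h3 : B c (x : V) = 0 := hsym _ _ (hx ⟨c, hc⟩)
        rw [map_add, LinearMap.add_apply, h2, h3, add_zero]
      rw [hOO] at h1
      have h2 : (x : V) ∈ W ⊓ C := ⟨h1, x.2⟩
      rw [hdisj, Submodule.mem_bot] at h2
      exact Subtype.ext h2
    exact ⟨key, fun y hy => key y fun x => hsym _ _ (hy x)⟩
  have hcompl := LinearMap.BilinForm.isCompl_orthogonal_of_restrict_nondegenerate hsym hndC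
  set A := B.orthogonal C
  have hsplit : EvenType.Split Q A C :=
    ⟨by rw [sup_comm]; exact hcompl.sup_eq_top, by rw [inf_comm]; exact hcompl.inf_eq_bot,
      fun a ha c hc => hsym _ _ (ha c hc)⟩
  have hCd : k + finrank F C = finrank F V - k := by
    have h := Submodule.finrank_sup_add_finrank_inf_eq W C
    rw [hsup, hdisj, finrank_bot, LinearMap.BilinForm.finrank_orthogonal hn', hWk] at h
    omega
  have hkV : 2 * k ≤ finrank F V := by
    have h := Submodule.finrank_mono hWO
    rw [LinearMap.BilinForm.finrank_orthogonal hn', hWk] at h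
    omega
  have hWA : W ≤ A := fun w hw c hc => hsym _ _ (hCO hc w hw)
  have hAd := hsplit.dim
  refine ⟨A, C, hsplit, ⟨W.comap A.subtype, fun u hu => hW _ hu, ?_⟩, by omega, by omega, ?_⟩
  · rw [LinearEquiv.finrank_eq (Submodule.comapSubtypeEquivOfLe hWA), hWk]; omega
  · have hq : ∀ w ∈ W, ∀ c ∈ C, Q (w + c) = Q c := fun w hw c hc => by
      rw [QuadraticMap.map_add (⇑Q), hW w hw, zero_add,
        show QuadraticMap.polar (⇑Q) w c = 0 from hCO hc w hw, add_zero]
    let e : W × {c : C // EvenType.res Q C c = 0} → {x // x ∈ B.orthogonal W ∧ Q x = 0} := fun p =>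
      ⟨(p.1 : V) + (p.2.1 : V), Submodule.add_mem _ (hWO p.1.2) (hCO p.2.1.2),
        by rw [hq _ p.1.2 _ p.2.1.2]; exact p.2.2⟩
    have he : Function.Bijective e := by
      constructor
      · intro p p' h
        have h' : (p.1 : V) + p.2.1 = p'.1 + p'.2.1 := congrArg Subtype.val h
        have h2 : (p.1 : V) - p'.1 ∈ W ⊓ C := ⟨W.sub_mem p.1.2 p'.1.2, by
          rw [show (p.1 : V) - p'.1 = p'.2.1 - p.2.1 from by linear_combination (norm := abel) h']
          exact C.sub_mem p'.2.1.2 p.2.1.2⟩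
        rw [hdisj, Submodule.mem_bot, sub_eq_zero] at h2
        refine Prod.ext (Subtype.ext h2) (Subtype.ext (Subtype.ext ?_))
        rw [h2] at h'
        exact add_left_cancel h'
      · rintro ⟨x, hxO, hx0⟩
        rw [← hsup] at hxO
        obtain ⟨w, hw, c, hc, rfl⟩ := Submodule.mem_sup.1 hxO
        exact ⟨(⟨w, hw⟩, ⟨⟨c, hc⟩, (hq w hw c hc).symm.trans hx0⟩), rfl⟩
    rw [← Nat.card_congr (Equiv.ofBijective e he), Nat.card_prod, Module.natCard_eq_pow_finrank (K := F), hWk,
      Nat.card_eq_fintype_card]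

include hQ in
theorem card_ext {k : ℕ} (f : Frame F (sRel Q) k) {Z : ℕ}
    (hZ : ∀ (A C : Submodule F V), EvenType.Split Q A C → EvenType.Plus (EvenType.res Q A) →
      finrank F A = 2 * k → 2 * k + finrank F C = finrank F V → Nat.card {c : C // EvenType.res Q C c = 0} = Z) :
    Nat.card (Ext F (sRel Q) f.1) = Fintype.card F ^ k * (Z - 1) := by
  classical
  haveI : Finite V := Module.finite_of_finite F
  set W := Submodule.span F (Set.range f.1) with hWdef
  have hW := span_ts Q f
  have hWk : finrank F W = k := by rw [hWdef, finrank_span_eq_card f.2.1, Fintype.card_fin]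
  obtain ⟨A, C, hsp, hp, hA, hC, hcard⟩ := exists_anisotropic_part Q hQ hWk hW
  rw [hZ A C hsp hp hA hC] at hcard
  set S : Set V := {x | x ∈ (pol Q).orthogonal W ∧ Q x = 0}
  have hiff : ∀ x, x ∉ W → ((∀ i, sRel Q x (f.1 i) = 0) ↔ x ∈ (pol Q).orthogonal W) := by
    intro x hx
    have hne : ∀ i, x ≠ f.1 i := fun i e => hx (e ▸ Submodule.subset_span ⟨i, rfl⟩)
    constructor
    · intro h n hn
      have h1 : W ≤ LinearMap.ker ((pol Q).flip x) := Submodule.span_le.2 (by
        rintro _ ⟨i, rfl⟩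
        exact (QuadraticMap.polar_comm _ _ _).trans ((sRel_ne Q (hne i)).symm.trans (h i)))
      exact h1 hn
    · intro h i
      rw [sRel_ne Q (hne i), QuadraticMap.polar_comm]
      exact h _ (Submodule.subset_span ⟨i, rfl⟩)
  have e : Ext F (sRel Q) f.1 ≃ (S \ (W : Set V) : Set V) :=
    Equiv.subtypeEquivRight fun x => by
      simp only [Set.mem_sdiff, SetLike.mem_coe, S, Set.mem_setOf_eq, sRel_self]
      exact ⟨fun h => ⟨⟨(hiff x h.1).1 h.2.1, h.2.2⟩, h.1⟩, fun h => ⟨h.2, (hiff x h.2).2 h.1.1, h.1.2⟩⟩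
  have hWS : (W : Set V) ⊆ S := fun w hw => ⟨fun n hn => polar_zero_of_ts Q hW hn hw, hW w hw⟩
  rw [Nat.card_congr e, Nat.card_coe_set_eq, Set.ncard_sdiff hWS (Set.toFinite _),
    show S.ncard = Fintype.card F ^ k * Z from hcard, ← Nat.card_coe_set_eq,
    show Nat.card ((W : Set V) : Type _) = Fintype.card F ^ k by
      rw [← hWk, ← Nat.card_eq_fintype_card]; exact Module.natCard_eq_pow_finrank (K := F),
    Nat.mul_sub, mul_one]

/-- Reading off an exponent from a frame count `∏ q ^ i * g i`. -/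
theorem exists_factor {q r k N : ℕ} (hq : 2 ≤ q) (hr : r.Prime) (hN : r ∣ N) (g : ℕ → ℕ)
    (h : N * ∏ i ∈ Finset.range k, (q ^ k - q ^ i) = ∏ i ∈ Finset.range k, (q ^ i * g i)) :
    ∃ i < k, r ∣ g i := by
  rw [Finset.prod_mul_distrib, Finset.prod_pow_eq_pow_sum, IsotropicCount.prod_bases, mul_left_comm] at h
  have h' := Nat.eq_of_mul_eq_mul_left (pow_pos (by omega) _) h
  obtain ⟨i, hi, hd⟩ := (Nat.prime_iff.1 hr).exists_mem_finset_dvd (h' ▸ hN.mul_right (qfact q k))
  exact ⟨i, Finset.mem_range.1 hi, hd⟩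

include hQ in
theorem card_frame (g : ℕ → ℕ) (k : ℕ)
    (hg : ∀ j < k, ∀ (A C : Submodule F V), EvenType.Split Q A C → EvenType.Plus (EvenType.res Q A) →
      finrank F A = 2 * j → 2 * j + finrank F C = finrank F V → Nat.card {c : C // EvenType.res Q C c = 0} = g j + 1) :
    Nat.card (Frame F (sRel Q) k) = ∏ i ∈ Finset.range k, (Fintype.card F ^ i * g i) := by
  haveI : Finite V := Module.finite_of_finite F
  induction k with
  | zero => rw [card_frame_zero, Finset.prod_range_zero]
  | succ k ih =>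
    rw [card_frame_succ _ (sRel_refl Q) k (Fintype.card F ^ k * g k)
      (fun f => by rw [card_ext Q hQ f (hg k k.lt_succ_self), Nat.add_sub_cancel]),
      ih (fun j hj => hg j (hj.trans k.lt_succ_self)), Finset.prod_range_succ]

include hQ in
theorem exists_factor_of_dvd (g : ℕ → ℕ) {k r : ℕ} (hr : r.Prime)
    (hg : ∀ j < k, ∀ (A C : Submodule F V), EvenType.Split Q A C → EvenType.Plus (EvenType.res Q A) →
      finrank F A = 2 * j → 2 * j + finrank F C = finrank F V → Nat.card {c : C // EvenType.res Q C c = 0} = g j + 1)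
    (h : r ∣ Nat.card {W : Submodule F V // finrank F W = k ∧ ∀ w ∈ W, Q w = 0}) : ∃ i < k, r ∣ g i := by
  haveI : Finite V := Module.finite_of_finite F
  refine exists_factor (Fintype.one_lt_card (α := F)) hr h g ?_
  rw [← card_frame Q hQ g k hg, card_frame_eq Q k, Finset.prod_range]

include hQ in
/-- A prime dividing the number of totally singular `k`-spaces in odd dimension. -/
theorem exists_exponent_odd {d k r : ℕ} (hV : finrank F V = 2 * d + 1) (hk : k ≤ d) (hr : r.Prime)
    (h : r ∣ Nat.card {W : Submodule F V // finrank F W = k ∧ ∀ w ∈ W, Q w = 0}) :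
    ∃ j, d - k < j ∧ j ≤ d ∧ r ∣ Fintype.card F ^ (2 * j) - 1 := by
  obtain ⟨i, hi, hd⟩ := exists_factor_of_dvd Q hQ (fun i => Fintype.card F ^ (2 * (d - i)) - 1) hr
    (fun j hj A C hsp _ _ hC => by
      rw [zeros_odd (m := d - j) (by omega) _ (hsp.symm.nondeg_left hQ)]
      exact (Nat.sub_add_cancel (Nat.one_le_pow _ _ Fintype.card_pos)).symm) h
  exact ⟨d - i, by omega, by omega, hd⟩

include hQ in
/-- A prime dividing the number of totally singular `k`-spaces in even dimension; `ε` is the type. -/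
theorem exists_exponent_even {d k r : ℕ} (hV : finrank F V = 2 * d) (hk : k < d ∨ (k = d ∧ EvenType.Plus Q))
    (hr : r.Prime) (h : r ∣ Nat.card {W : Submodule F V // finrank F W = k ∧ ∀ w ∈ W, Q w = 0}) :
    ∃ j, d - k < j ∧ j ≤ d ∧
      ((EvenType.Plus Q ∧ (r ∣ Fintype.card F ^ j - 1 ∨ r ∣ Fintype.card F ^ (j - 1) + 1)) ∨
        (¬ EvenType.Plus Q ∧ (r ∣ Fintype.card F ^ j + 1 ∨ r ∣ Fintype.card F ^ (j - 1) - 1))) := by
  have hq1 : ∀ n : ℕ, 1 ≤ Fintype.card F ^ n := fun n => Nat.one_le_pow _ _ Fintype.card_pos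
  by_cases hp : EvenType.Plus Q
  · obtain ⟨i, hi, hd⟩ := exists_factor_of_dvd Q hQ
      (fun i => (Fintype.card F ^ (d - i) - 1) * (Fintype.card F ^ (d - i - 1) + 1)) hr (fun j hj A C hsp hA hAd hC => by
        have hm : finrank F C = 2 * ((d - j - 1) + 1) := by omega
        have hC' : EvenType.Plus (EvenType.res Q C) := by
          by_contra hne
          exact hsp.plus_minus hQ hA hm hne hp
        have hz := (zeros_even hm _ (hsp.symm.nondeg_left hQ)).1 hC'
        rw [show d - j - 1 + 1 = d - j by omega] at hz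
        zify [hq1 (d - j)]
        exact hz) h
    refine ⟨d - i, by omega, by omega, Or.inl ⟨hp, ?_⟩⟩
    exact hr.dvd_mul.1 hd
  · have hkd : k < d := hk.resolve_right fun h => hp h.2
    obtain ⟨i, hi, hd⟩ := exists_factor_of_dvd Q hQ
      (fun i => (Fintype.card F ^ (d - i) + 1) * (Fintype.card F ^ (d - i - 1) - 1)) hr (fun j hj A C hsp hA hAd hC => by
        have hm : finrank F C = 2 * ((d - j - 1) + 1) := by omega
        have hC' : ¬ EvenType.Plus (EvenType.res Q C) := fun hne => hp (hsp.plus_plus hA hne)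
        have hz := (zeros_even hm _ (hsp.symm.nondeg_left hQ)).2 hC'
        rw [show d - j - 1 + 1 = d - j by omega] at hz
        zify [hq1 (d - j - 1)]
        exact hz) h
    refine ⟨d - i, by omega, by omega, Or.inr ⟨hp, ?_⟩⟩
    exact hr.dvd_mul.1 hd

end Cfsg.Agent.OrthSingularCount
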