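import Cfsg.Agent.Lib.Classical.SelfRecipRealize
import Cfsg.Agent.Lib.Classical.OrthSingularCount

/-! Realisations of characteristic polynomials by isometries fixing totally singular subspaces. -/

set_option autoImplicit false
set_option linter.unusedSectionVars false

namespace Cfsg.Agent.OrthIsoRealize

open Polynomial Module Cfsg.Agent.UnitaryDetCentralizer Cfsg.Agent.SelfReciprocalFactors Cfsg.Agent.Classical
  Cfsg.Agent.OrthPrimeOrderClasses

variable {F : Type*} [Field F]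

/-- An isometry of `Q` killed by `r`, with characteristic polynomial `P` and an invariant totally singular
`m`-space. -/
def Wit {V : Type*} [AddCommGroup V] [Module F V] [FiniteDimensional F V] (r : ℕ) (Q : QuadraticForm F V)
    (P : F[X]) (m : ℕ) : Prop :=
  ∃ (g : Module.End F V) (W : Submodule F V), (∀ v, Q (g v) = Q v) ∧ g ^ r = 1 ∧ g.charpoly = P ∧
    finrank F W = m ∧ (∀ w ∈ W, Q w = 0) ∧ ∀ w ∈ W, g w ∈ W

/-- Some non-degenerate space has a witness. -/
def RealTS (F : Type*) [Field F] (r : ℕ) (P : F[X]) (m : ℕ) : Prop :=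
  ∃ (n : ℕ) (Q : QuadraticForm F (Fin n → F)), (QuadraticMap.polarBilin Q).Nondegenerate ∧ Wit r Q P m

section Transport

variable {V W : Type*} [AddCommGroup V] [Module F V] [FiniteDimensional F V] [AddCommGroup W] [Module F W]
  [FiniteDimensional F W] {r : ℕ}

theorem Wit.transport {Q : QuadraticForm F V} {Q' : QuadraticForm F W} (φ : V ≃ₗ[F] W) {c : F} (hc : c ≠ 0)
    (hφ : ∀ v, Q' (φ v) = c * Q v) {P : F[X]} {m : ℕ} (h : Wit r Q P m) : Wit r Q' P m := by
  obtain ⟨g, U, hg, hr, hP, hU, hU0, hgU⟩ := h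
  obtain ⟨h1, h2, h3⟩ := OrthPrimeOrderClasses.transport φ hc hφ hg hr
  refine ⟨_, U.map φ.toLinearMap, h1, h2, h3.trans hP, by rw [LinearEquiv.finrank_map_eq, hU], ?_, ?_⟩
  · rintro _ ⟨u, hu, rfl⟩
    show Q' (φ u) = 0
    rw [hφ, hU0 u hu, mul_zero]
  · rintro _ ⟨u, hu, rfl⟩
    exact ⟨g u, hgU u hu, by simp [LinearEquiv.conj_apply_apply]⟩

theorem realTS_of (Q : QuadraticForm F V) (hQ : (QuadraticMap.polarBilin Q).Nondegenerate) {P : F[X]} {m : ℕ}
    (h : Wit r Q P m) : RealTS F r P m := by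
  let φ := (Module.finBasis F V).equivFun
  have hn : (QuadraticMap.polarBilin (Q.comp φ.symm.toLinearMap)).Nondegenerate := by
    refine nondegenerate_of_separatingLeft _ fun u hu => φ.symm.map_eq_zero_iff.1 (hQ.1 _ fun z => ?_)
    have h := hu (φ z)
    simp only [QuadraticMap.polarBilin_apply_apply, QuadraticMap.polar, QuadraticMap.comp_apply,
      LinearEquiv.coe_coe, map_add, φ.symm_apply_apply] at h ⊢
    exact h
  exact ⟨_, _, hn, h.transport φ one_ne_zero
    (fun v => by rw [one_mul, QuadraticMap.comp_apply, LinearEquiv.coe_coe, φ.symm_apply_apply])⟩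

theorem Wit.prod {Q : QuadraticForm F V} {Q' : QuadraticForm F W} {P P' : F[X]} {m m' : ℕ}
    (h : Wit r Q P m) (h' : Wit r Q' P' m') : Wit r (Q.prod Q') (P * P') (m + m') := by
  obtain ⟨g, U, hg, hr, hP, hU, hU0, hgU⟩ := h
  obtain ⟨g', U', hg', hr', hP', hU', hU0', hgU'⟩ := h'
  obtain ⟨h1, h2, h3⟩ := OrthPrimeOrderClasses.prod_isometry hg hg' hr hr'
  refine ⟨_, U.prod U', h1, h2, by rw [h3, hP, hP'], by rw [SympIsoDerange.finrank_sub_prod, hU, hU'], ?_, ?_⟩
  · rintro ⟨u, v⟩ ⟨hu, hv⟩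
    rw [QuadraticMap.prod_apply, hU0 u hu, hU0' v hv, add_zero]
  · rintro ⟨u, v⟩ ⟨hu, hv⟩
    exact ⟨hgU u hu, hgU' v hv⟩

theorem wit_id (Q : QuadraticForm F V) : Wit r Q ((X - Polynomial.C 1) ^ finrank F V) 0 :=
  ⟨1, ⊥, fun v => rfl, one_pow r, by rw [LinearMap.charpoly_one, map_one], finrank_bot F V,
    fun w hw => by rw [(Submodule.mem_bot F).1 hw, QuadraticMap.map_zero], fun w hw => hw⟩

end Transport

variable {r i t : ℕ}

theorem realTS_mul {P Q : F[X]} {m k : ℕ} (hP : RealTS F r P m) (hQ : RealTS F r Q k) :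
    RealTS F r (P * Q) (m + k) := by
  obtain ⟨n, A, hA, hw⟩ := hP
  obtain ⟨n', A', hA', hw'⟩ := hQ
  exact realTS_of _ (nondegenerate_prod hA hA') (hw.prod hw')

theorem realTS_zero {P : F[X]} (h : OrthPrimeOrderClasses.Real F r P) : RealTS F r P 0 := by
  obtain ⟨n, Q, g, hn, hg, hr, hP⟩ := h
  exact ⟨n, Q, hn, g, ⊥, hg, hr, hP, finrank_bot F _,
    fun w hw => by rw [(Submodule.mem_bot F).1 hw, QuadraticMap.map_zero], fun w hw => by
      rw [(Submodule.mem_bot F).1 hw, map_zero]; exact Submodule.zero_mem _⟩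

theorem wit_pair {f : F[X]} (hf : f.Monic) (hd : f ∣ X ^ r - 1) (h0 : f.coeff 0 ≠ 0) :
    RealTS F r (f * rdual f) f.natDegree := by
  classical
  let pb := AdjoinRoot.powerBasis' hf
  set A := Algebra.leftMulMatrix pb.basis pb.gen
  have hgen : pb.gen = AdjoinRoot.root f := AdjoinRoot.powerBasis'_gen hf
  have hA : A.charpoly = f := by
    rw [charpoly_leftMulMatrix, hgen, AdjoinRoot.minpoly_root hf.ne_zero, hf.leadingCoeff, inv_one, map_one, mul_one]
  obtain ⟨G, hG⟩ : IsUnit A := by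
    rw [Matrix.isUnit_iff_isUnit_det, isUnit_iff_ne_zero, Matrix.det_eq_sign_charpoly_coeff, hA]
    exact mul_ne_zero (pow_ne_zero _ (neg_ne_zero.2 one_ne_zero)) h0
  have hGr : G ^ r = 1 := by
    obtain ⟨w, hw⟩ := hd
    have hz : pb.gen ^ r = 1 := by
      have := congrArg (AdjoinRoot.mk f) hw
      rw [map_mul, AdjoinRoot.mk_self, zero_mul, map_sub, map_pow, AdjoinRoot.mk_X, map_one] at this
      rw [hgen]; exact sub_eq_zero.1 this
    exact Units.ext (by rw [Units.val_pow_eq_pow_val, hG, ← map_pow, hz, map_one, Units.val_one])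
  have hpd : pb.dim = f.natDegree := AdjoinRoot.powerBasis'_dim hf
  let M : Matrix (Fin pb.dim ⊕ Fin pb.dim) (Fin pb.dim ⊕ Fin pb.dim) F :=
    (Classical.sympLevi pb.dim G : Matrix (Fin pb.dim ⊕ Fin pb.dim) (Fin pb.dim ⊕ Fin pb.dim) F)
  have hM : M = Matrix.fromBlocks (G : Matrix (Fin pb.dim) (Fin pb.dim) F) 0 0
      (Matrix.transpose ((G⁻¹ : GL (Fin pb.dim) F) : Matrix (Fin pb.dim) (Fin pb.dim) F)) := rfl
  have hMv : ∀ x y : Fin pb.dim → F, Matrix.toLinAlgEquiv' M (Sum.elim x y) =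
      Sum.elim (Matrix.mulVec (G : Matrix (Fin pb.dim) (Fin pb.dim) F) x)
        (Matrix.mulVec (Matrix.transpose ((G⁻¹ : GL (Fin pb.dim) F) : Matrix (Fin pb.dim) (Fin pb.dim) F)) y) :=
    fun x y => by
      rw [Matrix.toLinAlgEquiv'_apply, hM, Matrix.fromBlocks_mulVec]
      simp
  refine realTS_of (qfPlus pb.dim F) (nondegenerate_qfPlus _) ⟨Matrix.toLinAlgEquiv' M,
    LinearMap.ker (LinearMap.funLeft F F (Sum.inr : Fin pb.dim → Fin pb.dim ⊕ Fin pb.dim)), ?_, ?_, ?_, ?_, ?_, ?_⟩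
  · intro v
    obtain ⟨x, y, rfl⟩ : ∃ x y, v = Sum.elim x y := ⟨v ∘ Sum.inl, v ∘ Sum.inr, (Sum.elim_comp_inl_inr v).symm⟩
    rw [hMv]
    simp only [qfPlus_apply, quadFormPlus, Sum.elim_inl, Sum.elim_inr]
    show dotProduct _ _ = dotProduct x y
    rw [Matrix.mulVec_transpose, dotProduct_comm, ← Matrix.dotProduct_mulVec,
      Matrix.mulVec_mulVec, ← Units.val_mul, inv_mul_cancel, Units.val_one, Matrix.one_mulVec, dotProduct_comm]
  · rw [← map_pow, ← SubmonoidClass.coe_pow, ← map_pow, hGr, map_one, OneMemClass.coe_one, map_one]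
  · rw [← LinearMap.charpoly_toMatrix _ (Pi.basisFun F _), LinearMap.toMatrix_eq_toMatrix',
      show LinearMap.toMatrix' (Matrix.toLinAlgEquiv' M) = M from LinearMap.toMatrix'_toLin' M, hM,
      Matrix.charpoly_fromBlocks_zero₁₂, SympPrimeOrderClasses.charpoly_invTranspose, hG, hA]
  · have h1 := (LinearMap.funLeft F F (Sum.inr : Fin pb.dim → Fin pb.dim ⊕ Fin pb.dim)).finrank_range_add_finrank_ker
    rw [LinearMap.range_eq_top.2 (LinearMap.funLeft_surjective_of_injective F F _ Sum.inr_injective), finrank_top,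
      Module.finrank_fintype_fun_eq_card, Module.finrank_fintype_fun_eq_card, Fintype.card_sum, Fintype.card_fin] at h1
    omega
  · intro w hw
    simp only [qfPlus_apply, quadFormPlus]
    refine Finset.sum_eq_zero fun k _ => ?_
    rw [show w (Sum.inr k) = 0 from congrFun (LinearMap.mem_ker.1 hw) k, mul_zero]
  · intro w hw
    have h2 : w ∘ Sum.inr = (0 : Fin pb.dim → F) := LinearMap.mem_ker.1 hw
    rw [← Sum.elim_comp_inl_inr w, hMv, h2, Matrix.mulVec_zero]
    exact LinearMap.mem_ker.2 rfl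

variable [Fintype F]

theorem closed (h : Ctx F r i t) : SelfRecipRealize.Closed (RealTS F r) r i where
  one := by simpa using realTS_zero (OrthPrimeOrderClasses.real_one_pow (F := F) r 0)
  mul := realTS_mul
  pair hf hd h0 := ⟨wit_pair hf hd h0, realTS_zero (OrthPrimeOrderClasses.real_pair hf hd h0)⟩
  self he f hf := realTS_zero (OrthPrimeOrderClasses.real_self h hf he)

theorem natDegree_of_wit {V : Type*} [AddCommGroup V] [Module F V] [FiniteDimensional F V] {Q : QuadraticForm F V}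
    {P : F[X]} {m : ℕ} (h : Wit r Q P m) : finrank F V = P.natDegree := by
  obtain ⟨g, -, -, -, hP, -⟩ := h
  rw [← hP, LinearMap.charpoly_natDegree]

/-- Realisation in a given odd dimensional space. -/
theorem wit_odd (h2 : (2 : F) ≠ 0) {P : F[X]} {a m : ℕ} (hdeg : P.natDegree = 2 * a) (hP : RealTS F r P m)
    {V : Type*} [AddCommGroup V] [Module F V] [FiniteDimensional F V] (Q : QuadraticForm F V)
    (hQ : (QuadraticMap.polarBilin Q).Nondegenerate) (hV : finrank F V = 2 * a + 1) :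
    Wit r Q (P * (X - Polynomial.C 1)) m := by
  obtain ⟨n, A, hA, hw⟩ := hP
  let Q₂ : QuadraticForm F F := QuadraticMap.sq
  have hQ₂ : (QuadraticMap.polarBilin Q₂).Nondegenerate := by
    refine nondegenerate_of_separatingLeft _ fun u hu => ?_
    have h1 := hu 1
    simp [Q₂, QuadraticMap.polar] at h1
    refine (mul_eq_zero.1 (show (2 : F) * u = 0 by linear_combination h1)).resolve_left h2
  have hw' := hw.prod (wit_id (r := r) Q₂)
  rw [Module.finrank_self, pow_one, Nat.add_zero] at hw'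
  have hn : finrank F ((Fin n → F) × F) = 2 * a + 1 := by
    rw [Module.finrank_prod, natDegree_of_wit hw, hdeg, Module.finrank_self]
  obtain ⟨c, e, hc, he⟩ := OrthSingularCount.exists_odd_equiv hn _ (nondegenerate_prod hA hQ₂)
  obtain ⟨c', e', hc', he'⟩ := OrthSingularCount.exists_odd_equiv hV Q hQ
  refine hw'.transport (e.symm.trans e') (c := c' / c) (div_ne_zero hc' hc) fun v => ?_
  have h1 := he (e.symm v)
  rw [e.apply_symm_apply] at h1
  rw [LinearEquiv.trans_apply, he', h1, ← mul_assoc, div_mul_cancel₀ _ hc]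

/-- A witness for one element gives invariant subspaces for all with the same characteristic polynomial. -/
theorem exists_invariant (h : Ctx F r i t) {ι : Type} [Fintype ι] [DecidableEq ι] (Q : QuadraticForm F (ι → F))
    (hQ : (QuadraticMap.polarBilin Q).Nondegenerate) (A : isometryGroup F ⇑Q) (hA : A ^ r = 1) {m : ℕ}
    (hw : Wit r Q ((A : GL ι F) : Matrix ι ι F).charpoly m) :
    ∃ W : Submodule F (ι → F), finrank F W = m ∧ (∀ w ∈ W, Q w = 0) ∧
      ∀ w ∈ W, Matrix.mulVec ((A : GL ι F) : Matrix ι ι F) w ∈ W := by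
  classical
  obtain ⟨g, U, hg, hr, hP, hU, hU0, hgU⟩ := hw
  set M := LinearMap.toMatrixAlgEquiv' g
  have hMv : ∀ v, Matrix.mulVec M v = g v := fun v => by
    show Matrix.toLinAlgEquiv' M v = _
    rw [Matrix.toLinAlgEquiv'_toMatrixAlgEquiv']
  have hMr : M ^ r = 1 := by rw [← map_pow, hr, map_one]
  obtain ⟨u, hu⟩ : IsUnit M := ⟨Units.ofPowEqOne M r hMr h.prime.ne_zero, rfl⟩
  have hmem : u ∈ isometryGroup F ⇑Q := mem_isometryGroup.2 fun x => by rw [hu, hMv, hg]
  have hBr : (⟨u, hmem⟩ : isometryGroup F ⇑Q) ^ r = 1 :=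
    Subtype.ext (Units.ext (by rw [SubgroupClass.coe_pow, Units.val_pow_eq_pow_val, hu, hMr]; rfl))
  have hch : M.charpoly = g.charpoly := by
    rw [← LinearMap.charpoly_toMatrix g (Pi.basisFun F ι), LinearMap.toMatrix_eq_toMatrix']
    rfl
  obtain ⟨C, hC⟩ := isConj_iff.1 (OrthPrimeOrderClasses.isometry_isConj h Q hQ ⟨u, hmem⟩ A hBr hA
    (by show (u : Matrix ι ι F).charpoly = _; rw [hu, hch, hP]))
  set T := Matrix.toLinAlgEquiv' ((C : GL ι F) : Matrix ι ι F)
  have hT : ∀ v, T v = Matrix.mulVec ((C : GL ι F) : Matrix ι ι F) v := fun v => Matrix.toLinAlgEquiv'_apply _ _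
  refine ⟨U.map T, ?_, ?_, ?_⟩
  · rw [← hU]
    refine (Submodule.equivMapOfInjective T (fun a b e => ?_) U).finrank_eq.symm
    have := congrArg (Matrix.mulVec ((C⁻¹ : isometryGroup F ⇑Q) : GL ι F).val) e
    simpa [hT, Matrix.mulVec_mulVec, ← Units.val_mul] using this
  · rintro _ ⟨w, hw, rfl⟩
    rw [hT, mem_isometryGroup.1 C.2 w, hU0 w hw]
  · rintro _ ⟨w, hw, rfl⟩
    refine ⟨g w, hgU w hw, ?_⟩
    have e : C * ⟨u, hmem⟩ = A * C := by rw [← hC, inv_mul_cancel_right]
    have e' := congrArg (fun x : isometryGroup F ⇑Q => Matrix.mulVec ((x : GL ι F) : Matrix ι ι F) w) e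
    simp only [Subgroup.coe_mul, Units.val_mul, ← Matrix.mulVec_mulVec, hu, hMv] at e'
    rw [hT, hT]
    exact e'

end Cfsg.Agent.OrthIsoRealize
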