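import Cfsg.Agent.Lib.Classical.OrthInvolBalanceExt
import Cfsg.Agent.Lib.Classical.OrthEvenBalance
import Cfsg.Agent.Lib.Classical.OrthMinusModel
import Cfsg.Agent.Lib.Invol.PComponentOf

/-!
Failure of local balance in almost simple groups with socle an elliptic `PΩ`.
-/

set_option autoImplicit false
set_option linter.unusedSectionVars false
set_option quotPrecheck false

namespace Cfsg.Agent.Classical.OrthAut

open Matrix Module Cfsg.Agent.Classical.Descent

universe u

section Group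

variable {K K' : Type*} [Group K] [Group K'] [Finite K] [Finite K']

theorem core_centralizer_transport (e : K ≃* K') (A : Subgroup (MulAut K)) (x : MulAut K) (p : ℕ) :
    (pPrimeCore p ↥(A.map (MulAut.congr e).toMonoidHom ⊓ Subgroup.centralizer {MulAut.congr e x}) ≠ ⊥ ↔
      pPrimeCore p ↥(A ⊓ Subgroup.centralizer {x}) ≠ ⊥) ∧
    Nat.card ↥(MonoidHom.eqLocus (MulAut.congr e x).toMonoidHom (MonoidHom.id K')) =
      Nat.card ↥(MonoidHom.eqLocus x.toMonoidHom (MonoidHom.id K)) := by
  haveI : Finite (MulAut K) := Finite.of_injective (fun φ => (φ : K → K)) DFunLike.coe_injective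
  haveI : Finite (MulAut K') := Finite.of_injective (fun φ => (φ : K' → K')) DFunLike.coe_injective
  refine ⟨?_, ?_⟩
  · let E : ↥(A ⊓ Subgroup.centralizer {x}) ≃*
        ↥(A.map (MulAut.congr e).toMonoidHom ⊓ Subgroup.centralizer {MulAut.congr e x}) :=
      (Subgroup.equivMapOfInjective _ (MulAut.congr e).toMonoidHom (MulAut.congr e).injective).trans
        (MulEquiv.subgroupCongr (centralizer_map (MulAut.congr e) A x))
    rw [← Cfsg.Agent.Invol.pPrimeCore_map_equiv E, Ne, Subgroup.map_eq_bot_iff_of_injective (f := E.toMonoidHom) _ E.injective]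
  · refine (Nat.card_congr (e.toEquiv.subtypeEquiv fun k => ?_)).symm
    show x k = k ↔ e (x (e.symm (e k))) = e k
    rw [MulEquiv.symm_apply_apply, e.injective.eq_iff]

end Group

variable {F : Type u} [Field F] [Fintype F] {m : ℕ} {a b : F}

local notation "ιm" => ((Fin m ⊕ Fin m) ⊕ Fin 2)
local notation "Mn" => Matrix ιm ιm F
local notation "Qm" => qfMinus m F a b
local notation "PQ" => POmega F ⇑Qm
local notation "GO" => Geo.quadSimilarityGroup (F := F) ⇑Qm

/-- An automorphism of order two has no field part. -/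
theorem field_part_trivial (hm : 3 ≤ m) (hab : Aniso F a b) (h2 : (2 : F) ≠ 0) {g : GL ιm F} {σ : RingAut F}
    (h : IsSemisimilarityPair (⇑Qm) g σ) (hx : (poSemi h : MulAut PQ) * poSemi h = 1) : σ = 1 := by
  have H := evenSpace_minus hm hab
  by_contra hσ
  haveI : Finite (RingAut F) := Finite.of_injective (fun φ => (φ : F → F)) DFunLike.coe_injective
  have e := congrArg H.invHom hx
  rw [map_mul, H.invHom_poSemi, map_one] at e
  set L : Fˣ := (pinv (m + 1) h).1.left
  have er : σ * σ = 1 := congrArg (fun z : Tw F × ℤˣ => z.1.right) e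
  have el : L * twAct F σ L = 1 := congrArg (fun z : Tw F × ℤˣ => z.1.left) e
  have hL : L ^ 2 * H.gramD = twAct F σ H.gramD := H.pinv_mem h
  set D : F := (H.gramD : F) with hD
  have hL' : (L : F) ^ 2 * D = σ D := congrArg Units.val hL
  have el' : (L : F) * σ (L : F) = 1 := congrArg Units.val el
  have hord : orderOf σ = 2 := orderOf_eq_prime (by rw [sq]; exact er) hσ
  -- the fixed field
  let K : Subfield F := FixedPoints.subfield (Subgroup.zpowers σ) F
  have hK : ∀ z : F, z ∈ K ↔ σ z = z := fun z => by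
    constructor
    · exact fun hz => hz ⟨σ, Subgroup.mem_zpowers σ⟩
    · rintro hz ⟨τ, hτ⟩
      show τ z = z
      obtain ⟨k, hk⟩ := (isOfFinOrder_of_finite σ).mem_powers_iff_mem_zpowers.2 hτ
      rw [← show σ ^ k = τ from hk]
      clear hk
      induction k with
      | zero => rfl
      | succ k ih => rw [pow_succ, RingAut.mul_apply, hz, ih]
  haveI : Fintype (Subgroup.zpowers σ) := Fintype.ofFinite _
  haveI : FaithfulSMul (Subgroup.zpowers σ) F := ⟨fun {a b} h => Subtype.ext (RingEquiv.ext h)⟩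
  have hfin : finrank K F = 2 := by
    rw [FixedPoints.finrank_eq_card, ← Nat.card_eq_fintype_card, Nat.card_zpowers, hord]
  letI : Fintype K := Fintype.ofFinite _
  have hsq : ∀ c : F, σ c = c → IsSquare c := fun c hc => by
    by_cases hc0 : c = 0
    · rw [hc0]; exact IsSquare.zero
    obtain ⟨s, -, hs⟩ := exists_sqrt_ext (F := K) F hfin (c := ⟨c, (hK c).2 hc⟩)
      (fun h0 => hc0 (congrArg Subtype.val h0))
    exact ⟨s, hs.symm⟩
  have hm1 : IsSquare (-1 : F) := hsq _ (by rw [map_neg, map_one])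
  have hDns : ¬ IsSquare D := fun hs => ((isSquare_gramD hm hab h2).1 hs).1 hm1
  obtain ⟨y, hy, hy'⟩ : ∃ y : F, y ≠ 0 ∧ y ^ 2 = (L : F) ^ 2 * σ y ^ 2 := by
    by_cases hL1 : (L : F) = -1
    · exact ⟨1, one_ne_zero, by rw [hL1, map_one]; ring⟩
    · refine ⟨1 + (L : F), fun h0 => hL1 (by linear_combination h0), ?_⟩
      rw [map_add, map_one]
      linear_combination (-(2 * (L : F) + (L : F) * σ (L : F) + 1)) * el'
  have hfix : σ (D * y ^ 2) = D * y ^ 2 := by
    rw [map_mul, map_pow, ← hL']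
    linear_combination (-D) * hy'
  obtain ⟨r, hr⟩ := hsq _ hfix
  exact hDns ⟨r / y, by field_simp; linear_combination hr⟩

set_option maxHeartbeats 2000000 in
/-- An improper involutory similitude automorphism. -/
theorem improper_core (hm : 3 ≤ m) (hab : Aniso F a b) (h2 : (2 : F) ≠ 0) {g : GO}
    (hord : orderOf (goHom (qfMinus m F a b) g) = 2) (hps : psgn (m + 1) g = -1)
    {A : Subgroup (MulAut PQ)} (hinn : ∀ k : PQ, MulAut.conj k ∈ A) :
    pPrimeCore 2 ↥(A ⊓ Subgroup.centralizer {goHom (qfMinus m F a b) g}) = ⊥ := by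
  classical
  have H := evenSpace_minus hm hab
  have hι : Fintype.card ιm = 2 * (m + 1) := card_iota
  have hgg : ∃ c : F, ((g : GL ιm F) : Mn) * ((g : GL ιm F) : Mn) = c • 1 := by
    have h1 : goHom (qfMinus m F a b) (g * g) = goHom (qfMinus m F a b) 1 := by
      have h0 := pow_orderOf_eq_one (goHom (qfMinus m F a b) g)
      rw [hord] at h0
      rw [map_mul, map_one, ← sq, h0]
    obtain ⟨c, hc⟩ := H.goHom_inj h1
    exact ⟨c, hc⟩
  obtain ⟨c, hc⟩ := hgg
  set lam : F := (mu g : F) with hlam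
  have hc0 : c ≠ 0 := fun h0 => by
    have h1 := congrArg Matrix.det hc
    rw [Matrix.det_mul, h0, zero_smul, Matrix.det_zero] at h1
    exact mul_self_ne_zero.2 (g : GL ιm F).det_ne_zero h1
  have hlc : lam * lam = c * c := by
    obtain ⟨v, hv⟩ := H.exists_one
    have h1 : Qm ((((g : GL ιm F) : Mn) * ((g : GL ιm F) : Mn)) *ᵥ v) = lam * (lam * Qm v) := by
      rw [← Matrix.mulVec_mulVec, mu_spec, mu_spec]
    rw [hc, Matrix.smul_mulVec, Matrix.one_mulVec, QuadraticMap.map_smul, hv, smul_eq_mul, mul_one, mul_one] at h1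
    exact h1.symm
  by_cases hsq : IsSquare c
  · obtain ⟨δ, hδ⟩ := hsq
    have hδ0 : δ ≠ 0 := fun h0 => hc0 (by rw [hδ, h0, mul_zero])
    set g' : GL ιm F := Matrix.GeneralLinearGroup.scalar ιm (Units.mk0 δ hδ0)⁻¹ * (g : GL ιm F)
    have hg' : (g' : Mn) = δ⁻¹ • ((g : GL ιm F) : Mn) := by
      rw [Units.val_mul, coe_scalar_smul, Matrix.smul_mul, Matrix.one_mul, Units.val_inv_eq_inv_val, Units.val_mk0]
    have hg'g' : (g' : Mn) * (g' : Mn) = 1 := by
      rw [hg', Matrix.smul_mul, Matrix.mul_smul, hc, smul_smul, smul_smul, hδ]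
      rw [show δ⁻¹ * δ⁻¹ * (δ * δ) = 1 by field_simp, one_smul]
    have hνv : ∀ v, Qm ((g' : Mn) *ᵥ v) = lam / c * Qm v := fun v => by
      rw [hg', Matrix.smul_mulVec, QuadraticMap.map_smul, mu_spec, hδ, smul_eq_mul]
      field_simp
      rw [hlam]; ring
    have hν : lam / c = 1 ∨ lam / c = -1 := mul_self_eq_one_iff.1 (by field_simp; linear_combination hlc)
    rcases hν with hν | hν
    swap
    · exfalso
      refine not_half_qfMinus (m := m) hab ?_
      have hzero : ∀ ε : F, ε * ε = 1 → ∀ x ∈ eig g' ε, Qm x = 0 := fun ε hε x hx => by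
        have h1 := hνv x
        rw [(mem_eig g').1 hx, QuadraticMap.map_smul, hν, smul_eq_mul, hε, one_mul] at h1
        exact (mul_eq_zero.1 (show (2 : F) * Qm x = 0 by linear_combination h1)).resolve_left h2
      have hsum := finrank_eig_add (g := g') hg'g' h2 (one_mul (1 : F))
      rw [hι] at hsum
      obtain ⟨W, hW, hWd⟩ : ∃ W : Submodule F (ιm → F), (∀ x ∈ W, Qm x = 0) ∧ m + 1 ≤ finrank F W := by
        rcases Nat.lt_or_ge (finrank F (eig g' 1)) (m + 1) with hlt | hge
        · exact ⟨eig g' (-1), hzero _ (by ring), by omega⟩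
        · exact ⟨eig g' 1, hzero _ (one_mul 1), hge⟩
      let f : Fin (m + 1) → (ιm → F) := fun i => (Module.finBasis F W (Fin.castLE hWd i) : ιm → F)
      have hf : LinearIndependent F f :=
        ((Module.finBasis F W).linearIndependent.map' W.subtype W.ker_subtype).comp _ (Fin.castLE_injective hWd)
      have hle : Submodule.span F (Set.range f) ≤ W := by
        rw [Submodule.span_le]; rintro _ ⟨i, rfl⟩; exact Submodule.coe_mem _
      exact ⟨Submodule.span F (Set.range f), fun x hx => hW x (hle hx),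
        by rw [finrank_span_eq_card hf, Fintype.card_fin, hι]⟩
    have hQ' : ∀ v, Qm ((g' : Mn) *ᵥ v) = Qm v := fun v => by rw [hνv, hν, one_mul]
    have hg'O : g' ∈ GO := ⟨1, fun v => by rw [Units.val_one, one_mul]; exact hQ' v⟩
    set t : GO := ⟨g', hg'O⟩ * g⁻¹
    have ht : ((t : GL ιm F) : Mn) = δ⁻¹ • 1 := by
      show (g' : Mn) * (((g : GL ιm F)⁻¹ : GL ιm F) : Mn) = _
      rw [hg', Matrix.smul_mul, Units.mul_inv]
    have hgt : (⟨g', hg'O⟩ : GO) = t * g := (inv_mul_cancel_right _ _).symm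
    have hps' : psgn (m + 1) (⟨g', hg'O⟩ : GO) = -1 := by
      rw [hgt, H.psgn_mul, H.psgn_scalar ht, one_mul, hps]
    have heq : goHom (qfMinus m F a b) ⟨g', hg'O⟩ = goHom (qfMinus m F a b) g := by
      rw [hgt, map_mul, goHom_scalar ht, one_mul]
    have hodd : Odd (finrank F (eig g' (-1))) := by
      rw [← Nat.not_even_iff_odd]
      intro he
      have h1 : psgn (m + 1) (⟨g', hg'O⟩ : GO) = 1 := by
        refine (psgn_eq_one_iff_det h2 _).2 ?_
        show (g' : Mn).det = _
        rw [det_eq_eig hg'g' h2, he.neg_one_pow, H.mu_eq (d := 1) fun v => by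
          rw [Units.val_one, one_mul]; exact hQ' v, Units.val_one, one_pow]
      rw [h1] at hps'
      exact absurd hps' (by decide)
    have hsum := finrank_eig_add (g := g') hg'g' h2 (one_mul (1 : F))
    rw [hι] at hsum
    rw [← heq] at hord ⊢
    rcases Nat.lt_or_ge (finrank F (eig g' (-1))) 4 with hlt | hge
    · exact H.eigen_core hQ' hg'g' h2 (by omega) (ε := 1) (one_mul 1)
        (by obtain ⟨i, hi⟩ := hodd; exact ⟨m - i, by omega⟩) (by omega) hg'O hord hps' hinn
    · exact H.eigen_core hQ' hg'g' h2 (by omega) (ε := -1) (by ring) hodd hge hg'O hord hps' hinn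
  · obtain ⟨E, _, _, _, _, α, C⟩ := exists_cx (g := (g : GL ιm F)) hsq hc
    have hdet := C.det_eq (n := m + 1) hι
    have hne : ((g : GL ιm F) : Mn).det ≠ lam ^ (m + 1) := fun h1 => by
      rw [(psgn_eq_one_iff_det h2 g).2 h1] at hps
      exact absurd hps (by decide)
    rcases mul_self_eq_mul_self_iff.1 hlc with hl | hl
    swap
    · exact absurd (by rw [hdet, hl]) hne
    have hn : Odd (m + 1) := by
      rw [← Nat.not_even_iff_odd]
      intro he
      exact hne (by rw [hdet, hl, he.neg_pow])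
    obtain ⟨g₀, hg₀⟩ := g
    have hsim : C.Sim (qfMinus m F a b) := fun v => by rw [← hl]; exact mu_spec ⟨g₀, hg₀⟩ v
    exact H.cx_core C hsim h2 (by obtain ⟨i, hi⟩ := hn; omega) hg₀ hord hps hinn

set_option maxHeartbeats 2000000 in
/-- A field automorphism of odd prime order: standard position and local balance. -/
theorem field_balance (hm : 3 ≤ m) (hab : Aniso F a b) {p : ℕ} [Fact p.Prime] (hp : Odd p)
    {g : GL ιm F} {σ : RingAut F} (h : IsSemisimilarityPair (⇑Qm) g σ) (hσ : σ ≠ 1)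
    (hord : orderOf (poSemi h : MulAut PQ) = p) (hσp : σ ^ p = 1)
    {A : Subgroup (MulAut PQ)} (hinn : ∀ k : PQ, MulAut.conj k ∈ A) :
    (∃ (a' b' : F) (ψ : POmega F ⇑(qfMinus m F a b) ≃* POmega F ⇑(qfMinus m F a' b')) (τ : F ≃+* F),
      Aniso F a' b' ∧ τ ≠ RingEquiv.refl F ∧ τ a' = a' ∧ τ b' = b' ∧
      IsFieldAutPOmegaOf ⇑(qfMinus m F a' b') τ ((ψ.symm.trans (poSemi h)).trans ψ)) ∧
    (pPrimeCore p ↥(A ⊓ Subgroup.centralizer {(poSemi h : MulAut PQ)}) ≠ ⊥ ↔
      Nat.Coprime p (Nat.card ↥(MonoidHom.eqLocus (poSemi h : MulAut PQ).toMonoidHom (MonoidHom.id PQ)))) := by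
  classical
  haveI : Finite (RingAut F) := Finite.of_injective (fun φ => (φ : F → F)) DFunLike.coe_injective
  letI : Fintype (RingAut F) := Fintype.ofFinite _
  obtain ⟨q, hq⟩ := CharP.exists F
  haveI : Fact q.Prime := ⟨CharP.char_is_prime F q⟩
  obtain ⟨fd, -, hF⟩ := FiniteField.card F q
  obtain ⟨hcyc, -⟩ := PSLAut.card_ringAut (F := F) hF
  haveI := hcyc
  have hp' : p.Prime := Fact.out
  have hσo : orderOf σ = p := orderOf_eq_prime hσp hσ
  have hpow : ∀ τ : RingAut F, τ ^ p = 1 → τ ∈ Subgroup.zpowers σ := by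
    intro τ hτ
    have h1 := IsCyclic.card_pow_eq_one_le (α := RingAut F) hp'.pos
    have h3 : (Subgroup.zpowers σ : Set (RingAut F)).toFinset ⊆ Finset.univ.filter (fun a => a ^ p = 1) := by
      intro z hz
      rw [Set.mem_toFinset, SetLike.mem_coe] at hz
      rw [Finset.mem_filter]
      exact ⟨Finset.mem_univ _, orderOf_dvd_iff_pow_eq_one.1 (hσo ▸ orderOf_dvd_of_mem_zpowers hz)⟩
    have h4 := Finset.eq_of_subset_of_card_le h3 (by
      rw [Set.toFinset_card, ← Nat.card_eq_fintype_card]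
      exact h1.trans (le_of_eq (by rw [SetLike.coe_sort_coe, Nat.card_zpowers, hσo])))
    have h5 : τ ∈ Finset.univ.filter (fun a : RingAut F => a ^ p = 1) := by simp [hτ]
    rw [← h4, Set.mem_toFinset] at h5
    exact h5
  -- coefficients fixed by `σ`
  let K : Subfield F := RingHom.eqLocusField σ.toRingHom (RingHom.id F)
  have hKfix : ∀ z : K, σ (z : F) = (z : F) := fun z => z.2
  obtain ⟨b₀, hb₀⟩ : ∃ b₀ : K, ∀ t : K, t ^ 2 + t + b₀ ≠ 0 := by
    by_contra hcon
    push Not at hcon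
    have hsur : Function.Surjective (fun t : K => -(t ^ 2 + t)) := fun z => by
      obtain ⟨t, ht⟩ := hcon z
      exact ⟨t, by linear_combination -ht⟩
    have hinj := (Finite.injective_iff_surjective.2 hsur) (show -((0 : K) ^ 2 + 0) = -((-1 : K) ^ 2 + -1) by ring)
    exact one_ne_zero (α := K) (by linear_combination hinj)
  have hab' : Aniso F 1 (b₀ : F) := by
    have hno : ∀ t : F, t ^ 2 + t + (b₀ : F) ≠ 0 := by
      intro t ht
      have hσt : (σ t - t) * (σ t + t + 1) = 0 := by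
        have h1 := congrArg σ ht
        rw [map_add, map_add, map_pow, map_zero, hKfix] at h1
        linear_combination h1 - ht
      suffices hfix : σ t = t from hb₀ ⟨t, hfix⟩ (Subtype.ext ht)
      rcases mul_eq_zero.1 hσt with h1 | h1
      · exact sub_eq_zero.1 h1
      · have h3 : ∀ k : ℕ, (σ ^ (2 * k) : RingAut F) t = t := by
          intro k
          induction k with
          | zero => rfl
          | succ k ih =>
            rw [show 2 * (k + 1) = 2 * k + 1 + 1 by ring, pow_succ', pow_succ', RingAut.mul_apply,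
              RingAut.mul_apply, ih, show σ t = -t - 1 by linear_combination h1, map_sub, map_neg, map_one,
              show σ t = -t - 1 by linear_combination h1]
            ring
        obtain ⟨k, hk⟩ := hp
        have h4 : (σ ^ p : RingAut F) t = σ t := by
          rw [hk, pow_succ', RingAut.mul_apply, h3]
        rw [hσp, RingAut.one_apply] at h4
        exact h4.symm
    intro z₁ z₂ hz
    by_cases hz2 : z₂ = 0
    · subst hz2; exact ⟨by simpa using hz, rfl⟩
    · exact absurd (by field_simp; linear_combination hz) (hno (z₁ / z₂))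
  have hfixall : ∀ τ : RingAut F, τ ^ p = 1 → τ (b₀ : F) = (b₀ : F) := by
    intro τ hτ
    obtain ⟨k, hk⟩ := (isOfFinOrder_of_finite σ).mem_powers_iff_mem_zpowers.2 (hpow τ hτ)
    rw [← show σ ^ k = τ from hk]
    clear hk
    induction k with
    | zero => rfl
    | succ k ih => rw [pow_succ, RingAut.mul_apply, hKfix, ih]
  have H := evenSpace_minus hm hab
  have H' := evenSpace_minus hm hab'
  obtain ⟨z, hz⟩ := minus_unique (qfMinus m F 1 (b₀ : F)) Qm (nondegenerate_qfMinus m hab')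
    (nondegenerate_qfMinus m hab) (not_half_qfMinus hab') (not_half_qfMinus hab)
  let D : IsoData (qfMinus m F a b) (qfMinus m F 1 (b₀ : F)) :=
    { M := ((z⁻¹ : GL ιm F) : Mn), N := (z : Mn), MN := Units.inv_mul z, NM := Units.mul_inv z,
      quad := fun v => by rw [← hz, Matrix.mulVec_mulVec, Units.mul_inv, Matrix.one_mulVec] }
  set x' := D.aut (poSemi h) with hx'def
  have hord' : orderOf x' = p := by rw [hx'def, MulEquiv.orderOf_eq, hord]
  obtain ⟨g', τ, h', hx'⟩ := H'.exists_poSemi x'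
  have hτ : τ ≠ 1 := by
    intro hτ1
    subst hτ1
    have hgo : g' ∈ Geo.quadSimilarityGroup (F := F) ⇑(qfMinus m F 1 (b₀ : F)) := ⟨pmul h', fun v => pmul_spec h' v⟩
    obtain ⟨k, hk⟩ := D.go.surjective ⟨g', hgo⟩
    have e : (poSemi h : MulAut PQ) = goHom (qfMinus m F a b) k := D.aut.injective (by
      rw [D.aut_goHom, hk, ← hx'def, hx']; exact poSemi_congr _ _ rfl rfl)
    exact hσ (H.poSemi_inj h (isPair_refl k.2) (e.trans (goHom_apply k))).1
  have hτp : τ ^ p = 1 := by
    have e := congrArg (fun w : Tw F × ℤˣ => w.1.right) (congrArg H'.invHom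
      (show x' ^ p = 1 by rw [← hord', pow_orderOf_eq_one]))
    simp only [map_pow, map_one, hx', H'.invHom_poSemi, Prod.pow_fst, Prod.fst_one,
      SemidirectProduct.one_right] at e
    rw [← SemidirectProduct.rightHom_eq_right, map_pow] at e
    exact e
  have hτb := hfixall τ hτp
  have hR : RatAt (qfMinus m F 1 (b₀ : F)) τ := fun v => by
    simp [qfMinus_apply, quadFormMinus, map_sum, hτb]
  have hgo : g' ∈ Geo.quadSimilarityGroup (F := F) ⇑(qfMinus m F 1 (b₀ : F)) := by
    refine ⟨pmul h', fun v => ?_⟩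
    obtain ⟨w, rfl⟩ : ∃ w : ιm → F, τ ∘ w = v := ⟨τ.symm ∘ v, funext fun i => τ.apply_symm_apply _⟩
    rw [hR]; exact pmul_spec h' w
  set d : Geo.quadSimilarityGroup (F := F) ⇑(qfMinus m F 1 (b₀ : F)) := ⟨g', hgo⟩
  have hxd : x' = goHom _ d * fld hR := by
    rw [hx', goHom_apply]
    show _ = poSemi _ * poSemi (isPair_fld hR)
    rw [poSemi_mul (σ := (1 : RingAut F)) (τ := τ) (isPair_refl hgo)]
    exact poSemi_congr _ _ (by rw [map_one, mul_one]) (one_mul τ).symm
  let K' : Subfield F := RingHom.eqLocusField τ.toRingHom (RingHom.id F)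
  letI : Fintype K' := Fintype.ofFinite _
  have hj : ∀ z, τ z = z ↔ z ∈ K'.subtype.range := fun z =>
    ⟨fun h => ⟨⟨z, h⟩, rfl⟩, fun ⟨k, hk⟩ => hk ▸ k.2⟩
  obtain ⟨a₀, b₁, ha₀, hb₁, hab₀, hP⟩ := ratForm_minus (m := m) hab' (map_one τ) hτb hj
  have H₀ := evenSpace_minus hm hab₀
  obtain ⟨w, -, hw⟩ := H'.coset_conj hR hP H₀ hj hp' hτ (d := d) (by rw [← hxd]; exact hord')
    fun y ε P' hn hP' => minus_hsame hab' hab₀ y ε P' hn hP'
  set ψ : PQ ≃* POmega F ⇑(qfMinus m F 1 (b₀ : F)) := D.po.trans (goHom (qfMinus m F 1 (b₀ : F)) w).symm with hψdef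
  have hψ : MulAut.congr ψ (poSemi h) = fld hR := by
    have e : x' = goHom _ w * fld hR * (goHom _ w)⁻¹ := hxd.trans hw
    refine MulEquiv.ext fun t => ?_
    show (goHom _ w).symm (x' (goHom _ w t)) = fld hR t
    rw [e, MulAut.mul_apply, MulAut.mul_apply]
    rw [show (goHom (qfMinus m F 1 (b₀ : F)) w)⁻¹ ((goHom (qfMinus m F 1 (b₀ : F)) w) t) = t from
      (goHom (qfMinus m F 1 (b₀ : F)) w).symm_apply_apply t, MulEquiv.symm_apply_apply]
  refine ⟨⟨1, (b₀ : F), ψ, τ, hab', hτ, map_one τ, hτb, (fld_induced_iff hR).2 ?_⟩, ?_⟩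
  · rw [← hψ]; rfl
  · have hordf : orderOf (fld hR : MulAut (POmega F ⇑(qfMinus m F 1 (b₀ : F)))) = p := by
      rw [← hψ, MulEquiv.orderOf_eq, hord]
    have hb := H'.balance_fld H₀ hP hR hj hp hτ hordf (A := A.map (MulAut.congr ψ).toMonoidHom) fun k =>
      ⟨MulAut.conj (ψ.symm k), hinn _, MulEquiv.ext fun z => by simp [MulAut.congr, MulAut.conj_apply]⟩
    rw [← hψ] at hb
    obtain ⟨e1, e2⟩ := core_centralizer_transport ψ A (poSemi h) p
    rw [e1, e2] at hb
    exact hb

set_option maxHeartbeats 2000000 in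
theorem minus_balance_fn {r : ℕ} [Fact r.Prime] [CharP F r]
    {fn : F → F → (((Fin m ⊕ Fin m) ⊕ Fin 2) → F) → F} (hfn : (fun a b => ⇑(qfMinus m F a b)) = fn)
    (hm : 3 ≤ m) (hab : Aniso F a b)
    {A : Subgroup (MulAut (POmega F (fn a b)))} (hinn : ∀ k : POmega F (fn a b), MulAut.conj k ∈ A)
    {p : ℕ} [Fact p.Prime] (hpr : p ≠ r) {x : MulAut (POmega F (fn a b))} (hord : orderOf x = p)
    (hnot : ¬ ∃ g : GL ((Fin m ⊕ Fin m) ⊕ Fin 2) F, g ∈ Geo.quadSimilarityGroup (F := F) (fn a b) ∧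
      PreservesSingularClassesMinus m a b (g : Matrix _ _ F) ∧
      IsInducedBySemilinearPOmega (fn a b) g (RingEquiv.refl F) x) :
    pPrimeCore p ↥(A ⊓ Subgroup.centralizer {x}) ≠ ⊥ ↔
      ((∃ (a' b' : F) (ψ : POmega F (fn a b) ≃* POmega F (fn a' b')) (σ : F ≃+* F),
          Aniso F a' b' ∧ σ ≠ RingEquiv.refl F ∧ σ a' = a' ∧ σ b' = b' ∧
          IsFieldAutPOmegaOf (fn a' b') σ ((ψ.symm.trans x).trans ψ)) ∧
        Nat.Coprime p (Nat.card ↥(MonoidHom.eqLocus x.toMonoidHom (MonoidHom.id (POmega F (fn a b)))))) := by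
  classical
  subst hfn
  have H := evenSpace_minus hm hab
  have hp' : p.Prime := Fact.out
  obtain ⟨g, σ, h, rfl⟩ := H.exists_poSemi x
  have hxp : (poSemi h : MulAut PQ) ^ p = 1 := by rw [← hord, pow_orderOf_eq_one]
  by_cases hσ : σ = 1
  · subst hσ
    have hgo : g ∈ GO := ⟨pmul h, fun v => pmul_spec h v⟩
    have hx : (poSemi h : MulAut PQ) = goHom (qfMinus m F a b) ⟨g, hgo⟩ := poSemi_congr _ _ rfl rfl
    have hps : psgn (m + 1) (⟨g, hgo⟩ : GO) = -1 := by
      refine (Int.units_eq_one_or _).resolve_left fun h1 => hnot ⟨g, hgo, ?_, ?_⟩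
      · exact (preserves_minus_iff hm hab ⟨g, hgo⟩).2 h1
      · exact (induced_iff (isPair_refl hgo)).2 (hx.trans (goHom_apply _))
    have hp2 : p = 2 := by
      have h1 : goHom (qfMinus m F a b) ((⟨g, hgo⟩ : GO) ^ p) = goHom (qfMinus m F a b) 1 := by
        rw [map_pow, map_one, ← hx]; exact hxp
      obtain ⟨c, hc⟩ := H.goHom_inj h1
      have h3 : H.psgnHom ((⟨g, hgo⟩ : GO) ^ p) = 1 := H.psgn_scalar (c := c) (by simpa using hc)
      rw [map_pow, show H.psgnHom (⟨g, hgo⟩ : GO) = -1 from hps] at h3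
      refine hp'.eq_two_or_odd'.resolve_right fun hodd => ?_
      rw [hodd.neg_one_pow] at h3
      exact absurd h3 (by decide)
    subst hp2
    have h2 : (2 : F) ≠ 0 := fun h0 => hpr (by
      have h1 : ((2 : ℕ) : F) = 0 := by exact_mod_cast h0
      exact ((Nat.prime_dvd_prime_iff_eq (Fact.out : r.Prime) Nat.prime_two).1
        ((CharP.cast_eq_zero_iff F r 2).1 h1)).symm)
    rw [hx] at hord ⊢
    refine iff_of_false (fun hne => hne (improper_core hm hab h2 hord hps hinn)) fun ⟨hf, _⟩ => ?_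
    obtain ⟨a', b', ψ, τ, hab', hτ, ha, hb, hstd⟩ := hf
    obtain ⟨a'', b'', hab'', ψ', τ', hR, hτ', ha', hb', hx', -, -⟩ :=
      minus_field_std hm hab ⟨a', b', ψ, τ, hab', hτ, ha, hb, hstd⟩
    have hordf : orderOf (fld hR) = 2 := by rw [← hx', MulEquiv.orderOf_eq, hord]
    obtain ⟨hτ2, -, -⟩ := (evenSpace_minus hm hab'').orderOf_go_field hR (d := 1) Nat.prime_two hτ'
      (by rw [map_one, one_mul]; exact hordf)
    refine hτ' (field_part_trivial hm hab'' h2 (isPair_fld hR) ?_)
    show fld hR * fld hR = 1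
    have h0 := pow_orderOf_eq_one (fld hR)
    rw [hordf] at h0
    rw [← sq, h0]
  · have hσp : σ ^ p = 1 := by
      have e := congrArg (fun w : Tw F × ℤˣ => w.1.right) (congrArg H.invHom hxp)
      simp only [map_pow, map_one, H.invHom_poSemi, Prod.pow_fst, Prod.fst_one, SemidirectProduct.one_right] at e
      rw [← SemidirectProduct.rightHom_eq_right, map_pow] at e
      exact e
    have hodd : Odd p := hp'.eq_two_or_odd'.resolve_left fun hp2 => by
      subst hp2
      have h2 : (2 : F) ≠ 0 := fun h0 => hpr (by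
        have h1 : ((2 : ℕ) : F) = 0 := by exact_mod_cast h0
        exact ((Nat.prime_dvd_prime_iff_eq (Fact.out : r.Prime) Nat.prime_two).1
          ((CharP.cast_eq_zero_iff F r 2).1 h1)).symm)
      exact hσ (field_part_trivial hm hab h2 h (by rw [← sq]; exact hxp))
    obtain ⟨h1, h2⟩ := field_balance hm hab hodd h hσ hord hσp hinn
    exact ⟨fun hne => ⟨h1, h2.1 hne⟩, fun hb => h2.2 hb.2⟩

end Cfsg.Agent.Classical.OrthAut
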