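import Cfsg.Agent.Lib.Classical.OrthEvenCoset

/-!
Field automorphisms of prime order of the elliptic `PΩ`.
-/

set_option autoImplicit false
set_option linter.unusedSectionVars false
set_option quotPrecheck false

namespace Cfsg.Agent.Classical.OrthAut

open Matrix Module Cfsg.Agent.Classical.Descent

variable {F : Type*} [Field F] [Fintype F] {m : ℕ}

local notation "ιm" => ((Fin m ⊕ Fin m) ⊕ Fin 2)

/-- The data of a field automorphism in standard position. -/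
theorem minus_field_std {a b : F} (hm : 3 ≤ m) (hab : Aniso F a b)
    {x : MulAut (POmega F ⇑(qfMinus m F a b))}
    (hx : ∃ (a' b' : F) (ψ : POmega F ⇑(qfMinus m F a b) ≃* POmega F ⇑(qfMinus m F a' b')) (σ : F ≃+* F),
      Aniso F a' b' ∧ σ ≠ RingEquiv.refl F ∧ σ a' = a' ∧ σ b' = b' ∧
      IsFieldAutPOmegaOf ⇑(qfMinus m F a' b') σ ((ψ.symm.trans x).trans ψ)) :
    ∃ (a' b' : F) (hab' : Aniso F a' b') (ψ : POmega F ⇑(qfMinus m F a b) ≃* POmega F ⇑(qfMinus m F a' b'))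
      (σ : RingAut F) (hR : RatAt (qfMinus m F a' b') σ), σ ≠ 1 ∧ σ a' = a' ∧ σ b' = b' ∧
      MulAut.congr ψ x = fld hR ∧
      (evenSpace_minus hm hab).diagAut.map (MulAut.congr ψ).toMonoidHom = (evenSpace_minus hm hab').diagAut ∧
      (Inn (POmega F ⇑(qfMinus m F a b))).map (MulAut.congr ψ).toMonoidHom =
        Inn (POmega F ⇑(qfMinus m F a' b')) := by
  obtain ⟨a', b', ψ, σ, hab', hσ, ha, hb, hstd⟩ := hx
  have hR : RatAt (qfMinus m F a' b') (σ : RingAut F) := fun v => by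
    simp [qfMinus_apply, quadFormMinus, map_sum, ha, hb]
  refine ⟨a', b', hab', ψ, σ, hR, hσ, ha, hb, (fld_induced_iff hR).1 hstd, ?_, ?_⟩
  · obtain ⟨g, hg⟩ := minus_unique (qfMinus m F a b) (qfMinus m F a' b') (nondegenerate_qfMinus m hab)
      (nondegenerate_qfMinus m hab') (not_half_qfMinus hab) (not_half_qfMinus hab')
    exact (evenSpace_minus hm hab).map_congr_diagAut
      (D := { M := (g : Matrix ιm ιm F), N := ((g⁻¹ : GL ιm F) : Matrix ιm ιm F), MN := Units.mul_inv g,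
              NM := Units.inv_mul g, quad := hg }) ψ
  · ext β
    constructor
    · rintro ⟨_, ⟨k, rfl⟩, rfl⟩
      exact ⟨ψ k, MulEquiv.ext fun z => by simp [MulAut.congr, MulAut.conj_apply]⟩
    · rintro ⟨k, rfl⟩
      exact ⟨MulAut.conj (ψ.symm k), ⟨_, rfl⟩, MulEquiv.ext fun z => by simp [MulAut.congr, MulAut.conj_apply]⟩

/-- The descended forms are elliptic. -/
theorem minus_hsame {F₀ : Type*} [Field F₀] [Fintype F₀] {a b : F} (hab : Aniso F a b) {a₀ b₀ : F₀}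
    (hab₀ : Aniso F₀ a₀ b₀) {j : F₀ →+* F} (y : GL ιm F) (ε : Fˣ) (P' : QuadraticForm F₀ (ιm → F₀))
    (hn : (QuadraticMap.polarBilin P').Nondegenerate)
    (hP' : ∀ u, qfMinus m F a b ((y : Matrix ιm ιm F) *ᵥ (j ∘ u)) = (ε : F) * j (P' u)) :
    ∃ z : GL ιm F₀, ∀ u, P' ((z : Matrix ιm ιm F₀) *ᵥ u) = qfMinus m F₀ a₀ b₀ u := by
  have hnh : ¬ ∃ U, Half P' U := fun ⟨U, hU⟩ => not_half_qfMinus hab (half_of_rat j hP' hU)
  exact minus_unique (qfMinus m F₀ a₀ b₀) P' (nondegenerate_qfMinus m hab₀) hn (not_half_qfMinus hab₀) hnh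

/-- A field automorphism keeping an elliptic form rational has odd order. -/
theorem odd_of_aniso {F₀ : Type*} [Field F₀] [Fintype F₀] {j : F₀ →+* F} {a₀ b₀ : F₀}
    (hab : Aniso F (j a₀) (j b₀)) {r : ℕ} (hcard : Fintype.card F = Fintype.card F₀ ^ r) : Odd r := by
  by_contra hr
  letI : Algebra F₀ F := j.toAlgebra
  haveI : Module.Finite F₀ F := Module.Finite.of_finite
  have hfin : finrank F₀ F = r := by
    have h := Module.card_eq_pow_finrank (K := F₀) (V := F)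
    rw [hcard] at h
    exact (Nat.pow_right_injective Fintype.one_lt_card h).symm
  have hab₀ : Aniso F₀ a₀ b₀ := fun z₁ z₂ h => by
    obtain ⟨h1, h2⟩ := hab (j z₁) (j z₂) (by
      simpa only [map_add, map_mul, map_pow, map_zero] using congrArg j h)
    exact ⟨j.injective (h1.trans (map_zero j).symm), j.injective (h2.trans (map_zero j).symm)⟩
  obtain ⟨L, _, _, hL⟩ := exists_quadExt hab₀
  obtain ⟨t, ht⟩ := exists_root hab₀ L hL
  haveI : Module.Finite F₀ L := Module.finite_of_finrank_eq_succ hL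
  haveI : Finite L := Module.finite_of_finite F₀
  obtain ⟨φ⟩ := FiniteField.nonempty_algHom_of_finrank_dvd (F := F₀) (K := L) (L := F)
    (by rw [hL, hfin]; exact (Nat.not_odd_iff_even.1 hr).two_dvd)
  have h := congrArg φ ht
  simp only [map_add, map_mul, map_pow, map_zero, AlgHom.commutes] at h
  exact no_root hab (φ t) h

theorem ratForm_minus {F₀ : Type*} [Field F₀] [Fintype F₀] {a b : F} (hab : Aniso F a b) {σ : RingAut F}
    (ha : σ a = a) (hb : σ b = b) {j : F₀ →+* F} (hj : ∀ x, σ x = x ↔ x ∈ j.range) :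
    ∃ a₀ b₀ : F₀, j a₀ = a ∧ j b₀ = b ∧ Aniso F₀ a₀ b₀ ∧
      ∀ u, qfMinus m F a b (j ∘ u) = j (qfMinus m F₀ a₀ b₀ u) := by
  obtain ⟨a₀, rfl⟩ := (hj a).1 ha
  obtain ⟨b₀, rfl⟩ := (hj b).1 hb
  refine ⟨a₀, b₀, rfl, rfl, fun z₁ z₂ h => ?_, fun u => by simp [qfMinus_apply, quadFormMinus, map_sum]⟩
  obtain ⟨h1, h2⟩ := hab (j z₁) (j z₂) (by
    simpa only [map_add, map_mul, map_pow, map_zero] using congrArg j h)
  exact ⟨j.injective (h1.trans (map_zero j).symm), j.injective (h2.trans (map_zero j).symm)⟩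

set_option maxHeartbeats 1000000 in
theorem minus_field_stats {a b : F} (hm : 3 ≤ m) (hab : Aniso F a b) {p f : ℕ} [Fact p.Prime]
    (hF : Fintype.card F = p ^ f) {x : MulAut (POmega F ⇑(qfMinus m F a b))}
    (hx : ∃ (a' b' : F) (ψ : POmega F ⇑(qfMinus m F a b) ≃* POmega F ⇑(qfMinus m F a' b')) (σ : F ≃+* F),
      Aniso F a' b' ∧ σ ≠ RingEquiv.refl F ∧ σ a' = a' ∧ σ b' = b' ∧
      IsFieldAutPOmegaOf ⇑(qfMinus m F a' b') σ ((ψ.symm.trans x).trans ψ))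
    {r : ℕ} (hr : r.Prime) (hxr : orderOf x = r) (F₀ : Type*) [Field F₀] [Fintype F₀]
    (hF₀ : Fintype.card F₀ = p ^ (f / r)) :
    Odd r ∧ r ∣ f ∧ (∃ (a₀ b₀ : F₀) (hab₀ : Aniso F₀ a₀ b₀),
      Nonempty (↥((evenSpace_minus hm hab).diagAut ⊓ Subgroup.centralizer {x}) ≃*
        ↥(evenSpace_minus hm hab₀).diagAut)) ∧
      splitClassCount (evenSpace_minus hm hab).diagAut (Inn (POmega F ⇑(qfMinus m F a b))) x = 1 := by
  haveI : CharP F p := charP_of_card_eq_prime_pow hF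
  obtain ⟨a', b', hab', ψ, σ, hR, hσ, ha, hb, hx', hdiag, hinn⟩ := minus_field_std hm hab hx
  have H' := evenSpace_minus hm hab'
  have hord : orderOf (fld hR) = r := by rw [← hx', MulEquiv.orderOf_eq, hxr]
  obtain ⟨hσr, -, -⟩ := H'.orderOf_go_field hR (d := 1) hr hσ (by rw [map_one, one_mul]; exact hord)
  obtain ⟨hrf, -, j, hj⟩ := PSLAut.exists_fixed_embedding (p := p) hF hσr F₀ hF₀
  obtain ⟨a₀, b₀, ha₀, hb₀, hab₀, hP⟩ := ratForm_minus (m := m) hab' ha hb hj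
  have H₀ := evenSpace_minus hm hab₀
  have hodd : Odd r := odd_of_aniso (j := j) (a₀ := a₀) (b₀ := b₀) (by rw [ha₀, hb₀]; exact hab')
    (by rw [hF, hF₀, ← pow_mul, Nat.div_mul_cancel hrf])
  refine ⟨hodd, hrf, ⟨a₀, b₀, hab₀, ?_⟩, ?_⟩
  · obtain ⟨e⟩ := H'.centralizer_iso hR hP H₀ hj
    refine ⟨?_⟩
    refine (Subgroup.equivMapOfInjective _ (MulAut.congr ψ).toMonoidHom (MulAut.congr ψ).injective).trans ?_
    refine (MulEquiv.subgroupCongr ?_).trans e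
    rw [centralizer_map, hdiag, hx']
  · rw [← splitClassCount_map (MulAut.congr ψ), hdiag, hinn, hx']
    exact H'.split_eq_one hR hP H₀ hj (Or.inl (hσr ▸ hodd))

set_option maxHeartbeats 1000000 in
theorem minus_coset_iff {a b : F} (hm : 3 ≤ m) (hab : Aniso F a b)
    {x δ : MulAut (POmega F ⇑(qfMinus m F a b))}
    (hx : ∃ (a' b' : F) (ψ : POmega F ⇑(qfMinus m F a b) ≃* POmega F ⇑(qfMinus m F a' b')) (σ : F ≃+* F),
      Aniso F a' b' ∧ σ ≠ RingEquiv.refl F ∧ σ a' = a' ∧ σ b' = b' ∧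
      IsFieldAutPOmegaOf ⇑(qfMinus m F a' b') σ ((ψ.symm.trans x).trans ψ))
    {r : ℕ} (hr : r.Prime) (hxr : orderOf x = r) (hδ : δ ∈ (evenSpace_minus hm hab).diagAut) :
    orderOf (δ * x) = r ↔ IsConjUnder (evenSpace_minus hm hab).diagAut x (δ * x) := by
  constructor
  swap
  · rintro ⟨h, -, he⟩
    rw [he, ← hxr]
    exact (MulAut.conj h).orderOf_eq x
  intro hord
  obtain ⟨a', b', hab', ψ, σ, hR, hσ, ha, hb, hx', hdiag, -⟩ := minus_field_std hm hab hx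
  have H' := evenSpace_minus hm hab'
  set κ := MulAut.congr ψ
  have hδ' : κ δ ∈ H'.diagAut := hdiag ▸ ⟨δ, hδ, rfl⟩
  obtain ⟨d, -, hd'⟩ := hδ'
  have hy : orderOf (goHom _ d * fld hR) = r := by
    rw [hd', ← hx', ← map_mul, MulEquiv.orderOf_eq, hord]
  obtain ⟨hσr, -, -⟩ := H'.orderOf_go_field hR hr hσ hy
  let K : Subfield F := RingHom.eqLocusField σ.toRingHom (RingHom.id F)
  letI : Fintype K := Fintype.ofFinite _
  have hj : ∀ z, σ z = z ↔ z ∈ K.subtype.range := fun z =>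
    ⟨fun h => ⟨⟨z, h⟩, rfl⟩, fun ⟨k, hk⟩ => hk ▸ k.2⟩
  obtain ⟨a₀, b₀, -, -, hab₀, hP⟩ := ratForm_minus (m := m) hab' ha hb hj
  obtain ⟨g, hg, he⟩ := H'.coset_conj hR hP (evenSpace_minus hm hab₀) hj hr hσ hy
    fun y ε P' hn hP' => minus_hsame hab' hab₀ y ε P' hn hP'
  obtain ⟨α, hα, hαg⟩ : goHom _ g ∈ (evenSpace_minus hm hab).diagAut.map κ.toMonoidHom := by
    rw [hdiag]; exact ⟨g, hg, rfl⟩
  refine ⟨α, hα, κ.injective ?_⟩
  rw [map_mul, map_mul, map_mul, map_inv, hx', ← hd', show κ α = goHom _ g from hαg]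
  exact he

end Cfsg.Agent.Classical.OrthAut

namespace Cfsg.Agent.Classical.OrthAut

variable {F : Type*} [Field F] [Fintype F] {m : ℕ}

theorem minus_field_stats_fn {fn : F → F → (((Fin m ⊕ Fin m) ⊕ Fin 2) → F) → F}
    (hfn : (fun a b => ⇑(qfMinus m F a b)) = fn) {a b : F} (hm : 3 ≤ m) (hab : Aniso F a b)
    {p f : ℕ} [Fact p.Prime] (hF : Fintype.card F = p ^ f) {x : MulAut (POmega F (fn a b))}
    (hx : ∃ (a' b' : F) (ψ : POmega F (fn a b) ≃* POmega F (fn a' b')) (σ : F ≃+* F),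
      Aniso F a' b' ∧ σ ≠ RingEquiv.refl F ∧ σ a' = a' ∧ σ b' = b' ∧
      IsFieldAutPOmegaOf (fn a' b') σ ((ψ.symm.trans x).trans ψ))
    {r : ℕ} (hr : r.Prime) (hxr : orderOf x = r) (F₀ : Type*) [Field F₀] [Fintype F₀]
    (hF₀ : Fintype.card F₀ = p ^ (f / r))
    {fn₀ : F₀ → F₀ → (((Fin m ⊕ Fin m) ⊕ Fin 2) → F₀) → F₀}
    (hfn₀ : (fun a b => ⇑(qfMinus m F₀ a b)) = fn₀) :
    Odd r ∧ r ∣ f ∧ (∃ a₀ b₀ : F₀, Aniso F₀ a₀ b₀ ∧
      Nonempty (↥(autSubgroupOf (fun β : POmega F (fn a b) ≃* POmega F (fn a b) =>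
          ∃ g : GL ((Fin m ⊕ Fin m) ⊕ Fin 2) F, g ∈ Geo.quadSimilarityGroup (F := F) (fn a b) ∧
            PreservesSingularClassesMinus m a b (g : Matrix _ _ F) ∧
            IsInducedBySemilinearPOmega (fn a b) g (RingEquiv.refl F) β) ⊓ Subgroup.centralizer {x}) ≃*
        ↥(autSubgroupOf (fun β : POmega F₀ (fn₀ a₀ b₀) ≃* POmega F₀ (fn₀ a₀ b₀) =>
          ∃ g : GL ((Fin m ⊕ Fin m) ⊕ Fin 2) F₀, g ∈ Geo.quadSimilarityGroup (F := F₀) (fn₀ a₀ b₀) ∧
            PreservesSingularClassesMinus m a₀ b₀ (g : Matrix _ _ F₀) ∧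
            IsInducedBySemilinearPOmega (fn₀ a₀ b₀) g (RingEquiv.refl F₀) β)))) ∧
      splitClassCount (autSubgroupOf (fun β : POmega F (fn a b) ≃* POmega F (fn a b) =>
          ∃ g : GL ((Fin m ⊕ Fin m) ⊕ Fin 2) F, g ∈ Geo.quadSimilarityGroup (F := F) (fn a b) ∧
            PreservesSingularClassesMinus m a b (g : Matrix _ _ F) ∧
            IsInducedBySemilinearPOmega (fn a b) g (RingEquiv.refl F) β)) (Inn (POmega F (fn a b))) x = 1 := by
  subst hfn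
  subst hfn₀
  obtain ⟨h1, h2, ⟨a₀, b₀, h3, h4⟩, h5⟩ := minus_field_stats hm hab hF hx hr hxr F₀ hF₀
  refine ⟨h1, h2, ⟨a₀, b₀, h3, ?_⟩, ?_⟩
  · rw [inndiag_minus_eq hm hab, inndiag_minus_eq hm h3]; exact h4
  · rw [inndiag_minus_eq hm hab]; exact h5

theorem minus_coset_iff_fn {fn : F → F → (((Fin m ⊕ Fin m) ⊕ Fin 2) → F) → F}
    (hfn : (fun a b => ⇑(qfMinus m F a b)) = fn) {a b : F} (hm : 3 ≤ m) (hab : Aniso F a b)
    {x δ : MulAut (POmega F (fn a b))}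
    (hx : ∃ (a' b' : F) (ψ : POmega F (fn a b) ≃* POmega F (fn a' b')) (σ : F ≃+* F),
      Aniso F a' b' ∧ σ ≠ RingEquiv.refl F ∧ σ a' = a' ∧ σ b' = b' ∧
      IsFieldAutPOmegaOf (fn a' b') σ ((ψ.symm.trans x).trans ψ))
    {r : ℕ} (hr : r.Prime) (hxr : orderOf x = r)
    (hδ : δ ∈ autSubgroupOf (fun β : POmega F (fn a b) ≃* POmega F (fn a b) =>
      ∃ g : GL ((Fin m ⊕ Fin m) ⊕ Fin 2) F, g ∈ Geo.quadSimilarityGroup (F := F) (fn a b) ∧
        PreservesSingularClassesMinus m a b (g : Matrix _ _ F) ∧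
        IsInducedBySemilinearPOmega (fn a b) g (RingEquiv.refl F) β)) :
    orderOf (δ * x) = r ↔ IsConjUnder (autSubgroupOf (fun β : POmega F (fn a b) ≃* POmega F (fn a b) =>
      ∃ g : GL ((Fin m ⊕ Fin m) ⊕ Fin 2) F, g ∈ Geo.quadSimilarityGroup (F := F) (fn a b) ∧
        PreservesSingularClassesMinus m a b (g : Matrix _ _ F) ∧
        IsInducedBySemilinearPOmega (fn a b) g (RingEquiv.refl F) β)) x (δ * x) := by
  subst hfn
  rw [inndiag_minus_eq hm hab] at hδ ⊢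
  exact minus_coset_iff hm hab hx hr hxr hδ

end Cfsg.Agent.Classical.OrthAut
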