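import Cfsg.Agent.Lib.Classical.OrthNondegRealize
import Cfsg.Agent.Lib.Classical.InvolutionSingular

/-! Non-degenerate invariant subspaces of even dimension and given type of involutions, odd characteristic. -/

set_option autoImplicit false
set_option linter.unusedSectionVars false
set_option quotPrecheck false

namespace Cfsg.Agent.OrthNondegInvolution

open Module Matrix Cfsg.Agent.Classical Cfsg.Agent.Classical.OrthAut

variable {F : Type*} [Field F] [Fintype F] {ι : Type} [Fintype ι] [DecidableEq ι] {Q : QuadraticForm F (ι → F)}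

local notation "OG" => isometryGroup F ⇑Q
local notation "B" => QuadraticMap.polar ⇑Q

/-- The form is non-degenerate on the subspace. -/
def NonSing (Q : QuadraticForm F (ι → F)) (E : Submodule F (ι → F)) : Prop :=
  ∀ w ∈ E, w ≠ 0 → ∃ u ∈ E, QuadraticMap.polar (⇑Q) w u ≠ 0

theorem nonSing_bot : NonSing Q ⊥ := fun w hw h => absurd ((Submodule.mem_bot F).1 hw) h

theorem nonSing_sup {U R : Submodule F (ι → F)} (hU : NonSing Q U) (hR : NonSing Q R)
    (h : ∀ u ∈ U, ∀ v ∈ R, B u v = 0) : NonSing Q (U ⊔ R) := by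
  intro w hw hw0
  obtain ⟨u, hu, v, hv, rfl⟩ := Submodule.mem_sup.1 hw
  by_cases h0 : u = 0
  · subst h0
    rw [zero_add] at hw0 ⊢
    obtain ⟨x, hx, hxx⟩ := hR v hv hw0
    exact ⟨x, Submodule.mem_sup_right hx, hxx⟩
  · obtain ⟨x, hx, hxx⟩ := hU u hu h0
    refine ⟨x, Submodule.mem_sup_left hx, ?_⟩
    rw [QuadraticMap.polar_add_left, QuadraticMap.polar_comm _ v x, h x hx v hv, add_zero]
    exact hxx

theorem finrank_sup_orth {U R : Submodule F (ι → F)} (hU : NonSing Q U)
    (h : ∀ u ∈ U, ∀ v ∈ R, B u v = 0) : finrank F (U ⊔ R : Submodule F (ι → F)) = finrank F U + finrank F R := by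
  have hd : U ⊓ R = ⊥ := by
    rw [Submodule.eq_bot_iff]
    rintro x ⟨hxU, hxR⟩
    by_contra hx
    obtain ⟨u, hu, hxu⟩ := hU x hxU hx
    exact hxu (by rw [QuadraticMap.polar_comm]; exact h u hu x hxR)
  have := Submodule.finrank_sup_add_finrank_inf_eq U R
  rwa [hd, finrank_bot, add_zero] at this

variable (h2 : (2 : F) ≠ 0) (hQ : (QuadraticMap.polarBilin Q).Nondegenerate)

include h2 in
theorem exists_aniso {E : Submodule F (ι → F)} (hE : NonSing Q E) (hd : 0 < finrank F E) :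
    ∃ v ∈ E, Q v ≠ 0 := by
  obtain ⟨w, hw, hw0⟩ := Submodule.exists_mem_ne_zero_of_ne_bot (p := E) fun e => by
    rw [e, finrank_bot] at hd; omega
  obtain ⟨u, hu, hwu⟩ := hE w hw hw0
  by_contra h
  push Not at h
  exact hwu (by rw [QuadraticMap.polar, h _ (add_mem hw hu), h _ hw, h _ hu]; simp)

include h2 hQ in
/-- Orthogonal non-degenerate pieces of given dimensions. -/
theorem exists_pieces {E : Submodule F (ι → F)} (hE : NonSing Q E) : ∀ k ≤ finrank F E,
    ∃ U R : Submodule F (ι → F), U ≤ E ∧ R ≤ E ∧ NonSing Q U ∧ NonSing Q R ∧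
      (∀ u ∈ U, ∀ v ∈ R, B u v = 0) ∧ finrank F U = k ∧ k + finrank F R = finrank F E := by
  intro k
  induction k with
  | zero =>
    exact fun _ => ⟨⊥, E, bot_le, le_rfl, nonSing_bot, hE, fun u hu v _ => by
      rw [(Submodule.mem_bot F).1 hu, QuadraticMap.polar_zero_left], finrank_bot F _, zero_add _⟩
  | succ k ih =>
    intro hk
    obtain ⟨U, R, hUE, hRE, hU, hR, horth, hUd, hRd⟩ := ih (by omega)
    obtain ⟨a, ha, ha0⟩ := exists_aniso h2 hR (by omega)
    have haa : B a a ≠ 0 := by rw [polar_self2]; exact mul_ne_zero h2 ha0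
    have hspan : NonSing Q (Submodule.span F {a}) := by
      intro w hw hw0
      obtain ⟨c, rfl⟩ := Submodule.mem_span_singleton.1 hw
      refine ⟨a, Submodule.mem_span_singleton_self a, ?_⟩
      rw [QuadraticMap.polar_smul_left, smul_eq_mul]
      exact mul_ne_zero (fun e => hw0 (by rw [e, zero_smul])) haa
    set L : (ι → F) →ₗ[F] F := (B a a)⁻¹ • QuadraticMap.polarBilin Q a
    have hL : ∀ x, L x = (B a a)⁻¹ * B a x := fun x => rfl
    have hd := finrank_inf_ker R L ha (by rw [hL, inv_mul_cancel₀ haa])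
    set R' := R ⊓ LinearMap.ker L
    have hR' : ∀ x ∈ R', B a x = 0 := fun x hx => by
      have h := LinearMap.mem_ker.1 hx.2
      rw [hL] at h
      exact (mul_eq_zero.1 h).resolve_left (inv_ne_zero haa)
    have hUa : ∀ u ∈ U, ∀ v ∈ Submodule.span F {a}, B u v = 0 := fun u hu v hv => by
      obtain ⟨c, rfl⟩ := Submodule.mem_span_singleton.1 hv
      rw [QuadraticMap.polar_smul_right, horth u hu a ha, smul_zero]
    refine ⟨U ⊔ Submodule.span F {a}, R', sup_le hUE ((Submodule.span_singleton_le_iff_mem _ _).2 (hRE ha)),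
      inf_le_left.trans hRE, nonSing_sup hU hspan hUa, ?_, ?_, ?_, by omega⟩
    · intro w hw hw0
      obtain ⟨z, hz, hwz⟩ := hR w hw.1 hw0
      refine ⟨z - L z • a, ⟨R.sub_mem hz (R.smul_mem _ ha), LinearMap.mem_ker.2 ?_⟩, ?_⟩
      · rw [map_sub, map_smul, smul_eq_mul, hL a, inv_mul_cancel₀ haa, mul_one, sub_self]
      · rw [QuadraticMap.polar_sub_right, QuadraticMap.polar_smul_right, QuadraticMap.polar_comm _ w a, hR' w hw,
          smul_zero, sub_zero]
        exact hwz
    · intro u hu v hv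
      obtain ⟨x, hx, y, hy, rfl⟩ := Submodule.mem_sup.1 hu
      obtain ⟨c, rfl⟩ := Submodule.mem_span_singleton.1 hy
      rw [QuadraticMap.polar_add_left, QuadraticMap.polar_smul_left, horth x hx v hv.1, hR' v hv, smul_zero, add_zero]
    · rw [finrank_sup_orth hU hUa, finrank_span_singleton (fun e => ha0 (by rw [e, QuadraticMap.map_zero])), hUd]

include h2 in
/-- The two classes of an extra diagonal entry give the two types. -/
theorem plus_sum_flip {V : Type*} [AddCommGroup V] [Module F V] [FiniteDimensional F V] (S : QuadraticForm F V)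
    (hS : (QuadraticMap.polarBilin S).Nondegenerate) {a : ℕ} (hV : finrank F V = 2 * a + 1) {c c' : F}
    (hcc : ¬ IsSquare (c * c')) :
    EvenType.Plus (S.prod (c • (QuadraticMap.sq : QuadraticForm F F))) ↔
      ¬ EvenType.Plus (S.prod (c' • (QuadraticMap.sq : QuadraticForm F F))) := by
  classical
  have hne : c ≠ 0 ∧ c' ≠ 0 := by
    constructor <;> rintro rfl <;> simp at hcc
  have hnd : ∀ z : F, z ≠ 0 →
      (QuadraticMap.polarBilin (z • (QuadraticMap.sq : QuadraticForm F F))).Nondegenerate := fun z hz => by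
    refine nondegenerate_of_separatingLeft _ fun u hu => ?_
    have h1 := hu 1
    simp [QuadraticMap.polar] at h1
    exact (mul_eq_zero.1 (show (2 * z) * u = 0 by linear_combination h1)).resolve_left (mul_ne_zero h2 hz)
  have hdim : finrank F (V × F) = 2 * (a + 1) := by rw [Module.finrank_prod, hV, Module.finrank_self]; ring
  let bS := Module.finBasis F V
  let bb := bS.prod (Module.Basis.singleton Unit F)
  have hgram : ∀ z : F, gramDet (QuadraticMap.polarBilin (S.prod (z • (QuadraticMap.sq : QuadraticForm F F)))) bb =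
      gramDet (QuadraticMap.polarBilin S) bS * (2 * z) := by
    intro z
    have h1 : (2 * z : F) = (Matrix.of fun _ _ : Unit => 2 * z).det := by
      rw [Matrix.det_unique]; rfl
    rw [gramDet_eq_of, gramDet_eq_of, h1, ← Matrix.det_fromBlocks_zero₂₁ _ (0 : Matrix (Fin (finrank F V)) Unit F)]
    congr 1
    ext i j
    rcases i with i | i <;> rcases j with j | j <;>
      simp [bb, QuadraticMap.polar, Module.Basis.prod_apply] <;> ring
  have hsq : ∀ z : F, z ≠ 0 → (EvenType.Plus (S.prod (z • (QuadraticMap.sq : QuadraticForm F F))) ↔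
      IsSquare ((-1) ^ (a + 1) * (gramDet (QuadraticMap.polarBilin S) bS * (2 * z)))) := fun z hz => by
    rw [← hgram]
    exact EvenType.plus_iff_disc h2 (OrthPrimeOrderClasses.nondegenerate_prod hS (hnd z hz)) hdim bb
  rw [hsq c hne.1, hsq c' hne.2]
  set G := (-1) ^ (a + 1) * gramDet (QuadraticMap.polarBilin S) bS * 2 with hG
  have hG0 : G ≠ 0 := mul_ne_zero (mul_ne_zero (pow_ne_zero _ (neg_ne_zero.2 one_ne_zero))
    (gramDet_ne_zero hS bS)) h2
  have e : ∀ z : F, (-1) ^ (a + 1) * (gramDet (QuadraticMap.polarBilin S) bS * (2 * z)) = G * z := fun z => by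
    rw [hG]; ring
  rw [e, e]
  constructor
  · rintro ⟨s, hs⟩ ⟨s', hs'⟩
    exact hcc ⟨s * s' / G, by field_simp; linear_combination (G * c') * hs + (s * s) * hs'⟩
  · intro h
    by_contra h'
    obtain ⟨s, hs⟩ := isSquare_of_two_nonsquares h2 h' h
    exact hcc ⟨s / G, by field_simp; linear_combination hs⟩

include h2 hQ in
/-- An orthogonal extra vector of either class. -/
theorem exists_type {W₀ R : Submodule F (ι → F)} (hW : NonSing Q W₀) (hR : NonSing Q R) (hR2 : 2 ≤ finrank F R)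
    (horth : ∀ w ∈ W₀, ∀ v ∈ R, B w v = 0) {a : ℕ} (hd : finrank F W₀ = 2 * a + 1) (b : Prop) :
    ∃ v ∈ R, finrank F (W₀ ⊔ Submodule.span F {v} : Submodule F (ι → F)) = 2 * (a + 1) ∧
      NonSing Q (W₀ ⊔ Submodule.span F {v}) ∧
      (EvenType.Plus (EvenType.res Q (W₀ ⊔ Submodule.span F {v})) ↔ b) := by
  classical
  have key : ∀ v ∈ R, Q v ≠ 0 → finrank F (W₀ ⊔ Submodule.span F {v} : Submodule F (ι → F)) = 2 * (a + 1) ∧
      NonSing Q (W₀ ⊔ Submodule.span F {v}) ∧
      (EvenType.Plus (EvenType.res Q (W₀ ⊔ Submodule.span F {v})) ↔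
        EvenType.Plus ((EvenType.res Q W₀).prod (Q v • (QuadraticMap.sq : QuadraticForm F F)))) := by
    intro v hv hv0
    have hvv : B v v ≠ 0 := by rw [polar_self2]; exact mul_ne_zero h2 hv0
    have hne : v ≠ 0 := fun e => hv0 (by rw [e, QuadraticMap.map_zero])
    have horth' : ∀ w ∈ W₀, ∀ x ∈ Submodule.span F {v}, B w x = 0 := fun w hw x hx => by
      obtain ⟨c, rfl⟩ := Submodule.mem_span_singleton.1 hx
      rw [QuadraticMap.polar_smul_right, horth w hw v hv, smul_zero]
    refine ⟨by rw [finrank_sup_orth hW horth', finrank_span_singleton hne, hd]; ring, nonSing_sup hW ?_ horth', ?_⟩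
    · intro w hw hw0
      obtain ⟨c, rfl⟩ := Submodule.mem_span_singleton.1 hw
      refine ⟨v, Submodule.mem_span_singleton_self v, ?_⟩
      rw [QuadraticMap.polar_smul_left, smul_eq_mul]
      exact mul_ne_zero (fun e => hw0 (by rw [e, zero_smul])) hvv
    · let L : W₀ × F →ₗ[F] (W₀ ⊔ Submodule.span F {v} : Submodule F (ι → F)) :=
        (Submodule.inclusion le_sup_left).coprod (LinearMap.toSpanSingleton F _
          ⟨v, Submodule.mem_sup_right (Submodule.mem_span_singleton_self v)⟩)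
      have hLv : ∀ (x : W₀) (c : F), ((L (x, c) : _) : ι → F) = (x : ι → F) + c • v := fun x c => rfl
      have hsurj : Function.Surjective L := fun y => by
        obtain ⟨x, hx, z, hz, e⟩ := Submodule.mem_sup.1 y.2
        obtain ⟨c, rfl⟩ := Submodule.mem_span_singleton.1 hz
        exact ⟨(⟨x, hx⟩, c), Subtype.ext ((hLv _ _).trans e)⟩
      have hdim : finrank F (W₀ × F) = finrank F (W₀ ⊔ Submodule.span F {v} : Submodule F (ι → F)) := by
        rw [Module.finrank_prod, Module.finrank_self, finrank_sup_orth hW horth', finrank_span_singleton hne]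
      let φ : (W₀ × F) ≃ₗ[F] (W₀ ⊔ Submodule.span F {v} : Submodule F (ι → F)) :=
        LinearEquiv.ofBijective L ⟨(LinearMap.injective_iff_surjective_of_finrank_eq_finrank hdim).2 hsurj, hsurj⟩
      refine (OrthNondegRealize.plus_of_similar φ one_ne_zero fun p => ?_).symm
      rw [one_mul]
      show Q ((L p : _) : ι → F) = _
      rw [show p = (p.1, p.2) from rfl, hLv, QuadraticMap.map_add (⇑Q), QuadraticMap.map_smul,
        QuadraticMap.polar_smul_right, horth _ p.1.2 v hv, QuadraticMap.prod_apply,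
        _root_.QuadraticMap.smul_apply, EvenType.res_apply, QuadraticMap.sq_apply]
      simp only [smul_eq_mul]
      ring
  obtain ⟨ν, hν⟩ := FiniteField.exists_nonsquare (F := F) (fun h => h2 (by
    haveI := ringChar.of_eq h; exact CharTwo.two_eq_zero))
  have hν0 : ν ≠ 0 := fun e => hν (e ▸ IsSquare.zero)
  obtain ⟨v₁, hv₁, hQ₁⟩ := exists_value_in hQ h2 hR hR2 1
  obtain ⟨v₂, hv₂, hQ₂⟩ := exists_value_in hQ h2 hR hR2 ν
  obtain ⟨d1, n1, t1⟩ := key v₁ hv₁ (by rw [hQ₁]; exact one_ne_zero)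
  obtain ⟨d2, n2, t2⟩ := key v₂ hv₂ (by rw [hQ₂]; exact hν0)
  have hflip := plus_sum_flip h2 (EvenType.res Q W₀) (EvenType.nondeg_res hW) hd (c := Q v₁) (c' := Q v₂)
    (by rwa [hQ₁, hQ₂, one_mul])
  rw [← t1, ← t2] at hflip
  by_cases hp : EvenType.Plus (EvenType.res Q (W₀ ⊔ Submodule.span F {v₁})) ↔ b
  · exact ⟨v₁, hv₁, d1, n1, hp⟩
  · exact ⟨v₂, hv₂, d2, n2, by tauto⟩

include h2 hQ in
/-- The construction from two orthogonal eigenspaces. -/
theorem exists_in_split {E E' : Submodule F (ι → F)} (hE : NonSing Q E) (hE' : NonSing Q E')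
    (horth : ∀ x ∈ E, ∀ y ∈ E', B x y = 0) {a : ℕ} (hE2 : 2 ≤ finrank F E)
    (hd : 2 * (a + 1) + 1 ≤ finrank F E + finrank F E') (b : Prop) :
    ∃ (U V : Submodule F (ι → F)), U ≤ E ∧ V ≤ E' ∧ finrank F (U ⊔ V : Submodule F (ι → F)) = 2 * (a + 1) ∧
      NonSing Q (U ⊔ V) ∧ (EvenType.Plus (EvenType.res Q (U ⊔ V)) ↔ b) := by
  obtain ⟨V, -, hVE, -, hV, -, -, hVd, -⟩ := exists_pieces h2 hQ hE' (min (finrank F E') (2 * a + 1)) (min_le_left _ _)
  obtain ⟨U, R, hUE, hRE, hU, hR, hUR, hUd, hRd⟩ := exists_pieces h2 hQ hE (2 * a + 1 - finrank F V) (by omega)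
  have hVU : ∀ u ∈ U, ∀ x ∈ V, B u x = 0 := fun u hu x hx => horth u (hUE hu) x (hVE hx)
  obtain ⟨v, hv, hvd, hvn, hvb⟩ := exists_type h2 hQ (nonSing_sup hU hV hVU) hR (by omega)
    (fun w hw z hz => by
      obtain ⟨u, hu, x, hx, rfl⟩ := Submodule.mem_sup.1 hw
      rw [QuadraticMap.polar_add_left, hUR u hu z hz, QuadraticMap.polar_comm _ x z,
        horth z (hRE hz) x (hVE hx), add_zero])
    (a := a) (by rw [finrank_sup_orth hU hVU]; omega) b
  refine ⟨U ⊔ Submodule.span F {v}, V, sup_le hUE ((Submodule.span_singleton_le_iff_mem _ _).2 (hRE hv)), hVE, ?_⟩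
  rw [sup_right_comm]
  exact ⟨hvd, hvn, hvb⟩

include h2 hQ in
/-- Involutions fix non-degenerate subspaces of every even dimension and both types, in odd dimension. -/
theorem exists_invariant {d M : ℕ} (hι : Fintype.card ι = 2 * d + 1) (hM : 1 ≤ M) (hMd : M ≤ d) {g : OG}
    (hg : g * g = 1) (b : Prop) :
    ∃ W : Submodule F (ι → F), finrank F W = 2 * M ∧ (QuadraticMap.polarBilin (EvenType.res Q W)).Nondegenerate ∧
      (EvenType.Plus (EvenType.res Q W) ↔ b) ∧ ∀ w ∈ W, ogVal g *ᵥ w ∈ W := by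
  obtain ⟨a, rfl⟩ : ∃ a, M = a + 1 := ⟨M - 1, by omega⟩
  set Em := InvolutionSingular.negSub g
  set Ep := fixSub g
  have hplus : ∀ x, x + ogVal g *ᵥ x ∈ Ep := fun x =>
    mem_fixSub.2 (by rw [Matrix.mulVec_add, InvolutionSingular.sq_apply hg, add_comm])
  have hminus : ∀ x, x - ogVal g *ᵥ x ∈ Em := fun x =>
    InvolutionSingular.mem_negSub.2 (by rw [Matrix.mulVec_sub, InvolutionSingular.sq_apply hg, neg_sub])
  have hinf : Ep ⊓ Em = ⊥ := by
    rw [Submodule.eq_bot_iff]
    rintro x ⟨h1, h1'⟩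
    have e : ogVal g *ᵥ x = x := mem_fixSub.1 h1
    have e' : ogVal g *ᵥ x = -x := InvolutionSingular.mem_negSub.1 h1'
    have h3 : (2 : F) • x = 0 := by rw [two_smul]; exact add_eq_zero_iff_eq_neg.2 (e.symm.trans e')
    exact (smul_eq_zero.1 h3).resolve_left h2
  have hsup : Ep ⊔ Em = ⊤ := by
    refine eq_top_iff.2 fun x _ => ?_
    have : x = (2 : F)⁻¹ • (x + ogVal g *ᵥ x) + (2 : F)⁻¹ • (x - ogVal g *ᵥ x) := by
      rw [← smul_add, show x + ogVal g *ᵥ x + (x - ogVal g *ᵥ x) = (2 : F) • x by module, smul_smul,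
        inv_mul_cancel₀ h2, one_smul]
    rw [this]
    exact Submodule.add_mem_sup (Ep.smul_mem _ (hplus x)) (Em.smul_mem _ (hminus x))
  have horth : ∀ p ∈ Ep, ∀ n ∈ Em, B p n = 0 := fun p hp n hn => by
    have h := InvolutionSingular.polar_isometry g p n
    rw [mem_fixSub.1 hp, InvolutionSingular.mem_negSub.1 hn, QuadraticMap.polar_neg_right] at h
    exact (mul_eq_zero.1 (show (2 : F) * B p n = 0 by linear_combination -h)).resolve_left h2
  have hsp : EvenType.Split Q Ep Em := ⟨hsup, hinf, horth⟩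
  have hdim := hsp.dim
  rw [Module.finrank_pi, hι] at hdim
  have hNm : NonSing Q Em := InvolutionSingular.nondeg_negSub h2 hQ hg
  have hNp : NonSing Q Ep := fun w hw hw0 =>
    ((OrthNondegRealize.nondeg_on_iff Ep).2 (hsp.nondeg_left hQ) w hw hw0).2
  have hfix : ∀ U ≤ Ep, ∀ u ∈ U, ogVal g *ᵥ u ∈ U := fun U hU u hu => by rwa [mem_fixSub.1 (hU hu)]
  have hneg : ∀ U ≤ Em, ∀ u ∈ U, ogVal g *ᵥ u ∈ U := fun U hU u hu => by
    rw [InvolutionSingular.mem_negSub.1 (hU hu)]; exact U.neg_mem hu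
  have hadd : ∀ U V : Submodule F (ι → F), (∀ u ∈ U, ogVal g *ᵥ u ∈ U) → (∀ u ∈ V, ogVal g *ᵥ u ∈ V) →
      ∀ w ∈ U ⊔ V, ogVal g *ᵥ w ∈ U ⊔ V := fun U V hU hV w hw => by
    obtain ⟨u, hu, x, hx, rfl⟩ := Submodule.mem_sup.1 hw
    rw [Matrix.mulVec_add]
    exact Submodule.add_mem_sup (hU u hu) (hV x hx)
  rcases Nat.lt_or_ge (finrank F Ep) 2 with h | h
  · obtain ⟨U, V, hU, hV, h1, h3, h4⟩ := exists_in_split h2 hQ hNm hNp
      (fun x hx y hy => by rw [QuadraticMap.polar_comm]; exact horth y hy x hx) (a := a) (by omega) (by omega) b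
    exact ⟨U ⊔ V, h1, EvenType.nondeg_res h3, h4, hadd U V (hneg U hU) (hfix V hV)⟩
  · obtain ⟨U, V, hU, hV, h1, h3, h4⟩ := exists_in_split h2 hQ hNp hNm horth (a := a) h (by omega) b
    exact ⟨U ⊔ V, h1, EvenType.nondeg_res h3, h4, hadd U V (hfix U hU) (hneg V hV)⟩

end Cfsg.Agent.OrthNondegInvolution
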