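import Cfsg.Agent.Lib.Classical.OrthNondegDerange
import Cfsg.Agent.Lib.Classical.OrthNondegInvolution
import Cfsg.Agent.Lib.Classical.OrthJordanTypes

/-! The criteria for non-degenerate subspaces of even dimension of `Ω_{2d+1}(q)`, in terms of `i` and `c`. -/

set_option autoImplicit false

namespace Cfsg.Agent.OrthNondegCrit

open Matrix Module Cfsg.Agent.OrthNondegDerange Cfsg.Agent.UnitaryDetCentralizer Cfsg.Agent.Classical
  Cfsg.Agent.SelfReciprocalFactors

variable {F : Type*} [Field F] [Fintype F]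

theorem pow_one_iff {r i t : ℕ} (h : Ctx F r i t) {M : ℕ} (hM : M % half i = 0) :
    ((Fintype.card F : ZMod r) ^ M = 1 ↔ (Odd i ∨ Even (M / half i))) ∧
      ((Fintype.card F : ZMod r) ^ M = -1 ↔ (Even i ∧ Odd (M / half i))) := by
  haveI := Fact.mk h.prime
  haveI : Fact (2 < r) := ⟨lt_of_le_of_ne h.prime.two_le (Ne.symm h.odd)⟩
  have hne : (-1 : ZMod r) ≠ 1 := ZMod.neg_one_ne_one
  rw [pow_of_mod h hM]
  rcases Nat.even_or_odd i with he | ho
  · have ho : ¬ Odd i := Nat.not_odd_iff_even.2 he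
    rw [if_pos he]
    rcases Nat.even_or_odd (M / half i) with e | e
    · simp [e.neg_one_pow, he, ho, e, hne.symm, Nat.not_odd_iff_even.2 e]
    · simp [e.neg_one_pow, he, ho, e, hne, Nat.not_even_iff_odd.2 e]
  · rw [if_neg (Nat.not_even_iff_odd.2 ho)]
    simp [ho, hne.symm, Nat.not_even_iff_odd.2 ho]

theorem half_le {r i d M : ℕ} {b : Prop} [Decidable b] (hsm : d % half i < M) (hC : Crit F r i d M b) :
    half i ≤ M := by
  by_contra hlt
  unfold Crit at hC
  rw [Nat.mod_eq_of_lt (by omega : M < half i)] at hC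
  omega

theorem mods {i c d M : ℕ} (hc : c = if Even i then i else 2 * i) :
    c = 2 * half i ∧ (2 * M) % c = 2 * (M % half i) ∧ (0 < half i → (2 * d + 1) % c = 2 * (d % half i) + 1) ∧
      (Even i → 2 * M / i = M / half i) := by
  have hch : c = 2 * half i := by rw [hc, two_half]; rfl
  refine ⟨hch, by rw [hch, Nat.mul_mod_mul_left], fun hh => ?_, fun he => ?_⟩
  · have := Nat.div_add_mod d (half i)
    have := Nat.mod_lt d hh
    rw [hch, show 2 * d + 1 = (2 * (d % half i) + 1) + 2 * half i * (d / half i) by rw [mul_assoc]; omega,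
      Nat.add_mul_mod_self_left, Nat.mod_eq_of_lt (by omega)]
  · obtain ⟨k, rfl⟩ := he
    rw [half, if_pos ⟨k, rfl⟩, show (k + k) / 2 = k by omega, ← two_mul, Nat.mul_div_mul_left _ _ two_pos]

variable {ι : Type} [Fintype ι] [DecidableEq ι] (Q : QuadraticForm F (ι → F))
  (hQ : (QuadraticMap.polarBilin Q).Nondegenerate) (h2 : (2 : F) ≠ 0) {d M : ℕ}
  (hι : Fintype.card ι = 2 * d + 1) (hM : 1 ≤ M) (hMd : M ≤ d) (b : Prop)

theorem ctx {p q r i : ℕ} [Fact p.Prime] [CharP F p] [Fact r.Prime] (hq : Fintype.card F = q) (hrp : r ≠ p)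
    (hr2 : r ≠ 2) (hi : i = orderOf (q : ZMod r)) : Ctx F r i ((r - 1) / i) ∧ ¬ r ∣ Fintype.card F := by
  have hr : r.Prime := Fact.out
  have hrq : ¬ r ∣ Fintype.card F := by
    intro h
    obtain ⟨e, -, he⟩ := FiniteField.card F p
    rw [he] at h
    exact hrp ((Nat.prime_dvd_prime_iff_eq hr Fact.out).1 (hr.dvd_of_dvd_pow h))
  have hqr : (q : ZMod r) ≠ 0 := fun h => hrq (by rwa [hq, ← ZMod.natCast_eq_zero_iff])
  have hir : i ∣ r - 1 := hi ▸ ZMod.orderOf_dvd_card_sub_one hqr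
  have hr0 : (r : F) ≠ 0 := fun e =>
    hrp ((Nat.prime_dvd_prime_iff_eq (Fact.out : p.Prime) hr).1 ((CharP.cast_eq_zero_iff F p r).1 e)).symm
  exact ⟨⟨hr, hr2, hr0, by rw [hq, hi], Nat.div_mul_cancel hir⟩, hrq⟩

include hQ h2 hι hM hMd in
theorem fixes_two (x : GL ι F) (hx : x ∈ Geo.omegaGL ⇑Q) (ho : orderOf x = 2) :
    ∃ W : Submodule F (ι → F), Good Q M b W ∧ W.map (Matrix.toLin' (x : Matrix ι ι F)) ≤ W := by
  obtain ⟨g, -, rfl⟩ := hx
  have hgg : g * g = 1 := Subtype.ext (by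
    have := pow_orderOf_eq_one ((g : GL ι F))
    rw [show orderOf (g : GL ι F) = 2 from ho, pow_two] at this
    exact this)
  obtain ⟨W, h1, h3, h4, h5⟩ := OrthNondegInvolution.exists_invariant h2 hQ hι hM hMd hgg b
  refine ⟨W, (good_iff Q W).2 ⟨h1, h3, h4⟩, ?_⟩
  rw [Submodule.map_le_iff_le_comap]
  exact h5

include hQ h2 hι hM hMd in
/-- Some element of order `p` fixes no space of minus type. -/
theorem exists_bad_p (p : ℕ) [Fact p.Prime] [CharP F p] (hd : 2 ≤ d) (hb : ¬ b) :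
    ¬ ∀ x : GL ι F, x ∈ Geo.omegaGL ⇑Q → orderOf x = p →
      ∃ W : Submodule F (ι → F), Good Q M b W ∧ W.map (Matrix.toLin' (x : Matrix ι ι F)) ≤ W := by
  intro H
  have hp : p ≠ 2 := fun e => h2 (by
    have := CharP.cast_eq_zero F p
    rwa [e, Nat.cast_ofNat] at this)
  have hp3 : 3 ≤ p := by have := (Fact.out : p.Prime).two_le; omega
  obtain ⟨k, e, hk, he, he3, hsum⟩ : ∃ k e : ℕ, Even k ∧ Odd e ∧ e ≤ 3 ∧ 2 * k + e = 2 * d + 1 ∧ 0 < k := by
    rcases Nat.even_or_odd d with hd' | ⟨a, hd'⟩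
    · exact ⟨d, 1, hd', odd_one, by omega, rfl, by omega⟩
    · exact ⟨2 * a, 3, even_two_mul a, by decide, le_rfl, by omega, by omega⟩
  have he1 : 1 ≤ e := he.pos
  set μ := Multiset.replicate k 2 + {e}
  have hmem : ∀ x ∈ μ, x = 2 ∨ x = e := fun x hx => by
    rcases Multiset.mem_add.1 hx with h | h
    · exact Or.inl (Multiset.eq_of_mem_replicate h)
    · exact Or.inr (Multiset.mem_singleton.1 h)
  have h2e : 2 ≠ e := fun h => Nat.not_odd_iff_even.2 even_two (h ▸ he)
  have hgood : OrthJordanTypes.Good p μ := by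
    refine ⟨fun x hx => ?_, fun x hx => ?_⟩
    · rcases hmem x hx with rfl | rfl <;> omega
    · rw [Multiset.count_add, Multiset.count_singleton, if_neg (fun (h : x = e) => Nat.not_odd_iff_even.2 hx (h ▸ he)),
        add_zero, Multiset.count_replicate]
      split_ifs
      exacts [hk, Even.zero]
  obtain ⟨ν, hν, hνs, -, W, hW, hWp⟩ := OrthJordanTypes.partitions_of_fixes p h2 Q hQ (Good Q M b)
    (fun W hW => ⟨hW.1, hW.2.1⟩) (fun A hA hAo _ => H A hA hAo) μ hgood
    (by rw [hι, Multiset.sum_add, Multiset.sum_replicate, Multiset.sum_singleton, smul_eq_mul]; omega)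
    ⟨e, Multiset.mem_add.2 (Or.inr (Multiset.mem_singleton_self e)), he⟩
    ⟨2, Multiset.mem_add.2 (Or.inl (Multiset.mem_replicate.2 ⟨by omega, rfl⟩)), by omega⟩
  refine hb (hW.2.2.1 (hWp ?_))
  obtain ⟨R', hR', hνe⟩ := OrthJordanTypes.sub_twos hν (fun h => h2e (Multiset.mem_singleton.1 h))
  rcases Multiset.le_singleton.1 hR' with rfl | rfl
  · intro x hx
    rw [hνe, add_zero] at hx
    rw [Multiset.eq_of_mem_replicate hx]
    exact even_two
  · rw [hνe, Multiset.sum_add, Multiset.sum_replicate, Multiset.sum_singleton, smul_eq_mul] at hνs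
    obtain ⟨a, rfl⟩ := he
    omega

end Cfsg.Agent.OrthNondegCrit
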