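import Cfsg.Agent.Lib.Classical.OrthIsoRealize

/-! Isometries of odd dimensional spaces with an invariant non-degenerate subspace of given type. -/

set_option autoImplicit false

namespace Cfsg.Agent.OrthNondegRealize

open Polynomial Module Cfsg.Agent.UnitaryDetCentralizer Cfsg.Agent.SelfReciprocalFactors Cfsg.Agent.Classical
  Cfsg.Agent.OrthPrimeOrderClasses

variable {F : Type*} [Field F]

theorem res_nondeg_of_map {V W : Type*} [AddCommGroup V] [Module F V] [AddCommGroup W] [Module F W]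
    {Q : QuadraticForm F V} {Q' : QuadraticForm F W} (φ : V ≃ₗ[F] W) {c : F} (hc : c ≠ 0)
    (hφ : ∀ v, Q' (φ v) = c * Q v) [FiniteDimensional F W] (hQ : (QuadraticMap.polarBilin Q).Nondegenerate) :
    (QuadraticMap.polarBilin Q').Nondegenerate := by
  refine nondegenerate_of_separatingLeft _ fun u hu => φ.symm.map_eq_zero_iff.1 (hQ.1 _ fun z => ?_)
  have h := hu (φ z)
  simp only [QuadraticMap.polarBilin_apply_apply, QuadraticMap.polar] at h ⊢
  have h1 := hφ (φ.symm u + z)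
  have h2 := hφ (φ.symm u)
  rw [φ.apply_symm_apply] at h2
  rw [map_add, φ.apply_symm_apply] at h1
  rw [h1, h2, hφ, ← mul_sub, ← mul_sub] at h
  exact (mul_eq_zero.1 h).resolve_left hc

theorem nondeg_on_iff {ι : Type} [Fintype ι] [DecidableEq ι] {Q : QuadraticForm F (ι → F)}
    (W : Submodule F (ι → F)) :
    Geo.IsNondegenerateOn (QuadraticMap.polar ⇑Q) W ↔
      (QuadraticMap.polarBilin (EvenType.res Q W)).Nondegenerate := by
  refine ⟨EvenType.nondeg_res_on, fun h w hw h0 => ?_⟩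
  obtain ⟨x, hx⟩ : ∃ x : W, QuadraticMap.polar (⇑Q) w x ≠ 0 := by
    by_contra hno
    push Not at hno
    exact h0 (congrArg Subtype.val (h.1 ⟨w, hw⟩ fun x => hno x))
  exact ⟨⟨x, x.2, by rwa [QuadraticMap.polar_comm]⟩, x, x.2, hx⟩

variable [Fintype F]

theorem plus_of_similar {V W : Type*} [AddCommGroup V] [Module F V] [FiniteDimensional F V] [AddCommGroup W]
    [Module F W] [FiniteDimensional F W] {Q : QuadraticForm F V} {Q' : QuadraticForm F W} (φ : V ≃ₗ[F] W) {c : F}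
    (hc : c ≠ 0) (hφ : ∀ v, Q' (φ v) = c * Q v) : EvenType.Plus Q ↔ EvenType.Plus Q' := by
  constructor
  · rintro ⟨U, hU, hd⟩
    refine ⟨U.map (φ : V →ₗ[F] W), ?_, by rw [LinearEquiv.finrank_map_eq, hd, φ.finrank_eq]⟩
    rintro _ ⟨u, hu, rfl⟩
    show Q' (φ u) = 0
    rw [hφ, hU u hu, mul_zero]
  · rintro ⟨U, hU, hd⟩
    refine ⟨U.map (φ.symm : W →ₗ[F] V), ?_, by rw [LinearEquiv.finrank_map_eq, hd, φ.finrank_eq]⟩
    rintro _ ⟨u, hu, rfl⟩
    have h := hφ (φ.symm u)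
    rw [φ.apply_symm_apply, hU u hu] at h
    exact (mul_eq_zero.1 h.symm).resolve_left hc

variable {r : ℕ} {ι : Type} [Fintype ι] [DecidableEq ι] (Q : QuadraticForm F (ι → F))

/-- An isometry killed by `r` with characteristic polynomial `P` and an invariant non-degenerate `m`-space of
type `b`. -/
def Wit (r : ℕ) (P : F[X]) (m : ℕ) (b : Prop) : Prop :=
  ∃ (g : Module.End F (ι → F)) (W : Submodule F (ι → F)), (∀ v, Q (g v) = Q v) ∧ g ^ r = 1 ∧ g.charpoly = P ∧
    finrank F W = m ∧ (QuadraticMap.polarBilin (EvenType.res Q W)).Nondegenerate ∧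
    (EvenType.Plus (EvenType.res Q W) ↔ b) ∧ ∀ w ∈ W, g w ∈ W

/-- A sum of an even and an odd dimensional space inside the given one. -/
theorem wit_of_prod (hQ : (QuadraticMap.polarBilin Q).Nondegenerate) {d a k : ℕ} (hι : Fintype.card ι = 2 * d + 1)
    {V₁ V₂ : Type*} [AddCommGroup V₁] [Module F V₁] [FiniteDimensional F V₁] [AddCommGroup V₂] [Module F V₂]
    [FiniteDimensional F V₂] {A : QuadraticForm F V₁} {B : QuadraticForm F V₂}
    (hA : (QuadraticMap.polarBilin A).Nondegenerate) (hB : (QuadraticMap.polarBilin B).Nondegenerate)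
    (hV₁ : finrank F V₁ = a) (hV₂ : finrank F V₂ = k) (hak : a + k = 2 * d + 1)
    {g₁ : Module.End F V₁} {g₂ : Module.End F V₂} (h₁ : ∀ v, A (g₁ v) = A v) (h₂ : ∀ v, B (g₂ v) = B v)
    (hr₁ : g₁ ^ r = 1) (hr₂ : g₂ ^ r = 1) :
    Wit Q r (g₁.charpoly * g₂.charpoly) a (EvenType.Plus A) := by
  obtain ⟨c, e, hc, he⟩ := OrthSingularCount.exists_odd_equiv (m := d)
    (show finrank F (V₁ × V₂) = 2 * d + 1 by rw [Module.finrank_prod, hV₁, hV₂, hak]) _ (nondegenerate_prod hA hB)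
  obtain ⟨c', e', hc', he'⟩ := OrthSingularCount.exists_odd_equiv (m := d)
    (show finrank F (ι → F) = 2 * d + 1 by rw [Module.finrank_pi, hι]) Q hQ
  let φ : (V₁ × V₂) ≃ₗ[F] (ι → F) := e.symm.trans e'
  have hcc : c' / c ≠ 0 := div_ne_zero hc' hc
  have hφ : ∀ v, Q (φ v) = c' / c * A.prod B v := fun v => by
    have h1 := he (e.symm v)
    rw [e.apply_symm_apply] at h1
    show Q (e' (e.symm v)) = _
    rw [he', h1, ← mul_assoc, div_mul_cancel₀ _ hc]
  obtain ⟨p1, p2, p3⟩ := prod_isometry h₁ h₂ hr₁ hr₂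
  obtain ⟨t1, t2, t3⟩ := transport φ hcc hφ p1 p2
  let L : V₁ →ₗ[F] (ι → F) := φ.toLinearMap ∘ₗ LinearMap.inl F V₁ V₂
  have hL : Function.Injective L := φ.injective.comp LinearMap.inl_injective
  let ψ : V₁ ≃ₗ[F] LinearMap.range L := LinearEquiv.ofInjective L hL
  have hψ : ∀ v, EvenType.res Q (LinearMap.range L) (ψ v) = c' / c * A v := fun v => by
    show Q (φ (v, 0)) = _
    rw [hφ, QuadraticMap.prod_apply, QuadraticMap.map_zero, add_zero]
  refine ⟨_, LinearMap.range L, t1, t2, by rw [t3, p3], ψ.finrank_eq.symm.trans hV₁, res_nondeg_of_map ψ hcc hψ hA,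
    (plus_of_similar ψ hcc hψ).symm, ?_⟩
  rintro _ ⟨v, rfl⟩
  refine ⟨g₁ v, ?_⟩
  show φ (g₁ v, 0) = φ.conj _ (φ (v, 0))
  rw [LinearEquiv.conj_apply_apply, φ.symm_apply_apply]
  simp

/-- Non-degenerate spaces of either type of a given even dimension. -/
theorem exists_model (a : ℕ) (b : Prop) :
    ∃ (n : ℕ) (A : QuadraticForm F ((Fin a ⊕ Fin a → F) × (Fin n → F))), (QuadraticMap.polarBilin A).Nondegenerate ∧
      finrank F ((Fin a ⊕ Fin a → F) × (Fin n → F)) = 2 * (a + 1) ∧ (EvenType.Plus A ↔ b) := by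
  obtain ⟨n, Q₂, rfl, hn, hb⟩ := exists_plane_sum (a := a) (by rw [Module.finrank_pi]; simp; omega) (qfPlus a F)
    (nondegenerate_qfPlus a) b
  exact ⟨2, _, nondegenerate_prod (nondegenerate_qfPlus a) hn, by
    rw [Module.finrank_prod, Module.finrank_pi, Module.finrank_pi]; simp; omega, hb⟩

/-- Non-degenerate subspaces of either type of a given even dimension exist. -/
theorem exists_wit_one (hQ : (QuadraticMap.polarBilin Q).Nondegenerate) (h2 : (2 : F) ≠ 0) {d M : ℕ}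
    (hι : Fintype.card ι = 2 * d + 1) (hM : 1 ≤ M) (hMd : M ≤ d) (b : Prop) :
    ∃ W : Submodule F (ι → F), finrank F W = 2 * M ∧ (QuadraticMap.polarBilin (EvenType.res Q W)).Nondegenerate ∧
      (EvenType.Plus (EvenType.res Q W) ↔ b) := by
  obtain ⟨a, rfl⟩ : ∃ a, M = a + 1 := ⟨M - 1, by omega⟩
  obtain ⟨n, A, hA, hAd, hAb⟩ := exists_model (F := F) a b
  obtain ⟨g, W, -, -, -, hWd, hWn, hWb, -⟩ := wit_of_prod (r := 1) Q hQ hι hA (nondegenerate_qfOdd (d - (a + 1)) h2)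
    hAd (k := 2 * (d - (a + 1)) + 1) (by rw [Module.finrank_pi]; simp; omega) (by omega) (g₁ := 1) (g₂ := 1)
    (fun v => rfl) (fun v => rfl) (one_pow 1) (one_pow 1)
  exact ⟨W, hWd, hWn, hWb.trans hAb⟩

variable {i t : ℕ}

/-- Realisation of a split characteristic polynomial. -/
theorem wit_split (h : Ctx F r i t) (hQ : (QuadraticMap.polarBilin Q).Nondegenerate) (h2 : (2 : F) ≠ 0) {d M : ℕ}
    (hι : Fintype.card ι = 2 * d + 1) (hM : 1 ≤ M) (hMd : M ≤ d) (b : Prop) [Decidable b] {P₁ P₂ : F[X]}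
    (h₁ : P₁ ∈ selfRecip F r (2 * M)) (h₂ : P₂ ∈ selfRecip F r (2 * (d - M) + 1))
    (hor : P₁.eval 1 = 0 ∨ (Fintype.card F : ZMod r) ^ M = if b then 1 else -1) :
    Wit Q r (P₁ * P₂) (2 * M) b := by
  classical
  obtain ⟨a, rfl⟩ : ∃ a, M = a + 1 := ⟨M - 1, by omega⟩
  obtain ⟨n, A, hA, hAd, hAb⟩ := exists_model (F := F) a b
  have hP : P₁ ∈ spec r A := by
    rw [spec_even h hAd A hA]
    refine ⟨h₁, hor.imp id fun e => e.trans ?_⟩
    simp only [sgn, hAb]
  rw [← spec_odd h h2] at h₂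
  obtain ⟨g₁, hg₁, hr₁, rfl⟩ := hP
  obtain ⟨g₂, hg₂, hr₂, rfl⟩ := h₂
  obtain ⟨g, W, w1, w2, w3, w4, w5, w6, w7⟩ := wit_of_prod Q hQ hι hA (nondegenerate_qfOdd (d - (a + 1)) h2) hAd
    (k := 2 * (d - (a + 1)) + 1) (by rw [Module.finrank_pi]; simp; omega) (by omega) hg₁ hg₂ hr₁ hr₂
  exact ⟨g, W, w1, w2, w3, w4, w5, w6.trans hAb, w7⟩

/-- Isometries with one characteristic polynomial are conjugate. -/
theorem exists_conj (h : Ctx F r i t) (hQ : (QuadraticMap.polarBilin Q).Nondegenerate) (A : isometryGroup F ⇑Q)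
    (hA : A ^ r = 1) (g : Module.End F (ι → F)) (hg : ∀ v, Q (g v) = Q v) (hr : g ^ r = 1)
    (hP : g.charpoly = ((A : GL ι F) : Matrix ι ι F).charpoly) :
    ∃ T : (ι → F) ≃ₗ[F] (ι → F), (∀ v, Q (T v) = Q v) ∧
      ∀ v, Matrix.mulVec ((A : GL ι F) : Matrix ι ι F) (T v) = T (g v) := by
  classical
  set M := LinearMap.toMatrixAlgEquiv' g
  have hMv : ∀ v, Matrix.mulVec M v = g v := fun v => by
    show Matrix.toLinAlgEquiv' M v = _
    rw [Matrix.toLinAlgEquiv'_toMatrixAlgEquiv']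
  have hMr : M ^ r = 1 := by rw [← map_pow, hr, map_one]
  obtain ⟨u, hu⟩ : IsUnit M := ⟨Units.ofPowEqOne M r hMr h.prime.ne_zero, rfl⟩
  have hmem : u ∈ isometryGroup F ⇑Q := mem_isometryGroup.2 fun x => by rw [hu, hMv, hg]
  have hBr : (⟨u, hmem⟩ : isometryGroup F ⇑Q) ^ r = 1 :=
    Subtype.ext (Units.ext (by rw [SubgroupClass.coe_pow, Units.val_pow_eq_pow_val, hu, hMr]; rfl))
  have hch : M.charpoly = g.charpoly := by
    rw [← LinearMap.charpoly_toMatrix g (Pi.basisFun F ι), LinearMap.toMatrix_eq_toMatrix']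
    rfl
  obtain ⟨C, hC⟩ := isConj_iff.1 (OrthPrimeOrderClasses.isometry_isConj h Q hQ ⟨u, hmem⟩ A hBr hA
    (by show (u : Matrix ι ι F).charpoly = _; rw [hu, hch, hP]))
  have hCv : ∀ (C : isometryGroup F ⇑Q) v,
      Matrix.mulVec (((C⁻¹ : isometryGroup F ⇑Q) : GL ι F) : Matrix ι ι F)
        (Matrix.mulVec ((C : GL ι F) : Matrix ι ι F) v) = v := fun C v => by
    rw [Matrix.mulVec_mulVec, ← Units.val_mul, ← Subgroup.coe_mul, inv_mul_cancel]
    exact Matrix.one_mulVec v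
  refine ⟨{ Matrix.toLin' ((C : GL ι F) : Matrix ι ι F) with
      invFun := fun v => Matrix.mulVec (((C⁻¹ : isometryGroup F ⇑Q) : GL ι F) : Matrix ι ι F) v
      left_inv := fun v => by simpa using hCv C v
      right_inv := fun v => by simpa using hCv C⁻¹ v },
    fun v => by simpa using mem_isometryGroup.1 C.2 v, fun v => ?_⟩
  have e : C * ⟨u, hmem⟩ = A * C := by rw [← hC, inv_mul_cancel_right]
  have e' := congrArg (fun x : isometryGroup F ⇑Q => Matrix.mulVec ((x : GL ι F) : Matrix ι ι F) v) e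
  simp only [Subgroup.coe_mul, Units.val_mul, ← Matrix.mulVec_mulVec, hu, hMv] at e'
  simpa using e'.symm

/-- A witness for one element gives invariant subspaces for all with the same characteristic polynomial. -/
theorem exists_invariant (h : Ctx F r i t) (hQ : (QuadraticMap.polarBilin Q).Nondegenerate) (A : isometryGroup F ⇑Q)
    (hA : A ^ r = 1) {m : ℕ} {b : Prop} (hw : Wit Q r ((A : GL ι F) : Matrix ι ι F).charpoly m b) :
    ∃ W : Submodule F (ι → F), finrank F W = m ∧ (QuadraticMap.polarBilin (EvenType.res Q W)).Nondegenerate ∧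
      (EvenType.Plus (EvenType.res Q W) ↔ b) ∧
      ∀ w ∈ W, Matrix.mulVec ((A : GL ι F) : Matrix ι ι F) w ∈ W := by
  obtain ⟨g, U, hg, hr, hP, hU, hUn, hUb, hgU⟩ := hw
  obtain ⟨T, hT, hTA⟩ := exists_conj Q h hQ A hA g hg hr hP
  let φ : U ≃ₗ[F] U.map (T : (ι → F) →ₗ[F] (ι → F)) := T.submoduleMap U
  have hφ : ∀ v, EvenType.res Q _ (φ v) = 1 * EvenType.res Q U v := fun v => by rw [one_mul]; exact hT v
  refine ⟨U.map (T : (ι → F) →ₗ[F] (ι → F)), φ.finrank_eq.symm.trans hU, res_nondeg_of_map φ one_ne_zero hφ hUn,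
    (plus_of_similar φ one_ne_zero hφ).symm.trans hUb, ?_⟩
  rintro _ ⟨w, hw, rfl⟩
  exact ⟨g w, hgU w hw, (hTA w).symm⟩

end Cfsg.Agent.OrthNondegRealize
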