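import Cfsg.Agent.Lib.Classical.OrthNondegCount
import Cfsg.Agent.Lib.Classical.OrthNondegRealize
import Cfsg.Agent.Lib.Classical.OrthIsoDerange

/-! Elements of odd prime order of `Ω_{2d+1}(q)` fixing non-degenerate subspaces of even dimension and given type. -/

set_option autoImplicit false

namespace Cfsg.Agent.OrthNondegDerange

open Polynomial Matrix Module Cfsg.Agent.SelfReciprocalFactors Cfsg.Agent.SelfRecipDivisors
  Cfsg.Agent.UnitaryDetCentralizer Cfsg.Agent.Classical

/-- Half the degree of a basic polynomial. -/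
def half (i : ℕ) : ℕ := if Even i then i / 2 else i

theorem two_half (i : ℕ) : 2 * half i = basicDeg i := by
  unfold half basicDeg
  split_ifs with h
  · exact Nat.mul_div_cancel' h.two_dvd
  · rfl

variable {F : Type*} [Field F] [Fintype F] {r i t : ℕ}

theorem half_pos (h : Ctx F r i t) : 0 < half i := by
  have := basicDeg_pos h
  have := two_half i
  omega

/-- `q` to the power `half i` is `-1` for `i` even and `1` otherwise. -/
theorem pow_half (h : Ctx F r i t) :
    (Fintype.card F : ZMod r) ^ half i = if Even i then -1 else 1 := by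
  haveI := Fact.mk h.prime
  have hi : (Fintype.card F : ZMod r) ^ i = 1 := by rw [h.hi]; exact pow_orderOf_eq_one _
  unfold half
  split_ifs with he
  · obtain ⟨k, rfl⟩ := he
    rw [show (k + k) / 2 = k by omega]
    refine (mul_self_eq_one_iff.1 (by rw [← pow_add]; exact hi)).resolve_left fun e => ?_
    have hk := Nat.le_of_dvd (by have := i_pos h; omega) (h.hi ▸ orderOf_dvd_of_pow_eq_one e)
    have := i_pos h
    omega
  · exact hi

theorem pow_of_mod (h : Ctx F r i t) {M : ℕ} (hM : M % half i = 0) :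
    (Fintype.card F : ZMod r) ^ M = if Even i then (-1) ^ (M / half i) else 1 := by
  conv_lhs => rw [← Nat.div_add_mod M (half i), hM, add_zero, pow_mul, pow_half h]
  split_ifs
  · rfl
  · exact one_pow _

/-- The number theoretic condition. -/
def Crit (F : Type*) [Fintype F] (r i d M : ℕ) (b : Prop) [Decidable b] : Prop :=
  (0 < M % half i ∧ M % half i ≤ d % half i) ∨
    (M % half i = 0 ∧ (Fintype.card F : ZMod r) ^ M = if b then 1 else -1)

variable {ι : Type} [Fintype ι] [DecidableEq ι] (Q : QuadraticForm F (ι → F))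

/-- The subspaces in question. -/
def Good (M : ℕ) (b : Prop) (W : Submodule F (ι → F)) : Prop :=
  finrank F W = 2 * M ∧ Geo.IsNondegenerateOn (QuadraticMap.polar ⇑Q) W ∧ (Geo.IsPlusTypeOn (⇑Q) W ↔ b)

theorem good_iff {M : ℕ} {b : Prop} (W : Submodule F (ι → F)) :
    Good Q M b W ↔ finrank F W = 2 * M ∧ (QuadraticMap.polarBilin (EvenType.res Q W)).Nondegenerate ∧
      (EvenType.Plus (EvenType.res Q W) ↔ b) := by
  rw [Good, OrthNondegRealize.nondeg_on_iff, EvenType.plus_res_iff]

variable {d M : ℕ} (hQ : (QuadraticMap.polarBilin Q).Nondegenerate) (h2 : (2 : F) ≠ 0)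
  (hι : Fintype.card ι = 2 * d + 1) (hM : 1 ≤ M) (hMd : M ≤ d) (b : Prop)

include hQ h2 hι hM hMd in
/-- The remainder of `d` is less than `M`. -/
theorem small (h : Ctx F r i t) (hrq : ¬ r ∣ Fintype.card F)
    (hrΩ : r ∣ Nat.card {W : Submodule F (ι → F) // Good Q M b W}) : d % half i < M ∧ half i ≤ d := by
  haveI := Fact.mk h.prime
  obtain ⟨W, hW⟩ := OrthNondegRealize.exists_wit_one Q hQ h2 hι hM hMd b
  obtain ⟨j, hj1, hj2, hjr⟩ := OrthNondegCount.exists_exponent hQ h2 (by rw [Module.finrank_pi, hι]) hM hMd h.prime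
    h.odd hrq b (Good Q M b) (fun W => good_iff Q W) ((good_iff Q W).2 hW) hrΩ
  have hij : i ∣ 2 * j := by
    rw [h.hi]
    apply orderOf_dvd_of_pow_eq_one
    rw [← ZMod.natCast_eq_zero_iff, Nat.cast_sub (Nat.one_le_pow _ _ Fintype.card_pos), Nat.cast_pow, Nat.cast_one,
      sub_eq_zero] at hjr
    exact hjr
  have hdvd : half i ∣ j := by
    unfold half
    split_ifs with he
    · obtain ⟨k, rfl⟩ := he
      rw [show (k + k) / 2 = k by omega]
      exact Nat.dvd_of_mul_dvd_mul_left two_pos (by rwa [two_mul])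
    · exact (Nat.coprime_two_right.2 (Nat.not_even_iff_odd.1 he)).dvd_of_dvd_mul_left hij
  refine ⟨?_, (Nat.le_of_dvd (by omega) hdvd).trans hj2⟩
  obtain ⟨w, rfl⟩ := hdvd
  have := Nat.mod_le (d - half i * w) (half i)
  rw [show d = (d - half i * w) + half i * w by omega, Nat.add_mul_mod_self_left]
  omega

include hQ h2 hι hM hMd in
theorem criterion [Decidable b] (h : Ctx F r i t) (hrq : ¬ r ∣ Fintype.card F)
    (hrΩ : r ∣ Nat.card {W : Submodule F (ι → F) // Good Q M b W}) :
    (∀ x : GL ι F, x ∈ Geo.omegaGL ⇑Q → orderOf x = r →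
      ∃ W : Submodule F (ι → F), Good Q M b W ∧ W.map (Matrix.toLin' (x : Matrix ι ι F)) ≤ W) ↔
      Crit F r i d M b := by
  classical
  obtain ⟨hsm, hhd⟩ := small Q hQ h2 hι hM hMd b h hrq hrΩ
  have hh := half_pos h
  have hV : finrank F (ι → F) = 2 * d + 1 := by rw [Module.finrank_pi, hι]
  have hinv : ∀ (x : GL ι F) (W : Submodule F (ι → F)), W.map (Matrix.toLin' (x : Matrix ι ι F)) ≤ W ↔
      ∀ w ∈ W, (x : Matrix ι ι F) *ᵥ w ∈ W := fun x W => by
    rw [Submodule.map_le_iff_le_comap]; exact Iff.rfl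
  constructor
  · intro H
    by_contra hC
    obtain ⟨f, hf⟩ : (factorSet F r).Nonempty := by
      rw [← Finset.card_pos, card_factorSet h]
      rcases Nat.eq_zero_or_pos t with rfl | ht
      · have := h.ht; have := h.prime.two_le; have := h.odd; omega
      · exact ht
    set N := Multiset.replicate (d / half i) (basic i f)
    have hN : ∀ u ∈ N, u ∈ basics F r i := fun u hu => by
      rw [Multiset.eq_of_mem_replicate hu]; exact mem_basics.2 ⟨f, hf, rfl⟩
    set k := 2 * (d % half i) + 1
    have hdeg : basicDeg i * N.card + k = 2 * d + 1 := by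
      rw [Multiset.card_replicate, ← two_half, mul_assoc]
      have := Nat.div_add_mod d (half i)
      omega
    have hP := mem_selfRecip h hN k
    rw [hdeg] at hP
    obtain ⟨g₀, hg₀, hg₀r, hg₀P⟩ := (OrthPrimeOrderClasses.spec_odd h h2 d).symm ▸ hP
    obtain ⟨c, e, hc, he⟩ := OrthSingularCount.exists_odd_equiv hV Q hQ
    obtain ⟨hg, hgr, hgP⟩ := OrthPrimeOrderClasses.transport e hc he hg₀ hg₀r
    set g := e.conj g₀
    rw [hg₀P] at hgP
    set A₀ := LinearMap.toMatrixAlgEquiv' g
    have hMr : A₀ ^ r = 1 := by rw [← map_pow, hgr, map_one]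
    let A : GL ι F := Units.ofPowEqOne A₀ r hMr h.prime.ne_zero
    have hA : (A : Matrix ι ι F) = A₀ := rfl
    have hAiso : A ∈ isometryGroup F ⇑Q := mem_isometryGroup.2 fun v => by
      show Q (Matrix.toLinAlgEquiv' A₀ v) = _
      rw [Matrix.toLinAlgEquiv'_toMatrixAlgEquiv', hg]
    have hAr : A ^ r = 1 := Units.ext (by rw [Units.val_pow_eq_pow_val, hA, hMr, Units.val_one])
    have hA1 : A ≠ 1 := fun e1 => by
      have hM1 : A₀ = 1 := by rw [← hA, e1, Units.val_one]
      have : g = 1 := by
        rw [← Matrix.toLinAlgEquiv'_toMatrixAlgEquiv' g]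
        show Matrix.toLinAlgEquiv' A₀ = 1
        rw [hM1, map_one]
      have hpos : 0 < N.card := by rw [Multiset.card_replicate]; exact Nat.div_pos hhd hh
      obtain ⟨u, hu⟩ := Multiset.card_pos_iff_exists_mem.1 hpos
      have hb : u ∣ (X - Polynomial.C (1 : F)) ^ finrank F (ι → F) := by
        rw [show (X - Polynomial.C (1 : F)) ^ finrank F (ι → F) = g.charpoly by
          rw [this, LinearMap.charpoly_one, map_one], hgP]
        exact (Multiset.dvd_prod hu).mul_right _
      rw [Multiset.eq_of_mem_replicate hu] at hb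
      obtain ⟨hfm, hfi, -, -⟩ := mem_data h hf
      have hfb : f ∣ basic i f := by
        rw [basic]; split_ifs
        exacts [dvd_rfl, dvd_mul_right _ _]
      exact X_sub_one_notMem h (Polynomial.eq_of_monic_of_associated hfm (monic_X_sub_C 1)
        (hfi.associated_of_dvd (irreducible_X_sub_C 1) (hfi.prime.dvd_of_dvd_pow (hfb.trans hb))) ▸ hf)
    obtain ⟨W, hW, hWx⟩ := H A (NonsingularPointDerange.mem_omegaGL_gen Q hQ (OrthAut.genQ_odd hQ h2) A hAiso
      (h.prime.odd_of_ne_two h.odd) hAr) (orderOf_eq_prime (hp := ⟨h.prime⟩) hAr hA1)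
    obtain ⟨hWd, hWn, hWb⟩ := (good_iff Q W).1 hW
    have hgW : W ≤ W.comap g := fun w hw => by
      have := (hinv _ _).1 hWx w hw
      rw [hA, ← Matrix.toLinAlgEquiv'_apply, Matrix.toLinAlgEquiv'_toMatrixAlgEquiv'] at this
      exact this
    have hspec : (g.restrict hgW).charpoly ∈ OrthPrimeOrderClasses.spec r (EvenType.res Q W) := by
      refine ⟨_, fun v => hg v, ?_, rfl⟩
      refine LinearMap.ext fun v => Subtype.ext ?_
      have : ∀ n : ℕ, (((g.restrict hgW) ^ n) v : ι → F) = (g ^ n) (v : ι → F) := fun n => by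
        induction n with
        | zero => rfl
        | succ n ih => rw [pow_succ', pow_succ', Module.End.mul_apply, Module.End.mul_apply, ← ih]; rfl
      rw [this, hgr]
      rfl
    rw [OrthPrimeOrderClasses.spec_even h hWd _ hWn] at hspec
    obtain ⟨hR, hor⟩ := hspec
    have hdvd := InvCharpoly.charpoly_restrict_dvd_self hgW
    rw [hgP] at hdvd
    obtain ⟨N₁, l, hN₁, hRl, hl⟩ := shape h hR
    rw [hRl] at hdvd hor
    have hl' : 2 * l ≤ k := by
      have h3 := (le_rootMultiplicity_iff (mul_ne_zero (basic_monic h hN).1.ne_zero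
        (pow_ne_zero k (X_sub_C_ne_zero (1 : F))))).2 ((dvd_mul_left _ _).trans hdvd)
      rwa [rootMultiplicity_mul_X_sub_C_pow (basic_monic h hN).1.ne_zero,
        rootMultiplicity_eq_zero (fun e => (basic_monic h hN).2.2 e), zero_add] at h3
    have hdh : d % half i < half i := Nat.mod_lt _ hh
    have hMl : M % half i = l := by
      rw [← two_half, mul_assoc] at hl
      rw [show M = l + half i * N₁.card by omega, Nat.add_mul_mod_self_left, Nat.mod_eq_of_lt (by omega)]
    refine hC ?_
    rcases Nat.eq_zero_or_pos l with rfl | hlp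
    · refine Or.inr ⟨hMl, ?_⟩
      rw [mul_zero, pow_zero, mul_one] at hor
      rw [hor.resolve_left (basic_monic h hN₁).2.2]
      simp only [OrthPrimeOrderClasses.sgn, hWb]
    · exact Or.inl ⟨by omega, by omega⟩
  · intro hC x hxΩ hxo
    obtain ⟨g, -, rfl⟩ := hxΩ
    have hgr : g ^ r = 1 := Subtype.ext (by
      have := pow_orderOf_eq_one (g : GL ι F)
      rw [show orderOf (g : GL ι F) = r from hxo] at this
      rw [SubgroupClass.coe_pow]; exact this)
    have hmem : ((g : GL ι F) : Matrix ι ι F).charpoly ∈ selfRecip F r (2 * d + 1) := by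
      rw [← hV]
      refine OrthPrimeOrderClasses.spec_subset h Q hQ ⟨Matrix.toLinAlgEquiv' ((g : GL ι F) : Matrix ι ι F),
        fun v => by rw [Matrix.toLinAlgEquiv'_apply]; exact mem_isometryGroup.1 g.2 v, ?_,
        OrthIsoDerange.charpoly_eq _⟩
      rw [← map_pow, ← Units.val_pow_eq_pow_val, ← SubgroupClass.coe_pow, hgr, OneMemClass.coe_one, Units.val_one,
        map_one]
    obtain ⟨P, hP, hPe⟩ := OrthPrimeOrderClasses.exists_div_X_sub_one h hmem
      (OrthPrimeOrderClasses.eval_one_of_odd h hmem)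
    obtain ⟨N, j, hN, hPN, hA⟩ := shape h hP
    rw [← two_half, mul_assoc] at hA
    set e := min N.card (M / half i)
    have heM : half i * e ≤ M :=
      (Nat.mul_le_mul_left _ (min_le_right _ _)).trans (Nat.mul_div_le M _)
    set l := M - half i * e
    obtain ⟨hlj, hl0⟩ : l ≤ j ∧ (l = 0 → M % half i = 0) := by
      refine ⟨?_, fun h0 => by rw [show M = half i * e by omega, Nat.mul_mod_right]⟩
      rcases le_total N.card (M / half i) with hle | hle
      · have : e = N.card := min_eq_left hle
        simp only [l, this] at *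
        omega
      · have : e = M / half i := min_eq_right hle
        have h1 := Nat.div_add_mod M (half i)
        have h4 : d % half i ≤ j := by
          rw [show d = j + half i * N.card by omega, Nat.add_mul_mod_self_left]
          exact Nat.mod_le _ _
        rcases hC with ⟨h3, h5⟩ | ⟨h3, -⟩ <;> simp only [l, this] <;> omega
    set N₁ : Multiset F[X] := ↑(N.toList.take e) with hN₁def
    set N₂ : Multiset F[X] := ↑(N.toList.drop e) with hN₂def
    have hsplit : N = N₁ + N₂ := by
      rw [hN₁def, hN₂def, Multiset.coe_add, List.take_append_drop, Multiset.coe_toList]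
    have hm₁ : ∀ u ∈ N₁, u ∈ basics F r i := fun u hu => hN u (hsplit ▸ Multiset.mem_add.2 (Or.inl hu))
    have hm₂ : ∀ u ∈ N₂, u ∈ basics F r i := fun u hu => hN u (hsplit ▸ Multiset.mem_add.2 (Or.inr hu))
    have hc₁ : N₁.card = e := by
      rw [hN₁def, Multiset.coe_card, List.length_take, Multiset.length_toList]
      exact min_eq_left (min_le_left _ _)
    have hc₂ : N₂.card = N.card - e := by
      rw [hN₂def, Multiset.coe_card, List.length_drop, Multiset.length_toList]
    have h₁ := mem_selfRecip h hm₁ (2 * l)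
    have h₂ := mem_selfRecip h hm₂ (2 * (j - l) + 1)
    have eA : half i * N.card = half i * e + half i * (N.card - e) := by
      rw [← Nat.mul_add, Nat.add_sub_cancel' (min_le_left _ _)]
    rw [hc₁, ← two_half, mul_assoc, show 2 * (half i * e) + 2 * l = 2 * M by omega] at h₁
    rw [hc₂, ← two_half, mul_assoc, show 2 * (half i * (N.card - e)) + (2 * (j - l) + 1) = 2 * (d - M) + 1 by omega]
      at h₂
    have hor : (N₁.prod * (X - Polynomial.C 1) ^ (2 * l)).eval 1 = 0 ∨
        (Fintype.card F : ZMod r) ^ M = if b then 1 else -1 := by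
      rcases Nat.eq_zero_or_pos l with h0 | h0
      · rcases hC with ⟨h3, -⟩ | ⟨-, h4⟩
        · exact absurd (hl0 h0) (by omega)
        · exact Or.inr h4
      · exact Or.inl (OrthPrimeOrderClasses.eval_one_pow (by omega))
    have hw := OrthNondegRealize.wit_split Q h hQ h2 hι hM hMd b h₁ h₂ hor
    have hch : ((g : GL ι F) : Matrix ι ι F).charpoly =
        N₁.prod * (X - Polynomial.C 1) ^ (2 * l) * (N₂.prod * (X - Polynomial.C 1) ^ (2 * (j - l) + 1)) := by
      rw [hPe, hPN, hsplit, Multiset.prod_add,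
        show 2 * j = 2 * l + 2 * (j - l) by omega, pow_add, pow_succ]
      ring
    rw [← hch] at hw
    obtain ⟨W, w1, w2, w3, w4⟩ := OrthNondegRealize.exists_invariant Q h hQ g hgr hw
    exact ⟨W, (good_iff Q W).2 ⟨w1, w2, w3⟩, (hinv _ _).2 w4⟩

end Cfsg.Agent.OrthNondegDerange
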