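import Cfsg.Agent.Lib.Classical.OrthOdd
import Cfsg.Agent.Lib.Classical.QuadModels
import Cfsg.Agent.Lib.Classical.SplitClassCount

/-!
Field automorphisms of prime order of an odd-dimensional `PΩ(Q)`: descent of a cocycle to `SO(Q)`,
the centraliser, and the splitting of the class.
-/

set_option autoImplicit false
set_option linter.unusedSectionVars false
set_option quotPrecheck false

namespace Cfsg.Agent.Classical.OrthAut

open Matrix Cfsg.Agent.Classical.Descent

theorem inf_centralizer_conj {X : Type*} [Group X] {K : Subgroup X} {h : X} (hh : h ∈ K) (x : X) :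
    Nonempty (↥(K ⊓ Subgroup.centralizer {h * x * h⁻¹}) ≃* ↥(K ⊓ Subgroup.centralizer {x})) := by
  have e : (K ⊓ Subgroup.centralizer {x}).map (MulAut.conj h).toMonoidHom =
      K ⊓ Subgroup.centralizer {h * x * h⁻¹} := by
    ext y
    rw [Subgroup.mem_map_equiv, Subgroup.mem_inf, Subgroup.mem_inf,
      Subgroup.mem_centralizer_singleton_iff, Subgroup.mem_centralizer_singleton_iff,
      MulAut.conj_symm_apply]
    refine and_congr ⟨fun h1 => ?_, fun h1 => mul_mem (mul_mem (inv_mem hh) h1) hh⟩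
      ⟨fun h2 => ?_, fun h2 => ?_⟩
    · simpa [mul_assoc] using mul_mem (mul_mem hh h1) (inv_mem hh)
    · calc y * (h * x * h⁻¹) = h * (h⁻¹ * y * h * x) * h⁻¹ := by group
        _ = _ := by rw [h2]; group
    · calc h⁻¹ * y * h * x = h⁻¹ * (y * (h * x * h⁻¹)) * h := by group
        _ = _ := by rw [h2]; group
  exact ⟨(MulEquiv.subgroupCongr e.symm).trans
    (Subgroup.equivMapOfInjective _ (MulAut.conj h).toMonoidHom (MulAut.conj h).injective).symm⟩

variable {F : Type*} [Field F] {ι : Type} [Fintype ι] [DecidableEq ι] {Q : QuadraticForm F (ι → F)}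

local notation "Mn" => Matrix ι ι F
local notation "PQ" => POmega F ⇑Q
local notation "SO'" => specialIsometryGL F ⇑Q

/-! ### Two odd-dimensional forms are similar -/

theorem exists_similitude {K : Type*} [Field K] [Finite K] {V : Type*} [AddCommGroup V] [Module K V]
    [FiniteDimensional K V] {m : ℕ}
    (hV : Module.finrank K V = 2 * m + 1) (P P' : QuadraticForm K V)
    (hP : (QuadraticMap.polarBilin P).Nondegenerate) (hP' : (QuadraticMap.polarBilin P').Nondegenerate) :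
    ∃ (k : K) (Z : V ≃ₗ[K] V), k ≠ 0 ∧ ∀ v, P' (Z v) = k * P v := by
  obtain ⟨b, hb0, hbo, hbq, hbp, hbz⟩ := exists_odd_basis hV P hP
  obtain ⟨d, hd0, hdo, hdq, hdp, hdz⟩ := exists_odd_basis hV P' hP'
  set k := P' (d (Sum.inl ())) / P (b (Sum.inl ()))
  have hk : k ≠ 0 := div_ne_zero hd0 hb0
  let w : Unit ⊕ (Fin m ⊕ Fin m) → Kˣ := Sum.elim 1 (Sum.elim (fun _ => Units.mk0 k hk) 1)
  let d' := d.unitsSMul w
  have e : ∀ i, d' i = ((w i : Kˣ) : K) • d i := fun i => Module.Basis.unitsSMul_apply i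
  have ep : ∀ i j, QuadraticMap.polar ⇑P' (d' i) (d' j) =
      (w i : K) * ((w j : K) * QuadraticMap.polar ⇑P' (d i) (d j)) := fun i j => by
    rw [e, e, QuadraticMap.polar_smul_left, QuadraticMap.polar_smul_right, smul_eq_mul, smul_eq_mul]
  have h1 : ∀ i, P' (d' i) = (k • P) (b i) := by
    intro i
    rw [_root_.QuadraticMap.smul_apply, smul_eq_mul, e, QuadraticMap.map_smul, smul_eq_mul]
    rcases i with ⟨⟩ | i | i
    · simp [w, k, hb0]
    · rw [(hdq i).1, (hbq i).1, mul_zero, mul_zero]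
    · rw [(hdq i).2, (hbq i).2, mul_zero, mul_zero]
  have h2 : ∀ i j, QuadraticMap.polar ⇑P' (d' i) (d' j) = QuadraticMap.polar ⇑(k • P) (b i) (b j) := by
    intro i j
    rw [ep, FunLike.coe_smul, QuadraticMap.polar_smul, smul_eq_mul]
    rcases i with ⟨⟩ | i | i <;> rcases j with ⟨⟩ | j | j
    · simp only [w, Sum.elim_inl, Pi.one_apply, Units.val_one, one_mul, QuadraticMap.polar_self,
        nsmul_eq_mul, k]
      field_simp
    · simp [(hdo j).1, (hbo j).1]
    · simp [(hdo j).2, (hbo j).2]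
    · simp [QuadraticMap.polar_comm _ (d (Sum.inr (Sum.inl i))), QuadraticMap.polar_comm _ (b (Sum.inr (Sum.inl i))),
        (hdo i).1, (hbo i).1]
    · simp [(hdz i j).1, (hbz i j).1]
    · simp [w, hdp i j, hbp i j]
    · simp [QuadraticMap.polar_comm _ (d (Sum.inr (Sum.inr i))), QuadraticMap.polar_comm _ (b (Sum.inr (Sum.inr i))),
        (hdo i).2, (hbo i).2]
    · simp [w, QuadraticMap.polar_comm _ (d (Sum.inr (Sum.inr i))),
        QuadraticMap.polar_comm _ (b (Sum.inr (Sum.inr i))), hdp j i, hbp j i]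
    · simp [(hdz i j).2, (hbz i j).2]
  obtain ⟨Z, hZ⟩ := exists_isometry_of_bases b d' h1 h2
  exact ⟨k, Z, hk, fun v => by rw [hZ, _root_.QuadraticMap.smul_apply, smul_eq_mul]⟩

/-! ### Rational vectors -/

section Rational

variable {F₀ : Type*} [Field F₀] (j : F₀ →+* F)

theorem single_rat (i : ι) : (Pi.single i (1 : F) : ι → F) = j ∘ (Pi.single i (1 : F₀) : ι → F₀) := by
  funext l
  by_cases h : l = i
  · subst h; simp
  · simp [h]

theorem mulVec_rat (A : Matrix ι ι F₀) (u : ι → F₀) : A.map j *ᵥ (j ∘ u) = j ∘ (A *ᵥ u) := by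
  funext i; simp [Matrix.mulVec, dotProduct, map_sum]

theorem quad_ext_rat {Q₁ Q₂ : QuadraticForm F (ι → F)} (h : ∀ u : ι → F₀, Q₁ (j ∘ u) = Q₂ (j ∘ u)) :
    Q₁ = Q₂ := by
  have hs : ∀ u v : ι → F₀, (j ∘ u : ι → F) + j ∘ v = j ∘ (u + v) := fun u v => funext fun l => by simp
  refine quad_ext_basis (Pi.basisFun F ι) (fun i => ?_) (fun i l => ?_) <;> simp only [Pi.basisFun_apply]
  · rw [single_rat j]; exact h _
  · rw [single_rat j, single_rat j, QuadraticMap.polar, QuadraticMap.polar, hs, h, h, h]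

theorem matrix_ext_rat {A A' : Mn} (h : ∀ u : ι → F₀, A *ᵥ (j ∘ u) = A' *ᵥ (j ∘ u)) : A = A' := by
  ext a b
  have h' := congrFun (h (Pi.single b 1)) a
  rw [← single_rat j] at h'
  simpa using h'

variable {P : QuadraticForm F₀ (ι → F₀)} (hP : ∀ u, Q (j ∘ u) = j (P u))
include hP

theorem polar_rat (u v : ι → F₀) :
    QuadraticMap.polar ⇑Q (j ∘ u) (j ∘ v) = j (QuadraticMap.polar ⇑P u v) := by
  have hs : (j ∘ u : ι → F) + j ∘ v = j ∘ (u + v) := funext fun l => by simp
  rw [QuadraticMap.polar, QuadraticMap.polar, hs, hP, hP, hP, map_sub, map_sub]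

theorem map_isometry {A : Matrix ι ι F₀} (hA : ∀ u, P (A *ᵥ u) = P u) (v : ι → F) :
    Q (A.map j *ᵥ v) = Q v := by
  have h : Q.comp (Matrix.mulVecLin (A.map j)) = Q := quad_ext_rat j fun u => by
    rw [QuadraticMap.comp_apply, Matrix.mulVecLin_apply, mulVec_rat, hP, hP, hA]
  exact congrArg (fun q : QuadraticForm F (ι → F) => q v) h

/-- Isometries over the small field, over the large one. -/
def mapOG : isometryGroup F₀ ⇑P →* isometryGroup F ⇑Q :=
  ((Matrix.GeneralLinearGroup.map j).comp (isometryGroup F₀ ⇑P).subtype).codRestrict _ fun g =>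
    mem_isometryGroup.2 (map_isometry j hP (mem_isometryGroup.1 g.2))

omit hP in
theorem mapOG_val (hP : ∀ u, Q (j ∘ u) = j (P u)) (g : isometryGroup F₀ ⇑P) :
    ogVal (mapOG j hP g) = (ogVal g).map j := rfl

theorem mapOG_refl {v : ι → F₀} (hv : P v ≠ 0) :
    mapOG j hP (refl hv) = refl (Q := Q) (v := j ∘ v)
      (by rw [hP]; exact (map_ne_zero j).2 hv) := by
  refine ogVal_ext (matrix_ext_rat j fun u => ?_)
  rw [mapOG_val, mulVec_rat, refl_apply, refl_apply, polar_rat j hP, hP]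
  funext l
  simp [map_inv₀]

/-- Special isometries over the small field, over the large one. -/
def mapSO : specialIsometryGL F₀ ⇑P →* specialIsometryGL F ⇑Q :=
  ((Matrix.GeneralLinearGroup.map j).comp (specialIsometryGL F₀ ⇑P).subtype).codRestrict _ fun g =>
    mem_SO.2 ⟨map_isometry j hP (mem_SO.1 g.2).1, by
      show ((((g : GL ι F₀)) : Matrix ι ι F₀).map j).det = 1
      rw [← RingHom.mapMatrix_apply, ← RingHom.map_det, (mem_SO.1 g.2).2, map_one]⟩

theorem mapSO_injective : Function.Injective (mapSO j hP) := fun a b e => by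
  have h := congrArg (fun g : SO' => ((g : GL ι F) : Mn)) e
  refine Subtype.ext (Units.ext (Matrix.ext fun i l => j.injective ?_))
  exact congrFun (congrFun h i) l

theorem mem_range_mapSO_iff {σ : RingAut F} (hj : ∀ x, σ x = x ↔ x ∈ j.range) (hR : Rat Q) {g : SO'} :
    g ∈ (mapSO j hP).range ↔ soMap hR σ g = g := by
  constructor
  · rintro ⟨s, rfl⟩
    exact Subtype.ext (Units.ext (Matrix.ext fun a b => (hj _).2 ⟨_, rfl⟩))
  · intro h
    have hfix : ∀ a b, ∃ y, j y = ((g : GL ι F) : Mn) a b := fun a b =>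
      (hj _).1 (congrFun (congrFun (congrArg (fun u : SO' => ((u : GL ι F) : Mn)) h) a) b)
    choose A hA using hfix
    have hA' : (Matrix.of A).map j = ((g : GL ι F) : Mn) := Matrix.ext hA
    have hd : (Matrix.of A).det = 1 := j.injective (by
      rw [RingHom.map_det, RingHom.mapMatrix_apply, hA', (mem_SO.1 g.2).2, map_one])
    refine ⟨⟨Matrix.GeneralLinearGroup.mkOfDetNeZero (Matrix.of A) (by rw [hd]; exact one_ne_zero),
      mem_SO.2 ⟨fun u => j.injective ?_, hd⟩⟩, Subtype.ext (Units.ext hA')⟩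
    show j (P (Matrix.of A *ᵥ u)) = j (P u)
    rw [← hP, ← hP, ← mulVec_rat, hA', (mem_SO.1 g.2).1]

end Rational

variable [Fintype F] (H : OddSpace Q)
include H

theorem fieldHom_injective : Function.Injective (fieldHom H.rat) := fun σ τ e =>
  (soHom_mul_field_inj H (s := (1 : SO')) (t := 1) (by rw [map_one, one_mul, one_mul, e])).2

theorem conj_field (y : SO') (σ : RingAut F) :
    soHom Q y * fieldHom H.rat σ * (soHom Q y)⁻¹ =
      soHom Q (y * (soMap H.rat σ y)⁻¹) * fieldHom H.rat σ := by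
  rw [← map_inv, mul_assoc, field_conj, ← mul_assoc, ← map_mul, map_inv (soMap H.rat σ)]

/-- A field automorphism is `SO`-conjugate to a standard one. -/
theorem fieldClass_std {x : MulAut PQ} (hx : IsFieldAutClassPOmega (⇑Q) x) :
    ∃ (σ : RingAut F) (a : SO'), σ ≠ 1 ∧ x = soHom Q a * fieldHom H.rat σ * (soHom Q a)⁻¹ := by
  obtain ⟨α, φ, σ, hσ, hφ, hα⟩ := hx
  obtain rfl : φ = fieldHom H.rat σ := (stdField_iff H.rat).1 hφ
  obtain ⟨c, ρ, rfl⟩ := decomp H α
  refine ⟨σ, soMap H.rat (ρ⁻¹ : RingAut F) c⁻¹, hσ, ?_⟩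
  have hc : fieldHom H.rat (ρ : RingAut F) * fieldHom H.rat σ = fieldHom H.rat σ * fieldHom H.rat ρ := by
    rw [← map_mul, ← map_mul, PSLAut.ringAut_commute]
  have h2 : (fieldHom H.rat ρ)⁻¹ * (soHom Q c)⁻¹ =
      soHom Q (soMap H.rat (ρ⁻¹ : RingAut F) c⁻¹) * (fieldHom H.rat ρ)⁻¹ := by
    rw [← map_inv, ← map_inv, field_conj]
  set a := soHom Q (soMap H.rat (ρ⁻¹ : RingAut F) c⁻¹)
  set u := fieldHom H.rat (ρ : RingAut F)
  set φ := fieldHom H.rat σ
  calc x = (u⁻¹ * (soHom Q c)⁻¹) * φ * (soHom Q c * u) := by rw [← hα]; group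
    _ = a * (u⁻¹ * φ * u) * (a)⁻¹ * (a * u⁻¹ * (soHom Q c * u)) := by rw [h2]; group
    _ = a * φ * a⁻¹ := by
      rw [show u⁻¹ * φ * u = φ by rw [mul_assoc, ← hc, inv_mul_cancel_left], ← h2]
      group

theorem pow_soHom_field (d : SO') (σ : RingAut F) : ∀ k : ℕ, ∃ N : SO',
    ((N : GL ι F)) = twistNorm σ (d : GL ι F) k ∧
      (soHom Q d * fieldHom H.rat σ) ^ k = soHom Q N * fieldHom H.rat (σ ^ k)
  | 0 => ⟨1, rfl, by rw [pow_zero, pow_zero, map_one, map_one, one_mul]⟩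
  | k + 1 => by
    obtain ⟨N, hN, he⟩ := pow_soHom_field d σ k
    refine ⟨d * soMap H.rat σ N, ?_, ?_⟩
    · rw [Subgroup.coe_mul, soMap_coe, hN]; rfl
    · rw [pow_succ', he, pow_succ', map_mul (fieldHom H.rat), map_mul (soHom Q), mul_assoc, ← mul_assoc
        (fieldHom H.rat σ), field_conj]
      group

theorem orderOf_std {σ : RingAut F} {d : SO'} {r : ℕ} (hr : r.Prime) (hσ : σ ≠ 1)
    (h : orderOf (soHom Q d * fieldHom H.rat σ) = r) :
    orderOf σ = r ∧ twistNorm σ (d : GL ι F) r = 1 := by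
  obtain ⟨N, hN, he⟩ := pow_soHom_field H d σ r
  rw [← h, pow_orderOf_eq_one, h] at he
  obtain ⟨h1, h2⟩ := soHom_mul_field_inj H (s := (1 : SO')) (t := N) (σ := 1) (τ := σ ^ r)
    (by rw [map_one, map_one, one_mul]; exact he)
  exact ⟨(hr.eq_one_or_self_of_dvd _ (orderOf_dvd_of_pow_eq_one h2.symm)).resolve_left
    fun h1 => hσ (orderOf_eq_one_iff.1 h1), by rw [← hN, ← h1]; rfl⟩

/-- Galois descent in `SO`. -/
theorem exists_coboundary_SO {σ : RingAut F} {g : SO'} (hg : twistNorm σ (g : GL ι F) (orderOf σ) = 1) :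
    ∃ y : SO', g = y * (soMap H.rat σ y)⁻¹ := by
  classical
  obtain ⟨y₀, hy₀⟩ := exists_coboundary σ (g : GL ι F) hg
  let K : Subfield F := RingHom.eqLocusField σ.toRingHom (RingHom.id F)
  let j : K →+* F := K.subtype
  have hj : ∀ k : K, σ (j k) = j k := fun k => k.2
  have hjσ : ∀ u : ι → K, (σ : F → F) ∘ (j ∘ u) = j ∘ u := fun u => funext fun i => hj (u i)
  have hfix : ∀ u : ι → K, Q ((y₀ : Mn) *ᵥ (j ∘ u)) ∈ K := fun u => by
    show σ (Q ((y₀ : Mn) *ᵥ (j ∘ u))) = Q ((y₀ : Mn) *ᵥ (j ∘ u))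
    rw [← H.rat σ, ← map_comp_mulVec, hjσ]
    have h1 : ((y₀ : Mn)) = ((g : GL ι F) : Mn) * (y₀ : Mn).map σ := by
      conv_lhs => rw [show y₀ = (g : GL ι F) * gmap σ y₀ by rw [hy₀, inv_mul_cancel_right]]
      rfl
    conv_rhs => rw [h1, ← Matrix.mulVec_mulVec, (mem_SO.1 g.2).1]
  have hQ₀ : ∀ u : ι → K, Q (j ∘ u) ∈ K := fun u => by
    show σ (Q (j ∘ u)) = Q (j ∘ u)
    rw [← H.rat σ, hjσ]
  have mk : ∀ Q' : QuadraticForm F (ι → F), (∀ u : ι → K, Q' (j ∘ u) ∈ K) →
      (QuadraticMap.polarBilin Q').Nondegenerate →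
      ∃ P : QuadraticForm K (ι → K), (∀ u, Q' (j ∘ u) = j (P u)) ∧
        (QuadraticMap.polarBilin P).Nondegenerate := by
    intro Q' hmem hnd
    let φ : (ι → K) → K := fun u => ⟨Q' (j ∘ u), hmem u⟩
    have hsum : ∀ u v : ι → K, (j ∘ (u + v) : ι → F) = j ∘ u + j ∘ v := fun u v => funext fun l => by simp
    have hsmul : ∀ (a : K) (u : ι → K), (j ∘ (a • u) : ι → F) = j a • (j ∘ u) := fun a u =>
      funext fun l => by simp
    have hpol : ∀ u v, j (QuadraticMap.polar φ u v) = QuadraticMap.polar ⇑Q' (j ∘ u) (j ∘ v) := fun u v => by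
      simp only [QuadraticMap.polar, map_sub, ← hsum]; rfl
    let P : QuadraticForm K (ι → K) := QuadraticMap.ofPolar φ
      (fun a u => j.injective (by
        rw [smul_eq_mul, map_mul, map_mul]
        show Q' (j ∘ (a • u)) = j a * j a * Q' (j ∘ u)
        rw [hsmul, QuadraticMap.map_smul, smul_eq_mul]))
      (fun u u' v => j.injective (by
        rw [map_add, hpol, hpol, hpol, hsum, QuadraticMap.polar_add_left]))
      (fun a u v => j.injective (by
        rw [smul_eq_mul, map_mul, hpol, hpol, hsmul, QuadraticMap.polar_smul_left, smul_eq_mul]))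
    refine ⟨P, fun u => rfl, nondegenerate_of_separatingLeft _ fun u hu => ?_⟩
    have h0 : ∀ i, QuadraticMap.polar ⇑Q' (j ∘ u) (Pi.single i 1) = 0 := fun i => by
      rw [single_rat j]
      rw [← hpol]
      have := hu (Pi.single i 1)
      rw [QuadraticMap.polarBilin_apply_apply] at this
      rw [show QuadraticMap.polar φ u (Pi.single i 1) = 0 from this, map_zero]
    have hz : QuadraticMap.polarBilin Q' (j ∘ u) = 0 := (Pi.basisFun F ι).ext fun i => by
      rw [Pi.basisFun_apply, QuadraticMap.polarBilin_apply_apply, LinearMap.zero_apply]; exact h0 i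
    have hu0 : (j ∘ u : ι → F) = 0 := hnd.1 _ fun z => by rw [hz, LinearMap.zero_apply]
    funext l
    exact j.injective (by rw [show j (u l) = (0 : F) from congrFun hu0 l, Pi.zero_apply, map_zero])
  obtain ⟨P, hP, hPn⟩ := mk Q hQ₀ H.nd
  obtain ⟨P', hP', hPn'⟩ := mk (Q.comp (Matrix.mulVecLin (y₀ : Mn))) hfix (by
    refine nondegenerate_of_separatingLeft _ fun u hu => ?_
    have h1 : (y₀ : Mn) *ᵥ u = 0 := H.nd.1 _ fun z => by
      have := hu (((y₀⁻¹ : GL ι F) : Mn) *ᵥ z)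
      simp only [QuadraticMap.polarBilin_apply_apply, QuadraticMap.polar, QuadraticMap.comp_apply,
        Matrix.mulVecLin_apply, Matrix.mulVec_add, Matrix.mulVec_mulVec, Units.mul_inv,
        Matrix.one_mulVec] at this ⊢
      exact this
    have := congrArg (((y₀⁻¹ : GL ι F) : Mn) *ᵥ ·) h1
    simpa [Matrix.mulVec_mulVec] using this)
  obtain ⟨m, hm⟩ := H.odd
  obtain ⟨k, Z, hk, hZ⟩ := exists_similitude (m := m) (by rw [Module.finrank_pi, hm]) P P' hPn hPn'
  set Zm : Matrix ι ι K := LinearMap.toMatrix' (Z : (ι → K) →ₗ[K] (ι → K))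
  have hZm : ∀ u, Zm *ᵥ u = Z u := fun u => by
    rw [← Matrix.toLin'_apply]; simp [Zm]
  have hZd : Zm.det ≠ 0 := by
    rw [LinearMap.det_toMatrix']
    exact (LinearEquiv.isUnit_det' Z).ne_zero
  set z : GL ι F := Matrix.GeneralLinearGroup.map j (Matrix.GeneralLinearGroup.mkOfDetNeZero Zm hZd)
  have hzm : (z : Mn) = Zm.map j := rfl
  have hzσ : gmap σ z = z := Units.ext (Matrix.ext fun a b => hj _)
  have hw : ∀ v, Q (((y₀ * z : GL ι F) : Mn) *ᵥ v) = j k * Q v := fun v => by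
    have h : Q.comp (Matrix.mulVecLin ((y₀ * z : GL ι F) : Mn)) = j k • Q := quad_ext_rat j fun u => by
      rw [QuadraticMap.comp_apply, Matrix.mulVecLin_apply, _root_.QuadraticMap.smul_apply, smul_eq_mul, hP,
        Units.val_mul, hzm, ← Matrix.mulVec_mulVec, mulVec_rat, ← map_mul, ← hZ, ← hP', hZm]
      rfl
    exact congrArg (fun q : QuadraticForm F (ι → F) => q v) h
  set w : Geo.quadSimilarityGroup (F := F) ⇑Q := ⟨y₀ * z, Units.mk0 (j k) ((map_ne_zero j).2 hk), hw⟩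
  obtain ⟨s, hs⟩ := similarity_eq_soHom H w
  set s' : Geo.quadSimilarityGroup (F := F) ⇑Q := ⟨(s : GL ι F), isometry_mem_go (soIso s)⟩
  have h1 : goHom Q (s'⁻¹ * w) = 1 := by
    rw [map_mul, map_inv, hs]
    exact inv_mul_cancel _
  rw [goHom_apply] at h1
  obtain ⟨-, c, hc⟩ := poSemi_eq_one H.nd H.tri H.good _ h1
  have hc' : (((s : GL ι F)⁻¹ * (y₀ * z) : GL ι F) : Mn) = c • 1 := hc
  refine ⟨s, ?_⟩
  -- the quotient of the two coboundaries is a scalar in `SO`
  set t : SO' := (s * (soMap H.rat σ s)⁻¹)⁻¹ * g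
  have hgw : (g : GL ι F) = (y₀ * z) * (gmap σ (y₀ * z))⁻¹ := by
    rw [map_mul, hzσ, hy₀]; group
  set e : GL ι F := (s : GL ι F)⁻¹ * (y₀ * z)
  have he : ∀ A : GL ι F, e * A = A * e := fun A => Units.ext (by
    show (e : Mn) * (A : Mn) = (A : Mn) * (e : Mn)
    rw [hc', Matrix.smul_mul, Matrix.mul_smul, one_mul, mul_one])
  have ht : (t : GL ι F) = e * (gmap σ e)⁻¹ := by
    have hew : (s : GL ι F) * e = y₀ * z := mul_inv_cancel_left _ _
    simp only [t, Subgroup.coe_mul, Subgroup.coe_inv, soMap_coe]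
    rw [hgw, ← hew, map_mul]
    calc _ = gmap σ (s : GL ι F) * (e * (gmap σ e)⁻¹) * (gmap σ (s : GL ι F))⁻¹ := by group
      _ = _ := by
        have hg1 : gmap σ (s : GL ι F) * gmap σ e = gmap σ e * gmap σ (s : GL ι F) := by
          rw [← map_mul, ← map_mul, he]
        rw [← mul_assoc (gmap σ (s : GL ι F)), ← he, mul_assoc, mul_assoc, ← _root_.mul_inv_rev, hg1,
          _root_.mul_inv_rev, mul_inv_cancel_left]
  have hc0 : c ≠ 0 := fun h0 => by
    have := congrArg Matrix.det hc'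
    haveI hne : Nonempty ι := Fintype.card_pos_iff.1 (by omega)
    rw [h0, zero_smul, Matrix.det_zero] at this
    exact e.det_ne_zero this
  have htc : (((t : GL ι F)) : Mn) = (c * (σ c)⁻¹) • 1 := by
    have hce : (gmap σ e : Mn) = σ c • 1 := by
      show (e : Mn).map σ = _
      rw [hc']
      ext a b
      by_cases hab : a = b <;> simp [hab]
    have h2 : (t : GL ι F) * gmap σ e = e := by rw [ht, inv_mul_cancel_right]
    have h3 := congrArg (fun u : GL ι F => (u : Mn)) h2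
    simp only [Units.val_mul] at h3
    rw [hce, hc', Matrix.mul_smul, mul_one] at h3
    rw [mul_comm c, ← smul_smul, ← h3, smul_smul, inv_mul_cancel₀ ((map_ne_zero σ).2 hc0), one_smul]
  have ht1 : t = 1 := soHom_injective H (by
    rw [map_one, soHom_apply]
    exact poSemi_scalar _ htc)
  exact (inv_mul_eq_one.1 ht1).symm

/-- The criterion for elements of prime order in the coset of a field automorphism. -/
theorem coset_iff {f : (ι → F) → F} (hf : ⇑Q = f) {x δ : MulAut (POmega F f)}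
    (hx : IsFieldAutClassPOmega f x) {r : ℕ} (hr : r.Prime) (hxr : orderOf x = r) (hδ : δ ∈ pgoAut F f) :
    orderOf (δ * x) = r ↔ IsConjUnder (pgoAut F f) x (δ * x) := by
  subst hf
  constructor
  swap
  · rintro ⟨h, -, he⟩
    rw [he, ← hxr]
    exact (MulAut.conj h).orderOf_eq x
  intro hord
  rw [pgoAut_eq_soHom H] at hδ ⊢
  obtain ⟨d, rfl⟩ := hδ
  obtain ⟨σ, a, hσ, rfl⟩ := fieldClass_std H hx
  have he : soHom Q d * (soHom Q a * fieldHom H.rat σ * (soHom Q a)⁻¹) =
      soHom Q (d * (a * (soMap H.rat σ a)⁻¹)) * fieldHom H.rat σ := by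
    rw [conj_field H, map_mul (soHom Q) d, mul_assoc]
  rw [he] at hord
  obtain ⟨hσr, hN⟩ := orderOf_std H hr hσ hord
  obtain ⟨y, hy⟩ := exists_coboundary_SO H (hσr ▸ hN)
  rw [he, hy, ← conj_field H]
  exact ⟨soHom Q (y * a⁻¹), ⟨_, rfl⟩, by rw [map_mul, map_inv]; group⟩

/-! ### Centraliser and split classes -/

section Fixed

variable {F₀ : Type*} [Field F₀] [Fintype F₀] {P : QuadraticForm F₀ (ι → F₀)} {j : F₀ →+* F}
  (hP : ∀ u, Q (j ∘ u) = j (P u)) {σ : RingAut F} (hj : ∀ x, σ x = x ↔ x ∈ j.range)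

theorem centralizer_field_eq (hP : ∀ u, Q (j ∘ u) = j (P u)) (hj : ∀ x, σ x = x ↔ x ∈ j.range) :
    (soHom Q).range ⊓ Subgroup.centralizer {fieldHom H.rat σ} =
      ((mapSO j hP).range).map (soHom Q) := by
  ext β
  rw [Subgroup.mem_inf, Subgroup.mem_centralizer_singleton_iff, MonoidHom.mem_range, Subgroup.mem_map]
  constructor
  · rintro ⟨⟨g, rfl⟩, hg⟩
    rw [field_conj] at hg
    exact ⟨g, (mem_range_mapSO_iff j hP hj H.rat).2 (soHom_mul_field_inj H hg).1.symm, rfl⟩
  · rintro ⟨g, hg, rfl⟩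
    refine ⟨⟨g, rfl⟩, ?_⟩
    rw [field_conj, (mem_range_mapSO_iff j hP hj H.rat).1 hg]

theorem centralizer_field_iso (H₀ : OddSpace P) (hP : ∀ u, Q (j ∘ u) = j (P u))
    (hj : ∀ x, σ x = x ↔ x ∈ j.range) :
    Nonempty (↥(pgoAut F ⇑Q ⊓ Subgroup.centralizer {fieldHom H.rat σ}) ≃* ↥(pgoAut F₀ ⇑P)) :=
  ⟨(MulEquiv.subgroupCongr (by rw [pgoAut_eq_soHom H, centralizer_field_eq H hP hj,
      MonoidHom.map_range])).trans <|
    (MonoidHom.ofInjective (f := (soHom Q).comp (mapSO j hP))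
      ((soHom_injective H).comp (mapSO_injective j hP))).symm.trans <|
    (MonoidHom.ofInjective (soHom_injective H₀)).trans (MulEquiv.subgroupCongr (pgoAut_eq_soHom H₀).symm)⟩

theorem split_eq_index (hP : ∀ u, Q (j ∘ u) = j (P u)) (hj : ∀ x, σ x = x ↔ x ∈ j.range) :
    splitClassCount (pgoAut F ⇑Q) (Inn PQ) (fieldHom H.rat σ) =
      ((spinSO Q).ker ⊔ (mapSO j hP).range).index := by
  have hinn : Inn PQ = ((spinSO Q).ker).map (soHom Q) := by
    rw [spin_ker H]
    ext β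
    constructor
    · rintro ⟨x, rfl⟩
      obtain ⟨t, rfl⟩ := omPi_surjective x
      exact ⟨_, ⟨t, rfl⟩, (conj_eq_soHom t).symm⟩
    · rintro ⟨_, ⟨t, rfl⟩, rfl⟩
      exact ⟨omPi (Q := Q) t, conj_eq_soHom t⟩
  rw [splitClassCount_eq_relIndex _ _ inn_le_pgoAut, pgoAut_eq_soHom H, centralizer_field_eq H hP hj, hinn,
    ← Subgroup.map_sup, ← Subgroup.index_comap,
    Subgroup.comap_map_eq_self_of_injective (soHom_injective H)]

theorem theta_eq_of_isSquare {v w : ι → F} (hv : Q v ≠ 0) (hw : Q w ≠ 0) (h : IsSquare (Q v / Q w)) :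
    theta Q (refl hv) = theta Q (refl hw) := by
  have h1 := theta_omega (refl_mod H.two H.nd hv hw h)
  rw [map_mul, mul_eq_one_iff_eq_inv, Int.units_inv_eq_self] at h1
  exact h1

theorem split_odd (H₀ : OddSpace P) (hP : ∀ u, Q (j ∘ u) = j (P u)) (hj : ∀ x, σ x = x ↔ x ∈ j.range)
    (hσ : Odd (orderOf σ)) :
    splitClassCount (pgoAut F ⇑Q) (Inn PQ) (fieldHom H.rat σ) = 1 := by
  rw [split_eq_index H hP hj, Subgroup.index_eq_one]
  obtain ⟨ε₀, hε₀⟩ := FiniteField.exists_nonsquare (F := F₀)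
    (fun hc => H₀.two (by haveI := ringChar.of_eq hc; exact CharTwo.two_eq_zero))
  have hns : ¬ IsSquare (j ε₀) := by
    rintro ⟨a, ha⟩
    have hfix : σ (j ε₀) = j ε₀ := (hj _).2 ⟨ε₀, rfl⟩
    rw [ha, map_mul] at hfix
    rcases mul_self_eq_mul_self_iff.1 hfix with h1 | h1
    · obtain ⟨b, hb⟩ := (hj a).1 h1
      exact hε₀ ⟨b, j.injective (by rw [map_mul, hb, ha])⟩
    · obtain ⟨k, hk⟩ := hσ
      have h2 : ∀ n : ℕ, (σ ^ n : RingAut F) a = (-1) ^ n * a := fun n => by
        induction n with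
        | zero => simp
        | succ n ih => rw [pow_succ', RingAut.mul_apply, ih, map_mul, map_pow, map_neg, map_one, h1]; ring
      have h3 := h2 (orderOf σ)
      rw [pow_orderOf_eq_one, hk, RingAut.one_apply, pow_succ, pow_mul] at h3
      have ha0 : a = 0 := mul_left_cancel₀ H.two (by rw [mul_zero]; linear_combination (norm := ring_nf) h3)
      exact hε₀ ⟨0, j.injective (by rw [ha, ha0, mul_zero, map_mul, map_zero, mul_zero])⟩
  obtain ⟨e, f, hef⟩ := exists_basePair H₀.nd H₀.tri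
  have hPt : ∀ t : F₀, P (e + t • f) = t := fun t => by
    rw [quad_add_smul, hef.1, hef.2.1, hef.2.2]; ring
  have hv : P (e + (1 : F₀) • f) ≠ 0 := by rw [hPt]; exact one_ne_zero
  have hw : P (e + ε₀ • f) ≠ 0 := by rw [hPt]; exact fun h0 => hε₀ (h0 ▸ IsSquare.zero)
  set g₀ : isometryGroup F₀ ⇑P := refl hv * refl hw
  set s₀ : specialIsometryGL F₀ ⇑P := ⟨(g₀ : GL ι F₀), mem_SO.2 ⟨ogVal_quad g₀, by
    show (ogVal (refl hv * refl hw)).det = 1
    rw [ogVal_mul, Matrix.det_mul, refl_det, refl_det]; ring⟩⟩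
  have hs : spinSO Q (mapSO j hP s₀) = -1 := by
    show theta Q (mapOG j hP g₀) = -1
    rw [map_mul (mapOG j hP), map_mul, mapOG_refl, mapOG_refl]
    obtain ⟨ε', v', w', hv', hw', hε', hv1, hw1, hvw⟩ := exists_two_refl H.two H.nd H.tri
    refine (congrArg₂ (· * ·) (theta_eq_of_isSquare H _ hv' ?_) (theta_eq_of_isSquare H _ hw' ?_)).trans hvw
    · rw [hP, hPt, map_one, hv1, div_one]; exact IsSquare.one
    · rw [hP, hPt, hw1, div_eq_mul_inv]
      exact isSquare_of_two_nonsquares H.two hns fun h => hε' (by simpa using h.inv)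
  refine top_le_iff.1 fun g _ => ?_
  rcases Int.units_eq_one_or (spinSO Q g) with h | h
  · exact Subgroup.mem_sup_left h
  · rw [show g = g * (mapSO j hP s₀)⁻¹ * mapSO j hP s₀ by group]
    refine mul_mem (Subgroup.mem_sup_left ?_) (Subgroup.mem_sup_right ⟨s₀, rfl⟩)
    rw [MonoidHom.mem_ker, map_mul, map_inv, h, hs, mul_inv_cancel]

theorem split_two (H₀ : OddSpace P) (hP : ∀ u, Q (j ∘ u) = j (P u)) (hj : ∀ x, σ x = x ↔ x ∈ j.range)
    (hsq : ∀ c : F₀, IsSquare (j c)) :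
    splitClassCount (pgoAut F ⇑Q) (Inn PQ) (fieldHom H.rat σ) = 2 := by
  rw [split_eq_index H hP hj]
  obtain ⟨ε', v', w', hv', hw', -, hv1, -, -⟩ := exists_two_refl H.two H.nd H.tri
  have hle : (mapSO j hP).range ≤ (spinSO Q).ker := by
    rintro _ ⟨s, rfl⟩
    have key : ∀ g : isometryGroup F₀ ⇑P, (theta Q (mapOG j hP g) = 1 ∧ (ogVal g).det = 1) ∨
        (theta Q (mapOG j hP g) = theta Q (refl hv') ∧ (ogVal g).det = -1) := by
      intro g
      refine Subgroup.closure_induction (p := fun g _ => (theta Q (mapOG j hP g) = 1 ∧ (ogVal g).det = 1) ∨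
        (theta Q (mapOG j hP g) = theta Q (refl hv') ∧ (ogVal g).det = -1)) ?_ ?_ ?_ ?_
        (reflections_generate H₀.two H₀.nd g)
      · rintro _ ⟨v, hv, rfl⟩
        refine Or.inr ⟨?_, refl_det hv⟩
        rw [mapOG_refl]
        exact theta_eq_of_isSquare H _ hv' (by rw [hP, hv1, div_one]; exact hsq _)
      · exact Or.inl ⟨by rw [map_one, map_one], by rw [ogVal_one, Matrix.det_one]⟩
      · intro a b _ _ ha hb
        rw [map_mul, map_mul, ogVal_mul, Matrix.det_mul]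
        rcases ha with ⟨h1, h2⟩ | ⟨h1, h2⟩ <;> rcases hb with ⟨h3, h4⟩ | ⟨h3, h4⟩ <;>
          simp [h1, h2, h3, h4, Int.units_mul_self]
      · intro a _ ha
        have hd : (ogVal a⁻¹).det * (ogVal a).det = 1 := by
          rw [← Matrix.det_mul, ← ogVal_mul, inv_mul_cancel, ogVal_one, Matrix.det_one]
        rw [map_inv, map_inv, Int.units_inv_eq_self]
        rcases ha with ⟨h1, h2⟩ | ⟨h1, h2⟩ <;> rw [h2] at hd
        · exact Or.inl ⟨h1, by simpa using hd⟩
        · exact Or.inr ⟨h1, by linear_combination -hd⟩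
    rcases key (soIso s) with ⟨h1, -⟩ | ⟨-, h2⟩
    · exact h1
    · exfalso
      rw [show (ogVal (soIso s)).det = 1 from (mem_SO.1 s.2).2] at h2
      exact H₀.two (by linear_combination h2)
  rw [sup_eq_left.2 hle, Subgroup.index_ker,
    MonoidHom.range_eq_top.2 (show Function.Surjective (spinSO Q) from fun u => by
      rcases Int.units_eq_one_or u with rfl | rfl
      · exact ⟨1, map_one _⟩
      · exact spin_surjective H), Subgroup.card_top, Nat.card_eq_fintype_card]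
  rfl

end Fixed

/-- Centraliser and classes of a field automorphism of prime order. -/
theorem field_stats {fn : (ι → F) → F} (hfn : ⇑Q = fn) {p f : ℕ} [Fact p.Prime]
    (hF : Fintype.card F = p ^ f) {x : MulAut (POmega F fn)} (hx : IsFieldAutClassPOmega fn x) {r : ℕ}
    (hr : r.Prime) (hxr : orderOf x = r) {F₀ : Type*} [Field F₀] [Fintype F₀]
    (hF₀ : Fintype.card F₀ = p ^ (f / r)) {P : QuadraticForm F₀ (ι → F₀)} {fn₀ : (ι → F₀) → F₀}
    (hfn₀ : ⇑P = fn₀) (H₀ : OddSpace P) (hP : ∀ (j : F₀ →+* F) u, Q (j ∘ u) = j (P u)) :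
    r ∣ f ∧ Nonempty (↥(pgoAut F fn ⊓ Subgroup.centralizer {x}) ≃* ↥(pgoAut F₀ fn₀)) ∧
      (Odd r → splitClassCount (pgoAut F fn) (Inn (POmega F fn)) x = 1) ∧
      (r = 2 → splitClassCount (pgoAut F fn) (Inn (POmega F fn)) x = 2) := by
  subst hfn
  subst hfn₀
  haveI : CharP F p := charP_of_card_eq_prime_pow hF
  obtain ⟨σ, a, -, rfl⟩ := fieldClass_std H hx
  have hσ : orderOf σ = r := by
    rw [← hxr, ← orderOf_injective _ (fieldHom_injective H) σ]
    exact ((MulAut.conj (soHom Q a)).orderOf_eq _).symm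
  obtain ⟨hrf, -, j, hj⟩ := PSLAut.exists_fixed_embedding (p := p) hF hσ F₀ hF₀
  have ha : soHom Q a ∈ pgoAut F ⇑Q := by rw [pgoAut_eq_soHom H]; exact ⟨a, rfl⟩
  refine ⟨hrf, ?_, fun hodd => ?_, fun h2 => ?_⟩
  · obtain ⟨e1⟩ := inf_centralizer_conj ha (fieldHom H.rat σ)
    obtain ⟨e2⟩ := centralizer_field_iso H H₀ (hP j) hj
    exact ⟨e1.trans e2⟩
  · rw [splitClassCount_conj ha]
    exact split_odd H H₀ (hP j) hj (hσ ▸ hodd)
  · rw [splitClassCount_conj ha]
    refine split_two H H₀ (hP j) hj fun c => ?_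
    by_cases hc : c = 0
    · rw [hc, map_zero]; exact IsSquare.zero
    have hchar : ringChar F ≠ 2 := fun h => H.two (by haveI := ringChar.of_eq h; exact CharTwo.two_eq_zero)
    have hq : Fintype.card F = Fintype.card F₀ * Fintype.card F₀ := by
      rw [hF, hF₀, ← pow_add]
      congr 1
      subst h2
      omega
    have hodd : Fintype.card F₀ % 2 = 1 :=
      FiniteField.odd_card_of_char_ne_two fun h => H₀.two (by
        haveI := ringChar.of_eq h; exact CharTwo.two_eq_zero)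
    obtain ⟨k, hk⟩ : ∃ k, Fintype.card F₀ = 2 * k + 1 := ⟨Fintype.card F₀ / 2, by omega⟩
    rw [FiniteField.isSquare_iff hchar ((map_ne_zero j).2 hc), ← map_pow, hq,
      show Fintype.card F₀ * Fintype.card F₀ / 2 = (Fintype.card F₀ - 1) * (k + 1) by
        rw [hk, Nat.add_sub_cancel, show (2 * k + 1) * (2 * k + 1) = 2 * (2 * k * (k + 1)) + 1 by ring]
        omega,
      pow_mul, FiniteField.pow_card_sub_one_eq_one c hc, one_pow, map_one]

end Cfsg.Agent.Classical.OrthAut
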