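import Cfsg.Agent.Lib.Classical.OrthGOQuot
import Cfsg.Agent.Lib.Classical.FormSimilitudeGroups
import Cfsg.Agent.Lib.Classical.SympBlocks

/-!
The centraliser of a semisimple isometry of odd prime order: it has elements of both spinor norms, and the
similitudes commuting with it have every multiplier.
-/

set_option autoImplicit false
set_option linter.unusedSectionVars false
set_option quotPrecheck false
set_option maxHeartbeats 1000000

namespace Cfsg.Agent.Classical.OddCent

open Matrix Module Cfsg.Agent.Classical.OrthAut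

variable {F : Type*} [Field F] {ι : Type} [Fintype ι] [DecidableEq ι] {Q : QuadraticForm F (ι → F)}

local notation "Mn" => Matrix ι ι F
local notation "B" => QuadraticMap.polar ⇑Q
local notation "OG" => isometryGroup F ⇑Q

variable [Fintype F] (hQ : (QuadraticMap.polarBilin Q).Nondegenerate) (h2 : (2 : F) ≠ 0)

/-! ### Involutions -/

include hQ h2

theorem exists_prod_refl {κ : Type*} [DecidableEq κ] (v : κ → ι → F) (ho : ∀ i j, i ≠ j → B (v i) (v j) = 0)
    (hv : ∀ i, Q (v i) ≠ 0) (s : Finset κ) :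
    ∃ τ : OG, (ogVal τ).det = (-1) ^ s.card ∧ spin τ = sqSign (∏ i ∈ s, Q (v i)) ∧
      ∀ x, ogVal τ *ᵥ x = x - ∑ i ∈ s, ((Q (v i))⁻¹ * B (v i) x) • v i := by
  induction s using Finset.induction with
  | empty => exact ⟨1, by simp, by rw [Finset.prod_empty, sqSign_of_isSquare IsSquare.one, ← spinHom_apply hQ,
      map_one], fun x => by simp⟩
  | insert a s ha ih =>
    obtain ⟨τ, hd, hs, hx⟩ := ih
    refine ⟨refl (hv a) * τ, by rw [ogVal_mul, det_mul, refl_det, hd, Finset.card_insert_of_notMem ha,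
      pow_succ, mul_comm], ?_, fun x => ?_⟩
    · rw [spin_mul hQ, spin_refl hQ, hs, Finset.prod_insert ha,
        sqSign_mul (hv a) (Finset.prod_ne_zero_iff.2 fun i _ => hv i)]
    · have h0 : B (v a) (∑ i ∈ s, ((Q (v i))⁻¹ * B (v i) x) • v i) = 0 := by
        show QuadraticMap.polarBilin Q (v a) _ = 0
        rw [map_sum]
        refine Finset.sum_eq_zero fun i hi => ?_
        rw [map_smul, QuadraticMap.polarBilin_apply_apply, ho a i (by rintro rfl; exact ha hi), smul_zero]
      rw [ogVal_mul, ← mulVec_mulVec, hx, refl_apply, QuadraticMap.polar_sub_right, h0, sub_zero,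
        Finset.sum_insert ha]
      abel

/-- The involution negating the span of a family with invertible Gram matrix. -/
theorem exists_involution {d : ℕ} (w : Fin d → ι → F) {G : Matrix (Fin d) (Fin d) F}
    (hG : ∀ i j, G i j = B (w i) (w j)) (hdet : G.det ≠ 0) :
    ∃ τ : OG, (ogVal τ).det = (-1) ^ d ∧ spin τ = sqSign (2 ^ d * G.det) ∧
      (∀ i, ogVal τ *ᵥ w i = -w i) ∧ ∀ x, (∀ i, B (w i) x = 0) → ogVal τ *ᵥ x = x := by
  classical
  haveI : Invertible (2 : F) := invertibleOfNonzero h2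
  let L : (Fin d → F) →ₗ[F] ι → F := Fintype.linearCombination F w
  let β : LinearMap.BilinForm F (Fin d → F) := LinearMap.BilinForm.comp (QuadraticMap.polarBilin Q) L L
  have hLi : ∀ i, L (Pi.single i 1) = w i := fun i => by
    rw [Fintype.linearCombination_apply_single, one_smul]
  have hβ : LinearMap.BilinForm.toMatrix (Pi.basisFun F (Fin d)) β = G := by
    ext i j
    rw [LinearMap.BilinForm.toMatrix_apply, Pi.basisFun_apply, Pi.basisFun_apply, hG]
    show B (L _) (L _) = _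
    rw [hLi, hLi]
  obtain ⟨b, hb⟩ := LinearMap.BilinForm.exists_orthogonal_basis
    (show LinearMap.IsSymm β from ⟨fun x y => QuadraticMap.polar_comm _ (L x) (L y)⟩)
  let b' : Basis (Fin d) F (Fin d → F) := b.reindex (finCongr (by simp))
  have hb' : ∀ i j, i ≠ j → B (L (b' i)) (L (b' j)) = 0 := fun i j hij => by
    simp only [b', Basis.reindex_apply]
    exact hb fun h => hij ((finCongr _).symm.injective h)
  have key : (LinearMap.BilinForm.toMatrix b' β).det =
      ((Pi.basisFun F (Fin d)).toMatrix ⇑b').det ^ 2 * G.det := by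
    rw [← LinearMap.BilinForm.toMatrix_mul_basis_toMatrix (Pi.basisFun F (Fin d)) b' β, hβ, det_mul, det_mul,
      det_transpose]
    ring
  have hdiag : LinearMap.BilinForm.toMatrix b' β = diagonal fun i => 2 * Q (L (b' i)) := by
    ext i j
    rw [LinearMap.BilinForm.toMatrix_apply]
    show B (L (b' i)) (L (b' j)) = _
    rcases eq_or_ne i j with rfl | hij
    · rw [diagonal_apply_eq, polar_self2]
    · rw [diagonal_apply_ne _ hij, hb' i j hij]
  rw [hdiag, det_diagonal, Finset.prod_mul_distrib, Finset.prod_const, Finset.card_fin] at key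
  set P := ((Pi.basisFun F (Fin d)).toMatrix ⇑b').det
  have hP : P ≠ 0 := by
    letI := (Pi.basisFun F (Fin d)).invertibleToMatrix b'
    exact (isUnit_det_of_invertible _).ne_zero
  have hne : (2 : F) ^ d * ∏ i, Q (L (b' i)) ≠ 0 := key ▸ mul_ne_zero (pow_ne_zero _ hP) hdet
  have hv : ∀ i, Q (L (b' i)) ≠ 0 := fun i h0 => hne (by
    rw [Finset.prod_eq_zero (Finset.mem_univ i) h0, mul_zero])
  obtain ⟨τ, hd, hs, hx⟩ := exists_prod_refl hQ h2 _ hb' hv Finset.univ
  refine ⟨τ, by simpa using hd, ?_, ?_, fun x hx0 => ?_⟩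
  · rw [hs]
    have e : (2 : F) ^ d * G.det = (∏ i, Q (L (b' i))) * ((2 ^ d / P) * (2 ^ d / P)) := by
      field_simp
      linear_combination -key
    rw [e, sqSign_mul (fun h => hne (by rw [h, mul_zero]))
      (mul_ne_zero (div_ne_zero (pow_ne_zero _ h2) hP) (div_ne_zero (pow_ne_zero _ h2) hP)),
      sqSign_of_isSquare (c := 2 ^ d / P * (2 ^ d / P)) ⟨_, rfl⟩, mul_one]
  · have h : (mulVecLin (ogVal τ)).comp L = -L := b'.ext fun j => by
      rw [LinearMap.comp_apply, mulVecLin_apply, hx, Finset.sum_eq_single j, LinearMap.neg_apply, polar_self2]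
      · rw [show (Q (L (b' j)))⁻¹ * (2 * Q (L (b' j))) = 2 by rw [mul_left_comm, inv_mul_cancel₀ (hv j), mul_one]]
        module
      · exact fun i _ hij => by rw [hb' i j hij, mul_zero, zero_smul]
      · simp
    intro i
    have := LinearMap.congr_fun h (Pi.single i 1)
    rwa [LinearMap.comp_apply, mulVecLin_apply, LinearMap.neg_apply, hLi] at this
  · rw [hx, Finset.sum_eq_zero fun i _ => ?_, sub_zero]
    have h0 : (QuadraticMap.polarBilin Q).flip x (L (b' i)) = 0 := by
      rw [Fintype.linearCombination_apply, map_sum]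
      exact Finset.sum_eq_zero fun j _ => by
        rw [map_smul]
        show _ • B (w j) x = 0
        rw [hx0, smul_zero]
    rw [show B (L (b' i)) x = 0 from h0, mul_zero, zero_smul]

omit hQ h2

/-! ### The algebra generated by `M + M⁻¹` -/

/-- Self-adjointness. -/
def Adj (X Y : Mn) (Q : QuadraticForm F (ι → F)) : Prop :=
  ∀ x y, QuadraticMap.polar ⇑Q (X *ᵥ x) y = QuadraticMap.polar ⇑Q x (Y *ᵥ y)

omit [Fintype F] [DecidableEq ι] in
theorem Adj.mul {X X' Y Y' : Mn} (h : Adj X X' Q) (h' : Adj Y Y' Q) : Adj (X * Y) (Y' * X') Q := fun x y => by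
  rw [← mulVec_mulVec, h, h', mulVec_mulVec]

omit [Fintype F] [DecidableEq ι] in
theorem Adj.add {X X' Y Y' : Mn} (h : Adj X X' Q) (h' : Adj Y Y' Q) : Adj (X + Y) (X' + Y') Q := fun x y => by
  rw [add_mulVec, add_mulVec, QuadraticMap.polar_add_left, QuadraticMap.polar_add_right, h, h']

omit [Fintype F] [DecidableEq ι] in
theorem Adj.smul {X X' : Mn} (h : Adj X X' Q) (c : F) : Adj (c • X) (c • X') Q := fun x y => by
  rw [smul_mulVec, smul_mulVec, QuadraticMap.polar_smul_left, QuadraticMap.polar_smul_right, h]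

omit [Fintype F] [DecidableEq ι] in
theorem Adj.sub {X X' Y Y' : Mn} (h : Adj X X' Q) (h' : Adj Y Y' Q) : Adj (X - Y) (X' - Y') Q := by
  rw [sub_eq_add_neg, sub_eq_add_neg, ← neg_one_smul F Y, ← neg_one_smul F Y']
  exact h.add (h'.smul _)

omit [Fintype F] in
theorem Adj.one : Adj (1 : Mn) 1 Q := fun x y => by rw [one_mulVec, one_mulVec]

/-- The standing data: an isometry of odd prime order prime to the characteristic. -/
structure Data (Q : QuadraticForm F (ι → F)) (M : Mn) (r : ℕ) : Prop where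
  nd : (QuadraticMap.polarBilin Q).Nondegenerate
  two : (2 : F) ≠ 0
  iso : ∀ v, Q (M *ᵥ v) = Q v
  pow : M ^ r = 1
  prime : r.Prime
  odd : Odd r
  cast : (r : F) ≠ 0

/-- The inverse of `M`. -/
def inv' (M : Mn) (r : ℕ) : Mn := M ^ (r - 1)

/-- The generator `M + M⁻¹`. -/
def symPart (M : Mn) (r : ℕ) : Mn := M + inv' M r

/-- The skew element `M - M⁻¹`. -/
def skew (M : Mn) (r : ℕ) : Mn := M - inv' M r

/-- The algebra of the symmetric part. -/
abbrev R0 (M : Mn) (r : ℕ) : Subalgebra F (Matrix ι ι F) := Algebra.adjoin F {symPart M r}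

open scoped IsMulCommutative

namespace Data

variable {M : Matrix ι ι F} {r : ℕ} (D : Data Q M r)
include D

theorem mul_inv' : M * inv' M r = 1 := by
  rw [inv', ← pow_succ', Nat.sub_add_cancel D.prime.one_le, D.pow]

theorem inv'_mul : inv' M r * M = 1 := by
  rw [inv', ← pow_succ, Nat.sub_add_cancel D.prime.one_le, D.pow]

theorem adj_M : Adj M (inv' M r) Q := fun x y => by
  conv_lhs => rw [show y = M *ᵥ (inv' M r *ᵥ y) by rw [mulVec_mulVec, D.mul_inv', one_mulVec]]
  exact isometry_polar D.iso x _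

theorem adj_inv : Adj (inv' M r) M Q := fun x y => by
  rw [QuadraticMap.polar_comm, ← D.adj_M, QuadraticMap.polar_comm]

theorem adj_skew : Adj (skew M r) ((-1 : F) • skew M r) Q := by
  have := D.adj_M.sub D.adj_inv
  rwa [skew, neg_one_smul, neg_sub]

theorem commute_skew : Commute (skew M r) M := by
  rw [skew, inv']; exact (Commute.refl M).sub_left (Commute.pow_self M _)

theorem adj_mem {x : Mn} (hx : x ∈ R0 M r) : Adj x x Q ∧ Commute x M := by
  induction hx using Algebra.adjoin_induction with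
  | mem y hy =>
    obtain rfl := Set.mem_singleton_iff.1 hy
    refine ⟨?_, (Commute.refl M).add_left (Commute.pow_self M _)⟩
    have := D.adj_M.add D.adj_inv
    rwa [add_comm (inv' M r) M] at this
  | algebraMap c =>
    refine ⟨?_, Algebra.commute_algebraMap_left c M⟩
    rw [Algebra.algebraMap_eq_smul_one]; exact Adj.one.smul c
  | add y z hy hz h1 h2 => exact ⟨h1.1.add h2.1, h1.2.add_left h2.2⟩
  | mul y z hy hz h1 h2 =>
    refine ⟨?_, h1.2.mul_left h2.2⟩
    have h3 := h1.1.mul h2.1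
    have h4 : z * y = y * z := congrArg Subtype.val (mul_comm (⟨z, hz⟩ : R0 M r) ⟨y, hy⟩)
    rwa [h4] at h3

theorem commute_mem_skew {x : Mn} (hx : x ∈ R0 M r) : Commute x (skew M r) :=
  (D.adj_mem hx).2.sub_right ((D.adj_mem hx).2.pow_right _)

omit D in
/-- The generator as an element of the algebra. -/
def A : R0 M r := ⟨symPart M r, Algebra.self_mem_adjoin_singleton F _⟩

omit D in
/-- The square of the skew element. -/
def disc : R0 M r := A * A - 4

theorem skew_sq : skew M r * skew M r = ((disc : R0 M r) : Mn) := by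
  show _ = symPart M r * symPart M r - ((4 : R0 M r) : Mn)
  have h4 : ((4 : R0 M r) : Mn) = 1 + 1 + 1 + 1 := by
    rw [show (4 : R0 M r) = 1 + 1 + 1 + 1 by norm_num]; rfl
  rw [h4, skew, symPart]
  simp only [mul_sub, sub_mul, mul_add, add_mul, D.mul_inv', D.inv'_mul]
  abel

theorem exists_frob : ∃ q, 2 < q ∧ ∀ x : R0 M r, x ^ q = x := by
  obtain ⟨p, hp⟩ := CharP.exists F
  haveI : Fact p.Prime := ⟨CharP.char_is_prime F p⟩
  obtain ⟨f, -, hf⟩ := FiniteField.card F p
  refine ⟨Fintype.card F ^ (r - 1), ?_, ?_⟩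
  · have h2 : 1 < r - 1 := by
      have := D.prime.two_le; obtain ⟨k, hk⟩ := D.odd; omega
    have h3 := Fintype.one_lt_card (α := F)
    calc 2 < 2 ^ 2 := by norm_num
      _ ≤ Fintype.card F ^ 2 := Nat.pow_le_pow_left h3 2
      _ ≤ _ := Nat.pow_le_pow_right (by omega) (by omega)
  have hcop : Nat.Coprime (Fintype.card F) r := (D.prime.coprime_iff_not_dvd.2 fun hd => D.cast (by
    rw [hf] at hd
    rw [(Nat.prime_dvd_prime_iff_eq D.prime Fact.out).1 (D.prime.dvd_of_dvd_pow hd)]
    exact CharP.cast_eq_zero F p)).symm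
  have hmod : Fintype.card F ^ (r - 1) ≡ 1 [MOD r] := by
    rw [← Nat.totient_prime D.prime]; exact Nat.ModEq.pow_totient hcop
  have hMq : M ^ (Fintype.card F ^ (r - 1)) = M := by
    conv_rhs => rw [← pow_one M]
    exact pow_eq_pow_of_modEq hmod D.pow
  have hq : Fintype.card F ^ (r - 1) = p ^ ((f : ℕ) * (r - 1)) := by rw [hf, ← pow_mul]
  intro ⟨x, hx⟩
  rcases subsingleton_or_nontrivial Mn with hn | hn
  · exact Subtype.ext (Subsingleton.elim _ _)
  haveI : CharP Mn p := charP_of_injective_algebraMap (algebraMap F Mn).injective p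
  induction hx using Algebra.adjoin_induction with
  | mem y hy =>
    obtain rfl := Set.mem_singleton_iff.1 hy
    refine Subtype.ext ?_
    show symPart M r ^ _ = symPart M r
    conv_lhs => rw [symPart, inv', hq, add_pow_char_pow_of_commute p _ (Commute.pow_right (Commute.refl M) _), ← hq, hMq]
    rw [symPart, inv', pow_right_comm, hMq]
  | algebraMap c =>
    refine Subtype.ext ?_
    show algebraMap F Mn c ^ _ = algebraMap F Mn c
    rw [← map_pow, FiniteField.pow_card_pow]
  | add y z hy hz h1 h2 =>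
    refine Subtype.ext ?_
    have hc : Commute y z := congrArg Subtype.val (mul_comm (⟨y, hy⟩ : R0 M r) ⟨z, hz⟩)
    show (y + z) ^ _ = y + z
    rw [hq, add_pow_char_pow_of_commute p _ hc, ← hq]
    exact congr_arg₂ (· + ·) (congrArg Subtype.val h1) (congrArg Subtype.val h2)
  | mul y z hy hz h1 h2 =>
    rw [show (⟨y * z, mul_mem hy hz⟩ : R0 M r) = ⟨y, hy⟩ * ⟨z, hz⟩ from rfl, mul_pow, h1, h2]

theorem exists_frobenius_order : ∃ q, 2 < q ∧ ∀ x : R0 M r, x ^ (q - 1) * x = x := by
  obtain ⟨q, hq, hx⟩ := D.exists_frob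
  exact ⟨q, hq, fun x => by rw [← pow_succ, Nat.sub_add_cancel (by omega), hx]⟩

/-- Primitive idempotents. -/
theorem exists_min {g : R0 M r} (hgg : g * g = g) (hg : g ≠ 0) :
    ∃ e : R0 M r, e * e = e ∧ e ≠ 0 ∧ e * g = e ∧ ∀ x, e * x ≠ 0 → ∃ z, z * (e * x) = e := by
  classical
  obtain ⟨q, hq, hx⟩ := D.exists_frob
  haveI : Finite (R0 M r) := inferInstance
  obtain ⟨e, ⟨hee, he, heg⟩, hmin⟩ := Set.exists_min_image {e : R0 M r | e * e = e ∧ e ≠ 0 ∧ e * g = e}
    (fun e => Nat.card {x : R0 M r // e * x = x}) (Set.toFinite _) ⟨g, hgg, hg, hgg⟩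
  refine ⟨e, hee, he, heg, fun x hex => ?_⟩
  obtain ⟨j, rfl⟩ : ∃ j, q = j + 3 := ⟨q - 3, by omega⟩
  set y := e * x with hy
  have hey : e * y = y := by rw [hy, ← mul_assoc, hee]
  set k := y ^ (j + 2) with hk
  have hky : k * y = y := by rw [hk, ← pow_succ]; exact hx y
  have hek : e * k = k := by rw [hk, pow_succ, ← mul_assoc, mul_comm e, mul_assoc, hey]
  have hkk : k * k = k := by
    rw [hk, ← pow_add, show j + 2 + (j + 2) = j + 3 + (j + 1) by omega, pow_add, hx y, ← pow_succ']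
  have hk0 : k ≠ 0 := fun h0 => hex (by rw [← hky, h0, zero_mul])
  have hle := hmin k ⟨hkk, hk0, by rw [← hek, mul_comm e k, mul_assoc, heg]⟩
  let φ : {z : R0 M r // k * z = z} → {z : R0 M r // e * z = z} :=
    fun z => ⟨z, by rw [← z.2, ← mul_assoc, hek]⟩
  obtain ⟨z, hz⟩ := (Function.Injective.bijective_of_nat_card_le
    (f := φ) (fun a b h => Subtype.ext (congrArg Subtype.val h :)) hle).2 ⟨e, hee⟩
  have hke : k = e := by
    have h1 := z.2
    rw [show (z : R0 M r) = e from congrArg Subtype.val hz, mul_comm, hek] at h1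
    exact h1
  exact ⟨y ^ (j + 1), by rw [← pow_succ, ← hke]⟩

omit D in
/-- The annihilator of an element. -/
def ann (e : R0 M r) : Ideal (R0 M r) where
  carrier := {x | e * x = 0}
  add_mem' := fun {a b} (ha : e * a = 0) (hb : e * b = 0) => show e * (a + b) = 0 by rw [mul_add, ha, hb, add_zero]
  zero_mem' := mul_zero e
  smul_mem' := fun c x (hx : e * x = 0) => show e * (c * x) = 0 by rw [mul_left_comm, hx, mul_zero]

omit D in
theorem mk_eq_mk {e x y : R0 M r} :
    Ideal.Quotient.mk (ann e) x = Ideal.Quotient.mk (ann e) y ↔ e * x = e * y := by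
  rw [Ideal.Quotient.eq]
  show e * (x - y) = 0 ↔ _
  rw [mul_sub, sub_eq_zero]

omit D in
theorem ann_max {e : R0 M r} (he : e ≠ 0) (hmin : ∀ x, e * x ≠ 0 → ∃ z, z * (e * x) = e) :
    (ann e).IsMaximal := by
  refine Ideal.isMaximal_iff.2 ⟨fun h => he ?_, fun J x hJ hxI hxJ => ?_⟩
  · simpa using (show e * 1 = 0 from h)
  · obtain ⟨z, hz⟩ := hmin x hxI
    have h1 : z * x - 1 ∈ ann e := show e * (z * x - 1) = 0 by linear_combination hz
    have := J.sub_mem (J.mul_mem_left z hxJ) (hJ h1)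
    rwa [sub_sub_cancel] at this

/-- The norm equation on a primitive idempotent. -/
theorem exists_norm {e : R0 M r} (he : e ≠ 0)
    (hmin : ∀ x, e * x ≠ 0 → ∃ z, z * (e * x) = e) {d : R0 M r} (hd : e * d ≠ 0) (g : R0 M r) :
    ∃ X Y : R0 M r, e * (X * X - d * (Y * Y)) = e * g := by
  classical
  haveI := ann_max he hmin
  letI : Field (R0 M r ⧸ ann e) := Ideal.Quotient.field _
  haveI : Finite (R0 M r) := inferInstance
  letI : Fintype (R0 M r ⧸ ann e) := Fintype.ofFinite _
  set π := Ideal.Quotient.mk (ann e)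
  have h2 : ringChar (R0 M r ⧸ ann e) ≠ 2 := fun h => by
    haveI := ringChar.of_eq h
    haveI : CharP F 2 := (algebraMap F (R0 M r ⧸ ann e)).charP (algebraMap F (R0 M r ⧸ ann e)).injective 2
    exact D.two CharTwo.two_eq_zero
  have hd' : π d ≠ 0 := fun h => hd (by
    rw [← map_zero π, mk_eq_mk] at h
    rw [h, mul_zero])
  obtain ⟨a, b, hab⟩ := FiniteField.exists_root_sum_quadratic (R := R0 M r ⧸ ann e)
    (f := Polynomial.X ^ 2 - Polynomial.C (π g)) (g := Polynomial.C (-π d) * Polynomial.X ^ 2)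
    (Polynomial.degree_X_pow_sub_C (by norm_num) _) (Polynomial.degree_C_mul_X_pow 2 (neg_ne_zero.2 hd'))
    (FiniteField.odd_card_of_char_ne_two h2)
  obtain ⟨X, rfl⟩ := Ideal.Quotient.mk_surjective a
  obtain ⟨Y, rfl⟩ := Ideal.Quotient.mk_surjective b
  refine ⟨X, Y, mk_eq_mk.1 ?_⟩
  simp only [Polynomial.eval_add, Polynomial.eval_sub, Polynomial.eval_mul, Polynomial.eval_pow, Polynomial.eval_C,
    Polynomial.eval_X, Polynomial.eval_neg] at hab
  rw [map_sub, map_mul, map_mul, map_mul]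
  linear_combination hab

/-- The norm equation on an idempotent where the skew element is invertible. -/
theorem exists_norm_all (c : R0 M r) {g : R0 M r} (hgg : g * g = g) (hg : ∀ x, g * x ≠ 0 → g * x * disc ≠ 0) :
    ∃ X Y : R0 M r, g * (X * X - disc * (Y * Y)) = g * c := by
  classical
  haveI : Finite (R0 M r) := inferInstance
  induction hn : Nat.card {x : R0 M r // g * x = x} using Nat.strong_induction_on generalizing g with
  | _ n ih =>
    by_cases hg0 : g = 0
    · exact ⟨0, 0, by rw [hg0]; simp⟩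
    obtain ⟨e, hee, he, heg, hmin⟩ := D.exists_min hgg hg0
    have hed : e * disc ≠ 0 := by
      have := hg e (by rwa [mul_comm, heg])
      rwa [mul_comm g e, heg] at this
    obtain ⟨X₁, Y₁, h1⟩ := D.exists_norm he hmin hed c
    have hg'g : (g - e) * g = g - e := by linear_combination hgg - heg
    have hg'' : (g - e) * (g - e) = g - e := by linear_combination hgg - 2 * heg + hee
    have hlt : Nat.card {x : R0 M r // (g - e) * x = x} < n := by
      rw [← hn]
      let φ : {x : R0 M r // (g - e) * x = x} → {x : R0 M r // g * x = x} :=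
        fun x => ⟨x, by
          conv_lhs => rw [← x.2, ← mul_assoc, mul_comm g, hg'g]
          exact x.2⟩
      have hinj : Function.Injective φ := fun a b h => Subtype.ext (congrArg Subtype.val h :)
      refine lt_of_le_of_ne (Nat.card_le_card_of_injective φ hinj) fun heq => he ?_
      obtain ⟨x, hx⟩ := (Function.Injective.bijective_of_nat_card_le hinj heq.ge).2 ⟨e, by rw [mul_comm, heg]⟩
      have h2 := x.2
      rw [show (x : R0 M r) = e from congrArg Subtype.val hx] at h2
      linear_combination heg - h2 - hee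
    obtain ⟨X₂, Y₂, h2⟩ := ih _ hlt (g := g - e) hg'' (fun x hx => by
      have := hg ((g - e) * x) (by rwa [← mul_assoc, mul_comm g, hg'g])
      rwa [← mul_assoc, mul_comm g, hg'g] at this) rfl
    refine ⟨e * X₁ + (g - e) * X₂, e * Y₁ + (g - e) * Y₂, ?_⟩
    have hperp : e * (g - e) = 0 := by linear_combination heg - hee
    linear_combination h1 + h2 + (2 * g * (X₁ * X₂ - disc * (Y₁ * Y₂))) * hperp
      + (g * (X₁ * X₁ - disc * (Y₁ * Y₁))) * hee + (g * (X₂ * X₂ - disc * (Y₂ * Y₂))) * hg''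
      + (X₁ * X₁ - disc * (Y₁ * Y₁)) * heg + (X₂ * X₂ - disc * (Y₂ * Y₂)) * hg'g

theorem skew_ker {x : ι → F} (h : (skew M r * skew M r) *ᵥ x = 0) : M *ᵥ x = x := by
  have hplus : ∀ z : ι → F, M *ᵥ z = -z → z = 0 := fun z hz => by
    have h1 : ∀ j : ℕ, M ^ j *ᵥ z = (-1 : F) ^ j • z := fun j => by
      induction j with
      | zero => simp
      | succ j ih => rw [pow_succ, ← mulVec_mulVec, hz, mulVec_neg, ih, pow_succ, mul_smul, neg_one_smul, smul_neg]
    have h2 := h1 r
    rw [D.pow, one_mulVec, D.odd.neg_one_pow, neg_one_smul] at h2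
    exact (smul_eq_zero.1 (show (2 : F) • z = 0 by linear_combination (norm := module) h2)).resolve_left D.two
  have e1 : (M * M) * (skew M r * skew M r) = (M + 1) * ((M + 1) * ((M - 1) * (M - 1))) := by
    have h3 : M * skew M r = M * M - 1 := by rw [skew, mul_sub, D.mul_inv']
    rw [show M * M * (skew M r * skew M r) = (M * skew M r) * (M * skew M r) by
      rw [D.commute_skew.mul_mul_mul_comm M _], h3]
    noncomm_ring
  have key : ∀ z : ι → F, (M + 1) *ᵥ z = 0 → z = 0 := fun z hz => hplus z (by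
    rw [add_mulVec, one_mulVec] at hz; exact eq_neg_of_add_eq_zero_left hz)
  have h4 : (M - 1) *ᵥ ((M - 1) *ᵥ x) = 0 := key _ (key _ (by
    rw [mulVec_mulVec, mulVec_mulVec, mulVec_mulVec, mul_assoc, mul_assoc, ← e1, ← mulVec_mulVec, h, mulVec_zero]))
  set w := (M - 1) *ᵥ x with hw
  rw [sub_mulVec, one_mulVec, sub_eq_zero] at h4
  have h5 : ∀ j : ℕ, M ^ j *ᵥ x = x + (j : F) • w := fun j => by
    induction j with
    | zero => simp
    | succ j ih =>
      rw [pow_succ', ← mulVec_mulVec, ih, mulVec_add, mulVec_smul, h4, Nat.cast_succ, add_smul, one_smul, hw,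
        sub_mulVec, one_mulVec]
      abel
  have h6 := h5 r
  rw [D.pow, one_mulVec, left_eq_add] at h6
  have h7 := (smul_eq_zero.1 h6).resolve_left D.cast
  rwa [hw, sub_mulVec, one_mulVec, sub_eq_zero] at h7

/-- The projection onto the moved space. -/
theorem exists_moved : ∃ f : R0 M r, f * f = f ∧ (∀ x, f * x ≠ 0 → f * x * disc ≠ 0) ∧
    (∀ x : ι → F, (f : Mn) *ᵥ x = 0 ↔ M *ᵥ x = x) := by
  obtain ⟨q, hq, hx⟩ := D.exists_frobenius_order
  obtain ⟨j, rfl⟩ : ∃ j, q = j + 3 := ⟨q - 3, by omega⟩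
  set d : R0 M r := disc
  have hfd : d ^ (j + 2) * d = d := hx d
  refine ⟨d ^ (j + 2), ?_, fun y hy h0 => hy ?_, fun x => ⟨fun h => D.skew_ker ?_, fun h => ?_⟩⟩
  · rw [← pow_add, show j + 2 + (j + 2) = j + 2 + 1 + (j + 1) by omega, pow_add, pow_succ d (j + 2), hfd, ← pow_succ']
  · have e : d ^ (j + 2) * y = d ^ (j + 1) * (d ^ (j + 2) * y * d) := by
      rw [show d ^ (j + 2) * y * d = y * (d ^ (j + 2) * d) by ring, hfd]
      ring
    rw [e, h0, mul_zero]
  · rw [D.skew_sq, ← show ((d ^ (j + 2) * d : R0 M r) : Mn) = (d : Mn) from congrArg Subtype.val hfd,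
      mul_comm (d ^ (j + 2)) d, MulMemClass.coe_mul, ← mulVec_mulVec, h, mulVec_zero]
  · have hJ : skew M r *ᵥ x = 0 := by
      have h1 : inv' M r *ᵥ x = x := by
        conv_lhs => rw [← h, mulVec_mulVec, D.inv'_mul, one_mulVec]
      rw [skew, sub_mulVec, h, h1, sub_self]
    rw [pow_succ, MulMemClass.coe_mul, ← D.skew_sq, ← mulVec_mulVec, ← mulVec_mulVec, hJ, mulVec_zero,
      mulVec_zero]

theorem adj_pair (X Y : R0 M r) :
    Adj ((X : Mn) + (Y : Mn) * skew M r) ((X : Mn) - (Y : Mn) * skew M r) Q := by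
  have h := (D.adj_mem X.2).1.add ((D.adj_mem Y.2).1.mul D.adj_skew)
  rwa [smul_mul_assoc, ← (D.commute_mem_skew Y.2).eq, neg_one_smul, ← sub_eq_add_neg] at h

theorem commute_pair (X Y : R0 M r) : Commute ((X : Mn) + (Y : Mn) * skew M r) M :=
  (D.adj_mem X.2).2.add_left ((D.adj_mem Y.2).2.mul_left D.commute_skew)

theorem pair_mul (X Y X' Y' : R0 M r) :
    ((X : Mn) + (Y : Mn) * skew M r) * ((X' : Mn) + (Y' : Mn) * skew M r) =
      ((X * X' + Y * Y' * disc : R0 M r) : Mn) + ((X * Y' + Y * X' : R0 M r) : Mn) * skew M r := by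
  have c := (D.commute_mem_skew X'.2).eq
  have c' := (D.commute_mem_skew Y'.2).eq
  simp only [Subalgebra.coe_add, Subalgebra.coe_mul, ← D.skew_sq, add_mul, mul_add, mul_assoc, ← c]
  rw [← mul_assoc (skew M r), ← c', mul_assoc]
  abel

theorem norm_pair (X Y : R0 M r) :
    ((X : Mn) - (Y : Mn) * skew M r) * ((X : Mn) + (Y : Mn) * skew M r) =
      ((X * X - disc * (Y * Y) : R0 M r) : Mn) := by
  have := D.pair_mul X (-Y) X Y
  rw [show X * Y + -Y * X = (0 : R0 M r) by ring, show X * X + -Y * Y * disc = X * X - disc * (Y * Y) by ring] at this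
  simpa [sub_eq_add_neg] using this

end Data

/-- An element `X + Y J` of the centraliser algebra. -/
def pr {M : Matrix ι ι F} {r : ℕ} (X Y : R0 M r) : Matrix ι ι F :=
  (X : Matrix ι ι F) + (Y : Matrix ι ι F) * skew M r

namespace Data

variable {M : Matrix ι ι F} {r : ℕ} (D : Data Q M r)
include D

theorem pr_mul (X Y X' Y' : R0 M r) : pr X Y * pr X' Y' = pr (X * X' + Y * Y' * disc) (X * Y' + Y * X') :=
  D.pair_mul X Y X' Y'

theorem adj_pr (X Y : R0 M r) : Adj (pr X Y) (pr X (-Y)) Q := by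
  simpa [pr, sub_eq_add_neg] using D.adj_pair X Y

omit D in
theorem pr_coe (X : R0 M r) : pr X 0 = (X : Matrix ι ι F) := by simp [pr]

theorem pr_M : ∃ a b : R0 M r, pr a b = M := by
  refine ⟨algebraMap F (R0 M r) 2⁻¹ * A, algebraMap F (R0 M r) 2⁻¹, ?_⟩
  show algebraMap F Mn 2⁻¹ * symPart M r + algebraMap F Mn 2⁻¹ * skew M r = M
  rw [← mul_add, symPart, skew, add_add_sub_cancel, Algebra.algebraMap_eq_smul_one, smul_one_mul, ← two_smul F M,
    smul_smul, inv_mul_cancel₀ D.two, one_smul]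

theorem pr_inv : ∃ a b : R0 M r, pr a b = inv' M r := by
  refine ⟨algebraMap F (R0 M r) 2⁻¹ * A, -algebraMap F (R0 M r) 2⁻¹, ?_⟩
  show algebraMap F Mn 2⁻¹ * symPart M r + -algebraMap F Mn 2⁻¹ * skew M r = _
  rw [neg_mul, ← sub_eq_add_neg, ← mul_sub, symPart, skew, add_sub_sub_cancel, Algebra.algebraMap_eq_smul_one,
    smul_one_mul, ← two_smul F (inv' M r), smul_smul, inv_mul_cancel₀ D.two, one_smul]

theorem skew_zero (z : R0 M r) (v : ι → F) : B (pr 0 z *ᵥ v) v = 0 := by
  have h := D.adj_pr 0 z v v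
  rw [QuadraticMap.polar_comm _ v] at h
  have h1 : pr (0 : R0 M r) (-z) *ᵥ v = -(pr 0 z *ᵥ v) := by
    simp [pr, neg_mulVec]
  rw [h1, QuadraticMap.polar_neg_left] at h
  exact (mul_eq_zero.1 (show (2 : F) * B (pr 0 z *ᵥ v) v = 0 by linear_combination h)).resolve_left D.two

theorem polar_pr (X Y X' Y' : R0 M r) (v : ι → F) :
    B (pr X Y *ᵥ v) (pr X' Y' *ᵥ v) = B (((X * X' - Y * Y' * disc : R0 M r) : Mn) *ᵥ v) v := by
  rw [QuadraticMap.polar_comm, QuadraticMap.polar_comm, QuadraticMap.polar_comm, D.adj_pr,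
    QuadraticMap.polar_comm, mulVec_mulVec, D.pr_mul]
  have e : pr (X' * X + -Y' * Y * disc) (X' * Y + -Y' * X) =
      ((X * X' - Y * Y' * disc : R0 M r) : Mn) + pr 0 (X' * Y + -Y' * X) := by
    rw [show X' * X + -Y' * Y * disc = X * X' - Y * Y' * disc by ring]
    simp [pr]
  rw [e, add_mulVec, QuadraticMap.polar_add_left, D.skew_zero, add_zero]

/-- In a fixed-point-free situation the centraliser contains a special element of spinor norm `-1`. -/
theorem exists_spin_neg_free [Nonempty ι] (hf : ∀ x : R0 M r, x ≠ 0 → x * disc ≠ 0) :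
    ∃ u : OG, (ogVal u).det = 1 ∧ spin u = -1 ∧ Commute (ogVal u) M := by
  classical
  obtain ⟨e, hee, he, -, hmin⟩ := D.exists_min (one_mul (1 : R0 M r)) (one_ne_zero)
  obtain ⟨v, hv⟩ : ∃ v, B ((e : Mn) *ᵥ v) v ≠ 0 := by
    by_contra! h
    refine he (Subtype.ext (ext_iff_mulVec.2 fun x => ?_))
    rw [ZeroMemClass.coe_zero, zero_mulVec]
    refine eq_zero_of_polar D.nd fun y => ?_
    have h1 := h (x + y)
    rw [mulVec_add, QuadraticMap.polar_add_left, QuadraticMap.polar_add_right, QuadraticMap.polar_add_right, h, h,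
      (D.adj_mem e.2).1 y x, QuadraticMap.polar_comm _ y] at h1
    exact (mul_eq_zero.1 (show (2 : F) * B ((e : Mn) *ᵥ x) y = 0 by linear_combination h1)).resolve_left D.two
  obtain ⟨w, hw⟩ : ∃ w, w = (e : Mn) *ᵥ v := ⟨_, rfl⟩
  rw [← hw] at hv
  have hw0 : B w w ≠ 0 := by
    have := (D.adj_mem e.2).1 w v
    rw [← hw, hw, mulVec_mulVec, ← Subalgebra.coe_mul, hee, ← hw] at this
    rwa [← this]
  have hwe : ∀ x : R0 M r, ((e * x : R0 M r) : Mn) *ᵥ w = (x : Mn) *ᵥ w := fun x => by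
    rw [hw, mulVec_mulVec, mulVec_mulVec, ← Subalgebra.coe_mul, ← Subalgebra.coe_mul,
      show e * x * e = x * (e * e) by ring, hee]
  haveI := ann_max he hmin
  letI : Field (R0 M r ⧸ ann e) := Ideal.Quotient.field _
  haveI : Finite (R0 M r) := inferInstance
  set π := Ideal.Quotient.mk (ann e) with hπ
  have hcong : ∀ {x y : R0 M r}, π x = π y → (x : Mn) *ᵥ w = (y : Mn) *ᵥ w := fun {x y} h => by
    rw [← hwe x, mk_eq_mk.1 h, hwe]
  have hlift : ∀ k, π (Function.surjInv Ideal.Quotient.mk_surjective k) = k := Function.surjInv_eq _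
  let val : (R0 M r ⧸ ann e) →ₗ[F] ι → F :=
    { toFun := fun k => ((Function.surjInv Ideal.Quotient.mk_surjective k : R0 M r) : Mn) *ᵥ w
      map_add' := fun k l => by
        rw [← add_mulVec, ← Subalgebra.coe_add]
        exact hcong (by rw [hlift, map_add, hlift, hlift])
      map_smul' := fun c k => by
        rw [RingHom.id_apply, ← smul_mulVec, ← Subalgebra.coe_smul]
        exact hcong (by rw [hlift, Algebra.smul_def, Algebra.smul_def, map_mul, hlift]; rfl) }
  have hval : ∀ x, val (π x) = (x : Mn) *ᵥ w := fun x => hcong (hlift _)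
  haveI : Module.Free F (R0 M r ⧸ ann e) := Module.Free.of_divisionRing F _
  haveI : Module.Finite F (R0 M r ⧸ ann e) := Module.Finite.of_finite
  let φ : (R0 M r ⧸ ann e) →ₗ[F] F := ((QuadraticMap.polarBilin Q).flip w).comp val
  have hφ : ∀ x, φ (π x) = B ((x : Mn) *ᵥ w) w := fun x => by rw [← hval]; rfl
  have hφ1 : φ 1 ≠ 0 := by rwa [← map_one π, hφ, Subalgebra.coe_one, one_mulVec]
  let β : LinearMap.BilinForm F (R0 M r ⧸ ann e) := (LinearMap.mul F (R0 M r ⧸ ann e)).compr₂ φ
  have hβi : Function.Injective β := (injective_iff_map_eq_zero β).2 fun k hk => by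
    by_contra hk0
    refine hφ1 ?_
    have := LinearMap.congr_fun hk k⁻¹
    rwa [show β k k⁻¹ = φ (k * k⁻¹) from rfl, mul_inv_cancel₀ hk0] at this
  have hdual : ∀ ℓ : (R0 M r ⧸ ann e) →ₗ[F] F, ∃ k, β k = ℓ :=
    (LinearMap.injective_iff_surjective_of_finrank_eq_finrank Subspace.dual_finrank_eq.symm).1 hβi
  obtain ⟨ε, hε⟩ := FiniteField.exists_nonsquare (F := F) fun hc =>
    D.two (by haveI := ringChar.of_eq hc; exact CharTwo.two_eq_zero)
  have hε0 : ε ≠ 0 := fun h0 => hε (h0 ▸ IsSquare.zero)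
  obtain ⟨g, hg⟩ := FiniteField.norm_surjective (K := F) (K' := R0 M r ⧸ ann e) ε
  obtain ⟨g₀, rfl⟩ := Ideal.Quotient.mk_surjective g
  have hg0 : e * g₀ ≠ 0 := fun h0 => hε0 (by
    rw [← hg, show π g₀ = π 0 from mk_eq_mk.2 (by rw [h0, mul_zero]), map_zero, Algebra.norm_zero])
  have hed : e * disc ≠ 0 := hf e he
  obtain ⟨X, Y, hXY⟩ := D.exists_norm he hmin hed g₀
  obtain ⟨z₀, hz₀⟩ := hmin g₀ hg0
  set L := pr X Y
  have hN : ∀ a a' b b' : R0 M r, B (pr a b *ᵥ w) (pr a' b' *ᵥ w) = φ (π (a * a' - b * b' * disc)) :=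
    fun a a' b b' => by rw [D.polar_pr, hφ]
  let bb := Module.finBasis F (R0 M r ⧸ ann e)
  let a : Fin (Module.finrank F (R0 M r ⧸ ann e)) → R0 M r :=
    fun i => Function.surjInv Ideal.Quotient.mk_surjective (bb i)
  have hab : ∀ i, π (a i) = bb i := fun i => hlift _
  set G : Matrix _ _ F := LinearMap.BilinForm.toMatrix bb β with hGdef
  have hGdet : G.det ≠ 0 := (LinearMap.BilinForm.nondegenerate_iff_det_ne_zero bb).1
    ⟨fun k hk => (injective_iff_map_eq_zero β).1 hβi k (LinearMap.ext hk), fun k hk =>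
      (injective_iff_map_eq_zero β).1 hβi k (LinearMap.ext fun l => (congrArg φ (mul_comm k l)).trans (hk l))⟩
  obtain ⟨τ, hτd, hτs, hτm, hτf⟩ := exists_involution D.nd D.two (fun i => pr (a i) 0 *ᵥ w) (G := G)
    (fun i j => by
      rw [hN, zero_mul, zero_mul, sub_zero, map_mul, hab, hab, hGdef, LinearMap.BilinForm.toMatrix_apply]
      rfl) hGdet
  set G' : Matrix _ _ F := (Algebra.leftMulMatrix bb (π g₀))ᵀ * G with hG'def
  have hG'det : G'.det = ε * G.det := by
    rw [hG'def, det_mul, det_transpose, ← Algebra.norm_eq_matrix_det, hg]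
  obtain ⟨τ', hτd', hτs', hτm', hτf'⟩ := exists_involution D.nd D.two (fun i => (L * pr (a i) 0) *ᵥ w) (G := G')
    (fun i j => by
      rw [D.pr_mul, D.pr_mul, hN]
      have e1 : π ((X * a i + Y * 0 * disc) * (X * a j + Y * 0 * disc) - (X * 0 + Y * a i) * (X * 0 + Y * a j) * disc) =
          π g₀ * bb i * bb j := by
        rw [← hab, ← hab, ← map_mul, ← map_mul]
        exact mk_eq_mk.2 (by linear_combination (a i * a j) * hXY)
      rw [e1, hG'def, mul_apply, ← bb.sum_repr (π g₀ * bb i)]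
      simp only [Finset.sum_mul, smul_mul_assoc, map_sum, map_smul, smul_eq_mul, transpose_apply,
        Algebra.leftMulMatrix_eq_repr_mul, hGdef, LinearMap.BilinForm.toMatrix_apply]
      rfl) (by rw [hG'det]; exact mul_ne_zero hε0 hGdet)
  refine ⟨τ' * τ, ?_, ?_, ?_⟩
  · rw [ogVal_mul, det_mul, hτd, hτd', ← mul_pow, neg_one_mul, neg_neg, one_pow]
  · rw [spin_mul D.nd, hτs, hτs', hG'det, mul_left_comm, sqSign_mul hε0 (mul_ne_zero (pow_ne_zero _ D.two) hGdet),
      mul_assoc, Int.units_mul_self, mul_one, sqSign_of_not hε]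
  -- the action of the two involutions
  have hlinear : ∀ N N' : Mn, (∀ i, N *ᵥ ((a i : Mn) *ᵥ w) = N' *ᵥ ((a i : Mn) *ᵥ w)) →
      ∀ k : R0 M r, N *ᵥ ((k : Mn) *ᵥ w) = N' *ᵥ ((k : Mn) *ᵥ w) := fun N N' h k => by
    have h1 : (mulVecLin N).comp val = (mulVecLin N').comp val := bb.ext fun i => by
      rw [LinearMap.comp_apply, LinearMap.comp_apply, mulVecLin_apply, mulVecLin_apply, ← hab, hval]
      exact h i
    simpa [hval] using LinearMap.congr_fun h1 (π k)
  have hτ : ∀ p q : R0 M r, ogVal τ *ᵥ (pr p q *ᵥ w) = pr (-p) q *ᵥ w := by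
    intro p q
    have h1 := hlinear (ogVal τ) (-1) (fun i => by
      rw [neg_mulVec, one_mulVec, ← pr_coe]; exact hτm i) p
    have h2 : ogVal τ *ᵥ (pr 0 q *ᵥ w) = pr 0 q *ᵥ w := hτf _ fun i => by
      rw [hN]; simp
    rw [neg_mulVec, one_mulVec, ← pr_coe] at h1
    have e1 : pr p q = pr p 0 + pr 0 q := by simp [pr]
    have e2 : pr (-p) q = -pr p 0 + pr 0 q := by simp [pr]
    rw [e1, e2, add_mulVec, mulVec_add, h1, h2, add_mulVec, neg_mulVec]
  have hτ' : ∀ p q : R0 M r, ogVal τ' *ᵥ ((L * pr p q) *ᵥ w) = (L * pr (-p) q) *ᵥ w := by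
    intro p q
    have h1 := hlinear (ogVal τ' * L) (-L) (fun i => by
      rw [← pr_coe, neg_mulVec, ← mulVec_mulVec, mulVec_mulVec w L]
      exact hτm' i) p
    have h2 : ogVal τ' *ᵥ ((L * pr 0 q) *ᵥ w) = (L * pr 0 q) *ᵥ w := hτf' _ fun i => by
      rw [D.pr_mul, D.pr_mul, hN]
      have : π ((X * a i + Y * 0 * disc) * (X * 0 + Y * q * disc) - (X * 0 + Y * a i) * (X * q + Y * 0) * disc) =
          π 0 := mk_eq_mk.2 (by ring)
      rw [this, map_zero, map_zero]
    rw [← pr_coe, neg_mulVec, ← mulVec_mulVec, mulVec_mulVec w L] at h1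
    have e1 : pr p q = pr p 0 + pr 0 q := by simp [pr]
    have e2 : pr (-p) q = -pr p 0 + pr 0 q := by simp [pr]
    rw [e1, e2, mul_add, mul_add, add_mulVec, mulVec_add, h1, h2, add_mulVec, mul_neg, neg_mulVec]
  set μ := pr z₀ 0 * (L * L) with hμ
  have hu : ∀ p q : R0 M r, ogVal (τ' * τ) *ᵥ (pr p q *ᵥ w) = (μ * pr p q) *ᵥ w := by
    intro p q
    have e1 : pr (-p) q *ᵥ w =
        (L * pr (z₀ * (-(X * p) - Y * q * disc)) (z₀ * (X * q + Y * p))) *ᵥ w := by
      rw [D.pr_mul]
      simp only [pr, add_mulVec]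
      congr 1
      · exact hcong (mk_eq_mk.2 (by linear_combination p * hz₀ + z₀ * p * hXY + p * (0 : R0 M r) * hee))
      · rw [(D.commute_mem_skew q.2).eq, (D.commute_mem_skew (Subtype.prop _)).eq, ← mulVec_mulVec, ← mulVec_mulVec]
        congr 1
        exact hcong (mk_eq_mk.2 (by linear_combination -q * hz₀ - z₀ * q * hXY))
    rw [ogVal_mul, ← mulVec_mulVec, hτ, e1, hτ', hμ, D.pr_mul, D.pr_mul, D.pr_mul, D.pr_mul]
    congr 2 <;> ring
  obtain ⟨p1, q1, hM⟩ := D.pr_M
  obtain ⟨p2, q2, hMi⟩ := D.pr_inv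
  refine ext_iff_mulVec.2 fun x => ?_
  -- split off the two pieces
  obtain ⟨k₁, hk₁⟩ := hdual ((QuadraticMap.polarBilin Q x).comp val)
  obtain ⟨A₁, rfl⟩ := Ideal.Quotient.mk_surjective k₁
  have hdk : π disc ≠ 0 := fun h0 => hed (by
    rw [← map_zero π] at h0
    rw [mk_eq_mk.1 h0, mul_zero])
  set x₁ := x - pr A₁ 0 *ᵥ w with hx₁
  obtain ⟨k₂, hk₂⟩ := hdual ((QuadraticMap.polarBilin Q x₁).comp ((mulVecLin (skew M r)).comp val))
  obtain ⟨A₂, hA₂⟩ := Ideal.Quotient.mk_surjective (-(k₂ * (π disc)⁻¹))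
  set x₀ := x₁ - pr 0 A₂ *ᵥ w with hx₀
  have hperp : ∀ p q : R0 M r, B (pr p q *ᵥ w) x₀ = 0 := by
    intro p q
    rw [QuadraticMap.polar_comm, show pr p q *ᵥ w = pr p 0 *ᵥ w + pr 0 q *ᵥ w by
      rw [← add_mulVec]; simp [pr], QuadraticMap.polar_add_right]
    have h1 : B x₀ (pr p 0 *ᵥ w) = 0 := by
      have : φ (π A₁ * π p) = B x (val (π p)) := LinearMap.congr_fun hk₁ (π p)
      rw [hval, ← map_mul] at this
      rw [hx₀, hx₁, QuadraticMap.polar_sub_left, QuadraticMap.polar_sub_left, hN, hN, pr_coe, ← this]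
      simp
    have h2 : B x₀ (pr 0 q *ᵥ w) = 0 := by
      have : φ (k₂ * π q) = B x₁ (skew M r *ᵥ val (π q)) := LinearMap.congr_fun hk₂ (π q)
      rw [hval] at this
      have e : pr (0 : R0 M r) q *ᵥ w = skew M r *ᵥ ((q : Mn) *ᵥ w) := by
        rw [mulVec_mulVec, ← (D.commute_mem_skew q.2).eq]; simp [pr]
      rw [hx₀, QuadraticMap.polar_sub_left, hN, e, ← this]
      simp only [zero_mul, zero_sub, map_neg, map_mul]
      rw [hA₂, show -(k₂ * (π disc)⁻¹) * π q * π disc = -(k₂ * π q) by field_simp, map_neg, neg_neg, sub_self]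
    rw [h1, h2, add_zero]
  have hfix : ∀ y : ι → F, (∀ p q : R0 M r, B (pr p q *ᵥ w) y = 0) → ogVal (τ' * τ) *ᵥ y = y := fun y hy => by
    rw [ogVal_mul, ← mulVec_mulVec, hτf _ (fun i => hy _ _), hτf' _ fun i => by rw [D.pr_mul]; exact hy _ _]
  have hMperp : ∀ p q : R0 M r, B (pr p q *ᵥ w) (M *ᵥ x₀) = 0 := fun p q => by
    rw [QuadraticMap.polar_comm, D.adj_M, mulVec_mulVec, ← hMi, D.pr_mul, QuadraticMap.polar_comm]
    exact hperp _ _
  have hx : x = pr A₁ A₂ *ᵥ w + x₀ := by
    rw [hx₀, hx₁, show pr A₁ A₂ = pr A₁ 0 + pr 0 A₂ by simp [pr], add_mulVec]; abel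
  have hμM : M * μ = μ * M := by
    rw [← hM, hμ, D.pr_mul, D.pr_mul, D.pr_mul, D.pr_mul]; congr 1 <;> ring
  rw [hx, ← mulVec_mulVec, ← mulVec_mulVec, mulVec_add, mulVec_add, mulVec_add, hfix _ hperp, hfix _ hMperp, hu,
    mulVec_add, mulVec_mulVec w M, mulVec_mulVec w M]
  nth_rewrite 1 [← hM]
  rw [D.pr_mul, hu, ← Matrix.mul_assoc, hμM, Matrix.mul_assoc, ← D.pr_mul, hM]
  simp only [hμ, Matrix.mul_assoc]

end Data

omit [DecidableEq ι] [Fintype F] in
theorem quad_sum {κ : Type*} (z : κ → ι → F) (ho : ∀ i j, i ≠ j → B (z i) (z j) = 0) (c : κ → F) (s : Finset κ) :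
    Q (∑ i ∈ s, c i • z i) = ∑ i ∈ s, c i * c i * Q (z i) := by
  classical
  induction s using Finset.induction with
  | empty => simp
  | insert a s ha ih =>
    have h0 : QuadraticMap.polarBilin Q (c a • z a) (∑ i ∈ s, c i • z i) = 0 := by
      rw [map_sum]
      refine Finset.sum_eq_zero fun i hi => ?_
      rw [map_smul, map_smul, LinearMap.smul_apply, QuadraticMap.polarBilin_apply_apply,
        ho a i (by rintro rfl; exact ha hi), smul_zero, smul_zero]
    rw [Finset.sum_insert ha, QuadraticMap.map_add ⇑Q, show B (c a • z a) _ = 0 from h0, add_zero,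
      QuadraticMap.map_smul, ih, Finset.sum_insert ha, smul_eq_mul]

omit [DecidableEq ι] in
/-- A binary diagonal form takes every value. -/
theorem exists_binary (h2 : (2 : F) ≠ 0) {a b : F} (ha : a ≠ 0) (hb : b ≠ 0) (t : F) :
    ∃ x y : F, x * x * a + y * y * b = t := by
  obtain ⟨x, y, h⟩ := FiniteField.exists_root_sum_quadratic (R := F)
    (f := Polynomial.X ^ 2 - Polynomial.C (t / a)) (g := Polynomial.C (b / a) * Polynomial.X ^ 2)
    (Polynomial.degree_X_pow_sub_C (by norm_num) _) (Polynomial.degree_C_mul_X_pow 2 (div_ne_zero hb ha))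
    (FiniteField.odd_card_of_char_ne_two fun hc => h2 (by haveI := ringChar.of_eq hc; exact CharTwo.two_eq_zero))
  refine ⟨x, y, ?_⟩
  simp only [Polynomial.eval_add, Polynomial.eval_sub, Polynomial.eval_mul, Polynomial.eval_pow, Polynomial.eval_C,
    Polynomial.eval_X] at h
  field_simp at h
  linear_combination h

namespace Data

variable {M : Matrix ι ι F} {r : ℕ} (D : Data Q M r) {n : ℕ} (hn : Fintype.card ι = 2 * n)
include D hn

/-- An orthogonal basis of the fixed space, in pairs. -/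
theorem exists_fixed {f : R0 M r} (hff : f * f = f) (hf : ∀ x : ι → F, (f : Mn) *ᵥ x = 0 ↔ M *ᵥ x = x) :
    ∃ (j : ℕ) (v : Fin j ⊕ Fin j → ι → F), (∀ a b, a ≠ b → B (v a) (v b) = 0) ∧ (∀ a, Q (v a) ≠ 0) ∧
      (∀ a, M *ᵥ v a = v a) ∧
      ∀ x, x - (f : Mn) *ᵥ x = ∑ a, (B (v a) x / (2 * Q (v a))) • v a := by
  classical
  haveI : Invertible (2 : F) := invertibleOfNonzero D.two
  set P := mulVecLin (f : Mn)
  set W := LinearMap.ker P
  have hPP : ∀ x, (f : Mn) *ᵥ ((f : Mn) *ᵥ x) = (f : Mn) *ᵥ x := fun x => by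
    rw [mulVec_mulVec, ← Subalgebra.coe_mul, hff]
  have hadj := (D.adj_mem f.2).1
  have hW : ∀ x, x ∈ W → (f : Mn) *ᵥ x = 0 := fun x hx => hx
  have hWmem : ∀ y, y - (f : Mn) *ᵥ y ∈ W := fun y => by
    show (f : Mn) *ᵥ (y - (f : Mn) *ᵥ y) = 0
    rw [mulVec_sub, hPP, sub_self]
  set β : LinearMap.BilinForm F W := LinearMap.BilinForm.comp (QuadraticMap.polarBilin Q) W.subtype W.subtype
  obtain ⟨b, hb⟩ := LinearMap.BilinForm.exists_orthogonal_basis
    (show LinearMap.IsSymm β from ⟨fun x y => QuadraticMap.polar_comm _ (x : ι → F) y⟩)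
  have hbo : ∀ a c, a ≠ c → B (b a : ι → F) (b c) = 0 := fun a c h => hb h
  have hbQ : ∀ a, Q (b a : ι → F) ≠ 0 := by
    intro a h0
    refine b.ne_zero a (Subtype.ext (eq_zero_of_polar D.nd fun z => ?_))
    have h1 : β (b a) = 0 := b.ext fun c => by
      rcases eq_or_ne a c with rfl | hac
      · exact polar_self' h0
      · exact hb hac
    have h2 : B (b a : ι → F) (z - (f : Mn) *ᵥ z) = 0 := LinearMap.congr_fun h1 ⟨_, hWmem z⟩
    rwa [QuadraticMap.polar_sub_right, ← hadj, hW _ (b a).2, QuadraticMap.polar_zero_left, sub_zero] at h2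
  have heven : Even (Module.finrank F W) := by
    have hr : Module.finrank F (LinearMap.range P) + Module.finrank F W = 2 * n := by
      rw [← hn, ← Module.finrank_fintype_fun_eq_card F]; exact LinearMap.finrank_range_add_finrank_ker P
    suffices h : Even (Module.finrank F (LinearMap.range P)) by
      rw [Nat.even_iff] at h ⊢; omega
    set U := LinearMap.range P
    let bu := Module.finBasis F U
    set A : Matrix _ _ F := Matrix.of fun i k => B (skew M r *ᵥ (bu i : ι → F)) (bu k) with hA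
    have hAt : Aᵀ = -A := by
      ext i k
      show B (skew M r *ᵥ (bu k : ι → F)) (bu i) = -B (skew M r *ᵥ (bu i : ι → F)) (bu k)
      rw [D.adj_skew, neg_one_smul, neg_mulVec, QuadraticMap.polar_neg_right, QuadraticMap.polar_comm]
    let γ : LinearMap.BilinForm F U :=
      LinearMap.BilinForm.comp (QuadraticMap.polarBilin Q) ((mulVecLin (skew M r)).comp U.subtype) U.subtype
    have hsym : ∀ x y : U, γ x y = -γ y x := fun x y => by
      show B (skew M r *ᵥ (x : ι → F)) y = -B (skew M r *ᵥ (y : ι → F)) x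
      rw [D.adj_skew, neg_one_smul, neg_mulVec, QuadraticMap.polar_neg_right, QuadraticMap.polar_comm]
    have hsep : ∀ x : U, (∀ y : U, γ x y = 0) → x = 0 := by
      rintro ⟨x, hx⟩ h
      obtain ⟨x', rfl⟩ := hx
      have h1 : skew M r *ᵥ ((f : Mn) *ᵥ x') = 0 := eq_zero_of_polar D.nd fun z => by
        have h2 : B (skew M r *ᵥ ((f : Mn) *ᵥ x')) ((f : Mn) *ᵥ z) = 0 := h ⟨_, z, rfl⟩
        rw [← hadj, mulVec_mulVec x' (skew M r), mulVec_mulVec, ← Matrix.mul_assoc, (D.commute_mem_skew f.2).eq,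
          Matrix.mul_assoc, ← Subalgebra.coe_mul, hff, ← mulVec_mulVec] at h2
        exact h2
      have h3 := (hf _).2 (D.skew_ker (x := (f : Mn) *ᵥ x') (by rw [← mulVec_mulVec, h1, mulVec_zero]))
      rw [hPP] at h3
      exact Subtype.ext h3
    have hAdet : A.det ≠ 0 := by
      have e : A = LinearMap.BilinForm.toMatrix bu γ := by
        ext i k; rw [LinearMap.BilinForm.toMatrix_apply]; rfl
      rw [e]
      exact (LinearMap.BilinForm.nondegenerate_iff_det_ne_zero bu).1 ⟨hsep, fun y hy => hsep y fun x => by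
        rw [hsym, hy, neg_zero]⟩
    have h4 := congrArg Matrix.det hAt
    rw [det_transpose, det_neg, Fintype.card_fin] at h4
    by_contra hno
    rw [(Nat.not_even_iff_odd.1 hno).neg_one_pow] at h4
    exact (mul_ne_zero D.two hAdet) (by linear_combination h4)
  obtain ⟨j, hj⟩ := heven
  let σ : Fin j ⊕ Fin j ≃ Fin (Module.finrank F W) := finSumFinEquiv.trans (finCongr hj.symm)
  refine ⟨j, fun a => (b (σ a) : ι → F), fun a c h => hbo _ _ (σ.injective.ne h), fun a => hbQ _,
    fun a => (hf _).1 (hW _ (b (σ a)).2), fun x => ?_⟩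
  have h1 := congrArg Subtype.val (b.sum_repr ⟨_, hWmem x⟩)
  rw [AddSubmonoidClass.coe_finsetSum] at h1
  simp only [SetLike.val_smul] at h1
  rw [← σ.sum_comp] at h1
  conv_lhs => rw [← h1]
  refine Finset.sum_congr rfl fun a _ => ?_
  congr 1
  have h2 : B (b (σ a) : ι → F) (x - (f : Mn) *ᵥ x) = B (b (σ a) : ι → F) x := by
    rw [QuadraticMap.polar_sub_right, ← hadj, hW _ (b (σ a)).2, QuadraticMap.polar_zero_left, sub_zero]
  rw [← h2]
  conv_rhs => rw [← h1]
  show _ = QuadraticMap.polarBilin Q (b (σ a) : ι → F) _ / _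
  rw [map_sum, Finset.sum_eq_single a]
  · rw [map_smul, QuadraticMap.polarBilin_apply_apply, polar_self2, smul_eq_mul,
      mul_div_cancel_right₀ _ (mul_ne_zero D.two (hbQ _))]
  · intro c _ hc
    rw [map_smul, QuadraticMap.polarBilin_apply_apply, hbo _ _ (σ.injective.ne hc.symm), smul_zero]
  · simp

/-- The centraliser of a semisimple isometry of odd prime order has a special element of spinor norm `-1`. -/
theorem exists_spin_neg [Nonempty ι] : ∃ u : OG, (ogVal u).det = 1 ∧ spin u = -1 ∧ Commute (ogVal u) M := by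
  classical
  obtain ⟨f, hff, hfd, hf⟩ := D.exists_moved
  obtain ⟨j, v, ho, hv, hMv, hx⟩ := D.exists_fixed hn hff hf
  rcases j.eq_zero_or_pos with rfl | hj
  · have hf1 : f = 1 := Subtype.ext (ext_iff_mulVec.2 fun x => by
      have h := hx x
      rw [Finset.univ_eq_empty, Finset.sum_empty, sub_eq_zero] at h
      rw [Subalgebra.coe_one, one_mulVec, ← h])
    exact D.exists_spin_neg_free fun x hx => by simpa [hf1] using hfd x (by simpa [hf1] using hx)
  set a := v (Sum.inl ⟨0, hj⟩)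
  set b := v (Sum.inr ⟨0, hj⟩)
  obtain ⟨ε, hε⟩ := FiniteField.exists_nonsquare (F := F) fun hc =>
    D.two (by haveI := ringChar.of_eq hc; exact CharTwo.two_eq_zero)
  have hε0 : ε ≠ 0 := fun h0 => hε (h0 ▸ IsSquare.zero)
  obtain ⟨α, β, hαβ⟩ := exists_binary D.two (hv (Sum.inl ⟨0, hj⟩)) (hv (Sum.inr ⟨0, hj⟩)) (ε * Q a)
  set w := α • a + β • b with hw
  have hwQ : Q w = ε * Q a := by
    rw [hw, QuadraticMap.map_add ⇑Q, QuadraticMap.polar_smul_left, QuadraticMap.polar_smul_right,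
      ho _ _ Sum.inl_ne_inr, smul_zero, smul_zero, add_zero, QuadraticMap.map_smul, QuadraticMap.map_smul,
      smul_eq_mul, smul_eq_mul, hαβ]
  have hw0 : Q w ≠ 0 := hwQ ▸ mul_ne_zero hε0 (hv _)
  have hcomm : ∀ {z : ι → F} (hz : Q z ≠ 0), M *ᵥ z = z → Commute (ogVal (refl hz)) M := fun {z} hz hMz =>
    ext_iff_mulVec.2 fun x => by
      have e : B z (M *ᵥ x) = B z x := by
        conv_lhs => rw [← hMz]
        exact isometry_polar D.iso z x
      rw [← mulVec_mulVec, ← mulVec_mulVec, refl_apply, refl_apply, mulVec_sub, mulVec_smul, hMz, e]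
  refine ⟨refl hw0 * refl (hv (Sum.inl ⟨0, hj⟩)), by rw [ogVal_mul, det_mul, refl_det, refl_det]; norm_num, ?_, ?_⟩
  · rw [spin_mul D.nd, spin_refl D.nd, spin_refl D.nd, hwQ, sqSign_mul hε0 (hv _), mul_assoc, Int.units_mul_self,
      mul_one, sqSign_of_not hε]
  · rw [ogVal_mul]
    exact (hcomm hw0 (by rw [hw, mulVec_add, mulVec_smul, mulVec_smul, hMv, hMv])).mul_left (hcomm _ (hMv _))

/-- Similitudes commuting with a semisimple isometry of odd prime order have every multiplier. -/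
theorem exists_sim (c : Fˣ) : ∃ S : Mn, Commute S M ∧ (∀ x, Q (S *ᵥ x) = (c : F) * Q x) ∧
    (S.det = (c : F) ^ n ∨ ∃ v, Q v ≠ 0 ∧ M *ᵥ v = v) := by
  classical
  obtain ⟨f, hff, hfd, hf⟩ := D.exists_moved
  obtain ⟨j, v, ho, hv, hMv, hx⟩ := D.exists_fixed hn hff hf
  obtain ⟨X, Y, hXY⟩ := D.exists_norm_all (algebraMap F (R0 M r) c) hff hfd
  choose α β hαβ using fun i : Fin j => exists_binary D.two (hv (Sum.inl i)) (hv (Sum.inr i))
    ((c : F) * Q (v (Sum.inl i)))
  let z : Fin j ⊕ Fin j → ι → F := Sum.elim (fun i => α i • v (Sum.inl i) + β i • v (Sum.inr i))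
    fun i => (-(Q (v (Sum.inr i)) / Q (v (Sum.inl i))) * β i) • v (Sum.inl i) + α i • v (Sum.inr i)
  have hzQ : ∀ a, Q (z a) = (c : F) * Q (v a) := by
    rintro (i | i) <;>
      simp only [z, Sum.elim_inl, Sum.elim_inr, QuadraticMap.map_add ⇑Q, QuadraticMap.polar_smul_left,
        QuadraticMap.polar_smul_right, QuadraticMap.map_smul, ho (Sum.inl i) (Sum.inr i) Sum.inl_ne_inr,
        smul_eq_mul, mul_zero, add_zero]
    · exact hαβ i
    · have h0 := hv (Sum.inl i)
      field_simp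
      linear_combination Q (v (Sum.inr i)) * hαβ i
  have hzo : ∀ a b, a ≠ b → B (z a) (z b) = 0 := by
    rintro (i | i) (k | k) hne <;>
      simp only [z, Sum.elim_inl, Sum.elim_inr, QuadraticMap.polar_add_left, QuadraticMap.polar_add_right,
        QuadraticMap.polar_smul_left, QuadraticMap.polar_smul_right, smul_eq_mul] <;>
      rcases eq_or_ne i k with hik | hik
    all_goals first
      | exact hne.elim (congrArg _ hik)
      | (subst hik
         rw [ho _ _ Sum.inl_ne_inr, ho _ _ Sum.inr_ne_inl, polar_self2, polar_self2]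
         have h0 := hv (Sum.inl i)
         field_simp
         ring)
      | (rw [ho _ _ (by simp [hik]), ho _ _ (by simp [hik]), ho _ _ (by simp [hik]), ho _ _ (by simp [hik])]
         simp; done)
  have hzM : ∀ a, M *ᵥ z a = z a := by
    rintro (i | i) <;> simp [z, mulVec_add, mulVec_smul, mulVec_neg, hMv]
  have hzf : ∀ a, (f : Mn) *ᵥ z a = 0 := fun a => (hf _).2 (hzM a)
  let co : Fin j ⊕ Fin j → (ι → F) → F := fun a x => B (v a) x / (2 * Q (v a))
  let Zl : (ι → F) →ₗ[F] ι → F :=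
    ∑ a, (((2 * Q (v a))⁻¹ : F) • QuadraticMap.polarBilin Q (v a)).smulRight (z a)
  set P := pr (f * X) (f * Y)
  set S := P + LinearMap.toMatrix' Zl
  have hZ : ∀ x, LinearMap.toMatrix' Zl *ᵥ x = ∑ a, co a x • z a := fun x => by
    rw [LinearMap.toMatrix'_mulVec]
    simp [Zl, co, div_eq_mul_inv, mul_comm]
  have hq : ∀ x, Q (S *ᵥ x) = (c : F) * Q x := fun x => by
    have hmix : ∀ y, B (P *ᵥ x) (LinearMap.toMatrix' Zl *ᵥ y) = 0 := fun y => by
      rw [D.adj_pr, hZ]
      show QuadraticMap.polarBilin Q x _ = 0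
      rw [mulVec_sum, map_sum]
      refine Finset.sum_eq_zero fun a _ => ?_
      rw [show pr (f * X) (-(f * Y)) = pr X (-Y) * (f : Mn) by
        rw [← pr_coe f, D.pr_mul]; congr 1 <;> ring]
      rw [mulVec_smul, ← mulVec_mulVec, hzf, mulVec_zero, smul_zero, map_zero]
    have hP : Q (P *ᵥ x) = (c : F) * Q ((f : Mn) *ᵥ x) := by
      refine mul_left_cancel₀ D.two ?_
      rw [← polar_self2, D.polar_pr, show f * X * (f * X) - f * Y * (f * Y) * disc =
        algebraMap F (R0 M r) c * f by linear_combination hXY + (X * X - Y * Y * disc) * hff,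
        mul_left_comm, ← polar_self2, (D.adj_mem f.2).1 x ((f : Mn) *ᵥ x), mulVec_mulVec, ← Subalgebra.coe_mul,
        hff, QuadraticMap.polar_comm _ x ((f : Mn) *ᵥ x)]
      rw [show ((algebraMap F (R0 M r) c * f : R0 M r) : Mn) = (c : F) • (f : Mn) from
        (Algebra.smul_def (c : F) (f : Mn)).symm, smul_mulVec, QuadraticMap.polar_smul_left]
      rfl
    have hsplit : Q x = Q ((f : Mn) *ᵥ x) + Q (x - (f : Mn) *ᵥ x) := by
      conv_lhs => rw [← add_sub_cancel ((f : Mn) *ᵥ x) x, QuadraticMap.map_add ⇑Q]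
      rw [QuadraticMap.polar_sub_right, (D.adj_mem f.2).1 x ((f : Mn) *ᵥ x), mulVec_mulVec, ← Subalgebra.coe_mul,
        hff, QuadraticMap.polar_comm _ ((f : Mn) *ᵥ x) x, sub_self, add_zero]
    rw [add_mulVec, QuadraticMap.map_add ⇑Q, hmix, hP, hsplit, hx, hZ, quad_sum z hzo, quad_sum v ho, mul_add,
      Finset.mul_sum, add_zero]
    congr 1
    exact Finset.sum_congr rfl fun a _ => by rw [hzQ]; ring
  refine ⟨S, ?_, hq, ?_⟩
  · refine (D.commute_pair _ _).add_left (ext_iff_mulVec.2 fun x => ?_)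
    rw [← mulVec_mulVec, ← mulVec_mulVec, hZ, hZ, mulVec_sum]
    refine Finset.sum_congr rfl fun a _ => ?_
    have e : B (v a) (M *ᵥ x) = B (v a) x := by
      conv_lhs => rw [← hMv a]
      exact isometry_polar D.iso (v a) x
    rw [mulVec_smul, hzM]
    simp only [co, e]
  rcases j.eq_zero_or_pos with rfl | hj
  · left
    have hf1 : f = 1 := Subtype.ext (ext_iff_mulVec.2 fun x => by
      have h := hx x
      rw [Finset.univ_eq_empty, Finset.sum_empty, sub_eq_zero] at h
      rw [Subalgebra.coe_one, one_mulVec, ← h])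
    have hSJ : S * skew M r = skew M r * S := by
      have e : S = P := by
        show P + LinearMap.toMatrix' Zl = P
        rw [show Zl = 0 from Finset.sum_eq_zero fun a _ => isEmptyElim a, map_zero, add_zero]
      rw [e]
      have h1 := D.pr_mul (f * X) (f * Y) 0 1
      have h2 := D.pr_mul 0 1 (f * X) (f * Y)
      rw [show pr (0 : R0 M r) 1 = skew M r by simp [pr]] at h1 h2
      rw [h1, h2]; congr 1 <;> ring
    let γ : LinearMap.BilinForm F (ι → F) := (QuadraticMap.polarBilin Q).comp (mulVecLin (skew M r))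
    set G := LinearMap.BilinForm.toMatrix' γ
    have hγ : ∀ x y, FormSim.bf G x y = B (skew M r *ᵥ x) y := fun x y => by
      rw [FormSim.bf, ← Matrix.toBilin'_apply', Matrix.toBilin'_toMatrix']; rfl
    have halt : ∀ x, FormSim.bf G x x = 0 := fun x => by
      rw [hγ]
      have := D.skew_zero 1 x
      rwa [show pr (0 : R0 M r) 1 = skew M r by simp [pr]] at this
    have hGdet : G.det ≠ 0 := by
      have e : G = LinearMap.BilinForm.toMatrix (Pi.basisFun F ι) γ := by
        rw [LinearMap.BilinForm.toMatrix_basisFun]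
      rw [e]
      refine (LinearMap.BilinForm.nondegenerate_iff_det_ne_zero (Pi.basisFun F ι)).1 ?_
      suffices h : ∀ x, (∀ y, γ x y = 0) → x = 0 from ⟨h, fun y hy => h y fun x => by
        show B (skew M r *ᵥ y) x = 0
        rw [D.adj_skew, neg_one_smul, neg_mulVec, QuadraticMap.polar_neg_right, QuadraticMap.polar_comm]
        exact neg_eq_zero.2 (hy x)⟩
      intro x hx0
      have h1 : skew M r *ᵥ x = 0 := eq_zero_of_polar D.nd fun y => hx0 y
      have h2 := (hf x).2 (D.skew_ker (x := x) (by rw [← mulVec_mulVec, h1, mulVec_zero]))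
      rwa [hf1, Subalgebra.coe_one, one_mulVec] at h2
    have hSdet : S.det ≠ 0 := fun h0 => by
      obtain ⟨x, hx0, hSx⟩ := exists_mulVec_eq_zero_iff.2 h0
      refine hx0 (eq_zero_of_polar D.nd fun y => mul_left_cancel₀ c.ne_zero ?_)
      have : B (S *ᵥ x) (S *ᵥ y) = (c : F) * B x y := by
        simp only [QuadraticMap.polar, ← mulVec_add, hq]; ring
      rw [← this, hSx, QuadraticMap.polar_zero_left, mul_zero]
    refine (FormSim.alt_det (FormSim.similar_J G hn hGdet halt)).1 (GeneralLinearGroup.mkOfDetNeZero S hSdet) c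
      (FormSim.eq_of_bf fun x y => ?_)
    rw [FormSim.bf_congr, FormSim.bf_smul, hγ, hγ]
    show B (skew M r *ᵥ (S *ᵥ x)) (S *ᵥ y) = _
    rw [mulVec_mulVec, ← hSJ, ← mulVec_mulVec]
    simp only [QuadraticMap.polar, ← mulVec_add, hq]; ring
  · exact Or.inr ⟨_, hv (Sum.inl ⟨0, hj⟩), hMv _⟩

end Data

end Cfsg.Agent.Classical.OddCent
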