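import Cfsg.Agent.Lib.Classical.OrthOddOrderCentral
import Cfsg.Agent.Lib.Classical.OrthGOModels

/-!
Conjugacy of semisimple automorphisms of odd prime order of `PΩ(Q)`: the classes under `Inn`, `PSO` and the
inner-diagonal group agree, and those under `PO` and `PGO` agree.
-/

set_option autoImplicit false
set_option linter.unusedSectionVars false
set_option quotPrecheck false
set_option maxHeartbeats 1000000

namespace Cfsg.Agent.Classical.GOQuot

open Matrix Module Cfsg.Agent.Classical.OrthAut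

variable {F : Type*} [Field F] [Fintype F] {ι : Type} [Fintype ι] [DecidableEq ι]
  {Q : QuadraticForm F (ι → F)} {n : ℕ}

local notation "Mn" => Matrix ι ι F
local notation "OG" => isometryGroup F ⇑Q
local notation "PQ" => POmega F ⇑Q
local notation "GO" => Geo.quadSimilarityGroup (F := F) ⇑Q

namespace Ctx

variable (C : Ctx Q n)
include C

omit [Fintype F] C in
theorem mem_po {β : MulAut PQ} : β ∈ poAut F ⇑Q ↔ ∃ h : OG, β = ogHom Q h := by
  constructor
  · intro hβ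
    have hle : poAut F ⇑Q ≤ (ogHom Q).range := (Subgroup.closure_le _).2 fun γ ⟨g, hg, hγ⟩ =>
      ⟨⟨g, hg⟩, ((induced_iff (isPair_refl (isometry_mem_go ⟨g, hg⟩))).1 hγ).symm⟩
    obtain ⟨h, rfl⟩ := hle hβ
    exact ⟨h, rfl⟩
  · rintro ⟨h, rfl⟩
    exact Subgroup.subset_closure ⟨_, h.2, poSemi_induced _⟩

/-- A semisimple element of odd prime order is induced by a special isometry of that order. -/
theorem exists_lift {p : ℕ} [CharP F p] {x : MulAut PQ} (hx : x ∈ pgoAut F ⇑Q) {r : ℕ} (hr : r.Prime)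
    (hro : Odd r) (hxr : orderOf x = r) :
    ∃ h : OG, (ogVal h).det = 1 ∧ h ^ r = 1 ∧ x = ogHom Q h := by
  have hx1 : x ^ r = 1 := hxr ▸ pow_orderOf_eq_one x
  have hpso : x ∈ psoAut F ⇑Q := by
    have hk : C.psiBar ⟨x, hx⟩ = 1 := by
      set y := C.psiBar ⟨x, hx⟩ with hy
      have h1 : y ^ r = 1 := by
        rw [hy, ← map_pow, show (⟨x, hx⟩ : pgoAut F ⇑Q) ^ r = 1 from Subtype.ext hx1, map_one]
      obtain ⟨k, rfl⟩ := hro
      rw [pow_succ, pow_mul] at h1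
      have h2 : y ^ 2 = 1 := Prod.ext (Int.units_sq y.1) (Int.units_sq y.2)
      rwa [h2, one_pow, one_mul] at h1
    have := C.psiBar_ker ▸ MonoidHom.mem_ker.2 hk
    exact Subgroup.mem_subgroupOf.1 this
  obtain ⟨h, hd, rfl⟩ := mem_pso.1 hpso
  have hone : goHom Q (ogToGO Q (h ^ r)) = 1 := by
    show ogHom Q (h ^ r) = 1
    rw [map_pow, hx1]
  obtain ⟨c, hc⟩ := goHom_eq_one C.nd C.tri hone
  have hc' : ogVal (h ^ r) = c • 1 := hc
  obtain ⟨v, hv⟩ := exists_anisotropic C.nd C.one_le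
  have h2 := ogVal_quad (h ^ r) v
  rw [hc', Matrix.smul_mulVec, Matrix.one_mulVec, QuadraticMap.map_smul, smul_eq_mul] at h2
  rcases mul_self_eq_one_iff.1 (mul_right_cancel₀ hv (h2.trans (one_mul _).symm)) with rfl | rfl
  · exact ⟨h, hd, ogVal_ext (hc'.trans (by rw [one_smul, ogVal_one])), rfl⟩
  · have hh : h ^ r = negOne Q := ogVal_ext (hc'.trans (by rw [neg_one_smul, ogVal_negOne]))
    have hcomm : Commute h (negOne Q) := ogVal_ext (by rw [ogVal_mul, ogVal_mul, ogVal_negOne]; simp)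
    refine ⟨h * negOne Q, by rw [ogVal_mul, Matrix.det_mul, hd, C.det_negOne, one_mul], ?_,
      by rw [map_mul, ogHom_negOne, mul_one]⟩
    have hsq : negOne Q * negOne Q = 1 := ogVal_ext (by rw [ogVal_mul, ogVal_negOne, ogVal_one]; simp)
    obtain ⟨k, rfl⟩ := hro
    rw [hcomm.mul_pow, hh, pow_succ (negOne Q), pow_mul, sq, hsq, one_pow, one_mul, hsq]

/-- The classes of a semisimple element of odd prime order. -/
theorem conj_classes {p : ℕ} [Fact p.Prime] [CharP F p] {x : MulAut PQ} (hx : x ∈ pgoAut F ⇑Q) {r : ℕ}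
    (hr : r.Prime) (hro : Odd r) (hrp : r ≠ p) (hxr : orderOf x = r) :
    (∀ y, (IsConjUnder (Inn PQ) x y ↔ IsConjUnder C.diag x y) ∧
      (IsConjUnder (psoAut F ⇑Q) x y ↔ IsConjUnder C.diag x y)) ∧
    ∀ y, IsConjUnder (poAut F ⇑Q) x y ↔ IsConjUnder (pgoAut F ⇑Q) x y := by
  classical
  haveI : Nonempty ι := Fintype.card_pos_iff.1 C.one_le
  obtain ⟨h, hd, hpow, rfl⟩ := C.exists_lift (p := p) hx hr hro hxr
  have D : OddCent.Data Q (ogVal h) r :=
    { nd := C.nd, two := C.two, iso := ogVal_quad h, prime := hr, odd := hro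
      pow := by
        have : ∀ j, ogVal (h ^ j) = ogVal h ^ j := fun j => by
          induction j with
          | zero => simp
          | succ j ih => rw [pow_succ, pow_succ, ogVal_mul, ih]
        rw [← this, hpow, ogVal_one]
      cast := fun h0 => hrp (((Nat.prime_dvd_prime_iff_eq Fact.out hr).1 ((CharP.cast_eq_zero_iff F p r).1 h0)).symm) }
  obtain ⟨u, hud, hus, huc⟩ := D.exists_spin_neg C.card
  obtain ⟨ε, hε0, hε⟩ := C.exists_ε
  obtain ⟨S, hSc, hSq, hSd⟩ := D.exists_sim C.card (Units.mk0 ε hε0)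
  have hSdet : S.det ≠ 0 := by
    intro h0
    obtain ⟨z, hz0, hSz⟩ := exists_mulVec_eq_zero_iff.2 h0
    refine hz0 (eq_zero_of_polar C.nd fun w => mul_left_cancel₀ hε0 ?_)
    have : QuadraticMap.polar ⇑Q (S *ᵥ z) (S *ᵥ w) = ε * QuadraticMap.polar ⇑Q z w := by
      simp only [QuadraticMap.polar, ← mulVec_add, hSq, Units.val_mk0]; ring
    rw [← this, hSz, QuadraticMap.polar_zero_left, mul_zero]
  let s₀ : GO := ⟨Matrix.GeneralLinearGroup.mkOfDetNeZero S hSdet, Units.mk0 ε hε0, hSq⟩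
  obtain ⟨s, hs, hscomm⟩ : ∃ s : GO, C.psi s = (1, -1) ∧
      Commute ((s : GL ι F) : Mn) (ogVal h) := by
    have hmu : mu s₀ = Units.mk0 ε hε0 := C.mu_eq hSq
    have hsq : sqChar F (mu s₀) = -1 := by rw [hmu]; exact (sqChar_eq_neg_one_iff _).2 hε
    rcases Int.units_eq_one_or (psgn n s₀) with e | e
    · exact ⟨s₀, Prod.ext e hsq, hSc⟩
    · rcases hSd with hd' | ⟨v, hv, hMv⟩
      · have := (psgn_eq_one_iff_det C.two s₀).2 (by rw [hmu]; exact hd')
        rw [this] at e; exact absurd e (by decide)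
      · refine ⟨ogToGO Q (refl hv) * s₀, ?_, ?_⟩
        · rw [map_mul, C.psi_refl, psi_apply, e, hsq]; rfl
        · show Commute (ogVal (refl hv) * S) (ogVal h)
          refine Commute.mul_left (ext_iff_mulVec.2 fun z => ?_) hSc
          have e2 : QuadraticMap.polar ⇑Q v (ogVal h *ᵥ z) = QuadraticMap.polar ⇑Q v z := by
            conv_lhs => rw [← hMv]
            exact isometry_polar (ogVal_quad h) v z
          rw [← mulVec_mulVec, ← mulVec_mulVec, refl_apply, refl_apply, mulVec_sub, mulVec_smul, hMv, e2]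
  have hxs : Commute (goHom Q s) (ogHom Q h) := by
    show Commute (goHom Q s) (goHom Q (ogToGO Q h))
    exact Commute.map (show Commute s (ogToGO Q h) from Subtype.ext (Units.ext hscomm.eq)) _
  have hxu : Commute (ogHom Q u) (ogHom Q h) := Commute.map (ogVal_ext huc : Commute u h) _
  have hcancel : ∀ {a b : MulAut PQ}, Commute b (ogHom Q h) → a * b * ogHom Q h * (a * b)⁻¹ =
      a * ogHom Q h * a⁻¹ := fun {a b} hb => by
    rw [_root_.mul_inv_rev, mul_assoc a b, hb.eq]; group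
  have hInn : Inn PQ ≤ psoAut F ⇑Q := C.inn_le_pso
  have hdiag : psoAut F ⇑Q ≤ C.diag := fun β hβ => by
    obtain ⟨v, hv, rfl⟩ := mem_pso.1 hβ
    exact C.mem_diag.2 ⟨ogToGO Q v, (C.psgn_og v).2 hv, rfl⟩
  have step1 : ∀ y, IsConjUnder (psoAut F ⇑Q) (ogHom Q h) y → IsConjUnder (Inn PQ) (ogHom Q h) y := by
    rintro y ⟨w, hw, rfl⟩
    obtain ⟨v, hv, rfl⟩ := mem_pso.1 hw
    rcases Int.units_eq_one_or (spin v) with e | e
    · exact ⟨_, (C.og_mem_inn hv).2 (Or.inl e), rfl⟩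
    · refine ⟨ogHom Q (v * u), (C.og_mem_inn ?_).2 (Or.inl ?_), ?_⟩
      · rw [ogVal_mul, det_mul, hv, hud, one_mul]
      · rw [spin_mul C.nd, e, hus]; rfl
      · rw [map_mul, hcancel hxu]
  -- strip a similitude of nonsquare multiplier
  have strip : ∀ g : GO, ∃ g' : GO, sqChar F (mu g') = 1 ∧ psgn n g' = psgn n g ∧
      goHom Q g * ogHom Q h * (goHom Q g)⁻¹ = goHom Q g' * ogHom Q h * (goHom Q g')⁻¹ := by
    intro g
    rcases Int.units_eq_one_or (sqChar F (mu g)) with e | e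
    · exact ⟨g, e, rfl, rfl⟩
    · have hs' : C.psi (g * s⁻¹) = (psgn n g, 1) := by
        rw [map_mul, map_inv, hs, psi_apply, e]
        exact Prod.ext (by simp) (by simp)
      rw [psi_apply, Prod.mk.injEq] at hs'
      exact ⟨g * s⁻¹, hs'.2, hs'.1, by rw [map_mul, map_inv, hcancel hxs.inv_left]⟩
  have step2 : ∀ y, IsConjUnder C.diag (ogHom Q h) y → IsConjUnder (psoAut F ⇑Q) (ogHom Q h) y := by
    rintro y ⟨w, hw, rfl⟩
    obtain ⟨g, hg, rfl⟩ := C.mem_diag.1 hw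
    obtain ⟨g', h1, h2, h3⟩ := strip g
    obtain ⟨v, hv, hgv⟩ := C.exists_special (g := g') (by rw [psi_apply, h1, h2, hg]; rfl)
    exact ⟨ogHom Q v, mem_pso.2 ⟨v, hv, rfl⟩, by rw [← hgv, h3]⟩
  refine ⟨fun y => ⟨⟨fun ⟨w, hw, e⟩ => ⟨w, hdiag (hInn hw), e⟩, fun hy => step1 y (step2 y hy)⟩,
    ⟨fun ⟨w, hw, e⟩ => ⟨w, hdiag hw, e⟩, step2 y⟩⟩, fun y => ⟨?_, ?_⟩⟩
  · rintro ⟨w, hw, e⟩
    obtain ⟨v, rfl⟩ := mem_po.1 hw
    exact ⟨_, by rw [pgoAut_eq]; exact ⟨ogToGO Q v, rfl⟩, e⟩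
  · rintro ⟨w, hw, rfl⟩
    rw [pgoAut_eq] at hw
    obtain ⟨g, rfl⟩ := hw
    obtain ⟨g', h1, -, h3⟩ := strip g
    obtain ⟨v, hv⟩ := exists_anisotropic C.nd C.one_le
    rcases Int.units_eq_one_or (psgn n g') with e | e
    · obtain ⟨w, -, hgw⟩ := C.exists_special (g := g') (by rw [psi_apply, h1, e]; rfl)
      exact ⟨ogHom Q w, mem_po.2 ⟨w, rfl⟩, by rw [← hgw, h3]⟩
    · obtain ⟨w, -, hgw⟩ := C.exists_special (g := ogToGO Q (refl hv) * g')
        (by rw [map_mul, C.psi_refl, psi_apply, h1, e]; rfl)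
      refine ⟨ogHom Q ((refl hv)⁻¹ * w), mem_po.2 ⟨_, rfl⟩, ?_⟩
      have e3 : goHom Q (ogToGO Q (refl hv)) = ogHom Q (refl hv) := rfl
      rw [map_mul, ← hgw, map_mul (goHom Q), map_inv, e3, inv_mul_cancel_left, h3]

/-- The same statement for a form given as a function. -/
theorem conj_classes' {p : ℕ} [Fact p.Prime] [CharP F p] (f : (ι → F) → F) (hf : ⇑Q = f) {P : GL ι F → Prop}
    (hP : ∀ g : Geo.quadSimilarityGroup (F := F) ⇑Q, P g ↔ psgn n g = 1) :
    ∀ (D : Subgroup (MulAut (POmega F f))),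
      D = autSubgroupOf (fun β : POmega F f ≃* POmega F f => ∃ g : GL ι F,
        g ∈ Geo.quadSimilarityGroup (F := F) f ∧ P g ∧ IsInducedBySemilinearPOmega f g (RingEquiv.refl F) β) →
      ∀ x : MulAut (POmega F f), x ∈ pgoAut F f → ∀ r : ℕ, r.Prime → Odd r → r ≠ p → orderOf x = r →
        (∀ y, (IsConjUnder (Inn (POmega F f)) x y ↔ IsConjUnder D x y) ∧
          (IsConjUnder (psoAut F f) x y ↔ IsConjUnder D x y)) ∧
        ∀ y, IsConjUnder (poAut F f) x y ↔ IsConjUnder (pgoAut F f) x y := by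
  subst hf
  rintro D rfl x hx r hr hro hrp hxr
  have e : autSubgroupOf (fun β : POmega F ⇑Q ≃* POmega F ⇑Q => ∃ g : GL ι F,
        g ∈ Geo.quadSimilarityGroup (F := F) ⇑Q ∧ P g ∧ IsInducedBySemilinearPOmega (⇑Q) g (RingEquiv.refl F) β) =
      C.diag := by
    rw [← C.diag_eq (P := fun g => P g) hP]
    congr 1
    funext β
    exact propext ⟨fun ⟨g, hg, h1, h2⟩ => ⟨⟨g, hg⟩, h1, h2⟩, fun ⟨g, h1, h2⟩ => ⟨g, g.2, h1, h2⟩⟩
  rw [e]
  exact C.conj_classes (p := p) hx hr hro hrp hxr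

end Ctx

end Cfsg.Agent.Classical.GOQuot
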