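import Cfsg.Agent.Lib.Classical.OrthPlusStats
import Cfsg.Agent.Lib.Classical.OrthFourDiag

/-!
Field automorphisms of prime order of the hyperbolic `PΩ`, dimension eight included.
-/

set_option autoImplicit false
set_option linter.unusedSectionVars false
set_option quotPrecheck false
set_option maxHeartbeats 1000000

namespace Cfsg.Agent.Classical.OrthAut

open Matrix Module Cfsg.Agent.Classical.Descent

variable {F : Type*} [Field F] [Fintype F] {m : ℕ}

local notation "Qp" => qfPlus m F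
local notation "PP" => POmega F ⇑(qfPlus m F)

theorem map_conj_mem {X : Type*} [Group X] (S : Subgroup X) {g : X} (hg : g ∈ S) :
    S.map (MulAut.conj g).toMonoidHom = S := by
  ext y
  constructor
  · rintro ⟨z, hz, rfl⟩
    exact mul_mem (mul_mem hg hz) (inv_mem hg)
  · intro hy
    exact ⟨g⁻¹ * y * g, mul_mem (mul_mem (inv_mem hg) hy) hg, show g * (g⁻¹ * y * g) * g⁻¹ = y by group⟩

/-- Reduction of a field class element to the standard one by an automorphism normalising `Inndiag`. -/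
theorem plus_field_conj (hm : 4 ≤ m) {x : MulAut PP} (hx : IsFieldAutClassPOmega (⇑Qp) x) :
    ∃ (g : MulAut PP) (σ : RingAut F), σ ≠ 1 ∧
      (Four.evenBase_plus (F := F) (m := m) (by omega)).diagAut.map (MulAut.conj g).toMonoidHom =
        (Four.evenBase_plus (F := F) (m := m) (by omega)).diagAut ∧
      x = g * fld (rat_qfPlus.ratAt σ) * g⁻¹ := by
  haveI : NeZero m := ⟨by omega⟩
  rcases eq_or_lt_of_le hm with rfl | hm'
  · obtain ⟨α, φ, σ, hσ, hφ, hα⟩ := hx
    obtain rfl : φ = fld (rat_qfPlus.ratAt σ) := (fld_induced_iff (rat_qfPlus.ratAt σ)).1 hφ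
    haveI := Four.diagAut_normal F
    refine ⟨α⁻¹, σ, hσ, map_conj_of_normal _ _, ?_⟩
    rw [← hα]; group
  · have H := evenSpace_plus (F := F) (show 5 ≤ m by omega)
    obtain ⟨σ, a, hσ, ha, rfl⟩ := H.fieldClass_param rat_qfPlus hx
      fun σ => ⟨stdVec m F, stdVec_ne, stdVec_fixed σ⟩
    exact ⟨goHom Qp a, σ, hσ, map_conj_mem _ ⟨a, ha, rfl⟩, rfl⟩

theorem orderOf_fld (hm : 3 ≤ m) (σ : RingAut F) :
    orderOf (fld (rat_qfPlus.ratAt σ) : MulAut PP) = orderOf σ := by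
  refine orderOf_injective (fieldHom (Q := Qp) rat_qfPlus) (fun σ τ h => ?_) σ
  refine ((Four.evenBase_plus (F := F) hm).go_field_inj (g := 1) (k := 1) (rat_qfPlus.ratAt σ)
    (rat_qfPlus.ratAt τ) ?_).1
  rw [map_one, one_mul, one_mul]
  exact h

theorem plus_field_stats (hm : 4 ≤ m) {p f : ℕ} [Fact p.Prime] (hF : Fintype.card F = p ^ f)
    {x : MulAut PP} (hx : IsFieldAutClassPOmega (⇑Qp) x) {r : ℕ} (hr : r.Prime) (hxr : orderOf x = r)
    (F₀ : Type*) [Field F₀] [Fintype F₀] (hF₀ : Fintype.card F₀ = p ^ (f / r)) :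
    r ∣ f ∧
    Nonempty (↥((Four.evenBase_plus (F := F) (m := m) (by omega)).diagAut ⊓ Subgroup.centralizer {x}) ≃*
      ↥(Four.evenBase_plus (F := F₀) (m := m) (by omega)).diagAut) ∧
    ((Odd r ∨ p = 2) → splitClassCount (Four.evenBase_plus (F := F) (m := m) (by omega)).diagAut (Inn PP) x = 1) ∧
    ((r = 2 ∧ p ≠ 2 ∧ Odd m ∧ p ^ (f / 2) % 4 = 1) →
      splitClassCount (Four.evenBase_plus (F := F) (m := m) (by omega)).diagAut (Inn PP) x = 2) ∧
    ((r = 2 ∧ p ≠ 2 ∧ ¬ (Odd m ∧ p ^ (f / 2) % 4 = 1)) →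
      splitClassCount (Four.evenBase_plus (F := F) (m := m) (by omega)).diagAut (Inn PP) x = 4) := by
  haveI : CharP F p := charP_of_card_eq_prime_pow hF
  haveI : NeZero m := ⟨by omega⟩
  set H := Four.evenBase_plus (F := F) (m := m) (by omega)
  have H₀ := Four.evenBase_plus (F := F₀) (m := m) (by omega)
  obtain ⟨g, σ, hσ, hg, rfl⟩ := plus_field_conj hm hx
  have hσr : orderOf σ = r := by
    rw [← orderOf_fld (m := m) (by omega) σ, ← hxr]
    exact ((MulAut.conj g).orderOf_eq _).symm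
  obtain ⟨hrf, -, j, hj⟩ := PSLAut.exists_fixed_embedding (p := p) hF hσr F₀ hF₀
  have hP := qfPlus_rat (F := F) (m := m) j
  set φ : MulAut PP := fld (rat_qfPlus.ratAt σ)
  have hsplit : splitClassCount H.diagAut (Inn PP) (g * φ * g⁻¹) = splitClassCount H.diagAut (Inn PP) φ := by
    conv_rhs => rw [← splitClassCount_map (MulAut.conj g), hg, map_conj_of_normal (Inn PP) g]
    rfl
  rw [hsplit]
  refine ⟨hrf, ?_, fun h => ?_, fun h => ?_, fun h => ?_⟩
  · obtain ⟨e⟩ := H.centralizer_iso (rat_qfPlus.ratAt σ) hP H₀ hj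
    refine ⟨(MulEquiv.subgroupCongr ?_).trans ((Subgroup.equivMapOfInjective _
      (MulAut.conj g).toMonoidHom (MulAut.conj g).injective).symm.trans e)⟩
    rw [centralizer_map, hg]
    rfl
  · refine H.split_eq_one (rat_qfPlus.ratAt σ) hP H₀ hj (h.imp (fun h' => hσr ▸ h') fun h' => ?_)
    subst h'
    exact CharTwo.two_eq_zero
  all_goals
    obtain ⟨rfl, hp, h'⟩ := h
    have h2 : (2 : F) ≠ 0 := fun h0 => hp ((Nat.prime_dvd_prime_iff_eq (Fact.out : p.Prime) Nat.prime_two).1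
      ((CharP.cast_eq_zero_iff F p 2).1 (by simpa using h0)))
    have hcard : Fintype.card F = Fintype.card F₀ ^ 2 := by
      rw [hF, hF₀, ← pow_mul, Nat.div_mul_cancel hrf]
    rw [← hF₀] at h'
  · have hm5 : 5 ≤ m := by obtain ⟨⟨k, rfl⟩, -⟩ := h'; omega
    exact (plus_field_split hm5 hσr hj hcard h2).1 h'
  · rcases eq_or_lt_of_le hm with rfl | hm'
    · exact Four.split_four hj hcard h2
    · exact (plus_field_split (show 5 ≤ m by omega) hσr hj hcard h2).2 h'

theorem plus_field_stats_fn {fn : (Fin m ⊕ Fin m → F) → F} (hfn : ⇑Qp = fn) (hm : 4 ≤ m) {p f : ℕ}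
    [Fact p.Prime] (hF : Fintype.card F = p ^ f)
    {x : MulAut (POmega F fn)} (hx : IsFieldAutClassPOmega fn x) {r : ℕ} (hr : r.Prime) (hxr : orderOf x = r)
    (F₀ : Type*) [Field F₀] [Fintype F₀] (hF₀ : Fintype.card F₀ = p ^ (f / r))
    {fn₀ : (Fin m ⊕ Fin m → F₀) → F₀} (hfn₀ : ⇑(qfPlus m F₀) = fn₀)
    {G : Subgroup (MulAut (POmega F fn))} {G₀ : Subgroup (MulAut (POmega F₀ fn₀))}
    (hG : G = autSubgroupOf (fun β : POmega F fn ≃* POmega F fn =>
      ∃ g : GL (Fin m ⊕ Fin m) F, g ∈ Geo.quadSimilarityGroup (F := F) fn ∧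
        PreservesSingularClasses (quadFormPlus m F) (g : Matrix _ _ F) ∧
        IsInducedBySemilinearPOmega fn g (RingEquiv.refl F) β))
    (hG₀ : G₀ = autSubgroupOf (fun β : POmega F₀ fn₀ ≃* POmega F₀ fn₀ =>
      ∃ g : GL (Fin m ⊕ Fin m) F₀, g ∈ Geo.quadSimilarityGroup (F := F₀) fn₀ ∧
        PreservesSingularClasses (quadFormPlus m F₀) (g : Matrix _ _ F₀) ∧
        IsInducedBySemilinearPOmega fn₀ g (RingEquiv.refl F₀) β)) :
    r ∣ f ∧ Nonempty (↥(G ⊓ Subgroup.centralizer {x}) ≃* ↥G₀) ∧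
    ((Odd r ∨ p = 2) → splitClassCount G (Inn (POmega F fn)) x = 1) ∧
    ((r = 2 ∧ p ≠ 2 ∧ Odd m ∧ p ^ (f / 2) % 4 = 1) → splitClassCount G (Inn (POmega F fn)) x = 2) ∧
    ((r = 2 ∧ p ≠ 2 ∧ ¬ (Odd m ∧ p ^ (f / 2) % 4 = 1)) →
      splitClassCount G (Inn (POmega F fn)) x = 4) := by
  subst hfn
  subst hfn₀
  rw [Four.inndiag_plus_eq (by omega)] at hG hG₀
  subst hG
  subst hG₀
  exact plus_field_stats hm hF hx hr hxr F₀ hF₀

end Cfsg.Agent.Classical.OrthAut
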