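import Cfsg.Agent.Lib.Classical.OrthMinusField

/-!
The two classes of non-degenerate forms in even dimension, and transport of the standing hypotheses.
-/

set_option autoImplicit false
set_option linter.unusedSectionVars false
set_option quotPrecheck false

namespace Cfsg.Agent.Classical.OrthAut

open Matrix Module Cfsg.Agent.Classical.Descent

variable {F : Type*} [Field F] [Fintype F] {ι : Type} [Fintype ι] [DecidableEq ι]

theorem half_comp {ι' : Type} [Fintype ι'] [DecidableEq ι'] {Q : QuadraticForm F (ι → F)}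
    {Q' : QuadraticForm F (ι' → F)} (e : (ι' → F) ≃ₗ[F] (ι → F)) {c : F} (hc : c ≠ 0)
    (he : ∀ v, Q (e v) = c * Q' v) {U : Submodule F (ι → F)} (hU : Half Q U) : ∃ W, Half Q' W := by
  refine ⟨U.map (e.symm : (ι → F) →ₗ[F] (ι' → F)), ?_, ?_⟩
  · rintro _ ⟨u, hu, rfl⟩
    have h := he (e.symm u)
    rw [e.apply_symm_apply, hU.1 u hu] at h
    exact (mul_eq_zero.1 h.symm).resolve_left hc
  · rw [LinearEquiv.finrank_map_eq, hU.2]
    have h := e.finrank_eq
    rw [Module.finrank_pi, Module.finrank_pi] at h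
    exact h.symm

theorem comp_nondegenerate {ι' : Type} [Fintype ι'] [DecidableEq ι'] {Q : QuadraticForm F (ι → F)}
    (e : (ι' → F) ≃ₗ[F] (ι → F)) (hn : (QuadraticMap.polarBilin Q).Nondegenerate) :
    (QuadraticMap.polarBilin (Q.comp e.toLinearMap)).Nondegenerate := by
  refine nondegenerate_of_separatingLeft _ fun u hu => e.map_eq_zero_iff.1 (hn.1 _ fun z => ?_)
  have h := hu (e.symm z)
  simp only [QuadraticMap.polarBilin_apply_apply, QuadraticMap.polar, QuadraticMap.comp_apply,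
    LinearEquiv.coe_coe, map_add, e.apply_symm_apply] at h ⊢
  exact h

/-- Two forms without a singular half are isometric. -/
theorem iso_of_not_half {k : ℕ} (hι : Fintype.card ι = 2 * (k + 1)) (P₁ P₂ : QuadraticForm F (ι → F))
    (h₁ : (QuadraticMap.polarBilin P₁).Nondegenerate) (h₂ : (QuadraticMap.polarBilin P₂).Nondegenerate)
    (n₁ : ¬ ∃ U, Half P₁ U) (n₂ : ¬ ∃ U, Half P₂ U) :
    ∃ z : GL ι F, ∀ v, P₂ ((z : Matrix ι ι F) *ᵥ v) = P₁ v := by
  let e : (((Fin k ⊕ Fin k) ⊕ Fin 2) → F) ≃ₗ[F] (ι → F) :=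
    LinearEquiv.ofFinrankEq _ _ (by rw [Module.finrank_pi, Module.finrank_pi, hι]; simp; omega)
  have hh : ∀ P : QuadraticForm F (ι → F), (¬ ∃ U, Half P U) → ¬ ∃ U, Half (P.comp e.toLinearMap) U :=
    fun P hP ⟨U, hU⟩ => hP (half_comp (Q := P.comp e.toLinearMap) (Q' := P) e.symm one_ne_zero
      (fun v => by rw [one_mul, QuadraticMap.comp_apply, LinearEquiv.coe_coe, e.apply_symm_apply]) hU)
  obtain ⟨g, hg⟩ := minus_unique (P₁.comp e.toLinearMap) (P₂.comp e.toLinearMap) (comp_nondegenerate e h₁)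
    (comp_nondegenerate e h₂) (hh _ n₁) (hh _ n₂)
  let L : (((Fin k ⊕ Fin k) ⊕ Fin 2) → F) ≃ₗ[F] (((Fin k ⊕ Fin k) ⊕ Fin 2) → F) :=
    LinearEquiv.ofBijective (Matrix.mulVecLin (g : Matrix ((Fin k ⊕ Fin k) ⊕ Fin 2) ((Fin k ⊕ Fin k) ⊕ Fin 2) F))
      ⟨fun x y h => by
        have := congrArg (((g⁻¹ : GL ((Fin k ⊕ Fin k) ⊕ Fin 2) F) : Matrix ((Fin k ⊕ Fin k) ⊕ Fin 2) ((Fin k ⊕ Fin k) ⊕ Fin 2) F) *ᵥ ·) h
        simpa [Matrix.mulVec_mulVec] using this,
       fun x => ⟨((g⁻¹ : GL ((Fin k ⊕ Fin k) ⊕ Fin 2) F) : Matrix ((Fin k ⊕ Fin k) ⊕ Fin 2) ((Fin k ⊕ Fin k) ⊕ Fin 2) F) *ᵥ x, by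
        simp [Matrix.mulVec_mulVec]⟩⟩
  obtain ⟨z, hz⟩ := exists_gl_of_linearEquiv (e.symm.trans (L.trans e))
  refine ⟨z, fun v => ?_⟩
  have := hg (e.symm v)
  rw [QuadraticMap.comp_apply, QuadraticMap.comp_apply, LinearEquiv.coe_coe, e.apply_symm_apply] at this
  rw [hz]
  exact this

/-- A form with a singular half is hyperbolic. -/
theorem plus_of_half {k : ℕ} (hk : 1 ≤ k) (hι : Fintype.card ι = 2 * k) {Q : QuadraticForm F (ι → F)}
    (hn : (QuadraticMap.polarBilin Q).Nondegenerate) {U : Submodule F (ι → F)} (hU : Half Q U) :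
    ∃ e : (Fin k ⊕ Fin k → F) ≃ₗ[F] (ι → F), ∀ v, Q (e v) = qfPlus k F v := by
  have hV : finrank F (ι → F) = 2 * k := by rw [Module.finrank_pi, hι]
  rcases exists_even_basis hV Q hn with ⟨bb, hq, hEF, hEE⟩ | ⟨-, bb, ζ, hζ, hq, hEF, hEE, hER, h0, h01, h1⟩
  · refine exists_isometry_of_bases (Q := qfPlus k F) (Q' := Q) (Pi.basisFun F _) bb (fun i => ?_) fun i l => ?_
    · simp only [Pi.basisFun_apply]
      rcases i with i | i
      · rw [(hq i).1]; simp [qfPlus_apply, quadFormPlus]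
      · rw [(hq i).2]; simp [qfPlus_apply, quadFormPlus]
    · simp only [Pi.basisFun_apply, polar_qfPlus]
      rcases i with i | i <;> rcases l with l | l
      · rw [(hEE i l).1]; simp [Pi.single_apply]
      · rw [hEF i l]; simp [Pi.single_apply, eq_comm]
      · rw [QuadraticMap.polar_comm, hEF l i]; simp [Pi.single_apply, eq_comm]
      · rw [(hEE i l).2]; simp [Pi.single_apply]
  · exfalso
    obtain ⟨j, rfl⟩ : ∃ j, k = j + 1 := ⟨k - 1, by omega⟩
    have hab : Aniso F 1 ζ := fun z₁ z₂ h => by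
      by_cases hz : z₂ = 0
      · subst hz; exact ⟨by simpa using h, rfl⟩
      · exact absurd (by field_simp; linear_combination h : (z₁ / z₂) ^ 2 + z₁ / z₂ + ζ = 0) (hζ _)
    obtain ⟨e, he⟩ : ∃ e : (((Fin j ⊕ Fin j) ⊕ Fin 2) → F) ≃ₗ[F] (ι → F),
        ∀ v, Q (e v) = qfMinus j F 1 ζ v := by
      refine exists_isometry_of_bases (Q := qfMinus j F 1 ζ) (Q' := Q) (Pi.basisFun F _) bb (fun i => ?_)
        fun i l => ?_
      · simp only [Pi.basisFun_apply]
        rcases i with (i | i) | i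
        · rw [(hq i).1]; simp [qfMinus_apply, quadFormMinus]
        · rw [(hq i).2]; simp [qfMinus_apply, quadFormMinus]
        · fin_cases i
          · simp only [Fin.zero_eta, Fin.isValue]; rw [h0]; simp [qfMinus_apply, quadFormMinus]
          · simp only [Fin.mk_one, Fin.isValue]; rw [h1]; simp [qfMinus_apply, quadFormMinus]
      · simp only [Pi.basisFun_apply, polar_qfMinus]
        rcases i with (i | i) | i <;> rcases l with (l | l) | l
        · rw [(hEE i l).1]; simp [Pi.single_apply]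
        · rw [hEF i l]; simp [Pi.single_apply, eq_comm]
        · rw [(hER i l).1]; simp [Pi.single_apply]
        · rw [QuadraticMap.polar_comm, hEF l i]; simp [Pi.single_apply, eq_comm]
        · rw [(hEE i l).2]; simp [Pi.single_apply]
        · rw [(hER i l).2]; simp [Pi.single_apply]
        · rw [QuadraticMap.polar_comm, (hER l i).1]; simp [Pi.single_apply]
        · rw [QuadraticMap.polar_comm, (hER l i).2]; simp [Pi.single_apply]
        · fin_cases i <;> fin_cases l <;>
            simp only [Fin.zero_eta, Fin.mk_one, Fin.isValue, h01, QuadraticMap.polar_self, h0, h1,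
              QuadraticMap.polar_comm _ (bb (Sum.inr 1)) (bb (Sum.inr 0))] <;>
            simp [Pi.single_apply] <;> ring
    exact not_half_qfMinus hab (half_comp e one_ne_zero (fun v => by rw [one_mul, he]) hU)

/-- An elliptic form with a root is hyperbolic. -/
theorem half_of_root {k : ℕ} {a b t : F} (ht : t ^ 2 + a * t + b = 0) :
    ∃ U : Submodule F (((Fin k ⊕ Fin k) ⊕ Fin 2) → F), Half (qfMinus k F a b) U := by
  let L : (Fin k → F) × F →ₗ[F] (((Fin k ⊕ Fin k) ⊕ Fin 2) → F) :=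
    { toFun := fun x => Sum.elim (Sum.elim x.1 0) ![x.2 * t, x.2]
      map_add' := fun x y => by
        funext i; rcases i with (i | i) | i <;> [simp; simp; (fin_cases i <;> simp [add_mul])]
      map_smul' := fun c x => by
        funext i; rcases i with (i | i) | i <;> [simp; simp; (fin_cases i <;> simp [mul_assoc])] }
  refine ⟨LinearMap.range L, ?_, ?_⟩
  · rintro _ ⟨x, rfl⟩
    simp [qfMinus_apply, quadFormMinus, L]
    linear_combination x.2 ^ 2 * ht
  · rw [LinearMap.finrank_range_of_inj, Module.finrank_prod, Module.finrank_fin_fun, Module.finrank_self,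
      card_iota]
    intro x y h
    refine Prod.ext (funext fun i => congrFun h (Sum.inl (Sum.inl i))) ?_
    simpa [L] using congrFun h (Sum.inr 1)

/-- An elliptic form stays elliptic in odd degree. -/
theorem aniso_of_odd {F₀ : Type*} [Field F₀] {j : F₀ →+* F} {σ : RingAut F}
    (hj : ∀ x, σ x = x ↔ x ∈ j.range) (hσ : Odd (orderOf σ)) {a₀ b₀ : F₀} (hab : Aniso F₀ a₀ b₀) :
    Aniso F (j a₀) (j b₀) := by
  have noroot : ∀ t : F, t ^ 2 + j a₀ * t + j b₀ ≠ 0 := by
    intro t ht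
    have ha : σ (j a₀) = j a₀ := (hj _).2 ⟨_, rfl⟩
    have hb : σ (j b₀) = j b₀ := (hj _).2 ⟨_, rfl⟩
    have ht' := congrArg σ ht
    rw [map_add, map_add, map_pow, map_mul, ha, hb, map_zero] at ht'
    have hz : (σ t - t) * (σ t + t + j a₀) = 0 := by linear_combination ht' - ht
    have hfix : σ t = t := by
      rcases mul_eq_zero.1 hz with h | h
      · exact sub_eq_zero.1 h
      have h1 : σ t = -t - j a₀ := by linear_combination h
      have h2 : ∀ i : ℕ, (σ ^ (2 * i) : RingAut F) t = t := fun i => by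
        induction i with
        | zero => simp
        | succ i ih =>
          rw [show 2 * (i + 1) = 1 + (1 + 2 * i) by ring, pow_add, pow_add, pow_one, RingAut.mul_apply,
            RingAut.mul_apply, ih, h1, map_sub, map_neg, h1, ha]
          ring
      obtain ⟨i, hi⟩ := hσ
      have h3 : (σ ^ orderOf σ : RingAut F) t = t := by rw [pow_orderOf_eq_one]; rfl
      rw [hi, pow_succ', RingAut.mul_apply, h2] at h3
      exact h3
    obtain ⟨t₀, rfl⟩ := (hj t).1 hfix
    exact one_ne_zero (hab t₀ 1 (j.injective (by simpa using ht))).2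
  intro z₁ z₂ h
  by_cases h0 : z₂ = 0
  · subst h0; exact ⟨by simpa using h, rfl⟩
  · exact absurd (by field_simp; linear_combination h : (z₁ / z₂) ^ 2 + j a₀ * (z₁ / z₂) + j b₀ = 0) (noroot _)

section Transport

variable {ι' : Type} [Fintype ι'] [DecidableEq ι'] {Q : QuadraticForm F (ι → F)}
  {Q' : QuadraticForm F (ι' → F)} {n : ℕ}

theorem IsoData.card_eq (D : IsoData Q Q') : Fintype.card ι = Fintype.card ι' :=
  Fintype.card_congr (Matrix.indexEquivOfInv D.MN D.NM).symm

/-- The standing hypotheses pass along an isometry. -/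
theorem EvenSpace.map (H : EvenSpace Q n) (D : IsoData Q Q') : EvenSpace Q' n := by
  have hNq : ∀ w, Q (D.N *ᵥ w) = Q' w := D.symm.quad
  refine ⟨?_, ?_, ?_, D.card_eq ▸ H.card, fun σ => ?_, fun c hc => ?_⟩
  · refine nondegenerate_of_separatingLeft _ fun u hu => ?_
    have h : D.N *ᵥ u = 0 := H.nd.1 _ fun z => by
      have := hu (D.M *ᵥ z)
      rw [QuadraticMap.polarBilin_apply_apply] at this ⊢
      rw [← D.polar, Matrix.mulVec_mulVec, D.MN, Matrix.one_mulVec]
      exact this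
    have := congrArg (D.M *ᵥ ·) h
    simpa [Matrix.mulVec_mulVec, D.MN] using this
  · obtain ⟨a, b, c, hab, hc, hac, hbc, hli⟩ := H.tri
    obtain ⟨ha, hb, hab', hli'⟩ := hab
    have inj : ∀ x, D.M *ᵥ x = 0 → x = 0 := fun x h => by
      have := congrArg (D.N *ᵥ ·) h
      simpa [Matrix.mulVec_mulVec, D.NM] using this
    refine ⟨D.M *ᵥ a, D.M *ᵥ b, D.M *ᵥ c, ⟨by rw [D.quad, ha], by rw [D.quad, hb],
      by rw [D.polar, hab'], fun s t h => hli' s t (inj _ ?_)⟩, by rw [D.quad, hc], by rw [D.polar, hac],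
      by rw [D.polar, hbc], fun s t u h => hli s t u (inj _ ?_)⟩
    · rw [Matrix.mulVec_add, Matrix.mulVec_smul, Matrix.mulVec_smul, h]
    · rw [Matrix.mulVec_add, Matrix.mulVec_add, Matrix.mulVec_smul, Matrix.mulVec_smul, Matrix.mulVec_smul, h]
  · have e : {v : ι' → F // Q' v = 0} ≃ {v : ι → F // Q v = 0} :=
      { toFun := fun v => ⟨D.N *ᵥ v.1, by rw [hNq, v.2]⟩
        invFun := fun v => ⟨D.M *ᵥ v.1, by rw [D.quad, v.2]⟩
        left_inv := fun v => Subtype.ext (by simp [Matrix.mulVec_mulVec, D.MN])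
        right_inv := fun v => Subtype.ext (by simp [Matrix.mulVec_mulVec, D.NM]) }
    intro h
    rw [Nat.card_congr e, ← D.card_eq] at h
    exact H.good h
  · obtain ⟨g, c, hg⟩ := H.lift σ
    refine ⟨Units.mk (D.M * (g : Matrix ι ι F) * D.N.map σ) (D.M.map σ * ((g⁻¹ : GL ι F) : Matrix ι ι F) * D.N)
      ?_ ?_, c, fun w => ?_⟩
    · simp only [Matrix.mul_assoc]
      rw [← Matrix.mul_assoc (D.N.map σ), ← Matrix.map_mul, D.NM, Matrix.map_one _ (map_zero σ) (map_one σ),
        Matrix.one_mul, ← Matrix.mul_assoc (g : Matrix ι ι F), Units.mul_inv, Matrix.one_mul, D.MN]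
    · simp only [Matrix.mul_assoc]
      rw [← Matrix.mul_assoc D.N, D.NM, Matrix.one_mul, ← Matrix.mul_assoc ((g⁻¹ : GL ι F) : Matrix ι ι F),
        Units.inv_mul, Matrix.one_mul, ← Matrix.map_mul, D.MN, Matrix.map_one _ (map_zero σ) (map_one σ)]
    · show Q' ((D.M * (g : Matrix ι ι F) * D.N.map σ) *ᵥ (σ ∘ w)) = _
      have e1 : D.N.map σ *ᵥ (σ ∘ w) = σ ∘ (D.N *ᵥ w) := by
        funext i; simp [Matrix.mulVec, dotProduct, map_sum]
      rw [← Matrix.mulVec_mulVec, e1, ← Matrix.mulVec_mulVec, D.quad]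
      exact (hg _).trans (by rw [hNq])
  · obtain ⟨g, hg⟩ := H.sim c hc
    refine ⟨D.gl g, fun w => ?_⟩
    obtain ⟨v, rfl⟩ := D.surj w
    rw [D.gl_apply, D.quad, D.quad, hg]

end Transport

end Cfsg.Agent.Classical.OrthAut
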