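import Cfsg.Agent.Lib.Classical.OrthPlusSplit

/-!
The model of an involutory graph-field automorphism of the hyperbolic `PΩ`, and the numbers of classes.
-/

set_option autoImplicit false
set_option linter.unusedSectionVars false
set_option quotPrecheck false

namespace Cfsg.Agent.Classical.OrthAut

open Matrix Module Cfsg.Agent.Classical.Descent

section Scalars

variable {F : Type*} [Field F] [Fintype F] {F₀ : Type*} [Field F₀] [Fintype F₀] (j : F₀ →+* F)

theorem ringChar_ne_two {F : Type*} [Field F] (h2 : (2 : F) ≠ 0) : ringChar F ≠ 2 := fun h => h2 (by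
  haveI := ringChar.of_eq h
  exact CharTwo.two_eq_zero)

theorem two_small (j : F₀ →+* F) (h2 : (2 : F) ≠ 0) : (2 : F₀) ≠ 0 := fun h => h2 (by rw [← map_ofNat j, h, map_zero])

variable {j} (hcard : Fintype.card F = Fintype.card F₀ ^ 2) (h2 : (2 : F) ≠ 0)
include hcard h2

theorem exists_half (j : F₀ →+* F) : ∃ u, Fintype.card F₀ = 2 * u + 1 ∧ Fintype.card F / 2 = 2 * (u * (u + 1)) := by
  obtain ⟨u, hu⟩ : Odd (Fintype.card F₀) :=
    Nat.odd_iff.2 (FiniteField.odd_card_of_char_ne_two (ringChar_ne_two (two_small j h2)))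
  refine ⟨u, hu, ?_⟩
  rw [hcard, hu]
  ring_nf
  omega

theorem isSquare_fixed (c : F₀) : IsSquare (j c) := by
  by_cases hc : c = 0
  · exact ⟨0, by rw [hc, map_zero, mul_zero]⟩
  obtain ⟨u, hu, hu'⟩ := exists_half hcard h2 j
  refine (FiniteField.isSquare_iff (ringChar_ne_two h2) (by simpa using hc)).2 ?_
  have h1 : c ^ (2 * u) = 1 := by
    have := FiniteField.pow_card_sub_one_eq_one c hc
    rwa [hu, Nat.add_sub_cancel] at this
  rw [hu', ← map_pow, ← mul_assoc, pow_mul, h1, one_pow, map_one]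

/-- The square root of a rational non-square. -/
theorem sqChar_sqrt {ε : F₀} (hε : ¬ IsSquare ε) {s : Fˣ} (hs : (s : F) * s = j ε) :
    sqChar F s = 1 ↔ Fintype.card F₀ % 4 = 3 := by
  obtain ⟨u, hu, hu'⟩ := exists_half hcard h2 j
  have hε0 : ε ≠ 0 := fun h0 => hε (h0 ▸ IsSquare.zero)
  have h20 := two_small j h2
  have hu2 : Fintype.card F₀ / 2 = u := by omega
  have hεu : ε ^ u = -1 := by
    rcases FiniteField.pow_dichotomy (ringChar_ne_two h20) hε0 with h | h
    · exact absurd ((FiniteField.isSquare_iff (ringChar_ne_two h20) hε0).2 h) hε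
    · rwa [hu2] at h
  rw [sqChar_eq_one_iff, FiniteField.isSquare_iff (ringChar_ne_two h2) s.ne_zero, hu', pow_mul,
    show (s : F) ^ 2 = j ε by rw [sq, hs], pow_mul, ← map_pow, ← map_pow, hεu, map_eq_one_iff j j.injective, hu,
    neg_one_pow_eq_one_iff_even fun h => h20 (by linear_combination -h), Nat.even_iff]
  omega

/-- A norm root of a rational non-square is a non-square. -/
theorem exists_norm_nonsquare {σ : RingAut F} (hσ : orderOf σ = 2) (hj : ∀ x, σ x = x ↔ x ∈ j.range) {ε : F₀}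
    (hε : ¬ IsSquare ε) : ∃ lam : Fˣ, (lam : F) * σ lam = j ε ∧ sqChar F lam = -1 := by
  have hε0 : ε ≠ 0 := fun h0 => hε (h0 ▸ IsSquare.zero)
  have hσσ : ∀ a, σ (σ a) = a := fun a => by
    have h : σ ^ 2 = 1 := hσ ▸ pow_orderOf_eq_one σ
    exact congrArg (fun τ : RingAut F => τ a) (sq σ ▸ h)
  have hσ1 : (σ.toRingHom : F →+* F) ≠ RingHom.id F := fun h => by
    rw [show σ = 1 from RingEquiv.ext fun a => congrArg (fun f : F →+* F => f a) h, orderOf_one] at hσ
    exact absurd hσ (by norm_num)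
  obtain ⟨c, hc : c * σ c = j ε⟩ := exists_norm_eq hσ1 hσσ ((hj (j ε)).2 ⟨ε, rfl⟩) (by simpa using hε0)
  have hc0 : c ≠ 0 := fun h0 => hε0 (j.injective (by rw [map_zero, ← hc, h0, zero_mul]))
  refine ⟨Units.mk0 c hc0, hc, (sqChar_eq_neg_one_iff _).2 ?_⟩
  rintro ⟨μ, hμ : c = μ * μ⟩
  obtain ⟨d, hd⟩ := (hj (μ * σ μ)).1 (by rw [map_mul, hσσ, mul_comm])
  exact hε ⟨d, j.injective (by rw [map_mul, hd, ← hc, hμ, map_mul]; ring)⟩

end Scalars

section Diagonal

variable {F : Type*} [Field F] [Fintype F] {m : ℕ}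

local notation "ιp" => (Fin m ⊕ Fin m)
local notation "Qp" => qfPlus m F
local notation "GOp" => Geo.quadSimilarityGroup (F := F) ⇑(qfPlus m F)

/-- A diagonal similarity. -/
noncomputable def diagSim (m : ℕ) {F : Type*} [Field F] [Fintype F] (lam : Fin m → Fˣ) (c : Fˣ) :
    Geo.quadSimilarityGroup (F := F) ⇑(qfPlus m F) :=
  ⟨Matrix.GeneralLinearGroup.mkOfDetNeZero
      (Matrix.diagonal (Sum.elim (fun i => (lam i : F)) fun i => ((c * (lam i)⁻¹ : Fˣ) : F)))
      (by rw [Matrix.det_diagonal]; exact Finset.prod_ne_zero_iff.2 fun i _ => by cases i <;> simp),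
    c, fun v => by
      show qfPlus m F (Matrix.diagonal _ *ᵥ v) = _
      simp only [qfPlus_apply, quadFormPlus, Matrix.mulVec_diagonal, Sum.elim_inl, Sum.elim_inr,
        Finset.mul_sum, Units.val_mul, Units.val_inv_eq_inv_val]
      exact Finset.sum_congr rfl fun i _ => by field_simp⟩

theorem diagSim_val (lam : Fin m → Fˣ) (c : Fˣ) : ((diagSim m lam c : GOp) : GL ιp F).1 =
    Matrix.diagonal (Sum.elim (fun i => (lam i : F)) fun i => ((c * (lam i)⁻¹ : Fˣ) : F)) := rfl

theorem mu_diagSim (hm : 5 ≤ m) (lam : Fin m → Fˣ) (c : Fˣ) : mu (diagSim m lam c) = c :=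
  (evenSpace_plus (F := F) hm).mu_eq (g := diagSim m lam c) (diagSim m lam c).2.choose_spec |>.trans (by
    obtain ⟨v, hv⟩ := (evenSpace_plus (F := F) hm).exists_one
    refine Units.ext ?_
    have h1 := (diagSim m lam c).2.choose_spec v
    have h2 : qfPlus m F ((diagSim m lam c : GL ιp F).1 *ᵥ v) = (c : F) * qfPlus m F v := by
      rw [diagSim_val]
      simp only [qfPlus_apply, quadFormPlus, Matrix.mulVec_diagonal, Sum.elim_inl, Sum.elim_inr,
        Finset.mul_sum, Units.val_mul, Units.val_inv_eq_inv_val]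
      exact Finset.sum_congr rfl fun i _ => by field_simp
    rw [h2, hv, mul_one, mul_one] at h1
    exact h1.symm)

theorem psgn_diagSim (hm : 5 ≤ m) (h2 : (2 : F) ≠ 0) (lam : Fin m → Fˣ) (c : Fˣ) :
    psgn m (diagSim m lam c) = 1 := by
  refine (psgn_eq_one_iff_det h2 _).2 ?_
  rw [mu_diagSim hm, diagSim_val, Matrix.det_diagonal, Fintype.prod_sum_type, ← Finset.prod_mul_distrib]
  rw [Finset.prod_congr rfl fun i _ => show _ * _ = (c : F) by
    simp only [Sum.elim_inl, Sum.elim_inr, Units.val_mul, Units.val_inv_eq_inv_val]; field_simp]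
  simp

theorem diagSim_torus (lam : Fin m → Fˣ) {c s : Fˣ} (hs : s * s = c) :
    ((diagSim m lam c : GOp) : GL ιp F).1 = (s : F) • ogVal (torus m F fun i => lam i * s⁻¹) := by
  rw [diagSim_val, torus_val, ← Matrix.diagonal_smul]
  congr 1
  funext i
  rcases i with i | i <;> simp [← hs] <;> field_simp

theorem theta_diag (hm : 5 ≤ m) (h2 : (2 : F) ≠ 0) (lam : Fin m → Fˣ) (s : Fˣ) :
    theta Qp (torus m F fun i => lam i * s⁻¹) = (∏ i, sqChar F (lam i)) * sqChar F s ^ m := by
  rw [theta_torus hm h2]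
  simp only [map_mul, map_inv, Int.units_inv_eq_self]
  rw [Finset.prod_mul_distrib, Finset.prod_const, Finset.card_univ, Fintype.card_fin]

theorem sqChar_pow_iff {z : ℤˣ} {n : ℕ} : z ^ n = -1 ↔ z = -1 ∧ Odd n := by
  rcases Int.units_eq_one_or z with rfl | rfl
  · simp
  · rcases n.even_or_odd with h | h
    · rw [h.neg_one_pow]; simp [Nat.not_odd_iff_even.2 h]
    · rw [h.neg_one_pow]; simp [h]

end Diagonal

section Model

variable {F : Type*} [Field F] [Fintype F] {k : ℕ}

local notation "ιp" => (Fin (k + 1) ⊕ Fin (k + 1))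
local notation "ιm" => ((Fin k ⊕ Fin k) ⊕ Fin 2)

/-- The change of coordinates of the model. -/
noncomputable def modelMap {t t' : F} (h : t ≠ t') : (ιm → F) ≃ₗ[F] (ιp → F) :=
  { toFun := fun w => Sum.elim (Fin.cons (w (Sum.inr 0) + t * w (Sum.inr 1)) fun i => w (Sum.inl (Sum.inl i)))
      (Fin.cons (w (Sum.inr 0) + t' * w (Sum.inr 1)) fun i => w (Sum.inl (Sum.inr i)))
    map_add' := fun u w => by
      funext i; rcases i with i | i <;> refine Fin.cases ?_ (fun l => ?_) i <;> simp <;> ring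
    map_smul' := fun c w => by
      funext i; rcases i with i | i <;> refine Fin.cases ?_ (fun l => ?_) i <;> simp <;> ring
    invFun := fun v => Sum.elim (Sum.elim (fun i => v (Sum.inl i.succ)) fun i => v (Sum.inr i.succ))
      ![v (Sum.inl 0) - t * ((v (Sum.inl 0) - v (Sum.inr 0)) / (t - t')),
        (v (Sum.inl 0) - v (Sum.inr 0)) / (t - t')]
    left_inv := fun w => by
      have : t - t' ≠ 0 := sub_ne_zero.2 h
      funext i
      rcases i with (i | i) | i
      · simp
      · simp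
      · fin_cases i <;> simp <;> field_simp <;> ring
    right_inv := fun v => by
      have : t - t' ≠ 0 := sub_ne_zero.2 h
      funext i
      rcases i with i | i <;> refine Fin.cases ?_ (fun l => ?_) i <;> simp <;> field_simp <;> ring }

theorem modelMap_quad {t t' : F} (h : t ≠ t') (w : ιm → F) :
    qfPlus (k + 1) F (modelMap h w) = qfMinus k F (t + t') (t * t') w := by
  simp [qfPlus_apply, quadFormPlus, qfMinus_apply, quadFormMinus, modelMap, Fin.sum_univ_succ]
  ring

variable {t : F} {σ : RingAut F} (ht : σ t ≠ t)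

/-- The model of the graph-field standard. -/
noncomputable def model : IsoData (qfPlus (k + 1) F) (qfMinus k F (t + σ t) (t * σ t)) where
  M := LinearMap.toMatrix' (modelMap (k := k) ht.symm).symm.toLinearMap
  N := LinearMap.toMatrix' (modelMap (k := k) ht.symm).toLinearMap
  MN := by
    rw [← LinearMap.toMatrix'_comp, LinearEquiv.comp_coe, LinearEquiv.self_trans_symm]
    exact LinearMap.toMatrix'_id
  NM := by
    rw [← LinearMap.toMatrix'_comp, LinearEquiv.comp_coe, LinearEquiv.symm_trans_self]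
    exact LinearMap.toMatrix'_id
  quad v := by
    rw [LinearMap.toMatrix'_mulVec, ← modelMap_quad ht.symm, LinearEquiv.coe_coe, LinearEquiv.apply_symm_apply]

theorem model_N (w : ιm → F) : (model (k := k) ht).N *ᵥ w = modelMap ht.symm w :=
  LinearMap.toMatrix'_mulVec _ _

theorem stdRefl_apply (v : ιp → F) :
    ogVal (refl (stdVec_ne (m := k + 1) (F := F))) *ᵥ v =
      v + (v (Sum.inr 0) - v (Sum.inl 0)) • stdVec (k + 1) F := by
  rw [refl_apply, qfPlus_stdVec]
  have hB : QuadraticMap.polar (⇑(qfPlus (k + 1) F)) (stdVec (k + 1) F) v = v (Sum.inr 0) - v (Sum.inl 0) := by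
    rw [polar_qfPlus, Finset.sum_eq_single (0 : Fin (k + 1))]
    · simp [stdVec, Pi.single_apply]; ring
    · intro l _ hl; simp [stdVec, Pi.single_apply, hl]
    · simp
  rw [hB, inv_neg, inv_one, neg_one_mul, neg_smul, sub_neg_eq_add]

variable (hσ : orderOf σ = 2)
include hσ

theorem model_N_map : (model (k := k) ht).N.map σ =
    ogVal (refl (stdVec_ne (m := k + 1) (F := F))) * (model (k := k) ht).N := by
  have hσσ : σ (σ t) = t := by
    have h : σ ^ 2 = 1 := hσ ▸ pow_orderOf_eq_one σ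
    exact congrArg (fun τ : RingAut F => τ t) (sq σ ▸ h)
  refine Matrix.ext_iff_mulVec.2 fun w => ?_
  obtain ⟨z, rfl⟩ : ∃ z : ιm → F, σ ∘ z = w := ⟨σ.symm ∘ w, funext fun i => σ.apply_symm_apply _⟩
  rw [show (model (k := k) ht).N.map σ *ᵥ (σ ∘ z) = σ ∘ ((model (k := k) ht).N *ᵥ z) by
      funext i; simp [Matrix.mulVec, dotProduct, map_sum],
    ← Matrix.mulVec_mulVec, model_N, model_N, stdRefl_apply]
  funext i
  rcases i with i | i <;> refine Fin.cases ?_ (fun l => ?_) i <;>
    simp [modelMap, stdVec, hσσ, Fin.succ_ne_zero]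

theorem model_M_map : (model (k := k) ht).M.map σ =
    (model (k := k) ht).M * ogVal (refl (stdVec_ne (m := k + 1) (F := F))) := by
  set D := model (k := k) ht
  set R := ogVal (refl (stdVec_ne (m := k + 1) (F := F)))
  have hR : R * R = 1 := by
    show ogVal (refl _) * ogVal (refl _) = 1
    rw [← ogVal_mul, refl_mul_self, ogVal_one]
  have h1 : D.M.map σ * (R * D.N) = 1 := by
    rw [← model_N_map ht hσ, ← Matrix.map_mul, D.MN, Matrix.map_one _ (map_zero σ) (map_one σ)]
  calc D.M.map σ = D.M.map σ * (R * ((D.N * D.M) * R)) := by rw [D.NM, Matrix.one_mul, hR, Matrix.mul_one]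
    _ = (D.M.map σ * (R * D.N)) * (D.M * R) := by simp only [Matrix.mul_assoc]
    _ = D.M * R := by rw [h1, Matrix.one_mul]

set_option maxHeartbeats 1000000 in
/-- The graph-field standard is the field standard of the model. -/
theorem model_aut (hR' : RatAt (qfMinus k F (t + σ t) (t * σ t)) σ) :
    (model (k := k) ht).aut (goHom (qfPlus (k + 1) F) (stdRefl (k + 1) F) *
      fld (rat_qfPlus.ratAt σ)) = fld hR' := by
  set D := model (k := k) ht
  refine MulEquiv.ext fun x => ?_
  obtain ⟨u, rfl⟩ := omPi_surjective (Q := qfMinus k F (t + σ t) (t * σ t)) x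
  obtain ⟨s, rfl⟩ := D.om.surjective u
  show D.po ((goHom (qfPlus (k + 1) F) (stdRefl (k + 1) F) * fld (rat_qfPlus.ratAt σ) :
      MulAut (POmega F ⇑(qfPlus (k + 1) F))) (D.po.symm (omPi (D.om s)))) =
    fld hR' (omPi (D.om s))
  rw [← D.po_pi s, MulEquiv.symm_apply_apply, D.po_pi s, MulAut.mul_apply, fld, poSemi_pi, goHom_apply,
    poSemi_pi, fld, poSemi_pi, D.po_pi]
  refine congrArg omPi (omVal_ext ?_)
  show D.M * omVal (omSemi (isPair_refl (stdRefl (k + 1) F).2) (omSemi (isPair_fld (rat_qfPlus.ratAt σ)) s)) * D.N =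
    omVal (omSemi (isPair_fld hR') (D.om s))
  rw [omSemi_coe, omSemi_coe, omSemi_coe, show ∀ A : Matrix ιp ιp F, A.map (RingEquiv.refl F) = A from
    fun A => Matrix.map_id A]
  simp only [inv_one, Units.val_one, Matrix.one_mul, Matrix.mul_one]
  show D.M * (ogVal (refl (stdVec_ne (m := k + 1) (F := F))) * (omVal s).map σ *
    ogVal (refl (stdVec_ne (m := k + 1) (F := F)))⁻¹) * D.N = (D.M * omVal s * D.N).map σ
  rw [inv_eq_of_mul_eq_one_right (refl_mul_self (stdVec_ne (m := k + 1) (F := F))), Matrix.map_mul,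
    Matrix.map_mul, model_M_map ht hσ, model_N_map ht hσ]
  simp only [Matrix.mul_assoc]
  rfl

end Model

end Cfsg.Agent.Classical.OrthAut
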