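import Cfsg.Agent.Lib.Classical.OrthMinusModel

/-!
The sign of a similarity of an even-dimensional form, and the inner-diagonal automorphisms.
-/

set_option autoImplicit false
set_option linter.unusedSectionVars false
set_option quotPrecheck false

namespace Cfsg.Agent.Classical.OrthAut

open Matrix Module Cfsg.Agent.Classical.Descent

variable {F : Type*} [Field F] [Fintype F] {ι : Type} [Fintype ι] [DecidableEq ι]
  {Q : QuadraticForm F (ι → F)} {n : ℕ}

local notation "Mn" => Matrix ι ι F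
local notation "OG" => isometryGroup F ⇑Q
local notation "PQ" => POmega F ⇑Q
local notation "GO" => Geo.quadSimilarityGroup (F := F) ⇑Q

/-- An isometry as a similarity. -/
def ogToGO (Q : QuadraticForm F (ι → F)) : isometryGroup F ⇑Q →* Geo.quadSimilarityGroup (F := F) ⇑Q :=
  (isometryGroup F ⇑Q).subtype.codRestrict _ fun g => isometry_mem_go g

theorem ogHom_eq : ogHom Q = (goHom Q).comp (ogToGO Q) := rfl

theorem go_ext {g k : GO} (h : ((g : GL ι F) : Mn) = ((k : GL ι F) : Mn)) : g = k :=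
  Subtype.ext (Units.ext h)

/-- The multiplier of a similarity. -/
noncomputable def mu (g : Geo.quadSimilarityGroup (F := F) ⇑Q) : Fˣ := pmul (isPair_refl g.2)

theorem mu_spec (g : GO) (v : ι → F) :
    Q (((g : GL ι F) : Mn) *ᵥ v) = (mu g : F) * Q v := pmul_spec (isPair_refl g.2) v

theorem two_cast_ne {F : Type*} [Field F] (h2 : (2 : F) ≠ 0) (x : F) (hx : x ≠ 0) : x ≠ -x := fun e => hx (by
  have : (2 : F) * x = 0 := by linear_combination e
  exact (mul_eq_zero.1 this).resolve_left h2)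

namespace EvenSpace

variable (H : EvenSpace Q n)
include H

theorem mu_eq {g : GO} {d : Fˣ} (hd : ∀ v, Q (((g : GL ι F) : Mn) *ᵥ v) = (d : F) * Q v) : mu g = d :=
  H.pmul_eq _ hd

theorem mu_mul (g k : GO) : mu (g * k) = mu g * mu k := H.mu_eq fun v => by
  rw [Subgroup.coe_mul, Units.val_mul, ← Matrix.mulVec_mulVec, mu_spec, mu_spec, Units.val_mul, mul_assoc]

theorem mu_og (h : OG) : mu (ogToGO Q h) = 1 := H.mu_eq fun v => by
  rw [Units.val_one, one_mul]; exact ogVal_quad h v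

/-- The multiplier as a homomorphism. -/
noncomputable def muHom : GO →* Fˣ := MonoidHom.mk' mu H.mu_mul

theorem det_similitude (g : GO) :
    ((g : GL ι F) : Mn).det = (mu g : F) ^ n ∨ ((g : GL ι F) : Mn).det = -(mu g : F) ^ n := by
  have h := det_sq_similarity H.nd (fun v => mu_spec g v)
  rw [H.card, mul_comm 2 n, pow_mul] at h
  exact sq_eq_sq_iff_eq_or_eq_neg.1 h

end EvenSpace

theorem exists_sqrt_two (h2 : (2 : F) = 0) (c : F) : ∃ s : F, s * s = c := by
  haveI : CharP F 2 := CharTwo.of_one_ne_zero_of_two_eq_zero one_ne_zero h2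
  obtain ⟨s, hs⟩ := FiniteField.isSquare_of_char_two (ringChar.eq F 2) c
  exact ⟨s, hs.symm⟩

theorem sq_inj_two (h2 : (2 : F) = 0) {s t : F} (h : s * s = t * t) : s = t := by
  rcases mul_self_eq_mul_self_iff.1 h with e | e
  · exact e
  · rw [e]; linear_combination -t * h2

theorem exists_norm_iso (h2 : (2 : F) = 0) (g : GO) :
    ∃ (s : F) (h : OG), s * s = mu g ∧ ((g : GL ι F) : Mn) = s • ogVal h := by
  obtain ⟨s, hs⟩ := exists_sqrt_two h2 (mu g : F)
  have hs0 : s ≠ 0 := fun h0 => (mu g).ne_zero (by rw [← hs, h0, mul_zero])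
  refine ⟨s, mkIsometry (s⁻¹ • ((g : GL ι F) : Mn)) (by
    rw [Matrix.det_smul]; exact mul_ne_zero (pow_ne_zero _ (inv_ne_zero hs0)) (g : GL ι F).det_ne_zero)
    fun v => ?_, hs, ?_⟩
  · rw [Matrix.smul_mulVec, QuadraticMap.map_smul, mu_spec, ← hs, smul_eq_mul]
    field_simp
  · show _ = s • (s⁻¹ • _)
    rw [smul_smul, mul_inv_cancel₀ hs0, one_smul]

/-- The sign of a similarity. -/
noncomputable def psgn (n : ℕ) (g : Geo.quadSimilarityGroup (F := F) ⇑Q) : ℤˣ := by
  classical exact if h2 : (2 : F) = 0 then dick (exists_norm_iso h2 g).choose_spec.choose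
    else if ((g : GL ι F) : Mn).det = (mu g : F) ^ n then 1 else -1

theorem psgn_eq_one_iff_det (h2 : (2 : F) ≠ 0) (g : GO) :
    psgn n g = 1 ↔ ((g : GL ι F) : Mn).det = (mu g : F) ^ n := by
  classical
  rw [psgn, dif_neg h2]
  split_ifs with h
  · simp [h]
  · exact iff_of_false (by decide) h

namespace EvenSpace

variable (H : EvenSpace Q n)
include H

theorem psgn_eq_dick (h2 : (2 : F) = 0) {g : GO} {s : F} {h : OG}
    (hgh : ((g : GL ι F) : Mn) = s • ogVal h) : psgn n g = dick h := by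
  classical
  rw [psgn, dif_pos h2]
  obtain ⟨hs, hg⟩ := (exists_norm_iso h2 g).choose_spec.choose_spec
  set h' := (exists_norm_iso h2 g).choose_spec.choose
  set s' := (exists_norm_iso h2 g).choose
  have hs' : s * s = mu g := by
    obtain ⟨v, hv⟩ := H.exists_one
    have := mu_spec g v
    rw [hgh, Matrix.smul_mulVec, QuadraticMap.map_smul, ogVal_quad, hv, smul_eq_mul, mul_one, mul_one] at this
    exact this
  obtain rfl : s' = s := sq_inj_two h2 (hs.trans hs'.symm)
  have hs0 : s' ≠ 0 := fun h0 => (mu g).ne_zero (by rw [← hs, h0, mul_zero])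
  rw [show h' = h from ogVal_ext (smul_right_injective Mn hs0 (hg.symm.trans hgh))]

theorem psgn_mul (g k : GO) : psgn n (g * k) = psgn n g * psgn n k := by
  classical
  by_cases h2 : (2 : F) = 0
  · obtain ⟨s, h, -, hg⟩ := exists_norm_iso h2 g
    obtain ⟨t, l, -, hk⟩ := exists_norm_iso h2 k
    rw [H.psgn_eq_dick h2 hg, H.psgn_eq_dick h2 hk, ← dick_mul H.nd H.tri,
      H.psgn_eq_dick h2 (g := g * k) (s := s * t) (h := h * l)]
    rw [Subgroup.coe_mul, Units.val_mul, hg, hk, ogVal_mul, Matrix.smul_mul, Matrix.mul_smul, smul_smul]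
  · have hne : ∀ x : GO, (mu x : F) ^ n ≠ -(mu x : F) ^ n := fun x =>
      two_cast_ne h2 _ (pow_ne_zero _ (mu x).ne_zero)
    have key : ∀ x : GO, ((x : GL ι F) : Mn).det = ((psgn n x : ℤˣ) : ℤ) * (mu x : F) ^ n := fun x => by
      rw [psgn, dif_neg h2]
      rcases H.det_similitude x with e | e
      · rw [if_pos e]; simpa using e
      · rw [if_neg (fun e' => hne x (e'.symm.trans e))]; simpa using e
    have h := key (g * k)
    rw [Subgroup.coe_mul, Units.val_mul, Matrix.det_mul, key g, key k, H.mu_mul, Units.val_mul, mul_pow] at h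
    have h' : (((psgn n g * psgn n k : ℤˣ) : ℤ) : F) * ((mu g : F) ^ n * (mu k : F) ^ n) =
        (((psgn n (g * k) : ℤˣ) : ℤ) : F) * ((mu g : F) ^ n * (mu k : F) ^ n) := by
      rw [← h]; push_cast; ring
    have h'' := mul_right_cancel₀ (mul_ne_zero (pow_ne_zero _ (mu g).ne_zero) (pow_ne_zero _ (mu k).ne_zero)) h'
    rcases Int.units_eq_one_or (psgn n (g * k)) with e | e <;>
      rcases Int.units_eq_one_or (psgn n g * psgn n k) with e' | e' <;> rw [e, e'] at h'' ⊢ <;>
      exact absurd h'' (by simpa using fun h3 => h2 (by first | linear_combination h3 | linear_combination -h3))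

/-- The sign as a homomorphism. -/
noncomputable def psgnHom : GO →* ℤˣ := MonoidHom.mk' (psgn n) H.psgn_mul

theorem psgn_og (h : OG) : psgn n (ogToGO Q h) = dick h := by
  by_cases h2 : (2 : F) = 0
  · exact H.psgn_eq_dick h2 (s := 1) (by rw [one_smul]; rfl)
  · have hd : ((((ogToGO Q h : GO) : GL ι F)) : Mn).det = (((dick h : ℤˣ) : ℤ) : F) :=
      det_eq_dick H.nd H.tri h
    rcases Int.units_eq_one_or (dick h) with e | e <;> rw [e] at hd ⊢
    · refine (psgn_eq_one_iff_det h2 _).2 ?_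
      rw [H.mu_og, Units.val_one, one_pow, hd]; simp
    · refine (Int.units_eq_one_or _).resolve_left fun h' => ?_
      have := (psgn_eq_one_iff_det h2 _).1 h'
      rw [H.mu_og, Units.val_one, one_pow, hd] at this
      exact h2 (by simp at this; linear_combination -this)

theorem psgn_refl {v : ι → F} (hv : Q v ≠ 0) : psgn n (ogToGO Q (refl hv)) = -1 := by
  rw [H.psgn_og, dick_refl H.nd hv]

theorem psgn_scalar {g : GO} {c : F} (hg : ((g : GL ι F) : Mn) = c • 1) : psgn n g = 1 := by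
  by_cases h2 : (2 : F) = 0
  · rw [H.psgn_eq_dick h2 (s := c) (h := 1) (by rw [ogVal_one]; exact hg), dick_one]
  · refine (psgn_eq_one_iff_det h2 _).2 ?_
    obtain ⟨v, hv⟩ := H.exists_one
    have := mu_spec g v
    rw [hg, Matrix.smul_mulVec, Matrix.one_mulVec, QuadraticMap.map_smul, hv, smul_eq_mul, mul_one, mul_one] at this
    rw [hg, Matrix.det_smul, Matrix.det_one, mul_one, H.card, pow_mul, sq, this]

theorem exists_rat_improper {v : ι → F} (hv : Q v ≠ 0) (g : GO) :
    psgn n g = 1 ∨ psgn n (g * ogToGO Q (refl hv)) = 1 := by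
  rcases Int.units_eq_one_or (psgn n g) with e | e
  · exact Or.inl e
  · exact Or.inr (by rw [H.psgn_mul, e, H.psgn_refl hv]; rfl)

/-- The automorphisms induced by similarities of sign one. -/
noncomputable def diagAut : Subgroup (MulAut PQ) := H.psgnHom.ker.map (goHom Q)

theorem mem_diagAut {β : MulAut PQ} : β ∈ H.diagAut ↔ ∃ g : GO, psgn n g = 1 ∧ goHom Q g = β := Iff.rfl

theorem goHom_mem_diagAut_iff (g : GO) : goHom Q g ∈ H.diagAut ↔ psgn n g = 1 := by
  refine ⟨?_, fun h => ⟨g, h, rfl⟩⟩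
  rintro ⟨k, hk, e⟩
  obtain ⟨-, c, hc⟩ := poSemi_eq_one H.nd H.tri H.good (isPair_refl (g * k⁻¹).2) (by
    rw [← goHom_apply, map_mul, map_inv, e, mul_inv_cancel])
  have h1 := H.psgn_scalar (g := g * k⁻¹) hc
  rwa [H.psgn_mul, show psgn n k⁻¹ = 1 from (map_inv H.psgnHom k).trans (by rw [show H.psgnHom k = 1 from hk, inv_one]),
    mul_one] at h1

theorem inn_le_diagAut : Inn PQ ≤ H.diagAut := by
  rw [inn_eq_map]
  rintro _ ⟨g, hg, rfl⟩
  exact ⟨ogToGO Q g, (H.psgn_og g).trans ((Abelianization.commutator_subset_ker (dickHom H.nd H.tri)) hg), rfl⟩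

theorem autSubgroupOf_eq {P : PQ ≃* PQ → Prop}
    (hP : ∀ β : MulAut PQ, P β ↔ ∃ g : GO, psgn n g = 1 ∧ goHom Q g = β) :
    autSubgroupOf P = H.diagAut :=
  le_antisymm ((Subgroup.closure_le _).2 fun β hβ => (hP β).1 hβ)
    fun β hβ => Subgroup.subset_closure ((hP β).2 hβ)

theorem induced_pred {C : Mn → Prop}
    (hC : ∀ g : GO, C ((g : GL ι F) : Mn) ↔ psgn n g = 1) (β : MulAut PQ) :
    (∃ g : GL ι F, g ∈ Geo.quadSimilarityGroup (F := F) ⇑Q ∧ C (g : Mn) ∧
      IsInducedBySemilinearPOmega (⇑Q) g (RingEquiv.refl F) β) ↔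
      ∃ g : GO, psgn n g = 1 ∧ goHom Q g = β :=
  ⟨fun ⟨g, hg, hc, hβ⟩ => ⟨⟨g, hg⟩, (hC ⟨g, hg⟩).1 hc, ((induced_iff (isPair_refl hg)).1 hβ).symm⟩,
    fun ⟨g, hg, hβ⟩ => ⟨g, g.2, (hC g).2 hg, hβ ▸ poSemi_induced _⟩⟩

end EvenSpace

/-! ### The models -/

theorem evenSpace_plus {m : ℕ} (hm : 5 ≤ m) : EvenSpace (qfPlus m F) m := by
  refine ⟨nondegenerate_qfPlus m, tri_qfPlus (by omega), good_qfPlus hm, by simp; omega,
    fun σ => ⟨1, 1, fun v => ?_⟩, fun c hc => ?_⟩
  · simp [qfPlus_apply, quadFormPlus, map_sum]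
  · refine ⟨Matrix.GeneralLinearGroup.mkOfDetNeZero
      (Matrix.diagonal (Sum.elim (fun _ => (1 : F)) fun _ => c)) ?_, fun v => ?_⟩
    · rw [Matrix.det_diagonal, Finset.prod_ne_zero_iff]
      rintro (i | i) - <;> simp [hc]
    · show qfPlus m F (Matrix.diagonal _ *ᵥ v) = _
      simp only [qfPlus_apply, quadFormPlus, Matrix.mulVec_diagonal, Sum.elim_inl, Sum.elim_inr, one_mul,
        Finset.mul_sum]
      exact Finset.sum_congr rfl fun i _ => by ring

/-- The span of the first half. -/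
def plusHalf (m : ℕ) (F : Type*) [Field F] : Submodule F (Fin m ⊕ Fin m → F) :=
  LinearMap.ker (LinearMap.funLeft F F (Sum.inr : Fin m → Fin m ⊕ Fin m))

theorem half_plusHalf (m : ℕ) : Half (qfPlus m F) (plusHalf m F) := by
  refine ⟨fun u hu => ?_, ?_⟩
  · rw [qfPlus_apply, quadFormPlus]
    exact Finset.sum_eq_zero fun i _ => by
      rw [show u (Sum.inr i) = 0 from congrFun (LinearMap.mem_ker.1 hu) i, mul_zero]
  · have h := LinearMap.finrank_range_add_finrank_ker
      (LinearMap.funLeft F F (Sum.inr : Fin m → Fin m ⊕ Fin m))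
    rw [LinearMap.range_eq_top.2 (LinearMap.funLeft_surjective_of_injective F F _ Sum.inr_injective),
      finrank_top, Module.finrank_pi, Module.finrank_pi] at h
    simp only [Fintype.card_sum, Fintype.card_fin] at h ⊢
    show 2 * finrank F ↥(plusHalf m F) = _
    unfold plusHalf
    omega

theorem preserves_plus_iff {m : ℕ} (hm : 5 ≤ m) (g : Geo.quadSimilarityGroup (F := F) ⇑(qfPlus m F)) :
    PreservesSingularClasses (quadFormPlus m F) ((g : GL (Fin m ⊕ Fin m) F) : Matrix _ _ F) ↔ psgn m g = 1 := by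
  classical
  have H := evenSpace_plus (F := F) hm
  have hU := half_plusHalf (F := F) m
  rw [← coe_qfPlus, preserves_iff H.nd H.tri hU (mu g).ne_zero (fun v => mu_spec g v)]
  set c : F := ((mu g : Fˣ) : F)
  set D : Matrix (Fin m ⊕ Fin m) (Fin m ⊕ Fin m) F := Matrix.diagonal (Sum.elim (fun _ => (1 : F)) fun _ => c)
  have hdet : D.det = c ^ m := by
    rw [Matrix.det_diagonal, Fintype.prod_sum_type]; simp
  have hD : D.det ≠ 0 := by rw [hdet]; exact pow_ne_zero _ (mu g).ne_zero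
  set d : GL (Fin m ⊕ Fin m) F := Matrix.GeneralLinearGroup.mkOfDetNeZero D hD
  have hDq : ∀ v, qfPlus m F (D *ᵥ v) = c * qfPlus m F v := fun v => by
    simp only [D, qfPlus_apply, quadFormPlus, Matrix.mulVec_diagonal, Sum.elim_inl, Sum.elim_inr, one_mul,
      Finset.mul_sum]
    exact Finset.sum_congr rfl fun i _ => by ring
  set d' : Geo.quadSimilarityGroup (F := F) ⇑(qfPlus m F) := ⟨d, mu g, hDq⟩
  have himg : imageSubmodule D (plusHalf m F) = plusHalf m F := by
    refine Submodule.eq_of_le_of_finrank_le (fun x hx => ?_) ?_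
    · obtain ⟨u, hu, rfl⟩ := mem_imageSubmodule.1 hx
      refine LinearMap.mem_ker.2 (funext fun i => ?_)
      show (D *ᵥ u) (Sum.inr i) = 0
      rw [Matrix.mulVec_diagonal, show u (Sum.inr i) = 0 from congrFun (LinearMap.mem_ker.1 hu) i, mul_zero]
    · exact ((finrank_imageSubmodule d (plusHalf m F)).ge)
  -- `g = h · d`
  have hmd : mu d' = mu g := H.mu_eq hDq
  obtain ⟨h, hh⟩ : ∃ h : isometryGroup F ⇑(qfPlus m F), ogToGO _ h = g * d'⁻¹ := by
    refine ⟨⟨((g * d'⁻¹ : Geo.quadSimilarityGroup (F := F) ⇑(qfPlus m F)) : GL _ F),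
      mem_isometryGroup.2 fun v => ?_⟩, rfl⟩
    have hm1 : mu (g * d'⁻¹) = 1 := by
      have := H.mu_mul (g * d'⁻¹) d'
      rw [inv_mul_cancel_right, hmd] at this
      exact mul_eq_right.1 this.symm
    rw [mu_spec, hm1, Units.val_one, one_mul]
  have hg : g = ogToGO _ h * d' := by rw [hh, inv_mul_cancel_right]
  have hsd : psgn m d' = 1 := by
    by_cases h2 : (2 : F) = 0
    · obtain ⟨s, k, -, hk⟩ := exists_norm_iso h2 d'
      have hs0 : s ≠ 0 := fun h0 => hD (by
        haveI : Nonempty (Fin m ⊕ Fin m) := ⟨Sum.inl ⟨0, by omega⟩⟩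
        rw [show D = _ from hk, h0, zero_smul, Matrix.det_zero])
      rw [H.psgn_eq_dick h2 hk, ← pSign_scalar_mul H.nd H.tri hU hs0 hk]
      show pSign _ (imageSubmodule D _) = 1
      rw [himg, pSign_self]
    · exact (psgn_eq_one_iff_det h2 _).2 (by rw [hmd]; exact hdet)
  rw [show psgn m g = dick h by rw [hg, H.psgn_mul, hsd, mul_one, H.psgn_og],
    show ((g : GL (Fin m ⊕ Fin m) F) : Matrix _ _ F) = ogVal h * D by rw [hg]; rfl,
    imageSubmodule_mul, himg, pSign_image H.nd H.tri hU hU, pSign_self, mul_one]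

theorem inndiag_plus_eq {m : ℕ} (hm : 5 ≤ m) :
    autSubgroupOf (fun β : POmega F ⇑(qfPlus m F) ≃* POmega F ⇑(qfPlus m F) =>
      ∃ g : GL (Fin m ⊕ Fin m) F, g ∈ Geo.quadSimilarityGroup (F := F) ⇑(qfPlus m F) ∧
        PreservesSingularClasses (quadFormPlus m F) (g : Matrix (Fin m ⊕ Fin m) (Fin m ⊕ Fin m) F) ∧
        IsInducedBySemilinearPOmega (⇑(qfPlus m F)) g (RingEquiv.refl F) β) =
      (evenSpace_plus (F := F) hm).diagAut :=
  (evenSpace_plus hm).autSubgroupOf_eq ((evenSpace_plus hm).induced_pred (preserves_plus_iff hm))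

universe u

theorem preserves_minus_iff {F : Type u} [Field F] [Fintype F] {m : ℕ} {a b : F} (hm : 3 ≤ m)
    (hab : Aniso F a b) (g : Geo.quadSimilarityGroup (F := F) ⇑(qfMinus m F a b)) :
    PreservesSingularClassesMinus m a b ((g : GL ((Fin m ⊕ Fin m) ⊕ Fin 2) F) : Matrix _ _ F) ↔
      psgn (m + 1) g = 1 := by
  have H := evenSpace_minus hm hab
  by_cases h2 : (2 : F) = 0
  · obtain ⟨s, h, hs, hg⟩ := exists_norm_iso h2 g
    rw [presMinus_iff_dick hm hab (mu g).ne_zero hs (fun v => mu_spec g v) hg, H.psgn_eq_dick h2 hg]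
  · rw [presMinus_iff_det hm hab h2 (mu g).ne_zero (fun v => mu_spec g v), psgn_eq_one_iff_det h2]

theorem inndiag_minus_eq {F : Type u} [Field F] [Fintype F] {m : ℕ} {a b : F} (hm : 3 ≤ m)
    (hab : Aniso F a b) :
    autSubgroupOf (fun β : POmega F ⇑(qfMinus m F a b) ≃* POmega F ⇑(qfMinus m F a b) =>
      ∃ g : GL ((Fin m ⊕ Fin m) ⊕ Fin 2) F, g ∈ Geo.quadSimilarityGroup (F := F) ⇑(qfMinus m F a b) ∧
        PreservesSingularClassesMinus m a b
          (g : Matrix ((Fin m ⊕ Fin m) ⊕ Fin 2) ((Fin m ⊕ Fin m) ⊕ Fin 2) F) ∧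
        IsInducedBySemilinearPOmega (⇑(qfMinus m F a b)) g (RingEquiv.refl F) β) =
      (evenSpace_minus hm hab).diagAut :=
  (evenSpace_minus hm hab).autSubgroupOf_eq ((evenSpace_minus hm hab).induced_pred (preserves_minus_iff hm hab))

end Cfsg.Agent.Classical.OrthAut
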