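import Cfsg.Agent.Lib.Classical.OrthMinusOut
import Cfsg.Agent.Lib.Classical.OrthPlusField
import Cfsg.Agent.Lib.Classical.OrthSign

/-!
`Out` of an even-dimensional `PΩ(Q)` whose form commutes with the field automorphisms, and the
hyperbolic model.
-/

set_option autoImplicit false
set_option linter.unusedSectionVars false
set_option quotPrecheck false

namespace Cfsg.Agent.Classical.OrthAut

open Matrix Module Cfsg.Agent.Classical.Descent

section General

variable {F : Type*} [Field F] [Fintype F] {ι : Type} [Fintype ι] [DecidableEq ι]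
  {Q : QuadraticForm F (ι → F)} {n : ℕ}

local notation "Mn" => Matrix ι ι F
local notation "PQ" => POmega F ⇑Q
local notation "GO" => Geo.quadSimilarityGroup (F := F) ⇑Q

/-- A similitude with fixed entries commutes with the standard field automorphisms. -/
theorem fieldHom_commute (hR : Rat Q) (σ : RingAut F) (g : GO) (hg : gmap σ (g : GL ι F) = g) :
    Commute (fieldHom hR σ) (goHom Q g) := by
  show poSemi (isPair_std hR σ) * poSemi (isPair_refl g.2) =
    poSemi (isPair_refl g.2) * poSemi (isPair_std hR σ)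
  rw [poSemi_mul (isPair_std hR σ) (isPair_refl g.2), poSemi_mul (isPair_refl g.2) (isPair_std hR σ)]
  exact poSemi_congr _ _ (by rw [one_mul, hg, map_one, mul_one]) (RingEquiv.ext fun _ => rfl)

/-- A reflection in a fixed vector has fixed entries. -/
theorem gmap_refl_fixed (hR : Rat Q) {v : ι → F} (hv : Q v ≠ 0) (σ : RingAut F)
    (hσ : (σ : F ≃+* F) ∘ v = v) :
    gmap σ (refl hv : GL ι F) = (refl hv : GL ι F) := by
  refine Units.ext (Matrix.ext_iff_mulVec.2 fun x => ?_)
  obtain ⟨y, rfl⟩ : ∃ y : ι → F, (σ : F ≃+* F) ∘ y = x :=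
    ⟨(σ : F ≃+* F).symm ∘ x, funext fun i => (σ : F ≃+* F).apply_symm_apply (x i)⟩
  show (ogVal (refl hv)).map (σ : F ≃+* F) *ᵥ ((σ : F ≃+* F) ∘ y) = ogVal (refl hv) *ᵥ ((σ : F ≃+* F) ∘ y)
  rw [map_comp_mulVec, refl_apply, refl_apply]
  have hadd : (σ : F ≃+* F) ∘ (v + y) = v + (σ : F ≃+* F) ∘ y := funext fun i => by
    simp [show σ (v i) = v i from congrFun hσ i]
  have hB : QuadraticMap.polar ⇑Q v ((σ : F ≃+* F) ∘ y) = σ (QuadraticMap.polar ⇑Q v y) := by
    rw [QuadraticMap.polar, QuadraticMap.polar, ← hadd, hR σ (v + y), hR σ y, map_sub, map_sub,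
      show σ (Q v) = Q v by rw [← hR, hσ]]
  have hQv : σ (Q v) = Q v := by rw [← hR, hσ]
  funext i
  simp [hB, hQv, show σ (v i) = v i from congrFun hσ i]

namespace EvenSpace

variable (H : EvenSpace Q n)
include H

/-- The field component on `Out`. -/
noncomputable def outRight : Out PQ →* RingAut F :=
  (SemidirectProduct.rightHom.comp (MonoidHom.fst _ _)).comp H.outInv

theorem outInv_fieldHom (hR : Rat Q) (σ : RingAut F) :
    H.outInv (QuotientGroup.mk' (Inn PQ) (fieldHom hR σ)) = (SemidirectProduct.inr σ, 1) := by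
  rw [H.outInv_mk, show fieldHom hR σ = poSemi (isPair_std hR σ) from rfl, H.invHom_poSemi]
  have h1 : pmul (isPair_std hR σ) = 1 := H.pmul_eq _ fun v => by
    simpa using hR σ v
  refine Prod.ext (SemidirectProduct.ext ?_ rfl) ?_
  · show _ * _ = (1 : Fˣ)
    rw [h1, one_pow, inv_one, mul_one, map_one]
  · show sqChar F _ = 1
    rw [h1, map_one]

theorem outRight_fieldHom (hR : Rat Q) (σ : RingAut F) :
    H.outRight (QuotientGroup.mk' (Inn PQ) (fieldHom hR σ)) = σ := by
  show (H.outInv (QuotientGroup.mk' (Inn PQ) (fieldHom hR σ))).1.right = σ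
  rw [H.outInv_fieldHom]; rfl

/-- In characteristic two `Out` is a reflection times the field automorphisms. -/
theorem out_two (hR : Rat Q) (h2 : (2 : F) = 0) {v : ι → F} (hv : Q v ≠ 0)
    (hfix : ∀ σ : RingAut F, (σ : F ≃+* F) ∘ v = v) {p f : ℕ} [Fact p.Prime]
    (hF : Fintype.card F = p ^ f) :
    Nonempty (Out PQ ≃* Multiplicative (ZMod 2 × ZMod f)) := by
  obtain ⟨hcy, hRc⟩ := PSLAut.card_ringAut hF
  set mk := QuotientGroup.mk' (Inn PQ)
  set a := mk (ogHom Q (refl hv))
  have haa : a * a = 1 := by rw [← map_mul, ← map_mul, refl_mul_self, map_one, map_one]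
  have ha1 : a ≠ 1 := fun h => H.ogHom_not_inn (fun g => H.omega_iff_two h2 g) (H.dick_negOne_two h2)
    (dick_refl H.nd hv) ((QuotientGroup.eq_one_iff _).1 h)
  have hao : orderOf a = 2 := orderOf_eq_prime (by rw [sq, haa]) ha1
  have hcomm : ∀ (c : Subgroup.zpowers a) (σ : RingAut F),
      Commute ((Subgroup.zpowers a).subtype c) ((mk.comp (fieldHom hR)) σ) := by
    rintro ⟨c, k, rfl⟩ σ
    exact (((fieldHom_commute hR σ ⟨_, isometry_mem_go (refl hv)⟩
      (gmap_refl_fixed hR hv σ (hfix σ))).map mk).symm).zpow_left k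
  let Ψ : Subgroup.zpowers a × RingAut F →* Out PQ :=
    (Subgroup.zpowers a).subtype.noncommCoprod (mk.comp (fieldHom hR)) hcomm
  have hρa : H.outRight a = 1 := by
    show (H.invHom (ogHom Q (refl hv))).1.right = 1
    rw [H.refl_invHom]; rfl
  have hinj : Function.Injective Ψ := by
    refine (injective_iff_map_eq_one _).2 ?_
    rintro ⟨⟨c, k, rfl⟩, σ⟩ he
    have he' : a ^ k * mk (fieldHom hR σ) = 1 := he
    have h1 := congrArg H.outRight he'
    rw [map_mul, map_zpow, hρa, _root_.one_zpow, one_mul, H.outRight_fieldHom, map_one] at h1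
    subst h1
    rw [map_one, map_one, mul_one] at he'
    exact Prod.ext (Subtype.ext he') rfl
  have hb : Function.Bijective Ψ := (Nat.bijective_iff_injective_and_card Ψ).2 ⟨hinj, by
    rw [Nat.card_prod, Nat.card_zpowers, hao, H.card_out (H.card_mulAut_two h2)]⟩
  exact ⟨(MulEquiv.ofBijective Ψ hb).symm.trans ((MulEquiv.prodCongr
    (mulEquivOfCyclicCardEq (G' := Multiplicative (ZMod 2))
      (by rw [Nat.card_zpowers, hao, Nat.card_congr Multiplicative.toAdd, Nat.card_zmod]))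
    (mulEquivOfCyclicCardEq (G' := Multiplicative (ZMod f))
      (by rw [hRc, Nat.card_congr Multiplicative.toAdd, Nat.card_zmod]))).trans
    (MulEquiv.prodMultiplicative (ZMod 2) (ZMod f)).symm)⟩

/-- A non-square, fixed Gram determinant. -/
theorem out_klein (h2 : (2 : F) ≠ 0) (hD : ¬ IsSquare (H.gramD : F))
    (hfix : ∀ σ : RingAut F, twAct F σ H.gramD = H.gramD) {p f : ℕ} [Fact p.Prime]
    (hF : Fintype.card F = p ^ f) :
    Nonempty (Out PQ ≃* Multiplicative (ZMod 2 × ZMod 2 × ZMod f)) := by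
  obtain ⟨hcy, hRc⟩ := PSLAut.card_ringAut hF
  set N := (powMonoidHom 2 : Fˣ →* Fˣ).ker
  have hN : Nat.card N = 2 :=
    (Nat.card_congr (Equiv.subtypeEquivRight fun x => Iff.rfl)).trans (card_sq_one.2 h2)
  haveI : IsCyclic N := isCyclic_of_prime_card (p := 2) hN
  haveI : IsCyclic (sqChar F).range := isCyclic_of_prime_card (p := 2) (card_sqChar_range.2 h2)
  have hmem : ∀ x : Tw F, x ∈ H.detGroup ↔ x.left ^ 2 = 1 := fun x => by
    rw [H.mem_detGroup, hfix, mul_eq_right]
  have htw : ∀ (σ : RingAut F) (u : Fˣ), u ^ 2 = 1 → twAct F σ u = u := fun σ u hu => by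
    have h : (u : F) * u = 1 := by rw [← sq]; exact congrArg Units.val hu
    refine Units.ext ?_
    rw [twAct_coe]
    rcases mul_self_eq_one_iff.1 h with h | h <;> rw [h] <;> simp
  let e : H.detGroup ≃* N × RingAut F :=
    { toFun := fun x => (⟨x.1.left, (hmem _).1 x.2⟩, x.1.right)
      invFun := fun y => ⟨⟨y.1.1, y.2⟩, (hmem _).2 y.1.2⟩
      left_inv := fun x => rfl
      right_inv := fun y => rfl
      map_mul' := fun x y => Prod.ext (Subtype.ext (by
        show x.1.left * twAct F x.1.right y.1.left = x.1.left * y.1.left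
        rw [htw _ _ ((hmem _).1 y.2)])) rfl }
  obtain ⟨hk, -⟩ := H.card_mulAut_omega_ne h2 hD
  have e1 : Out PQ ≃* (sqChar F).range × (N × RingAut F) :=
    ((QuotientGroup.quotientMulEquivOfEq hk.symm).trans (QuotientGroup.quotientKerEquivRange H.invHom)).trans
      ((MulEquiv.subgroupCongr H.range_invHom).trans ((Subgroup.prodEquiv _ _).trans
        ((MulEquiv.prodCongr e (MulEquiv.refl _)).trans MulEquiv.prodComm)))
  exact ⟨e1.trans ((MulEquiv.prodCongr
    (mulEquivOfCyclicCardEq (G' := Multiplicative (ZMod 2))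
      (by rw [card_sqChar_range.2 h2, Nat.card_congr Multiplicative.toAdd, Nat.card_zmod]))
    ((MulEquiv.prodCongr
      (mulEquivOfCyclicCardEq (G' := Multiplicative (ZMod 2))
        (by rw [hN, Nat.card_congr Multiplicative.toAdd, Nat.card_zmod]))
      (mulEquivOfCyclicCardEq (G' := Multiplicative (ZMod f))
        (by rw [hRc, Nat.card_congr Multiplicative.toAdd, Nat.card_zmod]))).trans
      (MulEquiv.prodMultiplicative (ZMod 2) (ZMod f)).symm)).trans
    (MulEquiv.prodMultiplicative (ZMod 2) (ZMod 2 × ZMod f)).symm)⟩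

set_option maxHeartbeats 1600000 in
/-- A square Gram determinant, with a similitude of non-square multiplier of trivial invariant. -/
theorem out_d4_rat (hR : Rat Q) (h2 : (2 : F) ≠ 0) (hD : IsSquare (H.gramD : F)) {ε : Fˣ}
    (hε : ¬ IsSquare (ε : F)) {X : GL ι F} (hX : ∀ v, Q ((X : Mn) *ᵥ v) = (ε : F) * Q v)
    (hdet : Matrix.GeneralLinearGroup.det X = ε ^ n) {v : ι → F} (hv : Q v = 1)
    (hfix : ∀ σ : RingAut F, (σ : F ≃+* F) ∘ v = v) {p f : ℕ} [Fact p.Prime]
    (hF : Fintype.card F = p ^ f) :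
    Nonempty (Out PQ ≃* DihedralGroup 4 × Multiplicative (ZMod f)) := by
  obtain ⟨hcy, hRc⟩ := PSLAut.card_ringAut hF
  let X' : GO := ⟨X, ε, hX⟩
  have hv0 : Q v ≠ 0 := by rw [hv]; exact one_ne_zero
  have hw1 : Q ((X : Mn) *ᵥ v) = (ε : F) := by rw [hX, hv, mul_one]
  have hw0 : Q ((X : Mn) *ᵥ v) ≠ 0 := by rw [hw1]; exact ε.ne_zero
  set a := goHom Q X'
  set b := ogHom Q (refl hv0)
  set b' := ogHom Q (refl hw0)
  set mk := QuotientGroup.mk' (Inn PQ)
  have hab : a * b = b' * a := by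
    show goHom Q X' * goHom Q ⟨_, isometry_mem_go (refl hv0)⟩ = goHom Q ⟨_, isometry_mem_go (refl hw0)⟩ * goHom Q X'
    rw [← map_mul, ← map_mul]
    exact congrArg _ (Subtype.ext (similitude_refl ε.ne_zero hX hv0 hw0))
  have hbb : b * b = 1 := by rw [← map_mul, refl_mul_self, map_one]
  set u := refl hw0 * refl hv0 with hudef
  have hu : (ogVal u).det = 1 := by rw [ogVal_mul, Matrix.det_mul, refl_det, refl_det]; ring
  have hu' : theta Q u = -1 := by
    rw [map_mul, theta_refl_eq h2 H.nd H.tri]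
    refine (sqChar_eq_neg_one_iff _).2 ?_
    simpa [hw1, hv] using hε
  set z := mk (ogHom Q u) with hz
  set δ := mk a
  set y := mk b
  have hy : y * y = 1 := by rw [← map_mul, hbb, map_one]
  have hδy : δ * y = z * y * δ := by
    rw [hz, ← map_mul, ← map_mul, ← map_mul, hab]
    congr 1
    rw [hudef, map_mul (ogHom Q)]
    show b' * a = b' * b * b * a
    rw [mul_assoc b' b b, hbb, mul_one]
  have hm := fun g => mem_omega_iff h2 H.nd H.tri g
  have hmn : theta Q (negOne Q) = 1 := by rw [theta_negOne h2 H, (sqChar_eq_one_iff _).2 hD]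
  have hz1 : z ≠ 1 := fun h => H.ogHom_not_inn hm hmn hu' ((QuotientGroup.eq_one_iff _).1 h)
  have hker : ∀ o, H.outInv o = 1 → o = 1 ∨ o = z := fun o ho => H.outInv_eq_one h2 hu hu' hz ho
  have hz0 : H.outInv z = 1 := (H.mem_ker_invHom _).2 ⟨u, hu, rfl⟩
  have hzz : z * z = 1 := by
    rcases hker (z * z) (by rw [map_mul, hz0, one_mul]) with h | h
    · exact h
    · exact absurd (mul_eq_left.1 h) hz1
  have hzc : ∀ o, o * z * o⁻¹ = z := fun o => by
    rcases hker (o * z * o⁻¹) (by rw [map_mul, map_mul, hz0, mul_one, ← map_mul, mul_inv_cancel, map_one]) with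
      h | h
    · exact absurd (by simpa using h) hz1
    · exact h
  have hzo : ∀ o, o * z = z * o := fun o => mul_inv_eq_iff_eq_mul.1 (hzc o)
  -- invariants
  have iy : H.outInv y = (SemidirectProduct.inl (-1 : Fˣ), 1) := H.refl_invHom hv0
  have iδ : H.outInv δ = (1, -1) := by
    show H.invHom (poSemi (isPair_refl X'.2)) = _
    rw [H.invHom_poSemi]
    have h1 : pmul (isPair_refl X'.2) = ε := H.pmul_eq _ fun w => hX w
    refine Prod.ext (SemidirectProduct.ext ?_ rfl) ?_
    · show _ * _ = (1 : Fˣ)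
      rw [h1, show Matrix.GeneralLinearGroup.det (X' : GL ι F) = ε ^ n from hdet, mul_inv_cancel]
    · show sqChar F _ = -1
      rw [h1]; exact (sqChar_eq_neg_one_iff _).2 hε
  have hyδy : y * δ * y = z * δ := by
    rw [mul_assoc y, hδy, ← mul_assoc, ← mul_assoc, hzo y, mul_assoc z y y, hy, mul_one]
  -- a generator of order four
  obtain ⟨x, hxx, hyx, hxi, hxr, hxc⟩ : ∃ x, x * x = z ∧ y * x * y = x⁻¹ ∧
      (H.outInv x).2 = -1 ∧ H.outRight x = 1 ∧ ∀ φ, Commute φ δ → Commute φ y → Commute φ x := by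
    have hρδ : H.outRight δ = 1 := by show (H.outInv δ).1.right = 1; rw [iδ]; rfl
    have hρy : H.outRight y = 1 := by show (H.outInv y).1.right = 1; rw [iy]; rfl
    rcases hker (δ * δ) (by
        rw [map_mul, iδ]; exact Prod.ext (one_mul 1) (Int.units_mul_self _)) with hd | hd
    · refine ⟨y * δ, ?_, ?_, ?_, ?_, fun φ h h' => h'.mul_right h⟩
      · rw [← mul_assoc (y * δ), hyδy, mul_assoc, hd, mul_one]
      · rw [← mul_assoc y y δ, hy, one_mul, _root_.mul_inv_rev, inv_eq_of_mul_eq_one_right hd,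
          inv_eq_of_mul_eq_one_right hy]
      · rw [map_mul, Prod.snd_mul, iy, iδ, one_mul]
      · rw [map_mul, hρy, hρδ, one_mul]
    · refine ⟨δ, hd, ?_, ?_, hρδ, fun φ h _ => h⟩
      · refine eq_inv_of_mul_eq_one_left ?_
        rw [hyδy, mul_assoc, hd, hzz]
      · rw [iδ]
  have h4 : x ^ 4 = 1 := by rw [show (4 : ℕ) = 2 * 2 from rfl, pow_mul, sq, sq, hxx, hzz]
  have hyn : ∀ i : ℕ, y * x ^ i ≠ 1 := by
    intro i he
    have h := congrArg H.outInv he
    rw [map_mul, map_pow, map_one] at h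
    rcases Nat.even_or_odd' i with ⟨k, rfl | rfl⟩
    · rw [pow_mul, sq, ← map_mul, hxx, hz0, one_pow, mul_one, iy] at h
      have := congrArg (fun o : Tw F × ℤˣ => ((o.1.left : Fˣ) : F)) h
      simp at this
      exact h2 (by linear_combination -this)
    · rw [pow_succ, pow_mul, sq, ← map_mul, hxx, hz0, one_pow, one_mul] at h
      have := congrArg Prod.snd h
      rw [Prod.snd_mul, hxi, iy] at this
      exact absurd (show (1 : ℤˣ) * -1 = 1 from this) (by decide)
  -- the field part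
  obtain ⟨σ, hσ⟩ := hcy.exists_generator
  have hσo : orderOf σ = f := (orderOf_eq_card_of_forall_mem_zpowers hσ).trans hRc
  set φ₀ := mk (fieldHom hR σ)
  have hρ₀ : H.outRight φ₀ = σ := H.outRight_fieldHom hR σ
  have hφy : Commute φ₀ y :=
    (fieldHom_commute hR σ ⟨_, isometry_mem_go (refl hv0)⟩ (gmap_refl_fixed hR hv0 σ (hfix σ))).map mk
  have hφf : φ₀ ^ f = 1 := by rw [← map_pow, ← map_pow, ← hσo, pow_orderOf_eq_one, map_one, map_one]
  have hmove : φ₀ * δ * φ₀⁻¹ = δ ∨ φ₀ * δ * φ₀⁻¹ = δ * z := by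
    have h1 : H.outInv (δ⁻¹ * (φ₀ * δ * φ₀⁻¹)) = 1 := by
      have hc : H.outInv φ₀ * H.outInv δ = H.outInv δ * H.outInv φ₀ := by
        rw [H.outInv_fieldHom hR σ, iδ]
        exact Prod.ext (by show _ * 1 = 1 * _; rw [one_mul, mul_one]) (mul_comm _ _)
      rw [map_mul, map_mul, map_mul, hc, mul_assoc (H.outInv δ), ← map_mul H.outInv φ₀, mul_inv_cancel,
        map_one, mul_one, ← map_mul, inv_mul_cancel, map_one]
    rcases hker _ h1 with h | h
    · exact Or.inl (inv_mul_eq_one.1 h).symm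
    · exact Or.inr (eq_mul_of_inv_mul_eq h)
  obtain ⟨φ, hφ1, hφ2, hφ3, hφ4⟩ : ∃ φ, φ ^ f = 1 ∧ H.outRight φ = σ ∧ Commute φ δ ∧ Commute φ y := by
    by_cases hc : Commute φ₀ δ
    · exact ⟨φ₀, hφf, hρ₀, hc, hφy⟩
    have hev : Even f := by
      refine (Nat.even_or_odd f).resolve_right fun hodd => hc ?_
      exact commute_of_conj hodd hφf hmove (hzc φ₀) hzz
    have hmv : φ₀ * δ * φ₀⁻¹ = δ * z := hmove.resolve_left fun h => hc (mul_inv_eq_iff_eq_mul.1 h)
    refine ⟨φ₀ * y, ?_, ?_, ?_, hφy.mul_left (Commute.refl y)⟩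
    · obtain ⟨k, rfl⟩ := hev
      rw [hφy.mul_pow, hφf, one_mul, ← two_mul, pow_mul, sq, hy, one_pow]
    · rw [map_mul, hρ₀, show H.outRight y = 1 by show (H.outInv y).1.right = 1; rw [iy]; rfl, mul_one]
    · refine mul_inv_eq_iff_eq_mul.1 ?_
      calc φ₀ * y * δ * (φ₀ * y)⁻¹ = φ₀ * (y * δ * y) * φ₀⁻¹ := by
            rw [_root_.mul_inv_rev, inv_eq_of_mul_eq_one_right hy]; simp only [mul_assoc]
        _ = (φ₀ * z * φ₀⁻¹) * (φ₀ * δ * φ₀⁻¹) := by rw [hyδy]; group
        _ = δ := by rw [hzc, hmv, hzo δ, ← mul_assoc, hzz, one_mul]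
  have hρφ : orderOf (H.outRight φ) = f := by rw [hφ2, hσo]
  have hφo : orderOf φ = f := Nat.dvd_antisymm (orderOf_dvd_of_pow_eq_one hφ1) (by
    conv_lhs => rw [← hρφ]
    exact orderOf_map_dvd H.outRight φ)
  exact d4_prod_iso x y (hRc ▸ H.card_out (H.card_mulAut_omega_mem h2 hD)) h4 hy hyx hφo (hxc φ hφ3 hφ4) hφ4
    (by rw [hxx]; exact hz1) hyn H.outRight hxr (by show (H.outInv y).1.right = 1; rw [iy]; rfl) hρφ

end EvenSpace

end General

/-! ### The hyperbolic model -/

section Model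

variable {F : Type*} [Field F] [Fintype F] {m : ℕ}

theorem gramD_plus (hm : 5 ≤ m) : ((evenSpace_plus (F := F) hm).gramD : F) = (-1) ^ m := by
  rw [EvenSpace.gramD, Units.val_mk0, gramDet_qfPlus]

theorem isSquare_gramD_plus (hm : 5 ≤ m) {p f : ℕ} [Fact p.Prime] (hF : Fintype.card F = p ^ f)
    (hp : p ≠ 2) : IsSquare ((evenSpace_plus (F := F) hm).gramD : F) ↔ ¬ (p ^ f % 4 = 3 ∧ Odd m) := by
  rw [gramD_plus hm]
  rcases Nat.even_or_odd m with he | ho
  · rw [he.neg_one_pow]
    exact iff_of_true IsSquare.one fun h => Nat.not_odd_iff_even.2 he h.2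
  · rw [ho.neg_one_pow, FiniteField.isSquare_neg_one_iff, hF]
    exact ⟨fun h h' => h h'.1, fun h h' => h ⟨h', ho⟩⟩

theorem twAct_gramD_plus (hm : 5 ≤ m) (σ : RingAut F) :
    twAct F σ (evenSpace_plus (F := F) hm).gramD = (evenSpace_plus (F := F) hm).gramD :=
  Units.ext (by rw [twAct_coe, gramD_plus hm, map_pow, map_neg, map_one])

/-- A rational vector of norm one. -/
def plusOne (F : Type*) [Field F] (i : Fin m) : Fin m ⊕ Fin m → F :=
  Sum.elim (Pi.single i 1) (Pi.single i 1)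

theorem qfPlus_plusOne (i : Fin m) : qfPlus m F (plusOne F i) = 1 := by
  rw [qfPlus_apply, quadFormPlus, Finset.sum_eq_single i (fun j _ hj => by simp [plusOne, hj])
    (fun h => absurd (Finset.mem_univ i) h)]
  simp [plusOne]

theorem comp_plusOne (i : Fin m) (σ : RingAut F) : (σ : F ≃+* F) ∘ plusOne F i = plusOne F i := by
  funext j
  rcases j with j | j <;> by_cases h : j = i <;> simp [plusOne, h]

theorem out_plus_two (hm : 5 ≤ m) (h2 : (2 : F) = 0) {p f : ℕ} [Fact p.Prime]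
    (hF : Fintype.card F = p ^ f) :
    Nonempty (Out (POmega F ⇑(qfPlus m F)) ≃* Multiplicative (ZMod 2 × ZMod f)) :=
  (evenSpace_plus hm).out_two rat_qfPlus h2 (v := plusOne F ⟨0, by omega⟩)
    (by rw [qfPlus_plusOne]; exact one_ne_zero) (comp_plusOne _) hF

theorem out_plus_odd (hm : 5 ≤ m) {p f : ℕ} [Fact p.Prime] (hF : Fintype.card F = p ^ f) (hp : p ≠ 2) :
    if p ^ f % 4 = 3 ∧ Odd m then
      Nonempty (Out (POmega F ⇑(qfPlus m F)) ≃* Multiplicative (ZMod 2 × ZMod 2 × ZMod f))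
    else Nonempty (Out (POmega F ⇑(qfPlus m F)) ≃* DihedralGroup 4 × Multiplicative (ZMod f)) := by
  haveI : CharP F p := charP_of_card_eq_prime_pow hF
  have h2 : (2 : F) ≠ 0 := two_ne_zero_of_card hF hp
  have hiff := isSquare_gramD_plus (F := F) hm hF hp
  split_ifs with h
  · exact (evenSpace_plus hm).out_klein h2 (fun hs => hiff.1 hs h) (twAct_gramD_plus hm) hF
  obtain ⟨ε, hε⟩ := FiniteField.exists_nonsquare (F := F) fun hc => h2 (by
    haveI := ringChar.of_eq hc; exact CharTwo.two_eq_zero)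
  have hε0 : ε ≠ 0 := fun h0 => hε (h0 ▸ IsSquare.zero)
  have hd : (Matrix.diagonal (Sum.elim (fun _ : Fin m => (1 : F)) fun _ : Fin m => ε)).det = ε ^ m := by
    rw [Matrix.det_diagonal, Fintype.prod_sum_type]; simp
  refine (evenSpace_plus hm).out_d4_rat rat_qfPlus h2 (hiff.2 h) (ε := Units.mk0 ε hε0) hε
    (X := Matrix.GeneralLinearGroup.mkOfDetNeZero _ (by rw [hd]; exact pow_ne_zero _ hε0))
    (fun v => ?_) (Units.ext ?_) (qfPlus_plusOne ⟨0, by omega⟩) (comp_plusOne _) hF
  · show qfPlus m F (Matrix.diagonal _ *ᵥ v) = _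
    simp only [qfPlus_apply, quadFormPlus, Matrix.mulVec_diagonal, Sum.elim_inl, Sum.elim_inr, one_mul,
      Finset.mul_sum, Units.val_mk0]
    exact Finset.sum_congr rfl fun i _ => by ring
  · rw [Matrix.GeneralLinearGroup.val_det_apply, Units.val_pow_eq_pow_val, Units.val_mk0]
    exact hd

end Model

end Cfsg.Agent.Classical.OrthAut
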