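import Cfsg.Agent.Lib.Classical.OrthPlusStd
import Cfsg.Agent.Lib.Classical.OrthLocalBalance

/-!
Splitting of the classes of involutory field automorphisms in even dimension.
-/

set_option autoImplicit false
set_option linter.unusedSectionVars false
set_option quotPrecheck false

namespace Cfsg.Agent.Classical.OrthAut

open Matrix Module Cfsg.Agent.Classical.Descent

section General

variable {F : Type*} [Field F] [Fintype F] {ι : Type} [Fintype ι] [DecidableEq ι]
  {Q : QuadraticForm F (ι → F)} {n : ℕ}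

local notation "Mn" => Matrix ι ι F
local notation "PQ" => POmega F ⇑Q
local notation "GO" => Geo.quadSimilarityGroup (F := F) ⇑Q
local notation "OG" => isometryGroup F ⇑Q

/-- A scalar multiple of an isometry acts as the isometry. -/
theorem goHom_eq_ogHom {g : GO} {h : OG} {s : F} (hh : ((g : GL ι F) : Mn) = s • ogVal h) :
    goHom Q g = ogHom Q h := by
  have ht : (((g * (ogToGO Q h)⁻¹ : GO) : GL ι F) : Mn) = s • 1 := by
    rw [Subgroup.coe_mul, Units.val_mul, hh, Matrix.smul_mul]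
    show s • (ogVal h * ogVal h⁻¹) = s • 1
    rw [← ogVal_mul, mul_inv_cancel, ogVal_one]
  have h1 := goHom_scalar ht
  rw [map_mul, map_inv, mul_inv_eq_one] at h1
  exact h1

namespace EvenSpace

variable (H : EvenSpace Q n)
include H

theorem det_eq_one_iff_dick (h2 : (2 : F) ≠ 0) (u : OG) : (ogVal u).det = 1 ↔ dick u = 1 := by
  rw [det_eq_dick H.nd H.tri]
  refine ⟨fun h => ?_, fun h => by rw [h]; simp⟩
  rcases Int.units_eq_one_or (dick u) with e | e
  · exact e
  · rw [e] at h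
    exfalso
    refine h2 ?_
    simp at h
    linear_combination -h

theorem psgn_of_smul {g : GO} {h : OG} {s : F} (hh : ((g : GL ι F) : Mn) = s • ogVal h) :
    psgn n g = dick h := by
  have ht : (((g * (ogToGO Q h)⁻¹ : GO) : GL ι F) : Mn) = s • 1 := by
    rw [Subgroup.coe_mul, Units.val_mul, hh, Matrix.smul_mul]
    show s • (ogVal h * ogVal h⁻¹) = s • 1
    rw [← ogVal_mul, mul_inv_cancel, ogVal_one]
  have e : psgn n g = psgn n (g * (ogToGO Q h)⁻¹) * psgn n (ogToGO Q h) := by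
    rw [← H.psgn_mul, inv_mul_cancel_right]
  rw [e, H.psgn_scalar ht, one_mul, H.psgn_og]

theorem invHom_goHom (g : GO) (h2 : (2 : F) ≠ 0) (hg : psgn n g = 1) :
    H.invHom (goHom Q g) = (1, sqChar F (mu g)) := by
  rw [goHom_apply, H.invHom_poSemi]
  refine Prod.ext (SemidirectProduct.ext ?_ rfl) rfl
  show Matrix.GeneralLinearGroup.det (g : GL ι F) * (mu g ^ n)⁻¹ = 1
  rw [mul_inv_eq_one]
  exact Units.ext (by
    rw [Matrix.GeneralLinearGroup.val_det_apply, Units.val_pow_eq_pow_val]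
    exact (psgn_eq_one_iff_det h2 g).1 hg)

theorem ker_le_diagAut (h2 : (2 : F) ≠ 0) : H.invHom.ker ≤ H.diagAut := fun β hβ => by
  obtain ⟨u, hu, rfl⟩ := (H.mem_ker_invHom β).1 hβ
  exact H.mem_diagAut.2 ⟨ogToGO Q u, by rw [H.psgn_og, (H.det_eq_one_iff_dick h2 u).1 hu], rfl⟩

theorem map_diagAut_invHom (h2 : (2 : F) ≠ 0) :
    H.diagAut.map H.invHom = (⊥ : Subgroup (Tw F)).prod (sqChar F).range := by
  ext x
  constructor
  · rintro ⟨β, hβ, rfl⟩
    obtain ⟨g, hg, rfl⟩ := H.mem_diagAut.1 hβ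
    rw [H.invHom_goHom g h2 hg]
    exact ⟨rfl, _, rfl⟩
  · rintro ⟨hx, c, hc⟩
    obtain ⟨k, hk⟩ := H.sim c c.ne_zero
    set g : GO := ⟨k, c, hk⟩
    have hμ : mu g = c := H.mu_eq (g := g) hk
    obtain ⟨v, hv⟩ := H.exists_one
    have hv0 : Q v ≠ 0 := by rw [hv]; exact one_ne_zero
    obtain ⟨g', hg', hμ'⟩ : ∃ g' : GO, psgn n g' = 1 ∧ mu g' = c := by
      rcases H.exists_rat_improper hv0 g with h | h
      · exact ⟨g, h, hμ⟩
      · exact ⟨g * ogToGO Q (refl hv0), h, by rw [H.mu_mul, H.mu_og, mul_one, hμ]⟩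
    refine ⟨goHom Q g', H.mem_diagAut.2 ⟨g', hg', rfl⟩, ?_⟩
    rw [H.invHom_goHom g' h2 hg', hμ']
    exact Prod.ext (Subgroup.mem_bot.1 hx).symm hc

theorem relIndex_ker_diagAut (h2 : (2 : F) ≠ 0) : H.invHom.ker.relIndex H.diagAut = 2 := by
  rw [Subgroup.relIndex_ker, H.map_diagAut_invHom h2, Nat.card_congr (Subgroup.prodEquiv _ _).toEquiv,
    Nat.card_prod, Subgroup.card_bot, one_mul, card_sqChar_range.2 h2]

theorem relIndex_inn_ker (h2 : (2 : F) ≠ 0) (hm : theta Q (negOne Q) = 1) :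
    (Inn PQ).relIndex H.invHom.ker = 2 := by
  obtain ⟨u, hu, hu'⟩ := H.exists_det_theta h2
  have h := H.card_ker (fun g => mem_omega_iff h2 H.nd H.tri g) hm hu hu'
  have h' := Subgroup.index_mul_card ((Inn PQ).subgroupOf H.invHom.ker)
  rw [Nat.card_congr (Subgroup.subgroupOfEquivOfLe H.inn_le_ker).toEquiv, h] at h'
  exact Nat.eq_of_mul_eq_mul_right Nat.card_pos h'

section Fixed

variable {F₀ : Type*} [Field F₀] [Fintype F₀] {P : QuadraticForm F₀ (ι → F₀)} {j : F₀ →+* F}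
  {σ : RingAut F} (hR : RatAt Q σ) (hP : ∀ u, Q (j ∘ u) = j (P u)) (H₀ : EvenSpace P n)
  (hj : ∀ x, σ x = x ↔ x ∈ j.range)
include hR hP H₀ hj

theorem exists_mapGO {g : GO} (hg : goMap hR g = g) :
    ∃ k : Geo.quadSimilarityGroup (F := F₀) ⇑P, mapGO hP k = g := by
  have hfix : ∀ a b, ∃ x : F₀, j x = ((g : GL ι F) : Mn) a b := fun a b => (hj _).1
    (congrArg (fun k : GO => ((k : GL ι F) : Mn) a b) hg)
  choose K hK using hfix
  have hK' : (Matrix.of K).map j = ((g : GL ι F) : Mn) := Matrix.ext hK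
  have hdet : (Matrix.of K).det ≠ 0 := fun h0 => (g : GL ι F).det_ne_zero (by
    rw [← hK', ← RingHom.mapMatrix_apply, ← RingHom.map_det, h0, map_zero])
  obtain ⟨c, hc⟩ := (hj (mu g : F)).1 (by rw [← H.mu_goMap hR g, hg])
  have hc0 : c ≠ 0 := fun h0 => (mu g).ne_zero (by rw [← hc, h0, map_zero])
  refine ⟨⟨Matrix.GeneralLinearGroup.mkOfDetNeZero (Matrix.of K) hdet, Units.mk0 c hc0,
    fun u => j.injective ?_⟩, Subtype.ext (Units.ext hK')⟩
  show j (P (Matrix.of K *ᵥ u)) = j (c * P u)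
  rw [← hP, map_mul, ← hP, hc, ← mulVec_rat j, hK', mu_spec]

theorem mapOG_omega_of_det (h2 : (2 : F) ≠ 0) (hsq : ∀ c : F₀, IsSquare (j c)) {h : isometryGroup F₀ ⇑P}
    (hh : (ogVal h).det = 1) : mapOG j hP h ∈ Omega F ⇑Q := by
  have h20 : (2 : F₀) ≠ 0 := fun h => h2 (by rw [← map_ofNat j, h, map_zero])
  rcases Int.units_eq_one_or (theta P h) with e | e
  · exact mapOG_mem_omega j hP ((mem_omega_iff h20 H₀.nd H₀.tri h).2 ⟨hh, e⟩)
  obtain ⟨ε', v, w, hv, hw, -, -, -, hvw⟩ := exists_two_refl h20 H₀.nd H₀.tri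
  set u := refl hv * refl hw
  have hu : (ogVal u).det = 1 := by rw [ogVal_mul, Matrix.det_mul, refl_det, refl_det]; ring
  have hmu : mapOG j hP u ∈ Omega F ⇑Q := by
    refine (mem_omega_iff h2 H.nd H.tri _).2 ⟨?_, ?_⟩
    · rw [mapOG_val, ← RingHom.mapMatrix_apply, ← RingHom.map_det, hu, map_one]
    · rw [map_mul (mapOG j hP), map_mul, mapOG_refl, mapOG_refl, theta_refl_eq h2 H.nd H.tri,
        sqChar_eq_one_iff, Units.val_mul, Units.val_inv_eq_inv_val, Units.val_mk0, Units.val_mk0, hP, hP]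
      exact (hsq _).mul (hsq _).inv
  have hu' : h * u⁻¹ ∈ Omega F₀ ⇑P := by
    refine (mem_omega_iff h20 H₀.nd H₀.tri _).2 ⟨?_, ?_⟩
    · have h1 : (ogVal (h * u⁻¹)).det * (ogVal u).det = 1 := by
        rw [← Matrix.det_mul, ← ogVal_mul, inv_mul_cancel_right, hh]
      rwa [hu, mul_one] at h1
    · rw [map_mul (theta P), map_inv (theta P), e, map_mul (theta P), hvw]
      rfl
  have := mul_mem (mapOG_mem_omega j hP hu') hmu
  rwa [← map_mul, inv_mul_cancel_right] at this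

theorem theta_negOne_fixed (h2 : (2 : F) ≠ 0) (hsq : ∀ c : F₀, IsSquare (j c)) :
    theta Q (negOne Q) = 1 := by
  have e : negOne Q = mapOG j hP (negOne P) := ogVal_ext (by
    rw [ogVal_negOne, mapOG_val, ogVal_negOne, ← RingHom.mapMatrix_apply, map_neg, map_one])
  rw [e]
  exact ((mem_omega_iff h2 H.nd H.tri _).1 (H.mapOG_omega_of_det hR hP H₀ hj h2 hsq H₀.det_negOne)).2

/-- A fixed similarity with square rational multiplier is inner. -/
theorem fixed_sq_inn (h2 : (2 : F) ≠ 0) (hsq : ∀ c : F₀, IsSquare (j c)) {g : GO} (hg : goMap hR g = g)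
    (hg1 : psgn n g = 1) {t : F₀} (ht : (mu g : F) = j (t * t)) : goHom Q g ∈ Inn PQ := by
  obtain ⟨k, rfl⟩ := H.exists_mapGO hR hP H₀ hj hg
  have ht0 : t ≠ 0 := fun h0 => (mu (mapGO hP k)).ne_zero (by rw [ht, h0, mul_zero, map_zero])
  set M : Matrix ι ι F₀ := t⁻¹ • ((k : GL ι F₀) : Matrix ι ι F₀)
  have hMq : ∀ w, P (M *ᵥ w) = P w := fun w => j.injective (by
    rw [Matrix.smul_mulVec, QuadraticMap.map_smul, smul_eq_mul, map_mul, ← hP, ← mulVec_rat j,
      show ((k : GL ι F₀) : Matrix ι ι F₀).map j = ((mapGO hP k : GO) : GL ι F).1 from rfl, mu_spec, ht, hP,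
      ← map_mul, ← map_mul]
    congr 1
    field_simp)
  let h : isometryGroup F₀ ⇑P := mkIsometry M
    (by rw [Matrix.det_smul]; exact mul_ne_zero (pow_ne_zero _ (inv_ne_zero ht0)) (k : GL ι F₀).det_ne_zero) hMq
  have hkh : (((mapGO hP k : GO) : GL ι F) : Mn) = j t • ogVal (mapOG j hP h) := by
    rw [mapOG_val]
    ext a b
    show j _ = j t * j (t⁻¹ * _)
    rw [← map_mul, mul_inv_cancel_left₀ ht0]
    rfl
  rw [goHom_eq_ogHom hkh, inn_eq_map]
  refine ⟨_, H.mapOG_omega_of_det hR hP H₀ hj h2 hsq ?_, rfl⟩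
  refine j.injective ?_
  rw [map_one, RingHom.map_det, RingHom.mapMatrix_apply, ← mapOG_val j hP]
  refine (H.det_eq_one_iff_dick h2 _).2 ?_
  rw [← H.psgn_of_smul hkh, hg1]

/-- Two or four classes, by the spinor norm of a rational similarity with non-square multiplier. -/
theorem split_two (h2 : (2 : F) ≠ 0) (hsq : ∀ c : F₀, IsSquare (j c)) {g : GO} (hg : goMap hR g = g)
    (hg1 : psgn n g = 1) {ε : F₀} (hε : ¬ IsSquare ε) (hμ : (mu g : F) = j ε) {h : OG} {s : F}
    (hh : ((g : GL ι F) : Mn) = s • ogVal h) :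
    (theta Q h = 1 → splitClassCount H.diagAut (Inn PQ) (fld hR) = 4) ∧
      (theta Q h = -1 → splitClassCount H.diagAut (Inn PQ) (fld hR) = 2) := by
  have hm := H.theta_negOne_fixed hR hP H₀ hj h2 hsq
  have hdh : (ogVal h).det = 1 := (H.det_eq_one_iff_dick h2 h).2 (by rw [← H.psgn_of_smul hh, hg1])
  have hgh : goHom Q g = ogHom Q h := goHom_eq_ogHom hh
  have hgK : goHom Q g ∈ H.invHom.ker := (H.mem_ker_invHom _).2 ⟨h, hdh, hgh⟩
  have hgC : goHom Q g ∈ H.diagAut ⊓ Subgroup.centralizer {fld hR} := by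
    refine ⟨H.mem_diagAut.2 ⟨g, hg1, rfl⟩, Subgroup.mem_centralizer_singleton_iff.2 ?_⟩
    rw [field_conj_go, hg]
  have hC : ∀ β ∈ H.diagAut ⊓ Subgroup.centralizer {fld hR},
      β ∈ Inn PQ ∨ β * (goHom Q g)⁻¹ ∈ Inn PQ := by
    intro β hβ
    rw [H.centralizer_eq_map hR hP H₀ hj] at hβ
    obtain ⟨k, hk, rfl⟩ := hβ
    have hk1 : psgn n (mapGO hP k) = 1 := (H.psgn_mapGO hP H₀ k).trans hk
    have hfix : goMap hR (mapGO hP k) = mapGO hP k :=
      Subtype.ext (Units.ext (Matrix.ext fun a b => (hj _).2 ⟨_, rfl⟩))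
    have hkμ : (mu (mapGO hP k) : F) = j (mu k : F₀) := H.mu_mapGO hP k
    by_cases hsk : IsSquare (mu k : F₀)
    · obtain ⟨t, ht⟩ := hsk
      exact Or.inl (H.fixed_sq_inn hR hP H₀ hj h2 hsq hfix hk1 (t := t) (by rw [hkμ, ht]))
    refine Or.inr ?_
    have h20 : (2 : F₀) ≠ 0 := fun h => h2 (by rw [← map_ofNat j, h, map_zero])
    obtain ⟨t, ht⟩ : IsSquare ((mu k : F₀) / ε) := by
      rw [div_eq_mul_inv]; exact isSquare_of_two_nonsquares h20 hsk fun h' => hε (by simpa using h'.inv)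
    rw [MonoidHom.comp_apply, ← map_inv, ← map_mul]
    refine H.fixed_sq_inn hR hP H₀ hj h2 hsq (by rw [map_mul, map_inv, hfix, hg]) ?_ (t := t) ?_
    · rw [H.psgn_mul, hk1, show psgn n g⁻¹ = psgn n g from
        (H.psgnHom.map_inv g).trans (Int.units_inv_eq_self _), hg1, one_mul]
    · rw [H.mu_mul, show mu g⁻¹ = (mu g)⁻¹ from map_inv H.muHom g, Units.val_mul, Units.val_inv_eq_inv_val,
        hkμ, hμ, ← ht, div_eq_mul_inv, map_mul, map_inv₀]
  rw [splitClassCount_eq_relIndex _ _ H.inn_le_diagAut]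
  refine ⟨fun hθ => ?_, fun hθ => ?_⟩
  · have hgI : goHom Q g ∈ Inn PQ := by
      rw [hgh, inn_eq_map]; exact ⟨h, (mem_omega_iff h2 H.nd H.tri h).2 ⟨hdh, hθ⟩, rfl⟩
    have e : Inn PQ ⊔ (H.diagAut ⊓ Subgroup.centralizer {fld hR}) = Inn PQ :=
      sup_eq_left.2 fun β hβ => (hC β hβ).elim id fun h' => by
        simpa using mul_mem h' hgI
    rw [e, ← Subgroup.relIndex_mul_relIndex _ _ _ H.inn_le_ker (H.ker_le_diagAut h2),
      H.relIndex_inn_ker h2 hm, H.relIndex_ker_diagAut h2]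
  · have e : Inn PQ ⊔ (H.diagAut ⊓ Subgroup.centralizer {fld hR}) = H.invHom.ker := by
      refine le_antisymm (sup_le H.inn_le_ker fun β hβ => ?_) fun β hβ => ?_
      · rcases hC β hβ with h' | h'
        · exact H.inn_le_ker h'
        · simpa using mul_mem (H.inn_le_ker h') hgK
      · obtain ⟨u, hu, rfl⟩ := (H.mem_ker_invHom β).1 hβ
        rcases Int.units_eq_one_or (theta Q u) with e | e
        · refine Subgroup.mem_sup_left ?_
          rw [inn_eq_map]; exact ⟨u, (mem_omega_iff h2 H.nd H.tri u).2 ⟨hu, e⟩, rfl⟩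
        · rw [← inv_mul_cancel_right u h, map_mul, ← hgh]
          refine mul_mem (Subgroup.mem_sup_left ?_) (Subgroup.mem_sup_right hgC)
          rw [inn_eq_map]
          refine ⟨_, (mem_omega_iff h2 H.nd H.tri _).2 ⟨?_, ?_⟩, rfl⟩
          · have h1 : (ogVal (u * h⁻¹)).det * (ogVal h).det = 1 := by
              rw [← Matrix.det_mul, ← ogVal_mul, inv_mul_cancel_right, hu]
            rwa [hdh, mul_one] at h1
          · rw [map_mul, map_inv, e, hθ]; rfl
    rw [e, H.relIndex_ker_diagAut h2]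

end Fixed

end EvenSpace

/-- The spinor sign is transported by an isometry. -/
theorem IsoData.theta_og {ι' : Type} [Fintype ι'] [DecidableEq ι'] {Q' : QuadraticForm F (ι' → F)}
    (D : IsoData Q Q') (u : OG) : theta Q' (D.og u) = theta Q u := by
  classical
  let e : {x : ι → F // Q x = 1} ≃ {x : ι' → F // Q' x = 1} :=
    { toFun := fun x => ⟨D.M *ᵥ x.1, by rw [D.quad, x.2]⟩
      invFun := fun x => ⟨D.N *ᵥ x.1, by rw [show Q (D.N *ᵥ x.1) = Q' x.1 from D.symm.quad x.1, x.2]⟩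
      left_inv := fun x => Subtype.ext (by simp [Matrix.mulVec_mulVec, D.NM])
      right_inv := fun x => Subtype.ext (by simp [Matrix.mulVec_mulVec, D.MN]) }
  show Equiv.Perm.sign (MulAction.toPerm (D.og u)) = Equiv.Perm.sign (MulAction.toPerm u)
  rw [← Equiv.Perm.sign_permCongr e (MulAction.toPerm u)]
  congr 1
  refine Equiv.ext fun x => Subtype.ext ?_
  obtain ⟨y, rfl⟩ := e.surjective x
  show (D.gl (u : GL ι F) : Matrix ι' ι' F) *ᵥ (D.M *ᵥ y.1) = (e (MulAction.toPerm u (e.symm (e y)))).1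
  rw [e.symm_apply_apply, D.gl_apply]
  rfl

end General

section Torus

variable {F : Type*} [Field F] [Fintype F] {m : ℕ}

local notation "ιp" => (Fin m ⊕ Fin m)
local notation "Qp" => qfPlus m F

/-- The split torus of the hyperbolic form. -/
noncomputable def torus (m : ℕ) (F : Type*) [Field F] [Fintype F] :
    (Fin m → Fˣ) →* isometryGroup F ⇑(qfPlus m F) where
  toFun u := mkIsometry (Matrix.diagonal (Sum.elim (fun i => (u i : F)) fun i => (((u i)⁻¹ : Fˣ) : F)))
    (by rw [Matrix.det_diagonal]; exact Finset.prod_ne_zero_iff.2 fun i _ => by cases i <;> simp)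
    fun v => by simp [qfPlus_apply, quadFormPlus, Matrix.mulVec_diagonal, mul_mul_mul_comm]
  map_one' := ogVal_ext (by
    show Matrix.diagonal _ = ogVal 1
    rw [ogVal_one, ← Matrix.diagonal_one]
    congr 1; funext i; cases i <;> simp)
  map_mul' u w := ogVal_ext (by
    rw [ogVal_mul]
    show Matrix.diagonal _ = Matrix.diagonal _ * Matrix.diagonal _
    rw [Matrix.diagonal_mul_diagonal]
    congr 1; funext i; cases i <;> simp [mul_comm])

theorem torus_val (u : Fin m → Fˣ) : ogVal (torus m F u) =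
    Matrix.diagonal (Sum.elim (fun i => (u i : F)) fun i => (((u i)⁻¹ : Fˣ) : F)) := rfl

theorem theta_torus (hm : 5 ≤ m) (h2 : (2 : F) ≠ 0) (u : Fin m → Fˣ) :
    theta Qp (torus m F u) = ∏ i, sqChar F (u i) := by
  classical
  have H := evenSpace_plus (F := F) hm
  let φ : (Fin m → Fˣ) →* ℤˣ := ∏ i, (sqChar F).comp (Pi.evalMonoidHom (fun _ => Fˣ) i)
  suffices h : (theta Qp).comp (torus m F) = φ by
    have := congrArg (fun f : (Fin m → Fˣ) →* ℤˣ => f u) h
    simpa [φ] using this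
  refine MonoidHom.functions_ext _ _ _ fun i w => ?_
  have hφ : φ (Pi.mulSingle i w) = sqChar F w := by
    simp only [φ, MonoidHom.finsetProd_apply, MonoidHom.comp_apply, Pi.evalMonoidHom_apply]
    rw [Finset.prod_eq_single i (fun l _ hl => by rw [Pi.mulSingle_eq_of_ne hl, map_one])
      (fun h => absurd (Finset.mem_univ i) h), Pi.mulSingle_eq_same]
  rw [hφ, MonoidHom.comp_apply]
  set e : ιp → F := Pi.single (Sum.inl i) 1
  set f : ιp → F := Pi.single (Sum.inr i) 1
  have hQ : ∀ c : F, Qp (e + c • f) = c := fun c => by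
    simp [e, f, qfPlus_apply, quadFormPlus, Pi.single_apply]
  have h1 : Qp (e + (1 : F) • f) ≠ 0 := by rw [hQ]; exact one_ne_zero
  have hw : Qp (e + (w : F) • f) ≠ 0 := by rw [hQ]; exact w.ne_zero
  have hre : torus m F (Pi.mulSingle i w) = refl h1 * refl hw := by
    refine ogVal_ext (Matrix.ext_iff_mulVec.2 fun x => ?_)
    rw [torus_val, ogVal_mul, ← Matrix.mulVec_mulVec, refl_apply, refl_apply, hQ, hQ]
    have hB : ∀ (c : F) (y : ιp → F), QuadraticMap.polar ⇑Qp (e + c • f) y =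
        y (Sum.inr i) + c * y (Sum.inl i) := fun c y => by
      rw [QuadraticMap.polar_add_left, QuadraticMap.polar_smul_left, polar_qfPlus, polar_qfPlus, smul_eq_mul]
      simp [e, f, Pi.single_apply]
    rw [hB, hB]
    funext l
    have hw0 : (w : F) ≠ 0 := w.ne_zero
    rcases l with l | l <;> rcases eq_or_ne l i with rfl | hl <;>
      simp [Matrix.mulVec_diagonal, e, f, Pi.single_apply, *] <;> field_simp <;> ring
  rw [hre, map_mul, theta_refl_eq h2 H.nd H.tri, show Units.mk0 _ h1 * (Units.mk0 _ hw)⁻¹ = w⁻¹ from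
    Units.ext (by simp only [Units.val_mul, Units.val_inv_eq_inv_val, Units.val_mk0, hQ, one_mul]), map_inv, Int.units_inv_eq_self]

end Torus

end Cfsg.Agent.Classical.OrthAut
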