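import Cfsg.Agent.Lib.Classical.OrthPlusModel

/-!
Centralisers and class numbers of involutory field and graph-field automorphisms of the hyperbolic `PΩ`.
-/

set_option autoImplicit false
set_option linter.unusedSectionVars false
set_option quotPrecheck false

namespace Cfsg.Agent.Classical.OrthAut

open Matrix Module Cfsg.Agent.Classical.Descent

theorem inn_map_congr {X Y : Type*} [Group X] [Group Y] (ψ : X ≃* Y) :
    (Inn X).map (MulAut.congr ψ).toMonoidHom = Inn Y := by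
  ext β
  constructor
  · rintro ⟨_, ⟨k, rfl⟩, rfl⟩
    exact ⟨ψ k, MulEquiv.ext fun z => by simp [MulAut.congr, MulAut.conj_apply]⟩
  · rintro ⟨k, rfl⟩
    exact ⟨MulAut.conj (ψ.symm k), ⟨_, rfl⟩, MulEquiv.ext fun z => by simp [MulAut.congr, MulAut.conj_apply]⟩

theorem map_conj_of_normal {X : Type*} [Group X] (S : Subgroup X) [S.Normal] (g : X) :
    S.map (MulAut.conj g).toMonoidHom = S := by
  ext y
  rw [Subgroup.mem_map_equiv, MulAut.conj_symm_apply]
  exact ⟨fun h => by simpa [mul_assoc] using ‹S.Normal›.conj_mem _ h g,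
    fun h => by simpa using ‹S.Normal›.conj_mem _ h g⁻¹⟩

theorem involution_unique {G : Type*} [Group G] [IsCyclic G] [Finite G] {x y : G} (hx : orderOf x = 2)
    (hy : orderOf y = 2) : x = y := by
  classical
  letI := Fintype.ofFinite G
  have hd : 2 ∣ Fintype.card G := hx ▸ orderOf_dvd_card
  have h := IsCyclic.card_orderOf_eq_totient (α := G) hd
  rw [Nat.totient_two, Finset.card_eq_one] at h
  obtain ⟨z, hz⟩ := h
  have hm : ∀ w : G, orderOf w = 2 → w = z := fun w hw => by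
    have : w ∈ Finset.univ.filter fun a : G => orderOf a = 2 := by simp [hw]
    rwa [hz, Finset.mem_singleton] at this
  rw [hm x hx, hm y hy]

section Field

variable {F : Type*} [Field F] [Fintype F] {m : ℕ} [NeZero m] {F₀ : Type*} [Field F₀] [Fintype F₀]
  {j : F₀ →+* F} {σ : RingAut F}

local notation "Qp" => qfPlus m F

/-- The number of classes of an involutory field automorphism. -/
theorem plus_field_split (hm : 5 ≤ m) (hσ : orderOf σ = 2) (hj : ∀ x, σ x = x ↔ x ∈ j.range)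
    (hcard : Fintype.card F = Fintype.card F₀ ^ 2) (h2 : (2 : F) ≠ 0) :
    ((Odd m ∧ Fintype.card F₀ % 4 = 1) → splitClassCount (evenSpace_plus (F := F) hm).diagAut
      (Inn (POmega F ⇑Qp)) (fld (rat_qfPlus.ratAt σ)) = 2) ∧
    (¬(Odd m ∧ Fintype.card F₀ % 4 = 1) → splitClassCount (evenSpace_plus (F := F) hm).diagAut
      (Inn (POmega F ⇑Qp)) (fld (rat_qfPlus.ratAt σ)) = 4) := by
  have H := evenSpace_plus (F := F) hm
  have hsq := isSquare_fixed (j := j) hcard h2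
  obtain ⟨ε, hε⟩ := FiniteField.exists_nonsquare (F := F₀) (ringChar_ne_two (two_small j h2))
  have hε0 : ε ≠ 0 := fun h0 => hε (h0 ▸ IsSquare.zero)
  have hjε : j ε ≠ 0 := by simpa using hε0
  obtain ⟨s, hs⟩ := hsq ε
  have hs0 : s ≠ 0 := fun h0 => hjε (by rw [hs, h0, mul_zero])
  set c := Units.mk0 (j ε) hjε
  set sU := Units.mk0 s hs0
  have hsc : sU * sU = c := Units.ext hs.symm
  set g := diagSim m (fun _ => (1 : Fˣ)) c
  have hg : goMap (rat_qfPlus.ratAt σ) g = g := Subtype.ext (Units.ext (by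
    show (Matrix.diagonal _).map σ = Matrix.diagonal _
    rw [Matrix.diagonal_map (map_zero σ)]
    congr 1
    funext i
    rcases i with i | i <;> simp [c, (hj (j ε)).2 ⟨ε, rfl⟩]))
  have hθ := theta_diag (F := F) hm h2 (fun _ => (1 : Fˣ)) sU
  simp only [map_one, Finset.prod_const_one, one_mul] at hθ
  obtain ⟨h1, h2'⟩ := H.split_two (rat_qfPlus.ratAt σ) (qfPlus_rat j) (evenSpace_plus hm) hj h2 hsq hg
    (psgn_diagSim hm h2 _ _) hε (by rw [mu_diagSim hm]; rfl)
    (h := torus m F fun _ => 1 * sU⁻¹) (s := s) (diagSim_torus _ hsc)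
  simp only [one_mul] at h1 h2'
  have hchar : Fintype.card F₀ % 4 = 1 ↔ sqChar F sU = -1 := by
    have hodd := Nat.odd_iff.1 (Nat.odd_iff.2 (FiniteField.odd_card_of_char_ne_two
      (ringChar_ne_two (two_small j h2))))
    have hiff := sqChar_sqrt hcard h2 hε (s := sU) hs.symm
    rcases Int.units_eq_one_or (sqChar F sU) with h | h <;> rw [h] at hiff ⊢ <;> simp at hiff ⊢ <;> omega
  constructor
  · rintro ⟨hodd, h4⟩
    exact h2' (by rw [hθ]; exact sqChar_pow_iff.2 ⟨hchar.1 h4, hodd⟩)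
  · intro hn
    refine h1 ((Int.units_eq_one_or _).resolve_right fun h => hn ?_)
    rw [hθ, sqChar_pow_iff] at h
    exact ⟨h.2, hchar.2 h.1⟩

end Field

section GraphField

variable {F : Type*} [Field F] [Fintype F] {k : ℕ} {F₀ : Type*} [Field F₀] [Fintype F₀]

local notation "ιp" => (Fin (k + 1) ⊕ Fin (k + 1))
local notation "Qp" => qfPlus (k + 1) F

set_option maxHeartbeats 4000000 in
/-- An involutory graph-field automorphism. -/
theorem plus_graphField_stats (hm : 5 ≤ k + 1) {p f : ℕ} [Fact p.Prime] (hF : Fintype.card F = p ^ f)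
    {x : MulAut (POmega F ⇑Qp)} (hx : IsGraphFieldPlus (k + 1) (⇑Qp) x) (hx2 : orderOf x = 2)
    (hF₀ : Fintype.card F₀ = p ^ (f / 2)) :
    Even f ∧ (∀ y : MulAut (POmega F ⇑Qp), IsGraphFieldPlus (k + 1) (⇑Qp) y → orderOf y = 2 →
      IsConjUnder (evenSpace_plus (F := F) hm).diagAut x y) ∧
    (∃ (a₀ b₀ : F₀) (hab₀ : Aniso F₀ a₀ b₀), Nonempty
      (↥((evenSpace_plus (F := F) hm).diagAut ⊓ Subgroup.centralizer {x}) ≃*
        ↥(evenSpace_minus (m := k) (by omega) hab₀).diagAut)) ∧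
    (p = 2 → splitClassCount (evenSpace_plus (F := F) hm).diagAut (Inn (POmega F ⇑Qp)) x = 1) ∧
    ((p ≠ 2 ∧ Odd (k + 1) ∧ p ^ (f / 2) % 4 = 1) →
      splitClassCount (evenSpace_plus (F := F) hm).diagAut (Inn (POmega F ⇑Qp)) x = 4) ∧
    ((p ≠ 2 ∧ ¬(Odd (k + 1) ∧ p ^ (f / 2) % 4 = 1)) →
      splitClassCount (evenSpace_plus (F := F) hm).diagAut (Inn (POmega F ⇑Qp)) x = 2) := by
  haveI : CharP F p := charP_of_card_eq_prime_pow hF
  have H := evenSpace_plus (F := F) hm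
  obtain ⟨-, σ, a, hσ1, hσ, ha, hxe⟩ := plus_graphField_std hm hx Nat.prime_two hx2
  obtain ⟨hrf, -, j, hj⟩ := PSLAut.exists_fixed_embedding (p := p) hF hσ F₀ hF₀
  have hcard : Fintype.card F = Fintype.card F₀ ^ 2 := by
    rw [hF, hF₀, ← pow_mul, Nat.div_mul_cancel hrf]
  have hσσ : ∀ z, σ (σ z) = z := fun z => by
    have h : σ ^ 2 = 1 := hσ ▸ pow_orderOf_eq_one σ
    exact congrArg (fun τ : RingAut F => τ z) (sq σ ▸ h)
  obtain ⟨t, ht⟩ : ∃ t, σ t ≠ t := by
    by_contra h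
    push Not at h
    exact hσ1 (RingEquiv.ext h)
  have hAdiag : goHom Qp a ∈ H.diagAut := H.mem_diagAut.2 ⟨a, ha, rfl⟩
  haveI := H.diagAut_normal
  obtain ⟨a₀, ha₀⟩ := (hj (t + σ t)).1 (by rw [map_add, hσσ, add_comm])
  obtain ⟨b₀, hb₀⟩ := (hj (t * σ t)).1 (by rw [map_mul, hσσ, mul_comm])
  have hab₀ : Aniso F₀ a₀ b₀ := fun z₁ z₂ h => by
    have h' : (j z₁ + t * j z₂) * (j z₁ + σ t * j z₂) = 0 := by
      have e := congrArg j h
      simp only [map_add, map_mul, map_pow, map_zero, ha₀, hb₀] at e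
      linear_combination e
    by_cases hz : z₂ = 0
    · subst hz; exact ⟨by simpa using h, rfl⟩
    exfalso
    have hz' : j z₂ ≠ 0 := by simpa using hz
    refine ht ?_
    rcases mul_eq_zero.1 h' with e | e
    · have ht' : t = j (-z₁ / z₂) := by rw [map_div₀, map_neg, eq_div_iff hz']; linear_combination e
      rw [ht']; exact (hj _).2 ⟨_, rfl⟩
    · have ht' : σ t = j (-z₁ / z₂) := by rw [map_div₀, map_neg, eq_div_iff hz']; linear_combination e
      exact (σ.injective ((show σ (σ t) = σ t by rw [ht']; exact (hj _).2 ⟨_, rfl⟩).trans rfl))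
  have hP : ∀ u, qfMinus k F (t + σ t) (t * σ t) (j ∘ u) = j (qfMinus k F₀ a₀ b₀ u) := fun u => by
    rw [← ha₀, ← hb₀]; simp [qfMinus_apply, quadFormMinus, map_sum]
  have hR' : RatAt (qfMinus k F (t + σ t) (t * σ t)) σ := fun v => by
    simp [qfMinus_apply, quadFormMinus, map_sum, hσσ, add_comm (σ t), mul_comm (σ t)]
  set D := model (k := k) ht
  have H' : EvenSpace (qfMinus k F (t + σ t) (t * σ t)) (k + 1) := H.map D
  have H₀ := evenSpace_minus (m := k) (by omega) hab₀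
  set A := goHom Qp a with hA
  set X₀ := goHom Qp (stdRefl (k + 1) F) * fld (rat_qfPlus.ratAt σ) with hX₀
  set κ := (MulAut.conj A⁻¹).trans D.aut
  have hκx : κ x = fld hR' := by
    show D.aut (A⁻¹ * x * A⁻¹⁻¹) = _
    rw [show A⁻¹ * x * A⁻¹⁻¹ = X₀ by rw [hxe]; group, model_aut ht hσ hR']
  have hκd : H.diagAut.map κ.toMonoidHom = H'.diagAut := by
    show H.diagAut.map (D.aut.toMonoidHom.comp (MulAut.conj A⁻¹).toMonoidHom) = _
    rw [← Subgroup.map_map, map_conj_of_normal H.diagAut A⁻¹, D.map_diagAut H H']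
  have hκi : (Inn (POmega F ⇑Qp)).map κ.toMonoidHom = Inn _ := by
    show (Inn (POmega F ⇑Qp)).map (D.aut.toMonoidHom.comp (MulAut.conj A⁻¹).toMonoidHom) = _
    rw [← Subgroup.map_map, map_conj_of_normal _ A⁻¹]
    exact inn_map_congr D.po
  have hsplit : splitClassCount H.diagAut (Inn (POmega F ⇑Qp)) x =
      splitClassCount H'.diagAut (Inn _) (fld hR') := by
    rw [← splitClassCount_map κ, hκd, hκi, hκx]
  refine ⟨even_iff_two_dvd.2 hrf, fun y hy hy2 => ?_, ⟨a₀, b₀, hab₀, ?_⟩, fun hp => ?_, ?_⟩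
  · obtain ⟨-, τ, b, -, hτ, hb, hye⟩ := plus_graphField_std hm hy Nat.prime_two hy2
    haveI : IsCyclic (RingAut F) := (PSLAut.card_ringAut (F := F) hF).1
    haveI : Finite (RingAut F) := Finite.of_injective (fun τ => (τ : F → F)) DFunLike.coe_injective
    obtain rfl := involution_unique hτ hσ
    refine ⟨goHom Qp b * (goHom Qp a)⁻¹, mul_mem (H.mem_diagAut.2 ⟨b, hb, rfl⟩) (inv_mem hAdiag), ?_⟩
    rw [hye, hxe]
    simp only [hA, hX₀]
    group
  · obtain ⟨e⟩ := H'.centralizer_iso hR' hP H₀ hj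
    refine ⟨?_⟩
    refine (Subgroup.equivMapOfInjective _ κ.toMonoidHom κ.injective).trans ?_
    refine (MulEquiv.subgroupCongr ?_).trans e
    rw [centralizer_map, hκd, hκx]
  · subst hp
    have h2 : (2 : F) = 0 := CharTwo.two_eq_zero
    rw [hsplit, splitClassCount_eq_relIndex _ _ H'.inn_le_diagAut, Subgroup.relIndex_eq_one,
      H'.diagAut_eq_inn_two h2]
    exact le_sup_left
  by_cases hp : p = 2
  · exact ⟨fun h => absurd hp h.1, fun h => absurd hp h.1⟩
  have h2 : (2 : F) ≠ 0 := fun h => hp (by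
    haveI : CharP F 2 := CharTwo.of_one_ne_zero_of_two_eq_zero one_ne_zero h
    exact CharP.eq F ‹CharP F p› this)
  have hsq := isSquare_fixed (j := j) hcard h2
  obtain ⟨ε, hε⟩ := FiniteField.exists_nonsquare (F := F₀) (ringChar_ne_two (two_small j h2))
  have hε0 : ε ≠ 0 := fun h0 => hε (h0 ▸ IsSquare.zero)
  have hjε : j ε ≠ 0 := by simpa using hε0
  obtain ⟨s, hs⟩ := hsq ε
  have hs0 : s ≠ 0 := fun h0 => hjε (by rw [hs, h0, mul_zero])
  obtain ⟨lam, hlam, hlamc⟩ := exists_norm_nonsquare hcard h2 hσ hj hε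
  set c := Units.mk0 (j ε) hjε
  set sU := Units.mk0 s hs0
  have hsc : sU * sU = c := Units.ext hs.symm
  set lv : Fin (k + 1) → Fˣ := Fin.cons lam fun _ => 1
  set G := diagSim (k + 1) lv c
  set R := ogVal (refl (stdVec_ne (m := k + 1) (F := F)))
  have hGR : R * ((G : GL ιp F).1).map σ = (G : GL ιp F).1 * R := by
    refine Matrix.ext_iff_mulVec.2 fun v => ?_
    rw [← Matrix.mulVec_mulVec, ← Matrix.mulVec_mulVec]
    simp only [R, stdRefl_apply]
    rw [diagSim_val, Matrix.diagonal_map (map_zero σ), Matrix.mulVec_add, Matrix.mulVec_smul]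
    funext i
    have hl : σ (lam : F) = j ε / lam := by rw [eq_div_iff lam.ne_zero, mul_comm, hlam]
    have hcσ : σ (j ε) = j ε := (hj _).2 ⟨ε, rfl⟩
    rcases i with i | i <;> refine Fin.cases ?_ (fun l => ?_) i <;>
      simp [lv, stdVec, Matrix.mulVec_diagonal, c, hl, hcσ, Fin.succ_ne_zero] <;> field_simp <;> ring
  have hg : goMap hR' (D.go G) = D.go G := Subtype.ext (Units.ext (by
    show (D.M * (G : GL ιp F).1 * D.N).map σ = D.M * (G : GL ιp F).1 * D.N
    rw [Matrix.map_mul, Matrix.map_mul, model_M_map ht hσ, model_N_map ht hσ]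
    simp only [Matrix.mul_assoc]
    rw [← Matrix.mul_assoc R, hGR, Matrix.mul_assoc, ← Matrix.mul_assoc R R]
    show D.M * ((G : GL ιp F).1 * (ogVal (refl _) * ogVal (refl _) * D.N)) = _
    rw [← ogVal_mul, refl_mul_self, ogVal_one, Matrix.one_mul]))
  have hG1 : psgn (k + 1) (D.go G) = 1 := by rw [D.psgn_go H H', psgn_diagSim hm h2]
  have hθ := theta_diag (F := F) hm h2 lv sU
  rw [Fin.prod_univ_succ] at hθ
  simp only [lv, Fin.cons_zero, Fin.cons_succ, map_one, Finset.prod_const_one, mul_one, hlamc] at hθ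
  obtain ⟨h1, h2'⟩ := H'.split_two hR' hP H₀ hj h2 hsq hg hG1 hε
    (by rw [D.mu_go H H', mu_diagSim hm]; rfl) (h := D.og (torus (k + 1) F fun i => lv i * sU⁻¹)) (s := s) (by
      show D.M * (G : GL ιp F).1 * D.N = s • (D.M * ogVal (torus (k + 1) F fun i => lv i * sU⁻¹) * D.N)
      rw [diagSim_torus lv hsc, Matrix.mul_smul, Matrix.smul_mul]
      rfl)
  rw [D.theta_og, hθ, neg_one_mul] at h1 h2'
  have hchar : Fintype.card F₀ % 4 = 1 ↔ sqChar F sU = -1 := by
    have hodd := FiniteField.odd_card_of_char_ne_two (ringChar_ne_two (two_small j h2))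
    have hiff := sqChar_sqrt hcard h2 hε (s := sU) hs.symm
    rcases Int.units_eq_one_or (sqChar F sU) with h | h <;> rw [h] at hiff ⊢ <;> simp at hiff ⊢ <;> omega
  rw [hsplit]
  constructor
  · rintro ⟨-, hodd, h4⟩
    exact h1 (by rw [sqChar_pow_iff.2 ⟨hchar.1 (hF₀ ▸ h4), hodd⟩]; rfl)
  · rintro ⟨-, hn⟩
    refine h2' ((Int.units_eq_one_or (sqChar F sU ^ (k + 1))).elim (fun h => by rw [h]) fun h => absurd ?_ hn)
    rw [sqChar_pow_iff] at h
    exact ⟨h.2, hF₀ ▸ hchar.2 h.1⟩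

theorem plus_graphField_stats_fn {fn : (ιp → F) → F} (hfn : ⇑Qp = fn) (hm : 5 ≤ k + 1) {p f : ℕ}
    [Fact p.Prime] (hF : Fintype.card F = p ^ f) {x : MulAut (POmega F fn)}
    (hx : IsGraphFieldPlus (k + 1) fn x) (hx2 : orderOf x = 2) (hF₀ : Fintype.card F₀ = p ^ (f / 2))
    {fn₀ : F₀ → F₀ → (((Fin k ⊕ Fin k) ⊕ Fin 2) → F₀) → F₀}
    (hfn₀ : (fun a b => ⇑(qfMinus k F₀ a b)) = fn₀)
    {G : Subgroup (MulAut (POmega F fn))}
    (hG : G = autSubgroupOf (fun β : POmega F fn ≃* POmega F fn =>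
      ∃ g : GL ιp F, g ∈ Geo.quadSimilarityGroup (F := F) fn ∧
        PreservesSingularClasses (quadFormPlus (k + 1) F) (g : Matrix _ _ F) ∧
        IsInducedBySemilinearPOmega fn g (RingEquiv.refl F) β)) :
    Even f ∧ (∀ y : MulAut (POmega F fn), IsGraphFieldPlus (k + 1) fn y → orderOf y = 2 → IsConjUnder G x y) ∧
    (∃ a₀ b₀ : F₀, Aniso F₀ a₀ b₀ ∧ Nonempty (↥(G ⊓ Subgroup.centralizer {x}) ≃*
      ↥(autSubgroupOf (fun β : POmega F₀ (fn₀ a₀ b₀) ≃* POmega F₀ (fn₀ a₀ b₀) =>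
        ∃ g : GL ((Fin k ⊕ Fin k) ⊕ Fin 2) F₀, g ∈ Geo.quadSimilarityGroup (F := F₀) (fn₀ a₀ b₀) ∧
          PreservesSingularClassesMinus k a₀ b₀ (g : Matrix _ _ F₀) ∧
          IsInducedBySemilinearPOmega (fn₀ a₀ b₀) g (RingEquiv.refl F₀) β)))) ∧
    (p = 2 → splitClassCount G (Inn (POmega F fn)) x = 1) ∧
    ((p ≠ 2 ∧ Odd (k + 1) ∧ p ^ (f / 2) % 4 = 1) → splitClassCount G (Inn (POmega F fn)) x = 4) ∧
    ((p ≠ 2 ∧ ¬(Odd (k + 1) ∧ p ^ (f / 2) % 4 = 1)) → splitClassCount G (Inn (POmega F fn)) x = 2) := by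
  subst hfn hfn₀
  rw [inndiag_plus_eq hm] at hG
  subst hG
  obtain ⟨h1, h2, ⟨a₀, b₀, h3, h4⟩, h5⟩ := plus_graphField_stats hm hF hx hx2 hF₀
  refine ⟨h1, h2, ⟨a₀, b₀, h3, ?_⟩, h5⟩
  rw [inndiag_minus_eq (by omega) h3]
  exact h4

end GraphField

end Cfsg.Agent.Classical.OrthAut
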