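import Cfsg.Agent.Lib.Classical.OrthPlusField

/-!
Classes of field and graph-field automorphisms of prime order of the hyperbolic `PΩ`.
-/

set_option autoImplicit false
set_option linter.unusedSectionVars false
set_option quotPrecheck false

namespace Cfsg.Agent.Classical.OrthAut

open Matrix Module Cfsg.Agent.Classical.Descent

variable {F : Type*} [Field F] [Fintype F] {m : ℕ} [NeZero m]

local notation "ιp" => (Fin m ⊕ Fin m)
local notation "Qp" => qfPlus m F
local notation "GOp" => Geo.quadSimilarityGroup (F := F) ⇑(qfPlus m F)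
local notation "fl" => fun σ => fld (Rat.ratAt (rat_qfPlus (F := F) (m := m)) σ)

/-- A graph-field class element, in the words of the definition. -/
def IsGraphFieldPlus (m : ℕ) {F : Type*} [Field F] (fn : (Fin m ⊕ Fin m → F) → F)
    (β : MulAut (POmega F fn)) : Prop :=
  ∃ (α γ φ : MulAut (POmega F fn)) (σ : F ≃+* F) (v : Fin m ⊕ Fin m → F) (r : GL (Fin m ⊕ Fin m) F),
    σ ≠ RingEquiv.refl F ∧ fn v ≠ 0 ∧ (∀ i, σ (v i) = v i) ∧
    (r : Matrix (Fin m ⊕ Fin m) (Fin m ⊕ Fin m) F) = reflectionMatrix fn v ∧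
    IsInducedBySemilinearPOmega fn r (RingEquiv.refl F) γ ∧
    IsFieldAutPOmegaOf fn σ φ ∧ α * β * α⁻¹ = γ * φ

/-- A field class element of prime order in standard position. -/
theorem plus_field_std (hm : 5 ≤ m) {x : MulAut (POmega F ⇑Qp)} (hx : IsFieldAutClassPOmega (⇑Qp) x)
    {r : ℕ} (hr : r.Prime) (hxr : orderOf x = r) :
    ∃ (σ : RingAut F) (a : GOp), σ ≠ 1 ∧ orderOf σ = r ∧ psgn m a = 1 ∧
      x = goHom Qp a * fl σ * (goHom Qp a)⁻¹ := by
  have H := evenSpace_plus (F := F) hm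
  obtain ⟨σ, a, hσ, ha, rfl⟩ := H.fieldClass_param rat_qfPlus hx
    fun σ => ⟨stdVec m F, stdVec_ne, stdVec_fixed σ⟩
  refine ⟨σ, a, hσ, ?_, ha, rfl⟩
  refine (H.orderOf_go_field (rat_qfPlus.ratAt σ) (d := 1) hr hσ ?_).1
  rw [map_one, one_mul, ← hxr]
  exact ((MulAut.conj (goHom Qp a)).orderOf_eq _).symm

/-- A graph-field class element of prime order in standard position. -/
theorem plus_graphField_std (hm : 5 ≤ m) {x : MulAut (POmega F ⇑Qp)} (hx : IsGraphFieldPlus m (⇑Qp) x)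
    {r : ℕ} (hr : r.Prime) (hxr : orderOf x = r) :
    r = 2 ∧ ∃ (σ : RingAut F) (a : GOp), σ ≠ 1 ∧ orderOf σ = 2 ∧ psgn m a = 1 ∧
      x = goHom Qp a * (goHom Qp (stdRefl m F) * fl σ) * (goHom Qp a)⁻¹ := by
  have H := evenSpace_plus (F := F) hm
  obtain ⟨α, γ, φ, σ, v, rg, hσ, hv, hvσ, hr', hγ, hφ, hα⟩ := hx
  have hrg : rg = ((ogToGO Qp (refl hv) : GOp) : GL ιp F) := Units.ext hr'
  have hγ' : γ = goHom Qp (ogToGO Qp (refl hv)) := by
    subst hrg
    exact (induced_iff (isPair_refl (ogToGO Qp (refl hv)).2)).1 hγ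
  obtain ⟨a, R, ha, hR, -, -, rfl⟩ := H.graphFieldClass_param rat_qfPlus (σ := σ) hv (funext hvσ) hγ'
    ((fld_induced_iff (rat_qfPlus.ratAt σ)).1 hφ) hα
  have hord : orderOf (goHom Qp R * fl σ) = r :=
    ((MulAut.conj (goHom Qp a)).orderOf_eq _).symm.trans hxr
  have hσr := (H.orderOf_go_field (rat_qfPlus.ratAt σ) hr hσ hord).1
  rcases plus_coset_std hm hr hσ hord with ⟨h, -⟩ | ⟨rfl, -, g, hg, he⟩
  · rw [hR] at h; exact absurd h (by decide)
  refine ⟨rfl, σ, a * g, hσ, hσr, by rw [H.psgn_mul, ha, hg]; rfl, ?_⟩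
  show goHom Qp a * (goHom Qp R * fl σ) * (goHom Qp a)⁻¹ = _
  rw [show goHom Qp R * fl σ = _ from he, map_mul]
  group

set_option maxHeartbeats 1000000 in
/-- The coset criterion. -/
theorem plus_coset_iff (hm : 5 ≤ m) {x δ : MulAut (POmega F ⇑Qp)}
    (hx : IsFieldAutClassPOmega (⇑Qp) x ∨ IsGraphFieldPlus m (⇑Qp) x) {r : ℕ} (hr : r.Prime)
    (hxr : orderOf x = r) (hδ : δ ∈ (evenSpace_plus (F := F) hm).diagAut) :
    orderOf (δ * x) = r ↔ IsConjUnder (evenSpace_plus (F := F) hm).diagAut x (δ * x) := by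
  have H := evenSpace_plus (F := F) hm
  constructor
  swap
  · rintro ⟨h, -, he⟩
    rw [he, ← hxr]
    exact (MulAut.conj h).orderOf_eq x
  intro hord
  obtain ⟨e, he1, rfl⟩ := hδ
  have he : psgn m e = 1 := he1
  obtain ⟨σ, a, R, hσ, ha, hR, rfl⟩ : ∃ (σ : RingAut F) (a R : GOp), σ ≠ 1 ∧ psgn m a = 1 ∧
      (R = 1 ∨ R = stdRefl m F) ∧ x = goHom Qp a * (goHom Qp R * fl σ) * (goHom Qp a)⁻¹ := by
    rcases hx with h | h
    · obtain ⟨σ, a, h1, -, h3, h4⟩ := plus_field_std hm h hr hxr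
      exact ⟨σ, a, 1, h1, h3, Or.inl rfl, by rw [map_one, one_mul, h4]⟩
    · obtain ⟨-, σ, a, h1, -, h3, h4⟩ := plus_graphField_std hm h hr hxr
      exact ⟨σ, a, stdRefl m F, h1, h3, Or.inr rfl, h4⟩
  set A := goHom Qp a
  have hd : goHom Qp e * (A * (goHom Qp R * fl σ) * A⁻¹) =
      A * (goHom Qp (a⁻¹ * e * a * R) * fl σ) * A⁻¹ := by
    simp only [A, map_mul, map_inv]; group
  have hord' : orderOf (goHom Qp (a⁻¹ * e * a * R) * fl σ) = r := by
    rw [hd] at hord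
    rw [← hord]
    exact ((MulAut.conj A).orderOf_eq _).symm
  have hs : psgn m (a⁻¹ * e * a * R) = psgn m R := by
    rw [H.psgn_mul, H.psgn_mul, H.psgn_mul, show psgn m a⁻¹ = psgn m a from
      (H.psgnHom.map_inv a).trans (Int.units_inv_eq_self _), ha, he]
    simp
  obtain ⟨g, hg, hconj⟩ : ∃ g : GOp, psgn m g = 1 ∧ goHom Qp (a⁻¹ * e * a * R) * fl σ =
      goHom Qp g * (goHom Qp R * fl σ) * (goHom Qp g)⁻¹ := by
    rcases plus_coset_std hm hr hσ hord' with ⟨h, g, hg, hc⟩ | ⟨-, h, g, hg, hc⟩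
    · rcases hR with rfl | rfl
      · exact ⟨g, hg, by rw [map_one, one_mul]; exact hc⟩
      · rw [hs, psgn_stdRefl hm] at h; exact absurd h (by decide)
    · rcases hR with rfl | rfl
      · rw [hs, show psgn m (1 : GOp) = 1 from map_one H.psgnHom] at h; exact absurd h (by decide)
      · exact ⟨g, hg, hc⟩
  refine ⟨goHom Qp (a * g * a⁻¹), ?_, ?_⟩
  · rw [H.goHom_mem_diagAut_iff, H.psgn_mul, H.psgn_mul, show psgn m a⁻¹ = psgn m a from
      (H.psgnHom.map_inv a).trans (Int.units_inv_eq_self _), ha, hg]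
    rfl
  · show goHom Qp e * _ = _
    rw [hd, hconj, map_mul, map_mul, map_inv]
    simp only [A]
    group

theorem plus_coset_iff_fn {fn : (ιp → F) → F} (hfn : ⇑Qp = fn) (hm : 5 ≤ m) {x δ : MulAut (POmega F fn)}
    (hx : IsFieldAutClassPOmega fn x ∨ IsGraphFieldPlus m fn x) {r : ℕ} (hr : r.Prime) (hxr : orderOf x = r)
    (hδ : δ ∈ autSubgroupOf (fun β : POmega F fn ≃* POmega F fn =>
      ∃ g : GL ιp F, g ∈ Geo.quadSimilarityGroup (F := F) fn ∧
        PreservesSingularClasses (quadFormPlus m F) (g : Matrix _ _ F) ∧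
        IsInducedBySemilinearPOmega fn g (RingEquiv.refl F) β)) :
    orderOf (δ * x) = r ↔ IsConjUnder (autSubgroupOf (fun β : POmega F fn ≃* POmega F fn =>
      ∃ g : GL ιp F, g ∈ Geo.quadSimilarityGroup (F := F) fn ∧
        PreservesSingularClasses (quadFormPlus m F) (g : Matrix _ _ F) ∧
        IsInducedBySemilinearPOmega fn g (RingEquiv.refl F) β)) x (δ * x) := by
  subst hfn
  rw [inndiag_plus_eq hm] at hδ ⊢
  exact plus_coset_iff hm hx hr hxr hδ

end Cfsg.Agent.Classical.OrthAut
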