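import Cfsg.Agent.Lib.Classical.OrthRoots

/-!
The incidence of lines of a polar space read off from long root elements: two of them have meeting
lines iff they commute and either multiply to a long root element or do not have the common
neighbourhood of a pair of skew orthogonal lines.
-/

set_option autoImplicit false
set_option linter.unusedSectionVars false
set_option quotPrecheck false

namespace Cfsg.Agent.Classical.OrthAut

open Matrix

variable {F : Type*} [Field F] {ι : Type} [Fintype ι] [DecidableEq ι] {Q : QuadraticForm F (ι → F)}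

local notation "V" => (ι → F)
local notation "Mn" => Matrix ι ι F
local notation "B" => QuadraticMap.polar ⇑Q

variable (Q) in
/-- A hyperbolic pair. -/
def Pair (e f : V) : Prop := Q e = 0 ∧ Q f = 0 ∧ B e f = 1

variable (Q) in
/-- Orthogonal to both members of a pair. -/
def Perp (e f w : V) : Prop := B e w = 0 ∧ B f w = 0

variable (Q) in
/-- The orthogonal projection away from a pair. -/
def proj (e f z : V) : V := z - B f z • e - B e z • f

variable (Q) in
/-- `Q` has a totally singular subspace of dimension three. -/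
def Tri : Prop :=
  ∃ a b c, TS Q a b ∧ Q c = 0 ∧ B a c = 0 ∧ B b c = 0 ∧
    ∀ s t u : F, s • a + t • b + u • c = 0 → s = 0 ∧ t = 0 ∧ u = 0

theorem Pair.ne {e f : V} (P : Pair Q e f) : e ≠ 0 := fun h => by simpa [h] using P.2.2

theorem Pair.symm {e f : V} (P : Pair Q e f) : Pair Q f e :=
  ⟨P.2.1, P.1, by rw [QuadraticMap.polar_comm]; exact P.2.2⟩

theorem perp_proj {e f : V} (P : Pair Q e f) (z : V) : Perp Q e f (proj Q e f z) := by
  simp [Perp, proj, QuadraticMap.polar_sub_right, QuadraticMap.polar_smul_right, polar_self' P.1,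
    polar_self' P.2.1, P.2.2, QuadraticMap.polar_comm _ f e]

theorem polar_proj {e f u : V} (hu : Perp Q e f u) (z : V) : B u (proj Q e f z) = B u z := by
  simp [proj, QuadraticMap.polar_sub_right, QuadraticMap.polar_smul_right,
    QuadraticMap.polar_comm _ u e, QuadraticMap.polar_comm _ u f, hu.1, hu.2]

theorem pair_decomp {e f : V} (_P : Pair Q e f) (z : V) :
    z = B f z • e + B e z • f + proj Q e f z := by rw [proj]; module

theorem TS.of_perp {e f w : V} (P : Pair Q e f) (hw : Q w = 0) (hp : Perp Q e f w) (hw0 : w ≠ 0) :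
    TS Q e w := ⟨P.1, hw, hp.1, fun s t h0 => by
  have h1 := congrArg (B f) h0
  simp [QuadraticMap.polar_add_right, QuadraticMap.polar_smul_right, hp.2,
    QuadraticMap.polar_comm _ f e, P.2.2] at h1
  exact ⟨h1, by simpa [h1, hw0] using h0⟩⟩

variable (hQ : (QuadraticMap.polarBilin Q).Nondegenerate)
include hQ

/-- A singular vector orthogonal to a pair has a partner orthogonal to it. -/
theorem exists_partner {e f u : V} (P : Pair Q e f) (hu : Perp Q e f u) (hu0 : u ≠ 0) (huu : Q u = 0) :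
    ∃ u', Pair Q u u' ∧ Perp Q e f u' := by
  obtain ⟨z, hz⟩ := exists_polar1 hQ hu0 1
  have h1 : B u (proj Q e f z) = 1 := by rw [polar_proj hu, hz]
  refine ⟨proj Q e f z + (-Q (proj Q e f z)) • u, ⟨huu, ?_, ?_⟩, ?_, ?_⟩
  · rw [quad_add_smul, huu, QuadraticMap.polar_comm, h1]; ring
  · rw [QuadraticMap.polar_add_right, h1, QuadraticMap.polar_smul_right, polar_self' huu, smul_zero,
      add_zero]
  · rw [QuadraticMap.polar_add_right, (perp_proj P z).1, QuadraticMap.polar_smul_right, hu.1]; simp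
  · rw [QuadraticMap.polar_add_right, (perp_proj P z).2, QuadraticMap.polar_smul_right, hu.2]; simp

/-- The same inside the orthogonal space of two pairs. -/
theorem exists_partner2 {e f c d u : V} (P : Pair Q e f) (P' : Pair Q c d) (hc : Perp Q e f c)
    (hd : Perp Q e f d) (hu : Perp Q e f u) (hu' : Perp Q c d u) (hu0 : u ≠ 0) (huu : Q u = 0) :
    ∃ u', Pair Q u u' ∧ Perp Q e f u' ∧ Perp Q c d u' := by
  obtain ⟨z, hz⟩ := exists_polar1 hQ hu0 1
  set w := proj Q c d (proj Q e f z) with hw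
  have h1 : B u w = 1 := by rw [hw, polar_proj hu', polar_proj hu, hz]
  have hw1 : Perp Q e f w := by
    have h := perp_proj P z
    constructor <;>
      simp [hw, proj, QuadraticMap.polar_sub_right, QuadraticMap.polar_smul_right,
        hc.1, hc.2, hd.1, hd.2, polar_self' P.1, polar_self' P.2.1, P.2.2,
        QuadraticMap.polar_comm _ f e]
  have hw2 : Perp Q c d w := perp_proj P' _
  refine ⟨w + (-Q w) • u, ⟨huu, ?_, ?_⟩, ⟨?_, ?_⟩, ?_, ?_⟩
  · rw [quad_add_smul, huu, QuadraticMap.polar_comm, h1]; ring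
  · rw [QuadraticMap.polar_add_right, h1, QuadraticMap.polar_smul_right, polar_self' huu, smul_zero,
      add_zero]
  · rw [QuadraticMap.polar_add_right, hw1.1, QuadraticMap.polar_smul_right, hu.1]; simp
  · rw [QuadraticMap.polar_add_right, hw1.2, QuadraticMap.polar_smul_right, hu.2]; simp
  · rw [QuadraticMap.polar_add_right, hw2.1, QuadraticMap.polar_smul_right, hu'.1]; simp
  · rw [QuadraticMap.polar_add_right, hw2.2, QuadraticMap.polar_smul_right, hu'.2]; simp

variable (hT : Tri Q)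
include hT

omit hQ in
/-- A singular vector orthogonal to two given vectors. -/
theorem exists_singular_perp (p r : V) : ∃ w, w ≠ 0 ∧ Q w = 0 ∧ B p w = 0 ∧ B r w = 0 := by
  obtain ⟨a, b, c, hab, hc, hac, hbc, hind⟩ := hT
  let L : (Fin 3 → F) →ₗ[F] V := Fintype.linearCombination F ![a, b, c]
  let g : (Fin 3 → F) →ₗ[F] F × F :=
    ((QuadraticMap.polarBilin Q p).comp L).prod ((QuadraticMap.polarBilin Q r).comp L)
  obtain ⟨x, hx, hx0⟩ := Submodule.exists_mem_ne_zero_of_ne_bot
    (LinearMap.ker_ne_bot_of_finrank_lt (f := g) (by simp))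
  have hL : L x = x 0 • a + x 1 • b + x 2 • c := by
    simp [L, Fintype.linearCombination_apply, Fin.sum_univ_three]
  rw [LinearMap.mem_ker] at hx
  refine ⟨L x, fun h0 => hx0 ?_, ?_, congrArg Prod.fst hx, congrArg Prod.snd hx⟩
  · obtain ⟨h1, h2, h3⟩ := hind _ _ _ (hL ▸ h0)
    funext i; fin_cases i <;> assumption
  · rw [hL, quad_add_smul, quad_lin, hab.1, hab.2.1, hab.2.2.1, hc, polar_lin_left, hac, hbc]; ring

omit hT in
/-- Witt: pairs are conjugate. -/
theorem exists_isometry_map {U : Type*} [AddCommGroup U] [Module F U] (L L' : U →ₗ[F] V)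
    (hL : Function.Injective L) (hL' : Function.Injective L') (h : ∀ u, Q (L' u) = Q (L u)) :
    ∃ g : Mn, g.det ≠ 0 ∧ (∀ x, Q (g *ᵥ x) = Q x) ∧ ∀ u, g *ᵥ L u = L' u := by
  obtain ⟨g, hg, hgu⟩ := witt_maps Q hQ L L' hL hL' h
  have key : ∀ x, LinearMap.toMatrix' g.toLinearMap *ᵥ x = g x :=
    fun x => LinearMap.toMatrix'_mulVec _ x
  refine ⟨LinearMap.toMatrix' g.toLinearMap, ?_, fun x => by rw [key, hg], fun u => by rw [key, hgu]⟩
  rw [LinearMap.det_toMatrix']
  exact g.isUnit_det'.ne_zero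

/-- Two orthogonal pairs leave a singular vector. -/
theorem exists_singular_perp2 {e f c d : V} (P : Pair Q e f) (P' : Pair Q c d) (hc : Perp Q e f c)
    (hd : Perp Q e f d) : ∃ u, u ≠ 0 ∧ Q u = 0 ∧ Perp Q e f u ∧ Perp Q c d u := by
  obtain ⟨a, b, w, hab, hw, haw, hbw, hind⟩ := hT
  -- pairs on `a`, `b` orthogonal to `w`
  have li : LinearIndependent F ![a, b, w] := li3 hind
  obtain ⟨z, hz⟩ := exists_polar hQ li ![1, 0, 0]
  have hza : B a z = 1 := hz 0
  have hzb : B b z = 0 := hz 1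
  have hzw : B w z = 0 := hz 2
  set a' := z + (-Q z) • a with ha'
  have Pa : Pair Q a a' := ⟨hab.1, by rw [ha', quad_add_smul, hab.1, QuadraticMap.polar_comm, hza]; ring,
    by rw [ha', QuadraticMap.polar_add_right, hza, QuadraticMap.polar_smul_right, polar_self' hab.1,
      smul_zero, add_zero]⟩
  have hb' : Perp Q a a' b := ⟨hab.2.2.1, by
    rw [ha', QuadraticMap.polar_add_left, QuadraticMap.polar_comm _ z b, hzb,
      QuadraticMap.polar_smul_left, hab.2.2.1]; simp⟩
  have hw' : Perp Q a a' w := ⟨haw, by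
    rw [ha', QuadraticMap.polar_add_left, QuadraticMap.polar_comm _ z w, hzw,
      QuadraticMap.polar_smul_left, haw]; simp⟩
  obtain ⟨y, hy⟩ := exists_polar hQ li ![0, 1, 0]
  set y' := proj Q a a' y with hy'
  have hyb : B b y' = 1 := by rw [hy', polar_proj hb']; exact hy 1
  have hyw : B w y' = 0 := by rw [hy', polar_proj hw']; exact hy 2
  set b' := y' + (-Q y') • b with hb'def
  have Pb : Pair Q b b' := ⟨hab.2.1, by rw [hb'def, quad_add_smul, hab.2.1, QuadraticMap.polar_comm, hyb]; ring,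
    by rw [hb'def, QuadraticMap.polar_add_right, hyb, QuadraticMap.polar_smul_right, polar_self' hab.2.1,
      smul_zero, add_zero]⟩
  have hb'p : Perp Q a a' b' := by
    constructor
    · rw [hb'def, QuadraticMap.polar_add_right, (perp_proj Pa y).1, QuadraticMap.polar_smul_right, hb'.1]
      simp
    · rw [hb'def, QuadraticMap.polar_add_right, (perp_proj Pa y).2, QuadraticMap.polar_smul_right, hb'.2]
      simp
  have hwb : Perp Q b b' w := ⟨hbw, by
    rw [hb'def, QuadraticMap.polar_add_left, QuadraticMap.polar_comm _ y' w, hyw,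
      QuadraticMap.polar_smul_left, hbw]; simp⟩
  have mk : ∀ {e f c d : V}, Pair Q e f → Pair Q c d → Perp Q e f c → Perp Q e f d →
      ∃ L : (F × F) × (F × F) →ₗ[F] V, Function.Injective L ∧
        (∀ x, Q (L x) = x.1.1 * x.1.2 + x.2.1 * x.2.2) ∧
        L ((1, 0), (0, 0)) = e ∧ L ((0, 1), (0, 0)) = f ∧ L ((0, 0), (1, 0)) = c ∧ L ((0, 0), (0, 1)) = d := by
    intro e f c d P P' hc hd
    refine ⟨(pairMap e f).coprod (pairMap c d), ?_, fun x => ?_, ?_, ?_, ?_, ?_⟩
    · refine (injective_iff_map_eq_zero _).2 fun x hx => ?_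
      rw [LinearMap.coprod_apply, pairMap_apply, pairMap_apply] at hx
      have h1 := congrArg (B e) hx
      have h2 := congrArg (B f) hx
      simp [QuadraticMap.polar_add_right, QuadraticMap.polar_smul_right, polar_self' P.1,
        polar_self' P.2.1, P.2.2, QuadraticMap.polar_comm _ f e, hc.1, hc.2, hd.1, hd.2] at h1 h2
      have h3 : pairMap c d x.2 = 0 := by rw [pairMap_apply]; simpa [h1, h2] using hx
      exact Prod.ext (Prod.ext h2 h1)
        ((injective_iff_map_eq_zero _).1 (pairMap_injective Q P'.1 P'.2.1 P'.2.2) _ h3)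
    · rw [LinearMap.coprod_apply, quad_add, pairMap_quad Q P.1 P.2.1 P.2.2,
        pairMap_quad Q P'.1 P'.2.1 P'.2.2, pairMap_apply, pairMap_apply, polar_lin_left,
        polar_lin_right, polar_lin_right, hc.1, hc.2, hd.1, hd.2]
      ring
    all_goals simp [pairMap_apply]
  obtain ⟨L, hL, hLq, L1, L2, L3, L4⟩ := mk Pa Pb hb' hb'p
  obtain ⟨L', hL', hLq', M1, M2, M3, M4⟩ := mk P P' hc hd
  obtain ⟨g, hgd, hg, hgu⟩ := exists_isometry_map hQ L L' hL hL' fun x => by rw [hLq, hLq']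
  have e1 := hgu ((1, 0), (0, 0))
  have e2 := hgu ((0, 1), (0, 0))
  have e3 := hgu ((0, 0), (1, 0))
  have e4 := hgu ((0, 0), (0, 1))
  rw [L1, M1] at e1; rw [L2, M2] at e2; rw [L3, M3] at e3; rw [L4, M4] at e4
  refine ⟨g *ᵥ w, fun h0 => ?_, by rw [hg, hw], ?_, ?_⟩
  · exact one_ne_zero (hind 0 0 1 (by simp [Matrix.eq_zero_of_mulVec_eq_zero hgd h0])).2.2
  · exact ⟨by rw [← e1, isometry_polar hg, hw'.1], by rw [← e2, isometry_polar hg, hw'.2]⟩
  · exact ⟨by rw [← e3, isometry_polar hg, hwb.1], by rw [← e4, isometry_polar hg, hwb.2]⟩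

/-- Two pairs inside the orthogonal of a pair. -/
theorem exists_frame {e f : V} (P : Pair Q e f) :
    ∃ u u', Pair Q u u' ∧ Perp Q e f u ∧ Perp Q e f u' := by
  obtain ⟨u, hu0, hu, h1, h2⟩ := exists_singular_perp hT e f
  obtain ⟨u', hu', hp⟩ := exists_partner hQ P ⟨h1, h2⟩ hu0 hu
  exact ⟨u, u', hu', ⟨h1, h2⟩, hp⟩

/-- Lines through every singular point, not all orthogonal. -/
theorem exists_skew {e : V} (he : e ≠ 0) (hee : Q e = 0) :
    ∃ w w', TS Q e w ∧ TS Q e w' ∧ B w w' = 1 := by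
  obtain ⟨f, hf, hef⟩ := exists_pair hQ he hee
  have P : Pair Q e f := ⟨hee, hf, hef⟩
  obtain ⟨u, u', hu, h1, h2⟩ := exists_frame hQ hT P
  exact ⟨u, u', TS.of_perp P hu.1 h1 hu.ne, TS.of_perp P hu.2.1 h2 hu.symm.ne, hu.2.2⟩

theorem thru_nonempty {e : V} (he : e ≠ 0) (hee : Q e = 0) : (thru Q e).Nonempty := by
  obtain ⟨w, _, h, -, -⟩ := exists_skew hQ hT he hee
  exact ⟨_, w, h, rfl⟩

omit hT

/-! ### Splitting off a pair, and counting -/

omit hQ in
theorem zeros_split [Fintype F] {W : Type*} [AddCommGroup W] [Module F W] [FiniteDimensional F W]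
    (R : QuadraticForm F W) {e f : W} (he : R e = 0) (hf : R f = 0)
    (hef : QuadraticMap.polar ⇑R e f = 1) :
    Nat.card {v : W // R v = 0} =
        Fintype.card F * Nat.card {v : W // QuadraticMap.polar ⇑R e v = 0 ∧
          QuadraticMap.polar ⇑R f v = 0 ∧ R v = 0} +
        (Fintype.card F - 1) * Nat.card {v : W // QuadraticMap.polar ⇑R e v = 0 ∧
          QuadraticMap.polar ⇑R f v = 0} ∧
      Fintype.card F ^ 2 * Nat.card {v : W // QuadraticMap.polar ⇑R e v = 0 ∧
          QuadraticMap.polar ⇑R f v = 0} = Nat.card W := by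
  set S : Submodule F W := LinearMap.ker (QuadraticMap.polarBilin R e) ⊓
    LinearMap.ker (QuadraticMap.polarBilin R f)
  have hS : ∀ v, v ∈ S ↔ QuadraticMap.polar ⇑R e v = 0 ∧ QuadraticMap.polar ⇑R f v = 0 :=
    fun v => Iff.rfl
  have hee : QuadraticMap.polar ⇑R e e = 0 := by rw [QuadraticMap.polar_self, he, smul_zero]
  have hff : QuadraticMap.polar ⇑R f f = 0 := by rw [QuadraticMap.polar_self, hf, smul_zero]
  have hfe : QuadraticMap.polar ⇑R f e = 1 := by rw [QuadraticMap.polar_comm, hef]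
  let L : (F × F) × S →ₗ[F] W := (pairMap e f).coprod S.subtype
  have hLq : ∀ x, R (L x) = hypExt (R.comp S.subtype) x := fun x => by
    have hx := (hS _).1 x.2.2
    rw [hypExt_apply, LinearMap.coprod_apply, QuadraticMap.map_add ⇑R, pairMap_quad R he hf hef,
      pairMap_apply, QuadraticMap.polar_add_left, QuadraticMap.polar_smul_left,
      QuadraticMap.polar_smul_left, Submodule.subtype_apply, hx.1, hx.2]
    simp
  have hLb : Function.Bijective L := by
    constructor
    · refine (injective_iff_map_eq_zero _).2 fun x hx => ?_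
      have hx2 := (hS _).1 x.2.2
      rw [LinearMap.coprod_apply, pairMap_apply, Submodule.subtype_apply] at hx
      have h1 := congrArg (QuadraticMap.polar ⇑R e) hx
      have h2 := congrArg (QuadraticMap.polar ⇑R f) hx
      simp [QuadraticMap.polar_add_right, QuadraticMap.polar_smul_right, hee, hff, hef, hfe,
        hx2.1, hx2.2] at h1 h2
      exact Prod.ext (Prod.ext h2 h1) (Subtype.ext (by simpa [h1, h2] using hx))
    · intro v
      refine ⟨((QuadraticMap.polar ⇑R f v, QuadraticMap.polar ⇑R e v),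
        ⟨v - QuadraticMap.polar ⇑R f v • e - QuadraticMap.polar ⇑R e v • f, (hS _).2 ?_⟩), ?_⟩
      · simp [QuadraticMap.polar_sub_right, QuadraticMap.polar_smul_right, hee, hff, hef, hfe]
      · simp [L, pairMap_apply]
  let eL := LinearEquiv.ofBijective L hLb
  have h1 := zeros_congr eL hLq 0
  rw [natCard_hypExt_eq] at h1
  have eS : Nat.card S = Nat.card {v : W // QuadraticMap.polar ⇑R e v = 0 ∧
          QuadraticMap.polar ⇑R f v = 0} := Nat.card_congr (Equiv.subtypeEquivRight hS)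
  have eZ : Nat.card {v : S // R.comp S.subtype v = 0} = Nat.card {v : W // QuadraticMap.polar ⇑R e v = 0 ∧
          QuadraticMap.polar ⇑R f v = 0 ∧ R v = 0} :=
    Nat.card_congr
      { toFun := fun v => ⟨v.1.1, ((hS _).1 v.1.2).1, ((hS _).1 v.1.2).2, v.2⟩
        invFun := fun v => ⟨⟨v.1, (hS _).2 ⟨v.2.1, v.2.2.1⟩⟩, v.2.2.2⟩
        left_inv := fun v => rfl
        right_inv := fun v => rfl }
  rw [eS, eZ] at h1
  refine ⟨h1.symm, ?_⟩
  rw [← eS, ← Nat.card_congr eL.toEquiv, Nat.card_prod, Nat.card_prod, Nat.card_eq_fintype_card (α := F)]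
  ring

section Meet

variable [Fintype F]

local notation "q" => Fintype.card F

/-- The number of common neighbours of two skew orthogonal lines. -/
def dNum (F : Type*) [Fintype F] : ℕ := (Fintype.card F + 1) ^ 2 * (Fintype.card F - 1)

variable (Q) in
/-- The count which excludes triality. -/
def Good : Prop :=
  Nat.card {v : V // Q v = 0} ≠
    q * (q * (dNum F + 1) + (q - 1) * q ^ (Fintype.card ι - 4)) + (q - 1) * q ^ (Fintype.card ι - 2)

variable (Q) in
/-- Multiplying to a root element. -/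
def Near (M N : Mn) : Prop := Commute M N ∧ (M * N ∈ rootSet Q ∨ M * N = 1)

variable (Q) in
/-- Common neighbours. -/
def nbr (M N : Mn) : Set Mn := {z | z ∈ rootSet Q ∧ Near Q z M ∧ Near Q z N}

variable (Q) in
/-- The intrinsic meaning of meeting lines. -/
def Meets (M N : Mn) : Prop :=
  Commute M N ∧ (M * N ∈ rootSet Q ∨ M * N = 1 ∨ Nat.card (nbr Q M N) ≠ dNum F)

omit hQ in
/-- Lines meet or are disjoint. -/
theorem meet_or_disjoint {a b c d : V} (h : TS Q a b) (h' : TS Q c d) :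
    (∃ e, eMat Q a b ∈ thru Q e ∧ eMat Q c d ∈ thru Q e) ∨
      ∀ s t u v : F, s • a + t • b + u • c + v • d = 0 → s = 0 ∧ t = 0 ∧ u = 0 ∧ v = 0 := by
  refine or_iff_not_imp_left.2 fun hn s t u v h0 => ?_
  by_cases hst : s • a + t • b = 0
  · obtain ⟨hs, ht⟩ := h.2.2.2 s t hst
    obtain ⟨hu, hv⟩ := h'.2.2.2 u v (by simpa [hs, ht] using h0)
    exact ⟨hs, ht, hu, hv⟩
  · exfalso
    have he : (-u) • c + (-v) • d = s • a + t • b := by linear_combination (norm := module) -h0
    exact hn ⟨_, thru_of_span h hst, he ▸ thru_of_span h' (he ▸ hst)⟩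

/-- Two root elements at a common point multiply to one iff they are coplanar. -/
theorem near_thru_iff {e w w' : V} (h : TS Q e w) (h' : TS Q e w') :
    Near Q (eMat Q e w) (eMat Q e w') ↔ B w w' = 0 := by
  rw [Near, eMat_mul h.ok h'.ok, eMat_mem_iff hQ h.left_ne (h.ok.add h'.ok), quad_add, h.2.1, h'.2.1,
    zero_add, zero_add]
  exact and_iff_right (eMat_comm h.ok h'.ok)

/-- Neighbours have meeting coplanar lines. -/
theorem near_exists {M N : Mn} (hM : M ∈ rootSet Q) (hN : N ∈ rootSet Q) (hn : Near Q M N) :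
    ∃ e w w', TS Q e w ∧ TS Q e w' ∧ B w w' = 0 ∧ M = eMat Q e w ∧ N = eMat Q e w' := by
  obtain ⟨a, b, h, rfl⟩ := hM
  obtain ⟨c, d, h', rfl⟩ := hN
  rcases meet_or_disjoint h h' with ⟨e, ⟨w, hw, e1⟩, w', hw', e2⟩ | hdis
  · exact ⟨e, w, w', hw, hw', (near_thru_iff hQ hw hw').1 (e1 ▸ e2 ▸ hn), e1, e2⟩
  · obtain ⟨h1, h2, h3, h4⟩ := orth_of_commute hQ h h' hdis hn.1
    exact absurd hn.2 (mul_not_mem hQ h h' hdis h1 h2 h3 h4)

/-- Skew orthogonal lines. -/
theorem card_nbr_disjoint {a b c d : V} (h : TS Q a b) (h' : TS Q c d)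
    (hdis : ∀ s t u v : F, s • a + t • b + u • c + v • d = 0 → s = 0 ∧ t = 0 ∧ u = 0 ∧ v = 0)
    (hac : B a c = 0) (had : B a d = 0) (hbc : B b c = 0) (hbd : B b d = 0) :
    Nat.card (nbr Q (eMat Q a b) (eMat Q c d)) = dNum F := by
  classical
  let P := {p : F × F // p ≠ 0}
  let u : P → V := fun p => p.1.1 • a + p.1.2 • b
  let v : P → V := fun p => p.1.1 • c + p.1.2 • d
  have hu0 : ∀ p, u p ≠ 0 := fun p h0 => p.2 (Prod.ext (h.2.2.2 _ _ h0).1 (h.2.2.2 _ _ h0).2)
  have hv0 : ∀ p, v p ≠ 0 := fun p h0 => p.2 (Prod.ext (h'.2.2.2 _ _ h0).1 (h'.2.2.2 _ _ h0).2)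
  have hts : ∀ p r, TS Q (u p) (v r) := fun p r => by
    refine ⟨by simp [u, quad_lin, h.1, h.2.1, h.2.2.1], by simp [v, quad_lin, h'.1, h'.2.1, h'.2.2.1],
      by simp [u, v, polar_lin_left, polar_lin_right, hac, had, hbc, hbd], fun s t h0 => ?_⟩
    obtain ⟨e1, e2, e3, e4⟩ := hdis (s * p.1.1) (s * p.1.2) (t * r.1.1) (t * r.1.2) (by
      rw [← h0]; simp only [u, v]; module)
    constructor
    · by_contra hs
      exact p.2 (Prod.ext (by simpa [hs] using e1) (by simpa [hs] using e2))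
    · by_contra ht
      exact r.2 (Prod.ext (by simpa [ht] using e3) (by simpa [ht] using e4))
  have hnear : ∀ {a b e : V} (_h : TS Q a b), e ≠ 0 → (∃ s t : F, e = s • a + t • b) → ∀ {g : V},
      TS Q e g → B a g = 0 → B b g = 0 → Near Q (eMat Q e g) (eMat Q a b) := by
    intro a b e h he hs g hg ha hb
    obtain ⟨w, hw, eq⟩ := (mem_thru_iff hQ h).2 ⟨he, hs⟩
    rw [eq, near_thru_iff hQ hg hw]
    obtain ⟨-, s, t, rfl⟩ := span_of_eMat_eq hQ h hw.ok hw.2.2.2 eq
    rw [polar_lin_right, QuadraticMap.polar_comm _ g a, QuadraticMap.polar_comm _ g b, ha, hb]; ring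
  let φ : P × P → nbr Q (eMat Q a b) (eMat Q c d) := fun x =>
    ⟨eMat Q (u x.1) (v x.2), ⟨_, _, hts _ _, rfl⟩,
      hnear h (hu0 _) ⟨_, _, rfl⟩ (hts _ _) (by simp [v, polar_lin_right, hac, had])
        (by simp [v, polar_lin_right, hbc, hbd]), by
      obtain ⟨w, hw, eq⟩ := thru_of_span (hts x.1 x.2) (s := 0) (t := 1)
        (by rw [zero_smul, zero_add, one_smul]; exact hv0 _)
      rw [zero_smul, zero_add, one_smul] at hw eq
      rw [eq]
      have hwspan := (span_of_eMat_eq hQ (hts x.1 x.2) hw.ok hw.2.2.2 eq).2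
      obtain ⟨s, t, rfl⟩ := hwspan
      refine hnear h' (hv0 _) ⟨_, _, rfl⟩ hw ?_ ?_ <;>
        simp [u, v, polar_lin_right, QuadraticMap.polar_comm _ c a, QuadraticMap.polar_comm _ c b,
          QuadraticMap.polar_comm _ d a, QuadraticMap.polar_comm _ d b, hac, had, hbc, hbd,
          polar_self' h'.1, polar_self' h'.2.1, h'.2.2.1, QuadraticMap.polar_comm _ d c]⟩
  have hsurj : Function.Surjective φ := by
    rintro ⟨z, hz, hzx, hzy⟩
    obtain ⟨e, w, w', hw, hw', -, ez, ex⟩ := near_exists hQ hz ⟨a, b, h, rfl⟩ hzx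
    obtain ⟨e', g, g', hg, hg', -, ez', ey⟩ := near_exists hQ hz ⟨c, d, h', rfl⟩ hzy
    obtain ⟨he, s, t, hst⟩ := (mem_thru_iff hQ h).1 ⟨w', hw', ex⟩
    obtain ⟨he', s', t', hst'⟩ := (mem_thru_iff hQ h').1 ⟨g', hg', ey⟩
    obtain ⟨-, x, y, hxy⟩ := (mem_thru_iff hQ hw).1 ⟨g, hg, ez.symm.trans ez'⟩
    have hy : y ≠ 0 := fun hy => by
      subst hy
      obtain ⟨-, -, e3, e4⟩ := hdis (x * s) (x * t) (-s') (-t')
        (by linear_combination (norm := module) hst' - hxy - x • hst)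
      exact he' (by rw [hst', neg_eq_zero.1 e3, neg_eq_zero.1 e4]; simp)
    refine ⟨(⟨(s, t), fun h0 => he ?_⟩, ⟨(y⁻¹ * s', y⁻¹ * t'), fun h0 => he' ?_⟩), Subtype.ext ?_⟩
    · simp [Prod.ext_iff] at h0; rw [hst, h0.1, h0.2]; simp
    · simp [Prod.ext_iff, hy] at h0; rw [hst', h0.1, h0.2]; simp
    · show eMat Q (s • a + t • b) ((y⁻¹ * s') • c + (y⁻¹ * t') • d) = z
      have hyw : (y⁻¹ * s') • c + (y⁻¹ * t') • d = w + (y⁻¹ * x) • e := by
        have := congrArg (y⁻¹ • ·) hxy
        simp only [smul_add, smul_smul, inv_mul_cancel₀ hy, one_smul] at this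
        linear_combination (norm := module) this - y⁻¹ • hst'
      rw [hyw, ← hst, eMat_add_self hw.ok, ez]
  have hfib : ∀ x y : P × P, φ x = φ y → ∃ k : F, k ≠ 0 ∧ u y.1 = k • u x.1 ∧ v y.2 = k⁻¹ • v x.2 := by
    rintro ⟨p, r⟩ ⟨p', r'⟩ e0
    have e1 : eMat Q (u p) (v r) = eMat Q (u p') (v r') := congrArg Subtype.val e0
    obtain ⟨⟨s, t, hst⟩, -⟩ := span_of_eMat_eq hQ (hts p r) (hts p' r').ok (hts p' r').2.2.2 e1
    obtain ⟨d1, d2, d3, d4⟩ := hdis (p'.1.1 - s * p.1.1) (p'.1.2 - s * p.1.2) (-(t * r.1.1))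
      (-(t * r.1.2)) (by simp only [u, v] at hst; linear_combination (norm := module) hst)
    have ht : t = 0 := by
      by_contra ht
      exact r.2 (Prod.ext (by simpa [ht] using d3) (by simpa [ht] using d4))
    rw [ht, zero_smul, add_zero] at hst
    have hs : s ≠ 0 := fun hs => hu0 p' (by rw [hst, hs, zero_smul])
    refine ⟨s, hs, hst, ?_⟩
    rw [hst, eMat_smul_left] at e1
    obtain ⟨k, hk⟩ := eMat_inj hQ (hu0 p) (hts p r).ok ((hts p r').ok.smul s) e1
    obtain ⟨f1, f2, -, -⟩ := hdis (-(k * p.1.1)) (-(k * p.1.2)) (s * r'.1.1 - r.1.1) (s * r'.1.2 - r.1.2)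
      (by simp only [u, v] at hk; linear_combination (norm := module) hk)
    have hk0 : k = 0 := by
      by_contra hk0
      exact p.2 (Prod.ext (by simpa [hk0] using f1) (by simpa [hk0] using f2))
    rw [hk0, zero_smul, add_zero] at hk
    rw [← hk, smul_smul, inv_mul_cancel₀ hs, one_smul]
  have hP : Nat.card P = q * q - 1 := by
    rw [Nat.card_eq_fintype_card, Fintype.card_subtype_compl, Fintype.card_subtype_eq, Fintype.card_prod]
  choose sec hsec using hsurj
  let sc : Fˣ → P → P := fun k p => ⟨(k : F) • p.1, smul_ne_zero k.ne_zero p.2⟩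
  have huc : ∀ k p, u (sc k p) = (k : F) • u p := fun k p => by
    show ((k : F) * p.1.1) • a + ((k : F) * p.1.2) • b = _; simp only [u]; module
  have hvc : ∀ k p, v (sc k p) = (k : F) • v p := fun k p => by
    show ((k : F) * p.1.1) • c + ((k : F) * p.1.2) • d = _; simp only [v]; module
  have huinj : Function.Injective u := fun p p' e => by
    obtain ⟨e1, e2⟩ := h.2.2.2 (p.1.1 - p'.1.1) (p.1.2 - p'.1.2) (by
      simp only [u] at e; linear_combination (norm := module) e)
    exact Subtype.ext (Prod.ext (sub_eq_zero.1 e1) (sub_eq_zero.1 e2))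
  have hvinj : Function.Injective v := fun p p' e => by
    obtain ⟨e1, e2⟩ := h'.2.2.2 (p.1.1 - p'.1.1) (p.1.2 - p'.1.2) (by
      simp only [v] at e; linear_combination (norm := module) e)
    exact Subtype.ext (Prod.ext (sub_eq_zero.1 e1) (sub_eq_zero.1 e2))
  let ψ : nbr Q (eMat Q a b) (eMat Q c d) × Fˣ → P × P :=
    fun zk => (sc zk.2 (sec zk.1).1, sc zk.2⁻¹ (sec zk.1).2)
  have hφψ : ∀ zk, φ (ψ zk) = zk.1 := fun zk => by
    refine Eq.trans (Subtype.ext ?_) (hsec zk.1)
    show eMat Q (u (sc _ _)) (v (sc _ _)) = eMat Q (u _) (v _)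
    rw [huc, hvc, eMat_smul_left, smul_smul, Units.mul_inv, one_smul]
  have hψ : Function.Bijective ψ := by
    constructor
    · rintro ⟨z, k⟩ ⟨z', k'⟩ e
      have hz : z = z' := ((hφψ _).symm.trans (congrArg φ e)).trans (hφψ _)
      subst hz
      have e1 := congrArg (fun x : P × P => u x.1) e
      simp only [ψ, huc] at e1
      exact Prod.ext rfl (Units.ext (smul_left_injective F (hu0 _) e1))
    · intro x
      obtain ⟨k, hk, h1, h2⟩ := hfib (sec (φ x)) x (hsec _)
      refine ⟨(φ x, Units.mk0 k hk), Prod.ext (huinj ?_) (hvinj ?_)⟩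
      · rw [huc, h1]; rfl
      · rw [hvc, h2]; simp
  have hcard := Nat.card_eq_of_bijective ψ hψ
  rw [Nat.card_prod, Nat.card_prod, hP, Nat.card_units, Nat.card_eq_fintype_card (α := F)] at hcard
  have hq : 1 < q := Fintype.one_lt_card
  have h3 : q * q - 1 = (q + 1) * (q - 1) := by simpa [sq] using Nat.sq_sub_sq q 1
  rw [h3] at hcard
  refine Nat.eq_of_mul_eq_mul_right (show 0 < q - 1 by omega) (hcard.trans ?_)
  rw [dNum]; ring

variable (hG : Good Q)
include hG

/-- Lines meeting in a point which are not coplanar. -/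
theorem card_nbr_skew {e w w' : V} (h : TS Q e w) (h' : TS Q e w') (hww : B w w' ≠ 0) :
    Nat.card (nbr Q (eMat Q e w) (eMat Q e w')) ≠ dNum F := by
  classical
  have he := h.left_ne
  have hind : ∀ s t r : F, s • e + t • w + r • w' = 0 → s = 0 ∧ t = 0 ∧ r = 0 := fun s t r h0 => by
    have h1 := congrArg (B w) h0
    simp [QuadraticMap.polar_add_right, QuadraticMap.polar_smul_right, polar_self' h.2.1,
      QuadraticMap.polar_comm _ w e, h.2.2.1, hww] at h1
    obtain ⟨h2, h3⟩ := h.2.2.2 s t (by simpa [h1] using h0)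
    exact ⟨h2, h3, h1⟩
  obtain ⟨z, hz1, hz2, hz3⟩ := exists_polar3 hQ hind 1 0 0
  set f := z + (-Q z) • e with hf
  have P : Pair Q e f := ⟨h.1, by rw [hf, quad_add_smul, h.1, QuadraticMap.polar_comm, hz1]; ring,
    by rw [hf, QuadraticMap.polar_add_right, hz1, QuadraticMap.polar_smul_right, polar_self' h.1,
      smul_zero, add_zero]⟩
  have hfw : B f w = 0 := by
    rw [hf, QuadraticMap.polar_add_left, QuadraticMap.polar_comm _ z w, hz2,
      QuadraticMap.polar_smul_left, h.2.2.1]; simp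
  have hfw' : B f w' = 0 := by
    rw [hf, QuadraticMap.polar_add_left, QuadraticMap.polar_comm _ z w', hz3,
      QuadraticMap.polar_smul_left, h'.2.2.1]; simp
  set U := {u : V // (B e u = 0 ∧ B f u = 0) ∧ B w u = 0 ∧ B w' u = 0 ∧ Q u = 0}
  let zero' : U := ⟨0, ⟨by simp, by simp⟩, by simp, by simp, QuadraticMap.map_zero _⟩
  -- the neighbours
  have hmem : ∀ u : {u : U // u ≠ zero'}, eMat Q e u.1.1 ∈ nbr Q (eMat Q e w) (eMat Q e w') := by
    rintro ⟨⟨u, hu, hu1, hu2, hu3⟩, hne⟩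
    have hu0 : u ≠ 0 := fun h0 => hne (Subtype.ext h0)
    have hts : TS Q e u := TS.of_perp P hu3 hu hu0
    exact ⟨⟨e, u, hts, rfl⟩, (near_thru_iff hQ hts h).2 (by rw [QuadraticMap.polar_comm]; exact hu1),
      (near_thru_iff hQ hts h').2 (by rw [QuadraticMap.polar_comm]; exact hu2)⟩
  let φ : {u : U // u ≠ zero'} → nbr Q (eMat Q e w) (eMat Q e w') := fun u => ⟨_, hmem u⟩
  have hφ : Function.Bijective φ := by
    constructor
    · rintro ⟨⟨u, hu, hu'⟩, _⟩ ⟨⟨v, hv, hv'⟩, _⟩ e0
      obtain ⟨t, ht⟩ := eMat_inj hQ he ⟨h.1, hu.1⟩ ⟨h.1, hv.1⟩ (congrArg Subtype.val e0)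
      have h1 := congrArg (B f) ht
      simp [QuadraticMap.polar_add_right, QuadraticMap.polar_smul_right, hu.2, hv.2,
        QuadraticMap.polar_comm _ f e, P.2.2] at h1
      refine Subtype.ext (Subtype.ext ?_)
      simpa [← h1] using ht.symm
    · rintro ⟨z, hz, hzx, hzy⟩
      obtain ⟨a, g, g', hg, hg', hgg, ez, ex⟩ := near_exists hQ hz ⟨e, w, h, rfl⟩ hzx
      obtain ⟨b, k, k', hk, hk', hkk, ez', ey⟩ := near_exists hQ hz ⟨e, w', h', rfl⟩ hzy
      obtain ⟨ha, s, t, hst⟩ := (mem_thru_iff hQ h).1 ⟨g', hg', ex⟩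
      obtain ⟨hb, s', t', hst'⟩ := (mem_thru_iff hQ h').1 ⟨k', hk', ey⟩
      obtain ⟨-, x, y, hxy⟩ := (mem_thru_iff hQ hg).1 ⟨k, hk, ez.symm.trans ez'⟩
      have hab : B a b = 0 := by
        rw [hxy, polar_lin_right, polar_self' hg.1, hg.2.2.1]; ring
      rw [hst, hst', polar_lin_left, polar_lin_right, polar_lin_right, polar_self' h.1, h'.2.2.1,
        QuadraticMap.polar_comm _ w e, h.2.2.1] at hab
      have htt : t = 0 ∨ t' = 0 := by
        rcases mul_eq_zero.1 (show t * t' * B w w' = 0 by linear_combination hab) with h1 | h1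
        exacts [mul_eq_zero.1 h1, absurd h1 hww]
      have hze : z ∈ thru Q e := by
        rcases htt with h1 | h1
        · rw [h1, zero_smul, add_zero] at hst
          have hs : s ≠ 0 := fun hs => ha (by rw [hst, hs, zero_smul])
          rw [← thru_smul (Q := Q) hs, ← hst]; exact ⟨g, hg, ez⟩
        · rw [h1, zero_smul, add_zero] at hst'
          have hs : s' ≠ 0 := fun hs => hb (by rw [hst', hs, zero_smul])
          rw [← thru_smul (Q := Q) hs, ← hst']; exact ⟨k, hk, ez'⟩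
      obtain ⟨v, hv, ev⟩ := hze
      set v0 := v + (-(B f v)) • e with hv0
      have ev' : eMat Q e v0 = z := by rw [hv0, eMat_add_self hv.ok, ev]
      have hv1 : B v w = 0 := (near_thru_iff hQ hv h).1 (ev ▸ hzx)
      have hv2 : B v w' = 0 := (near_thru_iff hQ hv h').1 (ev ▸ hzy)
      refine ⟨⟨⟨v0, ⟨?_, ?_⟩, ?_, ?_, ?_⟩, fun h0 => ?_⟩, Subtype.ext ev'⟩
      · rw [hv0, QuadraticMap.polar_add_right, hv.2.2.1, QuadraticMap.polar_smul_right, polar_self' h.1]
        simp
      · rw [hv0, QuadraticMap.polar_add_right, QuadraticMap.polar_smul_right,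
          QuadraticMap.polar_comm _ f e, P.2.2]; simp
      · rw [hv0, QuadraticMap.polar_add_right, QuadraticMap.polar_comm _ w v, hv1,
          QuadraticMap.polar_smul_right, QuadraticMap.polar_comm _ w e, h.2.2.1]; simp
      · rw [hv0, QuadraticMap.polar_add_right, QuadraticMap.polar_comm _ w' v, hv2,
          QuadraticMap.polar_smul_right, QuadraticMap.polar_comm _ w' e, h'.2.2.1]; simp
      · rw [hv0, quad_add_smul, hv.2.1, hv.1, QuadraticMap.polar_comm _ v e, hv.2.2.1]; ring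
      · have h1 : v0 = 0 := congrArg Subtype.val h0
        exact rootSet_ne_one hQ hz (by rw [← ev', h1, eMat_zero])
  intro hcard
  rw [← Nat.card_eq_of_bijective φ hφ, Nat.card_eq_fintype_card, Fintype.card_subtype_compl,
    Fintype.card_subtype_eq] at hcard
  have hU : Nat.card U = dNum F + 1 := by
    have : 0 < Fintype.card U := Fintype.card_pos_iff.2 ⟨zero'⟩
    rw [Nat.card_eq_fintype_card]; omega
  -- the count in the whole space
  refine hG ?_
  let S : Submodule F V := LinearMap.ker (QuadraticMap.polarBilin Q e) ⊓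
    LinearMap.ker (QuadraticMap.polarBilin Q f)
  let w₁ : S := ⟨(B w w')⁻¹ • w', ⟨by simp [h'.2.2.1], by simp [hfw']⟩⟩
  let w₀ : S := ⟨w, ⟨h.2.2.1, hfw⟩⟩
  have hres : ∀ x y : S, QuadraticMap.polar ⇑(Q.comp S.subtype) x y = B x.1 y.1 := fun x y => rfl
  obtain ⟨z1, c1⟩ := zeros_split Q P.1 P.2.1 P.2.2
  obtain ⟨z2, c2⟩ := zeros_split (Q.comp S.subtype) (e := w₀) (f := w₁) h.2.1
    (show Q ((B w w')⁻¹ • w') = 0 by rw [QuadraticMap.map_smul, h'.2.1, smul_zero])
    (by rw [hres]; show B w ((B w w')⁻¹ • w') = 1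
        rw [QuadraticMap.polar_smul_right, smul_eq_mul, inv_mul_cancel₀ hww])
  have e0 : Nat.card {v : S // Q.comp S.subtype v = 0} =
      Nat.card {v : V // B e v = 0 ∧ B f v = 0 ∧ Q v = 0} :=
    Nat.card_congr
      { toFun := fun v => ⟨v.1.1, v.1.2.1, v.1.2.2, v.2⟩
        invFun := fun v => ⟨⟨v.1, v.2.1, v.2.2.1⟩, v.2.2.2⟩
        left_inv := fun v => rfl
        right_inv := fun v => rfl }
  have e1 : Nat.card S = Nat.card {v : V // B e v = 0 ∧ B f v = 0} :=
    Nat.card_congr (Equiv.subtypeEquivRight fun v => Iff.rfl)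
  have hdiv : ∀ x : V, B ((B w w')⁻¹ • w') x = 0 ↔ B w' x = 0 := fun x => by
    rw [QuadraticMap.polar_smul_left, smul_eq_zero, or_iff_right (inv_ne_zero hww)]
  have e2 : Nat.card {v : S // QuadraticMap.polar ⇑(Q.comp S.subtype) w₀ v = 0 ∧
      QuadraticMap.polar ⇑(Q.comp S.subtype) w₁ v = 0 ∧ Q.comp S.subtype v = 0} = Nat.card U :=
    Nat.card_congr
      { toFun := fun v => ⟨v.1.1, ⟨v.1.2.1, v.1.2.2⟩, v.2.1, (hdiv _).1 v.2.2.1, v.2.2.2⟩
        invFun := fun v => ⟨⟨v.1, v.2.1.1, v.2.1.2⟩, v.2.2.1, (hdiv _).2 v.2.2.2.1, v.2.2.2.2⟩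
        left_inv := fun v => rfl
        right_inv := fun v => rfl }
  set c := Nat.card {v : S // QuadraticMap.polar ⇑(Q.comp S.subtype) w₀ v = 0 ∧
      QuadraticMap.polar ⇑(Q.comp S.subtype) w₁ v = 0}
  set n := Fintype.card ι
  have hV : Nat.card V = q ^ n := by rw [Nat.card_eq_fintype_card, Fintype.card_fun]
  rw [hV] at c1
  rw [e1] at c2
  have hq : 1 < q := Fintype.one_lt_card
  have c3 : q ^ 4 * c = q ^ n := by rw [← c1, ← c2]; ring
  have hn : 4 ≤ n := by
    refine (Nat.pow_le_pow_iff_right hq).1 (c3 ▸ Nat.le_mul_of_pos_right _ ?_)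
    rcases Nat.eq_zero_or_pos c with h0 | h0
    · rw [h0, mul_zero] at c3; exact absurd c3.symm (pow_ne_zero _ (by omega))
    · exact h0
  have hc : c = q ^ (n - 4) := by
    refine Nat.eq_of_mul_eq_mul_left (pow_pos (by omega : 0 < q) 4) (c3.trans ?_)
    rw [← pow_add]; congr 1; omega
  have hd : Nat.card {v : V // B e v = 0 ∧ B f v = 0} = q ^ (n - 2) := by
    refine Nat.eq_of_mul_eq_mul_left (pow_pos (by omega : 0 < q) 2) (c1.trans ?_)
    rw [← pow_add]; congr 1; omega
  rw [z1, ← e0, z2, e2, hU, hd, hc]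

/-- The intrinsic relation is incidence of lines. -/
theorem meets_iff {M N : Mn} (hM : M ∈ rootSet Q) (hN : N ∈ rootSet Q) :
    Meets Q M N ↔ ∃ e, M ∈ thru Q e ∧ N ∈ thru Q e := by
  constructor
  · obtain ⟨a, b, h, rfl⟩ := hM
    obtain ⟨c, d, h', rfl⟩ := hN
    intro hm
    refine (meet_or_disjoint h h').resolve_right fun hdis => ?_
    obtain ⟨h1, h2, h3, h4⟩ := orth_of_commute hQ h h' hdis hm.1
    rcases hm.2 with hp | hp | hp
    · exact mul_not_mem hQ h h' hdis h1 h2 h3 h4 (Or.inl hp)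
    · exact mul_not_mem hQ h h' hdis h1 h2 h3 h4 (Or.inr hp)
    · exact hp (card_nbr_disjoint hQ h h' hdis h1 h2 h3 h4)
  · rintro ⟨e, ⟨w, hw, rfl⟩, w', hw', rfl⟩
    refine ⟨eMat_comm hw.ok hw'.ok, ?_⟩
    by_cases hww : B w w' = 0
    · rcases ((near_thru_iff hQ hw hw').2 hww).2 with h | h
      exacts [Or.inl h, Or.inr (Or.inl h)]
    · exact Or.inr (Or.inr (card_nbr_skew hQ hG hw hw' hww))

/-- The root elements at a point, from two of them. -/
theorem thru_eq_of_skew {e w w' : V} (h : TS Q e w) (h' : TS Q e w') (hww : B w w' ≠ 0) :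
    thru Q e = {z | z ∈ rootSet Q ∧ Meets Q z (eMat Q e w) ∧ Meets Q z (eMat Q e w')} := by
  ext z
  constructor
  · exact fun hz => ⟨thru_subset hz, (meets_iff hQ hG (thru_subset hz) ⟨e, w, h, rfl⟩).2 ⟨e, hz, w, h, rfl⟩,
      (meets_iff hQ hG (thru_subset hz) ⟨e, w', h', rfl⟩).2 ⟨e, hz, w', h', rfl⟩⟩
  · rintro ⟨hz, hz1, hz2⟩
    obtain ⟨a, hza, hxa⟩ := (meets_iff hQ hG hz ⟨e, w, h, rfl⟩).1 hz1
    obtain ⟨b, hzb, hyb⟩ := (meets_iff hQ hG hz ⟨e, w', h', rfl⟩).1 hz2
    obtain ⟨ha, s, t, hst⟩ := (mem_thru_iff hQ h).1 hxa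
    obtain ⟨hb, s', t', hst'⟩ := (mem_thru_iff hQ h').1 hyb
    obtain ⟨g, hg, eg⟩ := hza
    subst eg
    obtain ⟨-, x, y, hxy⟩ := (mem_thru_iff hQ hg).1 hzb
    have hab : B a b = 0 := by rw [hxy, polar_lin_right, polar_self' hg.1, hg.2.2.1]; ring
    rw [hst, hst', polar_lin_left, polar_lin_right, polar_lin_right, polar_self' h.1, h'.2.2.1,
      QuadraticMap.polar_comm _ w e, h.2.2.1] at hab
    rcases mul_eq_zero.1 (show t * t' * B w w' = 0 by linear_combination hab) with h1 | h1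
    · rcases mul_eq_zero.1 h1 with h1 | h1
      · rw [h1, zero_smul, add_zero] at hst
        have hs : s ≠ 0 := fun hs => ha (by rw [hst, hs, zero_smul])
        have : eMat Q a g ∈ thru Q a := ⟨g, hg, rfl⟩
        rwa [show thru Q a = thru Q e by rw [hst, thru_smul hs]] at this
      · rw [h1, zero_smul, add_zero] at hst'
        have hs : s' ≠ 0 := fun hs => hb (by rw [hst', hs, zero_smul])
        rwa [show thru Q b = thru Q e by rw [hst', thru_smul hs]] at hzb
    · exact absurd h1 hww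

omit hG

include hT in
/-- The point is determined by its root elements. -/
theorem parallel_of_thru_eq {e e' : V} (he : e ≠ 0) (hee : Q e = 0) (eq : thru Q e ⊆ thru Q e') :
    ∃ c : F, c ≠ 0 ∧ e' = c • e := by
  obtain ⟨w, w', h, h', hww⟩ := exists_skew hQ hT he hee
  obtain ⟨he', s, t, hst⟩ := (mem_thru_iff hQ h).1 (eq ⟨w, h, rfl⟩)
  obtain ⟨-, s', t', hst'⟩ := (mem_thru_iff hQ h').1 (eq ⟨w', h', rfl⟩)
  have h1 := congrArg (B w) (hst.symm.trans hst')
  simp [QuadraticMap.polar_add_right, QuadraticMap.polar_smul_right, polar_self' h.2.1,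
    QuadraticMap.polar_comm _ w e, h.2.2.1, hww] at h1
  rw [← h1, zero_smul, add_zero] at hst'
  exact ⟨s', fun hs => he' (by rw [hst', hs, zero_smul]), hst'⟩

include hT in
/-- Orthogonal points share a root element. -/
theorem orth_iff_thru {e e' : V} (he : e ≠ 0) (he' : e' ≠ 0) (hee : Q e = 0) (hee' : Q e' = 0) :
    B e e' = 0 ↔ (thru Q e ∩ thru Q e').Nonempty := by
  constructor
  · intro h0
    by_cases hpar : ∀ s t : F, s • e + t • e' = 0 → s = 0 ∧ t = 0
    · have h : TS Q e e' := ⟨hee, hee', h0, hpar⟩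
      exact ⟨_, ⟨_, h, rfl⟩, by simpa using thru_of_span h (s := 0) (t := 1) (by simpa using he')⟩
    · push_neg at hpar
      obtain ⟨s, t, hst, hne⟩ := hpar
      have ht : t ≠ 0 := fun ht => by
        have : s = 0 := by simpa [ht, he] using hst
        exact hne this ht
      have hs : -(t⁻¹ * s) ≠ 0 := by
        simp only [neg_ne_zero, mul_ne_zero_iff]
        exact ⟨inv_ne_zero ht, fun hs => he' (by simpa [hs, ht] using hst)⟩
      have hpe : e' = (-(t⁻¹ * s)) • e := by
        have := congrArg (t⁻¹ • ·) hst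
        simp only [smul_add, smul_smul, inv_mul_cancel₀ ht, one_smul, smul_zero] at this
        linear_combination (norm := module) this
      rw [hpe, thru_smul hs, Set.inter_self]
      exact thru_nonempty hQ hT he hee
  · rintro ⟨z, ⟨w, hw, rfl⟩, hz⟩
    obtain ⟨-, s, t, rfl⟩ := (mem_thru_iff hQ hw).1 hz
    rw [polar_lin_right, polar_self' hw.1, hw.2.2.1]; ring

end Meet

end Cfsg.Agent.Classical.OrthAut
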