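import Cfsg.Agent.Lib.Classical.SympPrimeOrderClasses
import Cfsg.Agent.Lib.Classical.AschEvenType
import Cfsg.Agent.Lib.Classical.OrthCount
import Cfsg.Agent.Lib.Classical.OrthPlusField

/-!
Classes of elements of odd prime order, different from the characteristic, in orthogonal groups: which
self-reciprocal polynomials are characteristic polynomials of such isometries of a given space.
-/

set_option autoImplicit false
set_option linter.unusedSectionVars false

namespace Cfsg.Agent.OrthPrimeOrderClasses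

open Polynomial Module Cfsg.Agent.UnitaryDetCentralizer Cfsg.Agent.SelfReciprocalFactors Cfsg.Agent.Classical

variable {F : Type*} [Field F]

/-- Isometries preserving a non-degenerate form have self-reciprocal characteristic polynomial. -/
theorem rdual_charpoly {V : Type*} [AddCommGroup V] [Module F V] [FiniteDimensional F V] (Q : QuadraticForm F V)
    (hQ : (QuadraticMap.polarBilin Q).Nondegenerate) (g : Module.End F V) (hg : ∀ v, Q (g v) = Q v) :
    rdual g.charpoly = g.charpoly := by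
  classical
  let b := Module.finBasis F V
  set β : LinearMap.BilinForm F V := QuadraticMap.polarBilin Q
  set A := LinearMap.toMatrix b b g with hA
  set J := LinearMap.BilinForm.toMatrix b β with hJ
  have hinv : β.comp g g = β := LinearMap.ext₂ fun u v => Classical.polar_preserved_of_map Q hg u v
  have h : Matrix.transpose A * J * A = J := by
    rw [hA, hJ, ← LinearMap.BilinForm.toMatrix_comp, hinv]
  have hJu : IsUnit J.det := isUnit_iff_ne_zero.2 (Classical.gramDet_ne_zero hQ b)
  have hAu : IsUnit A.det := by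
    refine isUnit_iff_ne_zero.2 fun h0 => hJu.ne_zero ?_
    rw [← h, Matrix.det_mul, Matrix.det_mul, h0, mul_zero]
  obtain ⟨G, hG⟩ := (Matrix.isUnit_iff_isUnit_det _).2 hAu
  obtain ⟨K, hK⟩ := (Matrix.isUnit_iff_isUnit_det _).2 hJu
  rw [← hG, ← hK] at h
  have e : Matrix.transpose ((G⁻¹ : GL (Fin (finrank F V)) F) : Matrix (Fin (finrank F V)) (Fin (finrank F V)) F) =
      (K : Matrix (Fin (finrank F V)) (Fin (finrank F V)) F) * (G : Matrix (Fin (finrank F V)) (Fin (finrank F V)) F) *
        ((K⁻¹ : GL (Fin (finrank F V)) F) : Matrix (Fin (finrank F V)) (Fin (finrank F V)) F) := by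
    have h1 : Matrix.transpose ((G⁻¹ : GL (Fin (finrank F V)) F) : Matrix (Fin (finrank F V)) (Fin (finrank F V)) F) *
        Matrix.transpose (G : Matrix (Fin (finrank F V)) (Fin (finrank F V)) F) = 1 := by
      rw [← Matrix.transpose_mul, ← Units.val_mul, mul_inv_cancel, Units.val_one, Matrix.transpose_one]
    calc Matrix.transpose ((G⁻¹ : GL (Fin (finrank F V)) F) : Matrix (Fin (finrank F V)) (Fin (finrank F V)) F)
        = Matrix.transpose ((G⁻¹ : GL (Fin (finrank F V)) F) : Matrix (Fin (finrank F V)) (Fin (finrank F V)) F) *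
          ((K : Matrix (Fin (finrank F V)) (Fin (finrank F V)) F) *
            ((K⁻¹ : GL (Fin (finrank F V)) F) : Matrix (Fin (finrank F V)) (Fin (finrank F V)) F)) := by
          rw [← Units.val_mul, mul_inv_cancel, Units.val_one, mul_one]
      _ = _ := by
          conv_lhs => rw [← h]
          simp only [← Matrix.mul_assoc, h1, Matrix.one_mul]
  rw [← LinearMap.charpoly_toMatrix g b, ← hA, ← hG, ← SympPrimeOrderClasses.charpoly_invTranspose, e,
    Matrix.coe_units_inv, Matrix.charpoly_units_conj]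

/-- An isometry of some non-degenerate space, killed by `r`, with characteristic polynomial `P`. -/
def Real (F : Type*) [Field F] (r : ℕ) (P : F[X]) : Prop :=
  ∃ (n : ℕ) (Q : QuadraticForm F (Fin n → F)) (g : Module.End F (Fin n → F)),
    (QuadraticMap.polarBilin Q).Nondegenerate ∧ (∀ v, Q (g v) = Q v) ∧ g ^ r = 1 ∧ g.charpoly = P

section Transport

variable {V W : Type*} [AddCommGroup V] [Module F V] [FiniteDimensional F V] [AddCommGroup W] [Module F W]
  [FiniteDimensional F W]

theorem transport {Q : QuadraticForm F V} {Q' : QuadraticForm F W} (φ : V ≃ₗ[F] W) {c : F} (hc : c ≠ 0)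
    (hφ : ∀ v, Q' (φ v) = c * Q v) {g : Module.End F V} (hg : ∀ v, Q (g v) = Q v) {r : ℕ} (hr : g ^ r = 1) :
    (∀ w, Q' (φ.conj g w) = Q' w) ∧ φ.conj g ^ r = 1 ∧ (φ.conj g).charpoly = g.charpoly := by
  refine ⟨fun w => ?_, ?_, LinearEquiv.charpoly_conj φ g⟩
  · rw [LinearEquiv.conj_apply_apply, hφ, hg, ← hφ, φ.apply_symm_apply]
  · have := congrArg (φ.conjAlgEquiv F) hr
    rwa [map_pow, map_one] at this

theorem real_of {r : ℕ} (Q : QuadraticForm F V) (hQ : (QuadraticMap.polarBilin Q).Nondegenerate)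
    (g : Module.End F V) (hg : ∀ v, Q (g v) = Q v) (hr : g ^ r = 1) : Real F r g.charpoly := by
  let φ := (Module.finBasis F V).equivFun
  have hn : (QuadraticMap.polarBilin (Q.comp φ.symm.toLinearMap)).Nondegenerate := by
    refine nondegenerate_of_separatingLeft _ fun u hu => φ.symm.map_eq_zero_iff.1 (hQ.1 _ fun z => ?_)
    have h := hu (φ z)
    simp only [QuadraticMap.polarBilin_apply_apply, QuadraticMap.polar, QuadraticMap.comp_apply,
      LinearEquiv.coe_coe, map_add, φ.symm_apply_apply] at h ⊢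
    exact h
  obtain ⟨h1, h2, h3⟩ := transport φ (Q' := Q.comp φ.symm.toLinearMap) one_ne_zero
    (fun v => by rw [one_mul, QuadraticMap.comp_apply, LinearEquiv.coe_coe, φ.symm_apply_apply]) hg hr
  exact ⟨_, _, _, hn, h1, h2, h3⟩

theorem nondegenerate_prod {Q₁ : QuadraticForm F V} {Q₂ : QuadraticForm F W}
    (h₁ : (QuadraticMap.polarBilin Q₁).Nondegenerate) (h₂ : (QuadraticMap.polarBilin Q₂).Nondegenerate) :
    (QuadraticMap.polarBilin (Q₁.prod Q₂)).Nondegenerate := by
  refine nondegenerate_of_separatingLeft _ fun u hu => Prod.ext (h₁.1 _ fun z => ?_) (h₂.1 _ fun z => ?_)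
  · have h := hu (z, 0)
    simp only [QuadraticMap.polarBilin_apply_apply, QuadraticMap.polar, QuadraticMap.prod_apply, Prod.fst_add,
      Prod.snd_add, add_zero, map_zero] at h ⊢
    linear_combination h
  · have h := hu (0, z)
    simp only [QuadraticMap.polarBilin_apply_apply, QuadraticMap.polar, QuadraticMap.prod_apply, Prod.fst_add,
      Prod.snd_add, add_zero, map_zero] at h ⊢
    linear_combination h

theorem prod_isometry {Q₁ : QuadraticForm F V} {Q₂ : QuadraticForm F W} {g : Module.End F V} {h : Module.End F W}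
    (hg : ∀ v, Q₁ (g v) = Q₁ v) (hh : ∀ v, Q₂ (h v) = Q₂ v) {r : ℕ} (hgr : g ^ r = 1) (hhr : h ^ r = 1) :
    (∀ x, (Q₁.prod Q₂) (g.prodMap h x) = (Q₁.prod Q₂) x) ∧
      (g.prodMap h : Module.End F (V × W)) ^ r = 1 ∧
      (g.prodMap h : Module.End F (V × W)).charpoly = g.charpoly * h.charpoly := by
  refine ⟨fun x => ?_, ?_, LinearMap.charpoly_prodMap g h⟩
  · simp [QuadraticMap.prod_apply, hg, hh]
  · have key : ∀ k : ℕ, (g.prodMap h : Module.End F (V × W)) ^ k = (g ^ k).prodMap (h ^ k) := fun k => by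
      induction k with
      | zero => ext <;> simp
      | succ k ih => rw [pow_succ, ih, pow_succ, pow_succ]; ext <;> simp
    rw [key, hgr, hhr]
    ext <;> simp

theorem real_mul {r : ℕ} {P P' : F[X]} (hP : Real F r P) (hP' : Real F r P') : Real F r (P * P') := by
  obtain ⟨n, Q, g, hn, hg, hgr, rfl⟩ := hP
  obtain ⟨n', Q', g', hn', hg', hgr', rfl⟩ := hP'
  obtain ⟨h1, h2, h3⟩ := prod_isometry hg hg' hgr hgr'
  exact h3 ▸ real_of _ (nondegenerate_prod hn hn') _ h1 h2

end Transport

theorem real_one_pow (r a : ℕ) : Real F r ((X - Polynomial.C 1) ^ (2 * a)) := by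
  have h := real_of (r := r) (qfPlus a F) (nondegenerate_qfPlus a) 1 (fun v => rfl) (one_pow r)
  rwa [LinearMap.charpoly_one, Module.finrank_pi, Fintype.card_sum, Fintype.card_fin, ← two_mul,
    ← map_one Polynomial.C] at h

theorem real_pair {r : ℕ} {f : F[X]} (hf : f.Monic) (hd : f ∣ X ^ r - 1) (h0 : f.coeff 0 ≠ 0) :
    Real F r (f * rdual f) := by
  classical
  let pb := AdjoinRoot.powerBasis' hf
  set A := Algebra.leftMulMatrix pb.basis pb.gen
  have hgen : pb.gen = AdjoinRoot.root f := AdjoinRoot.powerBasis'_gen hf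
  have hA : A.charpoly = f := by
    rw [charpoly_leftMulMatrix, hgen, AdjoinRoot.minpoly_root hf.ne_zero, hf.leadingCoeff, inv_one, map_one, mul_one]
  obtain ⟨G, hG⟩ : IsUnit A := by
    rw [Matrix.isUnit_iff_isUnit_det, isUnit_iff_ne_zero, Matrix.det_eq_sign_charpoly_coeff, hA]
    exact mul_ne_zero (pow_ne_zero _ (neg_ne_zero.2 one_ne_zero)) h0
  have hGr : G ^ r = 1 := by
    obtain ⟨w, hw⟩ := hd
    have hz : pb.gen ^ r = 1 := by
      have := congrArg (AdjoinRoot.mk f) hw
      rw [map_mul, AdjoinRoot.mk_self, zero_mul, map_sub, map_pow, AdjoinRoot.mk_X, map_one] at this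
      rw [hgen]; exact sub_eq_zero.1 this
    exact Units.ext (by rw [Units.val_pow_eq_pow_val, hG, ← map_pow, hz, map_one, Units.val_one])
  set M := (Classical.sympLevi pb.dim G : Matrix (Fin pb.dim ⊕ Fin pb.dim) (Fin pb.dim ⊕ Fin pb.dim) F) with hM
  have hiso : ∀ v, qfPlus pb.dim F (Matrix.toLinAlgEquiv' M v) = qfPlus pb.dim F v := fun v => by
    obtain ⟨x, y, rfl⟩ : ∃ x y, v = Sum.elim x y := ⟨v ∘ Sum.inl, v ∘ Sum.inr, (Sum.elim_comp_inl_inr v).symm⟩
    show qfPlus pb.dim F (Matrix.mulVec (Matrix.fromBlocks (G : Matrix (Fin pb.dim) (Fin pb.dim) F) 0 0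
      (Matrix.transpose ((G⁻¹ : GL (Fin pb.dim) F) : Matrix (Fin pb.dim) (Fin pb.dim) F))) (Sum.elim x y)) = _
    rw [Matrix.fromBlocks_mulVec]
    simp only [qfPlus_apply, quadFormPlus, Sum.elim_inl, Sum.elim_inr, Sum.elim_comp_inl, Sum.elim_comp_inr,
      Matrix.zero_mulVec, add_zero, zero_add]
    show dotProduct _ _ = dotProduct x y
    rw [Matrix.mulVec_transpose, dotProduct_comm, ← Matrix.dotProduct_mulVec,
      Matrix.mulVec_mulVec, ← Units.val_mul, inv_mul_cancel, Units.val_one, Matrix.one_mulVec, dotProduct_comm]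
  have hMr : Matrix.toLinAlgEquiv' M ^ r = 1 := by
    rw [← map_pow, hM, ← SubmonoidClass.coe_pow, ← map_pow, hGr, map_one, OneMemClass.coe_one, map_one]
  have h := real_of (r := r) (qfPlus pb.dim F) (nondegenerate_qfPlus _) _ hiso hMr
  rwa [← LinearMap.charpoly_toMatrix _ (Pi.basisFun F _), LinearMap.toMatrix_eq_toMatrix',
    show LinearMap.toMatrix' (Matrix.toLinAlgEquiv' M) = M from LinearMap.toMatrix'_toLin' M,
    show M = Matrix.fromBlocks (G : Matrix (Fin pb.dim) (Fin pb.dim) F) 0 0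
      (Matrix.transpose ((G⁻¹ : GL (Fin pb.dim) F) : Matrix (Fin pb.dim) (Fin pb.dim) F)) from rfl,
    Matrix.charpoly_fromBlocks_zero₁₂, SympPrimeOrderClasses.charpoly_invTranspose, hG, hA] at h

variable [Fintype F] {r i t : ℕ}

theorem real_self (h : Ctx F r i t) {f : F[X]} (hf : f ∈ factorSet F r) (he : Even i) : Real F r f := by
  classical
  obtain ⟨hfm, hfi, hfd, -⟩ := mem_data h hf
  haveI := Fact.mk hfi
  haveI := hfm.finite_adjoinRoot
  haveI : Finite (AdjoinRoot f) := Module.finite_of_finite F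
  set E := AdjoinRoot f
  set z : E := AdjoinRoot.root f with hz
  have hzo : orderOf z = r := orderOf_root h hf
  have hzr : z ^ r = 1 := by rw [← hzo]; exact pow_orderOf_eq_one z
  have hz0 : z ≠ 0 := fun h' => by rw [h', zero_pow h.prime.ne_zero] at hzr; exact zero_ne_one hzr
  have hroot : aeval z⁻¹ f = 0 := by
    have h1 := rdual_root hz0 (show aeval z f = 0 from AdjoinRoot.eval₂_root f)
    rwa [(rdual_mem h hf).2.2 he] at h1
  let s₀ : E →ₐ[F] E := AdjoinRoot.liftAlgHom f (Algebra.ofId F E) z⁻¹ hroot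
  let s : E ≃ₐ[F] E := AlgEquiv.ofBijective s₀ (Finite.injective_iff_bijective.1 (RingHom.injective _))
  have hs₀ : s₀ z = z⁻¹ := AdjoinRoot.liftAlgHom_root _ _ _ _
  have hsz : s z = z⁻¹ := hs₀
  have hss : ∀ x, s (s x) = x := by
    have : (s.toAlgHom.comp s.toAlgHom) = AlgHom.id F E := AdjoinRoot.algHom_ext (by
      show s (s z) = z
      rw [hsz, map_inv₀, hsz, inv_inv])
    exact fun x => AlgHom.congr_fun this x
  set ω := z - z⁻¹
  have hω0 : ω ≠ 0 := fun h' => by
    have h2 : z ^ 2 = 1 := by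
      rw [pow_two]; conv_lhs => arg 2; rw [sub_eq_zero.1 h']
      exact mul_inv_cancel₀ hz0
    have h3 := orderOf_dvd_of_pow_eq_one h2
    rw [hzo] at h3
    exact h.odd ((Nat.prime_dvd_prime_iff_eq h.prime Nat.prime_two).1 h3)
  set θ := z / ω
  have hθ : θ + s θ = 1 := by
    rw [map_div₀, map_sub, map_inv₀, hsz, inv_inv, show z⁻¹ - z = -ω by ring, div_neg, ← sub_eq_add_neg,
      ← sub_div, div_self hω0]
  let B : LinearMap.BilinForm F E :=
    LinearMap.mk₂ F (fun x y => Algebra.trace F E (θ * x * s y))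
      (fun x x' y => by rw [mul_add, add_mul, map_add])
      (fun c x y => by rw [mul_smul_comm, smul_mul_assoc, map_smul])
      (fun x y y' => by rw [map_add, mul_add, map_add])
      (fun c x y => by rw [map_smul, mul_smul_comm, map_smul])
  let Q : QuadraticForm F E := LinearMap.BilinMap.toQuadraticMap B
  have hQa : ∀ x, Q x = Algebra.trace F E (θ * x * s x) := fun x => rfl
  have hpol : ∀ x y, QuadraticMap.polarBilin Q x y = Algebra.trace F E (x * s y) := fun x y => by
    rw [QuadraticMap.polarBilin_apply_apply]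
    show QuadraticMap.polar ⇑(LinearMap.BilinMap.toQuadraticMap B) x y = _
    rw [LinearMap.BilinMap.polar_toQuadraticMap]
    show Algebra.trace F E (θ * x * s y) + Algebra.trace F E (θ * y * s x) = _
    rw [← Algebra.trace_eq_of_algEquiv s (θ * y * s x), ← map_add]
    congr 1
    rw [map_mul, map_mul, hss]
    linear_combination (x * s y) * hθ
  have hQ : (QuadraticMap.polarBilin Q).Nondegenerate := by
    refine nondegenerate_of_separatingLeft _ fun x hx => (traceForm_nondegenerate F E).1 x fun y => ?_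
    rw [Algebra.traceForm_apply, ← hss y, ← hpol]; exact hx _
  have hiso : ∀ v, Q (Algebra.lmul F E z v) = Q v := fun v => by
    show Q (z * v) = _
    rw [hQa, hQa, map_mul s, hsz]
    congr 1
    linear_combination (θ * v * s v) * mul_inv_cancel₀ hz0
  have hr' : Algebra.lmul F E z ^ r = 1 := by rw [← map_pow, hzr, map_one]
  let pb := AdjoinRoot.powerBasis' hfm
  have hcp : (Algebra.lmul F E z : Module.End F E).charpoly = f := by
    rw [← LinearMap.charpoly_toMatrix _ pb.basis]
    show (Algebra.leftMulMatrix pb.basis z).charpoly = f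
    rw [hz, ← AdjoinRoot.powerBasis'_gen hfm, charpoly_leftMulMatrix, AdjoinRoot.powerBasis'_gen,
      AdjoinRoot.minpoly_root hfi.ne_zero, hfm.leadingCoeff, inv_one, map_one, mul_one]
  exact hcp ▸ real_of Q hQ _ hiso hr'

theorem eval_one_pow {P : F[X]} {k : ℕ} (hk : 0 < k) : (P * (X - Polynomial.C 1) ^ k).eval 1 = 0 := by
  simp [hk.ne']

/-- Self-reciprocal polynomials of even degree are realised. -/
theorem real_even (h : Ctx F r i t) {a : ℕ} {P : F[X]} (hP : P ∈ selfRecip F r (2 * a)) : Real F r P := by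
  classical
  rw [selfRecip_eq h] at hP
  obtain ⟨N, k, hN, rfl, hPd⟩ := hP
  have hN' : ∀ u ∈ N, Real F r u ∧ u.Monic ∧ Even u.natDegree := fun u hu => by
    obtain ⟨f, hf, rfl⟩ := mem_basics.1 (hN u hu)
    obtain ⟨hm, hd, -⟩ := basic_data h hf
    refine ⟨?_, hm, hd ▸ even_basicDeg i⟩
    unfold basic
    split_ifs with he
    · exact real_self h hf he
    · exact real_pair (mem_data h hf).1 (dvd_pow_sub_one h hf) (coeff_zero_ne h (dvd_pow_sub_one h hf))
  have key : Real F r N.prod ∧ N.prod.Monic ∧ Even N.prod.natDegree := by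
    clear hPd hN
    induction N using Multiset.induction with
    | empty =>
      refine ⟨?_, by rw [Multiset.prod_zero]; exact monic_one, by rw [Multiset.prod_zero, natDegree_one]; exact Even.zero⟩
      simpa using real_one_pow (F := F) r 0
    | cons u N ih =>
      obtain ⟨h1, h2, h3⟩ := hN' u (Multiset.mem_cons_self u N)
      obtain ⟨i1, i2, i3⟩ := ih fun v hv => hN' v (Multiset.mem_cons_of_mem hv)
      rw [Multiset.prod_cons]
      exact ⟨real_mul h1 i1, h2.mul i2, by rw [h2.natDegree_mul i2]; exact h3.add i3⟩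
  obtain ⟨k1, k2, ⟨c, hc⟩⟩ := key
  rw [k2.natDegree_mul ((monic_X_sub_C 1).pow k), natDegree_pow, natDegree_X_sub_C, mul_one, hc] at hPd
  rw [show k = 2 * (a - c) by omega]
  exact real_mul k1 (real_one_pow r _)

theorem mul_X_sub_one_mem (h : Ctx F r i t) {n : ℕ} {P : F[X]} (hP : P ∈ selfRecip F r n) :
    P * (X - Polynomial.C 1) ∈ selfRecip F r (n + 1) := by
  rw [selfRecip_eq h] at hP ⊢
  obtain ⟨N, k, hN, rfl, hd⟩ := hP
  refine ⟨N, k + 1, hN, by rw [pow_succ, mul_assoc], ?_⟩
  rw [natDegree_mul ?_ (X_sub_C_ne_zero 1), hd, natDegree_X_sub_C]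
  intro h0
  rw [h0, natDegree_zero] at hd
  rcases mul_eq_zero.1 h0 with h1 | h1
  · obtain ⟨f, hf, hfu⟩ := mem_basics.1 (hN 0 (Multiset.prod_eq_zero_iff.1 h1))
    exact (basic_data h hf).1.ne_zero hfu
  · exact (pow_ne_zero k (X_sub_C_ne_zero (1 : F))) h1

theorem exists_div_X_sub_one (h : Ctx F r i t) {n : ℕ} {P : F[X]} (hP : P ∈ selfRecip F r (n + 1))
    (he : P.eval 1 = 0) : ∃ P' ∈ selfRecip F r n, P = P' * (X - Polynomial.C 1) := by
  obtain ⟨hm, hd, hs, hf⟩ := hP
  obtain ⟨P', rfl⟩ := dvd_iff_isRoot.2 he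
  have hP'm : P'.Monic := (monic_X_sub_C 1).of_mul_monic_left hm
  refine ⟨P', ⟨hP'm, ?_, ?_, fun f h1 h2 h3 => hf f h1 h2 (h3.mul_left _)⟩, mul_comm _ _⟩
  · rw [(monic_X_sub_C (1 : F)).natDegree_mul hP'm, natDegree_X_sub_C] at hd
    omega
  · rw [rdual_mul, rdual_X_sub_one] at hs
    exact mul_left_cancel₀ (X_sub_C_ne_zero 1) hs

/-- In odd degree `1` is a root. -/
theorem eval_one_of_odd (h : Ctx F r i t) {a : ℕ} {P : F[X]} (hP : P ∈ selfRecip F r (2 * a + 1)) :
    P.eval 1 = 0 := by
  rw [selfRecip_eq h] at hP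
  obtain ⟨N, k, hN, rfl, hd⟩ := hP
  rcases Nat.eq_zero_or_pos k with rfl | hk
  · exfalso
    rw [pow_zero, mul_one] at hd
    have : Even N.prod.natDegree := by
      clear hd
      induction N using Multiset.induction with
      | empty => simp
      | cons u N ih =>
        obtain ⟨f, hf, hfu⟩ := mem_basics.1 (hN u (Multiset.mem_cons_self u N))
        have hum : u.Monic := hfu ▸ (basic_data h hf).1
        have hNm : N.prod.Monic := by
          simpa using monic_multiset_prod_of_monic N id fun v hv => by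
            obtain ⟨g, hg, hgv⟩ := mem_basics.1 (hN v (Multiset.mem_cons_of_mem hv))
            exact hgv ▸ (basic_data h hg).1
        rw [Multiset.prod_cons, hum.natDegree_mul hNm, ← hfu, (basic_data h hf).2.1]
        exact (even_basicDeg i).add (ih fun v hv => hN v (Multiset.mem_cons_of_mem hv))
    rw [hd, Nat.even_add_one] at this
    exact this (even_two_mul a)
  · exact eval_one_pow hk

theorem ncard_root_one (h : Ctx F r i t) (n : ℕ) :
    {P ∈ selfRecip F r (n + 1) | P.eval 1 = 0}.ncard = (selfRecip F r n).ncard := by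
  rw [show {P ∈ selfRecip F r (n + 1) | P.eval 1 = 0} = (· * (X - Polynomial.C 1)) '' selfRecip F r n from ?_,
    Set.ncard_image_of_injective _ (mul_left_injective₀ (X_sub_C_ne_zero 1))]
  ext P
  constructor
  · rintro ⟨hP, he⟩
    obtain ⟨P', hP', rfl⟩ := exists_div_X_sub_one h hP he
    exact ⟨P', hP', rfl⟩
  · rintro ⟨P', hP', rfl⟩
    exact ⟨mul_X_sub_one_mem h hP', by simp⟩

/-! ### The two types -/

section Types

variable {V W : Type*} [AddCommGroup V] [Module F V] [FiniteDimensional F V] [AddCommGroup W] [Module F W]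
  [FiniteDimensional F W]

/-- The sign of an even dimensional space, modulo `r`. -/
noncomputable def sgn (r : ℕ) (Q : QuadraticForm F V) : ZMod r := by
  classical exact if EvenType.Plus Q then 1 else -1

theorem plus_of_finrank_zero (Q : QuadraticForm F V) (hV : finrank F V = 0) : EvenType.Plus Q :=
  ⟨⊥, fun u hu => by rw [(Submodule.mem_bot F).1 hu, QuadraticMap.map_zero], by rw [finrank_bot, hV]⟩

theorem card_one_plus (m : ℕ) :
    (Nat.card {v // qfPlus m F v = 1} : ℤ) * Fintype.card F =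
      (Fintype.card F : ℤ) ^ (2 * m) - (Fintype.card F : ℤ) ^ m := by
  induction m with
  | zero =>
    have : IsEmpty {v // qfPlus 0 F v = 1} := ⟨fun v => by simpa [qfPlus_apply, quadFormPlus] using v.2⟩
    simp
  | succ k ih =>
    rw [← zeros_congr (plusStep k) (qfPlus_step k) 1, natCard_hypExt_eq, natCard_fun_field]
    simp only [Fintype.card_sum, Fintype.card_fin, Nat.cast_add, Nat.cast_mul, Nat.cast_pow, cast_card_sub_one]
    linear_combination (Fintype.card F : ℤ) * ih

theorem card_one_minus (m : ℕ) {a b : F}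
    (hab : ∀ z₁ z₂ : F, z₁ ^ 2 + a * z₁ * z₂ + b * z₂ ^ 2 = 0 → z₁ = 0 ∧ z₂ = 0) :
    (Nat.card {v // qfMinus m F a b v = 1} : ℤ) =
      (Fintype.card F : ℤ) ^ (2 * m + 1) + (Fintype.card F : ℤ) ^ m := by
  induction m with
  | zero =>
    rw [zeros_congr (Q' := binForm a b) minusPlane (fun v => by
      simp [binForm_apply, qfMinus_apply, quadFormMinus, minusPlane]) 1, natCard_binForm_one hab]
    push_cast; ring
  | succ k ih =>
    rw [← zeros_congr (minusStep k) (qfMinus_step k a b) 1, natCard_hypExt_eq, natCard_fun_field]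
    simp only [Fintype.card_sum, Fintype.card_fin, Nat.cast_add, Nat.cast_mul, Nat.cast_pow, cast_card_sub_one]
    linear_combination (Fintype.card F : ℤ) * ih

theorem dvd_card_one (hr : r.Prime) (Q : QuadraticForm F V) (g : Module.End F V) (hg : ∀ v, Q (g v) = Q v)
    (hgr : g ^ r = 1) (hfix : ∀ v, g v = v → v = 0) : r ∣ Nat.card {v // Q v = 1} := by
  classical
  haveI := Fact.mk hr
  haveI : Finite V := Module.finite_of_finite F
  haveI := Fintype.ofFinite {v // Q v = 1}
  have hpow : ∀ v, (g ^ (r - 1)) (g v) = v := fun v => by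
    rw [← Module.End.mul_apply, ← pow_succ, Nat.sub_add_cancel hr.one_le, hgr]; rfl
  have hpow' : ∀ v, g ((g ^ (r - 1)) v) = v := fun v => by
    rw [← Module.End.mul_apply, ← pow_succ', Nat.sub_add_cancel hr.one_le, hgr]; rfl
  let σ : Equiv.Perm {v // Q v = 1} :=
    { toFun := fun v => ⟨g v.1, (hg _).trans v.2⟩
      invFun := fun v => ⟨(g ^ (r - 1)) v.1, by rw [← hg, hpow']; exact v.2⟩
      left_inv := fun v => Subtype.ext (hpow _)
      right_inv := fun v => Subtype.ext (hpow' _) }
  have hσ : σ ^ r ^ 1 = 1 := by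
    rw [pow_one]
    ext v
    have key : ∀ k : ℕ, ((σ ^ k) v).1 = (g ^ k) v.1 := fun k => by
      induction k with
      | zero => rfl
      | succ k ih => rw [pow_succ', Equiv.Perm.mul_apply, pow_succ', Module.End.mul_apply, ← ih]; rfl
    rw [key, hgr]; rfl
  have h := Equiv.Perm.card_compl_support_modEq hσ
  have hempty : σ.supportᶜ = ∅ := Finset.eq_empty_of_forall_notMem fun v hv => by
    rw [Finset.mem_compl, Equiv.Perm.mem_support, not_not] at hv
    have h0 := hfix v.1 (congrArg Subtype.val hv)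
    have h1 := v.2
    rw [h0, QuadraticMap.map_zero] at h1
    exact zero_ne_one h1
  rw [hempty, Finset.card_empty] at h
  rw [Nat.card_eq_fintype_card]
  exact Nat.modEq_zero_iff_dvd.1 h.symm

/-- The type of a space carrying an element of order `r` without fixed vectors. -/
theorem pow_eq_sgn (h : Ctx F r i t) {m : ℕ} (hV : finrank F V = 2 * m) (Q : QuadraticForm F V)
    (hQ : (QuadraticMap.polarBilin Q).Nondegenerate) (g : Module.End F V) (hg : ∀ v, Q (g v) = Q v)
    (hgr : g ^ r = 1) (hfix : ∀ v, g v = v → v = 0) : (Fintype.card F : ZMod r) ^ m = sgn r Q := by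
  classical
  rcases Nat.eq_zero_or_pos m with rfl | hm
  · rw [pow_zero, sgn, if_pos (plus_of_finrank_zero Q hV)]
  obtain ⟨a, rfl⟩ : ∃ a, m = a + 1 := ⟨m - 1, by omega⟩
  have hdvd := dvd_card_one h.prime Q g hg hgr hfix
  haveI := Fact.mk h.prime
  set c : ZMod r := (Fintype.card F : ZMod r)
  have hc : c ≠ 0 := by
    intro h0
    have hi := i_pos h
    rw [h.hi, show (Fintype.card F : ZMod r) = 0 from h0, orderOf_zero] at hi
    exact lt_irrefl 0 hi
  rcases EvenType.exists_std hQ hV with ⟨hp, e, he⟩ | ⟨hp, ζ, e, hζ, he⟩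
  · rw [← zeros_congr e he 1] at hdvd
    have h0 := congrArg (fun z : ℤ => (z : ZMod r)) (card_one_plus (F := F) (a + 1))
    push_cast at h0
    rw [(ZMod.natCast_eq_zero_iff _ _).2 hdvd, zero_mul] at h0
    rw [sgn, if_pos hp]
    refine mul_left_cancel₀ (pow_ne_zero (a + 1) hc) ?_
    linear_combination -h0
  · rw [← zeros_congr e he 1] at hdvd
    have h0 := congrArg (fun z : ℤ => (z : ZMod r)) (card_one_minus a (EvenType.aniso_one hζ))
    push_cast at h0
    rw [(ZMod.natCast_eq_zero_iff _ _).2 hdvd] at h0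
    rw [sgn, if_neg hp]
    refine mul_left_cancel₀ (pow_ne_zero a hc) ?_
    linear_combination -h0

theorem plus_iff_of_sgn (h : Ctx F r i t) {Q : QuadraticForm F V} {Q' : QuadraticForm F W}
    (he : sgn r Q = sgn r Q') : EvenType.Plus Q ↔ EvenType.Plus Q' := by
  classical
  haveI := Fact.mk h.prime
  have h1 : (1 : ZMod r) ≠ -1 := fun e => h.odd ((Nat.prime_dvd_prime_iff_eq h.prime Nat.prime_two).1
    ((ZMod.natCast_eq_zero_iff _ _).1 (by push_cast; linear_combination e)))
  unfold sgn at he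
  split_ifs at he with hQ hQ' hQ'
  · exact iff_of_true hQ hQ'
  · exact absurd he h1
  · exact absurd he.symm h1
  · exact iff_of_false hQ hQ'

/-- Adding a plane of either type. -/
theorem exists_plane_sum {a : ℕ} (hV : finrank F V = 2 * a) (Q : QuadraticForm F V)
    (hQ : (QuadraticMap.polarBilin Q).Nondegenerate) (b : Prop) :
    ∃ (n : ℕ) (Q₂ : QuadraticForm F (Fin n → F)), n = 2 ∧ (QuadraticMap.polarBilin Q₂).Nondegenerate ∧
      (EvenType.Plus (Q.prod Q₂) ↔ b) := by
  classical
  -- a plane of each type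
  obtain ⟨HP, hHP, hHPp⟩ : ∃ H : QuadraticForm F (Fin 2 → F), (QuadraticMap.polarBilin H).Nondegenerate ∧
      EvenType.Plus H := by
    let e : (Fin 2 → F) ≃ₗ[F] (Fin 1 ⊕ Fin 1 → F) := LinearEquiv.funCongrLeft F F finSumFinEquiv
    refine ⟨(qfPlus 1 F).comp e.toLinearMap, OrthAut.comp_nondegenerate e (nondegenerate_qfPlus 1), ?_⟩
    obtain ⟨U, hU, hUr⟩ := exists_singular_plus (F := F) 1
    exact EvenType.Plus.map e.symm (Q := qfPlus 1 F) (fun v => by
      rw [QuadraticMap.comp_apply, LinearEquiv.coe_coe, e.apply_symm_apply])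
      ⟨U, hU, by rw [hUr, Module.finrank_pi]; simp⟩
  obtain ⟨HM, hHM, hHMp⟩ : ∃ H : QuadraticForm F (Fin 2 → F), (QuadraticMap.polarBilin H).Nondegenerate ∧
      ¬ EvenType.Plus H := by
    obtain ⟨x, y, hxy⟩ := OrthAut.exists_aniso F
    let e : (Fin 2 → F) ≃ₗ[F] ((Fin 0 ⊕ Fin 0) ⊕ Fin 2 → F) :=
      LinearEquiv.funCongrLeft F F (Equiv.emptySum _ _)
    refine ⟨(qfMinus 0 F x y).comp e.toLinearMap, OrthAut.comp_nondegenerate e (nondegenerate_qfMinus 0 hxy),
      fun hp => ?_⟩
    obtain ⟨U, hU, hd⟩ := EvenType.Plus.map e (Q' := qfMinus 0 F x y) (fun v => rfl) hp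
    have := singular_finrank_le_minus 0 hxy U hU
    rw [Module.finrank_pi] at hd
    simp at hd
    omega
  have key : ∀ H : QuadraticForm F (Fin 2 → F), (QuadraticMap.polarBilin H).Nondegenerate →
      (EvenType.Plus (Q.prod H) ↔ (EvenType.Plus Q ↔ EvenType.Plus H)) := by
    intro H hH
    let A := LinearMap.range (LinearMap.inl F V (Fin 2 → F))
    let B := LinearMap.range (LinearMap.inr F V (Fin 2 → F))
    let eA : V ≃ₗ[F] A := LinearEquiv.ofInjective _ LinearMap.inl_injective
    let eB : (Fin 2 → F) ≃ₗ[F] B := LinearEquiv.ofInjective _ LinearMap.inr_injective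
    have hsplit : EvenType.Split (Q.prod H) A B :=
      ⟨LinearMap.sup_range_inl_inr, disjoint_iff.1 LinearMap.disjoint_inl_inr, by
        rintro _ ⟨x, rfl⟩ _ ⟨y, rfl⟩
        simp [QuadraticMap.polar, QuadraticMap.prod_apply]⟩
    have heA : ∀ v, EvenType.res (Q.prod H) A (eA v) = Q v := fun v => by
      rw [EvenType.res_apply, show ((eA v : A) : V × (Fin 2 → F)) = (v, 0) from rfl]; simp [QuadraticMap.prod_apply]
    have heB : ∀ v, EvenType.res (Q.prod H) B (eB v) = H v := fun v => by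
      rw [EvenType.res_apply, show ((eB v : B) : V × (Fin 2 → F)) = (0, v) from rfl]; simp [QuadraticMap.prod_apply]
    have hpA : EvenType.Plus (EvenType.res (Q.prod H) A) ↔ EvenType.Plus Q :=
      ⟨fun hp => EvenType.Plus.map eA.symm (fun v => by rw [← heA, eA.apply_symm_apply]) hp,
        fun hp => EvenType.Plus.map eA heA hp⟩
    have hpB : EvenType.Plus (EvenType.res (Q.prod H) B) ↔ EvenType.Plus H :=
      ⟨fun hp => EvenType.Plus.map eB.symm (fun v => by rw [← heB, eB.apply_symm_apply]) hp,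
        fun hp => EvenType.Plus.map eB heB hp⟩
    have hn := nondegenerate_prod hQ hH
    have hB2 : finrank F B = 2 * (0 + 1) := by rw [← eB.finrank_eq, Module.finrank_fin_fun]
    by_cases hp : EvenType.Plus Q <;> by_cases hq : EvenType.Plus H
    · exact iff_of_true (hsplit.plus_plus (hpA.2 hp) (hpB.2 hq)) (iff_of_true hp hq)
    · exact iff_of_false (hsplit.plus_minus hn (hpA.2 hp) hB2 (mt hpB.1 hq)) fun e => hq (e.1 hp)
    · have ha : 1 ≤ a := Nat.pos_of_ne_zero fun h0 => hp (plus_of_finrank_zero Q (by omega))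
      exact iff_of_false (hsplit.symm.plus_minus hn (hpB.2 hq) (b := a - 1)
        (by rw [← eA.finrank_eq, hV]; omega) (mt hpA.1 hp)) fun e => hp (e.2 hq)
    · have ha : 1 ≤ a := Nat.pos_of_ne_zero fun h0 => hp (plus_of_finrank_zero Q (by omega))
      exact iff_of_true (hsplit.minus_minus hn (a := a - 1) (b := 0) (by rw [← eA.finrank_eq, hV]; omega) hB2
        (mt hpA.1 hp) (mt hpB.1 hq)) (iff_of_false hp hq)
  by_cases hb : b ↔ EvenType.Plus Q
  · exact ⟨2, HP, rfl, hHP, by rw [key HP hHP]; tauto⟩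
  · exact ⟨2, HM, rfl, hHM, by rw [key HM hHM]; tauto⟩

end Types

/-! ### The characteristic polynomials of a given space -/

section Spec

variable {V : Type*} [AddCommGroup V] [Module F V] [FiniteDimensional F V]

/-- The characteristic polynomials of the isometries killed by `r`. -/
def spec (r : ℕ) (Q : QuadraticForm F V) : Set F[X] :=
  {P | ∃ g : Module.End F V, (∀ v, Q (g v) = Q v) ∧ g ^ r = 1 ∧ g.charpoly = P}

theorem spec_subset (h : Ctx F r i t) (Q : QuadraticForm F V) (hQ : (QuadraticMap.polarBilin Q).Nondegenerate) :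
    spec r Q ⊆ selfRecip F r (finrank F V) := by
  classical
  rintro P ⟨g, hg, hgr, rfl⟩
  refine ⟨g.charpoly_monic, g.charpoly_natDegree, rdual_charpoly Q hQ g hg, fun f hf hirr hd => ?_⟩
  let b := Module.finBasis F V
  set A := LinearMap.toMatrixAlgEquiv b g
  have hAr : A ^ r = 1 := by rw [← map_pow, hgr, map_one]
  refine GLPrimeOrderClasses.factor_dvd (g := Units.ofPowEqOne A r hAr h.prime.ne_zero)
    (Units.pow_ofPowEqOne hAr h.prime.ne_zero) hf hirr ?_
  rw [Units.val_ofPowEqOne]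
  show f ∣ (LinearMap.toMatrix b b g).charpoly
  rwa [LinearMap.charpoly_toMatrix]

theorem exists_fixed_iff (g : Module.End F V) : (∃ v, g v = v ∧ v ≠ 0) ↔ g.charpoly.eval 1 = 0 := by
  rw [show g.charpoly.eval 1 = 0 ↔ g.charpoly.IsRoot 1 from Iff.rfl, ← Module.End.hasEigenvalue_iff_isRoot_charpoly,
    Module.End.hasEigenvalue_iff, Submodule.ne_bot_iff]
  simp [Module.End.mem_eigenspace_iff]

theorem spec_even (h : Ctx F r i t) {m : ℕ} (hV : finrank F V = 2 * m) (Q : QuadraticForm F V)
    (hQ : (QuadraticMap.polarBilin Q).Nondegenerate) :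
    spec r Q = {P ∈ selfRecip F r (2 * m) | P.eval 1 = 0 ∨ (Fintype.card F : ZMod r) ^ m = sgn r Q} := by
  classical
  ext P
  constructor
  · intro hP
    refine ⟨hV ▸ spec_subset h Q hQ hP, ?_⟩
    obtain ⟨g, hg, hgr, rfl⟩ := hP
    by_cases he : g.charpoly.eval 1 = 0
    · exact Or.inl he
    · exact Or.inr (pow_eq_sgn h hV Q hQ g hg hgr fun v hv => by
        by_contra h0
        exact he ((exists_fixed_iff g).1 ⟨v, hv, h0⟩))
  · rintro ⟨hP, hor⟩
    rcases Nat.eq_zero_or_pos m with rfl | hm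
    · refine ⟨1, fun v => rfl, one_pow r, ?_⟩
      rw [LinearMap.charpoly_one, hV, mul_zero, pow_zero, hP.1.natDegree_eq_zero.1 (by rw [hP.2.1, mul_zero])]
    obtain ⟨a, rfl⟩ : ∃ a, m = a + 1 := ⟨m - 1, by omega⟩
    by_cases he : P.eval 1 = 0
    · obtain ⟨P₁, hP₁, rfl⟩ := exists_div_X_sub_one h (n := 2 * a + 1) hP he
      obtain ⟨P₂, hP₂, rfl⟩ := exists_div_X_sub_one h (n := 2 * a) hP₁ (eval_one_of_odd h hP₁)
      obtain ⟨n, Q₁, g, hn, hg, hgr, hgP⟩ := real_even h hP₂
      have hn2 : n = 2 * a := by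
        have h1 := g.charpoly_natDegree
        rw [hgP, hP₂.2.1, Module.finrank_fin_fun] at h1
        exact h1.symm
      obtain ⟨n', Q₂, rfl, hn', hiff⟩ := exists_plane_sum (a := a) (by rw [Module.finrank_fin_fun, hn2]) Q₁ hn
        (EvenType.Plus Q)
      obtain ⟨φ, hφ⟩ := EvenType.iso_of_type (nondegenerate_prod hn hn') hQ (m := a)
        (by rw [Module.finrank_prod, Module.finrank_fin_fun, Module.finrank_fin_fun]; omega) hV hiff
      obtain ⟨h1, h2, h3⟩ := prod_isometry (Q₂ := Q₂) (h := 1) hg (fun v => rfl) hgr (one_pow r)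
      obtain ⟨j1, j2, j3⟩ := transport φ one_ne_zero (fun v => by rw [one_mul, hφ]) h1 h2
      refine ⟨_, j1, j2, ?_⟩
      rw [j3, h3, hgP, LinearMap.charpoly_one, Module.finrank_fin_fun, map_one]
      ring
    · obtain ⟨n, Q₁, g, hn, hg, hgr, hgP⟩ := real_even h hP
      have hn2 : finrank F (Fin n → F) = 2 * (a + 1) := by
        have h1 := g.charpoly_natDegree
        rw [hgP, hP.2.1] at h1
        exact h1.symm
      have h1 := pow_eq_sgn h hn2 Q₁ hn g hg hgr fun v hv => by
        by_contra h0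
        exact he (hgP ▸ (exists_fixed_iff g).1 ⟨v, hv, h0⟩)
      obtain ⟨φ, hφ⟩ := EvenType.iso_of_type hn hQ (m := a) hn2 hV
        (plus_iff_of_sgn h (h1.symm.trans (hor.resolve_left he)))
      obtain ⟨j1, j2, j3⟩ := transport φ one_ne_zero (fun v => by rw [one_mul, hφ]) hg hgr
      exact ⟨_, j1, j2, j3.trans hgP⟩

theorem spec_odd (h : Ctx F r i t) (h2 : (2 : F) ≠ 0) (m : ℕ) :
    spec r (qfOdd m F) = selfRecip F r (2 * m + 1) := by
  classical
  have hnd : (QuadraticMap.polarBilin (qfOdd m F)).Nondegenerate := nondegenerate_qfOdd m h2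
  have hV : finrank F (Unit ⊕ (Fin m ⊕ Fin m) → F) = 2 * m + 1 := by
    rw [Module.finrank_pi]; simp; omega
  refine Set.Subset.antisymm (hV ▸ spec_subset h _ hnd) fun P hP => ?_
  obtain ⟨P', hP', rfl⟩ := exists_div_X_sub_one h hP (eval_one_of_odd h hP)
  obtain ⟨n, Q₁, g, hn, hg, hgr, hgP⟩ := real_even h hP'
  have hn2 : n = 2 * m := by
    have h1 := g.charpoly_natDegree
    rw [hgP, hP'.2.1, Module.finrank_fin_fun] at h1
    exact h1.symm
  let Q₂ : QuadraticForm F F := QuadraticMap.sq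
  have hQ₂ : (QuadraticMap.polarBilin Q₂).Nondegenerate := by
    refine nondegenerate_of_separatingLeft _ fun u hu => ?_
    have h1 := hu 1
    simp [Q₂, QuadraticMap.polar] at h1
    refine (mul_eq_zero.1 (show (2 : F) * u = 0 by linear_combination h1)).resolve_left h2
  set Q' := Q₁.prod Q₂
  have hn' : (QuadraticMap.polarBilin Q').Nondegenerate := nondegenerate_prod hn hQ₂
  obtain ⟨b, hb0, hb1, hq, hEF, hEE⟩ := exists_odd_basis (m := m)
    (by rw [Module.finrank_prod, Module.finrank_fin_fun, Module.finrank_self, hn2]) Q' hn'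
  set c := Q' (b (Sum.inl ()))
  let u : Unit ⊕ (Fin m ⊕ Fin m) → Fˣ := Sum.elim 1 (Sum.elim (fun _ => Units.mk0 c hb0) 1)
  obtain ⟨e, he⟩ : ∃ e : (Unit ⊕ (Fin m ⊕ Fin m) → F) ≃ₗ[F] ((Fin n → F) × F),
      ∀ v, Q' (e v) = (c • qfOdd m F) v := by
    refine exists_isometry_of_bases (Pi.basisFun F _) (b.unitsSMul u) (fun x => ?_) fun x y => ?_
    · simp only [Pi.basisFun_apply, Module.Basis.unitsSMul_apply, Units.smul_def, QuadraticMap.map_smul,
        _root_.QuadraticMap.smul_apply]
      rcases x with x | (x | x)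
      · simp [u, c, qfOdd_apply, quadFormOdd]
      · simp [u, (hq x).1, qfOdd_apply, quadFormOdd]
      · simp [u, (hq x).2, qfOdd_apply, quadFormOdd]
    · simp only [Pi.basisFun_apply, Module.Basis.unitsSMul_apply, Units.smul_def, QuadraticMap.polar_smul_left,
        QuadraticMap.polar_smul_right, FunLike.coe_smul, QuadraticMap.polar_smul, polar_qfOdd]
      rcases x with x | (x | x) <;> rcases y with y | (y | y)
      · simp [u, c, QuadraticMap.polar_self]; ring
      · simp [u, (hb1 y).1, Pi.single_apply]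
      · simp [u, (hb1 y).2, Pi.single_apply]
      · simp [u, QuadraticMap.polar_comm _ (b (Sum.inr _)) (b (Sum.inl _)), (hb1 x).1, Pi.single_apply]
      · simp [u, (hEE x y).1, Pi.single_apply]
      · simp [u, hEF x y, Pi.single_apply, eq_comm]
      · simp [u, QuadraticMap.polar_comm _ (b (Sum.inr _)) (b (Sum.inl _)), (hb1 x).2, Pi.single_apply]
      · simp [u, QuadraticMap.polar_comm _ (b (Sum.inr (Sum.inr x))) (b (Sum.inr (Sum.inl y))), hEF y x,
          Pi.single_apply, eq_comm]
      · simp [u, (hEE x y).2, Pi.single_apply]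
  obtain ⟨h1, h2', h3⟩ := prod_isometry (Q₂ := Q₂) (h := 1) hg (fun v => rfl) hgr (one_pow r)
  obtain ⟨j1, j2, j3⟩ := transport e.symm (Q' := qfOdd m F) (c := c⁻¹) (inv_ne_zero hb0) (fun v => by
    have := he (e.symm v)
    rw [e.apply_symm_apply, _root_.QuadraticMap.smul_apply, smul_eq_mul] at this
    rw [this, inv_mul_cancel_left₀ hb0]) h1 h2'
  refine ⟨_, j1, j2, ?_⟩
  rw [j3, h3, hgP, LinearMap.charpoly_one, Module.finrank_self, pow_one, map_one]

end Spec

/-! ### Classes -/

section Classes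

variable {ι : Type} [Fintype ι] [DecidableEq ι]

theorem isometry_isConj (h : Ctx F r i t) (Q : QuadraticForm F (ι → F))
    (hQ : (QuadraticMap.polarBilin Q).Nondegenerate) (A B : isometryGroup F ⇑Q) (hA : A ^ r = 1) (hB : B ^ r = 1)
    (hc : ((A : GL ι F) : Matrix ι ι F).charpoly = ((B : GL ι F) : Matrix ι ι F).charpoly) : IsConj A B := by
  classical
  set a := ((A : GL ι F) : Matrix ι ι F)
  set b := ((B : GL ι F) : Matrix ι ι F)
  have hchar : ∀ C : Matrix ι ι F, LinearMap.charpoly (Matrix.toLinAlgEquiv' C) = C.charpoly := fun C => by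
    rw [← LinearMap.charpoly_toMatrix _ (Pi.basisFun F _), LinearMap.toMatrix_eq_toMatrix']
    exact congrArg _ (LinearMap.toMatrix'_toLin' C)
  have hpow : ∀ C : isometryGroup F ⇑Q, C ^ r = 1 →
      Matrix.toLinAlgEquiv' ((C : GL ι F) : Matrix ι ι F) ^ r = 1 := fun C hC => by
    rw [← map_pow, ← Units.val_pow_eq_pow_val, ← SubgroupClass.coe_pow, hC, OneMemClass.coe_one, Units.val_one,
      map_one]
  obtain ⟨e, he⟩ := SympSemisimpleClasses.exists_equiv_of_charpoly_eq (Matrix.toLinAlgEquiv' a)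
    (Matrix.toLinAlgEquiv' b) (M := r) h.ne (hpow A hA) (hpow B hB) (by rw [hchar, hchar, hc])
  obtain ⟨R, hR, hRA⟩ := SemisimpleFormConjugacy.quadratic_conj Q hQ (g := Matrix.toLinAlgEquiv' a)
    (h := Matrix.toLinAlgEquiv' b) (fun x => mem_isometryGroup.1 A.2 x) (fun x => mem_isometryGroup.1 B.2 x)
    (M := r) h.ne (h.prime.odd_of_ne_two h.odd) (hpow A hA) e he
  set R' : Matrix ι ι F := LinearMap.toMatrixAlgEquiv' (R : (ι → F) →ₗ[F] (ι → F))
  have hR' : ∀ x, Matrix.mulVec R' x = R x := fun x => by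
    show Matrix.toLinAlgEquiv' R' x = _
    rw [Matrix.toLinAlgEquiv'_toMatrixAlgEquiv']
    rfl
  obtain ⟨u, hu⟩ : IsUnit R' := IsUnit.map LinearMap.toMatrixAlgEquiv'
    (LinearMap.GeneralLinearGroup.ofLinearEquiv R).isUnit
  have hmem : u ∈ isometryGroup F ⇑Q := mem_isometryGroup.2 fun x => by rw [hu, hR', hR]
  refine isConj_iff.2 ⟨⟨u, hmem⟩, mul_inv_eq_iff_eq_mul.2 (Subtype.ext (Units.ext
    (Matrix.ext_iff_mulVec.2 fun x => ?_)))⟩
  show Matrix.mulVec (u.val * a) x = Matrix.mulVec (b * u.val) x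
  rw [← Matrix.mulVec_mulVec, ← Matrix.mulVec_mulVec, hu, hR', hR']
  exact hRA x

/-- The classes of the isometries killed by `r`. -/
theorem ncard_classes_pow (h : Ctx F r i t) (Q : QuadraticForm F (ι → F))
    (hQ : (QuadraticMap.polarBilin Q).Nondegenerate) :
    {C : ConjClasses (isometryGroup F ⇑Q) | ∃ g, ConjClasses.mk g = C ∧ g ^ r = 1}.ncard = (spec r Q).ncard := by
  classical
  have hchar : ∀ C : Matrix ι ι F, LinearMap.charpoly (Matrix.toLinAlgEquiv' C) = C.charpoly := fun C => by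
    rw [← LinearMap.charpoly_toMatrix _ (Pi.basisFun F _), LinearMap.toMatrix_eq_toMatrix']
    exact congrArg _ (LinearMap.toMatrix'_toLin' C)
  set A := {C : ConjClasses (isometryGroup F ⇑Q) | ∃ g, ConjClasses.mk g = C ∧ g ^ r = 1}
  let ψ : A → F[X] := fun C => ((C.2.choose : GL ι F) : Matrix ι ι F).charpoly
  have hψ : Function.Injective ψ := fun C C' hc => Subtype.ext (by
    rw [← C.2.choose_spec.1, ← C'.2.choose_spec.1, ConjClasses.mk_eq_mk_iff_isConj]
    exact isometry_isConj h Q hQ _ _ C.2.choose_spec.2 C'.2.choose_spec.2 hc)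
  have hrange : Set.range ψ = spec r Q := by
    ext P
    constructor
    · rintro ⟨C, rfl⟩
      have hg := C.2.choose_spec.2
      set g := C.2.choose
      refine ⟨Matrix.toLinAlgEquiv' ((g : GL ι F) : Matrix ι ι F), fun x => mem_isometryGroup.1 g.2 x, ?_, hchar _⟩
      rw [← map_pow, ← Units.val_pow_eq_pow_val, ← SubgroupClass.coe_pow, hg, OneMemClass.coe_one, Units.val_one,
        map_one]
    · rintro ⟨e, he, her, rfl⟩
      have hEr : LinearMap.toMatrixAlgEquiv' e ^ r = 1 := by rw [← map_pow, her, map_one]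
      set u := Units.ofPowEqOne _ r hEr h.prime.ne_zero
      have hu : Matrix.toLinAlgEquiv' (u : Matrix ι ι F) = e := by
        rw [Units.val_ofPowEqOne, Matrix.toLinAlgEquiv'_toMatrixAlgEquiv']
      have hmem : u ∈ isometryGroup F ⇑Q := mem_isometryGroup.2 fun x => by
        show Q (Matrix.toLinAlgEquiv' (u : Matrix ι ι F) x) = _
        rw [hu, he]
      have hur : (⟨u, hmem⟩ : isometryGroup F ⇑Q) ^ r = 1 := Subtype.ext (Units.pow_ofPowEqOne hEr h.prime.ne_zero)
      have hCm : ConjClasses.mk (⟨u, hmem⟩ : isometryGroup F ⇑Q) ∈ A := ⟨_, rfl, hur⟩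
      refine ⟨⟨_, hCm⟩, ?_⟩
      obtain ⟨c, hc⟩ := isConj_iff.1 (ConjClasses.mk_eq_mk_iff_isConj.1 hCm.choose_spec.1)
      show Matrix.charpoly _ = _
      rw [← hu, hchar, ← congrArg (fun x : isometryGroup F ⇑Q => ((x : GL ι F) : Matrix ι ι F)) hc]
      simp only [Subgroup.coe_mul, Subgroup.coe_inv, Units.val_mul, Matrix.coe_units_inv]
      rw [Matrix.charpoly_units_conj]
  rw [← Nat.card_coe_set_eq, ← Nat.card_range_of_injective hψ, hrange, Nat.card_coe_set_eq]

/-- The number of classes of elements of order `r` is one less. -/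
theorem natCard_order (h : Ctx F r i t) (Q : QuadraticForm F (ι → F))
    (hQ : (QuadraticMap.polarBilin Q).Nondegenerate) :
    Nat.card {C : ConjClasses (isometryGroup F ⇑Q) // ∃ g : isometryGroup F ⇑Q, ConjClasses.mk g = C ∧ orderOf g = r} =
      (spec r Q).ncard - 1 := by
  classical
  set A := {C : ConjClasses (isometryGroup F ⇑Q) | ∃ g, ConjClasses.mk g = C ∧ g ^ r = 1}
  have hB : {C : ConjClasses (isometryGroup F ⇑Q) | ∃ g, ConjClasses.mk g = C ∧ orderOf g = r} =
      A \ {ConjClasses.mk 1} := by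
    ext C
    constructor
    · rintro ⟨g, rfl, hg⟩
      refine ⟨⟨g, rfl, hg ▸ pow_orderOf_eq_one g⟩, fun e => ?_⟩
      rw [Set.mem_singleton_iff, ConjClasses.mk_eq_mk_iff_isConj, isConj_one_left] at e
      rw [e, orderOf_one] at hg
      exact h.prime.one_lt.ne hg
    · rintro ⟨⟨g, rfl, hg⟩, hne⟩
      refine ⟨g, rfl, (h.prime.eq_one_or_self_of_dvd _ (orderOf_dvd_of_pow_eq_one hg)).resolve_left fun e => ?_⟩
      exact hne (by rw [orderOf_eq_one_iff.1 e]; rfl)
  show Nat.card {C : ConjClasses (isometryGroup F ⇑Q) | ∃ g, ConjClasses.mk g = C ∧ orderOf g = r} = _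
  rw [hB, Nat.card_coe_set_eq, Set.ncard_sdiff_singleton_of_mem (show ConjClasses.mk 1 ∈ A from ⟨1, rfl, one_pow r⟩),
    ncard_classes_pow h Q hQ]

theorem ncard_spec_even (h : Ctx F r i t) {m : ℕ} (hm : 1 ≤ m) (hι : Fintype.card ι = 2 * m)
    (Q : QuadraticForm F (ι → F)) (hQ : (QuadraticMap.polarBilin Q).Nondegenerate) :
    (spec r Q).ncard = (selfRecip F r (if (Fintype.card F : ZMod r) ^ m = sgn r Q then 2 * m else 2 * m - 1)).ncard := by
  rw [spec_even h (by rw [Module.finrank_pi, hι]) Q hQ]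
  split_ifs with hc
  · congr 1
    ext P
    exact ⟨fun hP => hP.1, fun hP => ⟨hP, Or.inr hc⟩⟩
  · conv_rhs => rw [← ncard_root_one h, Nat.sub_add_cancel (show 1 ≤ 2 * m by omega)]
    congr 1
    ext P
    simp [hc]

end Classes

/-- Lowering the degree by one. -/
theorem choose_pred {n D u : ℕ} (hD : 0 < D) (hn : 0 < n) (hu : 1 ≤ u) :
    Nat.choose ((n - 1) / D + u) u =
      Nat.choose (n / D + u) u - (if D ∣ n then Nat.choose (n / D + u - 1) (u - 1) else 0) := by
  obtain ⟨w, rfl⟩ : ∃ w, u = w + 1 := ⟨u - 1, by omega⟩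
  split_ifs with hd
  · obtain ⟨k, rfl⟩ := hd
    obtain ⟨k', rfl⟩ : ∃ k', k = k' + 1 := ⟨k - 1, by
      rcases k with _ | k
      · simp at hn
      · omega⟩
    have h1 : (D * (k' + 1) - 1) / D = k' := by
      rw [Nat.div_eq_iff hD]
      constructor
      · rw [Nat.mul_succ, mul_comm] <;> omega
      · rw [Nat.mul_succ, mul_comm D k'] <;> omega
    rw [h1, Nat.mul_div_cancel_left _ hD, show k' + 1 + (w + 1) - 1 = k' + (w + 1) by omega,
      show k' + 1 + (w + 1) = (k' + (w + 1)) + 1 by omega, Nat.choose_succ_succ', Nat.add_sub_cancel,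
      Nat.add_sub_cancel_left]
  · rw [Nat.sub_zero]
    obtain ⟨s, rfl⟩ : ∃ s, n = s + 1 := ⟨n - 1, by omega⟩
    rw [Nat.add_sub_cancel, Nat.succ_div_of_not_dvd hd]

end Cfsg.Agent.OrthPrimeOrderClasses
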