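import Cfsg.Agent.Lib.Classical.OrthSemi
import Cfsg.Agent.Lib.Grp.Cores

/-!
An automorphism of `PΩ(Q)` read on unipotent matrices, and the fact that it permutes the long root
elements.
-/

set_option autoImplicit false
set_option linter.unusedSectionVars false
set_option quotPrecheck false

namespace Cfsg.Agent.Classical.OrthAut

open Matrix
open scoped Pointwise

variable {F : Type*} [Field F] [Fintype F] {ι : Type} [Fintype ι] [DecidableEq ι]
  {Q : QuadraticForm F (ι → F)} (p : ℕ) [Fact p.Prime] [CharP F p]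

local notation "V" => (ι → F)
local notation "Mn" => Matrix ι ι F
local notation "B" => QuadraticMap.polar ⇑Q
local notation "OG" => isometryGroup F ⇑Q
local notation "Om" => Omega F ⇑Q
local notation "PQ" => POmega F ⇑Q
local notation "π" => omPi (Q := Q)

/-- Matrices of `p`-power order. -/
def Uni (M : Mn) : Prop := ∃ k, M ^ p ^ k = 1

variable (Q) in
/-- Unipotent matrices in `Ω`. -/
def PU (M : Mn) : Prop := Uni p M ∧ ∃ s : Om, omVal s = M

/-- The action of an automorphism on unipotent matrices. -/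
def Rel (β : MulAut (POmega F ⇑Q)) (M N : Mn) : Prop :=
  ∃ s t : Om, omVal s = M ∧ omVal t = N ∧ Uni p M ∧ Uni p N ∧ β (π s) = π t

omit [Fintype F] in
theorem smul_uni [Nonempty ι] {A C : Mn} {l : F} (hA : Uni p A) (hC : Uni p C) (e : A = l • C) : l = 1 := by
  obtain ⟨j, hj⟩ := hA
  obtain ⟨k, hk⟩ := hC
  have hA' : A ^ p ^ (j + k) = 1 := by rw [pow_add, pow_mul, hj, one_pow]
  have hC' : C ^ p ^ (j + k) = 1 := by rw [add_comm, pow_add, pow_mul, hk, one_pow]
  rw [e, smul_pow, hC'] at hA'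
  have h1 : l ^ p ^ (j + k) = 1 := by
    obtain ⟨i⟩ := ‹Nonempty ι›
    simpa using congrFun (congrFun hA' i) i
  exact iterateFrobenius_inj F p (j + k) (by
    simpa [iterateFrobenius_def] using h1)

omit [Fintype F] in
theorem Uni.one : Uni p (1 : Mn) := ⟨0, by simp⟩

omit [Fintype F] in
theorem Uni.mul {A C : Mn} (hA : Uni p A) (hC : Uni p C) (h : Commute A C) : Uni p (A * C) := by
  obtain ⟨j, hj⟩ := hA
  obtain ⟨k, hk⟩ := hC
  refine ⟨j + k, ?_⟩
  rw [h.mul_pow, pow_add, pow_mul, hj, one_pow, one_mul, mul_comm, pow_mul, hk, one_pow]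

omit [Fintype F] in
theorem Uni.conj {M : Mn} (h : Uni p M) (g : Om) : Uni p (omVal g * M * omVal g⁻¹) := by
  obtain ⟨k, hk⟩ := h
  refine ⟨k, ?_⟩
  have hx : ∀ n, (omVal g * M * omVal g⁻¹) ^ n = omVal g * M ^ n * omVal g⁻¹ := fun n => by
    induction n with
    | zero => simp [omVal_mul_inv]
    | succ n ih =>
      rw [pow_succ, ih, pow_succ]
      simp only [Matrix.mul_assoc]
      rw [← Matrix.mul_assoc (omVal g⁻¹) (omVal g), omVal_inv_mul, Matrix.one_mul]
  rw [hx, hk, Matrix.mul_one, omVal_mul_inv]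

omit [Fintype F] in
theorem uni_eMat {e w : V} (h : OK Q e w) : Uni p (eMat Q e w) := ⟨1, by rw [pow_one, eMat_pow_char h]⟩

variable (hQ : (QuadraticMap.polarBilin Q).Nondegenerate) (hT : Tri Q)
include hQ hT

omit hQ in
theorem nonempty_index : Nonempty ι := by
  obtain ⟨a, b, c, h, -⟩ := hT
  obtain ⟨i, -⟩ : ∃ i, a i ≠ 0 := Function.ne_iff.1 h.left_ne
  exact ⟨i⟩

theorem pu_eMat {e w : V} (h : OK Q e w) : PU Q p (eMat Q e w) :=
  ⟨uni_eMat p h, exists_eOm hQ hT (p := p) h⟩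

theorem pu_rootSet {M : Mn} (h : M ∈ rootSet Q) : PU Q p M := by
  obtain ⟨a, b, h, rfl⟩ := h
  exact pu_eMat p hQ hT h.ok

theorem Rel.unique {β : MulAut PQ} {M N N' : Mn} (h : Rel p β M N) (h' : Rel p β M N') : N = N' := by
  haveI := nonempty_index hT
  obtain ⟨s, t, hs, ht, -, hN, e⟩ := h
  obtain ⟨s', t', hs', ht', -, hN', e'⟩ := h'
  rw [omVal_ext (hs.trans hs'.symm), e'] at e
  obtain ⟨l, hl⟩ := (omPi_eq_iff hQ hT (p := p)).1 e
  rw [ht, ht'] at hl
  have := smul_uni p hN' hN hl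
  rw [hl, this, one_smul]

omit hQ hT in
theorem Rel.symm {β : MulAut PQ} {M N : Mn} (h : Rel p β M N) : Rel p β⁻¹ N M := by
  obtain ⟨s, t, hs, ht, hM, hN, e⟩ := h
  exact ⟨t, s, ht, hs, hN, hM, by rw [← e]; exact β.symm_apply_apply _⟩

theorem Rel.inj {β : MulAut PQ} {M M' N : Mn} (h : Rel p β M N) (h' : Rel p β M' N) : M = M' :=
  Rel.unique p hQ hT h.symm h'.symm

omit hQ hT in
theorem Rel.comp {β γ : MulAut PQ} {L M N : Mn} (h : Rel p β L M) (h' : Rel p γ M N) :
    Rel p (γ * β) L N := by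
  obtain ⟨s, t, hs, ht, hL, -, e⟩ := h
  obtain ⟨t', u, ht', hu, -, hN, e'⟩ := h'
  refine ⟨s, u, hs, hu, hL, hN, ?_⟩
  rw [MulAut.mul_apply, e, omVal_ext (ht.trans ht'.symm), e']

omit hQ hT in
theorem Rel.one (β : MulAut PQ) : Rel p β (1 : Mn) 1 :=
  ⟨1, 1, rfl, rfl, Uni.one p, Uni.one p, by simp⟩

omit hQ hT in
theorem Rel.pu {β : MulAut PQ} {M N : Mn} (h : Rel p β M N) : PU Q p M ∧ PU Q p N := by
  obtain ⟨s, t, hs, ht, hM, hN, -⟩ := h
  exact ⟨⟨hM, s, hs⟩, hN, t, ht⟩

/-- Elements of `p`-power order have unipotent lifts. -/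
theorem exists_lift {y : PQ} {k : ℕ} (hy : y ^ p ^ k = 1) : ∃ t : Om, π t = y ∧ Uni p (omVal t) := by
  obtain ⟨t, rfl⟩ := omPi_surjective y
  rw [← map_pow] at hy
  obtain ⟨c, hc⟩ := (omPi_eq_one_iff hQ hT (p := p)).1 hy
  rw [omVal_pow] at hc
  obtain ⟨n, -, hn⟩ := FiniteField.card F p
  set q := Fintype.card F
  have hq : 1 < q := Fintype.one_lt_card
  have hc0 : c ≠ 0 := fun h0 => by
    haveI := nonempty_index hT
    have h1 : omVal (t ^ p ^ k) = 0 := by rw [omVal_pow, hc, h0, zero_smul]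
    exact one_ne_zero (α := Mn) (by rw [← omVal_mul_inv (t ^ p ^ k), h1, Matrix.zero_mul])
  -- an exponent which is `1` modulo `p ^ k` and `0` modulo `q - 1`
  set a := q ^ (k + 1) - 1
  obtain ⟨i, hi⟩ : q - 1 ∣ a := by simpa using Nat.sub_dvd_pow_sub_pow q 1 (k + 1) |>.trans (by simp [a])
  obtain ⟨j, hj⟩ : p ^ k ∣ q ^ (k + 1) := by
    refine (pow_dvd_pow p (Nat.le_succ k)).trans (pow_dvd_pow_of_dvd ?_ _)
    rw [hn]; exact dvd_pow_self p n.ne_zero
  have ha : a + 1 = p ^ k * j := by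
    have : 1 ≤ q ^ (k + 1) := Nat.one_le_pow _ _ (by omega)
    omega
  have hM : a * a + 2 * (p ^ k * j) = p ^ k * j * (p ^ k * j) + 1 := by rw [← ha]; ring
  refine ⟨t ^ (a * a), ?_, k, ?_⟩
  · have h1 : (π t) ^ p ^ k = 1 := by rw [← map_pow]; exact hy
    have h2 := congrArg ((π t) ^ ·) hM
    simp only [pow_add, show 2 * (p ^ k * j) = p ^ k * (2 * j) by ring,
      show p ^ k * j * (p ^ k * j) = p ^ k * (j * (p ^ k * j)) by ring, pow_mul _ (p ^ k), h1,
      one_pow, mul_one, one_mul, pow_one] at h2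
    rw [map_pow]; exact h2
  · rw [omVal_pow, ← pow_mul, mul_comm (a * a), pow_mul, hc, smul_pow, one_pow]
    rw [show a * a = (q - 1) * (i * a) by rw [← mul_assoc, ← hi], pow_mul,
      FiniteField.pow_card_sub_one_eq_one c hc0, one_pow, one_smul]

theorem rel_exists (β : MulAut PQ) {M : Mn} (h : PU Q p M) : ∃ N, Rel p β M N := by
  obtain ⟨⟨k, hk⟩, s, hs⟩ := h
  obtain ⟨t, ht, hu⟩ := exists_lift p hQ hT (y := β (π s)) (k := k) (by
    rw [← map_pow, ← map_pow, show s ^ p ^ k = 1 from omVal_ext (by rw [omVal_pow, hs, hk, omVal_one]),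
      map_one, map_one])
  exact ⟨_, s, t, hs, rfl, ⟨k, hk⟩, hu, ht.symm⟩

theorem Rel.commute {β : MulAut PQ} {M M' N N' : Mn} (h : Rel p β M N) (h' : Rel p β M' N')
    (hc : Commute M M') : Commute N N' ∧ Rel p β (M * M') (N * N') := by
  haveI := nonempty_index hT
  obtain ⟨s, t, hs, ht, hM, hN, e⟩ := h
  obtain ⟨s', t', hs', ht', hM', hN', e'⟩ := h'
  have hss : s * s' = s' * s := omVal_ext (by rw [omVal_mul, omVal_mul, hs, hs', hc.eq])
  have h1 : π (t * t' * t⁻¹) = π t' := by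
    rw [map_mul, map_mul, map_inv, ← e, ← e', ← map_mul, ← map_mul π s, hss, map_mul π s', map_mul,
      mul_inv_cancel_right]
  obtain ⟨l, hl⟩ := (omPi_eq_iff hQ hT (p := p)).1 h1
  rw [omVal_mul, omVal_mul, ht'] at hl
  have hl1 := smul_uni p (hN'.conj p t) hN' hl
  rw [hl1, one_smul] at hl
  have hcomm : Commute N N' := by
    have h2 := congrArg (· * omVal t) hl
    simp only [Matrix.mul_assoc, omVal_inv_mul, Matrix.mul_one] at h2
    rwa [ht] at h2
  refine ⟨hcomm, s * s', t * t', by rw [omVal_mul, hs, hs'], by rw [omVal_mul, ht, ht'],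
    hM.mul p hM' hc, hN.mul p hN' hcomm, by rw [map_mul, map_mul, e, e', map_mul]⟩

theorem Rel.commute_iff {β : MulAut PQ} {M M' N N' : Mn} (h : Rel p β M N) (h' : Rel p β M' N') :
    Commute M M' ↔ Commute N N' :=
  ⟨fun hc => (h.commute p hQ hT h' hc).1, fun hc => (h.symm.commute p hQ hT h'.symm hc).1⟩

omit hQ hT in
theorem Rel.conj {β : MulAut PQ} {M N : Mn} (h : Rel p β M N) {g k : Om} (hg : β (π g) = π k) :
    Rel p β (omVal g * M * omVal g⁻¹) (omVal k * N * omVal k⁻¹) := by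
  obtain ⟨s, t, rfl, rfl, hM, hN, e⟩ := h
  exact ⟨g * s * g⁻¹, k * t * k⁻¹, rfl, rfl, hM.conj p g, hN.conj p k, by
    rw [map_mul, map_mul, map_inv, map_mul, map_mul, map_inv, hg, e, map_mul, map_mul, map_inv]⟩

/-! ### Root elements have class size prime to `p` -/

omit hT in
theorem p_dvd_perp {e f u : V} (hu : u ≠ 0) (h1 : B e u = 0) (h2 : B f u = 0) :
    p ∣ Nat.card {v : V // B e v = 0 ∧ B f v = 0} := by
  let S : Submodule F V := LinearMap.ker (QuadraticMap.polarBilin Q e) ⊓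
    LinearMap.ker (QuadraticMap.polarBilin Q f)
  let x : S := ⟨u, h1, h2⟩
  have hord : addOrderOf x = p := addOrderOf_eq_prime (by
      rw [← Nat.cast_smul_eq_nsmul F, CharP.cast_eq_zero, zero_smul])
    (fun h0 => hu (congrArg Subtype.val h0))
  have h3 : addOrderOf x ∣ Nat.card S := addOrderOf_dvd_natCard x
  rw [hord] at h3
  rwa [show Nat.card {v : V // B e v = 0 ∧ B f v = 0} = Nat.card S from
    Nat.card_congr (Equiv.subtypeEquivRight fun v => Iff.rfl)]

/-- The singular vectors number a multiple of `p`. -/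
theorem p_dvd_zeros : p ∣ Nat.card {v : V // Q v = 0} := by
  obtain ⟨e, f, P⟩ := exists_basePair hQ hT
  obtain ⟨u, u', hu, hp, -⟩ := exists_frame hQ hT P
  obtain ⟨n, -, hn⟩ := FiniteField.card F p
  rw [(zeros_split Q P.1 P.2.1 P.2.2).1]
  exact dvd_add (Dvd.dvd.mul_right (hn ▸ dvd_pow_self p n.ne_zero) _)
    (Dvd.dvd.mul_left (p_dvd_perp p hQ hu.ne hp.1 hp.2) _)

/-- So do those orthogonal to a pair. -/
theorem p_dvd_zeros_perp {e f : V} (P : Pair Q e f) :
    p ∣ Nat.card {v : V // Perp Q e f v ∧ Q v = 0} := by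
  obtain ⟨u, u', hu, hp, hp'⟩ := exists_frame hQ hT P
  obtain ⟨x, hx0, hx, hxe, hxu⟩ := exists_singular_perp2 hQ hT P hu hp hp'
  let S : Submodule F V := LinearMap.ker (QuadraticMap.polarBilin Q e) ⊓
    LinearMap.ker (QuadraticMap.polarBilin Q f)
  let a : S := ⟨u, hp.1, hp.2⟩
  let b : S := ⟨u', hp'.1, hp'.2⟩
  let c : S := ⟨x, hxe.1, hxe.2⟩
  obtain ⟨n, -, hn⟩ := FiniteField.card F p
  have h1 := (zeros_split (Q.comp S.subtype) (e := a) (f := b) hu.1 hu.2.1 hu.2.2).1
  have h2 : Nat.card {v : V // Perp Q e f v ∧ Q v = 0} = Nat.card {v : S // Q.comp S.subtype v = 0} :=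
    Nat.card_congr
      { toFun := fun v => ⟨⟨v.1, v.2.1.1, v.2.1.2⟩, v.2.2⟩
        invFun := fun v => ⟨v.1.1, ⟨v.1.2.1, v.1.2.2⟩, v.2⟩
        left_inv := fun v => rfl
        right_inv := fun v => rfl }
  rw [h2, h1]
  refine dvd_add (Dvd.dvd.mul_right (hn ▸ dvd_pow_self p n.ne_zero) _) (Dvd.dvd.mul_left ?_ _)
  let T : Submodule F S := LinearMap.ker (QuadraticMap.polarBilin (Q.comp S.subtype) a) ⊓
    LinearMap.ker (QuadraticMap.polarBilin (Q.comp S.subtype) b)
  let y : T := ⟨c, hxu.1, hxu.2⟩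
  have hord : addOrderOf y = p := addOrderOf_eq_prime (by
      rw [← Nat.cast_smul_eq_nsmul F, CharP.cast_eq_zero, zero_smul])
    (fun h0 => hx0 (congrArg (fun z : T => (z : S).1) h0))
  have h3 : addOrderOf y ∣ Nat.card T := addOrderOf_dvd_natCard y
  rw [hord] at h3
  exact h3.trans (dvd_of_eq (Nat.card_congr (Equiv.subtypeEquivRight fun v => Iff.rfl)))

/-- Number of root elements at a point, modulo `p`. -/
theorem card_thru {e : V} (he : e ≠ 0) (hee : Q e = 0) : (Nat.card (thru Q e) : ZMod p) = -1 := by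
  classical
  obtain ⟨f, hf, hef⟩ := exists_pair hQ he hee
  have P : Pair Q e f := ⟨hee, hf, hef⟩
  set U := {v : V // Perp Q e f v ∧ Q v = 0}
  let z : U := ⟨0, ⟨by simp, by simp⟩, QuadraticMap.map_zero _⟩
  let φ : {v : U // v ≠ z} → thru Q e := fun v =>
    ⟨eMat Q e v.1.1, v.1.1, TS.of_perp P v.1.2.2 v.1.2.1 (fun h0 => v.2 (Subtype.ext h0)), rfl⟩
  have hφ : Function.Bijective φ := by
    constructor
    · rintro ⟨⟨u, hu, hu'⟩, _⟩ ⟨⟨v, hv, hv'⟩, _⟩ e0
      obtain ⟨t, ht⟩ := eMat_inj hQ he ⟨hee, hu.1⟩ ⟨hee, hv.1⟩ (congrArg Subtype.val e0)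
      have h1 := congrArg (B f) ht
      simp [QuadraticMap.polar_add_right, QuadraticMap.polar_smul_right, hu.2, hv.2,
        QuadraticMap.polar_comm _ f e, P.2.2] at h1
      refine Subtype.ext (Subtype.ext ?_)
      simpa [← h1] using ht.symm
    · rintro ⟨M, w, hw, rfl⟩
      refine ⟨⟨⟨w + (-(B f w)) • e, ⟨?_, ?_⟩, ?_⟩, fun h0 => ?_⟩, Subtype.ext (eMat_add_self hw.ok _)⟩
      · rw [QuadraticMap.polar_add_right, hw.2.2.1, QuadraticMap.polar_smul_right, polar_self' hee]; simp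
      · rw [QuadraticMap.polar_add_right, QuadraticMap.polar_smul_right,
          QuadraticMap.polar_comm _ f e, P.2.2]; simp
      · rw [quad_add_smul, hw.2.1, hee, QuadraticMap.polar_comm _ w e, hw.2.2.1]; ring
      · have h1 : w + (-(B f w)) • e = 0 := congrArg Subtype.val h0
        exact one_ne_zero (hw.2.2.2 (-(B f w)) 1 (by rw [one_smul, add_comm]; exact h1)).2
  rw [← Nat.card_eq_of_bijective φ hφ, Nat.card_eq_fintype_card, Fintype.card_subtype_compl,
    Fintype.card_subtype_eq, Nat.cast_sub (Fintype.card_pos_iff.2 ⟨z⟩), ← Nat.card_eq_fintype_card,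
    (CharP.cast_eq_zero_iff (ZMod p) p _).2 (p_dvd_zeros_perp p hQ hT P)]
  simp

theorem exists_mulVec_TS {a b c d : V} (h : TS Q a b) (h' : TS Q c d) :
    ∃ g : OG, ((g : GL ι F) : Mn) *ᵥ a = c ∧ ((g : GL ι F) : Mn) *ᵥ b = d := by
  have key : ∀ {a b : V}, TS Q a b → Function.Injective (pairMap a b : F × F →ₗ[F] V) ∧
      ∀ u : F × F, Q (pairMap a b u) = 0 := fun {a b} h => by
    refine ⟨(injective_iff_map_eq_zero _).2 fun u hu => ?_, fun u => ?_⟩
    · rw [pairMap_apply] at hu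
      exact Prod.ext (h.2.2.2 _ _ hu).1 (h.2.2.2 _ _ hu).2
    · rw [pairMap_apply, quad_lin, h.1, h.2.1, h.2.2.1]; ring
  obtain ⟨g, hgd, hg, hgu⟩ := exists_isometry_map hQ (pairMap a b) (pairMap c d) (key h).1 (key h').1
    fun u => by rw [(key h).2, (key h').2]
  refine ⟨mkIsometry g hgd hg, ?_, ?_⟩
  · simpa [pairMap_apply] using hgu (1, 0)
  · simpa [pairMap_apply] using hgu (0, 1)

/-- A root element centralises a Sylow `p`-subgroup. -/
theorem exists_centralised_sylow {a b : V} (h : TS Q a b) {x : Om} (hx : omVal x = eMat Q a b) :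
    ∃ P : Sylow p PQ, π x ∈ (P : Subgroup PQ) ∧ ∀ y ∈ (P : Subgroup PQ), Commute (π x) y := by
  classical
  let K : Subgroup OG :=
    { carrier := {g | ((g : GL ι F) : Mn) *ᵥ a = a ∧ Commute g (x : OG)}
      one_mem' := ⟨Matrix.one_mulVec a, Commute.one_left _⟩
      mul_mem' := fun {g k} hg hk => ⟨by
        show (((g : GL ι F) : Mn) * ((k : GL ι F) : Mn)) *ᵥ a = a
        rw [← Matrix.mulVec_mulVec, hk.1, hg.1], hg.2.mul_left hk.2⟩
      inv_mem' := fun {g} hg => ⟨by
        show (((g : GL ι F)⁻¹ : GL ι F) : Mn) *ᵥ a = a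
        conv_lhs => arg 2; rw [← hg.1]
        rw [Matrix.mulVec_mulVec, Units.inv_mul, Matrix.one_mulVec], hg.2.inv_left⟩ }
  let T := Σ c : {v : V // v ≠ 0 ∧ Q v = 0}, thru Q c.1
  let act : OG → V × Mn := fun g => (((g : GL ι F) : Mn) *ᵥ a,
    ((g : GL ι F) : Mn) * eMat Q a b * (((g : GL ι F)⁻¹ : GL ι F) : Mn))
  have hactE : ∀ g : OG, act g = (((g : GL ι F) : Mn) *ᵥ a,
      eMat Q (((g : GL ι F) : Mn) *ᵥ a) (((g : GL ι F) : Mn) *ᵥ b)) := fun g => by
    show (_, _) = (_, _)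
    rw [isometry_eMat (mem_isometryGroup.1 g.2), Matrix.mul_assoc, Units.mul_inv, Matrix.mul_one]
  have hTS : ∀ g : OG, TS Q (((g : GL ι F) : Mn) *ᵥ a) (((g : GL ι F) : Mn) *ᵥ b) := fun g => by
    refine ⟨by rw [mem_isometryGroup.1 g.2]; exact h.1, by rw [mem_isometryGroup.1 g.2]; exact h.2.1,
      by rw [isometry_polar (mem_isometryGroup.1 g.2)]; exact h.2.2.1, fun s t h0 => h.2.2.2 s t ?_⟩
    have h1 := congrArg ((((g : GL ι F)⁻¹ : GL ι F) : Mn) *ᵥ ·) h0
    simpa [Matrix.mulVec_add, Matrix.mulVec_smul, Matrix.mulVec_mulVec, Units.inv_mul] using h1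
  have hact : ∀ g k : OG, act g = act k ↔ g⁻¹ * k ∈ K := fun g k => by
    have hxc : ((x : OG) : GL ι F) = ((x : OG) : GL ι F) := rfl
    constructor
    · intro e
      have e1 := congrArg Prod.fst e
      have e2 := congrArg Prod.snd e
      simp only [act] at e1 e2
      refine ⟨?_, Subtype.ext (Units.ext ?_)⟩
      · show ((((g : GL ι F)⁻¹ : GL ι F) : Mn) * ((k : GL ι F) : Mn)) *ᵥ a = a
        rw [← Matrix.mulVec_mulVec, ← e1, Matrix.mulVec_mulVec, Units.inv_mul, Matrix.one_mulVec]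
      · show (((g : GL ι F)⁻¹ : GL ι F) : Mn) * ((k : GL ι F) : Mn) * omVal x =
          omVal x * ((((g : GL ι F)⁻¹ : GL ι F) : Mn) * ((k : GL ι F) : Mn))
        rw [hx]
        have e3 := congrArg (fun M => (((g : GL ι F)⁻¹ : GL ι F) : Mn) * M * ((k : GL ι F) : Mn)) e2
        simp only [Matrix.mul_assoc, Units.inv_mul, Matrix.mul_one] at e3
        rw [← Matrix.mul_assoc (((g : GL ι F)⁻¹ : GL ι F) : Mn) ((g : GL ι F) : Mn), Units.inv_mul,
          Matrix.one_mul] at e3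
        rw [Matrix.mul_assoc, ← e3]
    · rintro ⟨h1, h2⟩
      obtain ⟨j, rfl⟩ : ∃ j, k = g * j := ⟨g⁻¹ * k, by group⟩
      rw [inv_mul_cancel_left] at h1 h2
      have h3 : ((j : GL ι F) : Mn) * eMat Q a b * (((j : GL ι F)⁻¹ : GL ι F) : Mn) = eMat Q a b := by
        rw [← hx]
        have : ((j : GL ι F) : Mn) * omVal x = omVal x * ((j : GL ι F) : Mn) :=
          congrArg (fun z : OG => ((z : GL ι F) : Mn)) h2.eq
        rw [this, Matrix.mul_assoc, Units.mul_inv, Matrix.mul_one]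
      refine Prod.ext ?_ ?_
      · show _ = (((g : GL ι F) : Mn) * ((j : GL ι F) : Mn)) *ᵥ a
        rw [← Matrix.mulVec_mulVec, h1]
      · show _ = ((g : GL ι F) : Mn) * ((j : GL ι F) : Mn) * eMat Q a b *
          ((((g : GL ι F) * (j : GL ι F))⁻¹ : GL ι F) : Mn)
        conv_lhs => simp only [act]; rw [← h3]
        simp only [_root_.mul_inv_rev, Units.val_mul, Matrix.mul_assoc]
  have hindex : (K.index : ZMod p) = 1 := by
    let f : OG ⧸ K → T := Quotient.lift
      (fun g : OG => (⟨⟨(act g).1, by rw [hactE]; exact (hTS g).left_ne, by rw [hactE]; exact (hTS g).1⟩,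
        ⟨(act g).2, ⟨_, hTS g, congrArg Prod.snd (hactE g)⟩⟩⟩ : T))
      (fun g k hgk => by
        have e := (hact g k).2 ((QuotientGroup.leftRel_apply (s := K)).1 hgk)
        exact Sigma.subtype_ext (Subtype.ext (congrArg Prod.fst e)) (congrArg Prod.snd e))
    have hf : Function.Bijective f := by
      constructor
      · rintro ⟨g⟩ ⟨k⟩ e
        refine Quotient.sound ((QuotientGroup.leftRel_apply (s := K)).2 ((hact g k).1 (Prod.ext ?_ ?_)))
        · exact congrArg (fun t : T => t.1.1) e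
        · exact congrArg (fun t : T => t.2.1) e
      · rintro ⟨⟨c, hc0, hcc⟩, M, d, hd, rfl⟩
        obtain ⟨g, hga, hgb⟩ := exists_mulVec_TS hQ hT h hd
        refine ⟨Quotient.mk _ g, Sigma.subtype_ext (Subtype.ext hga) ?_⟩
        show (act g).2 = eMat Q c d
        rw [hactE, hga, hgb]
    rw [Subgroup.index, Nat.card_eq_of_bijective f hf, Nat.card_sigma, Nat.cast_sum,
      Finset.sum_congr rfl (fun c _ => card_thru p hQ hT c.2.1 c.2.2), Finset.sum_const, Finset.card_univ,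
      nsmul_eq_mul, mul_neg, mul_one]
    let z : {v : V // Q v = 0} := ⟨0, QuadraticMap.map_zero _⟩
    have e1 : Fintype.card {v : V // v ≠ 0 ∧ Q v = 0} = Nat.card {v : V // Q v = 0} - 1 := by
      rw [Nat.card_eq_fintype_card, ← Fintype.card_subtype_eq z, ← Fintype.card_subtype_compl]
      exact Fintype.card_congr
        { toFun := fun v => ⟨⟨v.1, v.2.2⟩, fun h0 => v.2.1 (congrArg Subtype.val h0)⟩
          invFun := fun v => ⟨v.1.1, fun h0 => v.2 (Subtype.ext h0), v.1.2⟩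
          left_inv := fun v => rfl
          right_inv := fun v => rfl }
    rw [e1, Nat.cast_sub (Nat.card_pos_iff.2 ⟨⟨z⟩, inferInstance⟩),
      (CharP.cast_eq_zero_iff (ZMod p) p _).2 (p_dvd_zeros p hQ hT)]
    simp
  -- inside `Ω`
  set S : Subgroup Om := K.subgroupOf Om
  have hSdvd : S.index ∣ K.index := by
    have r1 := Subgroup.relIndex_mul_relIndex (K ⊓ Om) K (K ⊔ Om) inf_le_left le_sup_left
    have r2 := Subgroup.relIndex_mul_relIndex (K ⊓ Om) Om (K ⊔ Om) inf_le_right le_sup_right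
    rw [Subgroup.inf_relIndex_left] at r1
    rw [Subgroup.inf_relIndex_right, Subgroup.relIndex_sup_right, ← r1, mul_comm] at r2
    have r3 : K.relIndex Om = K.relIndex (K ⊔ Om) :=
      Nat.eq_of_mul_eq_mul_left (Nat.pos_of_ne_zero (Subgroup.index_ne_zero_of_finite (H := Subgroup.subgroupOf (Omega F ⇑Q) K))) r2
    show K.relIndex Om ∣ K.index
    rw [r3]
    exact Subgroup.relIndex_dvd_index_of_le le_sup_left
  have hcop : ¬ p ∣ (S.map π).index := fun hd => by
    have h1 : p ∣ K.index := hd.trans ((Subgroup.index_map_dvd S omPi_surjective).trans hSdvd)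
    rw [← CharP.cast_eq_zero_iff (ZMod p) p, hindex] at h1
    exact one_ne_zero h1
  obtain ⟨P0⟩ := (inferInstance : Nonempty (Sylow p (S.map π)))
  set P0' := (P0 : Subgroup (S.map π)).map (S.map π).subtype
  have hcent : ∀ y ∈ P0', Commute (π x) y := by
    rintro _ ⟨⟨_, s, hs, rfl⟩, -, rfl⟩
    have h1 : Commute s x := Subtype.ext hs.2.eq
    exact h1.symm.map π
  obtain ⟨P, hP⟩ := (P0.2.map (S.map π).subtype).exists_le_sylow
  have hPeq : P0' = (P : Subgroup PQ) := by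
    refine Subgroup.eq_of_le_of_card_ge hP ?_
    rw [Sylow.card_eq_multiplicity, Subgroup.card_map_of_injective (Subgroup.subtype_injective _),
      Sylow.card_eq_multiplicity]
    refine Nat.pow_le_pow_right (Fact.out : p.Prime).pos ?_
    rw [← Subgroup.card_mul_index (S.map π), Nat.factorization_mul Nat.card_pos.ne'
      Subgroup.index_ne_zero_of_finite, Finsupp.add_apply, Nat.factorization_eq_zero_of_not_dvd hcop,
      add_zero]
  refine ⟨P, ?_, hPeq ▸ hcent⟩
  have hnorm : π x ∈ Subgroup.normalizer ((P : Subgroup PQ) : Set PQ) := by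
    refine Subgroup.mem_normalizer_iff.2 fun y => ?_
    rw [← hPeq]
    constructor
    · intro hy; rwa [(hcent y hy).eq, mul_inv_cancel_right]
    · intro hy
      have h1 := (hcent _ hy).eq
      have : y = π x * y * (π x)⁻¹ := by
        rw [mul_assoc _ y, mul_assoc] at h1
        simpa [mul_assoc] using (mul_left_cancel h1).symm
      rwa [this]
  have hpz : IsPGroup p (Subgroup.zpowers (π x)) := by
    have h1 : π x ^ p = 1 := by
      rw [← map_pow, show x ^ p = 1 from omVal_ext (by rw [omVal_pow, hx, eMat_pow_char h.ok, omVal_one]),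
        map_one]
    rcases (Nat.dvd_prime (Fact.out : p.Prime)).1 (orderOf_dvd_of_pow_eq_one h1) with hk | hk
    · exact IsPGroup.of_card (n := 0) (by rw [Nat.card_zpowers, hk, pow_zero])
    · exact IsPGroup.of_card (n := 1) (by rw [Nat.card_zpowers, hk, pow_one])
  have hsup := hpz.to_sup_of_normal_right' P.2 (Subgroup.zpowers_le.2 hnorm)
  rw [← P.3 hsup le_sup_right]
  exact Subgroup.mem_sup_left (Subgroup.mem_zpowers _)

end Cfsg.Agent.Classical.OrthAut
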