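import Cfsg.Agent.Lib.Classical.OrthShortRoot

/-!
Siegel transformations in dimension five and up, and reflections of a single square class.
-/

set_option autoImplicit false
set_option linter.unusedSectionVars false
set_option quotPrecheck false

namespace Cfsg.Agent.Classical.OrthAut

open Matrix Module
open scoped commutatorElement

variable {F : Type*} [Field F] [Fintype F] {ι : Type} [Fintype ι] [DecidableEq ι]
  {Q : QuadraticForm F (ι → F)}

local notation "Mn" => Matrix ι ι F
local notation "B" => QuadraticMap.polar ⇑Q
local notation "OG" => isometryGroup F ⇑Q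

variable (hQ : (QuadraticMap.polarBilin Q).Nondegenerate) (h2 : (2 : F) ≠ 0)
include hQ h2

omit hQ h2 in
theorem siegel_eq_eMat {u v : ι → F} (hv : Q v = 0) (c : F) : siegelMatrix ⇑Q u v c = eMat Q u (c • v) := by
  refine Matrix.ext_iff_mulVec.2 fun x => ?_
  rw [siegelMatrix_mulVec, eMat_mulVec, QuadraticMap.polar_smul_left, QuadraticMap.map_smul, hv, smul_smul, smul_zero,
    zero_mul, zero_smul, sub_zero, smul_eq_mul, mul_comm (B u x)]

/-- A long root transformation is a commutator. -/
theorem siegel_commutator {u v : ι → F} (hu : Q u = 0) (hv : Q v = 0) (huv : B u v = 0) (c : F) {g : OG}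
    (hg : ogVal g = siegelMatrix ⇑Q u v c) : g ∈ commutatorSet OG := by
  rw [siegel_eq_eMat hv] at hg
  by_cases hind : ∀ s t : F, s • u + t • v = 0 → s = 0 ∧ t = 0
  swap
  · have h1 : g = 1 := ogVal_ext (by
      rw [hg, ogVal_one]
      push Not at hind
      obtain ⟨s, t, h, hne⟩ := hind
      refine Matrix.ext_iff_mulVec.2 fun x => ?_
      rw [eMat_mulVec, Matrix.one_mulVec, QuadraticMap.polar_smul_left, QuadraticMap.map_smul, hv, smul_zero,
        zero_mul, zero_smul, sub_zero, smul_eq_mul]
      by_cases hs : s = 0
      · have hv0 : v = 0 := by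
          rw [hs, zero_smul, zero_add] at h
          exact (smul_eq_zero.1 h).resolve_left (hne hs)
        simp [hv0]
      · have he : u = (-t / s) • v := by
          linear_combination (norm := skip) s⁻¹ • h
          match_scalars <;> field_simp <;> ring
        rw [he, QuadraticMap.polar_smul_left, smul_eq_mul, smul_smul, smul_smul, add_sub_assoc, ← sub_smul]
        rw [show -t / s * B v x * c - c * B v x * (-t / s) = 0 by ring, zero_smul, add_zero])
    rw [h1]; exact one_mem_commutatorSet _
  obtain ⟨z, hz1, hz2⟩ := exists_polar2 hQ hind 0 1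
  have P : Pair Q v (z + (-Q z) • v) := ⟨hv, by rw [quad_add_smul, hv, QuadraticMap.polar_comm, hz2]; ring, by
    rw [QuadraticMap.polar_add_right, QuadraticMap.polar_smul_right, polar_self' hv, hz2, smul_zero, add_zero]⟩
  obtain ⟨h, hh, -⟩ := exists_torus_elt hQ P (ε := 2) h2
  have hu' : ogVal h *ᵥ u = u := by
    rw [hh, QuadraticMap.polar_comm _ _ u, QuadraticMap.polar_add_right, QuadraticMap.polar_smul_right, hz1, huv,
      QuadraticMap.polar_comm _ v u, huv]
    simp
  have hv' : ogVal h *ᵥ v = (2 : F) • v := by
    rw [hh, polar_self' hv, QuadraticMap.polar_comm _ _ v, P.2.2]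
    module
  have hk : OK Q u (c • v) := ⟨hu, by rw [QuadraticMap.polar_smul_right, huv, smul_zero]⟩
  refine ⟨h, eOG hk, ogVal_ext ?_⟩
  rw [commutatorElement_def, ogVal_mul, conj_eOG, eOG_inv hk, eOG_val, Matrix.mulVec_smul, hu', hv', hg,
    eMat_mul ⟨hu, by rw [QuadraticMap.polar_smul_right, QuadraticMap.polar_smul_right, huv, smul_zero, smul_zero]⟩
      (hk.smul (-1))]
  congr 1
  module

theorem siegel_mem_omega {u v : ι → F} (hu : Q u = 0) (hv : Q v = 0) (huv : B u v = 0) (c : F) {g : OG}
    (hg : ogVal g = siegelMatrix ⇑Q u v c) : g ∈ Omega F ⇑Q := by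
  obtain ⟨a, b, rfl⟩ := siegel_commutator hQ h2 hu hv huv c hg
  exact Subgroup.commutator_mem_commutator (Subgroup.mem_top a) (Subgroup.mem_top b)

/-- `Ω` is generated by the long root transformations in dimension at least five. -/
theorem omega_eq_siegel (hn : 5 ≤ Fintype.card ι) :
    Omega F ⇑Q = Subgroup.closure {g : OG | ∃ (u v : ι → F) (c : F), Q u = 0 ∧ Q v = 0 ∧ B u v = 0 ∧
      ogVal g = siegelMatrix ⇑Q u v c} := by
  refine le_antisymm ?_ ((Subgroup.closure_le _).2 ?_)
  swap
  · rintro g ⟨u, v, c, hu, hv, huv, hg⟩
    exact siegel_mem_omega hQ h2 hu hv huv c hg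
  set N := Subgroup.closure {g : OG | ∃ (u v : ι → F) (c : F), Q u = 0 ∧ Q v = 0 ∧ B u v = 0 ∧
      ogVal g = siegelMatrix ⇑Q u v c}
  rw [omega_eq_eR hQ h2 (by omega) (exists_singular_three hQ h2 (by omega))]
  refine (Subgroup.closure_le _).2 ?_
  rintro g ⟨e, w, hk, hg⟩
  obtain rfl : g = eOG hk := ogVal_ext hg
  by_cases he : e = 0
  · have h1 : eOG hk = 1 := ogVal_ext (by
      rw [eOG_val, he, show (0 : ι → F) = (0 : F) • (0 : ι → F) by simp, eMat_smul_left, zero_smul, eMat_zero,
        ogVal_one])
    rw [h1]; exact one_mem _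
  have sing : ∀ x, Q x = 0 → ∀ h : OK Q e x, eOG h ∈ N := fun x hx h => Subgroup.subset_closure
    ⟨e, x, 1, h.1, hx, h.2, by rw [eOG_val, siegel_eq_eMat hx, one_smul]⟩
  have add : ∀ x y, ∀ hx : OK Q e x, ∀ hy : OK Q e y, eOG hx ∈ N → eOG hy ∈ N →
      ∀ hxy : OK Q e (x + y), eOG hxy ∈ N := fun x y hx hy h1 h1' hxy => by
    rw [show eOG hxy = eOG hx * eOG hy from ogVal_ext (by rw [ogVal_mul, eOG_val, eOG_val, eOG_val, eMat_mul hx hy])]
    exact mul_mem h1 h1'
  obtain ⟨f, hf, hef⟩ := exists_pair hQ he hk.1
  obtain ⟨hmem, hnd, hd, hproj⟩ := pairPerp_spec hQ (e := e) (f := f) ⟨hk.1, hf, hef⟩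
  set W := LinearMap.ker (QuadraticMap.polarBilin Q e) ⊓ LinearMap.ker (QuadraticMap.polarBilin Q f)
  obtain ⟨r, hr, hr0, hQr⟩ := exists_singular_in (Q := Q) (W := W) hnd (by omega)
  obtain ⟨z, hz, hrz⟩ := hnd r hr hr0
  set r' := (B r z)⁻¹ • z + (-Q ((B r z)⁻¹ • z)) • r with hr'
  have hz1 : B r ((B r z)⁻¹ • z) = 1 := by
    rw [QuadraticMap.polar_smul_right, smul_eq_mul, inv_mul_cancel₀ hrz]
  have hr'W : r' ∈ W := add_mem (W.smul_mem _ hz) (W.smul_mem _ hr)
  have hrr : B r r' = 1 := by
    rw [hr', QuadraticMap.polar_add_right, hz1, QuadraticMap.polar_smul_right, polar_self' hQr, smul_zero, add_zero]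
  have hQr' : Q r' = 0 := by rw [hr', quad_add_smul, hQr, QuadraticMap.polar_comm _ _ r, hz1]; ring
  set x := w - B f w • e - B e w • f with hx
  have hxW : x ∈ W := hproj w
  set y := x - B r' x • r - B r x • r' with hy
  have hyW : y ∈ W := sub_mem (sub_mem hxW (W.smul_mem _ hr)) (W.smul_mem _ hr'W)
  have hry : B r y = 0 := by
    rw [hy, QuadraticMap.polar_sub_right, QuadraticMap.polar_sub_right, QuadraticMap.polar_smul_right,
      QuadraticMap.polar_smul_right, polar_self' hQr, hrr]; simp
  have hr'y : B r' y = 0 := by
    rw [hy, QuadraticMap.polar_sub_right, QuadraticMap.polar_sub_right, QuadraticMap.polar_smul_right,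
      QuadraticMap.polar_smul_right, polar_self' hQr', QuadraticMap.polar_comm _ r' r, hrr]; simp
  set a := y + r + (-Q y) • r' with ha
  have hQa : Q a = 0 := by
    rw [ha, quad_add_smul, quad_add, hQr, hQr', QuadraticMap.polar_add_left, QuadraticMap.polar_comm _ y r, hry,
      QuadraticMap.polar_comm _ y r', hr'y, hrr]
    simp
  have okW : ∀ u ∈ W, OK Q e u := fun u hu => ⟨hk.1, (hmem u hu).1⟩
  have hae := okW a (add_mem (add_mem hyW hr) (W.smul_mem _ hr'W))
  have h1 : OK Q e (B f w • e) := ⟨hk.1, by rw [QuadraticMap.polar_smul_right, polar_self' hk.1, smul_zero]⟩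
  have h3 := okW ((B r' x - 1) • r) (W.smul_mem _ hr)
  have h4 := okW ((B r x + Q y) • r') (W.smul_mem _ hr'W)
  have hsum : w = B f w • e + (a + ((B r' x - 1) • r + (B r x + Q y) • r')) := by
    have hewx : w = B f w • e + x := by rw [hx, hk.2, zero_smul, sub_zero, add_sub_cancel]
    conv_lhs => rw [hewx]
    rw [ha, hy]; module
  have g34 := add _ _ h3 h4 (sing _ (by rw [QuadraticMap.map_smul, hQr, smul_zero]) h3)
    (sing _ (by rw [QuadraticMap.map_smul, hQr', smul_zero]) h4) (okW _ (add_mem (W.smul_mem _ hr) (W.smul_mem _ hr'W)))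
  have hk' : OK Q e (a + ((B r' x - 1) • r + (B r x + Q y) • r')) :=
    okW _ (add_mem (add_mem (add_mem hyW hr) (W.smul_mem _ hr'W)) (add_mem (W.smul_mem _ hr) (W.smul_mem _ hr'W)))
  have g := add _ _ h1 hk' (sing _ (by rw [QuadraticMap.map_smul, hk.1, smul_zero]) h1)
    (add _ _ hae _ (sing _ hQa hae) g34 hk') (hsum ▸ hk)
  have e1 : eOG hk = eOG (hsum ▸ hk : OK Q e (B f w • e + (a + ((B r' x - 1) • r + (B r x + Q y) • r')))) :=
    ogVal_ext (by rw [eOG_val, eOG_val, ← hsum])
  rw [e1]
  exact g

omit hQ in
theorem odd_card : Fintype.card F % 2 = 1 :=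
  FiniteField.odd_card_of_char_ne_two fun h => h2 (by haveI := ringChar.of_eq h; exact CharTwo.two_eq_zero)

/-- Reflections of one square class generate a subgroup of index two. -/
theorem refl_class_index (hn : 2 ≤ Fintype.card ι) (heven : Even (Fintype.card ι))
    (h43 : ¬ (Fintype.card ι = 4 ∧ Fintype.card F = 3)) {c : F} (hc : c ≠ 0) :
    (Subgroup.closure {g : OG | ∃ (v : ι → F) (hv : Q v ≠ 0) (t : F), t ≠ 0 ∧ Q v = c * t ^ 2 ∧
      g = OrthAut.refl hv}).index = 2 := by
  classical
  set H := Subgroup.closure {g : OG | ∃ (v : ι → F) (hv : Q v ≠ 0) (t : F), t ≠ 0 ∧ Q v = c * t ^ 2 ∧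
      g = OrthAut.refl hv}
  have hG := genQ_odd hQ h2
  have hmemH : ∀ {v : ι → F} (hv : Q v ≠ 0), sqSign (Q v) = sqSign c → OrthAut.refl hv ∈ H := by
    intro v hv hs
    obtain ⟨t, ht⟩ := isSquare_div_of_sqSign hs
    have ht' : Q v = c * t ^ 2 := by rw [sq, ← ht]; field_simp
    exact Subgroup.subset_closure ⟨v, hv, t, fun h0 => hv (by rw [ht', h0]; ring), ht', rfl⟩
  have hker : (invHom hQ hG).ker ≤ H := by
    by_cases hn2 : Fintype.card ι = 2
    · intro x hx
      rw [MonoidHom.mem_ker, invHom_apply] at hx
      obtain ⟨hd', hs'⟩ := Prod.ext_iff.1 hx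
      have hd : dick x = 1 := hd'
      have hs : spin x = 1 := hs'
      obtain ⟨v, -, hv⟩ := exists_value_in hQ h2 (nondeg_top hQ) (by rw [finrank_top, Module.finrank_pi]; omega) c
      have hv0 : Q v ≠ 0 := by rw [hv]; exact hc
      set y := OrthAut.refl hv0 * x with hy
      have hyd : (ogVal y).det = -1 := by
        rw [hy, ogVal_mul, Matrix.det_mul, refl_det, det_eq_dick_gen hQ hG x, hd]; simp
      obtain ⟨w, hw, hyw⟩ : ∃ (w : ι → F) (hw : Q w ≠ 0), y = OrthAut.refl hw := by
        have hfix : ∃ u, u ≠ 0 ∧ ogVal y *ᵥ u = u := by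
          set A := LinearMap.BilinForm.toMatrix' (QuadraticMap.polarBilin Q)
          have hA : A.det ≠ 0 := (LinearMap.BilinForm.nondegenerate_iff_det_ne_zero (Pi.basisFun F ι)).1 hQ
          have key : (ogVal y)ᵀ * A * ogVal y = A := by
            rw [← LinearMap.toMatrix'_toLin' (ogVal y), ← LinearMap.BilinForm.toMatrix'_comp]
            congr 1
            refine LinearMap.ext fun a => LinearMap.ext fun b => ?_
            simp [isometry_polar (ogVal_quad y)]
          have h3 : (ogVal y - 1).det = 0 := by
            have e : (ogVal y)ᵀ * A * (ogVal y - 1) = -((ogVal y)ᵀ - 1) * A := by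
              rw [Matrix.mul_sub, key, Matrix.mul_one, neg_sub, Matrix.sub_mul, Matrix.one_mul]
            have e' := congrArg Matrix.det e
            rw [Matrix.det_mul, Matrix.det_mul, Matrix.det_mul, Matrix.det_transpose, hyd, Matrix.det_neg, hn2,
              show (ogVal y)ᵀ - 1 = (ogVal y - 1)ᵀ by rw [Matrix.transpose_sub, Matrix.transpose_one],
              Matrix.det_transpose] at e'
            have h4 : (2 : F) * A.det * (ogVal y - 1).det = 0 := by linear_combination -e'
            exact (mul_eq_zero.1 h4).resolve_left (mul_ne_zero h2 hA)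
          obtain ⟨u, hu0, hu⟩ := Matrix.exists_mulVec_eq_zero_iff.2 h3
          exact ⟨u, hu0, by rwa [Matrix.sub_mulVec, Matrix.one_mulVec, sub_eq_zero] at hu⟩
        obtain ⟨u, hu0, hu⟩ := hfix
        have hu' : u ∈ fixSub y := mem_fixSub.2 hu
        have hne : Q u ≠ 0 := by
          intro hQu
          obtain ⟨f, hf, huf⟩ := exists_pair hQ hu0 hQu
          obtain ⟨hmem, hnd, hd', hproj⟩ := pairPerp_spec hQ (e := u) (f := f) ⟨hQu, hf, huf⟩
          set W := LinearMap.ker (QuadraticMap.polarBilin Q u) ⊓ LinearMap.ker (QuadraticMap.polarBilin Q f)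
          have hW0 : W = ⊥ := by
            by_contra hW
            obtain ⟨w, hw, hw0⟩ := Submodule.exists_mem_ne_zero_of_ne_bot hW
            have hli : LinearIndependent F ![u, f, w] := by
              rw [Fintype.linearIndependent_iff]
              intro g hg
              simp [Fin.sum_univ_three] at hg
              have a := congrArg (B u) hg
              have b := congrArg (B f) hg
              simp [QuadraticMap.polar_add_right, QuadraticMap.polar_smul_right, polar_self' hQu, polar_self' hf,
                huf, (hmem w hw).1, (hmem w hw).2, QuadraticMap.polar_comm _ f u] at a b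
              rw [a, b] at hg
              simp [hw0] at hg
              intro i; fin_cases i <;> simp_all
            have := hli.fintype_card_le_finrank
            rw [Module.finrank_pi, hn2, Fintype.card_fin] at this
            omega
          have hfix : ogVal y *ᵥ f = f := by
            have h1 : B u (ogVal y *ᵥ f) = 1 := by
              conv_lhs => rw [← hu]
              rw [isometry_polar (ogVal_quad y), huf]
            have h5 := hproj (ogVal y *ᵥ f)
            rw [hW0, Submodule.mem_bot, h1, one_smul, sub_eq_zero, sub_eq_iff_eq_add] at h5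
            have hq := ogVal_quad y f
            rw [h5, hf, quad_add, QuadraticMap.map_smul, hQu, hf, QuadraticMap.polar_smul_right, QuadraticMap.polar_comm _ f u, huf] at hq
            simp at hq
            rw [h5, hq, zero_smul, add_zero]
          have hone : ogVal y = 1 := Matrix.ext_iff_mulVec.2 fun z => by
            have h5 := hproj z
            rw [hW0, Submodule.mem_bot, sub_eq_zero, sub_eq_iff_eq_add] at h5
            rw [Matrix.one_mulVec, h5, Matrix.mulVec_add, Matrix.mulVec_smul, Matrix.mulVec_smul, hfix, hu]
          rw [hone, Matrix.det_one] at hyd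
          exact h2 (by linear_combination hyd)
        obtain ⟨w, hw0, hwu⟩ : ∃ w : ι → F, w ≠ 0 ∧ B u w = 0 := by
          have h1 := LinearMap.finrank_range_add_finrank_ker (QuadraticMap.polarBilin Q u)
          have h3 := Submodule.finrank_le (LinearMap.range (QuadraticMap.polarBilin Q u))
          rw [Module.finrank_self] at h3
          rw [Module.finrank_pi, hn2] at h1
          obtain ⟨w, hw, hw0⟩ := Submodule.exists_mem_ne_zero_of_ne_bot (p := LinearMap.ker (QuadraticMap.polarBilin Q u))
            fun hb => by rw [hb, finrank_bot] at h1; omega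
          exact ⟨w, hw0, hw⟩
        have hli : LinearIndependent F ![u, w] := by
          rw [LinearIndependent.pair_iff]
          intro s t hst
          have a := congrArg (B u) hst
          simp [QuadraticMap.polar_add_right, QuadraticMap.polar_smul_right, polar_self2, hwu, h2, hne] at a
          refine ⟨a, ?_⟩
          rw [a, zero_smul, zero_add] at hst
          exact (smul_eq_zero.1 hst).resolve_right hw0
        have hsp := hli.span_eq_top_of_card_eq_finrank (by rw [Module.finrank_pi, hn2]; rfl)
        have hall : ∀ z, ∃ s t : F, z = s • u + t • w := fun z => by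
          have : z ∈ Submodule.span F (Set.range ![u, w]) := hsp ▸ trivial
          rw [Matrix.range_cons, Matrix.range_cons, Matrix.range_empty, Set.union_empty, Set.singleton_union,
            Submodule.mem_span_pair] at this
          obtain ⟨s, t, rfl⟩ := this
          exact ⟨s, t, rfl⟩
        have hw : Q w ≠ 0 := by
          intro hQw
          refine hw0 (eq_zero_of_polar hQ fun z => ?_)
          obtain ⟨s, t, rfl⟩ := hall z
          rw [QuadraticMap.polar_add_right, QuadraticMap.polar_smul_right, QuadraticMap.polar_smul_right,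
            QuadraticMap.polar_comm _ w u, hwu, polar_self' hQw]; simp
        obtain ⟨a, k, hyw⟩ := hall (ogVal y *ᵥ w)
        have ha : a = 0 := by
          have h4 : B u (ogVal y *ᵥ w) = 0 := by
            conv_lhs => rw [← hu]
            rw [isometry_polar (ogVal_quad y), hwu]
          rw [hyw, QuadraticMap.polar_add_right, QuadraticMap.polar_smul_right, QuadraticMap.polar_smul_right, hwu,
            polar_self2] at h4
          simpa [h2, hne] using h4
        rw [ha, zero_smul, zero_add] at hyw
        have hk : k = 1 ∨ k = -1 := by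
          have := ogVal_quad y w
          rw [hyw, QuadraticMap.map_smul, smul_eq_mul] at this
          exact mul_self_eq_one_iff.1 (mul_right_cancel₀ hw (this.trans (one_mul _).symm))
        refine ⟨w, hw, ogVal_ext (Matrix.ext_iff_mulVec.2 fun z => ?_)⟩
        rcases hk with rfl | rfl
        · exfalso
          have hone : ogVal y = 1 := Matrix.ext_iff_mulVec.2 fun z => by
            obtain ⟨s, t, rfl⟩ := hall z
            rw [Matrix.one_mulVec, Matrix.mulVec_add, Matrix.mulVec_smul, Matrix.mulVec_smul, hu, hyw, one_smul]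
          rw [hone, Matrix.det_one] at hyd
          exact h2 (by linear_combination hyd)
        · obtain ⟨s, t, rfl⟩ := hall z
          rw [refl_apply, Matrix.mulVec_add, Matrix.mulVec_smul, Matrix.mulVec_smul, hu, hyw,
            QuadraticMap.polar_add_right, QuadraticMap.polar_smul_right, QuadraticMap.polar_smul_right,
            QuadraticMap.polar_comm _ w u, hwu, polar_self2]
          match_scalars <;> field_simp <;> ring
      have hsw : sqSign (Q w) = sqSign c := by
        have h3 : spin y = spin (OrthAut.refl hv0) * spin x := by rw [hy, spin_mul hQ]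
        rw [hyw, spin_refl hQ hw, spin_refl hQ hv0, hv, hs, mul_one] at h3
        exact h3
      rw [show x = OrthAut.refl hv0 * y by rw [hy, ← mul_assoc, refl_mul_self, one_mul], hyw]
      exact mul_mem (hmemH hv0 (by rw [hv])) (hmemH hw hsw)
    rw [← omega_eq_ker hQ hG]
    have hn4 : 4 ≤ Fintype.card ι := by obtain ⟨j, hj⟩ := heven; omega
    rw [omega_eq_eR hQ h2 hn4 (exists_singular_three hQ h2 (by omega))]
    refine (Subgroup.closure_le _).2 ?_
    rintro g ⟨e, w, hk, hg⟩
    obtain rfl : g = eOG hk := ogVal_ext hg
    by_cases he : e = 0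
    · have h1 : eOG hk = 1 := ogVal_ext (by
        rw [eOG_val, he, show (0 : ι → F) = (0 : F) • (0 : ι → F) by simp, eMat_smul_left, zero_smul, eMat_zero,
          ogVal_one])
      rw [h1]; exact one_mem _
    obtain ⟨f, hf, hef⟩ := exists_pair hQ he hk.1
    obtain ⟨hmem, hnd, hd, hproj⟩ := pairPerp_spec hQ (e := e) (f := f) ⟨hk.1, hf, hef⟩
    set W := LinearMap.ker (QuadraticMap.polarBilin Q e) ⊓ LinearMap.ker (QuadraticMap.polarBilin Q f)
    let U : Submodule F (ι → F) := Submodule.span F {x | x ∈ W ∧ ∃ t : F, t ≠ 0 ∧ Q x = c * t ^ 2}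
    have hU : ∀ u ∈ U, ∀ (a : F) (h : OK Q e (u + a • e)), eOG h ∈ H := by
      have cls : ∀ u ∈ W, (∃ t : F, t ≠ 0 ∧ Q u = c * t ^ 2) → ∀ (r a : F) (h : OK Q e (r • u + a • e)), r ≠ 0 →
          eOG h ∈ H := by
        rintro u hu ⟨t, ht, hQu⟩ r a h hr
        have hq : Q (r • u + a • e) = c * (r * t) ^ 2 := by
          rw [quad_add_smul, QuadraticMap.map_smul, hQu, hk.1, QuadraticMap.polar_smul_left,
            QuadraticMap.polar_comm _ u e, (hmem u hu).1]
          simp; ring
        have hne : Q (r • u + a • e) ≠ 0 := by
          rw [hq]; exact mul_ne_zero hc (pow_ne_zero _ (mul_ne_zero hr ht))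
        obtain ⟨s, hs, hqs, e1⟩ := eOG_eq_refl hQ h hne
        rw [e1]
        exact mul_mem (Subgroup.subset_closure ⟨_, hne, r * t, mul_ne_zero hr ht, hq, rfl⟩)
          (Subgroup.subset_closure ⟨_, hs, r * t, mul_ne_zero hr ht, hqs.trans hq, rfl⟩)
      have okU : ∀ u ∈ U, B e u = 0 := fun u hu => by
        have : U ≤ LinearMap.ker (QuadraticMap.polarBilin Q e) := Submodule.span_le.2 fun x hx => hx.1.1
        exact this hu
      obtain ⟨v, hv, hQv⟩ := exists_value_in hQ h2 hnd (by omega) c
      have hzero : ∀ (a : F) (h : OK Q e (a • e)), eOG h ∈ H := fun a h => by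
        have k1 : OK Q e ((1 : F) • v + a • e) := ⟨hk.1, by
          rw [QuadraticMap.polar_add_right, QuadraticMap.polar_smul_right, QuadraticMap.polar_smul_right,
            (hmem v hv).1, polar_self' hk.1]; simp⟩
        have k2 : OK Q e ((-1 : F) • v + (0 : F) • e) := ⟨hk.1, by
          rw [QuadraticMap.polar_add_right, QuadraticMap.polar_smul_right, QuadraticMap.polar_smul_right,
            (hmem v hv).1, polar_self' hk.1]; simp⟩
        rw [show eOG h = eOG k1 * eOG k2 from ogVal_ext (by
          rw [ogVal_mul, eOG_val, eOG_val, eOG_val, eMat_mul k1 k2]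
          congr 1
          module)]
        exact mul_mem (cls v hv ⟨1, one_ne_zero, by rw [hQv]; ring⟩ 1 a k1 one_ne_zero)
          (cls v hv ⟨1, one_ne_zero, by rw [hQv]; ring⟩ (-1) 0 k2 (neg_ne_zero.2 one_ne_zero))
      intro u hu a h
      have h1 : OK Q e ((1 : F) • u + a • e) := by simpa using h
      rw [show eOG h = eOG h1 from ogVal_ext (by rw [eOG_val, eOG_val, one_smul])]
      refine Submodule.span_induction (p := fun u _ => ∀ (r a : F) (h : OK Q e (r • u + a • e)), eOG h ∈ H)
        ?_ ?_ ?_ ?_ hu 1 a h1
      · intro x hx r a h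
        by_cases hr : r = 0
        · subst hr
          have h' : OK Q e (a • e) := by simpa using h
          rw [show eOG h = eOG h' from ogVal_ext (by rw [eOG_val, eOG_val, zero_smul, zero_add])]
          exact hzero a h'
        · exact cls x hx.1 hx.2 r a h hr
      · intro r a h
        have h' : OK Q e (a • e) := by simpa using h
        rw [show eOG h = eOG h' from ogVal_ext (by rw [eOG_val, eOG_val, smul_zero, zero_add])]
        exact hzero a h'
      · intro x y hx hy ihx ihy r a h
        have k1 : OK Q e (r • x + a • e) := ⟨hk.1, by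
          rw [QuadraticMap.polar_add_right, QuadraticMap.polar_smul_right, QuadraticMap.polar_smul_right, okU x hx,
            polar_self' hk.1]; simp⟩
        have k2 : OK Q e (r • y + (0 : F) • e) := ⟨hk.1, by
          rw [QuadraticMap.polar_add_right, QuadraticMap.polar_smul_right, QuadraticMap.polar_smul_right, okU y hy,
            polar_self' hk.1]; simp⟩
        rw [show eOG h = eOG k1 * eOG k2 from ogVal_ext (by
          rw [ogVal_mul, eOG_val, eOG_val, eOG_val, eMat_mul k1 k2]
          congr 1
          module)]
        exact mul_mem (ihx r a k1) (ihy r 0 k2)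
      · intro s x hx ih r a h
        have h' : OK Q e ((r * s) • x + a • e) := by simpa [smul_smul] using h
        rw [show eOG h = eOG h' from ogVal_ext (by rw [eOG_val, eOG_val, smul_smul])]
        exact ih (r * s) a h'
    have hWU : W ≤ U := by
      obtain ⟨v, hv, hQv⟩ := exists_value_in hQ h2 hnd (by omega) c
      have hvU : v ∈ U := Submodule.subset_span ⟨hv, 1, one_ne_zero, by rw [hQv]; ring⟩
      have hvv : B v v ≠ 0 := by rw [polar_self2, hQv]; exact mul_ne_zero h2 hc
      have aniso : ∀ y ∈ W, B v y = 0 → Q y ≠ 0 → y ∈ U := by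
        intro y hy hvy hQy
        by_contra hyU_not
        refine hyU_not ?_
        suffices ∃ s t r : F, t ≠ 0 ∧ r ≠ 0 ∧ s ^ 2 * c + t ^ 2 * Q y = c * r ^ 2 by
          obtain ⟨s, t, r, ht, hr, h⟩ := this
          have h1 : s • v + t • y ∈ U := Submodule.subset_span ⟨add_mem (W.smul_mem _ hv) (W.smul_mem _ hy), r, hr, by
            rw [quad_add, QuadraticMap.map_smul, QuadraticMap.map_smul, hQv, QuadraticMap.polar_smul_left,
              QuadraticMap.polar_smul_right, hvy]
            simp only [smul_eq_mul]; linear_combination h⟩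
          have h3 : t • y ∈ U := by
            have := sub_mem h1 (U.smul_mem s hvU); rwa [add_sub_cancel_left] at this
          have := U.smul_mem t⁻¹ h3
          rwa [inv_smul_smul₀ ht] at this
        by_cases hk' : Q y = c
        · exact ⟨0, 1, 1, one_ne_zero, one_ne_zero, by rw [hk']; ring⟩
        by_cases h5 : 5 ≤ Fintype.card F
        · -- a parametrised conic
          obtain ⟨r, hr0, hr⟩ : ∃ r : F, r ≠ 0 ∧ c + Q y * r ^ 2 ≠ 0 := by
            by_contra hh
            push Not at hh
            have sub : (Finset.univ.erase (0 : F)) ⊆ ({1, -1} : Finset F) := fun r hr => by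
              have hr' := Finset.ne_of_mem_erase hr
              have a1 := hh 1 one_ne_zero
              have a2 := hh r hr'
              have h7 : r * r = 1 := mul_left_cancel₀ hQy (by linear_combination a2 - a1)
              simp only [Finset.mem_insert, Finset.mem_singleton]
              exact mul_self_eq_one_iff.1 h7
            have h6 := (Finset.card_le_card sub).trans Finset.card_le_two
            rw [Finset.card_erase_of_mem (Finset.mem_univ _), Finset.card_univ] at h6
            omega
          exact ⟨(c - Q y * r ^ 2) / (c + Q y * r ^ 2), 2 * c * r / (c + Q y * r ^ 2), 1,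
            div_ne_zero (mul_ne_zero (mul_ne_zero h2 hc) hr0) hr, one_ne_zero, by field_simp; ring⟩
        · exfalso
          have h3 : Fintype.card F = 3 := by
            have := Fintype.one_lt_card (α := F); have := odd_card (F := F) h2; omega
          have hd4 : 4 ≤ finrank F W := by
            have : Fintype.card ι ≠ 4 := fun h => h43 ⟨h, h3⟩
            obtain ⟨j, hj⟩ := heven; omega
          have h3' : ∀ a : F, a ≠ 0 → a = 1 ∨ a = -1 := fun a ha => mul_self_eq_one_iff.1 (by
            have := FiniteField.pow_card_sub_one_eq_one a ha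
            rw [h3] at this; simpa [sq] using this)
          have hneg : Q y = -c := by
            rcases h3' (Q y / c) (div_ne_zero hQy hc) with h | h <;> rw [div_eq_iff hc] at h
            · exact absurd (h.trans (one_mul c)) hk'
            · rw [h, neg_one_mul]
          set W' := W ⊓ (LinearMap.ker (QuadraticMap.polarBilin Q v) ⊓ LinearMap.ker (QuadraticMap.polarBilin Q y))
          have hp : ∀ x ∈ W, x - (B v x / B v v) • v - (B y x / B y y) • y ∈ W' := fun x hx => by
            have hyy : B y y ≠ 0 := by rw [polar_self2]; exact mul_ne_zero h2 hQy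
            refine ⟨sub_mem (sub_mem hx (W.smul_mem _ hv)) (W.smul_mem _ hy), ?_, ?_⟩
            · show B v _ = 0
              rw [QuadraticMap.polar_sub_right, QuadraticMap.polar_sub_right, QuadraticMap.polar_smul_right,
                QuadraticMap.polar_smul_right, hvy, smul_zero, sub_zero, smul_eq_mul, div_mul_cancel₀ _ hvv, sub_self]
            · show B y _ = 0
              rw [QuadraticMap.polar_sub_right, QuadraticMap.polar_sub_right, QuadraticMap.polar_smul_right,
                QuadraticMap.polar_smul_right, QuadraticMap.polar_comm _ y v, hvy, smul_zero, sub_zero, smul_eq_mul,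
                div_mul_cancel₀ _ hyy, sub_self]
          have hnd' : ∀ x ∈ W', x ≠ 0 → ∃ z ∈ W', B x z ≠ 0 := by
            intro x hx hx0
            obtain ⟨z, hz, hxz⟩ := hnd x hx.1 hx0
            refine ⟨_, hp z hz, ?_⟩
            have a1 : B x v = 0 := by rw [QuadraticMap.polar_comm]; exact hx.2.1
            have a2 : B x y = 0 := by rw [QuadraticMap.polar_comm]; exact hx.2.2
            rw [QuadraticMap.polar_sub_right, QuadraticMap.polar_sub_right, QuadraticMap.polar_smul_right,
              QuadraticMap.polar_smul_right, a1, a2]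
            simpa using hxz
          have hd2 : 2 ≤ finrank F W' := by
            have h1 := Submodule.finrank_sup_add_finrank_inf_eq W
              (LinearMap.ker (QuadraticMap.polarBilin Q v) ⊓ LinearMap.ker (QuadraticMap.polarBilin Q y))
            have hle := Submodule.finrank_le (W ⊔ (LinearMap.ker (QuadraticMap.polarBilin Q v) ⊓
              LinearMap.ker (QuadraticMap.polarBilin Q y)))
            have h5 := LinearMap.finrank_range_add_finrank_ker
              ((QuadraticMap.polarBilin Q v).prod (QuadraticMap.polarBilin Q y))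
            have h6 := Submodule.finrank_le
              (LinearMap.range ((QuadraticMap.polarBilin Q v).prod (QuadraticMap.polarBilin Q y)))
            rw [Module.finrank_prod, Module.finrank_self] at h6
            rw [LinearMap.ker_prod, Module.finrank_pi] at h5
            rw [Module.finrank_pi] at hle
            change finrank F W' ≥ 2
            change _ + finrank F W' = _ at h1
            omega
          obtain ⟨z, hz, hQz⟩ := exists_value_in hQ h2 hnd' hd2 c
          have hbad := hk'
          have h1 : y + z + v ∈ U := Submodule.subset_span ⟨add_mem (add_mem hy hz.1) hv, 1, one_ne_zero, by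
            rw [quad_add, quad_add, hneg, hQz, hQv, QuadraticMap.polar_add_left,
              show B y z = 0 from hz.2.2, QuadraticMap.polar_comm _ y v, hvy, QuadraticMap.polar_comm _ z v,
              show B v z = 0 from hz.2.1]
            ring⟩
          have hzU : z ∈ U := Submodule.subset_span ⟨hz.1, 1, one_ne_zero, by rw [hQz]; ring⟩
          have hyU : y ∈ U := by
            have := sub_mem (sub_mem h1 hvU) hzU
            rwa [show y + z + v - v - z = y by module] at this
          exact hyU_not hyU
      intro x hx
      set x' := x - (B v x / B v v) • v with hx'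
      have hx'W : x' ∈ W := sub_mem hx (W.smul_mem _ hv)
      have hvx' : B v x' = 0 := by
        rw [hx', QuadraticMap.polar_sub_right, QuadraticMap.polar_smul_right, smul_eq_mul, div_mul_cancel₀ _ hvv,
          sub_self]
      have hx'U : x' ∈ U := by
        by_cases h0 : x' = 0
        · rw [h0]; exact zero_mem _
        by_cases hq : Q x' ≠ 0
        · exact aniso x' hx'W hvx' hq
        push Not at hq
        obtain ⟨z, hz, hxz⟩ := hnd x' hx'W h0
        set z' := z - (B v z / B v v) • v with hz'
        have hz'W : z' ∈ W := sub_mem hz (W.smul_mem _ hv)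
        have hvz' : B v z' = 0 := by
          rw [hz', QuadraticMap.polar_sub_right, QuadraticMap.polar_smul_right, smul_eq_mul, div_mul_cancel₀ _ hvv,
            sub_self]
        have hxz' : B x' z' ≠ 0 := by
          rw [hz', QuadraticMap.polar_sub_right, QuadraticMap.polar_smul_right, QuadraticMap.polar_comm _ x' v, hvx',
            smul_zero, sub_zero]
          exact hxz
        by_cases hzq : Q z' = 0
        · have a1 := aniso (x' + z') (add_mem hx'W hz'W) (by rw [QuadraticMap.polar_add_right, hvx', hvz', add_zero])
            (by rw [quad_add, hq, hzq, zero_add, zero_add]; exact hxz')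
          have a2 := aniso (x' + (-1 : F) • z') (add_mem hx'W (W.smul_mem _ hz'W))
            (by rw [QuadraticMap.polar_add_right, QuadraticMap.polar_smul_right, hvx', hvz', smul_zero, add_zero])
            (by rw [quad_add_smul, hq, hzq]; simpa using hxz')
          have := U.smul_mem (2 : F)⁻¹ (add_mem a1 a2)
          rwa [show x' + z' + (x' + (-1 : F) • z') = (2 : F) • x' by module, inv_smul_smul₀ h2] at this
        · have hzU := aniso z' hz'W hvz' hzq
          have key : ∀ s : F, s ≠ 0 → B x' z' + s * Q z' ≠ 0 → x' ∈ U := fun s hs hne => by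
            have a1 := aniso (x' + s • z') (add_mem hx'W (W.smul_mem _ hz'W))
              (by rw [QuadraticMap.polar_add_right, QuadraticMap.polar_smul_right, hvx', hvz', smul_zero, add_zero])
              (by rw [quad_add_smul, hq]
                  intro h
                  exact hne ((mul_eq_zero.1 (show s * (B x' z' + s * Q z') = 0 by linear_combination h)).resolve_left hs))
            have := sub_mem a1 (U.smul_mem s hzU)
            rwa [add_sub_cancel_right] at this
          by_cases hs1 : B x' z' + 1 * Q z' = 0
          · refine key (-1) (neg_ne_zero.2 one_ne_zero) fun h => hxz' ?_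
            exact (mul_eq_zero.1 (show (2 : F) * B x' z' = 0 by linear_combination h + hs1)).resolve_left h2
          · exact key 1 one_ne_zero hs1
      have := add_mem hx'U (U.smul_mem (B v x / B v v) hvU)
      rwa [hx', sub_add_cancel] at this
    have hw : w = (w - B f w • e - B e w • f) + B f w • e := by rw [hk.2]; module
    have h' : OK Q e ((w - B f w • e - B e w • f) + B f w • e) := hw ▸ hk
    rw [show eOG hk = eOG h' from ogVal_ext (by rw [eOG_val, eOG_val, ← hw])]
    exact hU _ (hWU (hproj w)) _ h'
  -- the index
  have hHeq : H = (Subgroup.zpowers ((-1 : ℤˣ), sqSign c)).comap (invHom hQ hG) := by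
    refine le_antisymm ((Subgroup.closure_le _).2 ?_) fun g hg => ?_
    · rintro _ ⟨v, hv, t, ht, hQv, rfl⟩
      rw [SetLike.mem_coe, Subgroup.mem_comap, invHom_refl, hQv, sqSign_mul hc (pow_ne_zero _ ht),
        sqSign_of_isSquare ⟨t, sq t⟩, mul_one]
      exact Subgroup.mem_zpowers _
    · obtain ⟨v, -, hv⟩ := exists_value_in hQ h2 (nondeg_top hQ) (by rw [finrank_top, Module.finrank_pi]; omega) c
      have hv0 : Q v ≠ 0 := by rw [hv]; exact hc
      have hr : OrthAut.refl hv0 ∈ H := hmemH hv0 (by rw [hv])
      obtain ⟨i, hi⟩ := Subgroup.mem_zpowers_iff.1 hg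
      have : g * (OrthAut.refl hv0 ^ i)⁻¹ ∈ H := hker (MonoidHom.mem_ker.2 (by
        rw [map_mul, map_inv, map_zpow, invHom_refl, hv, hi, mul_inv_cancel]))
      have := mul_mem this (Subgroup.zpow_mem _ hr i)
      rwa [inv_mul_cancel_right] at this
  rw [hHeq, Subgroup.index_comap_of_surjective _ (invHom_surjective hQ hG h2 hn)]
  rcases Int.units_eq_one_or (sqSign c) with e | e <;> rw [e]
  all_goals
    have h := Subgroup.card_mul_index (Subgroup.zpowers ((-1 : ℤˣ), sqSign c))
    rw [e, Nat.card_zpowers, Nat.card_prod, Nat.card_eq_fintype_card] at h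
    rw [orderOf_eq_prime (p := 2) (by decide) (by decide)] at h
    simp at h
    omega

end Cfsg.Agent.Classical.OrthAut
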