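import Cfsg.Agent.Lib.Classical.AschEvenType
import Cfsg.Agent.Lib.Classical.OrthSingularCount

/-!
The elliptic space as a field extension: multiplication by a norm-one element is an isometry whose
square generates the field as a ring.
-/

set_option autoImplicit false
set_option linter.unusedSectionVars false

namespace Cfsg.Agent.Classical.OrthTwoGen

open Module Polynomial

/-- An element whose order exceeds half of `Q + 1` generates the field of `Q²` elements as a ring. -/
theorem closure_eq_top {K : Type*} [Field K] [Finite K] {Q : ℕ} (hQ : Nat.card K = Q ^ 2) {x : K} (hx : x ≠ 0)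
    (hd : 3 ≤ orderOf x) (hdvd : orderOf x ∣ Q + 1) (hbig : Q + 1 ≤ 2 * orderOf x) :
    Subring.closure ({x} : Set K) = ⊤ := by
  classical
  haveI := Fintype.ofFinite K
  set S := Subring.closure ({x} : Set K)
  haveI : Fintype S := Fintype.ofFinite S
  letI : Field S := Fintype.fieldOfDomain S
  set s := Nat.card S with hs
  set o := Module.finrank S K with ho
  have hcard : Nat.card K = s ^ o := Module.natCard_eq_pow_finrank
  have h1 : o ≠ 0 := Module.finrank_pos.ne'
  have hs2 : 2 ≤ s := Finite.one_lt_card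
  have hds : orderOf x ∣ s - 1 := by
    let y : S := ⟨x, Subring.subset_closure rfl⟩
    have hy : y ≠ 0 := fun h => hx (congrArg Subtype.val h)
    have h2 := FiniteField.pow_card_sub_one_eq_one y hy
    rw [← Nat.card_eq_fintype_card, ← hs] at h2
    refine orderOf_dvd_of_pow_eq_one ?_
    have h3 := congrArg Subtype.val h2
    simpa using h3
  have hsd : orderOf x + 1 ≤ s := by
    have := Nat.le_of_dvd (by omega) hds
    omega
  rcases Nat.even_or_odd o with ⟨r, hr⟩ | ho'
  · exfalso
    have hQs : Q = s ^ r := by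
      have : Q ^ 2 = (s ^ r) ^ 2 := by rw [← hQ, hcard, hr, ← pow_mul]; ring_nf
      exact Nat.pow_left_injective (by norm_num) this
    have h2 : s - 1 ∣ Q - 1 := by rw [hQs]; exact Nat.sub_one_dvd_pow_sub_one s r
    have h3 := Nat.dvd_sub hdvd (hds.trans h2)
    have hQ1 : 1 ≤ Q := by rw [hQs]; exact Nat.one_le_pow _ _ (by omega)
    rw [show Q + 1 - (Q - 1) = 2 by omega] at h3
    have := Nat.le_of_dvd (by norm_num) h3
    omega
  · by_cases ho1 : o = 1
    · refine eq_top_iff.2 fun y _ => ?_
      have hsK : Nat.card S = Nat.card K := by rw [hcard, ho1, pow_one]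
      have hbij : Function.Bijective (Subtype.val : S → K) :=
        ((Fintype.bijective_iff_injective_and_card _).2 ⟨Subtype.val_injective, by
          rw [← Nat.card_eq_fintype_card, ← Nat.card_eq_fintype_card]; exact hsK⟩)
      obtain ⟨z, rfl⟩ := hbij.2 y
      exact z.2
    · exfalso
      have ho3 : 3 ≤ o := by obtain ⟨r, hr⟩ := ho'; omega
      have h2 : s ^ 3 ≤ Q ^ 2 := by rw [← hQ, hcard]; exact Nat.pow_le_pow_right (by omega) ho3
      have h3 : Q + 3 ≤ 2 * s := by omega
      have h4 : 4 * (s * s) ≤ s ^ 3 := by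
        rw [pow_succ, pow_two, mul_comm 4]; exact Nat.mul_le_mul_left _ (by omega)
      have h5 : Q ^ 2 < 4 * (s * s) := by
        rw [pow_two, show 4 * (s * s) = (2 * s) * (2 * s) by ring]
        exact Nat.mul_lt_mul'' (by omega) (by omega)
      omega

section Model

variable {F : Type*} [Field F] [Fintype F]
variable {K₀ K : Type} [Field K₀] [Field K] [Algebra F K₀] [Algebra K₀ K] [Algebra F K] [IsScalarTower F K₀ K]
  [FiniteDimensional F K₀] [FiniteDimensional K₀ K] [Finite K₀] [Finite K]

variable (F K₀ K) in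
/-- The trace of the norm. -/
noncomputable def trNorm (x : K) : F := Algebra.trace F K₀ (Algebra.norm K₀ x)

variable (h2 : finrank K₀ K = 2)
include h2

theorem norm_add (x y : K) : Algebra.norm K₀ (x + y) =
    Algebra.norm K₀ x + Algebra.norm K₀ y + Algebra.trace K₀ K (x * y ^ Nat.card K₀) := by
  haveI := Fintype.ofFinite K₀
  apply (algebraMap K₀ K).injective
  simp only [map_add, FiniteField.algebraMap_norm_eq_pow_sum, FiniteField.algebraMap_trace_eq_sum_pow, h2,
    Finset.sum_range_succ, Finset.sum_range_zero, zero_add, pow_zero, pow_one]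
  have hadd : (x + y) ^ Nat.card K₀ = x ^ Nat.card K₀ + y ^ Nat.card K₀ := by
    have h := map_add (FiniteField.frobeniusAlgEquivOfAlgebraic K₀ K) x y
    simp only [FiniteField.coe_frobeniusAlgEquivOfAlgebraic] at h
    rw [Nat.card_eq_fintype_card]
    exact h
  have hinv : (y ^ Nat.card K₀) ^ Nat.card K₀ = y := by
    haveI := Fintype.ofFinite K
    rw [← pow_mul, ← pow_two, show Nat.card K₀ ^ 2 = Fintype.card K from by
      rw [← Nat.card_eq_fintype_card, Module.natCard_eq_pow_finrank (K := K₀) (V := K), h2], FiniteField.pow_card]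
  rw [mul_pow, hinv, pow_add, pow_add, pow_add, pow_one, pow_one, pow_one, hadd]
  ring

theorem exists_form : ∃ Q : QuadraticForm F K, (∀ x, Q x = trNorm F K₀ K x) ∧
    ∀ x y, QuadraticMap.polar ⇑Q x y = Algebra.trace F K (x * y ^ Nat.card K₀) := by
  have hp : ∀ x y : K, QuadraticMap.polar (trNorm F K₀ K) x y = Algebra.trace F K (x * y ^ Nat.card K₀) := by
    intro x y
    rw [QuadraticMap.polar, trNorm, trNorm, trNorm, norm_add h2, map_add, map_add, Algebra.trace_trace]
    abel
  refine ⟨QuadraticMap.ofPolar (trNorm F K₀ K) (fun c x => ?_) (fun x x' y => ?_) (fun c x y => ?_),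
    fun x => rfl, hp⟩
  · rw [trNorm, trNorm, ← algebraMap_smul K₀ c x, Algebra.smul_def (algebraMap F K₀ c) x, map_mul,
      Algebra.norm_algebraMap, h2, pow_two, ← map_mul, ← Algebra.smul_def, map_smul]
  · simp only [hp, add_mul, map_add]
  · simp only [hp, smul_mul_assoc, map_smul]

end Model

/-- The elliptic form of dimension `2(j + 1)` carries a multiplication by a norm-one element. -/
theorem exists_field_model {F : Type*} [Field F] [Fintype F] (j : ℕ) {a b : F} (hab : OrthAut.Aniso F a b) :
    ∃ (K : Type) (_ : Field K) (_ : Algebra F K) (φ : K ≃ₗ[F] ((Fin j ⊕ Fin j) ⊕ Fin 2 → F)) (l : K),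
      l ≠ 0 ∧ (∀ x, qfMinus j F a b (φ (l * x)) = qfMinus j F a b (φ x)) ∧
      (∀ t, ∃ x, qfMinus j F a b (φ x) = t) ∧
      (4 ≤ Fintype.card F ^ (j + 1) → Subring.closure ({l ^ 2} : Set K) = ⊤ ∧ l ^ 2 ≠ 1) ∧
      (Fintype.card F ^ (j + 1) = 3 → l ^ 2 = -1) := by
  classical
  obtain ⟨p, hch⟩ := CharP.exists F
  haveI := hch
  haveI : Fact p.Prime := ⟨CharP.char_is_prime F p⟩
  let K₀ := FiniteField.Extension F p (j + 1)
  haveI : CharP K₀ p := charP_of_injective_algebraMap (algebraMap F K₀).injective p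
  let K := FiniteField.Extension K₀ p 2
  letI : Algebra F K := ((algebraMap K₀ K).comp (algebraMap F K₀)).toAlgebra
  haveI : IsScalarTower F K₀ K := IsScalarTower.of_algebraMap_eq fun x => rfl
  haveI : FiniteDimensional F K := Module.Finite.of_finite
  haveI := Fintype.ofFinite K
  haveI := Fintype.ofFinite K₀
  set q := Fintype.card F
  set Q := Nat.card K₀ with hQ
  have h2 : finrank K₀ K = 2 := FiniteField.finrank_extension K₀ p 2
  have hk : finrank F K₀ = j + 1 := FiniteField.finrank_extension F p (j + 1)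
  have hQq : Q = q ^ (j + 1) := by rw [hQ, FiniteField.natCard_extension, Nat.card_eq_fintype_card]
  have hKc : Nat.card K = Q ^ 2 := by rw [FiniteField.natCard_extension]
  have hdim : finrank F K = 2 * (j + 1) := by rw [← Module.finrank_mul_finrank F K₀ K, h2, hk, mul_comm]
  obtain ⟨Q₁, hQ₁, hpol⟩ := exists_form (F := F) (K₀ := K₀) (K := K) h2
  have hQ2 : 2 ≤ Q := Finite.one_lt_card
  have hQ0 : Q ≠ 0 := by omega
  have hnd : (QuadraticMap.polarBilin Q₁).Nondegenerate := by
    refine nondegenerate_of_separatingLeft _ fun x hx => ?_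
    refine (traceForm_nondegenerate F K).1 x fun y => ?_
    have hinv : (y ^ Q) ^ Q = y := by
      rw [← pow_mul, ← pow_two, ← hKc, Nat.card_eq_fintype_card, FiniteField.pow_card]
    have h := hx (y ^ Q)
    rw [QuadraticMap.polarBilin_apply_apply, hpol, hinv] at h
    rw [Algebra.traceForm_apply]
    exact h
  have hnpow : ∀ x : K, algebraMap K₀ K (Algebra.norm K₀ x) = x ^ (Q + 1) := fun x => by
    rw [FiniteField.algebraMap_norm_eq_pow_sum, h2, Finset.sum_range_succ, Finset.sum_range_one, pow_zero,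
      pow_one]
    exact congrArg (x ^ ·) (Nat.add_comm 1 _)
  -- few singular vectors
  have hnp : ¬ EvenType.Plus Q₁ := by
    intro hp
    have hz := (OrthSingularCount.zeros_even hdim Q₁ hnd).1 hp
    set H := LinearMap.ker (Algebra.trace F K₀)
    have hH : Nat.card H * q = Q := by
      have h1 := (Algebra.trace F K₀).finrank_range_add_finrank_ker
      rw [LinearMap.range_eq_top.2 (Algebra.trace_surjective F K₀), finrank_top, Module.finrank_self, hk] at h1
      have h3 : finrank F H = j := Nat.add_left_cancel (h1.trans (Nat.add_comm j 1))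
      rw [Module.natCard_eq_pow_finrank (K := F), Nat.card_eq_fintype_card, h3, hQq, pow_succ]
    set Z := Finset.univ.filter fun x : K => Q₁ x = 0
    have hZc : Nat.card {x // Q₁ x = 0} = Z.card := by
      rw [Nat.card_eq_fintype_card, Fintype.card_subtype]
    set T := (Finset.univ.filter fun y : K₀ => Algebra.trace F K₀ y = 0).erase 0
    have hT : T.card + 1 = Nat.card H := by
      rw [Finset.card_erase_add_one (by simp), Nat.card_eq_fintype_card, ← Fintype.card_subtype]
      exact Fintype.card_congr (Equiv.subtypeEquivRight fun y => LinearMap.mem_ker.symm)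
    have hle : (Z.erase 0).card ≤ (Q + 1) * T.card := by
      refine Finset.card_le_mul_card_image_of_maps_to (f := fun x => Algebra.norm K₀ x) (fun x hx => ?_) _
        (fun y hy => ?_)
      · simp only [Z, T, Finset.mem_erase, Finset.mem_filter, Finset.mem_univ, true_and] at hx ⊢
        exact ⟨Algebra.norm_ne_zero_iff.2 hx.1, (hQ₁ x).symm.trans hx.2⟩
      · have hsub : ((Z.erase 0).filter fun x => Algebra.norm K₀ x = y) ⊆
            ((X : K[X]) ^ (Q + 1) - C (algebraMap K₀ K y)).roots.toFinset := fun x hx => by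
          rw [Finset.mem_filter] at hx
          rw [Multiset.mem_toFinset, mem_roots (X_pow_sub_C_ne_zero (by omega) _)]
          simp [IsRoot, ← hnpow, hx.2]
        refine (Finset.card_le_card hsub).trans ((Multiset.toFinset_card_le _).trans ?_)
        refine (card_roots' _).trans ?_
        rw [natDegree_X_pow_sub_C]
    have hZ0 : (Z.erase 0).card + 1 = Z.card := Finset.card_erase_add_one (by simp [Z])
    rw [hZc, ← hZ0] at hz
    push_cast at hz
    have hH' : (Nat.card H : ℤ) = (q : ℤ) ^ j := by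
      have : Nat.card H = q ^ j := Nat.eq_of_mul_eq_mul_right Fintype.card_pos (by rw [hH, hQq, pow_succ])
      exact_mod_cast this
    have hT' : (T.card : ℤ) = (q : ℤ) ^ j - 1 := by rw [← hH', ← hT]; push_cast; ring
    have hle' : ((Z.erase 0).card : ℤ) ≤ ((q : ℤ) ^ (j + 1) + 1) * ((q : ℤ) ^ j - 1) := by
      rw [← hT', show (q : ℤ) ^ (j + 1) = (Q : ℤ) from by rw [hQq]; push_cast; rfl]
      exact_mod_cast hle
    have hlt : (q : ℤ) ^ j < (q : ℤ) ^ (j + 1) :=
      pow_lt_pow_right₀ (by exact_mod_cast Fintype.one_lt_card) (by omega)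
    nlinarith
  have hfin : finrank F ((Fin j ⊕ Fin j) ⊕ Fin 2 → F) = 2 * (j + 1) := by
    rw [Module.finrank_pi, OrthAut.card_iota]
  obtain ⟨φ, hφ⟩ := EvenType.iso_of_type hnd (nondegenerate_qfMinus j hab) hdim hfin
    (iff_of_false hnp fun ⟨U, hU, hd⟩ => by
      have := singular_finrank_le_minus j hab U hU
      rw [hfin] at hd
      omega)
  obtain ⟨g, hg⟩ := IsCyclic.exists_generator (α := Kˣ)
  have hgord : orderOf g = (Q - 1) * (Q + 1) := by
    rw [orderOf_eq_card_of_forall_mem_zpowers hg, Nat.card_units, hKc]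
    have h := Nat.sq_sub_sq Q 1
    rw [one_pow] at h
    rw [h, mul_comm]
  set u := g ^ (Q - 1)
  have hu : orderOf u = Q + 1 := by
    rw [orderOf_pow_of_dvd (by omega) (by rw [hgord]; exact dvd_mul_right _ _), hgord,
      Nat.mul_div_cancel_left _ (by omega)]
  have hl1 : (u : K) ^ (Q + 1) = 1 := by rw [← Units.val_pow_eq_pow_val, ← hu, pow_orderOf_eq_one, Units.val_one]
  have hord : orderOf ((u : K) ^ 2) = (Q + 1) / Nat.gcd (Q + 1) 2 := by
    rw [orderOf_pow' (u : K) two_ne_zero, orderOf_units, hu]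
  refine ⟨K, inferInstance, inferInstance, φ, (u : K), u.ne_zero, fun x => ?_, fun t => ?_, fun hbig => ?_,
    fun h3 => ?_⟩
  · rw [hφ, hφ, hQ₁, hQ₁, trNorm, trNorm, map_mul]
    have h1 : Algebra.norm K₀ (u : K) = 1 := (algebraMap K₀ K).injective (by rw [hnpow, hl1, map_one])
    rw [h1, one_mul]
  · obtain ⟨y, hy⟩ := Algebra.trace_surjective F K₀ t
    obtain ⟨x, hx⟩ := FiniteField.norm_surjective K₀ K y
    exact ⟨x, by rw [hφ, hQ₁, trNorm, hx, hy]⟩
  · rw [← hQq] at hbig
    have hgd : Nat.gcd (Q + 1) 2 ≤ 2 := Nat.le_of_dvd (by norm_num) (Nat.gcd_dvd_right _ _)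
    have hgp : 0 < Nat.gcd (Q + 1) 2 := Nat.gcd_pos_of_pos_right _ (by norm_num)
    have hmul : orderOf ((u : K) ^ 2) * Nat.gcd (Q + 1) 2 = Q + 1 := by
      rw [hord]; exact Nat.div_mul_cancel (Nat.gcd_dvd_left _ _)
    have hle : Q + 1 ≤ 2 * orderOf ((u : K) ^ 2) := by
      calc Q + 1 = orderOf ((u : K) ^ 2) * Nat.gcd (Q + 1) 2 := hmul.symm
        _ ≤ orderOf ((u : K) ^ 2) * 2 := Nat.mul_le_mul_left _ hgd
        _ = _ := mul_comm _ _
    refine ⟨closure_eq_top hKc (pow_ne_zero _ u.ne_zero) (by omega) ⟨_, hmul.symm⟩ hle, fun h => ?_⟩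
    rw [h, orderOf_one] at hle
    omega
  · rw [← hQq] at h3
    rw [h3] at hl1
    have hsq : ((u : K) ^ 2 - 1) * ((u : K) ^ 2 + 1) = 0 := by linear_combination hl1
    rcases mul_eq_zero.1 hsq with h | h
    · exfalso
      have h1 : (u : K) ^ 2 = 1 := by linear_combination h
      have h2' := orderOf_dvd_of_pow_eq_one h1
      rw [orderOf_units, hu, h3] at h2'
      exact absurd (Nat.le_of_dvd (by norm_num) h2') (by norm_num)
    · linear_combination h

end Cfsg.Agent.Classical.OrthTwoGen
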