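import Cfsg.Agent.Lib.Classical.OrthShortRoot
import Cfsg.Agent.Lib.Classical.OrthSpinor
import Cfsg.Agent.Lib.Classical.OrthGenApps
import Cfsg.Agent.Lib.Classical.OrthTwoGenField

/-!
A subgroup holding all Siegel transformations at one point and moving it off its perp holds all of them;
two elements that suffice for this.
-/

set_option autoImplicit false
set_option linter.unusedSectionVars false
set_option quotPrecheck false

namespace Cfsg.Agent.Classical.OrthTwoGen

open Matrix Module OrthAut

variable {F : Type*} [Field F] [Fintype F] {ι : Type} [Fintype ι] [DecidableEq ι]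
  {Q : QuadraticForm F (ι → F)}

local notation "B" => QuadraticMap.polar ⇑Q
local notation "OG" => isometryGroup F ⇑Q
local notation "V" => (ι → F)

/-- The transformation at `e` with parameter `w` lies in `G`. -/
def InG (G : Subgroup OG) (e w : V) : Prop := ∃ h : OK Q e w, eOG h ∈ G

/-- All transformations at `e` lie in `G`. -/
def Full (G : Subgroup OG) (e : V) : Prop := ∀ w, OK Q e w → InG G e w

variable {G : Subgroup (isometryGroup F ⇑Q)}

theorem InG.zero {e : V} (he : Q e = 0) : InG G e 0 := ⟨OK.zero he, by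
  rw [show eOG (OK.zero he) = (1 : OG) from ogVal_ext (by rw [eOG_val, eMat_zero, ogVal_one])]
  exact one_mem _⟩

theorem InG.add {e w w' : V} : InG G e w → InG G e w' → InG G e (w + w')
  | ⟨h, hG⟩, ⟨h', hG'⟩ => ⟨h.add h', by
    rw [show eOG (h.add h') = eOG h * eOG h' from ogVal_ext (by
      rw [ogVal_mul, eOG_val, eOG_val, eOG_val, eMat_mul h h'])]
    exact mul_mem hG hG'⟩

theorem InG.neg {e w : V} : InG G e w → InG G e (-w)
  | ⟨h, hG⟩ => ⟨(neg_one_smul F w) ▸ h.smul (-1), by
    have h1 := inv_mem hG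
    rw [eOG_inv h] at h1
    convert h1 using 2
    exact (neg_one_smul F w).symm⟩

theorem InG.sub {e w w' : V} (h : InG G e w) (h' : InG G e w') : InG G e (w - w') := by
  rw [sub_eq_add_neg]; exact h.add h'.neg

theorem InG.conj {e w : V} {g : OG} (hg : g ∈ G) : InG G e w → InG G (ogVal g *ᵥ e) (ogVal g *ᵥ w)
  | ⟨h, hG⟩ => by
    have h' : OK Q (ogVal g *ᵥ e) (ogVal g *ᵥ w) :=
      ⟨by rw [ogVal_quad]; exact h.1, by rw [isometry_polar (ogVal_quad g)]; exact h.2⟩
    refine ⟨h', ?_⟩
    rw [show eOG h' = g * eOG h * g⁻¹ from ogVal_ext (by rw [eOG_val]; exact (conj_eOG g h).symm)]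
    exact mul_mem (mul_mem hg hG) (inv_mem hg)

theorem InG.of_smul {e w : V} {c : F} (hc : c ≠ 0) : InG G (c • e) w → InG G e (c • w)
  | ⟨h, hG⟩ => by
    have h1 : OK Q e w := by
      refine ⟨?_, ?_⟩
      · have h0 := h.1
        rw [QuadraticMap.map_smul, smul_eq_mul, mul_eq_zero] at h0
        exact h0.resolve_left (mul_ne_zero hc hc)
      · have h0 := h.2
        rw [QuadraticMap.polar_smul_left, smul_eq_mul, mul_eq_zero] at h0
        exact h0.resolve_left hc
    refine ⟨h1.smul c, ?_⟩
    rw [show eOG (h1.smul c) = eOG h from ogVal_ext (by rw [eOG_val, eOG_val, eMat_smul_left])]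
    exact hG

theorem InG.to_smul {e w : V} {c : F} (hc : c ≠ 0) : InG G e (c • w) → InG G (c • e) w
  | ⟨h, hG⟩ => by
    have h1 : OK Q (c • e) w := by
      refine ⟨by rw [QuadraticMap.map_smul, h.1, smul_zero], ?_⟩
      have h0 := h.2
      rw [QuadraticMap.polar_smul_right] at h0
      rw [QuadraticMap.polar_smul_left]; exact h0
    refine ⟨h1, ?_⟩
    rw [show eOG h1 = eOG h from ogVal_ext (by rw [eOG_val, eOG_val, eMat_smul_left])]
    exact hG

theorem Full.smul {e : V} (hF : Full G e) {c : F} (hc : c ≠ 0) : Full G (c • e) := fun w hw => by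
  refine InG.to_smul hc (hF _ ⟨?_, ?_⟩)
  · have h0 := hw.1
    rw [QuadraticMap.map_smul, smul_eq_mul, mul_eq_zero] at h0
    exact h0.resolve_left (mul_ne_zero hc hc)
  · have h0 := hw.2
    rw [QuadraticMap.polar_smul_left] at h0
    rw [QuadraticMap.polar_smul_right]; exact h0

theorem Full.map {e : V} (hF : Full G e) {g : OG} (hg : g ∈ G) : Full G (ogVal g *ᵥ e) := fun w hw => by
  have h : OK Q e (ogVal g⁻¹ *ᵥ w) := by
    refine ⟨by rw [← ogVal_quad g e]; exact hw.1, ?_⟩
    rw [← isometry_polar (ogVal_quad g), ogVal_cancel_inv]; exact hw.2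
  have h1 := (hF _ h).conj hg
  rwa [ogVal_cancel_inv] at h1

theorem full_step {y z x : V} (hy : Full G y) (hz : Full G z) (hQy : Q y = 0) (hQz : Q z = 0)
    (hyz : B y z ≠ 0) (hx : Q x = 0) (hyx : B y x ≠ 0) : Full G x := by
  set z' := (B y z)⁻¹ • z with hz'
  set x' := (B y x)⁻¹ • x with hx'
  have b1 : B y z' = 1 := by
    rw [hz', QuadraticMap.polar_smul_right, smul_eq_mul, inv_mul_cancel₀ hyz]
  have b2 : B y x' = 1 := by
    rw [hx', QuadraticMap.polar_smul_right, smul_eq_mul, inv_mul_cancel₀ hyx]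
  have q1 : Q z' = 0 := by rw [hz', QuadraticMap.map_smul, hQz, smul_zero]
  have q2 : Q x' = 0 := by rw [hx', QuadraticMap.map_smul, hx, smul_zero]
  have hok : OK Q y (x' - z') := ⟨hQy, by rw [QuadraticMap.polar_sub_right, b1, b2, sub_self]⟩
  obtain ⟨h, hG⟩ := hy _ hok
  have hval : ogVal (eOG h) *ᵥ z' = x' := by
    have hq : Q (x' - z') = -B x' z' := by
      rw [sub_eq_add_neg, quad_add, q2, QuadraticMap.map_neg, q1, QuadraticMap.polar_neg_right]
      ring
    rw [eOG_val, eMat_mulVec, b1, hq, QuadraticMap.polar_sub_left, polar_self' q1]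
    module
  have h1 := ((hz.smul (inv_ne_zero hyz)).map hG)
  rw [← hz', hval] at h1
  have h2 := h1.smul hyx
  rwa [hx', smul_smul, mul_inv_cancel₀ hyx, one_smul] at h2

/-- One full point and a full point off its perp give everything. -/
theorem eR_le_of_full (hQ : (QuadraticMap.polarBilin Q).Nondegenerate) {e f : V} (P : Pair Q e f)
    (he : Full G e) (hf : Full G f) : eR Q ≤ G := by
  have hef : B e f ≠ 0 := by rw [P.2.2]; exact one_ne_zero
  refine (Subgroup.closure_le _).2 ?_
  rintro g ⟨x, w, h, hg⟩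
  obtain rfl : g = eOG h := ogVal_ext hg
  by_cases hx0 : x = 0
  · rw [show eOG h = (1 : OG) from ogVal_ext (by
      rw [eOG_val, hx0, show (0 : V) = (0 : F) • (0 : V) by simp, eMat_smul_left, zero_smul, eMat_zero, ogVal_one])]
    exact one_mem _
  suffices hF : Full G x by
    obtain ⟨_, hG⟩ := hF w h
    exact hG
  by_cases h1 : B e x ≠ 0
  · exact full_step he hf P.1 P.2.1 hef h.1 h1
  push Not at h1
  by_cases h2 : B f x ≠ 0
  · exact full_step hf he P.2.1 P.1 (by rw [QuadraticMap.polar_comm]; exact hef) h.1 h2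
  push Not at h2
  obtain ⟨z, hz⟩ := exists_polar1 hQ hx0 (1 : F)
  set z₀ := proj Q e f z
  have hp := perp_proj P z
  have hxz : B x z₀ = 1 := by rw [polar_proj ⟨h1, h2⟩]; exact hz
  set y := f + z₀ + (-Q z₀) • e
  have hey : B e y = 1 := by
    simp [y, QuadraticMap.polar_add_right, QuadraticMap.polar_smul_right, P.2.2, hp.1, z₀, polar_self' P.1]
  have hQy : Q y = 0 := by
    simp [y, quad_add, QuadraticMap.map_smul, QuadraticMap.polar_add_left, QuadraticMap.polar_smul_right, P.1,
      P.2.1, hp.1, hp.2, z₀, QuadraticMap.polar_comm _ f e, P.2.2, QuadraticMap.polar_comm _ (proj Q e f z) e]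
  have hxy : B x y ≠ 0 := by
    have : B x y = 1 := by
      simp [y, QuadraticMap.polar_add_right, QuadraticMap.polar_smul_right, hxz,
        QuadraticMap.polar_comm _ x f, h2, QuadraticMap.polar_comm _ x e, h1]
    rw [this]; exact one_ne_zero
  have hFy : Full G y := full_step he hf P.1 P.2.1 hef hQy (by rw [hey]; exact one_ne_zero)
  exact full_step hFy he hQy P.1 (by rw [QuadraticMap.polar_comm, hey]; exact one_ne_zero) h.1
    (by rw [QuadraticMap.polar_comm]; exact hxy)

/-- The swap made of three transformations at a hyperbolic pair. -/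
theorem exists_swap {e f a : V} (P : Pair Q e f) (ha : Perp Q e f a) (hQa : Q a ≠ 0) (hea : InG G e a)
    (hfa : InG G f ((Q a)⁻¹ • a)) :
    ∃ n ∈ G, ogVal n *ᵥ e = (-(Q a)⁻¹) • f ∧ ogVal n *ᵥ f = (-Q a) • e ∧
      ∀ x, Perp Q e f x → B a x = 0 → ogVal n *ᵥ x = x := by
  obtain ⟨h1, m1⟩ := hea
  obtain ⟨h2, m2⟩ := hfa
  have hfe : B f e = 1 := by rw [QuadraticMap.polar_comm]; exact P.2.2
  have haa : B a a = 2 * Q a := polar_self2 a
  have hae : B a e = 0 := by rw [QuadraticMap.polar_comm]; exact ha.1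
  have haf : B a f = 0 := by rw [QuadraticMap.polar_comm]; exact ha.2
  refine ⟨eOG h1 * eOG h2 * eOG h1, mul_mem (mul_mem m1 m2) m1, ?_, ?_, fun x hx hax => ?_⟩
  · simp only [ogVal_mul, ← Matrix.mulVec_mulVec, eOG_val, eMat_mulVec, QuadraticMap.polar_add_right,
      QuadraticMap.polar_sub_right, QuadraticMap.polar_smul_right, QuadraticMap.polar_smul_left,
      QuadraticMap.map_smul, polar_self' P.1, polar_self' P.2.1, P.2.2, hfe, ha.1, ha.2, hae, haf, haa,
      smul_eq_mul, smul_smul, smul_add, smul_sub]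
    match_scalars <;> field_simp <;> ring
  · simp only [ogVal_mul, ← Matrix.mulVec_mulVec, eOG_val, eMat_mulVec, QuadraticMap.polar_add_right,
      QuadraticMap.polar_sub_right, QuadraticMap.polar_smul_right, QuadraticMap.polar_smul_left,
      QuadraticMap.map_smul, polar_self' P.1, polar_self' P.2.1, P.2.2, hfe, ha.1, ha.2, hae, haf, haa,
      smul_eq_mul, smul_smul, smul_add, smul_sub]
    match_scalars <;> field_simp <;> ring
  · simp only [ogVal_mul, ← Matrix.mulVec_mulVec, eOG_val, eMat_mulVec, QuadraticMap.polar_add_right,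
      QuadraticMap.polar_sub_right, QuadraticMap.polar_smul_right, QuadraticMap.polar_smul_left, hx.1, hx.2, hax,
      smul_eq_mul]
    module

end Cfsg.Agent.Classical.OrthTwoGen
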