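import Cfsg.Agent.Lib.Classical.OrthTwoGenCore

/-!
`Ω` is generated by one Siegel transformation and a torus element times a swap.
-/

set_option autoImplicit false
set_option linter.unusedSectionVars false
set_option quotPrecheck false

namespace Cfsg.Agent.Classical.OrthTwoGen

open Matrix Module OrthAut

variable {F : Type*} [Field F] [Fintype F] {ι : Type} [Fintype ι] [DecidableEq ι]
  {Q : QuadraticForm F (ι → F)}

local notation "B" => QuadraticMap.polar ⇑Q
local notation "OG" => isometryGroup F ⇑Q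
local notation "V" => (ι → F)

theorem three_eq_zero (h3 : Fintype.card F = 3) : (3 : F) = 0 := by
  have h := FiniteField.cast_card_eq_zero F
  rw [h3] at h
  exact_mod_cast h

theorem two_ne_zero_three (h3 : Fintype.card F = 3) : (2 : F) ≠ 0 := fun h2 =>
  one_ne_zero (α := F) (by linear_combination three_eq_zero h3 - h2)

theorem eq_of_card_three (h3 : Fintype.card F = 3) (t : F) : t = 0 ∨ t = 1 ∨ t = -1 := by
  have h := FiniteField.pow_card t
  rw [h3] at h
  have h' : t * ((t - 1) * (t + 1)) = 0 := by linear_combination h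
  rcases mul_eq_zero.1 h' with h0 | h0
  · exact Or.inl h0
  rcases mul_eq_zero.1 h0 with h1 | h1
  · exact Or.inr (Or.inl (by linear_combination h1))
  · exact Or.inr (Or.inr (by linear_combination h1))

/-- An isometry of an embedded space, extended by the identity on its perp. -/
theorem exists_extend {K : Type*} [AddCommGroup K] [Module F K] [FiniteDimensional F K]
    (hQ : (QuadraticMap.polarBilin Q).Nondegenerate) (φ : K →ₗ[F] V)
    (hnd : ∀ x, (∀ y, B (φ x) (φ y) = 0) → x = 0) (T : K ≃ₗ[F] K) (hT : ∀ x, Q (φ (T x)) = Q (φ x))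
    (hfree : ∀ x, T x = x → x = 0) (heven : Even (finrank F K)) :
    ∃ g : OG, (∀ x, ogVal g *ᵥ φ x = φ (T x)) ∧ (∀ y, (∀ x, B y (φ x) = 0) → ogVal g *ᵥ y = y) ∧
      dick g = 1 := by
  let bl : LinearMap.BilinForm F K := (QuadraticMap.polarBilin Q).compl₁₂ φ φ
  have hbl : bl.Nondegenerate := by
    refine ⟨fun x hx => hnd x hx, fun y hy => hnd y fun x => ?_⟩
    rw [QuadraticMap.polar_comm]; exact hy x
  let π : V →ₗ[F] K := (bl.toDual hbl).symm.toLinearMap ∘ₗ
    ((LinearMap.lcomp F F φ) ∘ₗ QuadraticMap.polarBilin Q)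
  have hπ : ∀ v x, B (φ (π v)) (φ x) = B v (φ x) := fun v x => by
    have h := LinearEquiv.apply_symm_apply (bl.toDual hbl) ((LinearMap.lcomp F F φ) (QuadraticMap.polarBilin Q v))
    have h1 := LinearMap.congr_fun h x
    rw [LinearMap.BilinForm.toDual_def] at h1
    exact h1
  have hπφ : ∀ x, π (φ x) = x := fun x => sub_eq_zero.1 (hnd _ fun y => by
    rw [map_sub, QuadraticMap.polar_sub_left, hπ, sub_self])
  have hperp : ∀ v y, B (v - φ (π v)) (φ y) = 0 := fun v y => by
    rw [QuadraticMap.polar_sub_left, hπ, sub_self]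
  let L : V →ₗ[F] V := LinearMap.id + φ ∘ₗ ((T.toLinearMap - LinearMap.id) ∘ₗ π)
  have hL : ∀ v, L v = φ (T (π v)) + (v - φ (π v)) := fun v => by
    simp only [L, LinearMap.add_apply, LinearMap.id_apply, LinearMap.comp_apply, LinearMap.sub_apply,
      LinearEquiv.coe_coe, map_sub]
    abel
  have hLQ : ∀ v, Q (L v) = Q v := fun v => by
    conv_rhs => rw [← add_sub_cancel (φ (π v)) v]
    rw [hL, quad_add, quad_add, hT, QuadraticMap.polar_comm _ (φ (T (π v))), hperp,
      QuadraticMap.polar_comm _ (φ (π v)), hperp]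
  have hinj : Function.Injective L := by
    refine (injective_iff_map_eq_zero L).2 fun v hv => eq_zero_of_polar hQ fun z => ?_
    have h : B (L v) (L z) = B v z := by
      rw [QuadraticMap.polar, QuadraticMap.polar, ← map_add, hLQ, hLQ, hLQ]
    rw [← h, hv]; simp [QuadraticMap.polar]
  obtain ⟨g, hg⟩ := exists_gl_of_linearEquiv (LinearEquiv.ofInjectiveEndo L hinj)
  have hg' : ∀ v, (g : Matrix ι ι F) *ᵥ v = L v := fun v => hg v
  refine ⟨⟨g, mem_isometryGroup.2 fun v => by rw [hg']; exact hLQ v⟩, fun x => ?_, fun y hy => ?_, ?_⟩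
  · show (g : Matrix ι ι F) *ᵥ φ x = _
    rw [hg', hL, hπφ, sub_self, add_zero]
  · show (g : Matrix ι ι F) *ᵥ y = _
    have h0 : π y = 0 := hnd _ fun x => by rw [hπ, hy]
    rw [hg', hL, h0]; simp
  · set gg : OG := ⟨g, _⟩
    have hfix : fixSub gg = LinearMap.ker π := by
      ext v
      rw [mem_fixSub, LinearMap.mem_ker]
      show (g : Matrix ι ι F) *ᵥ v = v ↔ _
      rw [hg', hL]
      refine ⟨fun h => ?_, fun h => by rw [h]; simp⟩
      have h1 : φ (T (π v)) = φ (π v) := sub_eq_zero.1 (by rw [← sub_eq_zero.2 h]; abel)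
      exact hfree _ (by rw [← hπφ (T (π v)), h1, hπφ])
    have h1 := π.finrank_range_add_finrank_ker
    rw [LinearMap.range_eq_top.2 fun x => ⟨φ x, hπφ x⟩, finrank_top, Module.finrank_pi] at h1
    rw [dick, hfix, Even.neg_one_pow]
    obtain ⟨r, hr⟩ := heven
    exact ⟨finrank F (LinearMap.ker π) + r, by omega⟩

/-- Generation from a decomposition `⟨e, f⟩ ⊕ ψ(minus space) ⊕ ⟨z, v⟩`. -/
theorem two_generated (hQ : (QuadraticMap.polarBilin Q).Nondegenerate) (hgen : Omega F ⇑Q = eR Q)
    (hG : GenQ F ι) (j : ℕ) {a b : F} (hab : Aniso F a b) {e f : V} (P : Pair Q e f)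
    (ψ : ((Fin j ⊕ Fin j) ⊕ Fin 2 → F) →ₗ[F] V) (hψ : ∀ x, Q (ψ x) = qfMinus j F a b x)
    (hψP : ∀ x, Perp Q e f (ψ x)) {z v : V} (hz : Perp Q e f z) (hv : Perp Q e f v)
    (hzψ : ∀ x, B z (ψ x) = 0) (hvψ : ∀ x, B v (ψ x) = 0) (hv0 : Q v ≠ 0) (hvz : B v z ≠ 0)
    (hrest : ∀ y, Perp Q e f y → (∀ x, B y (ψ x) = 0) → ∃ α β : F, y = α • z + β • v)
    (hbig : 4 ≤ Fintype.card F ^ (j + 1) ∨ (v = z ∧ Fintype.card F = 3 ∧ j = 0)) :
    ∃ A A' : Omega F ⇑Q, Subgroup.closure ({A, A'} : Set (Omega F ⇑Q)) = ⊤ := by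
  classical
  obtain ⟨K, _, _, φ₀, l, hl0, hliso, hrep, hgenK, hsmall⟩ := exists_field_model j hab
  haveI : FiniteDimensional F K := φ₀.symm.finiteDimensional
  set φ : K →ₗ[F] V := ψ ∘ₗ φ₀.toLinearMap with hφ
  have hQφ : ∀ x, Q (φ x) = qfMinus j F a b (φ₀ x) := fun x => hψ _
  have hBφ : ∀ x y, B (φ x) (φ y) = QuadraticMap.polar ⇑(qfMinus j F a b) (φ₀ x) (φ₀ y) := fun x y => by
    rw [QuadraticMap.polar, QuadraticMap.polar, ← map_add φ, hQφ, hQφ, hQφ, map_add]
  have hnd : ∀ x, (∀ y, B (φ x) (φ y) = 0) → x = 0 := fun x hx => φ₀.map_eq_zero_iff.1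
    ((nondegenerate_qfMinus j hab).1 _ fun w => by
      rw [QuadraticMap.polarBilin_apply_apply, ← φ₀.apply_symm_apply w, ← hBφ]; exact hx _)
  have hPφ : ∀ x, Perp Q e f (φ x) := fun x => hψP _
  have hzφ : ∀ x, B z (φ x) = 0 := fun x => hzψ _
  have hvφ : ∀ x, B v (φ x) = 0 := fun x => hvψ _
  have hl1 : l ≠ 1 := by
    intro hl
    rcases hbig with hb | ⟨-, h3, rfl⟩
    · exact (hgenK hb).2 (by rw [hl, one_pow])
    · have h := hsmall (by rw [h3, pow_one])
      rw [hl, one_pow] at h
      have h2 : (2 : F) ≠ 0 := two_ne_zero_three h3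
      exact h2 ((algebraMap F K).injective (by rw [map_ofNat, map_zero]; linear_combination h))
  let T : K ≃ₗ[F] K := LinearEquiv.ofInjectiveEndo (LinearMap.mulLeft F l)
    (fun x y h => mul_left_cancel₀ hl0 h)
  have hTx : ∀ x, T x = l * x := fun x => rfl
  obtain ⟨Lam, hLφ, hLfix, hLd⟩ := exists_extend hQ φ hnd T
    (fun x => by rw [hQφ, hQφ, hTx, hliso])
    (fun x hx => by
      rw [hTx] at hx
      exact (mul_eq_zero.1 (show (l - 1) * x = 0 by rw [sub_mul, one_mul, hx, sub_self])).resolve_left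
        (sub_ne_zero.2 hl1))
    ⟨j + 1, by
      rw [φ₀.finrank_eq, Module.finrank_pi, card_iota, two_mul]⟩
  -- the swap with spinor correction
  obtain ⟨c, hc, hspin⟩ : ∃ c : F, c ≠ 0 ∧ spin Lam * spin (OrthAut.refl hv0) * sqSign (-c) = 1 := by
    by_cases h2 : (2 : F) = 0
    · haveI := CharTwo.of_one_ne_zero_of_two_eq_zero (one_ne_zero (α := F)) h2
      exact ⟨1, one_ne_zero, by
        rw [spin_two hQ h2, spin_two hQ h2, sqSign_of_isSquare (FiniteField.isSquare_of_char_two (ringChar.eq F 2) _)]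
        rfl⟩
    rcases Int.units_eq_one_or (spin Lam * spin (OrthAut.refl hv0)) with h | h
    · exact ⟨-1, neg_ne_zero.2 one_ne_zero, by rw [h, neg_neg, sqSign_of_isSquare IsSquare.one, mul_one]⟩
    · obtain ⟨ε, hε⟩ := FiniteField.exists_nonsquare (F := F)
        (fun hc => h2 (by haveI := ringChar.of_eq hc; exact CharTwo.two_eq_zero))
      refine ⟨-ε, neg_ne_zero.2 fun h0 => hε (h0 ▸ IsSquare.zero), ?_⟩
      rw [h, neg_neg, sqSign_of_not hε]; decide
  have hfe : B f e = 1 := by rw [QuadraticMap.polar_comm]; exact P.2.2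
  have hQd : Q (e + (-c) • f) = -c := by
    rw [quad_add, QuadraticMap.map_smul, P.1, P.2.1, QuadraticMap.polar_smul_right, P.2.2]; simp
  have hd0 : Q (e + (-c) • f) ≠ 0 := by rw [hQd]; exact neg_ne_zero.2 hc
  set b₁ : OG := Lam * OrthAut.refl hv0 * OrthAut.refl hd0 with hb₁
  have hb₁Ω : b₁ ∈ Omega F ⇑Q := by
    refine (mem_omega_gen hQ hG b₁).2 ⟨?_, ?_⟩
    · rw [hb₁, dick_mul_gen hQ hG, dick_mul_gen hQ hG, hLd, dick_refl hQ hv0, dick_refl hQ hd0]; rfl
    · rw [hb₁, spin_mul hQ, spin_mul hQ, spin_refl hQ hd0, hQd]; exact hspin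
  have pe : ∀ {x y}, Perp Q e f x → B x e = 0 ∧ B x f = 0 ∧ B (e + y • f) x = 0 := fun {x y} hx =>
    ⟨by rw [QuadraticMap.polar_comm]; exact hx.1, by rw [QuadraticMap.polar_comm]; exact hx.2, by
      rw [QuadraticMap.polar_add_left, QuadraticMap.polar_smul_left, hx.1, hx.2, smul_zero, add_zero]⟩
  have hLe : ogVal Lam *ᵥ e = e := hLfix e fun x => (hPφ x).1
  have hLf : ogVal Lam *ᵥ f = f := hLfix f fun x => (hPφ x).2
  have hbe : ogVal b₁ *ᵥ e = c • f := by
    have h1 : ogVal (OrthAut.refl hd0) *ᵥ e = c • f := by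
      rw [refl_apply, hQd, QuadraticMap.polar_add_left, QuadraticMap.polar_smul_left, polar_self' P.1, hfe]
      match_scalars <;> field_simp <;> ring
    rw [hb₁, ogVal_mul, ogVal_mul, ← Matrix.mulVec_mulVec, ← Matrix.mulVec_mulVec, h1, Matrix.mulVec_smul,
      Matrix.mulVec_smul, refl_apply, (pe (y := 0) hv).2.1, mul_zero, zero_smul, sub_zero, hLf]
  have hbf : ogVal b₁ *ᵥ f = c⁻¹ • e := by
    have h1 : ogVal (OrthAut.refl hd0) *ᵥ f = c⁻¹ • e := by
      rw [refl_apply, hQd, QuadraticMap.polar_add_left, QuadraticMap.polar_smul_left, polar_self' P.2.1, P.2.2]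
      match_scalars <;> field_simp <;> ring
    rw [hb₁, ogVal_mul, ogVal_mul, ← Matrix.mulVec_mulVec, ← Matrix.mulVec_mulVec, h1, Matrix.mulVec_smul,
      Matrix.mulVec_smul, refl_apply, (pe (y := 0) hv).1, mul_zero, zero_smul, sub_zero, hLe]
  have hbW : ∀ {x}, Perp Q e f x → ogVal b₁ *ᵥ x = ogVal Lam *ᵥ (x - ((Q v)⁻¹ * B v x) • v) := fun {x} hx => by
    have h1 : ogVal (OrthAut.refl hd0) *ᵥ x = x := by
      rw [refl_apply, (pe hx).2.2, mul_zero, zero_smul, sub_zero]
    rw [hb₁, ogVal_mul, ogVal_mul, ← Matrix.mulVec_mulVec, ← Matrix.mulVec_mulVec, h1, refl_apply]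
  have hbφ : ∀ x, ogVal b₁ *ᵥ φ x = φ (l * x) := fun x => by
    rw [hbW (hPφ x), hvφ, mul_zero, zero_smul, sub_zero, hLφ, hTx]
  set κ := (Q v)⁻¹ * B v z
  have hκ : κ ≠ 0 := mul_ne_zero (inv_ne_zero hv0) hvz
  set z' := z - κ • v with hz'
  have hz'P : Perp Q e f z' := by
    constructor <;> simp [hz', QuadraticMap.polar_sub_right, QuadraticMap.polar_smul_right, hz.1, hz.2, hv.1, hv.2]
  have hz'φ : ∀ x, B z' (φ x) = 0 := fun x => by
    rw [hz', QuadraticMap.polar_sub_left, QuadraticMap.polar_smul_left, hzφ, hvφ, smul_zero, sub_zero]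
  have hbz : ogVal b₁ *ᵥ z = z' := by rw [hbW hz]; exact hLfix _ hz'φ
  have hbz' : ogVal b₁ *ᵥ z' = z := by
    rw [hbW hz'P]
    have : z' - ((Q v)⁻¹ * B v z') • v = z := by
      rw [hz', QuadraticMap.polar_sub_right, QuadraticMap.polar_smul_right, polar_self2, smul_eq_mul]
      match_scalars <;> simp only [κ] <;> field_simp <;> ring
    rw [this]; exact hLfix _ hzφ
  -- the two generators
  have hok : OK Q e (φ 1 + z) := ⟨P.1, by rw [QuadraticMap.polar_add_right, (hPφ 1).1, hz.1, add_zero]⟩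
  have haΩ : eOG hok ∈ Omega F ⇑Q := hgen ▸ eOG_mem_eR hok
  set G := Subgroup.closure ({eOG hok, b₁} : Set OG)
  have hbG : b₁ ∈ G := Subgroup.subset_closure (Or.inr rfl)
  have ha : InG G e (φ 1 + z) := ⟨hok, Subgroup.subset_closure (Or.inl rfl)⟩
  -- transport along the swap
  have up : ∀ {x}, InG G e x → InG G f (c • (ogVal b₁ *ᵥ x)) := fun {x} h => by
    have h1 := h.conj hbG
    rw [hbe] at h1
    exact h1.of_smul hc
  have down : ∀ {x}, InG G f x → InG G e (c⁻¹ • (ogVal b₁ *ᵥ x)) := fun {x} h => by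
    have h1 := h.conj hbG
    rw [hbf] at h1
    exact h1.of_smul (inv_ne_zero hc)
  have twice : ∀ {x}, InG G e x → InG G e (ogVal b₁ *ᵥ (ogVal b₁ *ᵥ x)) := fun {x} h => by
    have h1 := down (up h)
    rwa [Matrix.mulVec_smul, smul_smul, inv_mul_cancel₀ hc, one_smul] at h1
  -- the whole embedded space
  have hS : ∀ x, InG G e (φ x) := by
    rcases hbig with hb | ⟨hvz', h3, rfl⟩
    · obtain ⟨hgK, hl2⟩ := hgenK hb
      let R : Subring K :=
        { carrier := {x | ∀ y, InG G e (φ y) → InG G e (φ (x * y))}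
          mul_mem' := fun {x x'} hx hx' y hy => by rw [mul_assoc]; exact hx _ (hx' _ hy)
          one_mem' := fun y hy => by rwa [one_mul]
          add_mem' := fun {x x'} hx hx' y hy => by rw [add_mul, map_add]; exact (hx _ hy).add (hx' _ hy)
          zero_mem' := fun y _ => by rw [zero_mul, map_zero]; exact InG.zero P.1
          neg_mem' := fun {x} hx y hy => by rw [neg_mul, map_neg]; exact (hx _ hy).neg }
      have hR : R = ⊤ := by
        refine top_unique (hgK ▸ Subring.closure_le.2 ?_)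
        rintro _ rfl y hy
        have h1 := twice hy
        rwa [hbφ, hbφ, ← mul_assoc, ← pow_two] at h1
      have h1 : InG G e (φ (l ^ 2 - 1)) := by
        have h := (twice ha).sub ha
        rw [Matrix.mulVec_add, Matrix.mulVec_add, hbφ, hbφ, hbz, hbz', mul_one, ← pow_two] at h
        rw [map_sub]
        convert h using 1
        abel
      intro x
      have h2 := (hR ▸ Subring.mem_top (x * (l ^ 2 - 1)⁻¹) : x * (l ^ 2 - 1)⁻¹ ∈ R) _ h1
      rwa [mul_assoc, inv_mul_cancel₀ (sub_ne_zero.2 hl2), mul_one] at h2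
    · subst hvz'
      have hll : l ^ 2 = -1 := hsmall (by rw [h3, pow_one])
      have h2b : InG G e (-φ 1 + v) := by
        have h := twice ha
        rwa [Matrix.mulVec_add, Matrix.mulVec_add, hbφ, hbφ, hbz, hbz', mul_one, ← pow_two, hll, map_neg] at h
      have hcases : ∀ t : F, t = 0 ∨ t = 1 ∨ t = -1 := eq_of_card_three h3
      have hu : InG G e (φ 1) := by
        have h := (ha.sub h2b).neg
        convert h using 1
        rw [show -(φ 1 + v - (-φ 1 + v)) = (-2 : F) • φ 1 by module,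
          show (-2 : F) = 1 by linear_combination -(three_eq_zero h3), one_smul]
      have hzI : InG G e v := by
        have h := ha.sub hu
        rwa [add_sub_cancel_left] at h
      have hz'v : z' = -v := by
        rw [hz']
        have : κ = 2 := by simp only [κ]; rw [polar_self2]; field_simp
        rw [this]; module
      have mult : ∀ {p x : V}, Q p = 0 → InG G p x → ∀ t : F, InG G p (t • x) := fun {p x} hp h t => by
        rcases hcases t with rfl | rfl | rfl
        · rw [zero_smul]; exact InG.zero hp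
        · rwa [one_smul]
        · rw [neg_one_smul]; exact h.neg
      have hfv : InG G f ((Q v)⁻¹ • v) := by
        have h := mult P.2.1 (up hzI) (-((Q v)⁻¹ * c⁻¹))
        rwa [hbz, hz'v, smul_smul, smul_neg, neg_mul, neg_smul, neg_neg, mul_assoc, inv_mul_cancel₀ hc,
          mul_one] at h
      obtain ⟨n, hnG, -, hnf, hnx⟩ := exists_swap P hv hv0 hzI hfv
      have hul : InG G e (φ l) := by
        have h := (up hu).conj hnG
        rw [hbφ, mul_one, Matrix.mulVec_smul, hnf, hnx _ (hPφ l) (hvφ l)] at h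
        have h' := mult P.1 (h.of_smul (neg_ne_zero.2 hv0)) ((-Q v)⁻¹ * c⁻¹)
        rwa [smul_smul, smul_smul, show (-Q v)⁻¹ * c⁻¹ * (-Q v) * c = 1 by field_simp, one_smul] at h'
      intro x
      have hli : LinearIndependent F ![(1 : K), l] := by
        refine LinearIndependent.pair_iff.2 fun s t hst => ?_
        by_cases ht : t = 0
        · subst ht
          exact ⟨by simpa using hst, rfl⟩
        exfalso
        have hl : l = algebraMap F K (-s / t) := by
          rw [Algebra.smul_def, Algebra.smul_def, mul_one] at hst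
          rw [map_div₀, map_neg, eq_div_iff ((map_ne_zero _).2 ht)]
          linear_combination hst
        rw [hl, ← map_pow, ← map_one (algebraMap F K), ← map_neg] at hll
        have h4 : (-s / t) ^ 2 = -1 := (algebraMap F K).injective hll
        rcases hcases (-s / t) with e' | e' | e' <;> rw [e'] at h4
        · exact one_ne_zero (α := F) (by linear_combination h4)
        · exact two_ne_zero_three h3 (by linear_combination h4)
        · exact two_ne_zero_three h3 (by linear_combination h4)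
      have hspan := hli.span_eq_top_of_card_eq_finrank (by
        rw [Fintype.card_fin, φ₀.finrank_eq, Module.finrank_pi, card_iota])
      obtain ⟨t, ht⟩ := (Submodule.mem_span_range_iff_exists_fun F).1 (hspan ▸ Submodule.mem_top (x := x))
      rw [← ht, Fin.sum_univ_two, map_add, map_smul, map_smul]
      exact (mult P.1 hu _).add (mult P.1 hul _)
  have hSf : ∀ x, InG G f (φ x) := fun x => by
    have h := up (hS (c⁻¹ • (l⁻¹ * x)))
    rwa [hbφ, mul_smul_comm, ← mul_assoc, mul_inv_cancel₀ hl0, one_mul, map_smul, smul_smul,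
      mul_inv_cancel₀ hc, one_smul] at h
  have line : ∀ {y}, Perp Q e f y → (∀ x, B y (φ x) = 0) → InG G f y → ∀ t : F, InG G e (t • y) := by
    intro y hy hyφ hfy t
    rcases eq_or_ne t 0 with rfl | ht
    · rw [zero_smul]; exact InG.zero P.1
    obtain ⟨x, hx⟩ := hrep (-t)
    have hQx : Q (φ x) = -t := (hQφ x).trans hx
    have h2 : InG G f ((Q (φ x))⁻¹ • φ x) := by rw [← map_smul]; exact hSf _
    obtain ⟨n, hnG, -, hnf, hnx⟩ := exists_swap P (hPφ x) (by rw [hQx]; exact neg_ne_zero.2 ht) (hS x) h2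
    have h3 := hfy.conj hnG
    rw [hnf, hnx y hy (by rw [QuadraticMap.polar_comm]; exact hyφ x), hQx, neg_neg] at h3
    exact h3.of_smul ht
  have hz1 : InG G e z := by
    have h := ha.sub (hS 1)
    rwa [add_sub_cancel_left] at h
  have hz'all : ∀ t : F, InG G e (t • z') := fun t => by
    have h := up hz1
    rw [hbz] at h
    have h1 := line (by constructor <;> simp [QuadraticMap.polar_smul_right, hz'P.1, hz'P.2])
      (fun x => by rw [QuadraticMap.polar_smul_left, hz'φ, smul_zero]) h (t * c⁻¹)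
    rwa [smul_smul, mul_assoc, inv_mul_cancel₀ hc, mul_one] at h1
  have hzall : ∀ t : F, InG G e (t • z) := fun t => by
    have h := up (hz'all 1)
    rw [one_smul, hbz'] at h
    have h1 := line (by constructor <;> simp [QuadraticMap.polar_smul_right, hz.1, hz.2])
      (fun x => by rw [QuadraticMap.polar_smul_left, hzφ, smul_zero]) h (t * c⁻¹)
    rwa [smul_smul, mul_assoc, inv_mul_cancel₀ hc, mul_one] at h1
  have hperp : ∀ w, Perp Q e f w → InG G e w := by
    intro w hw
    let bl : LinearMap.BilinForm F K := (QuadraticMap.polarBilin Q).compl₁₂ φ φ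
    have hbl : bl.Nondegenerate := by
      refine ⟨fun x hx => hnd x hx, fun y hy => hnd y fun x => ?_⟩
      rw [QuadraticMap.polar_comm]; exact hy x
    obtain ⟨x₀, hx₀⟩ : ∃ x₀, ∀ x, B (φ x₀) (φ x) = B w (φ x) :=
      ⟨(bl.toDual hbl).symm ((LinearMap.lcomp F F φ) (QuadraticMap.polarBilin Q w)), fun x => by
        have h1 := LinearMap.congr_fun (LinearEquiv.apply_symm_apply (bl.toDual hbl)
          ((LinearMap.lcomp F F φ) (QuadraticMap.polarBilin Q w))) x
        rw [LinearMap.BilinForm.toDual_def] at h1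
        exact h1⟩
    obtain ⟨α, β, hαβ⟩ := hrest (w - φ x₀)
      ⟨by rw [QuadraticMap.polar_sub_right, hw.1, (hPφ x₀).1, sub_zero],
        by rw [QuadraticMap.polar_sub_right, hw.2, (hPφ x₀).2, sub_zero]⟩
      (fun x => by
        have h := hx₀ (φ₀.symm x)
        have e1 : φ (φ₀.symm x) = ψ x := by rw [hφ, LinearMap.comp_apply, LinearEquiv.coe_coe, LinearEquiv.apply_symm_apply]
        rw [e1] at h
        rw [QuadraticMap.polar_sub_left, h, sub_self])
    have hv' : v = κ⁻¹ • z - κ⁻¹ • z' := by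
      rw [hz', smul_sub, smul_smul, inv_mul_cancel₀ hκ, one_smul, sub_sub_cancel]
    rw [show w = φ x₀ + ((α + β * κ⁻¹) • z + (-(β * κ⁻¹)) • z') by
      rw [← sub_eq_iff_eq_add', hαβ, hv']; module]
    exact (hS x₀).add ((hzall _).add (hz'all _))
  have hfull : Full G e := fun w hw => by
    have hp : Perp Q e f (w - B f w • e) := by
      constructor
      · rw [QuadraticMap.polar_sub_right, hw.2, QuadraticMap.polar_smul_right, polar_self' P.1, smul_zero, sub_zero]
      · rw [QuadraticMap.polar_sub_right, QuadraticMap.polar_smul_right, hfe, smul_eq_mul, mul_one, sub_self]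
    obtain ⟨h, hG'⟩ := hperp _ hp
    refine ⟨hw, ?_⟩
    rw [show eOG hw = eOG h from ogVal_ext (by
      rw [eOG_val, eOG_val, ← eMat_add_self h (B f w), sub_add_cancel])]
    exact hG'
  have hffull : Full G f := by
    have h := ((hfull.map hbG)).smul (inv_ne_zero hc)
    rwa [hbe, smul_smul, inv_mul_cancel₀ hc, one_smul] at h
  have hle := hgen.le.trans (eR_le_of_full hQ P hfull hffull)
  refine ⟨⟨eOG hok, haΩ⟩, ⟨b₁, hb₁Ω⟩, ?_⟩
  refine Subgroup.map_injective (Omega F ⇑Q).subtype_injective ?_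
  rw [MonoidHom.map_closure, Set.image_pair, ← MonoidHom.range_eq_map, Subgroup.range_subtype]
  refine le_antisymm ((Subgroup.closure_le _).2 ?_) hle
  rintro _ (rfl | rfl)
  · exact haΩ
  · exact hb₁Ω

end Cfsg.Agent.Classical.OrthTwoGen
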