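import Mathlib

/-! The centraliser of an element whose minimal polynomial is irreducible of full degree. -/

set_option autoImplicit false

namespace Cfsg.Agent.PPDCentralizer

open Polynomial Matrix

variable {F : Type*} [Field F] [Fintype F]

/-- The minimal polynomial of an element of primitive prime order. -/
theorem minpoly_irreducible {n r q : ℕ} (hF : Fintype.card F = q) (hn : 1 ≤ n) (hr : r.Prime)
    (hr0 : (r : F) ≠ 0) (hi : orderOf (q : ZMod r) = n) (X : Matrix (Fin n) (Fin n) F) (hX1 : X ≠ 1)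
    (hX : X ^ r = 1) :
    Irreducible (minpoly F X) ∧ (minpoly F X).natDegree = n := by
  classical
  have : Nonempty (Fin n) := ⟨⟨0, hn⟩⟩
  have hμ0 : minpoly F X ≠ 0 := minpoly.ne_zero (IsIntegral.of_finite F X)
  have hμn : (minpoly F X).natDegree ≤ n := by
    refine (natDegree_le_of_dvd (Matrix.minpoly_dvd_charpoly X) X.charpoly_monic.ne_zero).trans ?_
    rw [Matrix.charpoly_natDegree_eq_dim, Fintype.card_fin]
  have hdvd : minpoly F X ∣ Polynomial.X ^ r - 1 := minpoly.dvd F X (by simp [hX])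
  -- a factor other than `X - 1`
  obtain ⟨f, hf, hfd, hf1⟩ : ∃ f : F[X], Irreducible f ∧ f ∣ minpoly F X ∧ aeval (1 : F) f ≠ 0 := by
    set Φ : F[X] := ∑ i ∈ Finset.range r, Polynomial.X ^ i with hΦ
    have hmul : (Polynomial.X - 1) * Φ = Polynomial.X ^ r - 1 := mul_geom_sum _ _
    have hnc : ¬ IsCoprime (minpoly F X) Φ := fun hc => by
      have h := minpoly.aeval F X
      have h1 := hc.dvd_of_dvd_mul_right (hmul.symm ▸ hdvd)
      exact hX1 (by
        have h2 := aeval_eq_zero_of_dvd_aeval_eq_zero h1 h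
        rwa [map_sub, aeval_X, map_one, sub_eq_zero] at h2)
    rw [← gcd_isUnit_iff] at hnc
    obtain ⟨f, hf, hfd⟩ := WfDvdMonoid.exists_irreducible_factor hnc (by simp [hμ0])
    refine ⟨f, hf, hfd.trans (gcd_dvd_left _ _), fun h => ?_⟩
    have h2 : aeval (1 : F) Φ = 0 :=
      aeval_eq_zero_of_dvd_aeval_eq_zero (hfd.trans (gcd_dvd_right _ _)) h
    exact hr0 (by simpa [hΦ] using h2)
  let K := AdjoinRoot f
  have := Fact.mk hf
  have hrt : (AdjoinRoot.root f) ^ r = 1 := by
    have h1 : AdjoinRoot.mk f (Polynomial.X ^ r - 1) = 0 :=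
      AdjoinRoot.mk_eq_zero.2 (hfd.trans hdvd)
    simpa [sub_eq_zero] using h1
  have hrt1 : AdjoinRoot.root f ≠ 1 := by
    intro h
    apply hf1
    have h2 : aeval (AdjoinRoot.root f) f = 0 := AdjoinRoot.eval₂_root f
    rw [h, ← map_one (algebraMap F (AdjoinRoot f)), aeval_algebraMap_apply] at h2
    exact (map_eq_zero _).1 h2
  have hroot0 : AdjoinRoot.root f ≠ 0 := by
    intro h
    rw [h, zero_pow hr.ne_zero] at hrt
    exact zero_ne_one hrt
  let u : (AdjoinRoot f)ˣ := Units.mk0 _ hroot0
  have := Fact.mk hr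
  have hu : orderOf u = r :=
    orderOf_eq_prime (Units.ext (by simp [u, hrt])) (fun h => hrt1 (by simpa [u] using congrArg Units.val h))
  have : Module.Finite F (AdjoinRoot f) :=
    Module.Finite.of_basis (AdjoinRoot.powerBasis hf.ne_zero).basis
  have : Finite (AdjoinRoot f) := Module.finite_of_finite F
  have hcard : Nat.card (AdjoinRoot f)ˣ = q ^ f.natDegree - 1 := by
    rw [Nat.card_units, Module.natCard_eq_pow_finrank (K := F), Nat.card_eq_fintype_card, hF,
      (AdjoinRoot.powerBasis hf.ne_zero).finrank, AdjoinRoot.powerBasis_dim]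
  have hn' : n ∣ f.natDegree := by
    rw [← hi, orderOf_dvd_iff_pow_eq_one]
    have h1 : r ∣ q ^ f.natDegree - 1 := hcard ▸ hu ▸ orderOf_dvd_natCard u
    have h2 : 1 ≤ q ^ f.natDegree :=
      Nat.one_le_pow _ _ (hF ▸ Fintype.card_pos)
    rw [← ZMod.natCast_eq_zero_iff, Nat.cast_sub h2, Nat.cast_pow, Nat.cast_one,
      sub_eq_zero] at h1
    exact h1
  have hdeg : (minpoly F X).natDegree ≤ f.natDegree :=
    hμn.trans (Nat.le_of_dvd hf.natDegree_pos hn')
  have hassoc : Associated f (minpoly F X) :=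
    associated_of_dvd_of_natDegree_le hfd hμ0 hdeg
  refine ⟨hassoc.irreducible hf, le_antisymm hμn ?_⟩
  exact (Nat.le_of_dvd hf.natDegree_pos hn').trans (natDegree_le_of_dvd hfd hμ0)

theorem centralizer_of_irreducible {n q : ℕ} (hF : Fintype.card F = q) (hn : 1 ≤ n) (x : GL (Fin n) F)
    (hirr : Irreducible (minpoly F (x : Matrix (Fin n) (Fin n) F)))
    (hd : (minpoly F (x : Matrix (Fin n) (Fin n) F)).natDegree = n) :
    IsCyclic (Subgroup.centralizer ({x} : Set (GL (Fin n) F))) ∧
      Nat.card (Subgroup.centralizer ({x} : Set (GL (Fin n) F))) = q ^ n - 1 := by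
  have : Nonempty (Fin n) := ⟨⟨0, hn⟩⟩
  set X : Matrix (Fin n) (Fin n) F := x.val with hXdef
  have := Fact.mk hirr
  let φ : AdjoinRoot (minpoly F X) →+* Matrix (Fin n) (Fin n) F :=
    Ideal.Quotient.lift (Ideal.span {minpoly F X}) (aeval X : F[X] →ₐ[F] _).toRingHom (fun a ha => by
      obtain ⟨c, rfl⟩ := Ideal.mem_span_singleton.1 ha
      simp [minpoly.aeval])
  have hφmk : ∀ P, φ (AdjoinRoot.mk _ P) = aeval X P := fun P => rfl
  have hφ : Function.Injective φ := φ.injective
  have hφr : φ (AdjoinRoot.root _) = X := (hφmk Polynomial.X).trans (aeval_X X)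
  have : Module.Finite F (AdjoinRoot (minpoly F X)) :=
    Module.Finite.of_basis (AdjoinRoot.powerBasis hirr.ne_zero).basis
  have hfr : Module.finrank F (AdjoinRoot (minpoly F X)) = n := by
    rw [(AdjoinRoot.powerBasis hirr.ne_zero).finrank, AdjoinRoot.powerBasis_dim, hd]
  have hcomm : ∀ a, φ a * X = X * φ a := fun a =>
    ((congrArg (φ a * ·) hφr).symm.trans ((map_mul φ _ _).symm.trans ((congrArg φ (mul_comm _ _)).trans
      (map_mul φ _ _)))).trans (congrArg (· * φ a) hφr)
  -- the commutant is the image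
  have key : ∀ Y : Matrix (Fin n) (Fin n) F, Y * X = X * Y → ∃ a, φ a = Y := by
    intro Y hY
    let v : Fin n → F := Pi.single ⟨0, hn⟩ 1
    let ev : AdjoinRoot (minpoly F X) →ₗ[F] (Fin n → F) :=
      { toFun := fun a => φ a *ᵥ v
        map_add' := fun a b => by simp [Matrix.add_mulVec]
        map_smul' := fun c a => by
          rw [Algebra.smul_def, map_mul, AdjoinRoot.algebraMap_eq, ← AdjoinRoot.mk_C, hφmk, aeval_C,
            ← Algebra.smul_def, Matrix.smul_mulVec, RingHom.id_apply] }
    have hev : Function.Injective ev := by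
      refine (injective_iff_map_eq_zero ev).2 fun a ha => by_contra fun ha0 => ?_
      have h1 : φ a⁻¹ *ᵥ (φ a *ᵥ v) = 0 := by rw [show φ a *ᵥ v = 0 from ha, Matrix.mulVec_zero]
      rw [Matrix.mulVec_mulVec, ← map_mul, inv_mul_cancel₀ ha0, map_one, Matrix.one_mulVec] at h1
      simpa [v] using congrFun h1 ⟨0, hn⟩
    have hes : Function.Surjective ev :=
      (LinearMap.injective_iff_surjective_of_finrank_eq_finrank (by
        rw [hfr, Module.finrank_fin_fun])).1 hev
    obtain ⟨a, ha⟩ := hes (Y *ᵥ v)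
    refine ⟨a, Matrix.ext_of_mulVec_single fun i => ?_⟩
    obtain ⟨b, hb⟩ := hes (Pi.single i 1)
    have hYb : ∀ b, Y * φ b = φ b * Y := fun b => by
      induction b using AdjoinRoot.induction_on with
      | _ P =>
        rw [hφmk]
        show Commute Y (aeval X P)
        induction P using Polynomial.induction_on' with
        | add a b ha hb => rw [map_add]; exact ha.add_right hb
        | monomial k c =>
          rw [aeval_monomial]
          exact (Algebra.commute_algebraMap_right c Y).mul_right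
            ((show Commute Y X from hY).pow_right k)
    rw [← hb]
    show φ a *ᵥ (φ b *ᵥ v) = Y *ᵥ (φ b *ᵥ v)
    rw [Matrix.mulVec_mulVec, ← map_mul, mul_comm, map_mul, ← Matrix.mulVec_mulVec,
      show φ a *ᵥ v = Y *ᵥ v from ha, Matrix.mulVec_mulVec, Matrix.mulVec_mulVec, hYb]
  let ψ : (AdjoinRoot (minpoly F X))ˣ →* GL (Fin n) F := Units.map φ.toMonoidHom
  have hψ : Function.Injective ψ := Units.map_injective hφ
  have hrange : ψ.range = Subgroup.centralizer ({x} : Set (GL (Fin n) F)) := by
    ext y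
    rw [Subgroup.mem_centralizer_singleton_iff, MonoidHom.mem_range]
    constructor
    · rintro ⟨a, rfl⟩
      exact Units.ext (hcomm a)
    · intro hy
      obtain ⟨a, ha⟩ := key y.val (congrArg Units.val hy)
      obtain ⟨b, hb⟩ := key (y⁻¹ : GL (Fin n) F).val
        (congrArg Units.val (Commute.inv_left (show Commute y x from hy)))
      refine ⟨⟨a, b, hφ ?_, hφ ?_⟩, Units.ext ha⟩
      · rw [map_mul, ha, hb, map_one, Units.mul_inv]
      · rw [map_mul, ha, hb, map_one, Units.inv_mul]
  have : Finite (AdjoinRoot (minpoly F X)) := Module.finite_of_finite F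
  rw [← hrange]
  refine ⟨(MonoidHom.ofInjective hψ).isCyclic.1 inferInstance, ?_⟩
  rw [← Nat.card_congr (MonoidHom.ofInjective hψ).toEquiv, Nat.card_units,
    Module.natCard_eq_pow_finrank (K := F), hfr, Nat.card_eq_fintype_card, hF]

end Cfsg.Agent.PPDCentralizer
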