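import Cfsg.Agent.Lib.Classical.PSLRootGroups
import Cfsg.Agent.Lib.Classical.SLNormal

/-!
Every automorphism of `PSL_n(F)` is semilinear, possibly after the inverse transpose: it permutes
the coordinate root groups like a frame, and on them it is given by one field automorphism.
-/

set_option autoImplicit false
set_option linter.unusedSectionVars false

namespace Cfsg.Agent.Classical.PSLAut

open Matrix
open scoped commutatorElement

variable {F : Type*} [Field F] [Fintype F] {n : ℕ}

local notation "SLn" => Matrix.SpecialLinearGroup (Fin n) F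
local notation "PSLn" => Matrix.ProjectiveSpecialLinearGroup (Fin n) F
local notation "Mn" => Matrix (Fin n) (Fin n) F

/-- The coordinate root element `1 + c E_ij` in `PSL_n`. -/
def rootElt {i j : Fin n} (h : i ≠ j) (c : F) : PSLn :=
  slToPSL n F (Matrix.SpecialLinearGroup.transvection h c)

/-- The coordinate root group. -/
def rootIJ (i j : Fin n) : Set (Matrix.ProjectiveSpecialLinearGroup (Fin n) F) :=
  rootSet (Pi.single i 1) (Pi.single j 1)

theorem isRootPair_single {i j : Fin n} (h : i ≠ j) :
    IsRootPair (Pi.single i 1 : Fin n → F) (Pi.single j 1) :=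
  ⟨by simp, by simp, by rw [single_one_dotProduct, Pi.single_eq_of_ne h.symm]⟩

theorem transvection_eq_tvm {i j : Fin n} (h : i ≠ j) (c : F) :
    ((Matrix.SpecialLinearGroup.transvection h c : SLn) : Mn) =
      tvm (Pi.single i 1) (Pi.single j 1) c := by
  rw [tvm, ← Matrix.single_eq_single_vecMulVec_single, Matrix.smul_single, smul_eq_mul, mul_one,
    Matrix.SpecialLinearGroup.transvection_coe]

theorem mem_rootIJ {i j : Fin n} (h : i ≠ j) {x : PSLn} :
    x ∈ rootIJ i j ↔ ∃ c : F, rootElt h c = x := by
  constructor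
  · rintro ⟨c, s, hs, rfl⟩
    exact ⟨c, congrArg _ (Subtype.ext (by rw [hs, transvection_eq_tvm]))⟩
  · rintro ⟨c, rfl⟩
    exact ⟨c, _, transvection_eq_tvm h c, rfl⟩

theorem rootElt_add {i j : Fin n} (h : i ≠ j) (c d : F) :
    rootElt h (c + d) = rootElt h c * rootElt h d := by
  rw [rootElt, rootElt, rootElt, ← map_mul]
  congr 1
  exact Subtype.ext (by
    rw [Matrix.SpecialLinearGroup.coe_mul]
    simp only [Matrix.SpecialLinearGroup.transvection_coe]
    exact (Matrix.transvection_mul_transvection_same i j h c d).symm)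

theorem rootElt_injective {i j : Fin n} (h : i ≠ j) :
    Function.Injective (rootElt (F := F) h) := by
  haveI : NeZero n := ⟨by have := i.2; omega⟩
  intro c d he
  have hp := (isRootPair_single (F := F) h).2.2
  have := eq_of_slToPSL_eq (A := c • Matrix.vecMulVec (Pi.single i 1) (Pi.single j 1))
    (B := d • Matrix.vecMulVec (Pi.single i 1) (Pi.single j 1))
    (transvection_eq_tvm h c) (transvection_eq_tvm h d) (vmv_sq hp c) (vmv_sq hp d) he
  have := congrFun (congrFun this i) j
  simpa [Matrix.vecMulVec_apply] using this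

theorem rootElt_comm {i j k : Fin n} (hij : i ≠ j) (hik : i ≠ k) (hkj : k ≠ j) (a b : F) :
    ⁅rootElt hik a, rootElt hkj b⁆ = rootElt hij (a * b) := by
  rw [rootElt, rootElt, rootElt, ← map_commutatorElement]
  congr 1
  rw [commutatorElement_def, Matrix.SpecialLinearGroup.transvection_inv,
    Matrix.SpecialLinearGroup.transvection_inv]
  refine Subtype.ext ?_
  simp only [Matrix.SpecialLinearGroup.coe_mul, Matrix.SpecialLinearGroup.transvection_coe]
  simp [mul_add, add_mul, Matrix.single_mul_single_same,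
    Matrix.single_mul_single_of_ne, hij, hij.symm, hik, hik.symm, hkj, hkj.symm]
  ext u v
  simp only [Matrix.add_apply, Matrix.single_apply, Matrix.one_apply, Matrix.neg_apply]
  split_ifs <;> ring

theorem pslSemi_rootElt {g : GL (Fin n) F} {d : Fin n → F} (hg : (g : Mn) = Matrix.diagonal d)
    (σ : F ≃+* F) {i j : Fin n} (h : i ≠ j) (c : F) :
    pslSemi g σ (rootElt h c) = rootElt h (d i * σ c / d j) := by
  have hd : ∀ k, d k ≠ 0 := fun k hk => by
    have h1 : (g : Mn).det ≠ 0 := (g.det_ne_zero)
    rw [hg, Matrix.det_diagonal] at h1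
    exact h1 (Finset.prod_eq_zero (Finset.mem_univ k) hk)
  rw [rootElt, rootElt, pslSemi_mk]
  congr 1
  refine Subtype.ext ?_
  rw [slSemi_coe, Matrix.coe_units_inv, hg]
  have : (Matrix.diagonal d)⁻¹ = Matrix.diagonal fun k => (d k)⁻¹ := by
    refine Matrix.inv_eq_right_inv ?_
    rw [Matrix.diagonal_mul_diagonal, ← Matrix.diagonal_one]
    exact congrArg _ (funext fun k => mul_inv_cancel₀ (hd k))
  rw [this, transvection_eq_tvm, transvection_eq_tvm]
  ext u v
  rw [Matrix.mul_diagonal, Matrix.diagonal_mul]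
  simp only [tvm, Matrix.map_apply, Matrix.add_apply, Matrix.smul_apply, Matrix.vecMulVec_apply,
    Matrix.one_apply, map_add, smul_eq_mul]
  by_cases huv : u = v
  · subst huv
    have : ((Pi.single i 1 : Fin n → F) u * (Pi.single j 1 : Fin n → F) u) = 0 := by
      by_cases hu : u = i
      · subst hu; simp [h]
      · simp [hu]
    simp [this, hd u]
  · simp only [if_neg huv, zero_add, map_zero]
    by_cases hu : u = i <;> by_cases hv : v = j
    · subst hu hv; simp; ring
    all_goals simp [*]

variable {p : ℕ} [Fact p.Prime] [CharP F p]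

include p in
/-- A frame: after inverse transpose and a linear map every coordinate root group is fixed. -/
theorem exists_frame (hn : 2 ≤ n) (β : MulAut PSLn) :
    ∃ (ε : ℕ) (g : GL (Fin n) F), ε ≤ 1 ∧ (n = 2 → ε = 0) ∧ ∀ i j : Fin n, i ≠ j →
      ⇑((pslSemi g (RingEquiv.refl F) * (β * pslInvT ^ ε) : MulAut PSLn)) '' rootIJ i j = rootIJ i j := by
  classical
  haveI : NeZero n := ⟨by omega⟩
  -- the frame from centres `u` and axes `χ`
  have frame : ∀ (γ : MulAut PSLn) (u χ : Fin n → Fin n → Fin n → F),
      (∀ i j, i ≠ j → IsRootPair (u i j) (χ i j) ∧ γ '' rootIJ i j = rootSet (u i j) (χ i j)) →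
      (∀ i j l, i ≠ j → i ≠ l → Par (u i j) (u i l)) →
      (∀ i k j, i ≠ j → k ≠ j → Par (χ i j) (χ k j)) →
      ∃ g : GL (Fin n) F, ∀ i j : Fin n, i ≠ j →
        ⇑(pslSemi g (RingEquiv.refl F) * γ) '' rootIJ i j = rootIJ i j := by
    intro γ u χ hγ hu hχ
    have hex : ∀ i : Fin n, ∃ j, i ≠ j := fun i =>
      Fintype.exists_ne_of_one_lt_card (by simp; omega) i |>.imp fun j hj => hj.symm
    choose o ho using hex
    set v : Fin n → Fin n → F := fun i => u i (o i)
    set φ : Fin n → Fin n → F := fun j => χ (o j) j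
    have hv : ∀ i j, i ≠ j → Par (v i) (u i j) := fun i j h => hu i (o i) j (ho i) h
    have hφ : ∀ i j, i ≠ j → Par (φ j) (χ i j) := fun i j h => hχ (o j) i j (ho j).symm h
    have hv0 : ∀ i, v i ≠ 0 := fun i => (hγ i (o i) (ho i)).1.1
    have hφ0 : ∀ j, φ j ≠ 0 := fun j => (hγ (o j) j (ho j).symm).1.2.1
    have hz : ∀ i j, i ≠ j → φ j ⬝ᵥ v i = 0 := fun i j h => by
      obtain ⟨hr, -⟩ := hγ i j h
      obtain ⟨a, ha⟩ := (hv i j h).symm.exists_smul hr.1
      obtain ⟨b, hb⟩ := (hφ i j h).symm.exists_smul hr.2.1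
      rw [ha, hb, smul_dotProduct, dotProduct_smul, hr.2.2, smul_zero, smul_zero]
    have hnz : ∀ i, φ i ⬝ᵥ v i ≠ 0 := by
      intro i h0
      have hio := ho i
      obtain ⟨hr, e1⟩ := hγ i (o i) hio
      by_cases h3 : ∃ k, k ≠ i ∧ k ≠ o i
      · obtain ⟨k, hki, hko⟩ := h3
        obtain ⟨hr', e2⟩ := hγ k i hki
        have := (comm_iff (β := γ) (isRootPair_single hio) (isRootPair_single hki) hr hr' e1 e2).2 ?_
        · simpa [single_one_dotProduct] using this.2
        · constructor
          · obtain ⟨a, ha⟩ := (hv k i hki).exists_smul (hv0 k)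
            obtain ⟨b, hb⟩ := (hφ i (o i) hio).exists_smul (hφ0 _)
            rw [ha, hb, smul_dotProduct, dotProduct_smul, hz k (o i) hko, smul_zero, smul_zero]
          · obtain ⟨b, hb⟩ := (hφ k i hki).exists_smul (hφ0 i)
            rw [hb, smul_dotProduct]
            rw [show u i (o i) = v i from rfl, h0, smul_zero]
      · -- only two indices
        push Not at h3
        obtain ⟨hr', e2⟩ := hγ (o i) i hio.symm
        have := (comm_iff (β := γ) (isRootPair_single hio) (isRootPair_single hio.symm) hr hr' e1 e2).2 ?_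
        · simp at this
        · have hm : ∀ k, k = i ∨ k = o i := fun k => or_iff_not_imp_left.2 (h3 k)
          -- then the two centres are proportional
          have hcl : Par (v i) (v (o i)) := by
            obtain ⟨t, ht⟩ := Function.ne_iff.1 (hφ0 i)
            have e3 := hz (o i) i hio.symm
            have huniv : (Finset.univ : Finset (Fin n)) = {i, o i} := by
              ext k; simp [hm k]
            simp only [dotProduct, huniv, Finset.sum_pair hio] at h0 e3
            simp only [Pi.zero_apply] at ht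
            intro a b
            rcases hm a with ha | ha <;> rcases hm b with hb | hb <;> rw [ha, hb]
            all_goals first
              | ring1
              | rcases hm t with htt | htt <;> rw [htt] at ht <;> refine mul_left_cancel₀ ht ?_
            · linear_combination v (o i) (o i) * h0 - v i (o i) * e3
            · linear_combination v i i * e3 - v (o i) i * h0
            · linear_combination v i (o i) * e3 - v (o i) (o i) * h0
            · linear_combination v (o i) i * h0 - v i i * e3
          obtain ⟨a, ha⟩ := (hcl.trans (hv0 (o i)) (hv (o i) i hio.symm)).exists_smul (hv0 i)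
          obtain ⟨b, hb⟩ := (hφ (o i) i hio.symm).exists_smul (hφ0 i)
          exact ⟨by rw [ha, dotProduct_smul, show u i (o i) = v i from rfl] at *; exact
              (by rw [show v i = u i (o i) from rfl, hr.2.2, smul_zero]),
            by rw [hb, smul_dotProduct, show u i (o i) = v i from rfl, h0, smul_zero]⟩
    -- the matrix with rows `φ`
    have hmul : Matrix.of φ * (Matrix.of v)ᵀ = Matrix.diagonal fun i => φ i ⬝ᵥ v i := by
      ext a b
      rw [Matrix.mul_apply, Matrix.diagonal_apply]
      split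
      · next h => subst h; rfl
      · next h => exact hz b a (Ne.symm h)
    have hdet : IsUnit (Matrix.of v)ᵀ.det := by
      refine Ne.isUnit fun h => ?_
      have := congrArg Matrix.det hmul
      rw [Matrix.det_mul, h, mul_zero, Matrix.det_diagonal, eq_comm, Finset.prod_eq_zero_iff] at this
      obtain ⟨a, -, ha⟩ := this
      exact hnz a ha
    let G : GL (Fin n) F := Matrix.GeneralLinearGroup.mk'' (Matrix.of v)ᵀ hdet
    have hG : ∀ i, (G : Mn) *ᵥ Pi.single i 1 = v i := fun i => by
      ext k; simp [G]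
    have hGφ : ∀ j, φ j ᵥ* (G : Mn) = (φ j ⬝ᵥ v j) • Pi.single j 1 := fun j => by
      ext k
      have := congrFun (congrFun hmul j) k
      rw [Matrix.mul_apply, Matrix.diagonal_apply] at this
      refine this.trans ?_
      by_cases hjk : j = k
      · subst hjk; simp
      · simp [hjk, Ne.symm hjk]
    refine ⟨G⁻¹, fun i j hij => ?_⟩
    obtain ⟨hr, e⟩ := hγ i j hij
    have hs : rootSet (u i j) (χ i j) = pslSemi G (RingEquiv.refl F) '' rootIJ i j := by
      rw [rootIJ, image_rootSet]
      have hp := (isRootPair_single (F := F) hij).semi G (RingEquiv.refl F)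
      refine rootSet_eq_of_par hr.1 hr.2.1 hp.1 hp.2.1 ?_ ?_
      · show Par _ ((G : Mn) *ᵥ Pi.single i 1)
        rw [hG]; exact (hv i j hij).symm
      · show Par _ ((Pi.single j 1 : Fin n → F) ᵥ* ((G⁻¹ : GL (Fin n) F) : Mn))
        have h1 : φ j = (φ j ⬝ᵥ v j) • ((Pi.single j 1 : Fin n → F) ᵥ* ((G⁻¹ : GL (Fin n) F) : Mn)) := by
          rw [← Matrix.smul_vecMul, ← hGφ, Matrix.vecMul_vecMul, Units.mul_inv, Matrix.vecMul_one]
        refine (hφ i j hij).symm.trans (hφ0 j) (Par.symm ?_)
        conv_rhs => rw [h1]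
        exact par_smul _ _
    rw [show ⇑(pslSemi G⁻¹ (RingEquiv.refl F) * γ) =
      ⇑(pslSemi G⁻¹ (RingEquiv.refl F)) ∘ ⇑γ from rfl, Set.image_comp, e, hs, ← pslSemi_refl_inv,
      Set.image_image]
    simp
  -- the images of the root groups
  have hex : ∀ i j : Fin n, ∃ u χ : Fin n → F, i ≠ j →
      IsRootPair u χ ∧ β '' rootIJ i j = rootSet u χ := fun i j => by
    by_cases h : i = j
    · exact ⟨0, 0, fun h' => absurd h h'⟩
    · obtain ⟨w, ψ, hw, he⟩ := exists_image_root (p := p) hn β (isRootPair_single h)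
      exact ⟨w, ψ, fun _ => ⟨hw, he⟩⟩
  choose u χ hu using hex
  rcases hn.eq_or_lt with hn2 | hn3
  · obtain ⟨g, hg⟩ := frame β u χ hu
      (fun i j l h h' => by
        obtain rfl : j = l := by subst hn2; omega
        exact Par.refl _)
      (fun i k j h h' => by
        obtain rfl : i = k := by subst hn2; omega
        exact Par.refl _)
    exact ⟨0, g, zero_le_one, fun _ => rfl, fun i j h => by rw [pow_zero, mul_one]; exact hg i j h⟩
  -- `n ≥ 3`
  have share : ∀ {i j k l : Fin n}, i ≠ j → k ≠ l →
      ((i = k ∨ j = l) ↔ (Par (u i j) (u k l) ∨ Par (χ i j) (χ k l))) := by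
    intro i j k l h h'
    rw [← share_iff (p := p) hn β (isRootPair_single h) (isRootPair_single h') (hu i j h).1
      (hu k l h').1 (hu i j h).2 (hu k l h').2]
    have key : ∀ a b : Fin n, Par (Pi.single a 1 : Fin n → F) (Pi.single b 1) ↔ a = b := by
      intro a b
      refine ⟨fun hp => ?_, fun e => e ▸ Par.refl _⟩
      have := hp a b
      by_contra hne
      simp [hne, Ne.symm hne] at this
    rw [key, key]
  have notboth : ∀ {i j k l : Fin n}, i ≠ j → k ≠ l → (i ≠ k ∨ j ≠ l) →
      ¬ (Par (u i j) (u k l) ∧ Par (χ i j) (χ k l)) := by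
    rintro i j k l h h' hne ⟨h1, h2⟩
    obtain ⟨r1, e1⟩ := hu i j h
    obtain ⟨r2, e2⟩ := hu k l h'
    rw [rootSet_eq_of_par r1.1 r1.2.1 r2.1 r2.2.1 h1 h2, ← e2] at e1
    have hm : rootElt h (1 : F) ∈ rootIJ k l := by
      rw [← (Set.image_injective.2 β.injective) e1]
      exact (mem_rootIJ h).2 ⟨1, rfl⟩
    obtain ⟨c, hc⟩ := (mem_rootIJ h').1 hm
    have := eq_of_slToPSL_eq (transvection_eq_tvm h' c) (transvection_eq_tvm h (1 : F))
      (vmv_sq (isRootPair_single (F := F) h').2.2 c) (vmv_sq (isRootPair_single (F := F) h).2.2 1) hc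
    have := congrFun (congrFun this i) j
    rcases hne with hne | hne <;> simp [Matrix.vecMulVec_apply, hne] at this
  -- in each row: all centres equal, or all axes
  let R : Fin n → Prop := fun i => ∀ j l, i ≠ j → i ≠ l → Par (u i j) (u i l)
  let C : Fin n → Prop := fun j => ∀ i k, i ≠ j → k ≠ j → Par (u i j) (u k j)
  have rowAxis : ∀ i, ¬ R i → ∀ j l, i ≠ j → i ≠ l → Par (χ i j) (χ i l) := by
    intro i hR
    simp only [R, not_forall] at hR
    obtain ⟨j0, l0, hj0, hl0, hnp⟩ := hR
    have hp0 : Par (χ i j0) (χ i l0) := ((share hj0 hl0).1 (Or.inl rfl)).resolve_left hnp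
    have hne0 : j0 ≠ l0 := fun e => hnp (e ▸ Par.refl _)
    have base : ∀ m, i ≠ m → Par (χ i j0) (χ i m) := by
      intro m hm
      rcases (share hj0 hm).1 (Or.inl rfl) with h1 | h1
      · rcases (share hl0 hm).1 (Or.inl rfl) with h2 | h2
        · exact absurd (h1.trans (hu i m hm).1.1 h2.symm) hnp
        · exact hp0.trans (hu i l0 hl0).1.2.1 h2
      · exact h1
    intro j l hj hl
    exact (base j hj).symm.trans (hu i j0 hj0).1.2.1 (base l hl)
  have colAxis : ∀ j, ¬ C j → ∀ i k, i ≠ j → k ≠ j → Par (χ i j) (χ k j) := by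
    intro j hC
    simp only [C, not_forall] at hC
    obtain ⟨i0, k0, hi0, hk0, hnp⟩ := hC
    have hp0 : Par (χ i0 j) (χ k0 j) := ((share hi0 hk0).1 (Or.inr rfl)).resolve_left hnp
    have base : ∀ m, m ≠ j → Par (χ i0 j) (χ m j) := by
      intro m hm
      rcases (share hi0 hm).1 (Or.inr rfl) with h1 | h1
      · rcases (share hk0 hm).1 (Or.inr rfl) with h2 | h2
        · exact absurd (h1.trans (hu m j hm).1.1 h2.symm) hnp
        · exact hp0.trans (hu k0 j hk0).1.2.1 h2
      · exact h1
    intro i k hi hk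
    exact (base i hi).symm.trans (hu i0 j hi0).1.2.1 (base k hk)
  have third : ∀ a b : Fin n, ∃ c, c ≠ a ∧ c ≠ b := by
    intro a b
    obtain ⟨c, hc⟩ := Finset.exists_mem_notMem_of_card_lt_card (s := ({a, b} : Finset (Fin n)))
      (t := Finset.univ) (lt_of_le_of_lt Finset.card_le_two (by simp; omega))
    exact ⟨c, by simpa using hc⟩
  have hRC : ∀ i j, i ≠ j → (R i ↔ ¬ C j) := by
    intro i j h
    obtain ⟨m, hmi, hmj⟩ := third i j
    have hcross : ¬ ((i = m) ∨ (m = j)) := by simp [hmj, hmi.symm]
    constructor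
    · intro hR hC
      exact hcross ((share hmi.symm hmj).2 (Or.inl ((hR m j hmi.symm h).trans (hu i j h).1.1
        (hC i m h hmj))))
    · intro hC
      by_contra hR
      exact hcross ((share hmi.symm hmj).2 (Or.inr ((rowAxis i hR m j hmi.symm h).trans
        (hu i j h).1.2.1 (colAxis j hC i m h hmj))))
  have hconst : ∀ i k, R i ↔ R k := fun i k => by
    obtain ⟨m, hmi, hmk⟩ := third i k
    rw [hRC i m hmi.symm, hRC k m hmk.symm]
  by_cases hR : ∀ i, R i
  · have hC : ∀ j, ¬ C j := fun j => by
      obtain ⟨m, hm, -⟩ := third j j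
      exact (hRC m j hm).1 (hR m)
    obtain ⟨g, hg⟩ := frame β u χ hu (fun i j l => hR i j l) (fun i k j => colAxis j (hC j) i k)
    exact ⟨0, g, zero_le_one, fun _ => rfl, fun i j h => by rw [pow_zero, mul_one]; exact hg i j h⟩
  · obtain ⟨i0, hi0⟩ := not_forall.1 hR
    have hR' : ∀ i, ¬ R i := fun i h => hi0 ((hconst i i0).1 h)
    have hC : ∀ j, C j := fun j => by
      obtain ⟨m, hm, -⟩ := third j j
      by_contra hc
      exact hR' m ((hRC m j hm).2 hc)
    obtain ⟨g, hg⟩ := frame (β * pslInvT) (fun i j => u j i) (fun i j => χ j i)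
      (fun i j h => ⟨(hu j i h.symm).1, by
        rw [show ⇑((β * pslInvT : MulAut PSLn)) = ⇑β ∘ ⇑(pslInvT : MulAut PSLn) from rfl, Set.image_comp, rootIJ,
          image_rootSet_invT _ _ (isRootPair_single h).2.2]
        exact (hu j i h.symm).2⟩)
      (fun i j l h h' => hC i j l h.symm h'.symm)
      (fun i k j h h' => rowAxis j (hR' j) i k h.symm h'.symm)
    exact ⟨1, g, le_rfl, fun h => by omega, fun i j h => by rw [pow_one]; exact hg i j h⟩

/-- Two automorphisms agreeing on all coordinate root elements are equal. -/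
theorem ext_rootElt {β γ : MulAut PSLn}
    (h : ∀ (i j : Fin n) (hij : i ≠ j) (c : F), β (rootElt hij c) = γ (rootElt hij c)) : β = γ := by
  refine MulEquiv.ext fun x => ?_
  obtain ⟨s, rfl⟩ := slToPSL_surjective x
  have heq : β.toMonoidHom.comp (slToPSL n F) = γ.toMonoidHom.comp (slToPSL n F) := by
    refine MonoidHom.eq_of_eqOn_dense SL_closure_transvections ?_
    rintro _ ⟨⟨i, j, hij, c⟩, rfl⟩
    exact h i j hij c
  exact DFunLike.congr_fun heq s

theorem exists_sq_sub_sq (t : F) : ∃ a b : F, t = a ^ 2 - b ^ 2 := by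
  by_cases h2 : (2 : F) = 0
  · haveI : CharP F 2 := CharTwo.of_one_ne_zero_of_two_eq_zero one_ne_zero h2
    obtain ⟨a, ha⟩ := FiniteField.isSquare_of_char_two (ringChar.eq F 2) t
    exact ⟨a, 0, by rw [ha]; ring⟩
  · refine ⟨(t + 1) / 2, (t - 1) / 2, ?_⟩
    field_simp
    ring

theorem mul_of_add_of_sq {f : F → F} (ha : ∀ x y, f (x + y) = f x + f y)
    (hsq : ∀ a t, f (a ^ 2 * t) = f (a ^ 2) * f t) (x y : F) : f (x * y) = f x * f y := by
  have hs : ∀ x y, f (x - y) = f x - f y := fun x y => by
    rw [eq_sub_iff_add_eq, ← ha, sub_add_cancel]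
  obtain ⟨a, b, rfl⟩ := exists_sq_sub_sq x
  rw [sub_mul, hs, hs, hsq, hsq, sub_mul]

/-- An automorphism fixing every coordinate root group is diagonal times a field automorphism. -/
theorem exists_param_of_fix (hn : 2 ≤ n) {β : MulAut PSLn}
    (hfix : ∀ i j : Fin n, i ≠ j → β '' rootIJ i j = rootIJ i j) :
    ∃ (g : GL (Fin n) F) (σ : F ≃+* F), β = pslSemi g σ := by
  classical
  have hex : ∀ (i j : Fin n) (c : F), ∃ d : F, ∀ h : i ≠ j, β (rootElt h c) = rootElt h d := by
    intro i j c
    by_cases h : i = j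
    · exact ⟨0, fun h' => absurd h h'⟩
    · have h1 : β (rootElt h c) ∈ rootIJ i j := by
        rw [← hfix i j h]
        exact Set.mem_image_of_mem β ((mem_rootIJ h).2 ⟨c, rfl⟩)
      obtain ⟨d, hd⟩ := (mem_rootIJ h).1 h1
      exact ⟨d, fun _ => hd.symm⟩
  choose f hf using hex
  have hinj : ∀ i j, i ≠ j → Function.Injective (f i j) := fun i j h c d e =>
    rootElt_injective h (β.injective (by rw [hf i j c h, hf i j d h, e]))
  have hadd : ∀ i j, i ≠ j → ∀ x y, f i j (x + y) = f i j x + f i j y := fun i j h x y =>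
    rootElt_injective h (by rw [← hf i j _ h, rootElt_add, map_mul, hf i j x h, hf i j y h, rootElt_add])
  have hzero : ∀ i j, i ≠ j → f i j 0 = 0 := fun i j h => by
    have := hadd i j h 0 0
    rwa [add_zero, left_eq_add] at this
  have hone : ∀ i j, i ≠ j → f i j 1 ≠ 0 := fun i j h e =>
    one_ne_zero (hinj i j h (by rw [e, hzero i j h]))
  -- normalise by a diagonal matrix
  set o : Fin n := ⟨0, by omega⟩
  set d : Fin n → F := fun k => if k = o then 1 else f k o 1
  have hd : ∀ k, d k ≠ 0 := fun k => by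
    by_cases hk : k = o <;> simp [d, hk, hone]
  obtain ⟨g, hg⟩ : ∃ g : GL (Fin n) F, (g : Mn) = Matrix.diagonal d :=
    ⟨Matrix.GeneralLinearGroup.mk'' (Matrix.diagonal d) (by
      rw [Matrix.det_diagonal]; exact Ne.isUnit (Finset.prod_ne_zero_iff.2 fun k _ => hd k)), rfl⟩
  set F' : Fin n → Fin n → F → F := fun i j c => f i j c * d j / d i
  have hF'add : ∀ i j, i ≠ j → ∀ x y, F' i j (x + y) = F' i j x + F' i j y := fun i j h x y => by
    simp only [F', hadd i j h x y]; ring
  have hF'o : ∀ i, i ≠ o → F' i o 1 = 1 := fun i hi => by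
    simp [F', d, hi, hone i o hi]
  -- a common field automorphism suffices
  suffices H : ∃ σ : F → F, (∀ x y, σ (x * y) = σ x * σ y) ∧ (∀ i j, i ≠ j → ∀ c, F' i j c = σ c) by
    obtain ⟨σ, hmul, hσ⟩ := H
    set o' : Fin n := ⟨1, by omega⟩
    have hoo : o' ≠ o := by simp [o, o', Fin.ext_iff]
    have hσeq : σ = F' o' o := funext fun c => (hσ o' o hoo c).symm
    have hσinj : Function.Injective σ := fun x y e => by
      rw [hσeq] at e
      simp only [F'] at e
      field_simp [hd] at e
      exact hinj o' o hoo e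
    let τ : F ≃+* F := RingEquiv.ofBijective
      ({ toFun := σ
         map_one' := by rw [hσeq]; exact hF'o o' hoo
         map_mul' := hmul
         map_zero' := by rw [hσeq]; simp [F', hzero o' o hoo]
         map_add' := fun x y => by rw [hσeq]; exact hF'add o' o hoo x y } : F →+* F)
      ⟨hσinj, Finite.surjective_of_injective hσinj⟩
    refine ⟨g, τ, ext_rootElt fun i j hij c => ?_⟩
    rw [pslSemi_rootElt hg, hf i j c hij]
    congr 1
    show f i j c = d i * σ c / d j
    rw [← hσ i j hij c]
    simp only [F']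
    field_simp [hd]
  rcases hn.eq_or_lt with hn2 | hn3
  · -- the case `n = 2`
    subst hn2
    have h01 : (1 : Fin 2) ≠ 0 := by decide
    have ho : o = 0 := rfl
    set φ := F' 1 0
    set ψ := F' 0 1
    have hφ1 : φ 1 = 1 := by
      have := hF'o 1 (ho ▸ h01)
      rwa [ho] at this
    -- the torus
    have htor : ∀ a : F, a ≠ 0 → ∃ k : F, ∀ t,
        f 1 0 (a⁻¹ ^ 2 * t) = k * f 1 0 t ∧ f 0 1 (a ^ 2 * t) = k⁻¹ * f 0 1 t := by
      intro a ha
      obtain ⟨h, hh⟩ : ∃ h : Matrix.SpecialLinearGroup (Fin 2) F,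
          (h : Matrix (Fin 2) (Fin 2) F) = !![a, 0; 0, a⁻¹] :=
        ⟨⟨!![a, 0; 0, a⁻¹], by simp [Matrix.det_fin_two, ha]⟩, rfl⟩
      obtain ⟨M, hM⟩ := slToPSL_surjective (β (slToPSL 2 F h))
      have hconj : ∀ (i j : Fin 2) (hij : i ≠ j) (t s : F),
          h * Matrix.SpecialLinearGroup.transvection hij t =
            Matrix.SpecialLinearGroup.transvection hij s * h →
          (M : Matrix (Fin 2) (Fin 2) F) * (1 + Matrix.single i j (f i j t)) =
            (1 + Matrix.single i j (f i j s)) * (M : Matrix (Fin 2) (Fin 2) F) := by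
        intro i j hij t s he
        have h1 := congrArg (fun z => β (slToPSL 2 F z)) he
        simp only [map_mul] at h1
        rw [← hM, show slToPSL 2 F (Matrix.SpecialLinearGroup.transvection hij t) = rootElt hij t
          from rfl, show slToPSL 2 F (Matrix.SpecialLinearGroup.transvection hij s) = rootElt hij s
          from rfl, hf i j t hij, hf i j s hij] at h1
        have h2 : slToPSL 2 F (M * Matrix.SpecialLinearGroup.transvection hij (f i j t) * M⁻¹) =
            rootElt hij (f i j s) := by
          rw [map_mul, map_mul, map_inv]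
          exact mul_inv_eq_iff_eq_mul.2 h1
        set A : Matrix (Fin 2) (Fin 2) F := (M : Matrix (Fin 2) (Fin 2) F) *
          Matrix.single i j (f i j t) * ((M⁻¹ : Matrix.SpecialLinearGroup (Fin 2) F) : Matrix (Fin 2) (Fin 2) F)
        have hMi : ((M⁻¹ : Matrix.SpecialLinearGroup (Fin 2) F) : Matrix (Fin 2) (Fin 2) F) *
            (M : Matrix (Fin 2) (Fin 2) F) = 1 := by
          rw [← Matrix.SpecialLinearGroup.coe_mul, inv_mul_cancel]; rfl
        have hA : A * A = 0 := by
          simp only [A, Matrix.mul_assoc]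
          rw [← Matrix.mul_assoc ((M⁻¹ : Matrix.SpecialLinearGroup (Fin 2) F) : Matrix (Fin 2) (Fin 2) F),
            hMi, Matrix.one_mul, ← Matrix.mul_assoc (Matrix.single i j (f i j t))]
          simp [Matrix.single_mul_single_of_ne, hij.symm]
        have h3 := eq_of_slToPSL_eq (A := A) (B := Matrix.single i j (f i j s))
          (by rw [Matrix.SpecialLinearGroup.coe_mul, Matrix.SpecialLinearGroup.coe_mul,
                Matrix.SpecialLinearGroup.transvection_coe, mul_add, add_mul, mul_one,
                ← Matrix.SpecialLinearGroup.coe_mul, mul_inv_cancel]; rfl)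
          (Matrix.SpecialLinearGroup.transvection_coe hij _) hA
          (by simp [Matrix.single_mul_single_of_ne, hij.symm]) h2
        rw [mul_add, add_mul, mul_one, one_mul, add_right_inj, ← h3]
        simp only [A, Matrix.mul_assoc, hMi, Matrix.mul_one]
      have e1 : ∀ t, (M : Matrix (Fin 2) (Fin 2) F) * (1 + Matrix.single 1 0 (f 1 0 t)) =
          (1 + Matrix.single 1 0 (f 1 0 (a⁻¹ ^ 2 * t))) * (M : Matrix (Fin 2) (Fin 2) F) := fun t =>
        hconj 1 0 h01 t _ (Matrix.SpecialLinearGroup.ext _ _ fun u v => by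
          fin_cases u <;> fin_cases v <;>
            simp [hh, Matrix.SpecialLinearGroup.coe_mul, Matrix.SpecialLinearGroup.transvection_coe,
              Matrix.mul_apply, Fin.sum_univ_two, Matrix.one_apply, Matrix.single_apply] <;> field_simp)
      have e2 : ∀ t, (M : Matrix (Fin 2) (Fin 2) F) * (1 + Matrix.single 0 1 (f 0 1 t)) =
          (1 + Matrix.single 0 1 (f 0 1 (a ^ 2 * t))) * (M : Matrix (Fin 2) (Fin 2) F) := fun t =>
        hconj 0 1 h01.symm t _ (Matrix.SpecialLinearGroup.ext _ _ fun u v => by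
          fin_cases u <;> fin_cases v <;>
            simp [hh, Matrix.SpecialLinearGroup.coe_mul, Matrix.SpecialLinearGroup.transvection_coe,
              Matrix.mul_apply, Fin.sum_univ_two, Matrix.one_apply, Matrix.single_apply] <;> field_simp)
      have m01 : (M : Matrix (Fin 2) (Fin 2) F) 0 1 = 0 := by
        have := congrFun (congrFun (e1 1) 0) 0
        simp [Matrix.mul_apply, Fin.sum_univ_two, Matrix.one_apply, Matrix.single_apply] at this
        tauto
      have m10 : (M : Matrix (Fin 2) (Fin 2) F) 1 0 = 0 := by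
        have := congrFun (congrFun (e2 1) 1) 1
        simp [Matrix.mul_apply, Fin.sum_univ_two, Matrix.one_apply, Matrix.single_apply] at this
        tauto
      have hdm := M.2
      rw [Matrix.det_fin_two, m01, m10, mul_zero, sub_zero] at hdm
      have hm0 : (M : Matrix (Fin 2) (Fin 2) F) 0 0 ≠ 0 := fun e => by simp [e] at hdm
      have hm1 : (M : Matrix (Fin 2) (Fin 2) F) 1 1 ≠ 0 := fun e => by simp [e] at hdm
      refine ⟨(M : Matrix (Fin 2) (Fin 2) F) 1 1 / (M : Matrix (Fin 2) (Fin 2) F) 0 0, fun t => ⟨?_, ?_⟩⟩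
      · have := congrFun (congrFun (e1 t) 1) 0
        simp [Matrix.mul_apply, Fin.sum_univ_two, Matrix.one_apply, Matrix.single_apply, m10] at this
        rw [div_mul_eq_mul_div, eq_div_iff hm0, inv_pow]
        linear_combination -this
      · have := congrFun (congrFun (e2 t) 0) 1
        simp [Matrix.mul_apply, Fin.sum_univ_two, Matrix.one_apply, Matrix.single_apply, m01] at this
        rw [inv_div, div_mul_eq_mul_div, eq_div_iff hm1]
        linear_combination -this
    have hφsq : ∀ a t, φ (a ^ 2 * t) = φ (a ^ 2) * φ t := by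
      intro a t
      by_cases ha : a = 0
      · subst ha; simp [φ, F', hzero 1 0 h01]
      obtain ⟨k, hk⟩ := htor a⁻¹ (inv_ne_zero ha)
      have hk' : ∀ t, φ (a ^ 2 * t) = k * φ t := fun t => by
        simp only [φ, F']
        have := (hk t).1
        rw [inv_inv] at this
        rw [this]; ring
      rw [hk', show a ^ 2 = a ^ 2 * 1 by ring, hk' 1, hφ1, mul_one]
    have hmul : ∀ x y, φ (x * y) = φ x * φ y := mul_of_add_of_sq (hF'add 1 0 h01) hφsq
    have hψsq : ∀ a, ψ (a ^ 2) = φ (a ^ 2) * ψ 1 := by
      intro a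
      by_cases ha : a = 0
      · subst ha; simp [φ, ψ, F', hzero 1 0 h01, hzero 0 1 h01.symm]
      obtain ⟨k, hk⟩ := htor a ha
      have h1 : φ (a⁻¹ ^ 2) = k := by
        have := (hk 1).1
        rw [mul_one] at this
        have hφ1' := hφ1
        simp only [φ, F'] at hφ1' ⊢
        rw [this]; linear_combination k * hφ1'
      have h2 : φ (a ^ 2) = k⁻¹ := by
        refine eq_inv_of_mul_eq_one_left ?_
        rw [← h1, ← hmul, show a ^ 2 * a⁻¹ ^ 2 = 1 by field_simp, hφ1]
      have := (hk 1).2
      rw [mul_one] at this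
      rw [h2]
      simp only [ψ, F', this]
      ring
    have hψ : ∀ t, ψ t = φ t * ψ 1 := by
      intro t
      obtain ⟨a, b, rfl⟩ := exists_sq_sub_sq t
      have hs1 : ψ (a ^ 2 - b ^ 2) = ψ (a ^ 2) - ψ (b ^ 2) := by
        rw [eq_sub_iff_add_eq, ← hF'add 0 1 h01.symm, sub_add_cancel]
      have hs2 : φ (a ^ 2 - b ^ 2) = φ (a ^ 2) - φ (b ^ 2) := by
        rw [eq_sub_iff_add_eq, ← hF'add 1 0 h01, sub_add_cancel]
      rw [hs1, hs2, hψsq, hψsq, sub_mul]
    -- the Weyl element forces `ψ 1 = 1`
    have hw : ψ 1 = 1 := by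
      let w : Matrix.SpecialLinearGroup (Fin 2) F :=
        Matrix.SpecialLinearGroup.transvection h01.symm (1 : F) *
        Matrix.SpecialLinearGroup.transvection h01 (-1 : F) *
        Matrix.SpecialLinearGroup.transvection h01.symm (1 : F)
      let N : Matrix.SpecialLinearGroup (Fin 2) F :=
        Matrix.SpecialLinearGroup.transvection h01.symm (f 0 1 1) *
        Matrix.SpecialLinearGroup.transvection h01 (f 1 0 (-1)) *
        Matrix.SpecialLinearGroup.transvection h01.symm (f 0 1 1)
      have hN : β (slToPSL 2 F w) = slToPSL 2 F N := by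
        simp only [w, N, map_mul]
        change β (rootElt h01.symm (1 : F)) * β (rootElt h01 (-1 : F)) * β (rootElt h01.symm (1 : F)) = _
        rw [hf 0 1 1 h01.symm, hf 1 0 (-1) h01]
        rfl
      have he : w * Matrix.SpecialLinearGroup.transvection h01.symm (1 : F) =
          Matrix.SpecialLinearGroup.transvection h01 (-1 : F) * w :=
        Matrix.SpecialLinearGroup.ext _ _ fun u v => by
        fin_cases u <;> fin_cases v <;>
          simp [w, Matrix.SpecialLinearGroup.coe_mul, Matrix.SpecialLinearGroup.transvection_coe,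
            Matrix.mul_apply, Fin.sum_univ_two, Matrix.one_apply, Matrix.single_apply]
      have h1 := congrArg (fun z => β (slToPSL 2 F z)) he
      simp only [map_mul, hN] at h1
      change slToPSL 2 F N * β (rootElt h01.symm 1) = β (rootElt h01 (-1)) * slToPSL 2 F N at h1
      rw [hf 0 1 1 h01.symm, hf 1 0 (-1) h01, rootElt, rootElt, ← map_mul, ← map_mul] at h1
      obtain ⟨l, hl⟩ := (slToPSL_eq_one_iff _).1 (show slToPSL 2 F ((N * _)⁻¹ * (_ * N)) = 1 by
        rw [map_mul, map_inv, h1, inv_mul_cancel])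
      have h2 : ((Matrix.SpecialLinearGroup.transvection h01 (f 1 0 (-1)) * N :
          Matrix.SpecialLinearGroup (Fin 2) F) : Matrix (Fin 2) (Fin 2) F) =
          ((N * Matrix.SpecialLinearGroup.transvection h01.symm (f 0 1 1) :
          Matrix.SpecialLinearGroup (Fin 2) F) : Matrix (Fin 2) (Fin 2) F) * Matrix.scalar (Fin 2) l := by
        rw [← hl, ← Matrix.SpecialLinearGroup.coe_mul, mul_inv_cancel_left]
      have hneg : f 1 0 (-1) = - f 1 0 1 := by
        have := hadd 1 0 h01 (-1) 1
        rw [neg_add_cancel, hzero 1 0 h01] at this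
        exact eq_neg_of_add_eq_zero_left this.symm
      set x := f 0 1 1
      set y := f 1 0 1
      have hy : y ≠ 0 := hone 1 0 h01
      have hx : x ≠ 0 := hone 0 1 h01.symm
      have a00 := congrFun (congrFun h2 0) 0
      have a10 := congrFun (congrFun h2 1) 0
      simp [N, hneg, Matrix.SpecialLinearGroup.coe_mul, Matrix.SpecialLinearGroup.transvection_coe,
        Matrix.mul_apply, Fin.sum_univ_two, Matrix.one_apply, Matrix.single_apply] at a00 a10
      have key : x * y = 1 := by
        have hl' : l = 2 - x * y := by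
          refine mul_left_cancel₀ hy ?_
          linear_combination a10
        subst hl'
        have h3 : (1 - x * y) * (1 - x * y) = 0 := by linear_combination -a00
        have := mul_self_eq_zero.1 h3
        linear_combination -this
      simp [ψ, F', d, ho]
      linear_combination key
    refine ⟨φ, hmul, fun i j hij c => ?_⟩
    fin_cases i <;> fin_cases j
    · exact absurd rfl hij
    · show ψ c = φ c
      rw [hψ, hw, mul_one]
    · rfl
    · exact absurd rfl hij
  · -- the case `n ≥ 3`
    have hcomm : ∀ i j k, i ≠ j → i ≠ k → k ≠ j → ∀ x y,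
        F' i j (x * y) = F' i k x * F' k j y := by
      intro i j k hij hik hkj x y
      have h1 : f i j (x * y) = f i k x * f k j y := by
        refine rootElt_injective hij ?_
        rw [← hf i j _ hij, ← rootElt_comm hij hik hkj x y, map_commutatorElement, hf i k x hik,
          hf k j y hkj, rootElt_comm]
      simp only [F', h1]
      field_simp [hd]
    have hio : ∀ i j, i ≠ o → j ≠ o → i ≠ j → F' i j 1 = 1 := fun i j hi hj hij => by
      have := hcomm i o j hi hij hj 1 1
      rwa [mul_one, hF'o i hi, hF'o j hj, mul_one, eq_comm] at this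
    have hoj : ∀ j, j ≠ o → F' o j 1 = 1 := by
      intro j hj
      obtain ⟨i, hi⟩ := Finset.exists_mem_notMem_of_card_lt_card (s := ({o, j} : Finset (Fin n)))
        (t := Finset.univ) (lt_of_le_of_lt Finset.card_le_two (by simp; omega))
      simp at hi
      have := hcomm i j o hi.2 hi.1 hj.symm 1 1
      rwa [mul_one, hio i j hi.1 hj hi.2, hF'o i hi.1, one_mul, eq_comm] at this
    have hall : ∀ i j, i ≠ j → F' i j 1 = 1 := by
      intro i j h
      by_cases hi : i = o
      · subst hi; exact hoj j h.symm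
      by_cases hj : j = o
      · subst hj; exact hF'o i hi
      · exact hio i j hi hj h
    have hrow : ∀ i j k, i ≠ j → i ≠ k → ∀ x, F' i j x = F' i k x := by
      intro i j k hij hik x
      by_cases hjk : k = j
      · rw [hjk]
      have := hcomm i j k hij hik hjk x 1
      rwa [mul_one, hall k j hjk, mul_one] at this
    have hcol : ∀ i k j, i ≠ j → k ≠ j → ∀ x, F' i j x = F' k j x := by
      intro i k j hij hkj x
      by_cases hik : i = k
      · rw [hik]
      have := hcomm i j k hij hik hkj 1 x
      rwa [one_mul, hall i k hik, one_mul] at this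
    set o' : Fin n := ⟨1, by omega⟩
    have hoo : o' ≠ o := by simp [o, o', Fin.ext_iff]
    have hallσ : ∀ i j, i ≠ j → ∀ x, F' i j x = F' o' o x := by
      intro i j h x
      by_cases hi : i = o
      · obtain ⟨m, hm⟩ := Finset.exists_mem_notMem_of_card_lt_card (s := ({o, j} : Finset (Fin n)))
          (t := Finset.univ) (lt_of_le_of_lt Finset.card_le_two (by simp; omega))
        simp at hm
        subst hi
        rw [hcol o m j h hm.2 x, hrow m j o hm.2 hm.1 x, hcol m o' o hm.1 hoo x]
      · rw [hrow i j o h hi x, hcol i o' o hi hoo x]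
    refine ⟨F' o' o, fun x y => ?_, hallσ⟩
    obtain ⟨m, hm⟩ := Finset.exists_mem_notMem_of_card_lt_card (s := ({o, o'} : Finset (Fin n)))
      (t := Finset.univ) (lt_of_le_of_lt Finset.card_le_two (by simp; omega))
    simp at hm
    rw [hcomm o' o m hoo (Ne.symm hm.2) hm.1, hallσ o' m (Ne.symm hm.2), hallσ m o hm.1]

include p in
/-- The structure of automorphisms of `PSL_n(F)`. -/
theorem exists_param (hn : 2 ≤ n) (β : MulAut PSLn) :
    ∃ (g : GL (Fin n) F) (σ : F ≃+* F) (ε : ℕ), ε ≤ 1 ∧ (n = 2 → ε = 0) ∧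
      β = pslSemi g σ * pslInvT ^ ε := by
  obtain ⟨ε, g, hε, hε2, hfix⟩ := exists_frame (p := p) hn β
  obtain ⟨h, σ, he⟩ := exists_param_of_fix hn hfix
  refine ⟨g⁻¹ * h, σ, ε, hε, hε2, ?_⟩
  have hsq : (pslInvT : MulAut PSLn) ^ ε * pslInvT ^ ε = 1 := by
    interval_cases ε <;> simp [pslInvT_mul_self]
  rw [← pslSemi_refl_mul, ← he, ← pslSemi_refl_inv, inv_mul_cancel_left, mul_assoc, hsq, mul_one]

end Cfsg.Agent.Classical.PSLAut
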