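import Mathlib
import Cfsg.Agent.Lib.Classical.BinarySmall
import Cfsg.Agent.Lib.Classical.PSLBinaryTorus
import Cfsg.Agent.Lib.Classical.DicksonOvergroups

/-!
Coset actions of `PSL(2, q)` on the cosets of subgroups isomorphic to `A₄`, `S₄` and `A₅`, and the
Sylow two-subgroup of `PSL(2, 7)`, that are not binary.
-/

set_option autoImplicit false
set_option synthInstance.maxSize 2000
set_option maxRecDepth 8000

namespace Cfsg.Agent.PSLBin

open Matrix Cfsg.Agent.Grp.SL2 Cfsg.Agent.PSL2Spec Cfsg.Agent.Dickson Cfsg.Agent.Dickson.ClassProd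
  Cfsg.Agent.BinAct

variable {F : Type*} [Field F] [Fintype F]

local notation "SL₂" => Matrix.SpecialLinearGroup (Fin 2) F
local notation "PSL₂" => Matrix.ProjectiveSpecialLinearGroup (Fin 2) F
local notation "M₂" => Matrix (Fin 2) (Fin 2) F

/-- Commuting involutions have anticommuting lifts. -/
theorem quat_of_commuting (hodd : Odd (Fintype.card F)) {v w : PSL₂} (hv : v * v = 1) (hv1 : v ≠ 1)
    (hw : w * w = 1) (hw1 : w ≠ 1) (hne : w ≠ v) (hc : v * w = w * v) :
    ∃ X Y : SL₂, Quat X Y ∧ proj X = v ∧ proj Y = w := by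
  classical
  obtain ⟨p, hp⟩ := CharP.exists F
  haveI : Fact p.Prime := ⟨CharP.char_is_prime F p⟩
  have h2 := two_ne_zero_of_odd_card hodd
  set D := pslData (F := F) p
  have hvp : v ^ p ≠ 1 := (involution_semi p hodd (orderOf_eq_prime (by rw [sq, hv]) hv1)).2.1
  obtain ⟨X, rfl⟩ := proj_surjective v
  obtain ⟨Y, rfl⟩ := proj_surjective w
  refine ⟨X, Y, ⟨(tr_involution h2 hv hv1).1, (tr_involution h2 hw hw1).1, ?_⟩, rfl, rfl⟩
  rcases proj_eq_iff.1 (show proj (X * Y) = proj (Y * X) by rw [map_mul, map_mul, hc]) with e | e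
  · exfalso
    have hwT : proj Y ∈ tor (proj X) := mem_tor_iff.2 e
    haveI : IsCyclic (tor (proj X)) := D.semi_cyclic hv1 hvp
    haveI : Fintype (tor (proj X)) := Fintype.ofFinite _
    have h3 := IsCyclic.card_pow_eq_one_le (α := tor (proj X)) two_pos
    have h4 : ({1, ⟨proj X, D.self _⟩, ⟨proj Y, hwT⟩} : Finset (tor (proj X))) ⊆
        Finset.univ.filter (fun z => z ^ 2 = 1) := by
      intro z hz
      simp only [Finset.mem_insert, Finset.mem_singleton] at hz
      refine Finset.mem_filter.mpr ⟨Finset.mem_univ _, Subtype.ext ?_⟩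
      rcases hz with rfl | rfl | rfl
      · simp
      · simpa [sq] using hv
      · simpa [sq] using hw
    have h5 := (Finset.card_le_card h4).trans h3
    rw [Finset.card_insert_of_notMem, Finset.card_insert_of_notMem, Finset.card_singleton] at h5
    · omega
    · rw [Finset.mem_singleton]; exact fun h => hne (congrArg Subtype.val h).symm
    · simp only [Finset.mem_insert, Finset.mem_singleton, not_or]
      exact ⟨fun e' => hv1 (congrArg Subtype.val e').symm, fun e' => hw1 (congrArg Subtype.val e').symm⟩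
  · exact e

theorem alt4_facts₀ : ∀ v u : alternatingGroup (Fin 4), v ≠ 1 → v * v = 1 → u ≠ 1 → u * u = 1 →
    BinAct.tA4 0 1 2 * v * (BinAct.tA4 0 1 2)⁻¹ ≠ v ∧
    v * (BinAct.tA4 0 1 2 * v * (BinAct.tA4 0 1 2)⁻¹) = (BinAct.tA4 0 1 2 * v * (BinAct.tA4 0 1 2)⁻¹) * v ∧
    (u = v ∨ u = BinAct.tA4 0 1 2 * v * (BinAct.tA4 0 1 2)⁻¹ ∨
      u = BinAct.tA4 0 1 2 * BinAct.tA4 0 1 2 * v * (BinAct.tA4 0 1 2 * BinAct.tA4 0 1 2)⁻¹) := by decide

theorem alt4_facts (t v u : alternatingGroup (Fin 4)) (ht : t = BinAct.tA4 0 1 2)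
    (hv : v ≠ 1) (hvv : v * v = 1) (hu : u ≠ 1) (huu : u * u = 1) :
    t * v * t⁻¹ ≠ v ∧ v * (t * v * t⁻¹) = (t * v * t⁻¹) * v ∧
    (u = v ∨ u = t * v * t⁻¹ ∨ u = t * t * v * (t * t)⁻¹) := by
  subst ht
  exact alt4_facts₀ v u hv hvv hu huu

theorem alt4_cent : ∀ g : alternatingGroup (Fin 4), g * BinAct.tA4 0 1 2 = BinAct.tA4 0 1 2 * g →
    g = 1 ∨ g = BinAct.tA4 0 1 2 ∨ g = BinAct.tA4 0 1 2 * BinAct.tA4 0 1 2 := by decide

theorem alt4_sorts : ∀ g : alternatingGroup (Fin 4), g = 1 ∨ g * g = 1 ∨ (g * g * g = 1 ∧ g ≠ 1) := by decide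

theorem alt4_sylow : ∀ s s' : alternatingGroup (Fin 4), s ≠ 1 → s * s * s = 1 → s' ≠ 1 → s' * s' * s' = 1 →
    ∃ h : alternatingGroup (Fin 4), h⁻¹ * s' * h = s ∨ h⁻¹ * s' * h = s⁻¹ := by decide

theorem perm4_invert : ∀ s : Equiv.Perm (Fin 4), s ≠ 1 → s * s * s = 1 →
    ∃ n : Equiv.Perm (Fin 4), n * n = 1 ∧ n * s * n⁻¹ = s⁻¹ := by decide

theorem perm4_cent' : ∀ g : Equiv.Perm (Fin 4), g * Equiv.swap 2 3 = Equiv.swap 2 3 * g →
    g = 1 ∨ g = Equiv.swap 0 1 ∨ g = Equiv.swap 2 3 ∨ g = Equiv.swap 0 1 * Equiv.swap 2 3 := by decide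

/-- An element commuting with a four-group and the data to recognise it. -/
theorem mem_of_commute_four (hodd : Odd (Fintype.card F)) {H : Subgroup PSL₂} {v w g : PSL₂} (hvH : v ∈ H)
    (hwH : w ∈ H) (hv : v * v = 1) (hv1 : v ≠ 1) (hw : w * w = 1) (hw1 : w ≠ 1) (hne : w ≠ v)
    (hc : v * w = w * v) (hgv : Commute g v) (hgw : Commute g w) : g ∈ H := by
  obtain ⟨X, Y, hq, hX, hY⟩ := quat_of_commuting hodd hv hv1 hw hw1 hne hc
  have h := hq.centralizer (two_ne_zero_of_odd_card hodd) (g := g) (hX ▸ hgv) (hY ▸ hgw)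
  rcases h with e | e | e | e <;> rw [e]
  · exact one_mem H
  · exact hX ▸ hvH
  · exact hY ▸ hwH
  · rw [hX, hY]; exact mul_mem hvH hwH

/-- `A₄` when the centraliser of an element of order three is large. -/
theorem not_isBin_alt4_large (hodd : Odd (Fintype.card F)) {H : Subgroup PSL₂}
    (e : ↥H ≃* alternatingGroup (Fin 4)) {t : ↥H} (ht : e t = BinAct.tA4 0 1 2)
    (hT : 3 < Nat.card (tor (t : PSL₂))) : ¬ IsBin H := by
  classical
  obtain ⟨p, hp⟩ := CharP.exists F
  haveI : Fact p.Prime := ⟨CharP.char_is_prime F p⟩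
  set D := pslData (F := F) p
  have ht1 : (t : PSL₂) ≠ 1 := fun h => by
    have : t = 1 := Subtype.ext h
    rw [this, map_one] at ht
    exact absurd ht (by decide)
  obtain ⟨g, hgT, hgH⟩ : ∃ g ∈ tor (t : PSL₂), g ∉ H := by
    by_contra hc
    push Not at hc
    haveI : Fintype (tor (t : PSL₂)) := Fintype.ofFinite _
    have hsub : ∀ g : tor (t : PSL₂), (g : PSL₂) ∈ ({1, (t : PSL₂), (t : PSL₂) * t} : Finset PSL₂) := by
      intro g
      have hgH := hc g g.2
      have hcom : e ⟨g, hgH⟩ * BinAct.tA4 0 1 2 = BinAct.tA4 0 1 2 * e ⟨g, hgH⟩ := by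
        rw [← ht, ← map_mul, ← map_mul]
        exact congrArg e (Subtype.ext (D.comm ht1 g.2 (D.self _)).eq)
      simp only [Finset.mem_insert, Finset.mem_singleton]
      rcases alt4_cent _ hcom with h | h | h
      · exact Or.inl (congrArg Subtype.val (e.injective (h.trans (map_one e).symm)))
      · exact Or.inr (Or.inl (congrArg Subtype.val (e.injective (h.trans ht.symm))))
      · refine Or.inr (Or.inr ?_)
        exact congrArg Subtype.val (e.injective (h.trans ((map_mul e t t).trans (congrArg₂ (· * ·) ht ht)).symm : e ⟨g, hgH⟩ = e (t * t)))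
    have := Finset.card_le_card_of_injOn (s := (Finset.univ : Finset (tor (t : PSL₂)))) (fun g => (g : PSL₂))
      (fun g _ => hsub g) (Subtype.coe_injective.injOn)
    rw [Finset.card_univ, ← Nat.card_eq_fintype_card] at this
    have := this.trans Finset.card_le_three
    omega
  have hgt : Commute g (t : PSL₂) := D.comm ht1 hgT (D.self _)
  refine not_isBin_of_suborbit e g (BinAct.not_isBin_alt4 ?_ ?_)
  · rw [← ht, mem_suborbit, mul_assoc, ← hgt.eq, inv_mul_cancel_left]
    exact t.2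
  · intro v hv1 hv hvK
    obtain ⟨v₀, rfl⟩ := e.surjective v
    rw [mem_suborbit] at hvK
    obtain ⟨v', hv'⟩ : ∃ v' : ↥H, (v' : PSL₂) = g⁻¹ * v₀ * g := ⟨⟨_, hvK⟩, rfl⟩
    have hv0 : (v₀ : PSL₂) * v₀ = 1 := congrArg Subtype.val (e.injective (by rw [map_mul, hv, map_one]) : v₀ * v₀ = 1)
    have hv01 : (v₀ : PSL₂) ≠ 1 := fun h => hv1 (by rw [show v₀ = 1 from Subtype.ext h, map_one])
    have hv'2 : v' * v' = 1 := Subtype.ext (by
      rw [Subgroup.coe_mul, hv', show g⁻¹ * (v₀ : PSL₂) * g * (g⁻¹ * v₀ * g) = g⁻¹ * (v₀ * v₀) * g by group, hv0]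
      simp)
    have hv'1 : v' ≠ 1 := fun h => hv01 (by
      have h' : g⁻¹ * (v₀ : PSL₂) * g = 1 := by rw [← hv', h]; rfl
      calc (v₀ : PSL₂) = g * (g⁻¹ * v₀ * g) * g⁻¹ := by group
        _ = 1 := by rw [h']; group)
    obtain ⟨hne, hcom, hcase⟩ := alt4_facts (e t) (e v₀) (e v') ht hv1 hv
      (fun h => hv'1 (e.injective (h.trans (map_one e).symm))) (by rw [← map_mul, hv'2, map_one])
    obtain ⟨k, hkH, hkt, hk⟩ : ∃ k ∈ H, Commute k (t : PSL₂) ∧ g⁻¹ * (v₀ : PSL₂) * g = k * v₀ * k⁻¹ := by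
      rcases hcase with h | h | h
      · exact ⟨1, one_mem _, Commute.one_left _, by rw [← hv', e.injective h]; simp⟩
      · exact ⟨t, t.2, Commute.refl _, by
          rw [← hv', e.injective (h.trans (by simp) : e v' = e (t * v₀ * t⁻¹))]; rfl⟩
      · exact ⟨t * t, mul_mem t.2 t.2, (Commute.refl _).mul_left (Commute.refl _), by
          rw [← hv', e.injective (h.trans (by simp) : e v' = e (t * t * v₀ * (t * t)⁻¹))]; rfl⟩
    have hgk : Commute (g * k) (v₀ : PSL₂) := by
      refine mul_inv_eq_iff_eq_mul.1 ?_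
      calc g * k * (v₀ : PSL₂) * (g * k)⁻¹ = g * (k * v₀ * k⁻¹) * g⁻¹ := by group
        _ = v₀ := by rw [← hk]; group
    have hgkt : Commute (g * k) (t : PSL₂) := hgt.mul_left hkt
    have hgkw : Commute (g * k) ((t : PSL₂) * v₀ * (t : PSL₂)⁻¹) := (hgkt.mul_right hgk).mul_right hgkt.inv_right
    have hw : (t : PSL₂) * v₀ * (t : PSL₂)⁻¹ ≠ v₀ := fun h => hne (by
      rw [← map_inv, ← map_mul, ← map_mul]; exact congrArg e (Subtype.ext h))
    refine hgH ((Subgroup.mul_mem_cancel_right _ hkH).1 (mem_of_commute_four hodd (H := H) v₀.2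
      (t * v₀ * t⁻¹).2 hv0 hv01 ?_ ?_ hw ?_ hgk hgkw))
    · show (t : PSL₂) * v₀ * (t : PSL₂)⁻¹ * (t * v₀ * (t : PSL₂)⁻¹) = 1
      rw [show (t : PSL₂) * v₀ * (t : PSL₂)⁻¹ * (t * v₀ * (t : PSL₂)⁻¹) = t * (v₀ * v₀) * (t : PSL₂)⁻¹ by group, hv0]
      simp
    · exact fun h => hv01 (conj_eq_one_iff.1 h)
    · have := e.injective (show e (v₀ * (t * v₀ * t⁻¹)) = e ((t * v₀ * t⁻¹) * v₀) by
        simp only [map_mul, map_inv]; exact hcom)
      exact congrArg Subtype.val this

theorem tor_three_card (hodd : Odd (Fintype.card F)) (h7 : 7 < Fintype.card F) {t : PSL₂} (ht : t ≠ 1) :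
    3 < Nat.card (tor t) := by
  obtain ⟨p, hp⟩ := CharP.exists F
  haveI : Fact p.Prime := ⟨CharP.char_is_prime F p⟩
  by_cases htp : t ^ p = 1
  · rw [card_tor_uni p ht htp]; omega
  · have hd : del F = 2 := ((del_cases F).resolve_left fun h => Nat.not_even_iff_odd.2 hodd h.2).1
    obtain ⟨k, hk⟩ := hodd
    rcases card_tor_semi p ht htp with h | h <;> rw [hd] at h <;> omega

/-- `A₄` in `PSL(2, 7)`. -/
theorem not_isBin_alt4_seven (hF : Fintype.card F = 7) {H : Subgroup PSL₂}
    (e₀ : ↥H ≃* alternatingGroup (Fin 4)) : ¬ IsBin H := by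
  classical
  haveI : Fact (Nat.Prime 7) := ⟨by norm_num⟩
  haveI : Fact (Nat.Prime 3) := ⟨Nat.prime_three⟩
  haveI hc7 : CharP F 7 := charP_of_card_eq_prime hF
  have hodd : Odd (Fintype.card F) := by rw [hF]; decide
  have h2 := two_ne_zero_of_odd_card hodd
  have h7z : (7 : F) = 0 := by exact_mod_cast CharP.cast_eq_zero F 7
  set D := pslData (F := F) 7
  -- move an element of order three to the diagonal
  obtain ⟨t₀, ht₀⟩ := e₀.surjective (BinAct.tA4 0 1 2)
  obtain ⟨T, hT⟩ := proj_surjective (t₀ : PSL₂)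
  have ho : orderOf (proj T) = 3 := by
    rw [hT, Subgroup.orderOf_coe, ← MulEquiv.orderOf_eq e₀, ht₀]
    exact orderOf_eq_prime (by decide) (by decide)
  have hns : ¬ IsScalar T := fun h => by rw [proj_one_iff.2 h, orderOf_one] at ho; omega
  have htr : tr T = -1 ∨ tr T = -(-1) := by
    have h30 : proj (T * T * T) = 1 := by
      rw [map_mul, map_mul, ← sq, ← pow_succ, show 2 + 1 = orderOf (proj T) by omega, pow_orderOf_eq_one]
    have e0 : ((T * T * T : SL₂) : M₂) = (tr T * tr T - 1) • (T : M₂) - tr T • 1 := by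
      rw [Matrix.SpecialLinearGroup.coe_mul, Matrix.SpecialLinearGroup.coe_mul, cayley, sub_mul,
        Matrix.smul_mul, cayley, one_mul, smul_sub, smul_smul, sub_smul, one_smul]
      abel
    obtain ⟨c, hc⟩ : ∃ c : F, ((T * T * T : SL₂) : M₂) = c • 1 := by
      rcases proj_one_iff.1 h30 with h | h <;> rw [h]
      · exact ⟨1, by simp⟩
      · exact ⟨-1, by simp⟩
    have ht : tr T * tr T = 1 := by
      by_contra hne
      have hne' : tr T * tr T - 1 ≠ 0 := sub_ne_zero.2 hne
      refine hns (isScalar_of_coe (c := (c + tr T) / (tr T * tr T - 1)) ?_)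
      have h : (tr T * tr T - 1) • (T : M₂) = (c + tr T) • 1 := by rw [add_smul, ← hc, e0, sub_add_cancel]
      rw [div_eq_inv_mul, mul_smul, ← h, smul_smul, inv_mul_cancel₀ hne', one_smul]
    rcases mul_self_eq_one_iff.1 ht with h | h
    · exact Or.inr (h.trans (neg_neg 1).symm)
    · exact Or.inl h
  have hz0 : (2 : F) ≠ 0 := h2
  set z : Fˣ := Units.mk0 2 hz0
  have h3 : (3 : F) ≠ 0 := fun h => one_ne_zero (show (1 : F) = 0 by linear_combination h7z - 2 * h)
  have htz : tr (dg z) = -1 := by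
    simp [tr, dg_coe, z]
    field_simp
    linear_combination h7z
  obtain ⟨g₀, hg₀⟩ := isConj_iff.1 (isConj_proj (X := dg z) (Y := T) htz
    (fun h => h3 (by linear_combination -h)) htr)
  rw [hT] at hg₀
  rw [← isBin_conj_iff H g₀⁻¹]
  set H' := H.map (MulAut.conj g₀⁻¹).toMonoidHom
  let e : ↥H' ≃* alternatingGroup (Fin 4) :=
    ((H.equivMapOfInjective _ (MulAut.conj g₀⁻¹).injective).symm).trans e₀
  have hm : ∀ x, x ∈ H' ↔ g₀ * x * g₀⁻¹ ∈ H := fun x => by rw [mem_map_conj, inv_inv]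
  have htH : proj (dg z) ∈ H' := by rw [hm, hg₀]; exact t₀.2
  -- the four-group
  set t : ↥H' := e.symm (BinAct.tA4 0 1 2)
  set v : ↥H' := e.symm (BinAct.dA4 0 1 2 3)
  have het : e t = BinAct.tA4 0 1 2 := e.apply_symm_apply _
  have hev : e v = BinAct.dA4 0 1 2 3 := e.apply_symm_apply _
  have hinv : ∀ u : ↥H', e u * e u = 1 → (u : PSL₂) * u = 1 := fun u hu =>
    congrArg Subtype.val (e.injective (by rw [map_mul, hu, map_one]) : u * u = 1)
  have hne1 : ∀ u : ↥H', e u ≠ 1 → (u : PSL₂) ≠ 1 := fun u hu h =>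
    hu (by rw [show u = 1 from Subtype.ext h, map_one])
  obtain ⟨w, hwdef⟩ : ∃ w : ↥H', w = t * v * t⁻¹ := ⟨_, rfl⟩
  have hew : e w = BinAct.tA4 0 1 2 * BinAct.dA4 0 1 2 3 * (BinAct.tA4 0 1 2)⁻¹ := by simp [hwdef, het, hev]
  obtain ⟨X, Y, hq, hX, hY⟩ := quat_of_commuting hodd (v := (v : PSL₂)) (w := (w : PSL₂))
    (hinv v (by rw [hev]; decide)) (hne1 v (by rw [hev]; decide)) (hinv w (by rw [hew]; decide))
    (hne1 w (by rw [hew]; decide))
    (fun h => absurd (congrArg e (Subtype.ext h : w = v)) (by rw [hew, hev]; decide))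
    (congrArg Subtype.val (e.injective (by rw [map_mul, map_mul, hew, hev]; decide) : v * w = w * v))
  set N := Subgroup.normalizer (hq.klein : Set PSL₂)
  have hklein : ∀ u : ↥H', (u : PSL₂) ∈ hq.klein ↔ e u * e u = 1 := by
    have hd : ∀ g : alternatingGroup (Fin 4), g * g = 1 → g = 1 ∨ g = BinAct.dA4 0 1 2 3 ∨
        g = BinAct.tA4 0 1 2 * BinAct.dA4 0 1 2 3 * (BinAct.tA4 0 1 2)⁻¹ ∨
        g = BinAct.dA4 0 1 2 3 * (BinAct.tA4 0 1 2 * BinAct.dA4 0 1 2 3 * (BinAct.tA4 0 1 2)⁻¹) := by decide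
    intro u
    rw [Quat.mem_klein, hX, hY]
    constructor
    · rintro (h | h | h | h)
      · rw [show u = 1 from Subtype.ext h, map_one, one_mul]
      · rw [Subtype.ext h, hev]; decide
      · rw [Subtype.ext h, hew]; decide
      · rw [show u = v * w from Subtype.ext h, map_mul, hev, hew]; decide
    · intro h
      rcases hd _ h with h' | h' | h' | h'
      · exact Or.inl (congrArg Subtype.val (e.injective (h'.trans (map_one e).symm)))
      · exact Or.inr (Or.inl (congrArg Subtype.val (e.injective (h'.trans hev.symm))))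
      · exact Or.inr (Or.inr (Or.inl (congrArg Subtype.val (e.injective (h'.trans hew.symm)))))
      · exact Or.inr (Or.inr (Or.inr (congrArg Subtype.val
          (e.injective (h'.trans ((map_mul e v w).trans (congrArg₂ (· * ·) hev hew)).symm) : u = v * w))))
  have hkH : ∀ x ∈ hq.klein, x ∈ H' := by
    intro x hx
    rcases hx with h | h | h | h <;> rw [h]
    · exact one_mem _
    · rw [hX]; exact v.2
    · rw [hY]; exact w.2
    · rw [hX, hY]; exact mul_mem v.2 w.2
  have hHN : H' ≤ N := by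
    intro h hh
    refine mem_normalizer_of_forall fun x hx => ?_
    have hxe := (hklein ⟨x, hkH x hx⟩).1 hx
    refine (hklein (⟨h, hh⟩ * ⟨x, hkH x hx⟩ * ⟨h, hh⟩⁻¹)).2 ?_
    simp only [map_mul, map_inv]
    calc _ = e ⟨h, hh⟩ * (e ⟨x, hkH x hx⟩ * e ⟨x, hkH x hx⟩) * (e ⟨h, hh⟩)⁻¹ := by group
      _ = 1 := by rw [hxe]; group
  have hN24 : Nat.card N = 24 := card_normalizer_of_square hodd hq ⟨3, by linear_combination -h7z⟩
  obtain ⟨-, -, -, -, -, -, -, -, hS⟩ := exists_alt4 hodd hq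
  obtain ⟨i⟩ := hS hN24
  -- the translation is outside the normaliser
  have hu7 : orderOf (proj (up (1 : F))) = 7 := orderOf_eq_prime (by
      rw [← map_pow, up_pow, CharP.cast_eq_zero, zero_mul, up_zero, map_one])
    (fun h => by
      rcases proj_one_iff.1 h with h' | h' <;>
        · have := congrFun (congrFun (congrArg Subtype.val h') 0) 1
          simp [up_coe] at this)
  have huN : proj (up (1 : F)) ∉ N := fun h => by
    have := hu7 ▸ N.orderOf_dvd_natCard h
    rw [hN24] at this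
    omega
  have hcard12 : Nat.card H' = 12 := by
    rw [Nat.card_congr e.toEquiv, Nat.card_eq_fintype_card]; decide
  -- meeting a conjugate
  have hmeet : ∀ g x : PSL₂, x ∈ H' → x ≠ 1 → g⁻¹ * x * g ∈ H' → g ∈ N := by
    intro g x hx hx1 hgx
    set a : ↥H' := ⟨x, hx⟩
    set b : ↥H' := ⟨_, hgx⟩
    have hb : (b : PSL₂) = g⁻¹ * x * g := rfl
    have ha1 : e a ≠ 1 := fun h => hx1 (congrArg Subtype.val (e.injective (h.trans (map_one e).symm)))
    have hb1 : e b ≠ 1 := fun h => hx1 (by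
      have h' : g⁻¹ * x * g = 1 := congrArg Subtype.val (e.injective (h.trans (map_one e).symm))
      calc x = g * (g⁻¹ * x * g) * g⁻¹ := by group
        _ = 1 := by rw [h']; group)
    rcases alt4_sorts (e a) with h | h | ⟨h, -⟩
    · exact absurd h ha1
    · -- involutions
      have hxx : x * x = 1 := hinv a h
      have hb2 : e b * e b = 1 := by
        rw [← map_mul, show b * b = 1 from Subtype.ext (by
          rw [Subgroup.coe_mul, hb, show g⁻¹ * x * g * (g⁻¹ * x * g) = g⁻¹ * (x * x) * g by group, hxx]; simp),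
          map_one]
      obtain ⟨-, -, hcase⟩ := alt4_facts (e t) (e a) (e b) het ha1 h hb1 hb2
      obtain ⟨k, hkH', hk⟩ : ∃ k ∈ H', g⁻¹ * x * g = k * x * k⁻¹ := by
        rcases hcase with h' | h' | h'
        · exact ⟨1, one_mem _, by rw [← hb, e.injective h']; simp [a]⟩
        · exact ⟨t, t.2, by rw [← hb, e.injective (h'.trans (by simp) : e b = e (t * a * t⁻¹))]; rfl⟩
        · exact ⟨t * t, mul_mem t.2 t.2, by
            rw [← hb, e.injective (h'.trans (by simp) : e b = e (t * t * a * (t * t)⁻¹))]; rfl⟩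
      -- the centraliser of the involution normalises the four-group
      have hxo : orderOf x = 2 := orderOf_eq_prime (by rw [sq, hxx]) hx1
      obtain ⟨hx1', hxp, -⟩ := involution_semi 7 hodd hxo
      have hcent := centralizer_involution 7 hx1' hxp hxx
      have hc8 : Nat.card (Subgroup.centralizer ({x} : Set PSL₂)) = 8 := by
        rw [hcent, (normalizer_tor 7 hx1' hxp).1, ((card_tor_involution 7 hodd hxo).2.2 (by rw [hF]))]
        rw [hF]
      have hkC : hq.klein ≤ Subgroup.centralizer ({x} : Set PSL₂) := by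
        intro y hy
        rw [Subgroup.mem_centralizer_singleton_iff]
        have hd : ∀ g h : alternatingGroup (Fin 4), g * g = 1 → h * h = 1 → g * h = h * g := by decide
        exact congrArg Subtype.val (e.injective (by
          rw [map_mul, map_mul]; exact hd _ _ ((hklein ⟨y, hkH y hy⟩).1 hy) h) :
          (⟨y, hkH y hy⟩ : ↥H') * a = a * ⟨y, hkH y hy⟩)
      haveI : (hq.klein.subgroupOf (Subgroup.centralizer ({x} : Set PSL₂))).Normal := by
        refine Subgroup.normal_of_index_eq_two ?_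
        have := Subgroup.card_mul_index (hq.klein.subgroupOf (Subgroup.centralizer ({x} : Set PSL₂)))
        rw [Nat.card_congr (Subgroup.subgroupOfEquivOfLe hkC).toEquiv, Quat.card_klein h2, hc8] at this
        omega
      have hCN : Subgroup.centralizer ({x} : Set PSL₂) ≤ N :=
        (Subgroup.normal_subgroupOf_iff_le_normalizer hkC).1 inferInstance
      have hgk : g * k ∈ Subgroup.centralizer ({x} : Set PSL₂) := by
        rw [Subgroup.mem_centralizer_singleton_iff]
        refine mul_inv_eq_iff_eq_mul.1 ?_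
        calc g * k * x * (g * k)⁻¹ = g * (k * x * k⁻¹) * g⁻¹ := by group
          _ = x := by rw [← hk]; group
      exact (Subgroup.mul_mem_cancel_right _ (hHN hkH')).1 (hCN hgk)
    · -- elements of order three
      have hb3 : e b * e b * e b = 1 := by
        rw [← map_mul, ← map_mul, show b * b * b = 1 from Subtype.ext (by
          have hx3 : x * x * x = 1 :=
            congrArg Subtype.val (e.injective (by rw [map_mul, map_mul, h, map_one]) : a * a * a = 1)
          simp only [Subgroup.coe_mul, hb]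
          rw [show g⁻¹ * x * g * (g⁻¹ * x * g) * (g⁻¹ * x * g) = g⁻¹ * (x * x * x) * g by group, hx3]
          simp), map_one]
      obtain ⟨k₀, hk₀⟩ := alt4_sylow (e a) (e b) ha1 h hb1 hb3
      obtain ⟨k, rfl⟩ := e.surjective k₀
      have hx3 : x * x * x = 1 :=
        congrArg Subtype.val (e.injective (by rw [map_mul, map_mul, h, map_one]) : a * a * a = 1)
      have hxo : orderOf x = 3 := orderOf_eq_prime (by rw [pow_succ, sq, hx3]) hx1
      have hxp : x ^ 7 ≠ 1 := fun h7 => by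
        have := orderOf_dvd_of_pow_eq_one h7
        rw [hxo] at this
        omega
      have hgk : g * k ∈ Subgroup.normalizer (tor x : Set PSL₂) := by
        refine (D.mem_normalizer_iff hx1).2 ?_
        have key : ∀ y : PSL₂, y ∈ tor x → k.1⁻¹ * (g⁻¹ * x * g) * k.1 = y →
            g * k * x * (g * k)⁻¹ ∈ tor x → g * k * x * (g * k)⁻¹ ∈ tor x := fun _ _ _ h => h
        rcases hk₀ with h' | h' <;> rw [← map_inv, ← map_mul, ← map_mul] at h'
        · have e1 : k.1⁻¹ * (g⁻¹ * x * g) * k.1 = x := congrArg Subtype.val (e.injective h')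
          rw [show g * (k : PSL₂) * x * (g * k)⁻¹ = g * k * x * (g * k)⁻¹ from rfl]
          conv => arg 2; rw [← e1]
          rw [show g * (k : PSL₂) * ((k : PSL₂)⁻¹ * (g⁻¹ * x * g) * k) * (g * k)⁻¹ = x by group]
          exact D.self x
        · rw [← map_inv] at h'
          have e1 : k.1⁻¹ * (g⁻¹ * x * g) * k.1 = x⁻¹ := congrArg Subtype.val (e.injective h')
          rw [show g * (k : PSL₂) * x * (g * k)⁻¹ =
            (g * k * x⁻¹ * (g * k)⁻¹)⁻¹ by group, ← e1,
            show g * (k : PSL₂) * ((k : PSL₂)⁻¹ * (g⁻¹ * x * g) * k) * (g * k)⁻¹ = x by group]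
          exact inv_mem (D.self x)
      -- the torus normaliser lies in the normaliser of the four-group
      have htor3 : Nat.card (tor x) = 3 := by
        have hd : del F = 2 := ((del_cases F).resolve_left fun h => Nat.not_even_iff_odd.2 hodd h.2).1
        have hd3 : 3 ∣ Nat.card (tor x) := hxo.symm.dvd.trans ((tor x).orderOf_dvd_natCard (D.self x))
        rcases card_tor_semi 7 hx1 hxp with h' | h' <;> rw [hd, hF] at h' <;> omega
      have hxN : x ∈ N := hHN hx
      have hTN : tor x ≤ N := by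
        have hzp : Subgroup.zpowers x = tor x :=
          Subgroup.eq_of_le_of_card_ge (Subgroup.zpowers_le.2 (D.self x))
            (by rw [htor3, Nat.card_zpowers, hxo])
        exact hzp ▸ Subgroup.zpowers_le.2 hxN
      set xN : N := ⟨x, hxN⟩
      obtain ⟨n, hnn, hninv⟩ := perm4_invert (i xN)
        (fun h' => hx1 (congrArg Subtype.val (i.injective (h'.trans (map_one i).symm))))
        (by rw [← map_mul, ← map_mul, show xN * xN * xN = 1 from Subtype.ext hx3, map_one])
      obtain ⟨m, rfl⟩ := i.surjective n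
      have hm' : (m : PSL₂) * x * (m : PSL₂)⁻¹ = x⁻¹ := congrArg Subtype.val
        (i.injective (by rw [map_mul, map_mul, map_inv, map_inv]; exact hninv) : m * xN * m⁻¹ = xN⁻¹)
      have hmT : (m : PSL₂) ∉ tor x := fun hm'' => by
        rw [(D.comm hx1 hm'' (D.self x)).eq, mul_inv_cancel_right] at hm'
        have : x * x = 1 := mul_eq_one_iff_eq_inv.2 hm'
        have := Nat.le_of_dvd two_pos (orderOf_dvd_of_pow_eq_one (show x ^ 2 = 1 by rw [sq]; exact this))
        omega
      have hmN : (m : PSL₂) * x * (m : PSL₂)⁻¹ ∈ tor x := hm' ▸ inv_mem (D.self x)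
      have hgkN : g * (k : PSL₂) ∈ N := by
        by_cases hgT : g * (k : PSL₂) ∈ tor x
        · exact hTN hgT
        · have := hTN (D.semi_mul hx1 hxp ((D.mem_normalizer_iff hx1).1 hgk) hgT hmN hmT)
          exact (Subgroup.mul_mem_cancel_right _ m.2).1 this
      exact (Subgroup.mul_mem_cancel_right _ (hHN k.2)).1 hgkN
  refine not_isBin_split htH 1 ?_ ?_
  · intro h
    have hval : (1 : F) / ((z : F)) ^ 4 - 1 = 3 := by
      simp [z]
      field_simp
      linear_combination -9 * h7z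
    rw [hval] at h
    have h1 : proj (up (3 : F)) ^ 7 = 1 := by
      rw [← map_pow, up_pow, CharP.cast_eq_zero, zero_mul, up_zero, map_one]
    have h2' : proj (up (3 : F)) ≠ 1 := fun h' => by
      rcases proj_one_iff.1 h' with h'' | h'' <;>
        · have := congrFun (congrFun (congrArg Subtype.val h'') 0) 1
          simp [up_coe, h3] at this
    have := orderOf_eq_prime h1 h2' ▸ H'.orderOf_dvd_natCard h
    rw [hcard12] at this
    omega
  · intro y hy hya
    by_cases hy1 : proj y = 1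
    · rw [map_mul, map_mul, hy1, map_inv, mul_one, inv_mul_cancel]; exact one_mem _
    · exfalso
      refine huN (hmeet _ _ hy hy1 ?_)
      rw [← map_inv, ← map_mul, ← map_mul]
      exact hya

/-- `A₄`. -/
theorem not_isBin_alt4' (hodd : Odd (Fintype.card F)) (h7 : 7 ≤ Fintype.card F) {H : Subgroup PSL₂}
    (e : ↥H ≃* alternatingGroup (Fin 4)) : ¬ IsBin H := by
  rcases h7.eq_or_lt with h | h
  · exact not_isBin_alt4_seven h.symm e
  obtain ⟨t, ht⟩ := e.surjective (BinAct.tA4 0 1 2)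
  refine not_isBin_alt4_large hodd e ht (tor_three_card hodd h fun h' => ?_)
  rw [show t = 1 from Subtype.ext h', map_one] at ht
  exact absurd ht (by decide)

/-- `S₄`. -/
theorem not_isBin_perm4' (hodd : Odd (Fintype.card F)) {H : Subgroup PSL₂}
    (e : ↥H ≃* Equiv.Perm (Fin 4)) : ¬ IsBin H := by
  classical
  set x : ↥H := e.symm (Equiv.swap 0 1)
  set y : ↥H := e.symm (Equiv.swap 2 3)
  set v : ↥H := e.symm (Equiv.swap 0 2 * Equiv.swap 1 3)
  have hx : e x = Equiv.swap 0 1 := e.apply_symm_apply _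
  have hy : e y = Equiv.swap 2 3 := e.apply_symm_apply _
  have hv : e v = Equiv.swap 0 2 * Equiv.swap 1 3 := e.apply_symm_apply _
  have hinv : ∀ u : ↥H, e u * e u = 1 → (u : PSL₂) * u = 1 := fun u hu =>
    congrArg Subtype.val (e.injective (by rw [map_mul, hu, map_one]) : u * u = 1)
  have hne1 : ∀ u : ↥H, e u ≠ 1 → (u : PSL₂) ≠ 1 := fun u hu h =>
    hu (by rw [show u = 1 from Subtype.ext h, map_one])
  obtain ⟨X, Y, hq, hX, hY⟩ := quat_of_commuting hodd (v := (x : PSL₂)) (w := (y : PSL₂))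
    (hinv x (by rw [hx]; decide)) (hne1 x (by rw [hx]; decide)) (hinv y (by rw [hy]; decide))
    (hne1 y (by rw [hy]; decide))
    (fun h => absurd (congrArg e (Subtype.ext h : y = x)) (by rw [hx, hy]; decide))
    (congrArg Subtype.val (e.injective (by rw [map_mul, map_mul, hx, hy]; decide) : x * y = y * x))
  obtain ⟨t, -, -, e1, e2⟩ := exists_three hodd hq
  rw [hX, hY] at e1 e2
  have e3 : t * ((x : PSL₂) * y) * t⁻¹ = y := by
    rw [show t * ((x : PSL₂) * y) * t⁻¹ = (t * x * t⁻¹) * (t * y * t⁻¹) by group, e1, e2, mul_assoc,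
      show (y : PSL₂) * x = x * y from congrArg Subtype.val
        (e.injective (by rw [map_mul, map_mul, hx, hy]; decide) : y * x = x * y), ← mul_assoc,
      hinv x (by rw [hx]; decide), one_mul]
  refine not_isBin_of_suborbit e t⁻¹ (BinAct.not_isBin_perm4 ?_ ?_ ?_)
  · rw [← hx, mem_suborbit, inv_inv, e1]; exact mul_mem x.2 y.2
  · rw [← hy, mem_suborbit, inv_inv, e2]; exact x.2
  · rw [← hv, mem_suborbit, inv_inv]
    intro hmem
    have hcom : ((⟨_, hmem⟩ : ↥H)) * y = y * ⟨_, hmem⟩ := Subtype.ext (by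
      have hc : Commute (v : PSL₂) ((x : PSL₂) * y) := congrArg Subtype.val
        (e.injective (by simp only [map_mul, hx, hy, hv]; decide) : v * (x * y) = x * y * v)
      have := (Commute.conj_iff t).2 hc
      rw [e3] at this
      exact this)
    have hback : ∀ u : PSL₂, t * (v : PSL₂) * t⁻¹ = u → (v : PSL₂) = t⁻¹ * u * t := fun u hu => by
      rw [← hu]; group
    have hxb : t⁻¹ * (x : PSL₂) * t = y := by
      calc t⁻¹ * (x : PSL₂) * t = t⁻¹ * (t * y * t⁻¹) * t := by rw [e2]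
        _ = y := by group
    have hyb : t⁻¹ * (y : PSL₂) * t = x * y := by
      calc t⁻¹ * (y : PSL₂) * t = t⁻¹ * (t * (x * y) * t⁻¹) * t := by rw [e3]
        _ = x * y := by group
    have bad : ∀ u : ↥H, (v : PSL₂) = u → e u ≠ Equiv.swap 0 2 * Equiv.swap 1 3 → False := fun u hu hne =>
      hne (by rw [← hv]; exact congrArg e (Subtype.ext hu.symm))
    rcases perm4_cent' (e ⟨_, hmem⟩) (by rw [← hy, ← map_mul, ← map_mul, hcom]) with h | h | h | h
    · refine bad 1 ?_ (by rw [map_one]; decide)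
      rw [hback 1 (congrArg Subtype.val (e.injective (h.trans (map_one e).symm)))]
      simp
    · refine bad y ?_ (by rw [hy]; decide)
      rw [hback x (congrArg Subtype.val (e.injective (h.trans hx.symm))), hxb]
    · refine bad (x * y) ?_ (by rw [map_mul, hx, hy]; decide)
      rw [hback y (congrArg Subtype.val (e.injective (h.trans hy.symm))), hyb]
      rfl
    · refine bad x ?_ (by rw [hx]; decide)
      rw [hback ((x : PSL₂) * y) (congrArg Subtype.val
        (e.injective (h.trans (by rw [map_mul, hx, hy])) : (⟨_, hmem⟩ : ↥H) = x * y)),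
        show t⁻¹ * ((x : PSL₂) * y) * t = (t⁻¹ * x * t) * (t⁻¹ * y * t) by group, hxb, hyb,
        show (y : PSL₂) * (x * y) = x * (y * y) from congrArg Subtype.val
          (e.injective (by simp only [map_mul, hx, hy]; decide) : y * (x * y) = x * (y * y)),
        hinv y (by rw [hy]; decide), mul_one]

/-- `A₅`. -/
theorem not_isBin_alt5' (hodd : Odd (Fintype.card F)) (h7 : 7 ≤ Fintype.card F) {H : Subgroup PSL₂}
    (e : ↥H ≃* alternatingGroup (Fin 5)) : ¬ IsBin H := by
  classical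
  obtain ⟨p, hp⟩ := CharP.exists F
  haveI : Fact p.Prime := ⟨CharP.char_is_prime F p⟩
  have h2 := two_ne_zero_of_odd_card hodd
  set D := pslData (F := F) p
  have hd : del F = 2 := ((del_cases F).resolve_left fun h => Nat.not_even_iff_odd.2 hodd h.2).1
  have hH60 : Nat.card H = 60 := by rw [Nat.card_congr e.toEquiv, Nat.card_eq_fintype_card]; decide
  set a : ↥H := e.symm (BinAct.dA5 0 1 2 3)
  set b : ↥H := e.symm (BinAct.dA5 0 2 1 3)
  have ha : e a = BinAct.dA5 0 1 2 3 := e.apply_symm_apply _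
  have hb : e b = BinAct.dA5 0 2 1 3 := e.apply_symm_apply _
  have haa : (a : PSL₂) * a = 1 :=
    congrArg Subtype.val (e.injective (by rw [map_mul, ha, map_one]; decide) : a * a = 1)
  have ha1 : (a : PSL₂) ≠ 1 := fun h => by
    rw [show a = 1 from Subtype.ext h, map_one] at ha; exact absurd ha (by decide)
  have hao : orderOf (a : PSL₂) = 2 := orderOf_eq_prime (by rw [sq, haa]) ha1
  obtain ⟨-, hap, -⟩ := involution_semi p hodd hao
  obtain ⟨X, Y, hq, hX, hY⟩ := quat_of_commuting hodd (v := (a : PSL₂)) (w := (b : PSL₂)) haa ha1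
    (congrArg Subtype.val (e.injective (by rw [map_mul, hb, map_one]; decide) : b * b = 1))
    (fun h => by rw [show b = 1 from Subtype.ext h, map_one] at hb; exact absurd hb (by decide))
    (fun h => by rw [show b = a from Subtype.ext h, ha] at hb; exact absurd hb (by decide))
    (congrArg Subtype.val (e.injective (by rw [map_mul, map_mul, ha, hb]; decide) : a * b = b * a))
  have hbT : (b : PSL₂) ∉ tor (a : PSL₂) := fun h => by
    rw [← hX, ← hY, mem_tor_iff] at h
    have h0 : Y * X = -(Y * X) := by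
      conv_rhs => rw [h.eq]
      exact hq.yx
    have h1 : (1 : SL₂) = -1 := mul_left_cancel (a := Y * X) (by rw [mul_one, mul_neg_one]; exact h0)
    have h' := congrFun (congrFun (congrArg Subtype.val h1) 0) 0
    simp at h'
    exact h2 (by linear_combination h')
  by_cases h4 : 4 < Nat.card (tor (a : PSL₂))
  · obtain ⟨g, hg1, hgp, hgo, hgT⟩ := exists_generator p ha1 hap
    have hgA : g ∈ tor (a : PSL₂) := hgT ▸ D.self g
    have hga : Commute g (a : PSL₂) := D.comm ha1 hgA (D.self _)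
    have hbN : (b : PSL₂) * a * (b : PSL₂)⁻¹ ∈ tor (a : PSL₂) := by
      rw [show (b : PSL₂) * a * (b : PSL₂)⁻¹ = (a : PSL₂) from congrArg Subtype.val
        (e.injective (by rw [map_mul, map_mul, map_inv, ha, hb]; decide) : b * a * b⁻¹ = a)]
      exact D.self _
    obtain ⟨-, hbi⟩ := D.semi_flip ha1 hap hbN hbT
    have hbg : g⁻¹ * (b : PSL₂) * g = g⁻¹ * g⁻¹ * b := by
      have h := hbi g hgA
      rw [mul_inv_eq_iff_eq_mul] at h
      rw [mul_assoc, h, mul_assoc]
    refine not_isBin_of_suborbit e g (BinAct.not_isBin_alt5 ?_ ?_)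
    · rw [← ha, mem_suborbit, mul_assoc, ← hga.eq, inv_mul_cancel_left]; exact a.2
    · rw [← hb, mem_suborbit]
      intro hmem
      have hcom : (⟨_, hmem⟩ : ↥H) * a = a * ⟨_, hmem⟩ := Subtype.ext (by
        show g⁻¹ * (b : PSL₂) * g * a = a * (g⁻¹ * b * g)
        have hc : Commute (b : PSL₂) a := congrArg Subtype.val
          (e.injective (by rw [map_mul, map_mul, ha, hb]; decide) : b * a = a * b)
        exact ((hga.inv_left.mul_left hc).mul_left hga).eq)
      have hgg : g⁻¹ * g⁻¹ ∈ tor (a : PSL₂) := mul_mem (inv_mem hgA) (inv_mem hgA)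
      have h4' : g⁻¹ * g⁻¹ * (g⁻¹ * g⁻¹) = 1 := by
        have hb' : g⁻¹ * g⁻¹ = g⁻¹ * (b : PSL₂) * g * (b : PSL₂)⁻¹ := by rw [hbg, mul_inv_cancel_right]
        have hval : ∀ u : ↥H, (⟨_, hmem⟩ : ↥H) = u → g⁻¹ * g⁻¹ = ((u * b⁻¹ : ↥H) : PSL₂) := fun u hu => by
          rw [hb', Subgroup.coe_mul, Subgroup.coe_inv, ← hu]
        rcases BinAct.alt5_cent (e ⟨_, hmem⟩) (by rw [← ha, ← map_mul, ← map_mul, hcom]) with h | h | h | h
        · exfalso
          have hv := hval 1 (e.injective (h.trans (map_one e).symm))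
          rw [one_mul] at hv
          have h' := inv_mem (hv ▸ hgg : ((b⁻¹ : ↥H) : PSL₂) ∈ tor (a : PSL₂))
          rw [Subgroup.coe_inv, inv_inv] at h'
          exact hbT h'
        · exfalso
          have hv := hval a (e.injective (h.trans ha.symm))
          rw [Subgroup.coe_mul, Subgroup.coe_inv] at hv
          have := (Subgroup.mul_mem_cancel_left _ (D.self (a : PSL₂))).1 (hv ▸ hgg)
          have h' : (b : PSL₂)⁻¹⁻¹ ∈ tor (a : PSL₂) := inv_mem this
          rw [inv_inv] at h'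
          exact hbT h'
        · have hv := hval b (e.injective (h.trans hb.symm))
          rw [mul_inv_cancel] at hv
          rw [hv]; simp
        · have hv := hval (a * b) (e.injective (h.trans ((map_mul e a b).trans ((congrArg₂ (· * ·) ha hb).trans (by decide))).symm))
          rw [mul_inv_cancel_right] at hv
          rw [hv, haa]
      have h5 : g ^ 4 = 1 := by
        rw [show g ^ 4 = (g⁻¹ * g⁻¹ * (g⁻¹ * g⁻¹))⁻¹ by simp [pow_succ, mul_assoc], h4', inv_one]
      have := Nat.le_of_dvd (by norm_num) (orderOf_dvd_of_pow_eq_one h5)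
      omega
  · have hq9 : Fintype.card F = 9 := by
      have hG := card_psl (F := F)
      have hd60 : 60 ∣ Nat.card PSL₂ := hH60 ▸ H.card_subgroup_dvd_card
      obtain ⟨k, hk⟩ := hodd
      have hcases : Fintype.card F = 7 ∨ Fintype.card F = 9 := by
        rcases card_tor_semi p ha1 hap with h | h <;> rw [hd] at h <;> omega
      rcases hcases with h | h
      · rw [h, hd] at hG; omega
      · exact h
    have hG : Nat.card PSL₂ = 360 := by
      have := card_psl (F := F)
      rw [hq9, hd] at this; omega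
    have hidx : H.index = 6 := by
      have := Subgroup.card_mul_index H
      rw [hH60, hG] at this; omega
    haveI : IsSimpleGroup PSL₂ := Classical.PSL_isSimple le_rfl fun _ => by omega
    refine BinAct.not_isBin_of_alternating (by omega) ?_ (by rw [hG, hidx]; rfl)
    refine (MonoidHom.ker_eq_bot_iff _).1
      (((inferInstance : (MulAction.toPermHom PSL₂ (PSL₂ ⧸ H)).ker.Normal).eq_bot_or_eq_top).resolve_right
        fun htop => ?_)
    have hle : (⊤ : Subgroup PSL₂) ≤ H := htop ▸ H.normalCore_eq_ker ▸ H.normalCore_le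
    rw [top_le_iff.1 hle, Subgroup.index_top] at hidx
    omega

/-- Matrices commuting with the standard involution up to sign. -/
abbrev K7 (M : Matrix (Fin 2) (Fin 2) (ZMod 7)) : Prop :=
  M * !![0, -1; 1, 0] = !![0, -1; 1, 0] * M ∨ M * !![0, -1; 1, 0] = -(!![0, -1; 1, 0] * M)

set_option maxHeartbeats 4000000 in
/-- Finite check for the Sylow two-subgroup of `PSL(2, 7)`. -/
theorem seven_data : ∀ a b c d : ZMod 7, a * d - b * c = 1 → K7 !![a, b; c, d] →
    (K7 (!![2, -1; 1, 0] * !![a, b; c, d] * !![0, 1; -1, 2]) → (b = 0 ∧ c = 0 ∧ a = d)) ∧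
    (K7 (!![0, -2; -3, 0] * !![a, b; c, d] * !![0, 2; 3, 0]) → (b = 0 ∧ c = 0 ∧ a = d)) := by
  decide

/-- The standard involution over the field with seven elements. -/
abbrev sevZ : Matrix.SpecialLinearGroup (Fin 2) (ZMod 7) := ⟨!![0, -1; 1, 0], by decide⟩
/-- First conjugating element. -/
abbrev sevA : Matrix.SpecialLinearGroup (Fin 2) (ZMod 7) := ⟨!![0, 1; -1, 2], by decide⟩
/-- Second conjugating element. -/
abbrev sevB : Matrix.SpecialLinearGroup (Fin 2) (ZMod 7) := ⟨!![0, 2; 3, 0], by decide⟩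
/-- The product. -/
abbrev sevH : Matrix.SpecialLinearGroup (Fin 2) (ZMod 7) := ⟨!![2, 2; 5, 2], by decide⟩
/-- First factor. -/
abbrev sevX : Matrix.SpecialLinearGroup (Fin 2) (ZMod 7) := ⟨!![2, 5; 3, 1], by decide⟩
/-- Second factor. -/
abbrev sevY : Matrix.SpecialLinearGroup (Fin 2) (ZMod 7) := ⟨!![2, 1; 3, 2], by decide⟩

theorem sev_facts : sevZ * sevZ = -1 ∧ sevZ ≠ 1 ∧ sevZ ≠ -1 ∧ sevH ≠ 1 ∧ sevH ≠ -1 ∧
    (sevH * sevZ = sevZ * sevH ∨ sevH * sevZ = -(sevZ * sevH)) ∧
    (sevA⁻¹ * sevX * sevA * sevZ = sevZ * (sevA⁻¹ * sevX * sevA) ∨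
      sevA⁻¹ * sevX * sevA * sevZ = -(sevZ * (sevA⁻¹ * sevX * sevA))) ∧
    (sevB⁻¹ * sevY * sevB * sevZ = sevZ * (sevB⁻¹ * sevY * sevB) ∨
      sevB⁻¹ * sevY * sevB * sevZ = -(sevZ * (sevB⁻¹ * sevY * sevB))) ∧
    (sevX * sevY = sevH ∨ sevX * sevY = -sevH) ∧
    ((sevA⁻¹ : Matrix.SpecialLinearGroup (Fin 2) (ZMod 7)) : Matrix (Fin 2) (Fin 2) (ZMod 7)) = !![2, -1; 1, 0] ∧
    ((sevB⁻¹ : Matrix.SpecialLinearGroup (Fin 2) (ZMod 7)) : Matrix (Fin 2) (Fin 2) (ZMod 7)) = !![0, -2; -3, 0] := by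
  decide

/-- The Sylow two-subgroup of `PSL(2, 7)`. -/
theorem not_isBin_syl_seven (hF : Fintype.card F = 7) {H : Subgroup PSL₂} {z : PSL₂} (hz : z * z = 1)
    (hz1 : z ≠ 1) (hH : H = Subgroup.centralizer ({z} : Set PSL₂)) : ¬ IsBin H := by
  classical
  haveI : Fact (Nat.Prime 7) := ⟨by norm_num⟩
  haveI hc7 : CharP F 7 := charP_of_card_eq_prime hF
  have hodd : Odd (Fintype.card F) := by rw [hF]; decide
  have h2 := two_ne_zero_of_odd_card hodd
  let f : ZMod 7 →+* F := ZMod.castHom dvd_rfl F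
  have hfi : Function.Injective f := f.injective
  have hfs : Function.Surjective f := by
    refine ((Fintype.bijective_iff_injective_and_card _).2 ⟨hfi, ?_⟩).2
    rw [ZMod.card, hF]
  let φ := Matrix.SpecialLinearGroup.map (n := Fin 2) f
  have hφs : Function.Surjective φ := by
    intro y
    choose Y hY using fun i j => hfs (y.1 i j)
    refine ⟨⟨Matrix.of Y, hfi ?_⟩, ?_⟩
    · rw [RingHom.map_det, map_one, ← y.2]
      congr 1
      ext i j
      simp [hY]
    · exact Subtype.ext (Matrix.ext fun i j => hY i j)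
  have hφi : Function.Injective φ := fun x y h => Subtype.ext (Matrix.ext fun i j =>
    hfi (congrFun (congrFun (congrArg Subtype.val h) i) j))
  have hφneg : ∀ x, φ (-x) = -φ x := fun x => Subtype.ext (Matrix.ext fun i j => by simp [φ])
  obtain ⟨fZZ, fZ1, fZ2, fH1, fH2, fH, fX, fY, fP, fA, fB⟩ := sev_facts
  have hZZ : (proj (φ sevZ) : PSL₂) * proj (φ sevZ) = 1 := by
    rw [← map_mul, ← map_mul, proj_one_iff]
    exact Or.inr (by rw [fZZ, hφneg, map_one])
  have hZ1 : (proj (φ sevZ) : PSL₂) ≠ 1 := by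
    rw [Ne, proj_one_iff]
    rintro (h | h)
    · exact fZ1 (hφi (h.trans (map_one φ).symm))
    · exact fZ2 (hφi (h.trans (by rw [hφneg, map_one])))
  obtain ⟨g, hg⟩ := invol_conj h2 hZZ hZ1 hz hz1
  rw [← isBin_conj_iff H g⁻¹]
  set H' := H.map (MulAut.conj g⁻¹).toMonoidHom
  have hK : ∀ Y : Matrix.SpecialLinearGroup (Fin 2) (ZMod 7),
      proj (φ Y) ∈ H' ↔ (Y * sevZ = sevZ * Y ∨ Y * sevZ = -(sevZ * Y)) := by
    intro Y
    rw [mem_map_conj, inv_inv, hH, Subgroup.mem_centralizer_singleton_iff, ← hg]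
    have e1 : g * proj (φ Y) * g⁻¹ * (g * proj (φ sevZ) * g⁻¹) = g * (proj (φ (Y * sevZ))) * g⁻¹ := by
      rw [map_mul, map_mul]; group
    have e2 : g * proj (φ sevZ) * g⁻¹ * (g * proj (φ Y) * g⁻¹) = g * (proj (φ (sevZ * Y))) * g⁻¹ := by
      rw [map_mul, map_mul]; group
    rw [e1, e2, mul_left_inj, mul_right_inj, proj_eq_iff]
    constructor
    · rintro (h | h)
      · exact Or.inl (hφi h).symm
      · rw [← hφneg] at h
        exact Or.inr (by rw [hφi h, neg_neg])
    · rintro (h | h)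
      · exact Or.inl (by rw [h])
      · exact Or.inr (by rw [h, hφneg, neg_neg])
  have key : ∀ C : Matrix.SpecialLinearGroup (Fin 2) (ZMod 7), (C = sevA ∨ C = sevB) →
      ∀ d ∈ H', d ∈ stab H' (proj (φ C)) → d = 1 := by
    intro C hC d hd hdC
    obtain ⟨D₀, rfl⟩ := proj_surjective d
    obtain ⟨Y, rfl⟩ := hφs D₀
    rw [mem_stab, ← map_inv, ← map_mul, ← map_mul, ← map_inv, ← map_mul, ← map_mul, hK] at hdC
    rw [hK] at hd
    have hYm : (Y : Matrix (Fin 2) (Fin 2) (ZMod 7)) = !![Y.1 0 0, Y.1 0 1; Y.1 1 0, Y.1 1 1] :=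
      Matrix.eta_fin_two _
    have conv1 : ∀ M : Matrix.SpecialLinearGroup (Fin 2) (ZMod 7),
        (M * sevZ = sevZ * M ∨ M * sevZ = -(sevZ * M)) → K7 (M : Matrix (Fin 2) (Fin 2) (ZMod 7)) :=
      fun M hM => hM.imp (congrArg Subtype.val) (congrArg Subtype.val)
    have h1 := conv1 Y hd
    rw [hYm] at h1
    obtain ⟨hA, hB⟩ := seven_data (Y.1 0 0) (Y.1 0 1) (Y.1 1 0) (Y.1 1 1) (det_eq Y) h1
    have hfin : Y.1 0 1 = 0 ∧ Y.1 1 0 = 0 ∧ Y.1 0 0 = Y.1 1 1 := by
      have h3 := conv1 _ hdC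
      rcases hC with rfl | rfl
      · refine hA ?_
        rw [Matrix.SpecialLinearGroup.coe_mul, Matrix.SpecialLinearGroup.coe_mul, hYm, fA] at h3
        exact h3
      · refine hB ?_
        rw [Matrix.SpecialLinearGroup.coe_mul, Matrix.SpecialLinearGroup.coe_mul, hYm, fB] at h3
        exact h3
    rw [proj_one_iff]
    rcases isScalar_of_diag hfin.1 hfin.2.1 hfin.2.2 with h | h <;> rw [h]
    · exact Or.inl (map_one φ)
    · exact Or.inr (by rw [hφneg, map_one])
  refine not_isBin (proj (φ sevA)) (proj (φ sevB)) (proj (φ sevH)) (proj (φ (sevA⁻¹ * sevX * sevA)))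
    (proj (φ (sevB⁻¹ * sevY * sevB))) ((hK _).2 fH) ((hK _).2 fX) ((hK _).2 fY) ?_ fun d e hd hda he heb hde => ?_
  · simp only [← map_inv, ← map_mul]
    rw [show sevA * (sevA⁻¹ * sevX * sevA) * sevA⁻¹ * (sevB * (sevB⁻¹ * sevY * sevB) * sevB⁻¹) =
      sevX * sevY by group, proj_eq_iff]
    rcases fP with h | h <;> rw [h]
    · exact Or.inl rfl
    · exact Or.inr (hφneg _)
  · rw [key sevA (Or.inl rfl) d hd hda, key sevB (Or.inr rfl) e he heb, one_mul, proj_one_iff] at hde
    rcases hde with h | h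
    · exact fH1 (hφi (h.trans (map_one φ).symm))
    · exact fH2 (hφi (h.trans (by rw [hφneg, map_one])))

end Cfsg.Agent.PSLBin
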