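import Mathlib
import Cfsg.Agent.Lib.Classical.PSLBinaryBasic

/-!
The binary coset actions of `PSL(2, q)`: Sylow subgroups in even characteristic and subgroups of
order three when `q` is an odd power of two.
-/

set_option autoImplicit false

namespace Cfsg.Agent.PSLBin

open Matrix Cfsg.Agent.Grp.SL2 Cfsg.Agent.PSL2Spec Cfsg.Agent.Dickson Cfsg.Agent.Dickson.ClassProd Cfsg.Agent.BinAct

variable {F : Type*} [Field F] [Fintype F]

local notation "SL₂" => Matrix.SpecialLinearGroup (Fin 2) F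
local notation "PSL₂" => Matrix.ProjectiveSpecialLinearGroup (Fin 2) F

theorem charP_two (h2 : (2 : F) = 0) : CharP F 2 :=
  CharTwo.of_one_ne_zero_of_two_eq_zero one_ne_zero h2

/-- The action on the cosets of a Sylow subgroup in even characteristic. -/
theorem isBin_card_q {H : Subgroup PSL₂} (h2 : (2 : F) = 0) (hH : Nat.card H = Fintype.card F) :
    IsBin H := by
  haveI := charP_two h2
  haveI : Fact (Nat.Prime 2) := ⟨Nat.prime_two⟩
  set D := pslData (F := F) 2
  obtain ⟨n, -, hn⟩ := FiniteField.card F 2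
  have hpg : IsPGroup 2 H := IsPGroup.of_card (hH.trans hn)
  haveI : Nontrivial H := Finite.one_lt_card_iff_nontrivial.mp (hH ▸ Fintype.one_lt_card)
  obtain ⟨a, ha⟩ : ∃ a : Subgroup.center H, a ≠ 1 :=
    @exists_ne _ (IsPGroup.center_nontrivial hpg) 1
  obtain ⟨k, hk⟩ := hpg a
  obtain ⟨b, hb1, hb2, hbc⟩ : ∃ b : H, b ≠ 1 ∧ b ^ 2 = 1 ∧ b ∈ Subgroup.center H := by
    have ha' : (a : H) ≠ 1 := fun e => ha (Subtype.ext e)
    obtain ⟨i, -, hi⟩ := (Nat.dvd_prime_pow Nat.prime_two).1 (orderOf_dvd_of_pow_eq_one hk)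
    have hi0 : i ≠ 0 := fun e => ha' (orderOf_eq_one_iff.1 (by rw [hi, e, pow_zero]))
    refine ⟨(a : H) ^ (2 ^ (i - 1)), ?_, ?_, pow_mem a.2 _⟩
    · intro e
      have := Nat.le_of_dvd (Nat.two_pow_pos _) (orderOf_dvd_of_pow_eq_one e)
      rw [hi] at this
      exact absurd this (not_le.2 (Nat.pow_lt_pow_right (by norm_num) (by omega)))
    · rw [← pow_mul, ← pow_succ, show i - 1 + 1 = i by omega, ← hi, pow_orderOf_eq_one]
  have hb1' : (b : PSL₂) ≠ 1 := fun e => hb1 (Subtype.ext e)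
  have hb2' : (b : PSL₂) ^ 2 = 1 := by rw [← Subgroup.coe_pow, hb2]; rfl
  have hle : H ≤ tor (b : PSL₂) := fun h hh =>
    D.uni_cent hb1' hb2' (congrArg Subtype.val (Subgroup.mem_center_iff.1 hbc ⟨h, hh⟩))
  have heq : H = tor (b : PSL₂) := Subgroup.eq_of_le_of_card_ge hle (by
    rw [hH, card_tor_uni 2 hb1' hb2'])
  have hinv : ∀ h ∈ H, h ^ 2 = 1 := fun h hh => D.uni_exp hb1' hb2' (hle hh)
  have hcent : ∀ h ∈ H, h ≠ 1 → ∀ y, (y ∈ H ↔ Commute y h) := by
    intro h hh h1 y
    have e : tor h = H := (D.same hb1' (hle hh) h1).trans heq.symm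
    refine ⟨fun hy => ?_, fun hy => e ▸ D.uni_cent h1 (hinv h hh) hy⟩
    exact D.comm hb1' (hle hy) (hle hh)
  have hst : ∀ (c x : PSL₂), x ∈ stab H c → x ≠ 1 → ∀ y, (y ∈ stab H c ↔ Commute y x) := by
    intro c x hx hx1 y
    rw [mem_stab] at hx
    rw [mem_stab, hcent _ hx (fun e => hx1 (by
      rw [show x = c * (c⁻¹ * x * c) * c⁻¹ by group, e]; group)) (c⁻¹ * y * c)]
    rw [show c⁻¹ * y * c = c⁻¹ * y * (c⁻¹)⁻¹ by rw [inv_inv],
      show c⁻¹ * x * c = c⁻¹ * x * (c⁻¹)⁻¹ by rw [inv_inv]]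
    exact Commute.conj_iff c⁻¹
  have hsq : ∀ (c x : PSL₂), x ∈ stab H c → x * x = 1 := by
    intro c x hx
    have := hinv _ (mem_stab.1 hx)
    rw [sq] at this
    calc x * x = c * ((c⁻¹ * x * c) * (c⁻¹ * x * c)) * c⁻¹ := by group
      _ = 1 := by rw [this]; group
  have hTI : ∀ c d : PSL₂, stab H c ≠ stab H d → stab H c ⊓ stab H d = ⊥ := by
    intro c d hne
    rw [Subgroup.eq_bot_iff_forall]
    intro x hx
    obtain ⟨hxc, hxd⟩ := Subgroup.mem_inf.1 hx
    by_contra hx1
    exact hne (Subgroup.ext fun y => by rw [hst c x hxc hx1, hst d x hxd hx1])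
  refine isBin_of_triangle hTI fun a b c hab hac hbc x hx y hy hxy => ?_
  by_contra hne
  have hy1 : y ≠ 1 := fun e => by
    rw [e, mul_one] at hxy hne
    exact hne (Subgroup.mem_bot.1 (hTI a b hab ▸ Subgroup.mem_inf.2 ⟨hxy, hx⟩))
  have hx1 : x ≠ 1 := fun e => by
    rw [e, one_mul] at hxy hne
    exact hne (Subgroup.mem_bot.1 (hTI a c hac ▸ Subgroup.mem_inf.2 ⟨hxy, hy⟩))
  have hcomm : Commute y x := by
    have hx' : x⁻¹ = x := inv_eq_of_mul_eq_one_right (hsq b x hx)
    have hy' : y⁻¹ = y := inv_eq_of_mul_eq_one_right (hsq c y hy)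
    have h' := inv_eq_of_mul_eq_one_right (hsq a _ hxy)
    rw [_root_.mul_inv_rev, hx', hy'] at h'
    exact h'
  have hyb : y ∈ stab H b := (hst b x hx hx1 y).2 hcomm
  exact hy1 (Subgroup.mem_bot.1 (hTI b c hbc ▸ Subgroup.mem_inf.2 ⟨hyb, hy⟩))

/-- There is no cube root of unity in the field with `2 ^ a` elements, `a` odd. -/
theorem no_omega {a : ℕ} (ha : Odd a) (hF : Fintype.card F = 2 ^ a) (h2 : (2 : F) = 0) (u : F) :
    u ^ 2 + u + 1 ≠ 0 := by
  classical
  intro h
  have hu3 : u ^ 3 = 1 := by linear_combination (u - 1) * h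
  have hu1 : u ≠ 1 := fun e => by
    rw [e] at h; exact one_ne_zero (by linear_combination h - h2 : (1 : F) = 0)
  have hu0 : u ≠ 0 := fun e => by rw [e] at h; simp at h
  haveI : Fact (Nat.Prime 3) := ⟨Nat.prime_three⟩
  have ho : orderOf u = 3 := orderOf_eq_prime hu3 hu1
  have hd : 3 ∣ Fintype.card F - 1 := ho ▸ orderOf_dvd_of_pow_eq_one (FiniteField.pow_card_sub_one_eq_one u hu0)
  obtain ⟨k, rfl⟩ := ha
  have hm : 2 ^ (2 * k + 1) % 3 = 2 := by
    rw [pow_succ, pow_mul, Nat.mul_mod, Nat.pow_mod]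
    norm_num
  rw [hF] at hd
  have := Nat.two_pow_pos (2 * k + 1)
  generalize 2 ^ (2 * k + 1) = N at hd hm this
  omega

theorem tr_of_order_three (h2 : (2 : F) = 0) {X : SL₂} (h : proj X * proj X * proj X = 1)
    (h1 : proj X ≠ 1) : tr X = 1 := by
  have hns : ¬ IsScalar X := fun e => h1 (proj_one_iff.2 e)
  rw [← map_mul, ← map_mul] at h
  have hX : X * X * X = 1 := (proj_injective h2 (h.trans (map_one proj).symm))
  have e := congrArg Subtype.val hX
  rw [Matrix.SpecialLinearGroup.coe_mul, Matrix.SpecialLinearGroup.coe_mul, cayley, sub_mul,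
    Matrix.smul_mul, cayley, one_mul, smul_sub, smul_smul, Matrix.SpecialLinearGroup.coe_one] at e
  set t := tr X
  have e00 := congrFun (congrFun e 0) 0
  have e01 := congrFun (congrFun e 0) 1
  have e10 := congrFun (congrFun e 1) 0
  have e11 := congrFun (congrFun e 1) 1
  simp at e00 e01 e10 e11
  by_cases ht : t * t - 1 = 0
  · exact sub_eq_zero.1 (mul_self_eq_zero.1 (show (t - 1) * (t - 1) = 0 by linear_combination ht + (1 - t) * h2))
  exfalso
  refine hns (isScalar_of_diag ?_ ?_ ?_)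
  · exact (mul_eq_zero.1 (show (t * t - 1) * X.1 0 1 = 0 by linear_combination e01)).resolve_left ht
  · exact (mul_eq_zero.1 (show (t * t - 1) * X.1 1 0 = 0 by linear_combination e10)).resolve_left ht
  · exact mul_left_cancel₀ ht (by linear_combination e00 - e11)

/-- The action on the cosets of a subgroup of order three when `q` is an odd power of two. -/
theorem isBin_card_three {H : Subgroup PSL₂} {a : ℕ} (ha : Odd a) (hF : Fintype.card F = 2 ^ a)
    (hH : Nat.card H = 3) : IsBin H := by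
  have h2 : (2 : F) = 0 := by
    by_contra h
    have := two_ne_zero_iff_odd.1 h
    rw [hF, Nat.odd_pow_iff ha.pos.ne'] at this
    exact absurd this (by decide)
  haveI : Fact (Nat.Prime 3) := ⟨Nat.prime_three⟩
  have hcard : ∀ c : PSL₂, Nat.card ↥(stab H c) = 3 := fun c =>
    (Subgroup.card_map_of_injective (MulAut.conj c).injective).trans hH
  have hTI : ∀ b c : PSL₂, stab H b ≠ stab H c → stab H b ⊓ stab H c = ⊥ := by
    intro b c hne
    have hd := Subgroup.card_dvd_of_le (inf_le_left : stab H b ⊓ stab H c ≤ stab H b)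
    rw [hcard] at hd
    rcases (Nat.dvd_prime Nat.prime_three).1 hd with h | h
    · exact Subgroup.eq_bot_of_card_eq _ h
    · refine absurd ?_ hne
      have e1 := Subgroup.eq_of_le_of_card_ge (inf_le_left : stab H b ⊓ stab H c ≤ _) (by rw [h, hcard])
      have e2 := Subgroup.eq_of_le_of_card_ge (inf_le_right : stab H b ⊓ stab H c ≤ _) (by rw [h, hcard])
      rw [← e1, e2]
  have hpow : ∀ c x : PSL₂, x ∈ stab H c → x * x * x = 1 := by
    intro c x hx
    have h := pow_card_eq_one' (x := (⟨x, hx⟩ : ↥(stab H c)))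
    rw [hcard] at h
    have := congrArg Subtype.val h
    simpa [pow_succ] using this
  refine isBin_of_triangle hTI fun u b c hub huc hbc x hx y hy hxy => ?_
  by_contra hne
  have hy1 : y ≠ 1 := fun e => by
    rw [e, mul_one] at hxy hne
    exact hne (Subgroup.mem_bot.1 (hTI u b hub ▸ Subgroup.mem_inf.2 ⟨hxy, hx⟩))
  have hx1 : x ≠ 1 := fun e => by
    rw [e, one_mul] at hxy hne
    exact hne (Subgroup.mem_bot.1 (hTI u c huc ▸ Subgroup.mem_inf.2 ⟨hxy, hy⟩))
  obtain ⟨X, rfl⟩ := proj_surjective x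
  obtain ⟨Y, rfl⟩ := proj_surjective y
  have tX := tr_of_order_three h2 (hpow b _ hx) hx1
  have tY := tr_of_order_three h2 (hpow c _ hy) hy1
  have tXY : tr (X * Y) = 1 :=
    tr_of_order_three h2 (by rw [map_mul]; exact hpow u _ hxy) (by rw [map_mul]; exact hne)
  obtain ⟨X₀, hX₀⟩ : ∃ X : SL₂, (X : Matrix (Fin 2) (Fin 2) F) = !![0, -1; 1, 1] :=
    ⟨⟨!![0, -1; 1, 1], by simp [Matrix.det_fin_two]⟩, rfl⟩
  have h14 : (1 : F) ^ 2 ≠ 4 := fun e => one_ne_zero (by linear_combination e + 2 * h2 : (1 : F) = 0)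
  obtain ⟨g, hg⟩ := isConj_iff.1 (isConj_of_tr (X := X₀) (Y := X) (by rw [tX]; simp [tr, hX₀])
    (by simpa [tr, hX₀] using h14))
  set Y' := g * Y * g⁻¹ with hY'
  have tY' : tr Y' = 1 := by rw [hY', tr_conj, tY]
  have tXY' : tr (X₀ * Y') = 1 := by
    rw [← hg, hY', show g * X * g⁻¹ * (g * Y * g⁻¹) = g * (X * Y) * g⁻¹ by group, tr_conj, tXY]
  have hd := det_eq Y'
  simp only [tr] at tY'
  simp [tr, hX₀, Matrix.mul_apply, Fin.sum_univ_two] at tXY'
  set r := Y'.1 0 0 with hr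
  set s := Y'.1 0 1 with hs
  set v := Y'.1 1 0 with hv
  set w := Y'.1 1 1 with hw
  have hsv : r + s + v = 0 := by linear_combination tXY' - tY' + (r + v) * h2
  have hquad : (s + 1) ^ 2 + (s + 1) * (v + 1) + (v + 1) ^ 2 = 0 := by
    have e : r * (1 - r) - s * v = 1 := by linear_combination hd - r * tY'
    linear_combination -e + (1 - r + (s + v)) * hsv + (s + v - s * v + 1) * h2
  have hv1 : v + 1 = 0 := by
    by_contra hv0
    refine no_omega ha hF h2 ((s + 1) / (v + 1)) ?_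
    field_simp
    linear_combination hquad
  have hs1 : s + 1 = 0 := by
    rw [hv1] at hquad
    exact pow_eq_zero_iff two_ne_zero |>.1 (by linear_combination hquad)
  have hYX : Y' = X₀ := by
    refine Subtype.ext ?_
    rw [hX₀]
    ext i j
    fin_cases i <;> fin_cases j <;> simp [← hr, ← hs, ← hv, ← hw]
    · linear_combination hsv - hs1 - hv1 + h2
    · linear_combination hs1
    · linear_combination hv1 - h2
    · linear_combination tY' - hsv + hs1 + hv1 - h2
  have hXYeq : Y = X := by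
    have := hYX.trans hg.symm
    exact mul_left_cancel (mul_right_cancel this)
  rw [hXYeq] at hy
  exact hbc (by
    by_contra hne'
    exact hx1 (Subgroup.mem_bot.1 (hTI b c hne' ▸ Subgroup.mem_inf.2 ⟨hx, hy⟩)))

end Cfsg.Agent.PSLBin
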