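import Mathlib
import Cfsg.Agent.Lib.Classical.DicksonMain
import Cfsg.Agent.Lib.Classical.PSLBinaryExc
import Cfsg.Agent.Lib.Classical.PSLBinaryPos
import Cfsg.Agent.Lib.Classical.PSLBinaryUnip
import Cfsg.Agent.Lib.Recog.ProjLine
import Cfsg.Agent.Lib.Fus.SmallSimple

/-!
The binary coset actions of `PSL(2, q)`.
-/

set_option autoImplicit false

namespace Cfsg.Agent.PSLBin

open Matrix Cfsg.Agent.Grp.SL2 Cfsg.Agent.PSL2Spec Cfsg.Agent.Dickson Cfsg.Agent.Dickson.ClassProd
  Cfsg.Agent.BinAct

variable {F : Type*} [Field F] [Fintype F]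

local notation "SL₂" => Matrix.SpecialLinearGroup (Fin 2) F
local notation "PSL₂" => Matrix.ProjectiveSpecialLinearGroup (Fin 2) F
local notation "M₂" => Matrix (Fin 2) (Fin 2) F
local notation "cj" => Cfsg.Agent.Grp.SL2.conjHom

/-- Subgroups rational over a proper subfield. -/
theorem not_isBin_rat {H : Subgroup PSL₂} (K : Subfield F)
    (hrat : ∀ y : SL₂, proj y ∈ H → ∃ μ : F, μ ≠ 0 ∧ ∀ i j, μ * y.1 i j ∈ K) {z : Fˣ}
    (ht : proj (dg z) ∈ H) (hl : (z : F) ^ 2 ∈ K) (hz : (z : F) ^ 4 ≠ 1) (hK : K ≠ ⊤) : ¬ IsBin H := by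
  obtain ⟨c, hc⟩ : ∃ c, c ∉ K := by
    by_contra h
    push Not at h
    exact hK (eq_top_iff.2 fun x _ => h x)
  refine not_isBin_split ht c ?_ ?_
  · intro h
    obtain ⟨μ, hμ, hm⟩ := hrat _ h
    have h00 : μ ∈ K := by have := hm 0 0; simpa [up_coe] using this
    have h01 : μ * (c / (z : F) ^ 4 - c) ∈ K := by have := hm 0 1; simpa [up_coe] using this
    have he : c / (z : F) ^ 4 - c ∈ K := by
      have := K.mul_mem (K.inv_mem h00) h01
      rwa [inv_mul_cancel_left₀ hμ] at this
    have hz4 : ((z : F) ^ 4)⁻¹ - 1 ∈ K := by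
      refine K.sub_mem (K.inv_mem ?_) K.one_mem
      rw [show (z : F) ^ 4 = (z : F) ^ 2 * (z : F) ^ 2 by ring]
      exact K.mul_mem hl hl
    have hne : ((z : F) ^ 4)⁻¹ - 1 ≠ 0 := fun e => hz (inv_eq_one.1 (sub_eq_zero.1 e))
    have hkey := K.mul_mem he (K.inv_mem hz4)
    rw [show c / (z : F) ^ 4 - c = c * (((z : F) ^ 4)⁻¹ - 1) by ring, mul_inv_cancel_right₀ hne] at hkey
    exact hc hkey
  · intro y hy hya
    obtain ⟨μ, hμ, hm⟩ := hrat y hy
    obtain ⟨ν, hν, hn⟩ := hrat _ hya
    rw [Matrix.SpecialLinearGroup.coe_mul, Matrix.SpecialLinearGroup.coe_mul, up_inv, up_coe, up_coe,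
      Matrix.eta_fin_two (y : M₂)] at hn
    have n10 := hn 1 0
    have n00 := hn 0 0
    have n01 := hn 0 1
    simp [up_inv, up_coe, Matrix.mul_apply, Fin.sum_univ_two] at n10 n00 n01
    have y10 : y.1 1 0 = 0 := by
      by_contra h
      refine hc ?_
      have e : c = (μ * y.1 0 0) * (μ * y.1 1 0)⁻¹ -
          (ν * (y.1 0 0 + -(c * y.1 1 0))) * (ν * y.1 1 0)⁻¹ := by
        field_simp
        ring
      rw [e]
      exact K.sub_mem (K.mul_mem (hm 0 0) (K.inv_mem (hm 1 0))) (K.mul_mem n00 (K.inv_mem n10))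
    rw [y10] at n00 n01
    simp at n00 n01
    have d := det_eq y
    rw [y10, mul_zero, sub_zero] at d
    have h00 : y.1 0 0 ≠ 0 := left_ne_zero_of_mul_eq_one d
    have y11 : y.1 1 1 = y.1 0 0 := by
      by_contra h
      refine hc ?_
      have hd' : 1 - (μ * y.1 1 1) * (μ * y.1 0 0)⁻¹ ≠ 0 := by
        intro e
        field_simp at e
        exact h (by linear_combination -e)
      have hne : y.1 0 0 - y.1 1 1 ≠ 0 := sub_ne_zero.2 (Ne.symm h)
      have e : c = ((ν * (y.1 0 0 * c + (y.1 0 1 + -(c * y.1 1 1)))) * (ν * y.1 0 0)⁻¹ -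
          (μ * y.1 0 1) * (μ * y.1 0 0)⁻¹) * (1 - (μ * y.1 1 1) * (μ * y.1 0 0)⁻¹)⁻¹ := by
        rw [eq_mul_inv_iff_mul_eq₀ hd']
        field_simp
        ring
      rw [e]
      exact K.mul_mem (K.sub_mem (K.mul_mem n01 (K.inv_mem n00)) (K.mul_mem (hm 0 1) (K.inv_mem (hm 0 0))))
        (K.inv_mem (K.sub_mem K.one_mem (K.mul_mem (hm 1 1) (K.inv_mem (hm 0 0)))))
    have hcom : ∀ e : F, Commute y (up e) := by
      intro e
      refine Subtype.ext ?_
      simp only [Matrix.SpecialLinearGroup.coe_mul]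
      ext i j
      fin_cases i <;> fin_cases j <;> simp [up_coe, Matrix.mul_apply, Fin.sum_univ_two, y10, y11]
      ring
    rw [mul_assoc, (hcom _).eq, inv_mul_cancel_left]
    exact hy

section small

open Cfsg.Agent.Recog.ProjLine

theorem card_p1_three {E : Type*} [Field E] [Finite E] (hE : Nat.card E = 3) : Nat.card (P1 E) = 4 := by
  rw [Projectivization.card_of_finrank_two E (Fin 2 → E) (by simp), hE]

theorem pgl_three_iso {E : Type*} [Field E] [Finite E] (hE : Nat.card E = 3) :
    Nonempty (Matrix.ProjGenLinGroup (Fin 2) E ≃* Equiv.Perm (P1 E)) := by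
  classical
  have h4 := card_p1_three hE
  haveI : Finite (P1 E) := Nat.finite_of_card_ne_zero (by omega)
  haveI : Fintype (P1 E) := Fintype.ofFinite _
  obtain ⟨n1, n2, n3⟩ := ne01 (F := E)
  refine ⟨MulEquiv.ofBijective (MulAction.toPermHom (Matrix.ProjGenLinGroup (Fin 2) E) (P1 E)) ⟨?_, ?_⟩⟩
  · refine (injective_iff_map_eq_one _).2 fun g hg => ?_
    exact (pgl_three (F := E)).2 g p0 p1 p01 n1 n2 n3 (Equiv.congr_fun hg p0) (Equiv.congr_fun hg p1)
      (Equiv.congr_fun hg p01)
  · intro σ
    obtain ⟨g, g0, g1, g2⟩ := exists_gl (σ.injective.ne n1) (σ.injective.ne n2) (σ.injective.ne n3)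
    refine ⟨Matrix.ProjGenLinGroup.mk g, Equiv.ext fun q => ?_⟩
    show g • q = σ q
    by_cases h : q = p0 ∨ q = p1 ∨ q = p01
    · rcases h with rfl | rfl | rfl <;> assumption
    push Not at h
    have huniq : ∀ r : P1 E, r ≠ σ p0 → r ≠ σ p1 → r ≠ σ p01 → r = σ q := by
      intro r r0 r1 r2
      by_contra hne
      have hc := Finset.card_le_univ ({r, σ q, σ p0, σ p1, σ p01} : Finset (P1 E))
      rw [← Nat.card_eq_fintype_card, h4, Finset.card_insert_of_notMem, Finset.card_insert_of_notMem,
        Finset.card_insert_of_notMem, Finset.card_insert_of_notMem, Finset.card_singleton] at hc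
      · omega
      all_goals simp only [Finset.mem_insert, Finset.mem_singleton, not_or, σ.injective.eq_iff]
      · exact n3
      · exact ⟨n1, n2⟩
      · exact h
      · exact ⟨hne, r0, r1, r2⟩
    have hgi : Function.Injective fun x : P1 E => g • x := MulAction.injective g
    exact huniq _ (g0 ▸ fun e => h.1 (hgi e)) (g1 ▸ fun e => h.2.1 (hgi e)) (g2 ▸ fun e => h.2.2 (hgi e))

theorem psl_three_iso {E : Type*} [Field E] [Fintype E] (hE : Fintype.card E = 3) :
    Nonempty (Matrix.ProjectiveSpecialLinearGroup (Fin 2) E ≃* alternatingGroup (Fin 4)) := by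
  classical
  obtain ⟨i⟩ := pgl_three_iso (E := E) (by rw [Nat.card_eq_fintype_card, hE])
  haveI : Finite (P1 E) := Nat.finite_of_card_ne_zero (by rw [card_p1_three (by rw [Nat.card_eq_fintype_card, hE])]; norm_num)
  haveI : Fintype (P1 E) := Fintype.ofFinite _
  set f := i.toMonoidHom.comp (Matrix.ProjectiveSpecialLinearGroup.toPGL (n := Fin 2) (R := E))
  have hf : Function.Injective f := i.injective.comp Matrix.ProjectiveSpecialLinearGroup.toPGL_injective
  have h4 : Fintype.card (P1 E) = 4 := by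
    rw [← Nat.card_eq_fintype_card, card_p1_three (by rw [Nat.card_eq_fintype_card, hE])]
  haveI : Nontrivial (P1 E) := Fintype.one_lt_card_iff_nontrivial.1 (by omega)
  have hr : f.range = alternatingGroup (P1 E) := by
    refine Equiv.Perm.eq_alternatingGroup_of_index_eq_two ?_
    have hG := card_psl (F := E)
    rw [hE, show del E = 2 by simp [del, hE]] at hG
    have h := Subgroup.card_mul_index f.range
    rw [← Nat.card_congr (MonoidHom.ofInjective hf).toEquiv, Nat.card_perm,
      card_p1_three (by rw [Nat.card_eq_fintype_card, hE] : Nat.card E = 3)] at h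
    have h12 : Nat.card (Matrix.ProjectiveSpecialLinearGroup (Fin 2) E) = 12 := by omega
    rw [h12] at h
    simp [Nat.factorial] at h
    omega
  exact ⟨(MonoidHom.ofInjective hf).trans ((MulEquiv.subgroupCongr hr).trans
    (Equiv.altCongrHom (Fintype.equivFinOfCardEq h4)))⟩

theorem psl_five_iso {E : Type*} [Field E] [Fintype E] (hE : Fintype.card E = 5) :
    Nonempty (Matrix.ProjectiveSpecialLinearGroup (Fin 2) E ≃* alternatingGroup (Fin 5)) := by
  haveI : IsSimpleGroup (Matrix.ProjectiveSpecialLinearGroup (Fin 2) E) :=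
    Classical.PSL_isSimple le_rfl fun _ => by omega
  refine Fus.alternating_five_of_card ?_
  have hG := card_psl (F := E)
  rw [hE, show del E = 2 by simp [del, hE]] at hG
  omega

end small

/-- Subgroups of subfield type. -/
theorem not_isBin_subfieldType {H : Subgroup PSL₂} (h7 : Odd (Fintype.card F) → 7 ≤ Fintype.card F)
    (hH : H ≠ ⊤) (hs : SubfieldType H) : ¬ IsBin H := by
  classical
  obtain ⟨K, P, hK3, hcase⟩ := hs
  have hP : IsUnit (P : M₂).det := Matrix.isUnits_det_units P
  set S : Subgroup (Matrix.ProjGenLinGroup (Fin 2) F) :=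
    H.map Matrix.ProjectiveSpecialLinearGroup.toPGL
  set e := pcj (P : M₂) hP
  rw [← isBin_comap_iff e H]
  set H' := H.comap e.toMonoidHom
  have hmem : ∀ (T : Subgroup (Matrix.ProjGenLinGroup (Fin 2) F)),
      S = T.map (MulAut.conj (Matrix.ProjGenLinGroup.mk P)).toMonoidHom →
      ∀ y : SL₂, proj y ∈ H' ↔ toP y ∈ T := by
    intro T hT y
    show proj (cj (P : M₂) hP y) ∈ H ↔ _
    rw [← Subgroup.mem_map_iff_mem (Matrix.ProjectiveSpecialLinearGroup.toPGL_injective (n := Fin 2) (R := F))]
    show _ ∈ S ↔ _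
    rw [hT, toPGL_proj, toP_conjHom, ← MulAut.conj_apply]
    exact Subgroup.mem_map_iff_mem (MulAut.conj (Matrix.ProjGenLinGroup.mk P)).injective
  -- `K` is proper
  have hrange : ∀ y : SL₂, K = ⊤ → toP y ∈ pslImg K.subtype := by
    intro y hK
    let y' : Matrix.SpecialLinearGroup (Fin 2) K :=
      ⟨Matrix.of fun i j => (⟨y.1 i j, hK ▸ Subfield.mem_top _⟩ : K), by
        apply Subtype.ext
        have := det_eq y
        simp [Matrix.det_fin_two]
        linear_combination this⟩
    refine ⟨proj y', ?_⟩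
    show pglMap K.subtype (toP y') = _
    rw [show toP y' = Matrix.ProjGenLinGroup.mk (Matrix.SpecialLinearGroup.toGL y') from rfl, pglMap_mk]
    exact congrArg _ (Units.ext (Matrix.ext fun i j => rfl))
  have hKne : K ≠ ⊤ := by
    intro hK
    refine hH (eq_top_iff.2 fun g _ => ?_)
    obtain ⟨y, rfl⟩ := proj_surjective g
    obtain ⟨x, rfl⟩ := conjHom_surjective (P : M₂) hP y
    show proj x ∈ H'
    rcases hcase with h | h
    · exact (hmem _ h x).2 (pslImg_le _ (hrange x hK))
    · exact (hmem _ h x).2 (hrange x hK)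
  -- rationality
  have hrat : ∀ y : SL₂, proj y ∈ H' → ∃ μ : F, μ ≠ 0 ∧ ∀ i j, μ * y.1 i j ∈ K := by
    intro y hy
    have hy' : toP y ∈ (pglMap K.subtype).range := by
      rcases hcase with h | h
      · exact (hmem _ h y).1 hy
      · exact pslImg_le _ ((hmem _ h y).1 hy)
    obtain ⟨g, hg⟩ := hy'
    induction g using Matrix.ProjGenLinGroup.induction_on with | mk g => ?_
    rw [pglMap_mk] at hg
    obtain ⟨u, hu⟩ := Matrix.ProjGenLinGroup.mk_eq_mk_iff.1 hg.symm
    refine ⟨(u : F), u.ne_zero, fun i j => ?_⟩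
    have e' := congrArg (fun w : GL (Fin 2) F => (w : M₂) i j) hu
    simp at e'
    rw [show (u : F) * y.1 i j = ((g : Matrix (Fin 2) (Fin 2) K) i j : F) by
      fin_cases i <;> fin_cases j <;> simp at e' ⊢ <;> linear_combination e']
    exact SetLike.coe_mem _
  haveI : Fintype K := Fintype.ofFinite _
  have hroots : ∀ (n : ℕ), 0 < n → n < Nat.card K - 1 → ∃ w : Kˣ, w ^ n ≠ 1 := by
    intro n hn hlt
    by_contra hc
    push Not at hc
    have hex : Monoid.exponent Kˣ ∣ n := Monoid.exponent_dvd_of_forall_pow_eq_one hc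
    rw [IsCyclic.exponent_eq_card, Nat.card_units] at hex
    have := Nat.le_of_dvd hn hex
    omega
  rcases hcase with h | h
  · by_cases hK : 4 ≤ Nat.card K
    · obtain ⟨w, hw⟩ := hroots 2 two_pos (by omega)
      let g : GL (Fin 2) K := Matrix.GeneralLinearGroup.mkOfDetNeZero !![(w : K), 0; 0, 1]
        (by simp [Matrix.det_fin_two])
      have hm : (MulAut.conj (Matrix.ProjGenLinGroup.mk P)).toMonoidHom
          (pglMap K.subtype (Matrix.ProjGenLinGroup.mk g)) ∈ S := h ▸ Subgroup.mem_map_of_mem _ ⟨_, rfl⟩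
      obtain ⟨x, hx, hxe⟩ := hm
      obtain ⟨X, rfl⟩ := proj_surjective x
      obtain ⟨y, rfl⟩ := conjHom_surjective (P : M₂) hP X
      rw [toPGL_proj, toP_conjHom, ← MulAut.conj_apply] at hxe
      have hye : toP y = pglMap K.subtype (Matrix.ProjGenLinGroup.mk g) :=
        (MulAut.conj (Matrix.ProjGenLinGroup.mk P)).injective hxe
      rw [pglMap_mk] at hye
      obtain ⟨u, hu⟩ := Matrix.ProjGenLinGroup.mk_eq_mk_iff.1 hye
      have ee := fun i j => congrArg (fun w : GL (Fin 2) F => (w : M₂) i j) hu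
      have e00 := ee 0 0
      have e01 := ee 0 1
      have e10 := ee 1 0
      have e11 := ee 1 1
      simp [g, Matrix.GeneralLinearGroup.mkOfDetNeZero] at e00 e01 e10 e11
      have hu0 := u.ne_zero
      have d := det_eq y
      have y01 : y.1 0 1 = 0 := by
        simpa [hu0] using e01
      have y10 : y.1 1 0 = 0 := by
        simpa [hu0] using e10
      rw [y01, zero_mul, sub_zero] at d
      have h00 : y.1 0 0 ≠ 0 := left_ne_zero_of_mul_eq_one d
      have hy : y = dg (Units.mk0 _ h00) := by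
        refine Subtype.ext ?_
        rw [dg_coe]
        ext i j; fin_cases i <;> fin_cases j <;> simp [y01, y10]
        exact eq_inv_of_mul_eq_one_right d
      have hz2 : y.1 0 0 ^ 2 = ((w : K) : F) := by
        linear_combination e00 - (y.1 0 0 * y.1 0 0) * e11 + (y.1 0 0 * (u : F)) * d
      refine not_isBin_rat K hrat (z := Units.mk0 _ h00) ?_ ?_ ?_ hKne
      · rw [← hy]; exact hx
      · rw [Units.val_mk0, hz2]; exact SetLike.coe_mem _
      · rw [Units.val_mk0, show y.1 0 0 ^ 4 = (y.1 0 0 ^ 2) ^ 2 by ring, hz2]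
        intro hc
        exact hw (Units.ext (Subtype.ext (by push_cast; exact hc)))
    · have hK' : Nat.card K = 3 := by omega
      obtain ⟨i⟩ := pgl_three_iso hK'
      haveI : Finite (Recog.ProjLine.P1 K) := Nat.finite_of_card_ne_zero (by rw [card_p1_three hK']; norm_num)
      haveI : Fintype (Recog.ProjLine.P1 K) := Fintype.ofFinite _
      obtain ⟨j⟩ := nonempty_pglImg K.subtype
      have eH : ↥H ≃* Equiv.Perm (Fin 4) :=
        (H.equivMapOfInjective _ Matrix.ProjectiveSpecialLinearGroup.toPGL_injective).trans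
          ((MulEquiv.subgroupCongr h).trans (((pglMap K.subtype).range.equivMapOfInjective _
            (MulAut.conj (Matrix.ProjGenLinGroup.mk P)).injective).symm.trans (j.trans (i.trans
              (Equiv.permCongrHom (Fintype.equivFinOfCardEq (by
                rw [← Nat.card_eq_fintype_card, card_p1_three hK'])))))))
      have hodd : Odd (Fintype.card F) := by
        refine two_ne_zero_iff_odd.1 fun h2 => ?_
        have h2' : (2 : K) = 0 := Subtype.ext h2
        have h3 : (3 : K) = 0 := by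
          have := Nat.cast_card_eq_zero (R := K)
          rw [← Nat.card_eq_fintype_card, hK'] at this
          exact_mod_cast this
        exact one_ne_zero (show (1 : K) = 0 by linear_combination h3 - h2')
      rw [isBin_comap_iff e H]
      exact not_isBin_perm4' hodd eH
  · by_cases hw : ∃ w : Kˣ, w ^ 4 ≠ 1
    · obtain ⟨w, hw⟩ := hw
      have hw0 : ((w : K) : F) ≠ 0 := fun hc => w.ne_zero (Subtype.ext hc)
      refine not_isBin_rat K hrat (z := Units.mk0 _ hw0) ((hmem _ h _).2 ?_) ?_ ?_ hKne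
      · refine ⟨proj (dg w), ?_⟩
        show pglMap K.subtype (Matrix.ProjGenLinGroup.mk (Matrix.SpecialLinearGroup.toGL (dg w))) = _
        rw [pglMap_mk]
        refine congrArg _ (Units.ext (Matrix.ext fun i j => ?_))
        show (((dg w : Matrix.SpecialLinearGroup (Fin 2) K) : Matrix (Fin 2) (Fin 2) K) i j : F) =
          ((dg (Units.mk0 _ hw0) : SL₂) : M₂) i j
        rw [dg_coe, dg_coe]
        fin_cases i <;> fin_cases j <;> simp
      · rw [Units.val_mk0]; exact K.pow_mem (SetLike.coe_mem _) 2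
      · rw [Units.val_mk0]
        intro hc
        exact hw (Units.ext (Subtype.ext (by push_cast; exact hc)))
    · have hK5 : Nat.card K ≤ 5 := by
        by_contra hc
        exact hw (hroots 4 (by norm_num) (by omega))
      have hK4 : Nat.card K ≠ 4 := by
        intro hc
        push Not at hw
        obtain ⟨w, hw1⟩ := hroots 1 one_pos (by omega)
        refine hw1 ?_
        have h3 : w ^ 3 = 1 := by
          have := pow_card_eq_one' (x := w)
          rwa [Nat.card_units, hc] at this
        have := hw w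
        rwa [pow_succ, h3, one_mul, ← pow_one w] at this
      have hodd : Odd (Fintype.card F) := by
        refine two_ne_zero_iff_odd.1 fun h2 => ?_
        have h2' : (2 : K) = 0 := Subtype.ext h2
        have hc := Nat.cast_card_eq_zero (R := K)
        rw [← Nat.card_eq_fintype_card] at hc
        rcases (show Nat.card K = 3 ∨ Nat.card K = 5 by omega) with h' | h' <;> rw [h'] at hc
        · have h3 : (3 : K) = 0 := by exact_mod_cast hc
          exact one_ne_zero (show (1 : K) = 0 by linear_combination h3 - h2')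
        · have h5 : (5 : K) = 0 := by exact_mod_cast hc
          exact one_ne_zero (show (1 : K) = 0 by linear_combination h5 - 2 * h2')
      obtain ⟨j⟩ := nonempty_pslImg K.subtype
      have eH : ↥H ≃* Matrix.ProjectiveSpecialLinearGroup (Fin 2) K :=
        (H.equivMapOfInjective _ Matrix.ProjectiveSpecialLinearGroup.toPGL_injective).trans
          ((MulEquiv.subgroupCongr h).trans (((pslImg K.subtype).equivMapOfInjective _
            (MulAut.conj (Matrix.ProjGenLinGroup.mk P)).injective).symm.trans j))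
      rw [isBin_comap_iff e H]
      rcases (show Nat.card K = 3 ∨ Nat.card K = 5 by omega) with h' | h' <;> rw [Nat.card_eq_fintype_card] at h'
      · obtain ⟨i⟩ := psl_three_iso h'
        exact not_isBin_alt4' hodd (h7 hodd) (eH.trans i)
      · obtain ⟨i⟩ := psl_five_iso h'
        exact not_isBin_alt5' hodd (h7 hodd) (eH.trans i)

variable (p : ℕ) [hp : Fact p.Prime] [CharP F p]

include hp in
theorem odd_iff_p : Odd (Fintype.card F) ↔ p ≠ 2 :=
  ⟨fun h => char_ne_two_of_odd_card h p, odd_of_p p⟩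

/-- Binary actions on the cosets of cyclic groups prime to the characteristic. -/
theorem cases_cyclic (h7 : Odd (Fintype.card F) → 7 ≤ Fintype.card F) {H : Subgroup PSL₂} {a : PSL₂}
    (haH : a ∈ H) (ha1 : a ≠ 1) (hap : a ^ p ≠ 1) (hle : H ≤ tor a) (hb : IsBin H) :
    (2 : F) = 0 ∧ ¬ 3 ∣ Fintype.card F - 1 ∧ Nat.card H = 3 := by
  set D := pslData (F := F) p
  haveI : IsCyclic (tor a) := D.semi_cyclic ha1 hap
  haveI : IsCyclic H := isCyclic_of_injective (Subgroup.inclusion hle) (Subgroup.inclusion_injective hle)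
  obtain ⟨⟨h, hh⟩, hgen⟩ := IsCyclic.exists_generator (α := H)
  have ho : orderOf h = Nat.card H := by
    rw [← Subgroup.orderOf_mk h hh]; exact orderOf_eq_card_of_forall_mem_zpowers hgen
  have hn : 2 ≤ Nat.card H := by
    show 1 < _
    rw [Subgroup.one_lt_card_iff_ne_bot]
    exact fun e => ha1 (Subgroup.mem_bot.1 (e ▸ haH))
  have hh1 : h ≠ 1 := fun e => by rw [e, orderOf_one] at ho; omega
  have hhp : h ^ p ≠ 1 := D.semi_of_ne ha1 hap (hle hh) hh1
  have hle' : H ≤ tor h := by rw [show tor h = tor a from D.same ha1 (hle hh) hh1]; exact hle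
  rcases (show Nat.card H = 2 ∨ Nat.card H = 3 ∨ 4 ≤ Nat.card H by omega) with h2' | h3' | h4'
  · refine absurd hb (not_isBin_two ?_ h2')
    refine two_ne_zero_of_odd_card ((odd_iff_p p).2 fun e => ?_)
    exact D.semi_coprime hh1 hhp (by rw [ho, h2', e])
  · by_cases h2 : (2 : F) = 0
    · exact ⟨h2, fun h3 => not_isBin_cyclic_split h2 h3 h3' hb, h3'⟩
    · exact absurd hb (not_isBin_cyclic_three p (two_ne_zero_iff_odd.1 h2) hh (ho.trans h3') hhp hle')
  · exact absurd hb (not_isBin_cyclic_big p hh (by omega) hhp hle')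

/-- Dihedral groups. -/
theorem not_isBin_dihedral (h4 : 4 ≤ Fintype.card F) (h7 : Odd (Fintype.card F) → 7 ≤ Fintype.card F)
    {H : Subgroup PSL₂} {a : PSL₂} (haH : a ∈ H) (ha1 : a ≠ 1) (hap : a ^ p ≠ 1)
    (hidx : ((tor a).subgroupOf H).index = 2) (hN : H ≤ Subgroup.normalizer (tor a : Set PSL₂)) :
    ¬ IsBin H := by
  classical
  set D := pslData (F := F) p
  obtain ⟨s, hs, hsT⟩ : ∃ s ∈ H, s ∉ tor a := by
    by_contra hc
    push Not at hc
    rw [Subgroup.subgroupOf_eq_top.2 hc, Subgroup.index_top] at hidx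
    omega
  haveI : IsCyclic (tor a) := D.semi_cyclic ha1 hap
  haveI : IsCyclic ↥(H ⊓ tor a) :=
    isCyclic_of_injective (Subgroup.inclusion inf_le_right) (Subgroup.inclusion_injective inf_le_right)
  obtain ⟨⟨c, hc⟩, hgen⟩ := IsCyclic.exists_generator (α := ↥(H ⊓ tor a))
  obtain ⟨hcH, hcT⟩ := Subgroup.mem_inf.1 hc
  have ho : orderOf c = Nat.card ↥(H ⊓ tor a) := by
    rw [← Subgroup.orderOf_mk c hc]; exact orderOf_eq_card_of_forall_mem_zpowers hgen
  have hcard : Nat.card H = 2 * orderOf c := by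
    have e := Subgroup.card_mul_index ((tor a).subgroupOf H)
    rw [hidx] at e
    have e' : Nat.card ↥((tor a).subgroupOf H) = Nat.card ↥(H ⊓ tor a) := by
      rw [← Subgroup.inf_subgroupOf_left]
      exact Nat.card_congr (Subgroup.subgroupOfEquivOfLe inf_le_left).toEquiv
    rw [e', ← ho] at e
    omega
  have hn : 2 ≤ orderOf c := by
    rw [ho]
    show 1 < _
    rw [Subgroup.one_lt_card_iff_ne_bot]
    exact fun e => ha1 (Subgroup.mem_bot.1 (e ▸ Subgroup.mem_inf.2 ⟨haH, D.self a⟩))
  have hc1 : c ≠ 1 := fun e => by rw [e, orderOf_one] at hn; omega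
  have hcp : c ^ p ≠ 1 := D.semi_of_ne ha1 hap hcT hc1
  rcases (show orderOf c = 2 ∨ 3 ≤ orderOf c by omega) with h2c | h3c
  · have hodd : Odd (Fintype.card F) := (odd_iff_p p).2 fun e => D.semi_coprime hc1 hcp (by rw [h2c, e])
    refine not_isBin_four hodd (h7 hodd) (by omega) fun x hx => ?_
    by_cases hxT : x ∈ tor a
    · have h := pow_card_eq_one' (x := (⟨x, Subgroup.mem_inf.2 ⟨hx, hxT⟩⟩ : ↥(H ⊓ tor a)))
      rw [← ho, h2c] at h
      simpa [sq] using congrArg Subtype.val h
    · exact (D.semi_flip ha1 hap ((D.mem_normalizer_iff ha1).1 (hN hx)) hxT).1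
  · by_cases h2 : (2 : F) = 0
    · exact not_isBin_dih_even p h2 h4 ha1 hap hN hs hsT
    have hodd := two_ne_zero_iff_odd.1 h2
    by_cases hlt : orderOf c = 4 ∧ Nat.card ↥(H ⊓ tor a) < Nat.card (tor a)
    · exact not_isBin_dih_four p hodd ha1 hap hN hs hsT hcH hcT hlt.1 hlt.2
    obtain ⟨C, rfl⟩ := proj_surjective c
    by_cases hα : tr C ^ 2 = 2 → IsSquare (-1 : F)
    · exact not_isBin_dih_odd p hodd (h7 hodd) ha1 hap hN hs hsT hcH hcT h3c hα
    push Not at hα
    obtain ⟨hα2, hns⟩ := hα
    -- the generator has order four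
    have hC2 : ¬ IsScalar (C * C) := fun e => by
      have h := proj_one_iff.2 e
      rw [map_mul] at h
      have := Nat.le_of_dvd two_pos (orderOf_dvd_of_pow_eq_one (show proj C ^ 2 = 1 by rw [sq]; exact h))
      omega
    have htr : tr (C * C) = 0 := by
      rw [← tr_eq_trace, Matrix.SpecialLinearGroup.coe_mul, cayley, Matrix.trace_sub, Matrix.trace_smul,
        tr_eq_trace, Matrix.trace_one, Fintype.card_fin, smul_eq_mul]
      push_cast
      linear_combination hα2
    have hc4 : orderOf (proj C) = 4 := by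
      have h := congrArg proj ((mul_self_eq_neg_one hC2).2 htr)
      rw [proj_neg, map_one, map_mul, map_mul] at h
      have hd : orderOf (proj C) ∣ 4 := orderOf_dvd_of_pow_eq_one (by
        rw [← h]; simp [pow_succ, mul_assoc])
      have := Nat.le_of_dvd (by norm_num) hd
      interval_cases h' : orderOf (proj C) <;> omega
    have hTc : Nat.card (tor a) = 4 := by
      have hle : Nat.card ↥(H ⊓ tor a) ≤ Nat.card (tor a) :=
        Nat.le_of_dvd Nat.card_pos (Subgroup.card_dvd_of_le inf_le_right)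
      have : ¬ Nat.card ↥(H ⊓ tor a) < Nat.card (tor a) := fun h => hlt ⟨hc4, h⟩
      omega
    have hF7 : Fintype.card F = 7 := by
      have hd : del F = 2 := ((del_cases F).resolve_left fun h => Nat.not_even_iff_odd.2 hodd h.2).1
      have hq : Fintype.card F % 4 = 3 := by
        by_contra hq
        exact hns (FiniteField.isSquare_neg_one_iff.2 hq)
      have h7' := h7 hodd
      rcases card_tor_semi p ha1 hap with e | e <;> rw [hd, hTc] at e <;> omega
    obtain ⟨hNc, -⟩ := normalizer_tor p ha1 hap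
    have hHeq : H = Subgroup.normalizer (tor a : Set PSL₂) :=
      Subgroup.eq_of_le_of_card_ge hN (by omega)
    have hzz : proj C * proj C * (proj C * proj C) = 1 := by
      rw [show proj C * proj C * (proj C * proj C) = proj C ^ 4 by simp [pow_succ, mul_assoc], ← hc4,
        pow_orderOf_eq_one]
    have hz1 : proj C * proj C ≠ (1 : PSL₂) := fun e => hC2 (proj_one_iff.1 (by rw [map_mul]; exact e))
    have hzT : proj C * proj C ∈ tor a := mul_mem hcT hcT
    refine not_isBin_syl_seven hF7 hzz hz1 ?_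
    rw [hHeq, centralizer_involution p hz1 (D.semi_of_ne ha1 hap hzT hz1) hzz,
      show tor (proj C * proj C) = tor a from D.same ha1 hzT hz1]

/-- Subgroups of Borel subgroups. -/
theorem cases_borel {H : Subgroup PSL₂} {a : PSL₂} (haH : a ∈ H) (ha1 : a ≠ 1) (hap : a ^ p = 1)
    (hN : H ≤ Subgroup.normalizer (tor a : Set PSL₂)) (hb : IsBin H) :
    (2 : F) = 0 ∧ Nat.card H = Fintype.card F := by
  classical
  set D := pslData (F := F) p
  obtain ⟨P, hP, rfl⟩ := uni_frame p ha1 hap
  rw [← card_comap_equiv (pcj P hP) H]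
  rw [← isBin_comap_iff (pcj P hP) H] at hb
  set H' := H.comap (pcj P hP).toMonoidHom
  have hB : Upper H' := by
    intro y hy
    have h := (D.mem_normalizer_iff ha1).1 (hN (show proj (cj P hP y) ∈ H from hy))
    change proj (cj P hP y) * proj (cj P hP (up 1)) * (proj (cj P hP y))⁻¹ ∈ tor (proj (cj P hP (up 1))) at h
    rw [conj_mem_tor_iff, ← map_inv, ← map_mul, ← map_mul,
      commute_map_iff (conjHom_injective P hP), lower_entry_iff] at h
    exact h
  have h1 : (1 : F) ∈ kSub H' := haH
  have hup : ∀ (α : Fˣ) (b : F), proj (dg α * up b) ∈ H' → b ∈ kSub H' → proj (dg α) ∈ H' := by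
    intro α b h hb'
    rw [map_mul] at h
    exact (H'.mul_mem_cancel_right (show proj (up b) ∈ H' from hb')).1 h
  have hone : proj (dg (1 : Fˣ)) ∈ H' := by rw [dg_one, map_one]; exact one_mem _
  by_cases hz : ∃ (α : Fˣ) (b : F), proj (dg α * up b) ∈ H' ∧ (α : F) ^ 4 ≠ 1
  · obtain ⟨α, b, hmem, hα⟩ := hz
    by_cases hK : kSub H' = ⊤
    · have hU : ∀ s : F, proj (up s) ∈ H' := fun s => show s ∈ kSub H' from hK ▸ AddSubgroup.mem_top _
      have hd : proj (dg α) ∈ H' := hup α b hmem (hU b)
      have hd' : proj (dg α⁻¹) ∈ H' := by rw [← dg_inv, map_inv]; exact inv_mem hd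
      have hα2 : (α : F) ^ 2 ≠ 1 := fun e => hα (by linear_combination ((α : F) ^ 2 + 1) * e)
      refine absurd hb (not_isBin_borel_full hB hU hone hd hd' (fun e => hα2 ?_) (fun e => hα2 ?_) fun e => hα2 ?_)
      · rw [← e, Units.val_one, one_pow]
      · rw [← inv_inv α, ← e, inv_one, Units.val_one, one_pow]
      · have e' : (α : F) = ((α⁻¹ : Fˣ) : F) := congrArg Units.val e
        rw [sq]
        conv_lhs => arg 2; rw [e']
        exact α.mul_inv
    · exact absurd hb (not_isBin_borel_split hB hmem hα hK)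
  push Not at hz
  by_cases h2 : (2 : F) = 0
  · have hT : ∀ (α : Fˣ) (b : F), proj (dg α * up b) ∈ H' → α = 1 := fun α b h =>
      Units.ext (pow_four_char_two h2 (hz α b h))
    by_cases hK : kSub H' = ⊤
    · refine ⟨h2, ?_⟩
      have hU : ∀ s : F, proj (up s) ∈ H' := fun s => show s ∈ kSub H' from hK ▸ AddSubgroup.mem_top _
      rw [← Nat.card_eq_fintype_card]
      refine (Nat.card_eq_of_bijective (fun s : F => (⟨proj (up s), hU s⟩ : H')) ⟨fun r s h => ?_, ?_⟩).symm
      · have e := congrFun (congrFun (congrArg Subtype.val (proj_injective h2 (congrArg Subtype.val h))) 0) 1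
        simpa [up_coe] using e
      · rintro ⟨g, hg⟩
        obtain ⟨α, b, rfl⟩ := hB.decomp hg
        obtain rfl := hT α b hg
        exact ⟨b, Subtype.ext (by simp [dg_one])⟩
    · refine absurd hb (not_isBin_borel_even h2 hB hT hK fun e => ?_)
      have h := (mem_kSub (H := H')).1 h1
      rw [e, Subgroup.mem_bot, proj_one_iff] at h
      rcases h with h | h <;>
        · have := congrFun (congrFun (congrArg Subtype.val h) 0) 1
          simp [up_coe] at this
  by_cases hi : ∃ (α : Fˣ) (b : F), proj (dg α * up b) ∈ H' ∧ (α : F) ^ 2 = -1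
  · obtain ⟨α, β, hmem, hα⟩ := hi
    by_cases hK : kSub H' = ⊤
    · have hU : ∀ s : F, proj (up s) ∈ H' := fun s => show s ∈ kSub H' from hK ▸ AddSubgroup.mem_top _
      have hd : proj (dg α) ∈ H' := hup α β hmem (hU β)
      have hm1 : proj (dg (-1 : Fˣ)) ∈ H' := by rw [dg_neg, proj_neg]; exact hone
      refine absurd hb (not_isBin_borel_full hB hU hone hm1 hd (fun e => ?_) (fun e => ?_) fun e => ?_)
      · exact h2 (by have := congrArg Units.val e; simp at this; linear_combination this)
      · rw [← e, Units.val_one, one_pow] at hα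
        exact h2 (by linear_combination hα)
      · rw [← e, Units.val_neg, Units.val_one, neg_one_sq] at hα
        exact h2 (by linear_combination hα)
    · obtain ⟨c, hc⟩ : ∃ c, c ∉ kSub H' := by
        by_contra h
        push Not at h
        exact hK ((AddSubgroup.eq_top_iff' _).2 h)
      refine absurd hb (not_isBin_borel_odd h2 hB hz one_ne_zero h1 (-(β + c) / 2) fun α' hα' hm => hc ?_)
      rw [show -2 * (-(β + c) / 2) = β + c by field_simp] at hm
      have hsame : proj (dg α * up (β + c)) ∈ H' := by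
        rcases mul_self_eq_mul_self_iff.1 (show (α : F) * α = (α' : F) * α' by rw [← sq, ← sq, hα, hα']) with e | e
        · rwa [show α = α' from Units.ext e]
        · rw [show α = -α' from Units.ext (by simpa using e), dg_neg, neg_mul, proj_neg]; exact hm
      simpa using kSub_sub hmem hsame
  · push Not at hi
    exact absurd hb (not_isBin_borel_odd h2 hB hz one_ne_zero h1 0 fun α hα hm => hi α _ hm hα)

omit hp in
/-- The binary coset actions of `PSL(2, q)`. -/
theorem isBin_iff (h4 : 4 ≤ Fintype.card F) (h5 : Fintype.card F ≠ 5) {H : Subgroup PSL₂} (hH : H ≠ ⊤) :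
    IsBin H ↔ H = ⊥ ∨ ((∃ a, Fintype.card F = 2 ^ a) ∧ Nat.card H = Fintype.card F) ∨
      ((∃ a, Odd a ∧ Fintype.card F = 2 ^ a) ∧ Nat.card H = 3) := by
  obtain ⟨p, hc⟩ := CharP.exists F
  haveI : Fact p.Prime := ⟨CharP.char_is_prime F p⟩
  have h7 : Odd (Fintype.card F) → 7 ≤ Fintype.card F := fun h => by
    obtain ⟨k, hk⟩ := h; omega
  have hpow : (2 : F) = 0 → ∃ a : ℕ, Fintype.card F = 2 ^ a := fun h2 => by
    haveI : CharP F 2 := charP_two h2
    obtain ⟨n, -, hn⟩ := FiniteField.card F 2
    exact ⟨n, hn⟩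
  have htwo : ∀ a : ℕ, Fintype.card F = 2 ^ a → (2 : F) = 0 := by
    intro a ha
    by_contra h
    have h' := two_ne_zero_iff_odd.1 h
    rw [ha] at h'
    rcases Nat.eq_zero_or_pos a with rfl | hpos
    · rw [ha] at h4; norm_num at h4
    · rw [Nat.odd_pow_iff hpos.ne'] at h'
      exact absurd h' (by decide)
  constructor
  · intro hb
    by_cases h0 : H = ⊥
    · exact Or.inl h0
    cases Dickson.dickson p H with
    | trivial h => exact absurd h h0
    | cyclic a ha ha1 hap h =>
      obtain ⟨h2, h3, hc⟩ := cases_cyclic p h7 ha ha1 hap h hb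
      obtain ⟨n, hn⟩ := hpow h2
      refine Or.inr (Or.inr ⟨⟨n, ?_, hn⟩, hc⟩)
      rw [← Nat.not_even_iff_odd]
      rintro ⟨m, rfl⟩
      refine h3 ?_
      rw [hn, ← two_mul, pow_mul, show 2 ^ 2 = 4 from rfl]
      simpa using (Nat.sub_dvd_pow_sub_pow 4 1 m)
    | dihedral a ha ha1 hap hidx h iso => exact absurd hb (not_isBin_dihedral p h4 h7 ha ha1 hap hidx h)
    | borel a ha ha1 hap h =>
      obtain ⟨h2, hc⟩ := cases_borel p ha ha1 hap h hb
      exact Or.inr (Or.inl ⟨hpow h2, hc⟩)
    | alt4 hc iso hp' =>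
      obtain ⟨e⟩ := iso
      have hodd : Odd (Fintype.card F) := (odd_iff_p p).2 fun e2 => by
        rcases hp' with h | h
        · exact h (by rw [hc, e2]; norm_num)
        · omega
      exact absurd hb (not_isBin_alt4' hodd (h7 hodd) e)
    | perm4 hc iso hp' =>
      obtain ⟨e⟩ := iso
      have hodd : Odd (Fintype.card F) := (odd_iff_p p).2 fun e2 => hp' (by rw [hc, e2]; norm_num)
      exact absurd hb (not_isBin_perm4' hodd e)
    | alt5 hc iso hp' =>
      obtain ⟨e⟩ := iso
      have hodd : Odd (Fintype.card F) := (odd_iff_p p).2 fun e2 => by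
        rcases hp' with h | h
        · exact h (by rw [hc, e2]; norm_num)
        · omega
      exact absurd hb (not_isBin_alt5' hodd (h7 hodd) e)
    | subfield h => exact absurd hb (not_isBin_subfieldType h7 hH h)
  · rintro (rfl | ⟨⟨a, ha⟩, hc⟩ | ⟨⟨a, hao, ha⟩, hc⟩)
    · exact isBin_bot
    · exact isBin_card_q (htwo a ha) hc
    · exact isBin_card_three hao ha hc

end Cfsg.Agent.PSLBin
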