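import Cfsg.Agent.Lib.Classical.PSLFieldAut
import Cfsg.Agent.Lib.Classical.FormClasses

/-!
Involutory graph automorphisms of `PSL_n(q)`: symmetric and alternating matrices up to similarity.
-/

set_option autoImplicit false
set_option linter.unusedSectionVars false

namespace Cfsg.Agent.Classical.PSLAut

open Matrix Cfsg.Agent.Classical.Descent Cfsg.Agent.Classical.FormSim

variable {F : Type*} [Field F] [Fintype F] {n : ℕ}

local notation "PSLn" => Matrix.ProjectiveSpecialLinearGroup (Fin n) F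
local notation "Mn" => Matrix (Fin n) (Fin n) F

/-- The graph automorphism of an invertible matrix. -/
def grAut (g : GL (Fin n) F) : MulAut (Matrix.ProjectiveSpecialLinearGroup (Fin n) F) :=
  inndiagHom n F g * pslInvT

theorem scalar_coe (c : Fˣ) :
    ((Matrix.GeneralLinearGroup.scalar (Fin n) c : GL (Fin n) F) : Mn) = (c : F) • 1 := by
  rw [Matrix.GeneralLinearGroup.coe_scalar, Matrix.scalar_apply, ← Matrix.smul_one_eq_diagonal]

theorem scalar_mul_coe (c : Fˣ) (g : GL (Fin n) F) :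
    ((Matrix.GeneralLinearGroup.scalar (Fin n) c * g : GL (Fin n) F) : Mn) = (c : F) • (g : Mn) := by
  rw [Units.val_mul, scalar_coe, Matrix.smul_mul, Matrix.one_mul]

theorem inndiag_eq_iff (hn : 2 ≤ n) {g h : GL (Fin n) F} :
    inndiagHom n F g = inndiagHom n F h ↔ ∃ c : Fˣ, (g : Mn) = (c : F) • (h : Mn) := by
  rw [inndiagHom_apply, inndiagHom_apply]
  refine (semi_inj hn).trans (exists_congr fun c => ?_)
  rw [Units.ext_iff, scalar_mul_coe]

theorem invT_conj (y : GL (Fin n) F) : pslInvT * inndiagHom n F y = inndiagHom n F (invT y) * pslInvT :=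
  pslInvT_mul_pslSemi y _

theorem graph_iff {γ : MulAut PSLn} : IsGraphAutClassPSL γ ↔ 3 ≤ n ∧ ∃ g, γ = grAut g := by
  constructor
  · rintro ⟨hn, δ, γ', hδ, hγ, rfl⟩
    obtain ⟨g, rfl⟩ := innerDiag_iff.1 hδ
    exact ⟨hn, g, by rw [invTr_iff.1 hγ]; rfl⟩
  · rintro ⟨hn, g, rfl⟩
    exact ⟨hn, inndiagHom n F g, pslInvT, innerDiag_iff.2 ⟨g, rfl⟩, invTr_iff.2 rfl, rfl⟩

theorem invT_inv (y : GL (Fin n) F) : ((invT y⁻¹ : GL (Fin n) F) : Mn) = (y : Mn)ᵀ := by
  rw [invT_coe, inv_inv]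

theorem grAut_conj (y g : GL (Fin n) F) :
    inndiagHom n F y * grAut g * (inndiagHom n F y)⁻¹ = grAut (y * g * invT y⁻¹) := by
  rw [← map_inv, grAut, grAut, mul_assoc, mul_assoc, invT_conj, map_mul, map_mul]
  simp only [mul_assoc]

theorem grAut_eq_iff (hn : 2 ≤ n) {g h : GL (Fin n) F} :
    grAut g = grAut h ↔ ∃ c : Fˣ, (g : Mn) = (c : F) • (h : Mn) := by
  rw [grAut, grAut, mul_left_inj, inndiag_eq_iff hn]

theorem grAut_sq (g : GL (Fin n) F) : grAut g * grAut g = inndiagHom n F (g * invT g) := by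
  rw [grAut, mul_assoc, ← mul_assoc pslInvT, invT_conj, mul_assoc, pslInvT_mul_self, mul_one, map_mul]

theorem orderOf_grAut (hn : 3 ≤ n) (g : GL (Fin n) F) :
    orderOf (grAut g) = 2 ↔ (g : Mn)ᵀ = (g : Mn) ∨ (g : Mn)ᵀ = -(g : Mn) := by
  haveI : Nonempty (Fin n) := ⟨⟨0, by omega⟩⟩
  have hne : grAut g ≠ 1 := fun h => pslInvT_ne_semi hn g⁻¹ (RingEquiv.refl F) (by
    rw [eq_comm, ← inndiagHom_apply, map_inv]
    exact inv_eq_of_mul_eq_one_right h)
  have hsq : (g : Mn) * ((g⁻¹ : GL (Fin n) F) : Mn)ᵀ = ((g * invT g : GL (Fin n) F) : Mn) := by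
    rw [Units.val_mul, invT_coe]
  have hgi : ((g⁻¹ : GL (Fin n) F) : Mn)ᵀ * (g : Mn)ᵀ = 1 := by
    rw [← Matrix.transpose_mul, Units.mul_inv, Matrix.transpose_one]
  constructor
  · intro h
    have h1 : grAut g * grAut g = 1 := by rw [← sq, ← h, pow_orderOf_eq_one]
    rw [grAut_sq, inndiagHom_apply, pslSemi_eq_one_iff (by omega)] at h1
    obtain ⟨-, c, hc⟩ := h1
    have h3 : (g : Mn) = (c : F) • (g : Mn)ᵀ := by
      have h4 := congrArg (fun u : GL (Fin n) F => (u : Mn) * (g : Mn)ᵀ) hc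
      rw [← hsq, Matrix.mul_assoc, hgi, Matrix.mul_one, scalar_coe, Matrix.smul_mul, Matrix.one_mul] at h4
      exact h4
    have h5 : (g : Mn)ᵀ = (c : F) • (g : Mn) := by
      conv_lhs => rw [h3]
      rw [Matrix.transpose_smul, Matrix.transpose_transpose]
    have h6 : ((c : F) * c - 1) • (g : Mn) = 0 := by
      rw [sub_smul, one_smul, ← smul_smul, ← h5, ← h3, sub_self]
    rcases smul_eq_zero.1 h6 with h7 | h7
    · rcases mul_self_eq_one_iff.1 (sub_eq_zero.1 h7) with h8 | h8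
      · exact Or.inl (by rw [h5, h8, one_smul])
      · exact Or.inr (by rw [h5, h8, neg_one_smul])
    · exact absurd (by rw [h7, Matrix.det_zero]) g.det_ne_zero
  · intro h
    obtain ⟨ε, hε, he⟩ := eps_cases h
    have hε0 : ε ≠ 0 := fun h0 => by simp [h0] at hε
    refine orderOf_eq_prime (p := 2) ?_ hne
    rw [sq, grAut_sq, inndiagHom_apply, pslSemi_eq_one_iff (by omega)]
    refine ⟨rfl, Units.mk0 ε hε0, Units.ext ?_⟩
    rw [← hsq, scalar_coe, Units.val_mk0]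
    have h3 : (g : Mn) = ε • (g : Mn)ᵀ := by rw [he, smul_smul, hε, one_smul]
    conv_lhs => rw [h3]
    rw [Matrix.smul_mul, ← Matrix.transpose_mul, Units.inv_mul, Matrix.transpose_one]

/-- Conjugacy is similarity. -/
theorem conjUnder_iff (hn : 2 ≤ n) (g h : GL (Fin n) F) :
    IsConjUnder (inndiagPSL n F) (grAut g) (grAut h) ↔ Similar (g : Mn) (h : Mn) := by
  constructor
  · rintro ⟨k, hk, he⟩
    obtain ⟨y, rfl⟩ := mem_inndiag_iff.1 hk
    rw [grAut_conj, grAut_eq_iff hn] at he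
    obtain ⟨c, hc⟩ := he
    rw [Units.val_mul, Units.val_mul, invT_inv] at hc
    refine similar_of_congr (g : Mn) (invT y⁻¹) (inv_ne_zero c.ne_zero) ?_
    rw [invT_inv, Matrix.transpose_transpose, hc, smul_smul, inv_mul_cancel₀ c.ne_zero, one_smul]
  · intro hs
    obtain ⟨P, c, hP⟩ := hs.exists_matrix
    refine ⟨inndiagHom n F (invT P⁻¹), mem_inndiag_iff.2 ⟨_, rfl⟩, ?_⟩
    rw [grAut_conj, grAut_eq_iff hn]
    refine ⟨c⁻¹, ?_⟩
    rw [Units.val_mul, Units.val_mul]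
    simp only [invT_inv, Matrix.transpose_transpose]
    rw [hP, smul_smul, ← Units.val_mul,
      inv_mul_cancel, Units.val_one, one_smul]

theorem commute_iff (hn : 2 ≤ n) (g y : GL (Fin n) F) :
    Commute (inndiagHom n F (invT y⁻¹)) (grAut g) ↔ y ∈ sim (g : Mn) := by
  rw [Commute, SemiconjBy, ← mul_inv_eq_iff_eq_mul, grAut_conj, grAut_eq_iff hn, mem_sim]
  simp only [Units.val_mul, invT_inv, Matrix.transpose_transpose]

theorem centralizer_iso (hn : 2 ≤ n) (g : GL (Fin n) F) :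
    Nonempty (↥(inndiagPSL n F ⊓ Subgroup.centralizer {grAut g}) ≃* projQuot (sim (g : Mn))) := by
  have hs : ∀ y : GL (Fin n) F, Commute (inndiagHom n F (invT y)) (grAut g) ↔ y ∈ sim (g : Mn) := fun y => by
    rw [← inv_mem_iff (x := y), ← commute_iff hn g y⁻¹, inv_inv]
  let Φ : sim (g : Mn) →* ↥(inndiagPSL n F ⊓ Subgroup.centralizer {grAut g}) :=
    MonoidHom.mk' (fun y => ⟨inndiagHom n F (invT y.1), mem_inndiag_iff.2 ⟨_, rfl⟩,
      Subgroup.mem_centralizer_singleton_iff.2 ((hs y.1).2 y.2)⟩)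
      fun y z => Subtype.ext (by
        show inndiagHom n F (invT (y.1 * z.1)) = _
        rw [invT_mul, map_mul]; rfl)
  have hsurj : Function.Surjective Φ := by
    rintro ⟨β, hβ1, hβ2⟩
    obtain ⟨y, rfl⟩ := mem_inndiag_iff.1 hβ1
    refine ⟨⟨invT y, (hs _).1 ?_⟩, Subtype.ext ?_⟩
    · rw [invT_invT]
      exact Subgroup.mem_centralizer_singleton_iff.1 (show inndiagHom n F y ∈ Subgroup.centralizer {grAut g} from hβ2)
    · show inndiagHom n F (invT (invT y)) = _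
      rw [invT_invT]
  have hker : Φ.ker = (Geo.scalars (Fin n) F).subgroupOf (sim (g : Mn)) := by
    ext y
    rw [MonoidHom.mem_ker, Subtype.ext_iff, Subgroup.mem_subgroupOf, Geo.mem_scalars_iff]
    show inndiagHom n F (invT y.1) = 1 ↔ _
    rw [← map_one (inndiagHom n F), inndiag_eq_iff hn]
    simp only [Units.val_one]
    constructor
    · rintro ⟨c, hc⟩
      refine ⟨c⁻¹, ?_⟩
      have h1 := congrArg (fun M : Mn => M * (y.1 : Mn)ᵀ) hc
      simp only [invT_coe, ← Matrix.transpose_mul, Units.mul_inv, Matrix.transpose_one, Matrix.smul_mul,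
        Matrix.one_mul] at h1
      rw [← Matrix.transpose_inj, Matrix.transpose_smul, Matrix.transpose_one, h1, smul_smul, ← Units.val_mul,
        inv_mul_cancel, Units.val_one, one_smul]
    · rintro ⟨c, hc⟩
      refine ⟨c⁻¹, ?_⟩
      have h1 : (y.1 : Mn) * (((c⁻¹ : Fˣ) : F) • (1 : Mn)) = 1 := by
        rw [hc, Matrix.smul_mul, Matrix.one_mul, smul_smul, ← Units.val_mul, mul_inv_cancel, Units.val_one, one_smul]
      rw [invT_coe, show ((y.1⁻¹ : GL (Fin n) F) : Mn) = ((c⁻¹ : Fˣ) : F) • (1 : Mn) from ?_, Matrix.transpose_smul,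
        Matrix.transpose_one]
      calc ((y.1⁻¹ : GL (Fin n) F) : Mn) = ((y.1⁻¹ : GL (Fin n) F) : Mn) * ((y.1 : Mn) * (((c⁻¹ : Fˣ) : F) • (1 : Mn))) := by
            rw [h1, Matrix.mul_one]
        _ = _ := by rw [← Matrix.mul_assoc, Units.inv_mul, Matrix.one_mul]
  exact ⟨((QuotientGroup.quotientMulEquivOfEq hker.symm).trans
    (QuotientGroup.quotientKerEquivOfSurjective Φ hsurj)).symm⟩

theorem det_invT (y : GL (Fin n) F) :
    Matrix.GeneralLinearGroup.det (invT y) = (Matrix.GeneralLinearGroup.det y)⁻¹ := by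
  rw [← map_inv]
  exact Units.ext (by simp [invT_coe, Matrix.det_transpose])

theorem split_graph (hn : 2 ≤ n) (g : GL (Fin n) F) (D : Subgroup Fˣ)
    (h1 : ∀ y ∈ sim (g : Mn), Matrix.GeneralLinearGroup.det y ∈ (powMonoidHom n : Fˣ →* Fˣ).range ⊔ D)
    (h2 : ∀ t ∈ D, ∃ y ∈ sim (g : Mn), Matrix.GeneralLinearGroup.det y = t) :
    splitClassCount (inndiagPSL n F) (Inn PSLn) (grAut g) = Nat.gcd n D.index := by
  have hs : ∀ y : GL (Fin n) F, Commute (inndiagHom n F (invT y)) (grAut g) ↔ y ∈ sim (g : Mn) := fun y => by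
    rw [← inv_mem_iff (x := y), ← commute_iff hn g y⁻¹, inv_inv]
  refine splitClassCount_det hn _ D (fun k hk => ?_) fun t ht => ?_
  · have h := h1 (invT k) ((hs _).1 (by rw [invT_invT]; exact hk))
    rw [det_invT] at h
    exact inv_mem_iff.1 h
  · obtain ⟨y, hy, hdy⟩ := h2 t⁻¹ (inv_mem ht)
    exact ⟨invT y, by rw [det_invT, hdy, inv_inv], (hs y).2 hy⟩

/-- A model as a graph automorphism. -/
theorem exists_graph {κ : Type} [Fintype κ] [DecidableEq κ] (hn : 3 ≤ n) (hκ : Fintype.card κ = n)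
    {S : Matrix κ κ F} (hS : S.det ≠ 0) (hS' : Sᵀ = S ∨ Sᵀ = -S) :
    ∃ g : GL (Fin n) F, Similar (g : Mn) S ∧ IsGraphAutClassPSL (grAut g) ∧ orderOf (grAut g) = 2 := by
  obtain ⟨M, hM, hd, hε⟩ := exists_model S hκ
  obtain ⟨g, hg⟩ : ∃ g : GL (Fin n) F, (g : Mn) = M :=
    (Matrix.isUnit_iff_isUnit_det M).2 (IsUnit.mk0 _ (hd.trans_ne hS))
  refine ⟨g, hg ▸ hM, graph_iff.2 ⟨hn, g, rfl⟩, (orderOf_grAut hn g).2 ?_⟩
  rw [hg]
  rcases hS' with h | h
  · exact Or.inl ((hε 1 (by rw [one_smul, h])).trans (one_smul _ _))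
  · exact Or.inr ((hε (-1) (by rw [neg_one_smul, h])).trans (neg_one_smul _ _))

theorem std_of_involution {γ : MulAut PSLn} (h : IsGraphAutClassPSL γ) (h2 : orderOf γ = 2) :
    ∃ g : GL (Fin n) F, γ = grAut g ∧ ((g : Mn)ᵀ = (g : Mn) ∨ (g : Mn)ᵀ = -(g : Mn)) ∧ (g : Mn).det ≠ 0 := by
  obtain ⟨hn, g, rfl⟩ := graph_iff.1 h
  exact ⟨g, rfl, (orderOf_grAut hn g).1 h2, g.det_ne_zero⟩

end Cfsg.Agent.Classical.PSLAut
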