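import Cfsg.Agent.Lib.Classical.PSLLocalBalance
import Cfsg.Agent.Lib.Classical.PSLGraphFieldAut
import Cfsg.Agent.Lib.Fus.UnitTransvection
import Cfsg.Agent.Lib.Classical.SympSimple

/-!
Local balance in almost simple groups with socle `PSL_n(q)`: graph and graph-field automorphisms.
-/

set_option autoImplicit false
set_option linter.unusedSectionVars false
set_option maxHeartbeats 1000000

namespace Cfsg.Agent.Classical.PSLBal

open Matrix Cfsg.Agent.Classical.PSLAut Cfsg.Agent.Classical.Descent Cfsg.Agent.Classical.FormSim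

variable {F : Type*} [Field F] [Fintype F] {n : ℕ}

local notation "SLn" => Matrix.SpecialLinearGroup (Fin n) F
local notation "PSLn" => Matrix.ProjectiveSpecialLinearGroup (Fin n) F
local notation "Mn" => Matrix (Fin n) (Fin n) F
local notation "GI" => GL (Fin n) F
local notation "π" => slToPSL n F

variable {p : ℕ} [Fact p.Prime] [CharP F p]

include p in
/-- Reduction of centralising automorphisms to semilinear ones. -/
theorem cent_reduce (hn : 3 ≤ n) {x₀ : MulAut PSLn} {g₀ : GI} {σ₀ : RingAut F} (hr : Rep x₀ g₀ σ₀ 1)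
    {θ : GI →* GI} (hx₀ : ∀ u ∈ P0 θ, x₀ u = u)
    (key : ∀ (g : GI) (τ : RingAut F), (∀ u ∈ P0 θ, pslSemi g τ u = u) → (pslSemi g τ : MulAut PSLn) = 1)
    (β : MulAut PSLn) (hfix : ∀ u ∈ P0 θ, β u = u) : β ∈ Subgroup.zpowers x₀ := by
  obtain ⟨g, τ, ε, hrep⟩ := exists_rep (p := p) (by omega) β
  obtain ⟨hε, -, hβ⟩ := hrep
  interval_cases ε
  · rw [pow_zero, mul_one] at hβ
    rw [hβ, key g τ (fun u hu => by rw [← hβ]; exact hfix u hu)]
    exact one_mem _
  · obtain ⟨k, -, -, hk⟩ := (show Rep β g τ 1 from ⟨le_rfl, fun h => by omega, hβ⟩).mul hr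
    norm_num at hk
    have h1 : β * x₀ = 1 := by
      rw [hk]
      exact key k _ fun u hu => by
        rw [← hk, MulAut.mul_apply, hx₀ u hu, hfix u hu]
    rw [eq_inv_of_mul_eq_one_left h1]
    exact inv_mem (Subgroup.mem_zpowers _)

theorem fix_of_act {x₀ : MulAut PSLn} {θ : GI →* GI} (hact : Act x₀ θ) : ∀ u ∈ P0 θ, x₀ u = u := by
  rintro _ ⟨s, hs, rfl⟩
  obtain ⟨s', hs', h⟩ := hact s
  rw [h]
  exact congrArg _ (Matrix.SpecialLinearGroup.toGL_injective (hs'.trans hs))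

/-! ### Graph-field automorphisms -/

variable {σ : RingAut F}

theorem act_gf (σ : RingAut F) : Act (pslSemi 1 σ * pslInvT : MulAut PSLn) (theta σ) := fun s =>
  ⟨slSemi 1 σ (slInvT s), Units.ext (by
    show (1 : Mn) * ((slInvT s : SLn) : Mn).map σ * ((1⁻¹ : GI) : Mn) = _
    rw [inv_one, Units.val_one, Matrix.one_mul, Matrix.mul_one, slInvT_coe]
    show _ = (((gmap σ (Matrix.SpecialLinearGroup.toGL s))⁻¹ : GI) : Mn)ᵀ
    rw [← map_inv, ← map_inv]
    rfl), rfl⟩

theorem mem_fix_gf {s : SLn} : s ∈ FixS (theta σ) ↔ ((s : Mn).map σ)ᵀ * (s : Mn) = 1 := by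
  rw [mem_FixS]
  constructor
  · intro h
    have h1 := congrArg (fun u : GI => ((u⁻¹ : GI) : Mn) * (s : Mn))
      (h : theta σ (Matrix.SpecialLinearGroup.toGL s) = _)
    simp only [theta_inv_coe] at h1
    exact h1.trans (Units.inv_mul (Matrix.SpecialLinearGroup.toGL s))
  · intro h
    refine inv_injective (inv_eq_of_mul_eq_one_right (a := Matrix.SpecialLinearGroup.toGL s) ?_).symm
    refine mul_eq_one_comm.1 (Units.ext ?_)
    show (((theta σ (Matrix.SpecialLinearGroup.toGL s))⁻¹ : GI) : Mn) * (s : Mn) = 1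
    rw [theta_inv_coe]
    exact h

theorem sgn_mem_gf {i j : Fin n} (h : i ≠ j) :
    (⟨Commutant.sgn i j, Commutant.sgn_det h⟩ : SLn) ∈ FixS (theta σ) := by
  refine mem_fix_gf.2 ?_
  show ((Commutant.sgn i j : Mn).map σ.toRingHom)ᵀ * Commutant.sgn i j = 1
  rw [Commutant.sgn_map, Commutant.sgn, Matrix.diagonal_transpose]
  exact Commutant.sgn_sq i j

theorem pl_mem_gf (hσ : ∀ x, σ (σ x) = x) {i j : Fin n} (h : i ≠ j) {a b : F} (hab : a * σ a + b * σ b = 1) :
    (⟨Commutant.pl i j a b (-σ b) (σ a), by rw [Commutant.pl_det h]; linear_combination hab⟩ : SLn) ∈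
      FixS (theta σ) := by
  refine mem_fix_gf.2 ?_
  show ((Commutant.pl i j a b (-σ b) (σ a)).map σ.toRingHom)ᵀ * Commutant.pl i j a b (-σ b) (σ a) = 1
  rw [Commutant.pl_map, Commutant.pl_transpose h]
  refine Matrix.ext_iff_mulVec.2 fun v => ?_
  rw [← Matrix.mulVec_mulVec, Commutant.pl_mulVec h, Commutant.pl_mulVec h, Matrix.one_mulVec]
  funext k
  by_cases hi : k = i
  · subst hi
    simp [h.symm, hσ]
    linear_combination v k * hab
  · by_cases hj : k = j
    · subst hj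
      simp [hi, hσ]
      linear_combination v k * hab
    · simp [hi, hj]

theorem key_gf (hn : 3 ≤ n) (h2 : (2 : F) ≠ 0) (hσ : orderOf σ = 2) (g : GI) (τ : RingAut F)
    (h : ∀ u ∈ P0 (theta (n := n) σ), pslSemi g τ u = u) : (pslSemi g τ : MulAut PSLn) = 1 := by
  have hn2 : 2 ≤ n := by omega
  have hσσ : ∀ x, σ (σ x) = x := fun x => by
    rw [← RingAut.mul_apply, ← sq, ← hσ, pow_orderOf_eq_one, RingAut.one_apply]
  set k₀ : Fin n := ⟨0, by omega⟩
  have hC : ∀ s : SLn, s ∈ FixS (theta σ) → Commutant.Comm τ g (s : Mn) := fun s hs =>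
    semi_fix hn2 (h _ ⟨s, hs, rfl⟩)
  have hpl : ∀ i j : Fin n, i ≠ j → ∀ a b, a * σ a + b * σ b = 1 →
      Commutant.Comm τ g (Commutant.pl i j a b (-σ b) (σ a)) := fun i j hij a b hab =>
    hC _ (pl_mem_gf hσσ hij hab)
  obtain ⟨hoff, hdiag, heq⟩ := Commutant.diag_of_signs (by rw [Fintype.card_fin]; exact hn) h2 k₀
    (fun i j hij => hC _ (sgn_mem_gf hij))
    (fun i j hij _ _ => by simpa using hpl i j hij 0 1 (by simp))
  set i : Fin n := ⟨1, by omega⟩
  set j : Fin n := ⟨2, by omega⟩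
  have hij : i ≠ j := by simp [i, j]
  have hi0 : i ≠ k₀ := by simp [i, k₀]
  have hj0 : j ≠ k₀ := by simp [j, k₀]
  have hτ : ∀ a, τ a = a := fun a => by
    obtain ⟨b, hb⟩ : ∃ b, b * σ b = 1 - a * σ a := by
      rcases eq_or_ne (1 - a * σ a) 0 with e | e
      · exact ⟨0, by rw [e, zero_mul]⟩
      · refine exists_norm_eq (σ := σ.toRingHom) (fun e' => ?_) hσσ ?_ e
        · have : σ = 1 := RingEquiv.ext fun x => RingHom.congr_fun e' x
          rw [this, orderOf_one] at hσ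
          omega
        · show σ _ = _
          rw [map_sub, map_one, map_mul, hσσ]; ring
    exact (Commutant.fixed_of_comm hij (Ne.symm hi0) (Ne.symm hj0) hoff hdiag (heq i j hi0 hj0)
      (hpl i j hij a b (by rw [hb]; ring))).1
  have hτ1 : τ = 1 := RingEquiv.ext hτ
  subst hτ1
  have hk : (g : Mn) k₀ k₀ = (g : Mn) i i := Commutant.link hoff hdiag (A := Commutant.pl k₀ i (0 : F) 1 (-1) 0)
    (τ := 1) (by ext a b; simp) (by simpa using hpl k₀ i hi0.symm 0 1 (by simp)) (x := j)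
    (by rw [Commutant.pl_other hj0 hij.symm]; exact one_ne_zero)
    (by rw [Commutant.pl_ij hi0.symm]; exact one_ne_zero)
  have hg : (g : Mn) = (g : Mn) i i • 1 := Commutant.scalar_of hoff fun a => by
    by_cases ha : a = k₀
    · rw [ha, hk]
    · exact heq a i ha hi0
  exact (semi_eq_one_iff hn2).2 ⟨rfl, Units.mk0 _ (hdiag i), Units.ext (hg.trans
    (by simp [Matrix.smul_one_eq_diagonal]))⟩

theorem dvd_gf (hn : 3 ≤ n) (h2 : (2 : F) ≠ 0) : 2 ∣ Nat.card (P0 (theta (n := n) σ)) :=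
  two_dvd_of_elem (sgn_mem_gf (i := ⟨0, by omega⟩) (j := ⟨1, by omega⟩) (by simp)) (sgn_not_scalar hn h2)
    ⟨1, by rw [one_smul]; exact Commutant.sgn_sq _ _⟩

theorem non_gf (hn : 3 ≤ n) (h2 : (2 : F) ≠ 0) (hσ : orderOf σ = 2) {q₀ : ℕ} (hF : Fintype.card F = q₀ ^ 2)
    (M : Subgroup (P0 (theta (n := n) σ))) (hM : M.Normal) (hc : (Nat.card M).Coprime 2) : M = ⊥ := by
  have hq : ¬ (n = 3 ∧ q₀ = 2) := by
    rintro ⟨-, rfl⟩
    refine h2 ?_
    have h4 : (4 : F) = 0 := by exact_mod_cast (show ((4 : ℕ) : F) = 0 by rw [show 4 = Fintype.card F from hF.symm, FiniteField.cast_card_eq_zero])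
    exact mul_self_eq_zero.1 (show (2 : F) * 2 = 0 by linear_combination h4)
  haveI := Fus.UnitTv.isSimpleGroup_psu hF hn hq
  let Φ : SU n F q₀ →* P0 (theta (n := n) σ) :=
    ((π).comp (SU n F q₀).subtype).codRestrict _ fun s =>
      ⟨_, (PSLAut.mem_GU_iff_theta hF hσ (Matrix.SpecialLinearGroup.toGL (s : SLn))).1 s.2, rfl⟩
  refine coprime_normal_bot Φ ?_ (Subgroup.center (SU n F q₀)) ?_ Nat.prime_two (dvd_gf hn h2) M hM hc
  · rintro ⟨_, s, hs, rfl⟩
    exact ⟨⟨s, (PSLAut.mem_GU_iff_theta hF hσ (Matrix.SpecialLinearGroup.toGL s)).2 hs⟩, rfl⟩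
  · intro s hs
    obtain ⟨c, hc⟩ := suVal_scalar_of_mem_center hF hs
    refine Subtype.ext (pi_eq_one_iff.2 ⟨c, ?_⟩)
    rw [Matrix.smul_one_eq_diagonal, ← Matrix.scalar_apply]
    exact hc

include p in
theorem balance_gf (hn : 3 ≤ n) {A : Subgroup (MulAut PSLn)} (hinn : ∀ k : PSLn, MulAut.conj k ∈ A)
    (h2 : (2 : F) ≠ 0) (hσ : orderOf σ = 2) {x a : MulAut PSLn}
    (hx : x = a * (pslSemi 1 σ * pslInvT) * a⁻¹) (hord : orderOf x = 2) (hnot : ¬ IsInnerDiagonalAutPSL x) :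
    pPrimeCore 2 ↥(A ⊓ Subgroup.centralizer {x}) = ⊥ := by
  classical
  haveI : Fact (Nat.Prime 2) := ⟨Nat.prime_two⟩
  obtain ⟨f, -, hFp⟩ := FiniteField.card F p
  obtain ⟨-, hcard⟩ := card_ringAut (F := F) hFp
  obtain ⟨e, he⟩ : 2 ∣ (f : ℕ) := hσ ▸ hcard ▸ orderOf_dvd_natCard σ
  have hF : Fintype.card F = (p ^ e) ^ 2 := by rw [hFp, he, ← pow_mul, mul_comm]
  have hdvd := dvd_gf (σ := σ) hn h2
  have hiff := balance_act (r := 2) (by omega) hinn (act_gf σ) hx hord hnot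
    (fun h => by rw [h, Subgroup.card_bot] at hdvd; exact absurd hdvd (by decide))
    (fun β hβ _ => cent_reduce (p := p) hn (x₀ := pslSemi 1 σ * pslInvT)
      ⟨le_rfl, fun h => by omega, by rw [pow_one]⟩ (fix_of_act (act_gf σ)) (key_gf hn h2 hσ) β hβ)
    (fun _ _ _ => hdvd) (fun _ M hM hc => non_gf hn h2 hσ hF M hM hc)
  by_contra hne
  have hcop := hiff.1 hne
  set a' := a
  have hsub : (P0 (theta (n := n) σ)).map a'.toMonoidHom ≤
      MonoidHom.eqLocus x.toMonoidHom (MonoidHom.id PSLn) := by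
    rintro _ ⟨u, hu, rfl⟩
    show x (a u) = a u
    rw [hx]
    show a ((pslSemi 1 σ * pslInvT : MulAut PSLn) (a⁻¹ (a u))) = _
    rw [show (a⁻¹ : MulAut PSLn) (a u) = u from a.symm_apply_apply u, fix_of_act (act_gf σ) u hu]
  have h1 := Subgroup.card_dvd_of_le hsub
  rw [Subgroup.card_map_of_injective (f := a'.toMonoidHom) a.injective] at h1
  exact absurd (Nat.dvd_gcd dvd_rfl (hdvd.trans h1)) (by rw [hcop]; decide)

/-! ### Graph automorphisms -/

/-- Inverse transpose as a homomorphism. -/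
def invTHom : GI →* GI := MonoidHom.mk' invT invT_mul

/-- The graph twist of a matrix. -/
def thetaG (g : GI) : GI →* GI := (MulAut.conj g).toMonoidHom.comp invTHom

theorem act_graph (g : GI) : Act (grAut g) (thetaG g) := fun s =>
  ⟨slSemi g (RingEquiv.refl F) (slInvT s), Units.ext (by
    show (g : Mn) * ((slInvT s : SLn) : Mn).map (RingEquiv.refl F) * ((g⁻¹ : GI) : Mn) = _
    show _ = (((g * invT (Matrix.SpecialLinearGroup.toGL s) * g⁻¹ : GI)) : Mn)
    rw [Units.val_mul, Units.val_mul, slInvT_coe, invT_coe, ← map_inv]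
    rfl), rfl⟩

theorem mem_fix_graph {g : GI} {s : SLn} :
    s ∈ FixS (thetaG g) ↔ (s : Mn) * (g : Mn) * (s : Mn)ᵀ = (g : Mn) := by
  rw [mem_FixS]
  show g * invT (Matrix.SpecialLinearGroup.toGL s) * g⁻¹ = _ ↔ _
  rw [mul_inv_eq_iff_eq_mul]
  constructor
  · intro h
    have h1 := congrArg (fun u : GI => (u : Mn) * (s : Mn)ᵀ) h
    simp only [Units.val_mul] at h1
    rw [Matrix.mul_assoc, show (invT (Matrix.SpecialLinearGroup.toGL s) : Mn) * (s : Mn)ᵀ = 1 from ?_,
      Matrix.mul_one] at h1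
    · exact h1.symm
    · exact Units.mul_inv (invT (Matrix.SpecialLinearGroup.toGL s))
  · intro h
    refine Units.ext ?_
    rw [Units.val_mul, Units.val_mul]
    conv_lhs => rw [← h]
    rw [Matrix.mul_assoc ((s : Mn) * (g : Mn)), show (s : Mn)ᵀ * (invT (Matrix.SpecialLinearGroup.toGL s) : Mn) = 1
      from Units.inv_mul (invT (Matrix.SpecialLinearGroup.toGL s)), Matrix.mul_one]
    rfl

section Symm

variable {g : GL (Fin n) F} {d : Fin n → F} (hg : (g : Matrix (Fin n) (Fin n) F) = diagonal d) {k₀ : Fin n}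
  (hd : ∀ i, i ≠ k₀ → d i = 1)
include hg

theorem sgn_mem_sym {i j : Fin n} (h : i ≠ j) :
    (⟨Commutant.sgn i j, Commutant.sgn_det h⟩ : SLn) ∈ FixS (thetaG g) := by
  refine mem_fix_graph.2 ?_
  show Commutant.sgn i j * (g : Mn) * (Commutant.sgn i j)ᵀ = _
  rw [hg, Commutant.sgn, Matrix.diagonal_transpose, Matrix.diagonal_mul_diagonal, Matrix.diagonal_mul_diagonal]
  congr 1
  funext k
  split_ifs <;> ring

theorem dvd_sym (hn : 3 ≤ n) (h2 : (2 : F) ≠ 0) : 2 ∣ Nat.card (P0 (thetaG g)) :=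
  two_dvd_of_elem (sgn_mem_sym hg (i := ⟨0, by omega⟩) (j := ⟨1, by omega⟩) (by simp)) (sgn_not_scalar hn h2)
    ⟨1, by rw [one_smul]; exact Commutant.sgn_sq _ _⟩

include hd

theorem pl_mem_sym {i j : Fin n} (h : i ≠ j) (hi : i ≠ k₀) (hj : j ≠ k₀) {a b : F}
    (hab : a * a + b * b = 1) :
    (⟨Commutant.pl i j a b (-b) a, by rw [Commutant.pl_det h]; linear_combination hab⟩ : SLn) ∈
      FixS (thetaG g) := by
  refine mem_fix_graph.2 ?_
  show Commutant.pl i j a b (-b) a * (g : Mn) * (Commutant.pl i j a b (-b) a)ᵀ = _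
  rw [Commutant.pl_transpose h, hg]
  refine Matrix.ext_iff_mulVec.2 fun v => ?_
  rw [← Matrix.mulVec_mulVec, ← Matrix.mulVec_mulVec, Commutant.pl_mulVec h _ _ _ _ v, Commutant.pl_mulVec h]
  funext k
  simp only [Matrix.mulVec_diagonal]
  by_cases hki : k = i
  · subst hki
    simp [h.symm, hd _ hi, hd _ hj]
    linear_combination v k * hab
  · by_cases hkj : k = j
    · subst hkj
      simp [hki, hd _ hi, hd _ hj]
      linear_combination v k * hab
    · simp [hki, hkj]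

omit hd in
theorem iso_fix {s : SLn} (hd0 : ∀ i, d i ≠ 0) :
    s ∈ FixS (thetaG g) ↔ OddCore.Iso (fun i => (d i)⁻¹) (Matrix.SpecialLinearGroup.toGL s) := by
  rw [mem_fix_graph, hg]
  have hinv : diagonal d * diagonal (fun i => (d i)⁻¹) = (1 : Mn) := by
    rw [Matrix.diagonal_mul_diagonal, ← Matrix.diagonal_one]
    congr 1; funext i; exact mul_inv_cancel₀ (hd0 i)
  have hinv' : diagonal (fun i => (d i)⁻¹) * diagonal d = (1 : Mn) := mul_eq_one_comm.1 hinv
  have hiso : OddCore.Iso (fun i => (d i)⁻¹) (Matrix.SpecialLinearGroup.toGL s) ↔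
      (s : Mn)ᵀ * diagonal (fun i => (d i)⁻¹) * (s : Mn) = diagonal (fun i => (d i)⁻¹) := by
    have hbd : ∀ x y : Fin n → F, OddCore.bd (fun i => (d i)⁻¹) x y = bf (diagonal fun i => (d i)⁻¹) x y :=
      fun x y => Finset.sum_congr rfl fun i _ => by rw [Matrix.mulVec_diagonal]; ring
    refine ⟨fun h => eq_of_bf fun u v => ?_, fun h u v => ?_⟩
    · rw [bf_congr, ← hbd, ← hbd]; exact h u v
    · rw [hbd, hbd, ← bf_congr]
      exact congrArg (fun A : Mn => bf A u v) h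
  rw [hiso]
  constructor
  · intro h
    have h1 : (s : Mn) * (diagonal d * (s : Mn)ᵀ * diagonal fun i => (d i)⁻¹) = 1 := by
      rw [← Matrix.mul_assoc, ← Matrix.mul_assoc, h, hinv]
    have h3 := congrArg (fun A : Mn => diagonal (fun i => (d i)⁻¹) * A) (mul_eq_one_comm.1 h1)
    simp only [← Matrix.mul_assoc, hinv', Matrix.one_mul, Matrix.mul_one] at h3
    exact h3
  · intro h
    have h1 : (diagonal d * (s : Mn)ᵀ * diagonal fun i => (d i)⁻¹) * (s : Mn) = 1 := by
      rw [Matrix.mul_assoc, Matrix.mul_assoc, ← Matrix.mul_assoc (s : Mn)ᵀ, h, hinv]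
    have h3 := congrArg (fun A : Mn => A * diagonal d) (mul_eq_one_comm.1 h1)
    simp only [Matrix.mul_assoc, hinv', Matrix.one_mul, Matrix.mul_one] at h3
    rwa [← Matrix.mul_assoc] at h3

theorem key_sym_gen {K : Type*} [Field K] [Fintype K] (f : F →+* K) (hn : 3 ≤ n) (h2 : (2 : F) ≠ 0)
    (hd0 : ∀ i, d i ≠ 0) (g' : GL (Fin n) K) (τ : RingAut K)
    (hC : ∀ s : SLn, s ∈ FixS (thetaG g) → Commutant.Comm τ g' ((s : Mn).map f)) :
    (∀ a, τ (f a) = f a) ∧ ∃ μ : Kˣ, g' = Matrix.GeneralLinearGroup.scalar (Fin n) μ := by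
  classical
  have h2K : (2 : K) ≠ 0 := by rw [← map_ofNat f]; exact (map_ne_zero f).2 h2
  have hpl : ∀ i j : Fin n, i ≠ j → i ≠ k₀ → j ≠ k₀ → ∀ a b, a * a + b * b = 1 →
      Commutant.Comm τ g' (Commutant.pl i j (f a) (f b) (f (-b)) (f a)) := fun i j hij hi hj a b hab => by
    have h : Commutant.Comm τ g' ((Commutant.pl i j a b (-b) a).map f) := hC _ (pl_mem_sym hg hd hij hi hj hab)
    rwa [Commutant.pl_map] at h
  obtain ⟨hoff, hdiag, heq⟩ := Commutant.diag_of_signs (by rw [Fintype.card_fin]; exact hn) h2K k₀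
    (fun i j hij => by
      have h : Commutant.Comm τ g' ((Commutant.sgn i j : Mn).map f) := hC _ (sgn_mem_sym hg hij)
      rwa [Commutant.sgn_map] at h)
    (fun i j hij hi hj => by simpa using hpl i j hij hi hj 0 1 (by ring))
  obtain ⟨i, j, hij, hi0, hj0⟩ : ∃ i j : Fin n, i ≠ j ∧ i ≠ k₀ ∧ j ≠ k₀ := by
    have hcard : 2 ≤ (Finset.univ.erase k₀).card := by simp; omega
    obtain ⟨i, hi, j, hj, hij⟩ := Finset.one_lt_card.1 hcard
    exact ⟨i, j, hij, (Finset.mem_erase.1 hi).1, (Finset.mem_erase.1 hj).1⟩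
  have hτ0 : ∀ t : F, t * t + 1 ≠ 0 → τ (f t) = f t := by
    intro t ht
    rcases eq_or_ne t 0 with rfl | ht0
    · rw [map_zero, map_zero]
    obtain ⟨e1, e2⟩ := Commutant.fixed_of_comm hij (Ne.symm hi0) (Ne.symm hj0) hoff hdiag (heq i j hi0 hj0)
      (hpl i j hij hi0 hj0 ((t * t - 1) / (t * t + 1)) (2 * t / (t * t + 1)) (by
        rw [div_mul_div_comm, div_mul_div_comm, ← add_div, div_eq_one_iff_eq (mul_ne_zero ht ht)]; ring))
    have e : (1 + (t * t - 1) / (t * t + 1)) / (2 * t / (t * t + 1)) = t := by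
      rw [one_add_div ht, div_div_div_cancel_right₀ ht, div_eq_iff (mul_ne_zero h2 ht0)]; ring
    rw [← e, map_div₀ f, map_add f, map_one f, map_div₀ τ, map_add τ, map_one τ, e1, e2]
  have hτ : ∀ t, τ (f t) = f t := fun t => by
    by_cases h1 : (t + 1) * (t + 1) + 1 = 0
    · by_cases h3 : t * t + 1 = 0
      · have ht : t = -(1 / 2) := by field_simp; linear_combination h1 - h3
        rw [ht, map_neg, map_neg, map_div₀, map_div₀, map_one, map_one, map_ofNat, map_ofNat]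
      · exact hτ0 t h3
    · simpa using hτ0 (t + 1) h1
  refine ⟨hτ, ?_⟩
  -- link the special coordinate
  set d' : Fin n → F := fun k => (d k)⁻¹
  have hd' : ∀ k, k ≠ k₀ → d' k = 1 := fun k hk => by simp [d', hd k hk]
  obtain ⟨t, ht01, hQ⟩ : ∃ t : F, (t = 0 ∨ (t = 1 ∧ 1 + d' k₀ = 0)) ∧ 1 + t * t + d' k₀ ≠ 0 := by
    by_cases h1 : 1 + d' k₀ = 0
    · exact ⟨1, Or.inr ⟨rfl, h1⟩, by rw [show 1 + 1 * 1 + d' k₀ = 1 by linear_combination h1]; exact one_ne_zero⟩
    · exact ⟨0, Or.inl rfl, by simpa using h1⟩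
  set v : Fin n → F := Pi.single i 1 + t • Pi.single j 1 + Pi.single k₀ 1 with hvdef
  have hv : ∀ y : Fin n → F, OddCore.bd d' v y = y i + t * y j + d' k₀ * y k₀ := fun y => by
    rw [hvdef, OddCore.bd_add_left, OddCore.bd_add_left, OddCore.bd_smul_left, OddCore.bd_single,
      OddCore.bd_single, OddCore.bd_single, hd' i hi0, hd' j hj0]
    ring
  have hvi : v i = 1 := by simp [hvdef, hij, hi0]
  have hvj : v j = t := by simp [hvdef, hij.symm, hj0]
  have hvk : v k₀ = 1 := by simp [hvdef, Ne.symm hi0, Ne.symm hj0]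
  have hvv : OddCore.bd d' v v = 1 + t * t + d' k₀ := by rw [hv, hvi, hvj, hvk, mul_one]
  obtain ⟨r₁, hr₁, hi₁⟩ := OddCore.exists_refl d' (a := v) (by rw [hvv]; exact hQ)
  obtain ⟨r₂, hr₂, hi₂⟩ := OddCore.exists_refl d' (a := Pi.single i 1)
    (by rw [OddCore.bd_single, Pi.single_eq_same, hd' i hi0, mul_one]; exact one_ne_zero)
  have hdet : ∀ (r : GI) (a : Fin n → F), OddCore.bd d' a a ≠ 0 →
      (∀ x, (r : Mn) *ᵥ x = x - (2 * OddCore.bd d' a x / OddCore.bd d' a a) • a) → (r : Mn).det = -1 := by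
    intro r a ha hr
    have e : (r : Mn) = 1 + Matrix.replicateCol Unit a *
        Matrix.replicateRow Unit (fun k => -(2 / OddCore.bd d' a a) * (d' k * a k)) :=
      Matrix.ext_iff_mulVec.2 fun x => by
        rw [hr, ← Matrix.vecMulVec_eq, Matrix.add_mulVec, Matrix.one_mulVec, Matrix.vecMulVec_mulVec]
        have : (fun k => -(2 / OddCore.bd d' a a) * (d' k * a k)) ⬝ᵥ x =
            -(2 / OddCore.bd d' a a) * OddCore.bd d' a x := by
          generalize -(2 / OddCore.bd d' a a) = w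
          rw [OddCore.bd, Finset.mul_sum]
          exact Finset.sum_congr rfl fun k _ => by ring
        rw [this]
        funext k
        simp only [Pi.sub_apply, Pi.add_apply, Pi.smul_apply, smul_eq_mul, op_smul_eq_smul]
        ring
    rw [e, Matrix.det_one_add_replicateCol_mul_replicateRow]
    have : (fun k => -(2 / OddCore.bd d' a a) * (d' k * a k)) ⬝ᵥ a =
        -(2 / OddCore.bd d' a a) * OddCore.bd d' a a := by
      have : OddCore.bd d' a a = ∑ k, d' k * a k * a k := rfl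
      generalize hw : -(2 / OddCore.bd d' a a) = w
      rw [this, Finset.mul_sum]
      exact Finset.sum_congr rfl fun k _ => by ring
    rw [this, neg_mul, div_mul_cancel₀ _ ha]
    ring
  have hR : ((r₁ * r₂ : GI) : Mn).det = 1 := by
    rw [Units.val_mul, Matrix.det_mul, hdet r₁ v (by rw [hvv]; exact hQ) hr₁,
      hdet r₂ _ (by rw [OddCore.bd_single, Pi.single_eq_same, hd' i hi0, mul_one]; exact one_ne_zero) hr₂]
    ring
  have hmem : (⟨_, hR⟩ : SLn) ∈ FixS (thetaG g) := (iso_fix hg hd0).2 fun x y => by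
    show OddCore.bd d' (((r₁ * r₂ : GI) : Mn) *ᵥ x) (((r₁ * r₂ : GI) : Mn) *ᵥ y) = _
    rw [Units.val_mul, ← Matrix.mulVec_mulVec, ← Matrix.mulVec_mulVec, hi₁, hi₂]
  have hcol : ∀ a b, ((r₁ * r₂ : GI) : Mn) a b = ((r₁ : Mn) *ᵥ ((r₂ : Mn) *ᵥ Pi.single b 1)) a := fun a b => by
    rw [Matrix.mulVec_mulVec, ← Units.val_mul, Matrix.mulVec_single_one]; rfl
  have hfix2 : ∀ b, b ≠ i → (r₂ : Mn) *ᵥ Pi.single b 1 = Pi.single b 1 := fun b hb => by
    rw [hr₂, OddCore.bd_single, Pi.single_eq_of_ne hb.symm]; simp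
  have hk : (g' : Matrix (Fin n) (Fin n) K) i i = (g' : Matrix (Fin n) (Fin n) K) k₀ k₀ := by
    refine Commutant.link hoff hdiag (A := ((r₁ * r₂ : GI) : Mn).map f) (by ext a b; exact hτ _) (hC _ hmem)
      (x := j) ?_ ?_
    · rw [Matrix.map_apply, map_ne_zero f, hcol, hfix2 j hij.symm, hr₁, hv, hvv]
      simp only [Pi.sub_apply, Pi.smul_apply, smul_eq_mul, hvj, Pi.single_eq_same, Pi.single_eq_of_ne hij,
        Pi.single_eq_of_ne (Ne.symm hj0), mul_one, mul_zero, add_zero, zero_add]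
      rcases ht01 with rfl | ⟨rfl, h1⟩
      · simp
      · intro e
        rw [show (1 : F) + 1 * 1 + d' k₀ = 1 by linear_combination h1] at e
        exact one_ne_zero (α := F) (by linear_combination -e)
    · rw [Matrix.map_apply, map_ne_zero f, hcol, hfix2 k₀ (Ne.symm hi0), hr₁, hv, hvv]
      simp only [Pi.sub_apply, Pi.smul_apply, smul_eq_mul, hvi, Pi.single_eq_same, Pi.single_eq_of_ne hi0,
        Pi.single_eq_of_ne hj0, mul_one, mul_zero, add_zero, zero_add, zero_sub, neg_ne_zero]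
      exact div_ne_zero (mul_ne_zero h2 (inv_ne_zero (hd0 k₀))) hQ
  exact ⟨Units.mk0 _ (hdiag i), Units.ext ((Commutant.scalar_of hoff fun a => (by
    by_cases ha : a = k₀
    · rw [ha, hk]
    · exact heq a i ha hi0 : (g' : Matrix (Fin n) (Fin n) K) a a = (g' : Matrix (Fin n) (Fin n) K) i i)).trans
    (by simp [Matrix.smul_one_eq_diagonal]))⟩

theorem key_sym (hn : 3 ≤ n) (h2 : (2 : F) ≠ 0) (hd0 : ∀ i, d i ≠ 0) (g' : GI) (τ : RingAut F)
    (h : ∀ u ∈ P0 (thetaG g), pslSemi g' τ u = u) : (pslSemi g' τ : MulAut PSLn) = 1 := by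
  obtain ⟨hτ, μ, hμ⟩ := key_sym_gen hg hd (RingHom.id F) hn h2 hd0 g' τ fun s hs => by
    simpa using semi_fix (by omega) (h _ ⟨s, hs, rfl⟩)
  exact (semi_eq_one_iff (by omega)).2 ⟨RingEquiv.ext hτ, μ, hμ⟩

omit hd in
theorem non_sym (hn : 3 ≤ n) (h2 : (2 : F) ≠ 0) (hd0 : ∀ i, d i ≠ 0)
    (M : Subgroup (P0 (thetaG g))) (hM : M.Normal) (hc : (Nat.card M).Coprime 2) : M = ⊥ := by
  classical
  haveI : Fact (Nat.Prime 2) := ⟨Nat.prime_two⟩
  suffices hbot : pPrimeCore 2 ↥(P0 (thetaG g)) = ⊥ from eq_bot_iff.2 (hbot ▸ Grp.le_pPrimeCore hM hc)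
  set C := pPrimeCore 2 ↥(P0 (thetaG g))
  haveI hCn : C.Normal := Grp.pPrimeCore_isNormal
  have hCc : (Nat.card C).Coprime 2 := Grp.pPrimeCore_coprime
  set T : Subgroup SLn := FixS (thetaG g) ⊓ (C.map (P0 (thetaG g)).subtype).comap (π) with hT
  have hCmap : Nat.card (C.map (P0 (thetaG g)).subtype) = Nat.card C :=
    Subgroup.card_map_of_injective Subtype.val_injective
  set d' : Fin n → F := fun i => (d i)⁻¹
  have hkey := OddCore.core (d := d') (M := T.map Matrix.SpecialLinearGroup.toGL)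
    (fun i => inv_ne_zero (hd0 i)) h2 (by rw [Fintype.card_fin]; exact hn)
    (by rintro _ ⟨s, hs, rfl⟩; exact (iso_fix hg hd0).1 hs.1) ?_ ?_
  · refine (Subgroup.eq_bot_iff_forall _).2 fun u hu => ?_
    obtain ⟨_, s, hs, rfl⟩ := u
    obtain ⟨c, hc⟩ := hkey (Matrix.SpecialLinearGroup.toGL s) ⟨s, ⟨hs, ⟨_, hu, rfl⟩⟩, rfl⟩
    exact Subtype.ext (pi_eq_one_iff.2 ⟨c, hc⟩)
  · rintro k hk _ ⟨s, ⟨hs, hsC⟩, rfl⟩
    have hconj : ∀ (e : GI), OddCore.Iso d' e → ∀ s : SLn, s ∈ FixS (thetaG g) →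
        slSemi e (RingEquiv.refl F) s ∈ FixS (thetaG g) := fun e he s hs => by
      refine (iso_fix hg hd0).2 fun x y => ?_
      show OddCore.bd d' (((e : Mn) * (s : Mn).map id * ((e⁻¹ : GI) : Mn)) *ᵥ x)
        (((e : Mn) * (s : Mn).map id * ((e⁻¹ : GI) : Mn)) *ᵥ y) = _
      rw [Matrix.map_id, ← Matrix.mulVec_mulVec, ← Matrix.mulVec_mulVec, ← Matrix.mulVec_mulVec,
        ← Matrix.mulVec_mulVec, he,
        show OddCore.bd d' ((s : Mn) *ᵥ _) ((s : Mn) *ᵥ _) = _ from (iso_fix hg hd0).1 hs _ _, ← he]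
      simp [Matrix.mulVec_mulVec, ← Units.val_mul, d']
    have hmaps : (P0 (thetaG g)).map (inndiagHom n F k).toMonoidHom ≤ (P0 (thetaG g)) := by
      rintro _ ⟨_, ⟨t, ht, rfl⟩, rfl⟩
      exact ⟨_, hconj k hk t ht, rfl⟩
    have heq : (P0 (thetaG g)).map (inndiagHom n F k).toMonoidHom = (P0 (thetaG g)) :=
      Subgroup.eq_of_le_of_card_ge hmaps
        (le_of_eq (Subgroup.card_map_of_injective (inndiagHom n F k).injective).symm)
    let e : (P0 (thetaG g)) ≃* (P0 (thetaG g)) := ((inndiagHom n F k).subgroupMap (P0 (thetaG g))).trans (MulEquiv.subgroupCongr heq)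
    have hmapC : C.map e.toMonoidHom ≤ C := Grp.le_pPrimeCore (hCn.map _ e.surjective) (by
      rw [Subgroup.card_map_of_injective (f := e.toMonoidHom) e.injective]; exact hCc)
    obtain ⟨u, hu, hu'⟩ := hsC
    refine ⟨slSemi k (RingEquiv.refl F) s, ⟨hconj k hk s hs, ⟨e u, hmapC ⟨u, hu, rfl⟩, ?_⟩⟩, Units.ext ?_⟩
    · show inndiagHom n F k ((P0 (thetaG g)).subtype u) = π _
      rw [hu']
      rfl
    · show (k : Mn) * (s : Mn).map id * ((k⁻¹ : GI) : Mn) = _
      rw [Matrix.map_id]; rfl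
  · rintro _ ⟨s, ⟨hs, hsC⟩, rfl⟩
    refine ⟨Nat.card C, ?_, ?_⟩
    · exact Nat.Coprime.odd_of_right hCc
    · have h1 : π (s ^ Nat.card C) = 1 := by
        rw [map_pow, ← hCmap]
        exact congrArg Subtype.val (pow_card_eq_one' (x := (⟨π s, hsC⟩ : C.map (P0 (thetaG g)).subtype)))
      obtain ⟨c, hc⟩ := pi_eq_one_iff.1 h1
      exact ⟨c, by rw [← map_pow]; exact hc⟩

end Symm

section Alt

variable {g : GL (Fin n) F} (hg : (g : Matrix (Fin n) (Fin n) F)ᵀ = -(g : Matrix (Fin n) (Fin n) F))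
include hg

theorem alt_tv_mem (h2 : (2 : F) ≠ 0) (u : Fin n → F) (t : F) :
    ∃ s ∈ FixS (thetaG g), (s : Mn) = 1 + t • vecMulVec ((g : Mn) *ᵥ u) u := by
  have huu : u ⬝ᵥ ((g : Mn) *ᵥ u) = 0 := bf_self_zero_of_skew h2 hg u
  have hdet : (1 + t • vecMulVec ((g : Mn) *ᵥ u) u : Mn).det = 1 := by
    rw [← Matrix.smul_vecMulVec, Matrix.vecMulVec_eq Unit, Matrix.det_one_add_replicateCol_mul_replicateRow,
      dotProduct_smul, huu]
    simp
  refine ⟨⟨_, hdet⟩, mem_fix_graph.2 ?_, rfl⟩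
  show (1 + t • vecMulVec ((g : Mn) *ᵥ u) u : Mn) * (g : Mn) *
    (1 + t • vecMulVec ((g : Mn) *ᵥ u) u : Mn)ᵀ = (g : Mn)
  rw [Matrix.transpose_add, Matrix.transpose_one, Matrix.transpose_smul, Matrix.transpose_vecMulVec]
  have e1 : vecMulVec ((g : Mn) *ᵥ u) u * (g : Mn) = -vecMulVec ((g : Mn) *ᵥ u) ((g : Mn) *ᵥ u) := by
    rw [Matrix.vecMulVec_mul, ← Matrix.mulVec_transpose, hg, Matrix.neg_mulVec, Matrix.vecMulVec_neg]
  have e2 : (g : Mn) * vecMulVec u ((g : Mn) *ᵥ u) = vecMulVec ((g : Mn) *ᵥ u) ((g : Mn) *ᵥ u) := by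
    rw [Matrix.mul_vecMulVec]
  have e3 : vecMulVec ((g : Mn) *ᵥ u) ((g : Mn) *ᵥ u) * vecMulVec u ((g : Mn) *ᵥ u) = 0 := by
    rw [Matrix.vecMulVec_mul_vecMulVec, dotProduct_comm, huu]; simp
  simp only [Matrix.add_mul, Matrix.mul_add, Matrix.one_mul, Matrix.mul_one, Matrix.smul_mul, Matrix.mul_smul,
    e1, e2, Matrix.neg_mul, e3, smul_neg, neg_zero, smul_zero]
  abel

theorem key_alt_gen {K : Type*} [Field K] [Fintype K] (f : F →+* K) (hn : 3 ≤ n) (h2 : (2 : F) ≠ 0)
    (g' : GL (Fin n) K) (τ : RingAut K)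
    (hC : ∀ s : SLn, s ∈ FixS (thetaG g) → Commutant.Comm τ g' ((s : Mn).map f)) :
    (∀ a, τ (f a) = f a) ∧ ∃ μ : Kˣ, g' = Matrix.GeneralLinearGroup.scalar (Fin n) μ := by
  classical
  set G : Matrix (Fin n) (Fin n) K := (g : Mn).map f with hG
  set B : Matrix (Fin n) (Fin n) K := (g' : Matrix (Fin n) (Fin n) K) with hB
  set A : Matrix (Fin n) (Fin n) K := B * G.map τ with hA
  have hGinv : ((g⁻¹ : GI) : Mn).map f * G = 1 := by
    rw [hG, ← Matrix.map_mul, Units.inv_mul, Matrix.map_one f (map_zero f) (map_one f)]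
  -- intertwining on squares
  have hsq : ∀ (u : Fin n → F), (∀ k, τ (f (u k)) = f (u k)) → u ≠ 0 → ∀ t : F,
      τ (f t) • (A * vecMulVec (f ∘ u) (f ∘ u)) = f t • (G * vecMulVec (f ∘ u) (f ∘ u) * B) := by
    intro u hu hu0 t
    rcases eq_or_ne t 0 with rfl | ht
    · simp
    obtain ⟨s, hs, hse⟩ := alt_tv_mem hg h2 u t
    obtain ⟨c, hc⟩ := hC s hs
    have huu : u ⬝ᵥ ((g : Mn) *ᵥ u) = 0 := bf_self_zero_of_skew h2 hg u
    have hgu : (g : Mn) *ᵥ u ≠ 0 := fun e0 => hu0 (by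
      have h' := congrArg (fun z => ((g⁻¹ : GI) : Mn) *ᵥ z) e0
      simp only [Matrix.mulVec_zero] at h'
      rwa [Matrix.mulVec_mulVec, Units.inv_mul, Matrix.one_mulVec] at h')
    have hM : (vecMulVec ((g : Mn) *ᵥ u) u : Mn).map f = G * vecMulVec (f ∘ u) (f ∘ u) := by
      rw [← Matrix.mul_vecMulVec, Matrix.map_mul, hG]
      congr 1
      ext a b
      simp [Matrix.vecMulVec_apply]
    have hN : (t • vecMulVec ((g : Mn) *ᵥ u) u : Mn) * (t • vecMulVec ((g : Mn) *ᵥ u) u) = 0 := by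
      rw [Matrix.smul_mul, Matrix.mul_smul, Matrix.vecMulVec_mul_vecMulVec, huu]; simp
    have hN0 : (t • vecMulVec ((g : Mn) *ᵥ u) u : Mn) ≠ 0 := by
      obtain ⟨a, ha⟩ := Function.ne_iff.1 hgu
      obtain ⟨b, hb⟩ := Function.ne_iff.1 hu0
      intro e
      have := congrFun (congrFun e a) b
      simp [Matrix.vecMulVec_apply] at this
      rcases this with h | h | h
      · exact ht h
      · exact ha h
      · exact hb h
    set N : Matrix (Fin n) (Fin n) K := (t • vecMulVec ((g : Mn) *ᵥ u) u : Mn).map f with hNdef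
    have e1 : N = f t • (G * vecMulVec (f ∘ u) (f ∘ u)) := by
      rw [hNdef, Matrix.map_smul' f _ _ (map_mul f), hM]
    have e2 : N.map τ = τ (f t) • (G.map τ * vecMulVec (f ∘ u) (f ∘ u)) := by
      rw [e1, Matrix.map_smul' τ _ _ (map_mul τ), Matrix.map_mul]
      congr 2
      ext a b
      simp [Matrix.vecMulVec_apply, hu]
    have hNN : N * N = 0 := by
      rw [hNdef, ← Matrix.map_mul, hN, Matrix.map_zero f (map_zero f)]
    have h1 := unip (g := g') (N := N) (N' := N.map τ) (c := c) hNN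
      (by rw [← Matrix.map_mul, hNN, Matrix.map_zero τ (map_zero τ)])
      (fun e => hN0 (Matrix.map_injective f.injective (e.trans (Matrix.map_zero f (map_zero f)).symm))) ?_
    · rw [e2, e1, Matrix.mul_smul, Matrix.smul_mul, ← hB, ← Matrix.mul_assoc, ← hA] at h1
      exact h1
    · have e : (s : Mn).map f = 1 + N := by
        rw [hse, Matrix.map_add f (map_add f), Matrix.map_one f (map_zero f) (map_one f)]
      rw [e, Matrix.map_add τ (map_add τ), Matrix.map_one τ (map_zero τ) (map_one τ)] at hc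
      exact hc
  have hcan : ∀ {X Y : Matrix (Fin n) (Fin n) K}, G * X = G * Y → X = Y := fun {X Y} e => by
    have h := congrArg (fun M => ((g⁻¹ : GI) : Mn).map f * M) e
    simpa only [← Matrix.mul_assoc, hGinv, Matrix.one_mul] using h
  have hfs : ∀ a : Fin n, f ∘ (Pi.single a (1 : F)) = Pi.single a (1 : K) := fun a => by
    funext k
    rcases eq_or_ne k a with rfl | hk
    · simp
    · simp [Pi.single_eq_of_ne hk]
  have hfix1 : ∀ (a k : Fin n), τ (f ((Pi.single a (1 : F) : Fin n → F) k)) = f ((Pi.single a (1 : F) : Fin n → F) k) :=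
    fun a k => by rcases eq_or_ne k a with rfl | hk <;> simp_all
  have hAg : A = G * B := by
    have h1 : A * ∑ a, Matrix.single a a (1 : K) = G * (∑ a, Matrix.single a a (1 : K)) * B := by
      rw [Matrix.mul_sum, Matrix.mul_sum, Matrix.sum_mul]
      refine Finset.sum_congr rfl fun a _ => ?_
      have h1 := hsq (Pi.single a 1) (hfix1 a) (by simp) 1
      rw [map_one, map_one, one_smul, one_smul, hfs,
        show vecMulVec (Pi.single a (1 : K)) (Pi.single a (1 : K)) = Matrix.single a a 1 from ?_] at h1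
      · exact h1
      · ext x y
        rw [Matrix.vecMulVec_apply]
        rcases eq_or_ne x a with rfl | hx
        · rcases eq_or_ne y x with rfl | hy
          · simp
          · simp [Pi.single_eq_of_ne hy, Ne.symm hy]
        · simp [Pi.single_eq_of_ne hx, Ne.symm hx]
    rwa [Matrix.sum_single_one, Matrix.mul_one, Matrix.mul_one] at h1
  have hcomm : ∀ (u : Fin n → F), (∀ k, τ (f (u k)) = f (u k)) → u ≠ 0 → ∀ t : F,
      τ (f t) • (B * vecMulVec (f ∘ u) (f ∘ u)) = f t • (vecMulVec (f ∘ u) (f ∘ u) * B) :=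
    fun u hu hu0 t => hcan (by
      rw [Matrix.mul_smul, Matrix.mul_smul, ← Matrix.mul_assoc, ← hAg, ← Matrix.mul_assoc]
      exact hsq u hu hu0 t)
  have hoff : ∀ a b, a ≠ b → B a b = 0 := fun a b hab => by
    have := congrFun (congrFun (hcomm (Pi.single b 1) (hfix1 b) (by simp) 1) a) b
    simpa [hfs, Matrix.mul_apply, Matrix.vecMulVec_apply, Pi.single_apply, hab] using this
  have heq : ∀ a b, B a a = B b b := fun a b => by
    by_cases hab : a = b
    · rw [hab]
    have := congrFun (congrFun (hcomm (Pi.single a 1 + Pi.single b 1)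
      (fun k => by by_cases hk : k = a <;> by_cases hk' : k = b <;> simp [hk, hk', hab, Ne.symm hab])
      (fun e => by simpa [hab] using congrFun e a) 1) a) b
    simp only [map_one, one_smul, Matrix.mul_apply, Matrix.vecMulVec_apply, Function.comp_apply] at this
    rw [Finset.sum_eq_single a, Finset.sum_eq_single b] at this
    · simpa [hab, Ne.symm hab] using this
    · intro x _ hx; rw [hoff x b hx, mul_zero]
    · simp
    · intro x _ hx; rw [hoff a x (Ne.symm hx), zero_mul]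
    · simp
  set a₀ : Fin n := ⟨0, by omega⟩
  have hsc : B = B a₀ a₀ • 1 := Commutant.scalar_of hoff fun a => heq a a₀
  have hd0 : B a₀ a₀ ≠ 0 := fun e => g'.det_ne_zero (by
    rw [← hB, hsc, e, zero_smul]
    haveI : Nonempty (Fin n) := ⟨a₀⟩
    exact Matrix.det_zero)
  refine ⟨fun t => ?_, Units.mk0 _ hd0, Units.ext (hsc.trans (by simp [Matrix.smul_one_eq_diagonal]))⟩
  have := congrFun (congrFun (hcomm (Pi.single a₀ 1) (hfix1 a₀) (by simp) t) a₀) a₀
  simp [hfs, Matrix.mul_apply, Matrix.vecMulVec_apply, Pi.single_apply] at this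
  exact this.resolve_right hd0

theorem key_alt (hn : 3 ≤ n) (h2 : (2 : F) ≠ 0) (g' : GI) (τ : RingAut F)
    (h : ∀ u ∈ P0 (thetaG g), pslSemi g' τ u = u) : (pslSemi g' τ : MulAut PSLn) = 1 := by
  obtain ⟨hτ, μ, hμ⟩ := key_alt_gen hg (RingHom.id F) hn h2 g' τ fun s hs => by
    simpa using semi_fix (by omega) (h _ ⟨s, hs, rfl⟩)
  exact (semi_eq_one_iff (by omega)).2 ⟨RingEquiv.ext hτ, μ, hμ⟩

omit hg in
theorem non_alt (hn : 3 ≤ n) (h2 : (2 : F) ≠ 0) {m : ℕ} (e : Fin n ≃ Fin m ⊕ Fin m)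
    (hJ : (g : Mn) = (Matrix.J (Fin m) F).submatrix e e) :
    2 ∣ Nat.card (P0 (thetaG g)) ∧
      ∀ M : Subgroup (P0 (thetaG g)), M.Normal → (Nat.card M).Coprime 2 → M = ⊥ := by
  classical
  have hc := Fintype.card_congr e
  simp at hc
  have hdet : ∀ A : Matrix.symplecticGroup (Fin m) F,
      ((A : Matrix (Fin m ⊕ Fin m) (Fin m ⊕ Fin m) F).submatrix e e).det = 1 := fun A => by
    rw [Matrix.det_submatrix_equiv_self]; exact SymplecticGroup.det_eq_one A.2
  have hmem : ∀ A : Matrix.symplecticGroup (Fin m) F, (⟨_, hdet A⟩ : SLn) ∈ FixS (thetaG g) := fun A => by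
    refine mem_fix_graph.2 ?_
    show (A : Matrix (Fin m ⊕ Fin m) (Fin m ⊕ Fin m) F).submatrix e e * (g : Mn) *
      ((A : Matrix (Fin m ⊕ Fin m) (Fin m ⊕ Fin m) F).submatrix e e)ᵀ = _
    rw [hJ, Matrix.transpose_submatrix, Matrix.submatrix_mul_equiv, Matrix.submatrix_mul_equiv]
    exact congrArg (fun B : Matrix (Fin m ⊕ Fin m) (Fin m ⊕ Fin m) F => B.submatrix e e)
      (SymplecticGroup.mem_iff.1 A.2)
  let ι' : Matrix.symplecticGroup (Fin m) F →* SLn := MonoidHom.mk' (fun A => ⟨_, hdet A⟩) fun A B =>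
    Subtype.ext (Matrix.submatrix_mul_equiv _ _ e e e).symm
  let Φ : Matrix.symplecticGroup (Fin m) F →* P0 (thetaG g) :=
    ((π).comp ι').codRestrict _ fun A => ⟨_, hmem A, rfl⟩
  have hsurj : Function.Surjective Φ := by
    rintro ⟨_, s, hs, rfl⟩
    have hA : (s : Mn).submatrix e.symm e.symm ∈ Matrix.symplecticGroup (Fin m) F := by
      rw [SymplecticGroup.mem_iff]
      have h1 := mem_fix_graph.1 hs
      rw [hJ] at h1
      have h3 := congrArg (fun B : Mn => B.submatrix e.symm e.symm) h1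
      simp only [Matrix.submatrix_submatrix, Equiv.self_comp_symm, Matrix.submatrix_id_id] at h3
      rw [Matrix.transpose_submatrix]
      rw [← Matrix.submatrix_mul_equiv _ _ e.symm e.symm e.symm,
        ← Matrix.submatrix_mul_equiv _ _ e.symm e.symm e.symm] at h3
      simpa [Matrix.submatrix_submatrix] using h3
    refine ⟨⟨_, hA⟩, Subtype.ext (congrArg (π) (Subtype.ext ?_))⟩
    show ((s : Mn).submatrix e.symm e.symm).submatrix e e = (s : Mn)
    simp [Matrix.submatrix_submatrix]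
  have hker : Subgroup.center (Matrix.symplecticGroup (Fin m) F) ≤ Φ.ker := fun A hA => by
    obtain ⟨l, -, hl⟩ := eq_scalar_of_commute_sympTv A fun v => (Subgroup.mem_center_iff.1 hA _).symm
    refine Subtype.ext (pi_eq_one_iff.2 ⟨l, ?_⟩)
    show (A : Matrix (Fin m ⊕ Fin m) (Fin m ⊕ Fin m) F).submatrix e e = _
    rw [hl (by omega)]
    ext a b
    simp [Matrix.one_apply, e.injective.eq_iff]
  have h3 : 3 ≤ Fintype.card F := by
    by_contra hlt
    have h1 := Fintype.one_lt_card (α := F)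
    have h4 : ((Fintype.card F : ℕ) : F) = 0 := FiniteField.cast_card_eq_zero F
    rw [show Fintype.card F = 2 by omega] at h4
    exact h2 (by exact_mod_cast h4)
  have hperf := symp_perfect_of_card (m := m) (F := F) (by omega)
  haveI := PSp_isSimpleGroup (m := m) (F := F) (by omega) hperf
  have hdiv : 2 ∣ Nat.card (P0 (thetaG g)) := by
    set i : Fin m := ⟨0, by omega⟩
    set i' : Fin m := ⟨1, by omega⟩
    let D : Fin m → F := fun k => if k = i then -1 else 1
    have hD : Matrix.fromBlocks (diagonal D) 0 0 (diagonal D) ∈ Matrix.symplecticGroup (Fin m) F := by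
      have hDD : diagonal D * diagonal D = (1 : Matrix (Fin m) (Fin m) F) := by
        rw [Matrix.diagonal_mul_diagonal, ← Matrix.diagonal_one]
        congr 1; funext k
        simp only [D]; split_ifs <;> simp
      rw [SymplecticGroup.mem_iff, Matrix.J, Matrix.fromBlocks_transpose, Matrix.fromBlocks_multiply,
        Matrix.fromBlocks_multiply]
      have hD2 : ∀ k, D k * D k = 1 := fun k => by simp only [D]; split_ifs <;> simp
      simp [hD2]
      ext a b
      by_cases hab : a = b <;> simp [hab]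
    refine two_dvd_of_elem (hmem ⟨_, hD⟩) (fun c hc' => ?_) ⟨1, ?_⟩
    · have h1 := congrFun (congrFun hc' (e.symm (Sum.inl i))) (e.symm (Sum.inl i))
      have h4 := congrFun (congrFun hc' (e.symm (Sum.inl i'))) (e.symm (Sum.inl i'))
      simp [D, show i' ≠ i by simp [i, i']] at h1 h4
      exact h2 (by linear_combination h4 - h1)
    · rw [one_smul]
      show (Matrix.fromBlocks (diagonal D) 0 0 (diagonal D)).submatrix e e *
        (Matrix.fromBlocks (diagonal D) 0 0 (diagonal D)).submatrix e e = 1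
      rw [Matrix.submatrix_mul_equiv, Matrix.fromBlocks_multiply]
      have hDD : diagonal D * diagonal D = (1 : Matrix (Fin m) (Fin m) F) := by
        rw [Matrix.diagonal_mul_diagonal, ← Matrix.diagonal_one]
        congr 1; funext k
        simp only [D]; split_ifs <;> simp
      simp [hDD, Matrix.fromBlocks_one]
  exact ⟨hdiv, fun M hM hc => coprime_normal_bot Φ hsurj _ hker Nat.prime_two hdiv M hM hc⟩

end Alt

include p in
theorem graph_std (hn : 3 ≤ n) (h2 : (2 : F) ≠ 0) {g : GI} (hsym : (g : Mn)ᵀ = (g : Mn) ∨ (g : Mn)ᵀ = -(g : Mn)) :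
    ∃ (y g₁ : GI), grAut g = inndiagHom n F y * grAut g₁ * (inndiagHom n F y)⁻¹ ∧
      2 ∣ Nat.card (P0 (thetaG g₁)) ∧
      (∀ β, (∀ u ∈ P0 (thetaG g₁), β u = u) → β ∈ Subgroup.zpowers (grAut g₁)) ∧
      ∀ M : Subgroup (P0 (thetaG g₁)), M.Normal → (Nat.card M).Coprime 2 → M = ⊥ := by
  classical
  have hrep : ∀ g₁ : GI, Rep (grAut g₁) g₁ (1 : RingAut F) 1 := fun g₁ =>
    ⟨le_rfl, fun h => by omega, by rw [pow_one]; rfl⟩
  have hconj : ∀ g₁ : GI, Similar (g₁ : Mn) (g : Mn) →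
      ∃ y, grAut g = inndiagHom n F y * grAut g₁ * (inndiagHom n F y)⁻¹ := fun g₁ hs => by
    obtain ⟨k, hk, he⟩ := (conjUnder_iff (by omega) g₁ g).2 hs
    obtain ⟨y, rfl⟩ := mem_inndiag_iff.1 hk
    exact ⟨y, he⟩
  by_cases hS : (g : Mn)ᵀ = (g : Mn)
  · set k₀ : Fin n := ⟨0, by omega⟩
    let d : Fin n → F := fun i => if i = k₀ then (g : Mn).det else 1
    have hd0 : ∀ i, d i ≠ 0 := fun i => by simp only [d]; split_ifs; exacts [g.det_ne_zero, one_ne_zero]
    have hdet : (diagonal d).det = (g : Mn).det := by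
      rw [Matrix.det_diagonal, Finset.prod_eq_single k₀]
      · simp [d]
      · intro b _ hb; simp [d, hb]
      · simp
    obtain ⟨g₁, hg₁⟩ : ∃ g₁ : GI, (g₁ : Mn) = diagonal d :=
      (Matrix.isUnit_iff_isUnit_det _).2 (IsUnit.mk0 _ (hdet.trans_ne g.det_ne_zero))
    have hs : Similar (g₁ : Mn) (g : Mn) := similar_of_det h2 (by rw [hg₁, Matrix.diagonal_transpose]) hS
      (by rw [hg₁, hdet]; exact g.det_ne_zero) g.det_ne_zero rfl ⟨(g : Mn).det, by rw [hg₁, hdet]⟩
    obtain ⟨y, hy⟩ := hconj g₁ hs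
    exact ⟨y, g₁, hy, dvd_sym hg₁ hn h2, fun β hβ => cent_reduce (p := p) hn (hrep g₁)
      (fix_of_act (act_graph g₁)) (key_sym hg₁ (k₀ := k₀) (fun i hi => by simp [d, hi]) hn h2 hd0) β hβ,
      non_sym hg₁ hn h2 hd0⟩
  · have hA : (g : Mn)ᵀ = -(g : Mn) := hsym.resolve_left hS
    obtain ⟨m, hm⟩ : ∃ m, n = 2 * m := by
      rcases Nat.even_or_odd n with ⟨m, hm⟩ | hodd
      · exact ⟨m, by omega⟩
      · exfalso
        have h1 := congrArg Matrix.det hA
        rw [Matrix.det_transpose, Matrix.det_neg, Fintype.card_fin, hodd.neg_one_pow] at h1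
        exact g.det_ne_zero ((mul_eq_zero.1 (show (2 : F) * (g : Mn).det = 0 by linear_combination h1)).resolve_left h2)
    let e : Fin n ≃ Fin m ⊕ Fin m := (Fintype.equivFinOfCardEq (by simp; omega)).symm
    obtain ⟨g₁, hg₁⟩ : ∃ g₁ : GI, (g₁ : Mn) = (Matrix.J (Fin m) F).submatrix e e :=
      (Matrix.isUnit_iff_isUnit_det _).2 (by
        rw [Matrix.det_submatrix_equiv_self]; exact Matrix.isUnit_det_J (Fin m) F)
    have hs : Similar (g₁ : Mn) (g : Mn) := by
      rw [hg₁]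
      exact (similar_reindex (Matrix.J (Fin m) F) e).symm.trans
        (similar_J (g : Mn) (by rw [Fintype.card_fin, hm]) g.det_ne_zero (bf_self_zero_of_skew h2 hA)).symm
    obtain ⟨y, hy⟩ := hconj g₁ hs
    have hgT : (g₁ : Mn)ᵀ = -(g₁ : Mn) := by
      rw [hg₁, Matrix.transpose_submatrix, Matrix.J_transpose]; rfl
    obtain ⟨hdiv, hnon⟩ := non_alt (g := g₁) hn h2 e hg₁
    exact ⟨y, g₁, hy, hdiv, fun β hβ => cent_reduce (p := p) hn (hrep g₁)
      (fix_of_act (act_graph g₁)) (key_alt hgT hn h2) β hβ, hnon⟩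

include p in
theorem balance_graph (hn : 3 ≤ n) {A : Subgroup (MulAut PSLn)} (hinn : ∀ k : PSLn, MulAut.conj k ∈ A)
    (h2 : (2 : F) ≠ 0) {g : GI} (hord : orderOf (grAut g) = 2) (hnot : ¬ IsInnerDiagonalAutPSL (grAut g)) :
    pPrimeCore 2 ↥(A ⊓ Subgroup.centralizer {grAut g}) = ⊥ := by
  haveI : Fact (Nat.Prime 2) := ⟨Nat.prime_two⟩
  obtain ⟨y, g₁, hy, hdvd, hcent, hnon⟩ := graph_std (p := p) hn h2 ((orderOf_grAut hn g).1 hord)
  have hiff := balance_act (r := 2) (by omega) hinn (act_graph g₁) hy hord hnot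
    (fun h => by rw [h, Subgroup.card_bot] at hdvd; exact absurd hdvd (by decide))
    (fun β hβ _ => hcent β hβ) (fun _ _ _ => hdvd) (fun _ M hM hc => hnon M hM hc)
  by_contra hne
  have hcop := hiff.1 hne
  set a : MulAut PSLn := inndiagHom n F y
  have hsub : (P0 (thetaG g₁)).map a.toMonoidHom ≤
      MonoidHom.eqLocus (grAut g).toMonoidHom (MonoidHom.id PSLn) := by
    rintro _ ⟨u, hu, rfl⟩
    show grAut g (a u) = a u
    rw [hy]
    show a (grAut g₁ ((a⁻¹ : MulAut PSLn) (a u))) = _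
    rw [show (a⁻¹ : MulAut PSLn) (a u) = u from a.symm_apply_apply u, fix_of_act (act_graph g₁) u hu]
  have h1 := Subgroup.card_dvd_of_le hsub
  rw [Subgroup.card_map_of_injective (f := a.toMonoidHom) a.injective] at h1
  exact absurd (Nat.dvd_gcd dvd_rfl (hdvd.trans h1)) (by rw [hcop]; decide)

end Cfsg.Agent.Classical.PSLBal
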