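import Cfsg.Agent.Lib.Classical.PSLSemilinear
import Cfsg.Agent.Lib.Fus.PSLSimple

/-!
Transvection root groups of `PSL_n(F)` and their incidence: two of them commute with all products
in root groups iff they share their centre or their axis; every automorphism permutes them.
-/

set_option autoImplicit false
set_option linter.unusedSectionVars false

namespace Cfsg.Agent.Classical.PSLAut

open Matrix
open scoped Pointwise

variable {F : Type*} [Field F] {n : ℕ}

local notation "SLn" => Matrix.SpecialLinearGroup (Fin n) F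
local notation "PSLn" => Matrix.ProjectiveSpecialLinearGroup (Fin n) F
local notation "Mn" => Matrix (Fin n) (Fin n) F

/-- Two vectors are proportional. -/
def Par (v w : Fin n → F) : Prop := ∀ i k, v i * w k = v k * w i

theorem Par.refl (v : Fin n → F) : Par v v := fun _ _ => mul_comm _ _

theorem Par.symm {v w : Fin n → F} (h : Par v w) : Par w v := fun i k => by
  rw [mul_comm (w i), mul_comm (w k)]; exact (h k i)

theorem Par.exists_smul {v w : Fin n → F} (h : Par v w) (hv : v ≠ 0) : ∃ a : F, w = a • v := by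
  obtain ⟨i, hi⟩ := Function.ne_iff.1 hv
  simp only [Pi.zero_apply] at hi
  refine ⟨w i / v i, funext fun k => ?_⟩
  have := h i k
  rw [Pi.smul_apply, smul_eq_mul, div_mul_eq_mul_div, eq_div_iff hi]
  linear_combination this

theorem par_smul (a : F) (v : Fin n → F) : Par v (a • v) := fun i k => by
  simp only [Pi.smul_apply, smul_eq_mul]; ring

theorem Par.trans {u v w : Fin n → F} (hv : v ≠ 0) (h : Par u v) (h' : Par v w) : Par u w := by
  obtain ⟨a, rfl⟩ := h'.exists_smul hv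
  intro i k
  have := h i k
  simp only [Pi.smul_apply, smul_eq_mul]
  linear_combination a * this

/-- The matrix of a transvection. -/
def tvm (v φ : Fin n → F) (c : F) : Mn := 1 + c • Matrix.vecMulVec v φ

theorem det_tvm {v φ : Fin n → F} (h : φ ⬝ᵥ v = 0) (c : F) : (tvm v φ c).det = 1 := by
  rw [tvm, ← Matrix.smul_vecMulVec, Matrix.vecMulVec_eq Unit,
    Matrix.det_one_add_replicateCol_mul_replicateRow, dotProduct_smul, h, smul_zero, add_zero]

/-- The transvection in `SL_n`. -/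
def tv (v φ : Fin n → F) (h : φ ⬝ᵥ v = 0) (c : F) : SLn := ⟨tvm v φ c, det_tvm h c⟩

theorem tv_coe (v φ : Fin n → F) (h : φ ⬝ᵥ v = 0) (c : F) :
    ((tv v φ h c : SLn) : Mn) = 1 + c • Matrix.vecMulVec v φ := rfl

/-- The root group in `PSL_n` with centre `v` and axis `φ`. -/
def rootSet (v φ : Fin n → F) : Set PSLn :=
  {x | ∃ (c : F) (s : SLn), (s : Mn) = tvm v φ c ∧ slToPSL n F s = x}

theorem tv_mem (v φ : Fin n → F) (h : φ ⬝ᵥ v = 0) (c : F) :
    slToPSL n F (tv v φ h c) ∈ rootSet v φ := ⟨c, _, rfl, rfl⟩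

theorem vmv_mul {v φ w ψ : Fin n → F} :
    Matrix.vecMulVec v φ * Matrix.vecMulVec w ψ = (φ ⬝ᵥ w) • Matrix.vecMulVec v ψ := by
  rw [Matrix.vecMulVec_mul_vecMulVec, Matrix.vecMulVec_smul]

theorem vmv_sq {v φ : Fin n → F} (h : φ ⬝ᵥ v = 0) (c : F) :
    (c • Matrix.vecMulVec v φ) * (c • Matrix.vecMulVec v φ) = 0 := by
  rw [Matrix.smul_mul, Matrix.mul_smul, vmv_mul, h, zero_smul, smul_zero, smul_zero]

/-- Elements `1 + A`, `A² = 0`, are determined by their class modulo scalars. -/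
theorem eq_of_slToPSL_eq [NeZero n] {s t : SLn} {A B : Mn} (hs : (s : Mn) = 1 + A) (ht : (t : Mn) = 1 + B)
    (hA : A * A = 0) (hB : B * B = 0) (h : slToPSL n F s = slToPSL n F t) : A = B := by
  have h1 : slToPSL n F (s⁻¹ * t) = 1 := by rw [map_mul, map_inv, h, inv_mul_cancel]
  obtain ⟨l, hl⟩ := (slToPSL_eq_one_iff _).1 h1
  have ht' : 1 + B = l • (1 + A) := by
    rw [← ht, ← hs, show (t : Mn) = (s : Mn) * ((s⁻¹ * t : SLn) : Mn) from by
      rw [← Matrix.SpecialLinearGroup.coe_mul, mul_inv_cancel_left], hl, Matrix.scalar_apply,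
      Matrix.smul_eq_mul_diagonal]
  have hB' : B = (l - 1) • (1 : Mn) + l • A := by
    rw [eq_sub_of_add_eq' ht', smul_add, sub_smul, one_smul]; abel
  by_cases hl1 : l = 1
  · subst hl1
    rw [hB', sub_self, zero_smul, zero_add, one_smul]
  exfalso
  have h2 : ((l - 1) * (l - 1)) • (1 : Mn) + (2 * l * (l - 1)) • A = 0 := by
    rw [← hB, hB']
    simp only [add_mul, mul_add, Matrix.smul_mul, Matrix.mul_smul, one_mul, mul_one, hA, smul_smul,
      smul_zero, add_zero, add_assoc, ← add_smul]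
    congr 2; ring
  have h3 : ((l - 1) * (l - 1)) • A = 0 := by
    have := congrArg (fun X => X * A) h2
    simpa [add_mul, Matrix.smul_mul, hA] using this
  have hne : (l - 1) * (l - 1) ≠ 0 := mul_ne_zero (sub_ne_zero.2 hl1) (sub_ne_zero.2 hl1)
  rw [smul_eq_zero_iff_right hne] at h3
  subst h3
  rw [smul_zero, add_zero, smul_eq_zero_iff_right hne] at h2
  have := congrFun (congrFun h2 (0 : Fin n)) 0
  simp at this

theorem rootSet_eq_of_par {v φ w ψ : Fin n → F} (hv : v ≠ 0) (hφ : φ ≠ 0) (hw : w ≠ 0) (hψ : ψ ≠ 0)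
    (h1 : Par v w) (h2 : Par φ ψ) : rootSet v φ = rootSet (n := n) w ψ := by
  obtain ⟨a, rfl⟩ := h1.exists_smul hv
  obtain ⟨b, rfl⟩ := h2.exists_smul hφ
  have ha : a ≠ 0 := fun h => hw (by rw [h, zero_smul])
  have hb : b ≠ 0 := fun h => hψ (by rw [h, zero_smul])
  have key : ∀ c, tvm (a • v) (b • φ) c = tvm v φ (c * (a * b)) := fun c => by
    rw [tvm, tvm, Matrix.smul_vecMulVec, Matrix.vecMulVec_smul, smul_smul, smul_smul]
    ring_nf
  ext x
  constructor
  · rintro ⟨c, s, hs, rfl⟩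
    exact ⟨c / (a * b), s, by rw [key, div_mul_cancel₀ c (mul_ne_zero ha hb)]; exact hs, rfl⟩
  · rintro ⟨c, s, hs, rfl⟩
    exact ⟨c * (a * b), s, by rw [← key]; exact hs, rfl⟩

/-- The root groups with given centre and axis. -/
def IsRootPair (v φ : Fin n → F) : Prop := v ≠ 0 ∧ φ ≠ 0 ∧ φ ⬝ᵥ v = 0

theorem IsRootPair.tv_ne_one [NeZero n] {v φ : Fin n → F} (h : IsRootPair v φ) {c : F} (hc : c ≠ 0) :
    slToPSL n F (tv v φ h.2.2 c) ≠ 1 := by
  intro he
  have := eq_of_slToPSL_eq (A := c • Matrix.vecMulVec v φ) (B := 0) (tv_coe v φ h.2.2 c)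
    (show ((1 : SLn) : Mn) = 1 + 0 by simp) (vmv_sq h.2.2 c) (mul_zero _) (by rw [he, map_one])
  rw [smul_eq_zero_iff_right hc, Matrix.vecMulVec_eq_zero] at this
  exact this.elim h.1 h.2.1

/-- The union of all root groups. -/
def transSet (n : ℕ) (F : Type*) [Field F] : Set (Matrix.ProjectiveSpecialLinearGroup (Fin n) F) :=
  {x | ∃ v φ : Fin n → F, IsRootPair v φ ∧ x ∈ rootSet v φ}

/-- Two sets commute elementwise and multiply into the transvections. -/
def Linked (X Y : Set PSLn) : Prop :=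
  ∀ x ∈ X, ∀ y ∈ Y, Commute x y ∧ x * y ∈ transSet n F

theorem comm_of_dot {v φ w ψ : Fin n → F} (hwφ : φ ⬝ᵥ w = 0) (hvψ : ψ ⬝ᵥ v = 0) :
    ∀ x ∈ rootSet v φ, ∀ y ∈ rootSet w ψ, Commute x y := by
  rintro x ⟨c, s, hs, rfl⟩ y ⟨d, t, ht, rfl⟩
  refine Commute.map (show s * t = t * s from Subtype.ext ?_) (slToPSL n F)
  rw [Matrix.SpecialLinearGroup.coe_mul, Matrix.SpecialLinearGroup.coe_mul, hs, ht, tvm, tvm]
  simp only [add_mul, mul_add, one_mul, mul_one, Matrix.smul_mul, Matrix.mul_smul, vmv_mul, hwφ,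
    hvψ, zero_smul, smul_zero]
  abel

theorem dot_of_comm [NeZero n] {v φ w ψ : Fin n → F} (h : IsRootPair v φ) (h' : IsRootPair w ψ)
    (hc : ∀ x ∈ rootSet v φ, ∀ y ∈ rootSet w ψ, Commute x y) :
    φ ⬝ᵥ w = 0 ∧ ψ ⬝ᵥ v = 0 := by
  have hcm := hc _ (tv_mem v φ h.2.2 1) _ (tv_mem w ψ h'.2.2 1)
  -- the commutator of the two lifts is scalar, hence trivial
  set s := tv v φ h.2.2 1
  set t := tv w ψ h'.2.2 1
  have e : slToPSL n F (s * t * s⁻¹) = slToPSL n F t := by
    rw [map_mul, map_mul, map_inv, hcm.eq, mul_inv_cancel_right]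
  have hst : ((s * t * s⁻¹ : SLn) : Mn) =
      1 + (s : Mn) * Matrix.vecMulVec w ψ * ((s⁻¹ : SLn) : Mn) := by
    rw [Matrix.SpecialLinearGroup.coe_mul, Matrix.SpecialLinearGroup.coe_mul,
      show (t : Mn) = 1 + (1 : F) • Matrix.vecMulVec w ψ from rfl, one_smul, mul_add, add_mul,
      mul_one, ← Matrix.SpecialLinearGroup.coe_mul, mul_inv_cancel]
    rfl
  have hsi : ((s⁻¹ : SLn) : Mn) * (s : Mn) = 1 := by
    rw [← Matrix.SpecialLinearGroup.coe_mul, inv_mul_cancel]; rfl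
  have hsq : ((s : Mn) * Matrix.vecMulVec w ψ * ((s⁻¹ : SLn) : Mn)) *
      ((s : Mn) * Matrix.vecMulVec w ψ * ((s⁻¹ : SLn) : Mn)) = 0 := by
    simp only [Matrix.mul_assoc]
    rw [← Matrix.mul_assoc ((s⁻¹ : SLn) : Mn), hsi, Matrix.one_mul,
      ← Matrix.mul_assoc (Matrix.vecMulVec w ψ), vmv_mul, h'.2.2]
    simp
  have hA := eq_of_slToPSL_eq hst (show (t : Mn) = 1 + Matrix.vecMulVec w ψ by simp [t, tv_coe]) hsq
    (by rw [vmv_mul, h'.2.2, zero_smul]) e
  have hB : (s : Mn) * Matrix.vecMulVec w ψ = Matrix.vecMulVec w ψ * (s : Mn) := by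
    conv_rhs => rw [← hA, Matrix.mul_assoc, hsi, Matrix.mul_one]
  rw [show (s : Mn) = 1 + (1 : F) • Matrix.vecMulVec v φ from rfl, one_smul, add_mul, mul_add,
    one_mul, mul_one, add_left_cancel_iff, vmv_mul, vmv_mul] at hB
  by_cases h0 : φ ⬝ᵥ w = 0
  · refine ⟨h0, ?_⟩
    rw [h0, zero_smul, eq_comm, smul_eq_zero, Matrix.vecMulVec_eq_zero] at hB
    rcases hB with hB | hB | hB
    · exact hB
    · exact absurd hB h'.1
    · exact absurd hB h.2.1
  exfalso
  -- otherwise the centres coincide, and then `φ` kills `w`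
  have hpar : Par v w := by
    obtain ⟨j, hj⟩ := Function.ne_iff.1 h'.2.1
    intro i k
    have h1 := congrFun (congrFun hB i) j
    have h2 := congrFun (congrFun hB k) j
    simp [Matrix.vecMulVec_apply] at h1 h2 hj
    refine mul_left_cancel₀ (mul_ne_zero h0 hj) ?_
    linear_combination w k * h1 - w i * h2
  obtain ⟨a, rfl⟩ := hpar.exists_smul h.1
  exact h0 (by rw [dotProduct_smul, h.2.2, smul_zero])

theorem linked_of_share {v φ w ψ : Fin n → F} (h : IsRootPair v φ) (h' : IsRootPair w ψ)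
    (hs : Par v w ∨ Par φ ψ) : Linked (rootSet v φ) (rootSet w ψ) := by
  have hd : φ ⬝ᵥ w = 0 ∧ ψ ⬝ᵥ v = 0 := by
    rcases hs with hs | hs
    · obtain ⟨a, rfl⟩ := hs.exists_smul h.1
      obtain ⟨b, hb⟩ := hs.symm.exists_smul h'.1
      exact ⟨by rw [dotProduct_smul, h.2.2, smul_zero],
        by rw [hb, dotProduct_smul, h'.2.2, smul_zero]⟩
    · obtain ⟨a, rfl⟩ := hs.exists_smul h.2.1
      obtain ⟨b, hb⟩ := hs.symm.exists_smul h'.2.1
      exact ⟨by rw [hb, smul_dotProduct, h'.2.2, smul_zero],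
        by rw [smul_dotProduct, h.2.2, smul_zero]⟩
  intro x hx y hy
  refine ⟨comm_of_dot hd.1 hd.2 x hx y hy, ?_⟩
  obtain ⟨c, s, hs1, rfl⟩ := hx
  obtain ⟨d, t, ht1, rfl⟩ := hy
  rw [← map_mul]
  have key : ((s * t : SLn) : Mn) =
      1 + (c • Matrix.vecMulVec v φ + d • Matrix.vecMulVec w ψ) := by
    rw [Matrix.SpecialLinearGroup.coe_mul, hs1, ht1, tvm, tvm]
    simp only [add_mul, mul_add, one_mul, mul_one, Matrix.smul_mul, Matrix.mul_smul, vmv_mul, hd.1,
      zero_smul, smul_zero]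
    abel
  rcases hs with hs | hs
  · obtain ⟨a, rfl⟩ := hs.exists_smul h.1
    have key' : ((s * t : SLn) : Mn) = tvm v (c • φ + (d * a) • ψ) 1 := by
      rw [key, tvm, one_smul, Matrix.vecMulVec_add, Matrix.smul_vecMulVec, Matrix.vecMulVec_smul,
        Matrix.vecMulVec_smul, smul_smul]
    by_cases h0 : c • φ + (d * a) • ψ = 0
    · exact ⟨v, φ, h, 0, 1, by simp [tvm],
        by rw [show s * t = (1 : SLn) from Subtype.ext (by rw [key', h0]; simp [tvm])]⟩
    · exact ⟨v, _, ⟨h.1, h0, by rw [add_dotProduct, smul_dotProduct, smul_dotProduct, h.2.2, hd.2,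
        smul_zero, smul_zero, add_zero]⟩, 1, _, key', rfl⟩
  · obtain ⟨a, rfl⟩ := hs.exists_smul h.2.1
    have key' : ((s * t : SLn) : Mn) = tvm (c • v + (d * a) • w) φ 1 := by
      rw [key, tvm, one_smul, Matrix.add_vecMulVec, Matrix.smul_vecMulVec, Matrix.vecMulVec_smul,
        Matrix.smul_vecMulVec, smul_smul]
    by_cases h0 : c • v + (d * a) • w = 0
    · exact ⟨v, φ, h, 0, 1, by simp [tvm],
        by rw [show s * t = (1 : SLn) from Subtype.ext (by rw [key', h0]; simp [tvm])]⟩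
    · exact ⟨_, φ, ⟨h0, h.2.1, by rw [dotProduct_add, dotProduct_smul, dotProduct_smul, h.2.2, hd.1,
        smul_zero, smul_zero, add_zero]⟩, 1, _, key', rfl⟩

theorem share_of_linked [NeZero n] {v φ w ψ : Fin n → F} (h : IsRootPair v φ) (h' : IsRootPair w ψ)
    (hl : Linked (rootSet v φ) (rootSet w ψ)) : Par v w ∨ Par φ ψ := by
  obtain ⟨h1, h2⟩ := dot_of_comm h h' fun x hx y hy => (hl x hx y hy).1
  obtain ⟨u, χ, hu, e, r, hr, hrx⟩ := (hl _ (tv_mem v φ h.2.2 1) _ (tv_mem w ψ h'.2.2 1)).2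
  rw [← map_mul] at hrx
  set A := Matrix.vecMulVec v φ + Matrix.vecMulVec w ψ with hA
  have hAB : ((tv v φ h.2.2 1 * tv w ψ h'.2.2 1 : SLn) : Mn) = 1 + A := by
    rw [Matrix.SpecialLinearGroup.coe_mul, tv_coe, tv_coe, one_smul, one_smul, hA]
    simp only [add_mul, mul_add, one_mul, mul_one, vmv_mul, h1, zero_smul]
    abel
  have hsq : A * A = 0 := by
    rw [hA]
    simp only [add_mul, mul_add, vmv_mul, h1, h2, h.2.2, h'.2.2, zero_smul, add_zero]
  have hC : e • Matrix.vecMulVec u χ = A := eq_of_slToPSL_eq hr hAB (vmv_sq hu.2.2 e) hsq hrx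
  by_contra hne
  push Not at hne
  obtain ⟨hv, hφ⟩ := hne
  simp only [Par, not_forall] at hv hφ
  obtain ⟨i, k, hik⟩ := hv
  obtain ⟨j, l, hjl⟩ := hφ
  have e1 : ∀ a b, e * (u a * χ b) = v a * φ b + w a * ψ b := fun a b => by
    have := congrFun (congrFun hC a) b
    simpa [A, Matrix.vecMulVec_apply] using this
  refine mul_ne_zero (sub_ne_zero.2 hik) (sub_ne_zero.2 hjl) ?_
  calc (v i * w k - v k * w i) * (φ j * ψ l - φ l * ψ j)
      = (v i * φ j + w i * ψ j) * (v k * φ l + w k * ψ l) -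
        (v i * φ l + w i * ψ l) * (v k * φ j + w k * ψ j) := by ring
    _ = 0 := by rw [← e1, ← e1, ← e1, ← e1]; ring

theorem image_rootSet {g : GL (Fin n) F} {σ : F ≃+* F} (v φ : Fin n → F) :
    pslSemi g σ '' rootSet v φ =
      rootSet ((g : Mn) *ᵥ (σ ∘ v)) ((σ ∘ φ) ᵥ* ((g⁻¹ : GL (Fin n) F) : Mn)) := by
  have key : ∀ c, (g : Mn) * (tvm v φ c).map σ * ((g⁻¹ : GL (Fin n) F) : Mn) =
      tvm ((g : Mn) *ᵥ (σ ∘ v)) ((σ ∘ φ) ᵥ* ((g⁻¹ : GL (Fin n) F) : Mn)) (σ c) := fun c => by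
    have : (tvm v φ c).map σ = tvm (σ ∘ v) (σ ∘ φ) (σ c) := by
      ext i j
      simp [tvm, Matrix.vecMulVec_apply, Matrix.one_apply, apply_ite σ]
    rw [this, tvm, tvm, mul_add, add_mul, mul_one, Units.mul_inv, Matrix.mul_smul, Matrix.smul_mul,
      Matrix.mul_vecMulVec, Matrix.vecMulVec_mul]
  ext x
  constructor
  · rintro ⟨_, ⟨c, s, hs, rfl⟩, rfl⟩
    exact ⟨σ c, slSemi g σ s, by rw [slSemi_coe, hs, key], rfl⟩
  · rintro ⟨c, s, hs, rfl⟩
    refine ⟨_, ⟨σ.symm c, (slSemi g σ).symm s, ?_, rfl⟩, ?_⟩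
    · have h1 : (g : Mn) * (((slSemi g σ).symm s : SLn) : Mn).map σ * ((g⁻¹ : GL (Fin n) F) : Mn) =
          (g : Mn) * (tvm v φ (σ.symm c)).map σ * ((g⁻¹ : GL (Fin n) F) : Mn) := by
        rw [← slSemi_coe, MulEquiv.apply_symm_apply, hs, key, RingEquiv.apply_symm_apply]
      rw [Units.mul_left_inj, Units.mul_right_inj] at h1
      exact Matrix.map_injective σ.injective h1
    · rw [pslSemi_mk, MulEquiv.apply_symm_apply]

theorem image_rootSet_invT (v φ : Fin n → F) (h : φ ⬝ᵥ v = 0) :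
    pslInvT '' rootSet v φ = rootSet (n := n) φ v := by
  have h' : v ⬝ᵥ φ = 0 := by rw [dotProduct_comm]; exact h
  have aux : ∀ (v φ : Fin n → F), φ ⬝ᵥ v = 0 → ∀ c (s : SLn), (s : Mn) = tvm v φ c →
      ((slInvT s : SLn) : Mn) = tvm φ v (-c) := by
    intro v φ h c s hs
    have hi : s⁻¹ = tv v φ h (-c) := inv_eq_of_mul_eq_one_right (Subtype.ext (by
      rw [Matrix.SpecialLinearGroup.coe_mul, hs, tv_coe, tvm]
      simp only [add_mul, mul_add, one_mul, mul_one, Matrix.smul_mul, Matrix.mul_smul, vmv_mul, h,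
        zero_smul, smul_zero, add_zero, neg_smul]
      simp [vmv_mul, h]))
    rw [slInvT_coe, hi, tv_coe, Matrix.transpose_add, Matrix.transpose_one, Matrix.transpose_smul,
      Matrix.transpose_vecMulVec]
    rfl
  ext x
  constructor
  · rintro ⟨_, ⟨c, s, hs, rfl⟩, rfl⟩
    exact ⟨-c, slInvT s, aux v φ h c s hs, rfl⟩
  · rintro ⟨c, s, hs, rfl⟩
    refine ⟨_, ⟨-c, slInvT s, aux φ v h' c s hs, rfl⟩, ?_⟩
    rw [pslInvT_mk]
    exact congrArg _ (slInvT.symm_apply_apply s)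

theorem dotProduct_semi {g : GL (Fin n) F} {σ : F ≃+* F} (v φ : Fin n → F) :
    ((σ ∘ φ) ᵥ* ((g⁻¹ : GL (Fin n) F) : Mn)) ⬝ᵥ ((g : Mn) *ᵥ (σ ∘ v)) = σ (φ ⬝ᵥ v) := by
  rw [← Matrix.dotProduct_mulVec, Matrix.mulVec_mulVec, Units.inv_mul, Matrix.one_mulVec]
  simp [dotProduct, map_sum]

theorem IsRootPair.semi {v φ : Fin n → F} (h : IsRootPair v φ) (g : GL (Fin n) F) (σ : F ≃+* F) :
    IsRootPair ((g : Mn) *ᵥ (σ ∘ v)) ((σ ∘ φ) ᵥ* ((g⁻¹ : GL (Fin n) F) : Mn)) := by
  have hz : ∀ w : Fin n → F, σ ∘ w = 0 → w = 0 := fun w hw => funext fun i => by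
    simpa using congrFun hw i
  refine ⟨fun h0 => h.1 (hz v ?_), fun h0 => h.2.1 (hz φ ?_), by rw [dotProduct_semi, h.2.2, map_zero]⟩
  · have := congrArg (((g⁻¹ : GL (Fin n) F) : Mn) *ᵥ ·) h0
    simpa [Matrix.mulVec_mulVec] using this
  · have := congrArg (· ᵥ* (g : Mn)) h0
    simpa [Matrix.vecMul_vecMul] using this

/-! ### All root groups are conjugate -/

theorem exists_GL_std {n : ℕ} (hn : 2 ≤ n) {v φ : Fin n → F} (h : IsRootPair v φ) :
    ∃ s : Matrix.SpecialLinearGroup (Fin n) F,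
      Par ((s : Matrix (Fin n) (Fin n) F) *ᵥ Pi.single ⟨0, by omega⟩ 1) v ∧
      φ ᵥ* (s : Matrix (Fin n) (Fin n) F) = Pi.single ⟨n - 1, by omega⟩ 1 := by
  set a : Fin n := ⟨0, by omega⟩
  set b : Fin n := ⟨n - 1, by omega⟩
  have hab : a ≠ b := fun e => by simp [a, b, Fin.ext_iff] at e; omega
  obtain ⟨i, hi⟩ := Function.ne_iff.1 h.1
  simp only [Pi.zero_apply] at hi
  obtain ⟨M, hM, hMv, -⟩ := exists_isUnit_det_col v a i hi
  set φ' := φ ᵥ* M with hφ'
  have h0 : φ' a = 0 := by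
    have : φ' ⬝ᵥ (Pi.single a 1) = 0 := by rw [hφ', ← Matrix.dotProduct_mulVec, hMv, h.2.2]
    simpa [dotProduct_single] using this
  have hφ0 : φ' ≠ 0 := fun he => h.2.1 (Matrix.vecMul_injective_of_isUnit
    ((Matrix.isUnit_iff_isUnit_det M).2 (Ne.isUnit hM)) (he.trans (Matrix.zero_vecMul M).symm))
  obtain ⟨j, hj⟩ := Function.ne_iff.1 hφ0
  simp only [Pi.zero_apply] at hj
  obtain ⟨N, hN, hNb, hNk⟩ := exists_isUnit_det_col φ' b j hj
  have hNa : (Pi.single a 1 : Fin n → F) ᵥ* N = Pi.single a 1 :=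
    hNk a hab (fun e => hj (e ▸ h0)) h0
  -- `Nᵀ` fixes `e_a` and sends the row `e_b` to `φ'`
  set K : Matrix (Fin n) (Fin n) F := M * (Nᵀ)⁻¹
  have hNT : IsUnit (Nᵀ).det := by rw [Matrix.det_transpose]; exact Ne.isUnit hN
  have hKa : K *ᵥ Pi.single a 1 = v := by
    have : (Nᵀ)⁻¹ *ᵥ Pi.single a 1 = Pi.single a 1 := by
      conv_lhs => rw [← hNa, ← Matrix.mulVec_transpose, Matrix.mulVec_mulVec,
        Matrix.nonsing_inv_mul _ hNT, Matrix.one_mulVec]
    rw [← Matrix.mulVec_mulVec, this, hMv]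
  have hKb : φ ᵥ* K = Pi.single b 1 := by
    rw [← Matrix.vecMul_vecMul, ← hφ', ← hNb, ← Matrix.vecMul_transpose, Matrix.vecMul_vecMul,
      Matrix.mul_nonsing_inv _ hNT, Matrix.vecMul_one]
  have hK : K.det ≠ 0 := by
    rw [Matrix.det_mul, Matrix.det_nonsing_inv]
    exact mul_ne_zero hM (by simp [Ne.isUnit hN, hN])
  obtain ⟨s, hs⟩ := exists_sl_of_det_ne_zero K hK a
  refine ⟨s, ?_, ?_⟩
  · rw [hs, ← Matrix.mulVec_mulVec]
    have : (Matrix.diagonal (Function.update (fun _ => (1 : F)) a K.det⁻¹)) *ᵥ Pi.single a 1 =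
        K.det⁻¹ • Pi.single a 1 := by
      ext k
      rcases eq_or_ne k a with rfl | hk <;> simp [Matrix.mulVec_diagonal, *]
    rw [this, Matrix.mulVec_smul, hKa]
    exact (par_smul _ v).symm
  · rw [hs, ← Matrix.vecMul_vecMul, hKb]
    ext k
    rcases eq_or_ne k b with rfl | hk <;> simp [Matrix.vecMul_diagonal, hab.symm, *]

/-- The root pair in the corner. -/
theorem isRootPair_corner (hn : 2 ≤ n) :
    IsRootPair (Pi.single ⟨0, by omega⟩ 1 : Fin n → F) (Pi.single ⟨n - 1, by omega⟩ 1) :=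
  ⟨by simp, by simp, by
    rw [single_one_dotProduct, Pi.single_eq_of_ne]
    simp [Fin.ext_iff]; omega⟩

theorem exists_conj_corner (hn : 2 ≤ n) {v φ : Fin n → F} (h : IsRootPair v φ) :
    ∃ s : SLn, rootSet v φ = pslSemi (Matrix.SpecialLinearGroup.toGL s) (RingEquiv.refl F) ''
      rootSet (Pi.single ⟨0, by omega⟩ 1) (Pi.single ⟨n - 1, by omega⟩ 1) := by
  obtain ⟨s, hs1, hs2⟩ := exists_GL_std hn h
  refine ⟨s, ?_⟩
  have hp := (isRootPair_corner (F := F) hn).semi (Matrix.SpecialLinearGroup.toGL s) (RingEquiv.refl F)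
  rw [image_rootSet]
  refine rootSet_eq_of_par h.1 h.2.1 hp.1 hp.2.1 hs1.symm ?_
  have : (Pi.single ⟨n - 1, by omega⟩ 1 : Fin n → F) ᵥ*
      (((Matrix.SpecialLinearGroup.toGL s)⁻¹ : GL (Fin n) F) : Mn) = φ := by
    rw [← hs2, Matrix.vecMul_vecMul, show (s : Mn) = ((Matrix.SpecialLinearGroup.toGL s :
      GL (Fin n) F) : Mn) from rfl, Units.mul_inv, Matrix.vecMul_one]
  show Par φ ((Pi.single ⟨n - 1, by omega⟩ 1 : Fin n → F) ᵥ*
      (((Matrix.SpecialLinearGroup.toGL s)⁻¹ : GL (Fin n) F) : Mn))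
  rw [this]
  exact Par.refl φ

/-! ### The centre of the unitriangular group and the action of automorphisms -/

section

open Cfsg.Agent.Fus.PSLN

variable [Fintype F] {p : ℕ} [Fact p.Prime] [CharP F p]

include p in
theorem corner_mem_iff (hn : 2 ≤ n) {x : PSLn} :
    x ∈ rootSet (Pi.single ⟨0, by omega⟩ 1) (Pi.single ⟨n - 1, by omega⟩ 1) ↔
      x ∈ (unip F n).map (slToPSL n F) ∧
        ∀ y ∈ (unip F n).map (slToPSL n F), Commute x y := by
  set a : Fin n := ⟨0, by omega⟩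
  set b : Fin n := ⟨n - 1, by omega⟩
  have hab : a < b := by simp only [a, b, Fin.lt_def]; omega
  have hmat : ∀ c : F, tvm (Pi.single a 1) (Pi.single b 1) c = 1 + Matrix.single a b c := by
    intro c
    rw [tvm, ← Matrix.single_eq_single_vecMulVec_single, Matrix.smul_single, smul_eq_mul, mul_one]
  have hker : ∀ A : SLn, slToPSL n F A = 1 ↔ A ∈ Subgroup.center SLn :=
    fun A => QuotientGroup.eq_one_iff A
  constructor
  · rintro ⟨c, s, hs, rfl⟩
    rw [hmat] at hs
    have hsU : s ∈ unip F n := by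
      have : s = Matrix.SpecialLinearGroup.transvection hab.ne c :=
        Subtype.ext (by rw [hs, Matrix.SpecialLinearGroup.transvection_coe])
      rw [this]
      exact transvection_mem_unip hab c
    refine ⟨Subgroup.mem_map_of_mem _ hsU, ?_⟩
    rintro _ ⟨u, hu, rfl⟩
    refine Commute.map (show s * u = u * s from Subtype.ext ?_) _
    rw [Matrix.SpecialLinearGroup.coe_mul, Matrix.SpecialLinearGroup.coe_mul, hs, add_mul, mul_add,
      one_mul, mul_one, add_left_cancel_iff]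
    ext i j
    have hu' : IsUni u := hu
    have hua : ∀ i, (u : Mn) i a = if i = a then 1 else 0 := fun i => by
      by_cases hi : i = a
      · rw [if_pos hi, hi]; exact hu'.2 a
      · rw [if_neg hi]
        exact hu'.1 i a (by simp only [a, Fin.lt_def]; have : (i : ℕ) ≠ 0 := fun e => hi (Fin.ext e); omega)
    have hub : ∀ j, (u : Mn) b j = if j = b then 1 else 0 := fun j => by
      by_cases hj : j = b
      · rw [if_pos hj, hj]; exact hu'.2 b
      · rw [if_neg hj]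
        refine hu'.1 b j ?_
        simp only [b, Fin.lt_def]
        have : (j : ℕ) ≠ n - 1 := fun e => hj (Fin.ext e)
        omega
    by_cases hi : i = a <;> by_cases hj : j = b
    · subst hi; subst hj; simp [hua, hub]
    · subst hi; simp [hua, hub, hj]
    · subst hj; simp [hua, hub, hi]
    · simp [hi, hj]
  · rintro ⟨⟨s, hs, rfl⟩, hcomm⟩
    have hsu : IsUni s := hs
    have hc : ∀ i j : Fin n, ∀ hij : i < j, (s : Mn) * Matrix.single i j 1 = Matrix.single i j 1 * (s : Mn) := by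
      intro i j hij
      have htU := transvection_mem_unip (K := F) hij (1 : F)
      have h1 := hcomm _ (Subgroup.mem_map_of_mem (slToPSL n F) htU)
      have h2 := conj_eq_of_map_eq (p := p) (π := slToPSL n F) hker htU htU (g := s)
        (by rw [h1.eq, mul_inv_cancel_right])
      have h3 := congrArg (fun z : SLn => (z : Mn)) (mul_inv_eq_iff_eq_mul.1 h2)
      simp only [Matrix.SpecialLinearGroup.coe_mul, Matrix.SpecialLinearGroup.transvection_coe,
        Matrix.transvection, mul_add, add_mul, mul_one, one_mul, add_left_cancel_iff] at h3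
      exact h3
    refine ⟨(s : Mn) a b, s, ?_, rfl⟩
    rw [hmat]
    ext k l
    rcases lt_trichotomy k l with hkl | rfl | hkl
    · by_cases hk : k = a
      · subst hk
        by_cases hl : l = b
        · subst hl; simp [Matrix.one_apply_ne hkl.ne]
        · -- entry `(a, l)` against `E_{l b}`
          have hlb : l < b := by
            have : (l : ℕ) ≠ n - 1 := fun e => hl (Fin.ext e)
            simp only [b, Fin.lt_def]; omega
          have := congrFun (congrFun (hc l b hlb) a) b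
          simp [hkl.ne] at this
          simp [this, hkl.ne, hl, Ne.symm hl]
      · -- entry `(k, l)` against `E_{a k}`
        have hak : a < k := by
          have : (k : ℕ) ≠ 0 := fun e => hk (Fin.ext e)
          simp only [a, Fin.lt_def]; omega
        have := congrFun (congrFun (hc a k hak) a) l
        simp [Matrix.mul_apply, Matrix.single_apply, hkl.ne] at this
        simp [← this, hkl.ne, hk, Ne.symm hk]
    · simp [show (s : Mn) k k = 1 from hsu.2 k, Matrix.one_apply_eq, Matrix.single_apply]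
      intro h1 h2
      exact absurd (h1.trans h2.symm) hab.ne
    · simp [show (s : Mn) k l = 0 from hsu.1 k l hkl, hkl.ne', Matrix.single_apply]
      intro h1 h2
      subst h1 h2
      exact absurd hkl (lt_asymm hab)

include p in
theorem exists_image_corner (hn : 2 ≤ n) (β : MulAut PSLn) :
    ∃ v φ : Fin n → F, IsRootPair v φ ∧
      β '' rootSet (Pi.single ⟨0, by omega⟩ 1) (Pi.single ⟨n - 1, by omega⟩ 1) = rootSet v φ := by
  classical
  set U : Subgroup PSLn := (unip F n).map (slToPSL n F)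
  have hUp : IsPGroup p U := (isPGroup_unip (K := F) (p := p) (n := n)).map _
  obtain ⟨P, hP⟩ := hUp.exists_le_sylow
  have hUP : U = (P : Subgroup PSLn) :=
    eq_map_unip (p := p) (fun A => QuotientGroup.eq_one_iff A) slToPSL_surjective P hP
  obtain ⟨Q, hQ⟩ := (hUp.map β.toMonoidHom).exists_le_sylow
  have hQU : U.map β.toMonoidHom = (Q : Subgroup PSLn) := by
    refine Subgroup.eq_of_le_of_card_ge hQ ?_
    rw [Subgroup.card_map_of_injective β.injective, hUP, Sylow.card_eq_multiplicity,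
      Sylow.card_eq_multiplicity]
  obtain ⟨x, hx⟩ := MulAction.exists_smul_eq PSLn P Q
  obtain ⟨s, rfl⟩ := slToPSL_surjective x
  have hmap : ∀ y, y ∈ U.map β.toMonoidHom ↔ (slToPSL n F s)⁻¹ * y * slToPSL n F s ∈ U := by
    intro y
    rw [hQU, ← hx, hUP]
    show y ∈ ((MulAut.conj (slToPSL n F s) • (P : Subgroup PSLn) : Subgroup PSLn)) ↔ _
    rw [Subgroup.mem_pointwise_smul_iff_inv_smul_mem]
    simp [MulAut.smul_def]
  refine ⟨_, _, (isRootPair_corner (F := F) hn).semi (Matrix.SpecialLinearGroup.toGL s)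
    (RingEquiv.refl F), ?_⟩
  rw [← image_rootSet, ← conj_eq_pslSemi]
  set g := slToPSL n F s
  ext y
  constructor
  · rintro ⟨x, hx1, rfl⟩
    obtain ⟨hxU, hxc⟩ := (corner_mem_iff (p := p) hn).1 hx1
    refine ⟨g⁻¹ * β x * g, (corner_mem_iff (p := p) hn).2
      ⟨(hmap _).1 (Subgroup.mem_map_of_mem _ hxU), ?_⟩, by simp [mul_assoc]⟩
    intro z hz
    have hz' : g * z * g⁻¹ ∈ U.map β.toMonoidHom := (hmap _).2 (by simpa [U, mul_assoc] using hz)
    obtain ⟨w, hw, hwz⟩ := hz'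
    have h3 : Commute (β x) (g * z * g⁻¹) := by
      rw [← hwz]; exact (hxc w hw).map β.toMonoidHom
    have h4 := h3.map (MulAut.conj g⁻¹).toMonoidHom
    simpa [mul_assoc] using h4
  · rintro ⟨z, hz1, rfl⟩
    obtain ⟨hzU, hzc⟩ := (corner_mem_iff (p := p) hn).1 hz1
    have hz' : g * z * g⁻¹ ∈ U.map β.toMonoidHom := (hmap _).2 (by simpa [U, mul_assoc] using hzU)
    obtain ⟨x, hx1, hxz⟩ := hz'
    refine ⟨x, (corner_mem_iff (p := p) hn).2 ⟨hx1, fun w hw => ?_⟩, by simpa using hxz⟩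
    have hw' : g⁻¹ * β w * g ∈ U := (hmap _).1 (Subgroup.mem_map_of_mem _ hw)
    have h4 := (hzc _ hw').map (MulAut.conj g).toMonoidHom
    have h5 : Commute (β x) (β w) := by
      simp only [MulEquiv.coe_toMonoidHom, MulAut.conj_apply] at h4
      rw [show β x = g * z * g⁻¹ from hxz]
      simpa [mul_assoc] using h4
    simpa using h5.map β.symm.toMonoidHom

include p in
/-- Every automorphism permutes the root groups. -/
theorem exists_image_root (hn : 2 ≤ n) (β : MulAut PSLn) {v φ : Fin n → F} (h : IsRootPair v φ) :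
    ∃ w ψ : Fin n → F, IsRootPair w ψ ∧ β '' rootSet v φ = rootSet w ψ := by
  obtain ⟨s, hs⟩ := exists_conj_corner hn h
  obtain ⟨u, χ, hu, hβ⟩ := exists_image_corner (p := p) hn β
  obtain ⟨t, ht⟩ := slToPSL_surjective (β (slToPSL n F s))
  refine ⟨_, _, hu.semi (Matrix.SpecialLinearGroup.toGL t) (RingEquiv.refl F), ?_⟩
  rw [hs, ← image_rootSet, ← hβ, ← conj_eq_pslSemi, ← conj_eq_pslSemi, ht, Set.image_image,
    Set.image_image]
  simp [MulAut.conj_apply]

include p in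
theorem map_transSet (hn : 2 ≤ n) (β : MulAut PSLn) {x : PSLn} (hx : x ∈ transSet n F) :
    β x ∈ transSet n F := by
  obtain ⟨v, φ, h, hxv⟩ := hx
  obtain ⟨w, ψ, h', he⟩ := exists_image_root (p := p) hn β h
  exact ⟨w, ψ, h', he ▸ Set.mem_image_of_mem β hxv⟩

include p in
theorem Linked.image (hn : 2 ≤ n) (β : MulAut PSLn) {X Y : Set PSLn} (h : Linked X Y) :
    Linked (β '' X) (β '' Y) := by
  rintro _ ⟨x, hx, rfl⟩ _ ⟨y, hy, rfl⟩
  exact ⟨(h x hx y hy).1.map β.toMonoidHom, by rw [← map_mul]; exact map_transSet (p := p) hn β (h x hx y hy).2⟩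

include p in
theorem share_iff (hn : 2 ≤ n) (β : MulAut PSLn) {v φ w ψ v' φ' w' ψ' : Fin n → F}
    (h : IsRootPair v φ) (h2 : IsRootPair w ψ) (h' : IsRootPair v' φ') (h2' : IsRootPair w' ψ')
    (e : β '' rootSet v φ = rootSet v' φ') (e2 : β '' rootSet w ψ = rootSet w' ψ') :
    (Par v w ∨ Par φ ψ) ↔ (Par v' w' ∨ Par φ' ψ') := by
  haveI : NeZero n := ⟨by omega⟩
  constructor
  · intro hs
    refine share_of_linked h' h2' ?_
    rw [← e, ← e2]
    exact (linked_of_share h h2 hs).image (p := p) hn β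
  · intro hs
    refine share_of_linked h h2 ?_
    have := (linked_of_share h' h2' hs).image (p := p) hn β⁻¹
    rwa [← e, ← e2, Set.image_image, Set.image_image, show (fun x => (β⁻¹ : MulAut PSLn) (β x)) = id
      from funext fun x => β.symm_apply_apply x, Set.image_id, Set.image_id] at this

theorem comm_iff {β : MulAut PSLn} [NeZero n] {v φ w ψ v' φ' w' ψ' : Fin n → F}
    (h : IsRootPair v φ) (h2 : IsRootPair w ψ) (h' : IsRootPair v' φ') (h2' : IsRootPair w' ψ')
    (e : β '' rootSet v φ = rootSet v' φ') (e2 : β '' rootSet w ψ = rootSet w' ψ') :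
    (φ ⬝ᵥ w = 0 ∧ ψ ⬝ᵥ v = 0) ↔ (φ' ⬝ᵥ w' = 0 ∧ ψ' ⬝ᵥ v' = 0) := by
  constructor
  · intro hd
    refine dot_of_comm h' h2' ?_
    rw [← e, ← e2]
    rintro _ ⟨x, hx, rfl⟩ _ ⟨y, hy, rfl⟩
    exact (comm_of_dot hd.1 hd.2 x hx y hy).map β.toMonoidHom
  · intro hd
    refine dot_of_comm h h2 fun x hx y hy => ?_
    have := comm_of_dot hd.1 hd.2 (β x) (e ▸ Set.mem_image_of_mem β hx) (β y)
      (e2 ▸ Set.mem_image_of_mem β hy)
    simpa using this.map β.symm.toMonoidHom

end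

end Cfsg.Agent.Classical.PSLAut
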