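import Cfsg.Agent.Lib.Classical.MatrixOrders
import Cfsg.Agent.Lib.Classical.SLGroup
import Cfsg.Agent.Lib.Classical.Transvection
import Cfsg.Prelude.Def_LieTypeDatum

/-!
Semilinear and inverse-transpose automorphisms of `PSL_n(F)`, and their action on the transvection
root groups.
-/

set_option autoImplicit false

namespace Cfsg.Agent.Classical.PSLAut

open Matrix

variable {F : Type*} [Field F] {n : ℕ}

local notation "SLn" => Matrix.SpecialLinearGroup (Fin n) F
local notation "PSLn" => Matrix.ProjectiveSpecialLinearGroup (Fin n) F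
local notation "Mn" => Matrix (Fin n) (Fin n) F

/-- Conjugation by `g` after a field automorphism, as an automorphism of `SL_n`. -/
def slSemi (g : GL (Fin n) F) (σ : F ≃+* F) : SLn ≃* SLn where
  toFun s := ⟨(g : Mn) * (s : Mn).map σ * ((g⁻¹ : GL (Fin n) F) : Mn), by
    rw [Matrix.det_mul_right_comm, ← Units.val_mul, mul_inv_cancel, Units.val_one, one_mul,
      show (s : Mn).map σ = σ.toRingHom.mapMatrix (s : Mn) from rfl, ← RingHom.map_det]
    simp⟩
  invFun s := ⟨(((g⁻¹ : GL (Fin n) F) : Mn) * (s : Mn) * (g : Mn)).map σ.symm, by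
    rw [show ∀ M : Mn, M.map σ.symm = σ.symm.toRingHom.mapMatrix M from fun M => rfl,
      ← RingHom.map_det, Matrix.det_mul_right_comm, ← Units.val_mul, inv_mul_cancel, Units.val_one,
      one_mul]
    simp⟩
  left_inv s := by
    refine Subtype.ext ?_
    show (((g⁻¹ : GL (Fin n) F) : Mn) * ((g : Mn) * (s : Mn).map σ * ((g⁻¹ : GL (Fin n) F) : Mn))
      * (g : Mn)).map σ.symm = _
    simp only [Matrix.mul_assoc, Units.inv_mul, Matrix.mul_one]
    rw [← Matrix.mul_assoc, Units.inv_mul, Matrix.one_mul, Matrix.map_map]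
    ext i j; simp
  right_inv s := by
    refine Subtype.ext ?_
    show (g : Mn) * ((((g⁻¹ : GL (Fin n) F) : Mn) * (s : Mn) * (g : Mn)).map σ.symm).map σ *
      ((g⁻¹ : GL (Fin n) F) : Mn) = _
    rw [Matrix.map_map, show (σ ∘ σ.symm : F → F) = id from funext fun x => σ.apply_symm_apply x,
      Matrix.map_id]
    simp only [Matrix.mul_assoc, Units.mul_inv, Matrix.mul_one]
    rw [← Matrix.mul_assoc, Units.mul_inv, Matrix.one_mul]
  map_mul' s t := by
    refine Subtype.ext ?_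
    show (g : Mn) * ((s * t : SLn) : Mn).map σ * ((g⁻¹ : GL (Fin n) F) : Mn) =
      ((g : Mn) * (s : Mn).map σ * ((g⁻¹ : GL (Fin n) F) : Mn)) *
        ((g : Mn) * (t : Mn).map σ * ((g⁻¹ : GL (Fin n) F) : Mn))
    rw [Matrix.SpecialLinearGroup.coe_mul, Matrix.map_mul]
    simp only [Matrix.mul_assoc]
    rw [← Matrix.mul_assoc ((g⁻¹ : GL (Fin n) F) : Mn), Units.inv_mul, Matrix.one_mul]

theorem slSemi_coe (g : GL (Fin n) F) (σ : F ≃+* F) (s : SLn) :
    ((slSemi g σ s : SLn) : Mn) = (g : Mn) * (s : Mn).map σ * ((g⁻¹ : GL (Fin n) F) : Mn) := rfl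

/-- The automorphism of `PSL_n` induced by `v ↦ g σ(v)`. -/
def pslSemi (g : GL (Fin n) F) (σ : F ≃+* F) : MulAut PSLn :=
  QuotientGroup.congr _ _ (slSemi g σ) (Subgroup.characteristic_iff_map_eq.1 inferInstance _)

theorem pslSemi_mk (g : GL (Fin n) F) (σ : F ≃+* F) (s : SLn) :
    pslSemi g σ (slToPSL n F s) = slToPSL n F (slSemi g σ s) := rfl

theorem pslSemi_induced (g : GL (Fin n) F) (σ : F ≃+* F) :
    IsInducedBySemilinearPSL g σ (pslSemi g σ) := by
  intro s s' h
  show slToPSL n F (slSemi g σ s) = slToPSL n F s'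
  exact congrArg _ (Subtype.ext h.symm)

theorem induced_iff {g : GL (Fin n) F} {σ : F ≃+* F} {β : MulAut PSLn} :
    IsInducedBySemilinearPSL g σ β ↔ β = pslSemi g σ := by
  refine ⟨fun h => MulEquiv.ext fun x => ?_, fun h => h ▸ pslSemi_induced g σ⟩
  obtain ⟨s, rfl⟩ := slToPSL_surjective x
  exact h s (slSemi g σ s) rfl

theorem stdField_iff {σ : F ≃+* F} {β : MulAut PSLn} :
    IsStdFieldAutPSL σ β ↔ β = pslSemi 1 σ := by
  rw [← induced_iff]
  simp only [IsStdFieldAutPSL, IsInducedBySemilinearPSL, inv_one, Units.val_one, Matrix.one_mul,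
    Matrix.mul_one]

theorem innerDiag_iff {β : MulAut PSLn} :
    IsInnerDiagonalAutPSL β ↔ ∃ g : GL (Fin n) F, β = pslSemi g (RingEquiv.refl F) := by
  simp only [← induced_iff]
  simp only [IsInnerDiagonalAutPSL, IsInducedBySemilinearPSL]
  simp

/-- The semilinear composition law. -/
theorem pslSemi_mul (g h : GL (Fin n) F) (σ τ : F ≃+* F) :
    pslSemi g σ * pslSemi h τ =
      pslSemi (g * Matrix.GeneralLinearGroup.map σ.toRingHom h) (τ.trans σ) := by
  refine MulEquiv.ext fun x => ?_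
  obtain ⟨s, rfl⟩ := slToPSL_surjective x
  rw [MulAut.mul_apply, pslSemi_mk, pslSemi_mk, pslSemi_mk]
  refine congrArg _ (Subtype.ext ?_)
  simp only [slSemi_coe, Matrix.map_mul, Matrix.map_map, _root_.mul_inv_rev, Units.val_mul,
    Matrix.mul_assoc, ← map_inv]
  rfl

theorem pslSemi_one : pslSemi (n := n) (1 : GL (Fin n) F) (RingEquiv.refl F) = 1 := by
  refine MulEquiv.ext fun x => ?_
  obtain ⟨s, rfl⟩ := slToPSL_surjective x
  rw [pslSemi_mk]
  exact congrArg _ (Subtype.ext (by simp [slSemi_coe]))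

theorem map_refl_GL (g : GL (Fin n) F) :
    Matrix.GeneralLinearGroup.map (RingEquiv.refl F).toRingHom g = g := by
  ext i j; rfl

theorem pslSemi_refl_mul (g h : GL (Fin n) F) (τ : F ≃+* F) :
    pslSemi g (RingEquiv.refl F) * pslSemi h τ = pslSemi (g * h) τ := by
  rw [pslSemi_mul, map_refl_GL]; rfl

theorem pslSemi_refl_inv (g : GL (Fin n) F) :
    (pslSemi g (RingEquiv.refl F))⁻¹ = pslSemi g⁻¹ (RingEquiv.refl F) :=
  inv_eq_of_mul_eq_one_right (by rw [pslSemi_refl_mul, mul_inv_cancel, pslSemi_one])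

theorem conj_eq_pslSemi (s : SLn) :
    MulAut.conj (slToPSL n F s) = pslSemi (Matrix.SpecialLinearGroup.toGL s) (RingEquiv.refl F) := by
  refine MulEquiv.ext fun x => ?_
  obtain ⟨t, rfl⟩ := slToPSL_surjective x
  rw [MulAut.conj_apply, pslSemi_mk, ← map_inv, ← map_mul, ← map_mul]
  refine congrArg _ (Subtype.ext ?_)
  rw [slSemi_coe, Matrix.SpecialLinearGroup.coe_mul, Matrix.SpecialLinearGroup.coe_mul]
  show _ = (s : Mn) * (t : Mn).map id * ((s⁻¹ : SLn) : Mn)
  rw [Matrix.map_id]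

/-! ### Inverse transpose -/

/-- The inverse transpose of an invertible matrix. -/
def invT (g : GL (Fin n) F) : GL (Fin n) F :=
  ⟨((g⁻¹ : GL (Fin n) F) : Mn)ᵀ, (g : Mn)ᵀ,
    by rw [← Matrix.transpose_mul, Units.mul_inv, Matrix.transpose_one],
    by rw [← Matrix.transpose_mul, Units.inv_mul, Matrix.transpose_one]⟩

theorem invT_coe (g : GL (Fin n) F) : (invT g : Mn) = ((g⁻¹ : GL (Fin n) F) : Mn)ᵀ := rfl

theorem invT_inv_coe (g : GL (Fin n) F) : (((invT g)⁻¹ : GL (Fin n) F) : Mn) = (g : Mn)ᵀ := rfl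

/-- Inverse transpose as an automorphism of `SL_n`. -/
def slInvT : SLn ≃* SLn where
  toFun s := ⟨((s⁻¹ : SLn) : Mn)ᵀ, by rw [Matrix.det_transpose]; exact (s⁻¹).2⟩
  invFun s := ⟨((s⁻¹ : SLn) : Mn)ᵀ, by rw [Matrix.det_transpose]; exact (s⁻¹).2⟩
  left_inv s := by
    refine Subtype.ext ?_
    show (Matrix.adjugate (((s⁻¹ : SLn) : Mn)ᵀ))ᵀ = (s : Mn)
    rw [← Matrix.adjugate_transpose, Matrix.transpose_transpose,
      ← Matrix.SpecialLinearGroup.coe_inv, inv_inv]
  right_inv s := by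
    refine Subtype.ext ?_
    show (Matrix.adjugate (((s⁻¹ : SLn) : Mn)ᵀ))ᵀ = (s : Mn)
    rw [← Matrix.adjugate_transpose, Matrix.transpose_transpose,
      ← Matrix.SpecialLinearGroup.coe_inv, inv_inv]
  map_mul' s t := by
    refine Subtype.ext ?_
    show (((s * t)⁻¹ : SLn) : Mn)ᵀ = ((s⁻¹ : SLn) : Mn)ᵀ * ((t⁻¹ : SLn) : Mn)ᵀ
    rw [_root_.mul_inv_rev, Matrix.SpecialLinearGroup.coe_mul, Matrix.transpose_mul]

theorem slInvT_coe (s : SLn) : ((slInvT s : SLn) : Mn) = ((s⁻¹ : SLn) : Mn)ᵀ := rfl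

/-- The inverse transpose automorphism of `PSL_n`. -/
def pslInvT : MulAut PSLn :=
  QuotientGroup.congr _ _ slInvT (Subgroup.characteristic_iff_map_eq.1 inferInstance _)

theorem pslInvT_mk (s : SLn) : pslInvT (slToPSL n F s) = slToPSL n F (slInvT s) := rfl

theorem invTr_iff {β : MulAut PSLn} : IsInverseTransposeAutPSL β ↔ β = pslInvT := by
  constructor
  · intro h
    refine MulEquiv.ext fun x => ?_
    obtain ⟨s, rfl⟩ := slToPSL_surjective x
    exact h s (slInvT s) rfl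
  · rintro rfl s s' h
    show slToPSL n F (slInvT s) = slToPSL n F s'
    exact congrArg _ (Subtype.ext h.symm)

theorem pslInvT_mul_self : (pslInvT : MulAut PSLn) * pslInvT = 1 := by
  refine MulEquiv.ext fun x => ?_
  obtain ⟨s, rfl⟩ := slToPSL_surjective x
  rw [MulAut.mul_apply, pslInvT_mk, pslInvT_mk]
  exact congrArg _ (slInvT.symm_apply_apply s)

theorem pslInvT_inv : (pslInvT : MulAut PSLn)⁻¹ = pslInvT :=
  inv_eq_of_mul_eq_one_right pslInvT_mul_self

theorem pslInvT_mul_pslSemi (g : GL (Fin n) F) (σ : F ≃+* F) :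
    pslInvT * pslSemi g σ = pslSemi (invT g) σ * pslInvT := by
  refine MulEquiv.ext fun x => ?_
  obtain ⟨s, rfl⟩ := slToPSL_surjective x
  rw [MulAut.mul_apply, MulAut.mul_apply, pslSemi_mk, pslInvT_mk, pslInvT_mk, pslSemi_mk]
  refine congrArg _ (Subtype.ext ?_)
  rw [slInvT_coe, slSemi_coe, ← map_inv (slSemi g σ), slSemi_coe, slInvT_coe, invT_coe,
    invT_inv_coe, Matrix.transpose_mul, Matrix.transpose_mul, Matrix.transpose_map, Matrix.mul_assoc]

end Cfsg.Agent.Classical.PSLAut
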