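import Cfsg.Agent.Lib.Classical.SLBlocks
import Cfsg.Agent.Lib.Block.Separated
import Cfsg.Agent.Lib.Char.ModP

/-! The character of degree the order of a Sylow `p`-subgroup of `PSL_n(q)`. -/

set_option autoImplicit false
set_option linter.style.haveILetI false

namespace Cfsg.Agent.Classical.PSLSteinberg

open Cfsg Matrix Cfsg.Agent.Block

attribute [local instance] _root_.Classical.propDecidable

universe u

variable {F : Type u} [Field F] [Fintype F] {p : ℕ} [Fact p.Prime] [CharP F p] {n : ℕ}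

theorem scalar_mem_parabolicGL (μ : Fin n → ℕ) {z : GL (Fin n) F} (hz : z ∈ Subgroup.center (GL (Fin n) F)) :
    z ∈ parabolicGL n F μ := by
  rw [Matrix.GeneralLinearGroup.center_eq_range_scalar] at hz
  obtain ⟨r, rfl⟩ := hz
  show (Matrix.scalar (Fin n) (r : F)).BlockTriangular (compLabel μ)
  rw [Matrix.scalar_apply]
  exact Matrix.blockTriangular_diagonal _

theorem chi_center {z : GL (Fin n) F} (hz : z ∈ Subgroup.center (GL (Fin n) F)) (ν : Fin n → ℕ) :
    unipotentCharacterGL n F ν z = unipotentCharacterGL n F ν 1 := by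
  rw [UnipotentChar.chi_eq]
  simp only [Finset.sum_apply, Pi.smul_apply]
  refine Finset.sum_congr rfl fun κ _ => ?_
  congr 1
  simp only [fixedPointCharacter]
  norm_cast
  refine Nat.card_congr (Equiv.subtypeEquivRight fun x => ?_)
  simp only [MulAction.mem_fixedBy, one_smul, iff_true]
  induction x using QuotientGroup.induction_on with
  | H g =>
    rw [MulAction.Quotient.smul_mk, QuotientGroup.eq, smul_eq_mul]
    rw [show (z * g)⁻¹ * g = g⁻¹ * z⁻¹ * g by group, mul_assoc,
      ← Subgroup.mem_center_iff.1 (inv_mem hz) g, inv_mul_cancel_left]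
    exact inv_mem (scalar_mem_parabolicGL _ hz)

theorem exists_char (hn : 1 ≤ n) : ∃ χ : Matrix.ProjectiveSpecialLinearGroup (Fin n) F → ℂ,
    IsIrrCharacter (Matrix.ProjectiveSpecialLinearGroup (Fin n) F) χ ∧
      ∀ P : Sylow p (Matrix.ProjectiveSpecialLinearGroup (Fin n) F), χ 1 = Nat.card P ∧
        ∀ x : Matrix.ProjectiveSpecialLinearGroup (Fin n) F, x ∈ P → x ≠ 1 → χ x = 0 := by
  classical
  haveI : Nonempty (Fin n) := ⟨⟨0, hn⟩⟩
  have hp : p.Prime := Fact.out
  set q := Fintype.card F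
  have hirr := UnipotentChar.isIrr_chi (F := F) (ν := fun _ : Fin n => 1) monotone_const (by simp)
  set mk := (Matrix.ProjGenLinGroup.mk : GL (Fin n) F →* Matrix.ProjGenLinGroup (Fin n) F)
  have hms : Function.Surjective mk := Matrix.ProjGenLinGroup.mk_surjective
  haveI : Finite (Matrix.ProjGenLinGroup (Fin n) F) := Finite.of_surjective mk hms
  haveI := Fintype.ofFinite (Matrix.ProjGenLinGroup (Fin n) F)
  haveI := Fintype.ofFinite (GL (Fin n) F)
  obtain ⟨ψ, hψ, hψχ⟩ := Cfsg.Agent.Char.IsIrr.exists_factor hirr mk hms fun k hk =>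
    chi_center (by rwa [Matrix.ProjGenLinGroup.ker_mk] at hk) _
  have hψ1 : ψ 1 = ((q ^ n.choose 2 : ℕ) : ℂ) := by
    rw [← map_one mk, hψχ]
    push_cast
    exact GLDeg.degree_steinberg rfl
  let d : GL (Fin n) F →* Fˣ := Matrix.GeneralLinearGroup.det
  set H : Subgroup (Matrix.ProjGenLinGroup (Fin n) F) :=
    (Matrix.ProjectiveSpecialLinearGroup.toPGL (n := Fin n) (R := F)).range
  have hH : H = d.ker.map mk := by
    ext x
    constructor
    · rintro ⟨y, rfl⟩
      induction y using QuotientGroup.induction_on with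
      | H A => exact ⟨Matrix.SpecialLinearGroup.toGL A, MonoidHom.mem_ker.2 (Units.ext (by simp [d])), rfl⟩
    · rintro ⟨g, hg, rfl⟩
      exact ⟨QuotientGroup.mk ⟨g.1, congrArg Units.val (MonoidHom.mem_ker.1 hg)⟩, congrArg mk (Units.ext rfl)⟩
  haveI : H.Normal := hH ▸ Subgroup.Normal.map inferInstance mk hms
  have hidx : H.index ∣ q - 1 := by
    rw [hH]
    refine (Subgroup.index_map_dvd d.ker hms).trans (dvd_of_eq ?_)
    rw [Subgroup.index_ker, MonoidHom.range_eq_top_of_surjective d Matrix.GeneralLinearGroup.det_surjective,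
      Subgroup.card_top, Nat.card_units, Nat.card_eq_fintype_card]
  haveI := Fintype.ofFinite H
  obtain ⟨θ, hθ⟩ := Cfsg.Agent.Char.IsChar.exists_constituent'
    (Cfsg.Agent.Char.IsChar.res (Cfsg.Agent.Char.IsIrr.isCharacter hψ) H)
    (show ψ ((1 : H) : Matrix.ProjGenLinGroup (Fin n) F) ≠ 0 by
      rw [Subgroup.coe_one, hψ1]; exact Nat.cast_ne_zero.2 (pow_ne_zero _ Fintype.card_ne_zero))
  obtain ⟨m, hm, hmdvd⟩ := Cfsg.Agent.Char.Ext.ratio_dvd_index' hψ θ.2 hθ
  rw [hψ1, Cfsg.Agent.Block.charDeg_spec' θ, ← Nat.cast_mul, Nat.cast_inj] at hm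
  obtain ⟨a, -, ha⟩ := FiniteField.card F p
  have hq : p ∣ q := by rw [show q = p ^ (a : ℕ) from ha]; exact dvd_pow_self p a.ne_zero
  have hnd : ¬ p ∣ q - 1 := fun h => by
    have h5 := Nat.dvd_sub hq h
    rw [show q - (q - 1) = 1 by have := Fintype.card_pos (α := F); omega] at h5
    exact hp.one_lt.ne' (Nat.dvd_one.1 h5)
  have hqc : q.Coprime (q - 1) := by
    rw [Nat.coprime_self_sub_right (Fintype.card_pos (α := F))]
    exact Nat.coprime_one_right q
  have hm1 : m = 1 := Nat.eq_one_of_dvd_coprimes (hqc.pow_left (n.choose 2)) (hm ▸ dvd_mul_right _ _)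
    (hmdvd.trans hidx)
  rw [hm1, one_mul] at hm
  let e : Matrix.ProjectiveSpecialLinearGroup (Fin n) F ≃* H :=
    MonoidHom.ofInjective Matrix.ProjectiveSpecialLinearGroup.toPGL_injective
  haveI : Finite (Matrix.ProjectiveSpecialLinearGroup (Fin n) F) := Finite.of_injective _ e.injective
  have hirr' := Cfsg.Agent.Char.IsIrr.comp_mulEquiv e θ.2
  refine ⟨fun g => (θ : H → ℂ) (e g), hirr', fun P => ?_⟩
  -- the order of a Sylow subgroup
  set G := Matrix.ProjectiveSpecialLinearGroup (Fin n) F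
  have hZ : ¬ p ∣ Nat.card (Subgroup.center (Matrix.SpecialLinearGroup (Fin n) F)) := by
    rw [natCard_center_SL]
    exact fun h => hnd (h.trans (by rw [natCard_units_field]; exact Nat.gcd_dvd_right _ _))
  have hcardG : Nat.card (Matrix.SpecialLinearGroup (Fin n) F) =
      Nat.card G * Nat.card (Subgroup.center (Matrix.SpecialLinearGroup (Fin n) F)) :=
    Subgroup.card_eq_card_quotient_mul_card_subgroup _
  have hq1 : q - 1 ≠ 0 := by have := Fintype.one_lt_card (α := F); omega
  have hcard := natCard_GL_eq_SL_mul (F := F) n hn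
  rw [GLDeg.natCard_GL rfl, natCard_units_field, hcardG] at hcard
  have hqf : ¬ p ∣ GLDeg.qf q n := fun h => by
    obtain ⟨j, -, hj⟩ := hp.prime.exists_mem_finset_dvd h
    rw [GLDeg.qi, Finset.sum_range_succ'] at hj
    refine hp.not_dvd_one ((Nat.dvd_add_right (Finset.dvd_sum fun l _ => ?_)).1 (by simpa using hj))
    exact hq.trans (dvd_pow_self _ (Nat.succ_ne_zero l))
  rw [show Fintype.card F = q from rfl] at hcard
  have h2 := congrArg (fun x : ℕ => x.factorization p) hcard
  have hq0 : q ≠ 0 := Fintype.card_ne_zero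
  simp only [Nat.factorization_mul hq1 (mul_ne_zero Nat.card_pos.ne' Nat.card_pos.ne'),
    Nat.factorization_mul (Nat.card_pos (α := G)).ne' (Nat.card_pos (α := Subgroup.center (Matrix.SpecialLinearGroup (Fin n) F))).ne',
    Nat.factorization_mul (mul_ne_zero (pow_ne_zero _ hq0) (pow_ne_zero _ hq1))
      (GLDeg.qf_pos _ n).ne',
    Nat.factorization_mul (pow_ne_zero (n.choose 2) hq0) (pow_ne_zero n hq1),
    Nat.factorization_pow (q - 1), Finsupp.add_apply, Finsupp.smul_apply,
    Nat.factorization_eq_zero_of_not_dvd hnd, Nat.factorization_eq_zero_of_not_dvd hqf,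
    Nat.factorization_eq_zero_of_not_dvd hZ, smul_zero, add_zero, zero_add] at h2
  have hP : Nat.card P = q ^ n.choose 2 := by
    rw [Sylow.card_eq_multiplicity, ← h2, show q = p ^ (a : ℕ) from ha, ← pow_mul, hp.factorization_pow, Finsupp.single_eq_same]
  set χ : IrrCharacter G := ⟨_, hirr'⟩
  have hdeg : charDegree (χ : G → ℂ) = q ^ n.choose 2 := by
    rw [hm]
    show charDegree (fun g => (θ : H → ℂ) (e g)) = charDegree (θ : H → ℂ)
    simp only [charDegree, map_one]
  refine ⟨?_, fun x hx hx1 => ?_⟩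
  · rw [show (fun g => (θ : H → ℂ) (e g)) 1 = (χ : G → ℂ) 1 from rfl, Cfsg.Agent.Block.charDeg_spec' χ, hdeg, hP]
  · obtain ⟨M, hM⟩ := Cfsg.Agent.Char.exists_isPModular p hp
    refine Cfsg.Agent.Block.defectZero_vanish hM χ (by rw [hdeg, ← h2]) ?_
    obtain ⟨k, hk⟩ := P.isPGroup' ⟨x, hx⟩
    have hk' : x ^ p ^ k = 1 := congrArg Subtype.val hk
    obtain ⟨j, -, hj⟩ := (Nat.dvd_prime_pow hp).1 (orderOf_dvd_of_pow_eq_one hk')
    rw [hj]
    refine dvd_pow_self p fun h0 => hx1 ?_
    rw [h0, pow_zero] at hj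
    exact orderOf_eq_one_iff.1 hj

end Cfsg.Agent.Classical.PSLSteinberg
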