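import Cfsg.Agent.Lib.Classical.PSUBinaryWitness

/-!
# Binary coset actions of `PSU₃(q)`, `q` even, with stabilisers containing a root subgroup

Such a stabiliser is the root subgroup itself.
-/

set_option autoImplicit false
set_option linter.unusedSectionVars false

namespace Cfsg.Agent.PSUBin

open Cfsg Cfsg.Agent.BinAct Cfsg.Agent.Classical Cfsg.Agent.Classical.PSUAut Cfsg.Agent.Fus.UnitN Cfsg.Agent.Lie.SUGen
  Cfsg.Agent.Lie.SU3Pres

variable {F : Type*} [Field F] [Fintype F] [CharP F 2] {q : ℕ} (hF : Fintype.card F = q ^ 2)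

local notation "cj" => qFrob hF
local notation "PS" => Cfsg.PSU 3 F q

variable {e n f : Fin 3 → F} (B : Frame3 q e n f)

include hF B

omit B in
theorem exists_real (h4 : 4 ≤ q) : ∃ r : F, cj r = r ∧ r ≠ 0 ∧ r ≠ 1 := by
  classical
  have hc : Nat.card (UnitMult.fixK hF) = q := UnitMult.natCard_fixK hF
  haveI := Fintype.ofFinite (UnitMult.fixK hF)
  rw [Nat.card_eq_fintype_card, ← Finset.card_univ] at hc
  obtain ⟨r, -, hr⟩ := Finset.exists_mem_notMem_of_card_lt_card (s := ({0, 1} : Finset (UnitMult.fixK hF)))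
    (t := Finset.univ) (lt_of_le_of_lt Finset.card_le_two (by omega))
  simp only [Finset.mem_insert, Finset.mem_singleton, not_or] at hr
  exact ⟨r, r.2, fun h0 => hr.1 (Subtype.ext h0), fun h1 => hr.2 (Subtype.ext h1)⟩

/-- The unipotent radical and the Weyl element generate. -/
theorem eq_top_of {H : Subgroup PS} (hU : uniP hF B ≤ H) (hw : wP hF B ∈ H) : H = ⊤ := by
  have ht : ∀ l : F, l ≠ 0 → tP hF B l ∈ H := by
    intro l hl
    have hl' : cj l ≠ 0 := (map_ne_zero (qFrob hF)).2 hl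
    obtain ⟨α, hok⟩ := exists_ok_a hF (cj l)⁻¹
    have hb : (cj l)⁻¹ ≠ 0 := inv_ne_zero hl'
    have h1 := rank_one_P hF B hok hb
    have e : 1 / cj (cj l)⁻¹ = l := by rw [map_inv₀, cj_cj hF, one_div, inv_inv]
    rw [e] at h1
    have h2 : wP hF B * uP hF B α (cj l)⁻¹ * wP hF B ∈ H := mul_mem (mul_mem hw (hU ⟨_, lin_uP hF B hok⟩)) hw
    rw [h1] at h2
    exact (Subgroup.mul_mem_cancel_left H (hU ⟨_, lin_uP hF B (ok_first hF hok hb)⟩)).1
      ((Subgroup.mul_mem_cancel_right H hw).1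
        ((Subgroup.mul_mem_cancel_right H (hU ⟨_, lin_uP hF B (ok_last hF hok hb)⟩)).1 h2))
  have hB : borP hF B ≤ H := by
    rintro g ⟨α, m, b, l, hl, hb, -, rfl⟩
    exact mul_mem (hU ⟨_, lin_uP hF B hb⟩) (ht l hl)
  refine eq_top_iff.2 fun g _ => ?_
  by_cases hg : g ∈ borP hF B
  · exact hB hg
  obtain ⟨α, b, hok, c, hc, rfl⟩ := bruhat hF B hg
  exact mul_mem (mul_mem (hU ⟨_, lin_uP hF B hok⟩) hw) (hB hc)

/-- Two opposite root subgroups give the Weyl element and the real torus. -/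
theorem sl2_mem {K : Subgroup PS} (hz : zenP hF B ≤ K)
    (hwz : ∀ z ∈ zenP hF B, wP hF B * z * wP hF B ∈ K) :
    wP hF B ∈ K ∧ ∀ s : F, s ≠ 0 → cj s = s → tP hF B s ∈ K := by
  have key : ∀ s : F, s ≠ 0 → cj s = s → tP hF B s * wP hF B ∈ K := by
    intro s hs hss
    have hok : OK hF 0 s⁻¹ := OK.skew hF (by rw [map_inv₀, hss, CharTwo.add_self_eq_zero])
    have h1 := hwz _ (lin_uP hF B hok)
    rw [rank_one_P hF B hok (inv_ne_zero hs), zero_div, zero_div, map_inv₀, hss] at h1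
    simp only [one_div, inv_inv] at h1
    have hs' : uP hF B 0 s ∈ K := hz (lin_uP hF B (OK.skew hF (by rw [hss, CharTwo.add_self_eq_zero])))
    rw [mul_assoc (uP hF B 0 s)] at h1
    exact (Subgroup.mul_mem_cancel_left K hs').1 ((Subgroup.mul_mem_cancel_right K hs').1 h1)
  have hw : wP hF B ∈ K := by
    have := key 1 one_ne_zero (map_one _)
    rwa [tP_one, one_mul] at this
  exact ⟨hw, fun s hs hss => (Subgroup.mul_mem_cancel_right K hw).1 (key s hs hss)⟩

/-- A point of the opposite kind gives a translation parameter. -/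
theorem point_mem (h4 : 4 ≤ q) {H : Subgroup PS} (hz : zenP hF B ≤ H)
    (hwz : ∀ z ∈ zenP hF B, wP hF B * z * wP hF B ∈ H) {u : PS} {α : F} (hu : Lin hF B u α 1)
    (hp : ∀ z ∈ zenP hF B, u * (wP hF B * z * wP hF B) * u⁻¹ ∈ H) : α ∈ wS hF B H := by
  obtain ⟨r, hrr, hr0, hr1⟩ := exists_real hF h4
  let K := H.comap (MulAut.conj u).toMonoidHom
  have hK := (sl2_mem hF B (K := K) (fun z hz' => hz (show Lin hF B (u * z * u⁻¹) 0 1 by
    have := hu.conj hF B hz'
    rwa [CharTwo.add_self_eq_zero, mul_zero, mul_zero, add_zero] at this)) hp).2 r hr0 hrr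
  have hr' : 1 + r ≠ 0 := fun h0 => hr1 (CharTwo.add_eq_zero.1 h0).symm
  have hlin : Lin hF B (u * tP hF B r * u⁻¹) (α * (1 + r)) r := by
    have := hu.conj hF B (lin_tP hF B hr0)
    rwa [th_real hF hrr hr0, mul_zero, add_zero] at this
  have h1 : α * (1 + r) ∈ wS hF B H := by
    refine ⟨u * tP hF B r * u⁻¹ * (tP hF B r)⁻¹, mul_mem hK (inv_mem ((sl2_mem hF B hz hwz).2 r hr0 hrr)), ?_⟩
    have := hlin.mul hF B ((lin_tP hF B hr0).inv hF B)
    rwa [th_real hF hrr hr0, mul_zero, mul_zero, add_zero, mul_inv_cancel₀ hr0] at this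
  have hre : cj (1 + r)⁻¹ = (1 + r)⁻¹ := by rw [map_inv₀, map_add, map_one, hrr]
  have := wS_stable hF B ((sl2_mem hF B hz hwz).2 _ (inv_ne_zero hr') hre) (lin_tP hF B (inv_ne_zero hr')) h1
  rwa [th_real hF hre (inv_ne_zero hr'), mul_comm α, inv_mul_cancel_left₀ hr'] at this

/-- A stabiliser containing two opposite root subgroups has no translations. -/
theorem wS_eq_bot (h4 : 4 ≤ q) {H : Subgroup PS} (hH : H ≠ ⊤) (hz : zenP hF B ≤ H)
    (hwz : ∀ z ∈ zenP hF B, wP hF B * z * wP hF B ∈ H) {α : F} (hα : α ∈ wS hF B H) : α = 0 := by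
  by_contra hα0
  obtain ⟨hw, ht⟩ := sl2_mem hF B hz hwz
  obtain ⟨x, hx, hxl⟩ := id hα
  obtain ⟨b, hok, rfl⟩ := eq_uP_of_lin hF B hxl
  have hb := hok.b_ne hF hα0
  have hα' : α / b ∈ wS hF B H := by
    refine point_mem hF B h4 hz hwz (lin_uP hF B (ok_first hF hok hb)) fun z hz' => ?_
    have hb' : cj b ≠ 0 := (map_ne_zero (qFrob hF)).2 hb
    set T := tP hF B (1 / cj b)
    set U₁ := uP hF B (α / b) (1 / b)
    set U₂ := uP hF B (α / cj b) (1 / b)
    set w := wP hF B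
    set z₀ := (w * T * w)⁻¹ * z * (w * T * w)
    have hz₀ : z₀ ∈ zenP hF B := by
      have h1 : Lin hF B (w * T * w) 0 (th hF (cj (1 / cj b))⁻¹) := by
        rw [wP_conj hF B (one_div_ne_zero hb')]
        exact lin_tP hF B (inv_ne_zero ((map_ne_zero (qFrob hF)).2 (one_div_ne_zero hb')))
      have h2 := (h1.inv hF B).conj hF B hz'
      rw [inv_inv, CharTwo.add_self_eq_zero, mul_zero, mul_zero, add_zero] at h2
      exact h2
    have hcomm : U₂ * z₀ = z₀ * U₂ := by
      obtain ⟨c, hc, he⟩ := eq_uP_of_lin hF B hz₀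
      rw [he, uP_mul hF B (ok_last hF hok hb) hc, uP_mul hF B hc (ok_last hF hok hb), add_zero, zero_add,
        map_zero, zero_mul, mul_zero, add_zero, add_zero, add_comm (1 / b) c]
    have hg : w * uP hF B α b * w ∈ H := mul_mem (mul_mem hw hx) hw
    have h3 := mul_mem (mul_mem hg (hz hz₀)) (inv_mem hg)
    rw [rank_one_P hF B hok hb] at h3
    have e1 : U₁ * T * w * U₂ * z₀ * (U₁ * T * w * U₂)⁻¹ = U₁ * (w * z * w) * U₁⁻¹ := by
      calc U₁ * T * w * U₂ * z₀ * (U₁ * T * w * U₂)⁻¹ = U₁ * T * w * (U₂ * z₀) * U₂⁻¹ * w⁻¹ * T⁻¹ * U₁⁻¹ := by group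
        _ = U₁ * T * w * z₀ * w⁻¹ * T⁻¹ * U₁⁻¹ := by rw [hcomm]; group
        _ = U₁ * (T * (w * w⁻¹) * T⁻¹ * (w⁻¹ * z * w) * (T * (w * w⁻¹) * T⁻¹)) * U₁⁻¹ := by
            simp only [z₀, _root_.mul_inv_rev]; group
        _ = U₁ * (w * z * w) * U₁⁻¹ := by
            rw [wP_inv hF B, wP_sq hF B, mul_one, mul_inv_cancel, one_mul, mul_one]
    rwa [e1] at h3
  have hd : 1 / b + cj (1 / b) ≠ 0 := fun h0 => by
    have h1 := ok_first hF hok hb
    simp only [OK, h0, zero_add, mul_eq_zero, map_eq_zero, or_self, div_eq_zero_iff] at h1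
    exact h1.elim hα0 hb
  have htop : wS hF B H = ⊤ := eq_top_iff.2 fun y _ => by
    set x₀ := y / α
    set r₂ := (x₀ + cj x₀) / (1 / b + cj (1 / b))
    set r₁ := x₀ + r₂ * (1 / b)
    have hr₂ : cj r₂ = r₂ := by
      simp only [r₂, map_div₀, map_add, cj_cj hF, add_comm (cj x₀) x₀]
      congr 1
      rw [map_one, add_comm]
    have hr₁ : cj r₁ = r₁ := by
      have e1 : r₂ * (1 / b + cj (1 / b)) = x₀ + cj x₀ := div_mul_cancel₀ _ hd
      simp only [r₁, map_add, map_mul, hr₂]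
      linear_combination e1 + (cj x₀ - r₂ * (1 / b)) * two_zero (F := F)
    have key : ∀ r : F, cj r = r → ∀ x ∈ wS hF B H, r * x ∈ wS hF B H := by
      intro r hr x hx
      by_cases h0 : r = 0
      · rw [h0, zero_mul]; exact zero_mem _
      have := wS_stable hF B (ht r h0 hr) (lin_tP hF B h0) hx
      rwa [th_real hF hr h0] at this
    have := add_mem (key r₁ hr₁ α hα) (key r₂ hr₂ _ hα')
    rwa [show r₁ * α + r₂ * (α / b) = y by
      simp only [r₁, x₀]; field_simp; linear_combination α * r₂ * two_zero (F := F)] at this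
  exact hH (eq_top_of hF B (uniP_le_of_top hF B hz htop) hw)

/-- A binary action with stabiliser containing the root subgroup has that stabiliser. -/
theorem eq_zenP (h4 : 4 ≤ q) {H : Subgroup PS} (hH : H ≠ ⊤) (hz : zenP hF B ≤ H) (hb : IsBin H) :
    H = zenP hF B := by
  by_cases hA : ∃ g, g ∉ borP hF B ∧ ∀ z ∈ zenP hF B, g * z * g⁻¹ ∈ H
  · exfalso
    obtain ⟨g, hg, hgz⟩ := hA
    obtain ⟨α, b, hok, c, ⟨ca, cm, hcl⟩, rfl⟩ := bruhat hF B hg
    set u := uP hF B α b
    set w := wP hF B with hwdef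
    let K := H.comap (MulAut.conj u).toMonoidHom
    have hKmap : K = H.map (MulAut.conj u).symm.toMonoidHom := by
      ext x
      constructor
      · intro hx; exact ⟨u * x * u⁻¹, hx, by simp [mul_assoc]⟩
      · rintro ⟨y, hy, rfl⟩; simpa [K, mul_assoc] using hy
    have hKb : IsBin K := by rw [hKmap]; exact (isBin_map_iff _ H).2 hb
    have hKne : K ≠ ⊤ := fun h => hH (eq_top_iff.2 fun x _ => by
      have : u⁻¹ * x * u ∈ K := h ▸ Subgroup.mem_top _
      simpa [K, mul_assoc] using this)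
    have hKz : zenP hF B ≤ K := fun z hz' => hz (show Lin hF B (u * z * u⁻¹) 0 1 by
      have := (lin_uP hF B hok).conj hF B hz'
      rwa [CharTwo.add_self_eq_zero, mul_zero, mul_zero, add_zero] at this)
    have hKw : ∀ z ∈ zenP hF B, w * z * w ∈ K := fun z hz' => by
      have h1 : Lin hF B (c⁻¹ * z * c) 0 1 := by
        have := (hcl.inv hF B).conj hF B hz'
        rwa [inv_inv, CharTwo.add_self_eq_zero, mul_zero, mul_zero, add_zero] at this
      show u * (w * z * w) * u⁻¹ ∈ H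
      rw [show w * z * w = w * z * w⁻¹ by rw [hwdef, wP_inv hF B],
        show u * (w * z * w⁻¹) * u⁻¹ = (u * w * c) * (c⁻¹ * z * c) * (u * w * c)⁻¹ by group]
      exact hgz _ h1
    obtain ⟨r, hrr, hr0, hr1⟩ := exists_real hF h4
    obtain ⟨hwK, htK⟩ := sl2_mem hF B hKz hKw
    refine not_isBin_torus hF B hKz hr0 (by rwa [th_real hF hrr hr0]) (htK r hr0 hrr) (fun h =>
      one_ne_zero (wS_eq_bot hF B h4 hKne hKz hKw (h ▸ AddSubgroup.mem_top (1 : F)))) ?_ hKb
    intro β hβ v hv x hx hxv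
    by_contra hxB
    obtain ⟨a, b', hok', c', ⟨da, dm, hc'⟩, rfl⟩ := bruhat hF B hxB
    have key : ∀ (y : PS), y ∈ K → ∀ (s : PS) (γ : F) (c₁ : PS) (pa pm : F), Lin hF B s γ 1 → Lin hF B c₁ pa pm →
        y = s * w * c₁ → γ = 0 := by
      intro y hy s γ c₁ pa pm hs hc₁ he
      refine wS_eq_bot hF B h4 hKne hKz hKw (point_mem hF B h4 hKz hKw hs fun z hz' => ?_)
      have h1 : Lin hF B (c₁⁻¹ * z * c₁) 0 1 := by
        have := (hc₁.inv hF B).conj hF B hz'
        rwa [inv_inv, CharTwo.add_self_eq_zero, mul_zero, mul_zero, add_zero] at this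
      rw [show wP hF B * z * wP hF B = w * z * w⁻¹ by rw [hwdef, wP_inv hF B],
        show s * (w * z * w⁻¹) * s⁻¹ = (s * w * c₁) * (c₁⁻¹ * z * c₁) * (s * w * c₁)⁻¹ by group, ← he]
      exact mul_mem (mul_mem hy (hKz h1)) (inv_mem hy)
    have e1 := key _ hx _ a c' da dm (lin_uP hF B hok') hc' rfl
    have hs : Lin hF B (v⁻¹ * uP hF B a b') (β + a) 1 := by
      simpa using (hv.inv hF B).mul hF B (lin_uP hF B hok')
    have e2 := key _ (mem_stab.1 hxv) _ (β + a) (c' * v) _ _ hs (hc'.mul hF B hv) (by simp only [hwdef]; group)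
    rw [e1, add_zero] at e2
    exact hβ (e2 ▸ zero_mem _)
  · push Not at hA
    have hB : H ≤ borP hF B := fun g hg => by
      by_contra hgB
      obtain ⟨z, hz', hz''⟩ := hA g hgB
      exact hz'' (mul_mem (mul_mem hg (hz hz')) (inv_mem hg))
    by_cases hU : H ≤ uniP hF B
    · refine le_antisymm (fun g hg => ?_) hz
      obtain ⟨α, hgl⟩ := hU hg
      by_cases hα : α = 0
      · subst hα; exact hgl
      exact absurd hb (not_isBin_four hF B h4 hU hg hgl hα)
    exfalso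
    obtain ⟨g, hg, hgU⟩ := Set.not_subset.1 hU
    obtain ⟨a, m, hgl⟩ := hB hg
    have hm : m ≠ 1 := fun h => hgU ⟨a, h ▸ hgl⟩
    have hm' : 1 + m ≠ 0 := fun h0 => hm (CharTwo.add_eq_zero.1 h0).symm
    obtain ⟨b, hok⟩ := exists_ok_b hF (a / (1 + m))
    set u := uP hF B (a / (1 + m)) b
    set K := H.map (MulAut.conj u).toMonoidHom with hK
    have hKb : IsBin K := (isBin_conj_iff H u).2 hb
    have hKz : zenP hF B ≤ K := fun z hz' => ⟨u⁻¹ * z * u, hz (show Lin hF B (u⁻¹ * z * u) 0 1 by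
      have := ((lin_uP hF B hok).inv hF B).conj hF B hz'
      rwa [inv_inv, CharTwo.add_self_eq_zero, mul_zero, mul_zero, add_zero] at this), by simp [mul_assoc]⟩
    have hKB : K ≤ borP hF B := by
      rintro _ ⟨y, hy, rfl⟩
      obtain ⟨p, k, hyl⟩ := hB hy
      exact ⟨_, _, (lin_uP hF B hok).conj hF B hyl⟩
    have hτ0 : Lin hF B (u * g * u⁻¹) 0 m := by
      have := (lin_uP hF B hok).conj hF B hgl
      rwa [div_mul_cancel₀ a hm', one_mul, CharTwo.add_self_eq_zero] at this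
    obtain ⟨b', l, hl, hok', hml, he⟩ := hτ0
    have hτ : tP hF B l ∈ K := (Subgroup.mul_mem_cancel_left K (hKz (lin_uP hF B hok'))).1 (he ▸ ⟨g, hg, rfl⟩)
    by_cases hW : wS hF B K = ⊤
    · exact not_isBin_points hF B (uniP_le_of_top hF B hKz hW) hKB hl (hml ▸ hm) hτ hKb
    · exact not_isBin_torus hF B hKz hl (hml ▸ hm) hτ hW (fun _ _ _ _ x hx _ => hKB hx) hKb

/-- The root subgroup gives a binary action. -/
theorem isBin_zenP : IsBin (zenP hF B) :=
  BinInvol.isBin_of_closed _ (fun _ hz => zen_sq hF B hz) fun _ hz hz1 _ hy hc => zen_closed hF B hz hz1 hy hc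

end Cfsg.Agent.PSUBin
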