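import Cfsg.Agent.Lib.Classical.PSUBinary

/-!
# The binary coset actions of `PSU₃(q)`, `q` even, with stabilisers of even order
-/

set_option autoImplicit false
set_option linter.unusedSectionVars false

namespace Cfsg.Agent.PSUBin

open Cfsg Cfsg.Agent.BinAct Cfsg.Agent.Classical Cfsg.Agent.Classical.PSUAut Cfsg.Agent.Fus.UnitN Cfsg.Agent.Lie.SUGen
  Cfsg.Agent.Lie.SU3Pres

variable {F : Type*} [Field F] [Fintype F] [CharP F 2] {q : ℕ} (hF : Fintype.card F = q ^ 2)

local notation "PS" => Cfsg.PSU 3 F q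

/-- The centre of a subgroup, as a subgroup of the group, commutes with isomorphisms. -/
theorem center_map_equiv {G G' : Type*} [Group G] [Group G'] (φ : G ≃* G') (K : Subgroup G) :
    ((Subgroup.center K).map K.subtype).map φ.toMonoidHom =
      (Subgroup.center (K.map φ.toMonoidHom)).map (K.map φ.toMonoidHom).subtype := by
  ext x
  constructor
  · rintro ⟨y, ⟨z, hz, rfl⟩, rfl⟩
    refine ⟨⟨φ z, z, z.2, rfl⟩, Subgroup.mem_center_iff.2 ?_, rfl⟩
    rintro ⟨-, w, hw, rfl⟩
    refine Subtype.ext ?_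
    show φ w * φ z = φ z * φ w
    rw [← map_mul, ← map_mul]
    exact congrArg φ (congrArg Subtype.val (Subgroup.mem_center_iff.1 hz ⟨w, hw⟩))
  · rintro ⟨⟨-, z, hz, rfl⟩, hc, rfl⟩
    refine ⟨z, ⟨⟨z, hz⟩, Subgroup.mem_center_iff.2 fun w => ?_, rfl⟩, rfl⟩
    refine Subtype.ext (φ.injective ?_)
    show φ ((w : G) * z) = φ (z * (w : G))
    rw [map_mul, map_mul]
    exact congrArg Subtype.val (Subgroup.mem_center_iff.1 hc ⟨φ w, w, w.2, rfl⟩)

include hF

/-- The centre of a Sylow 2-subgroup gives a binary action. -/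
theorem isBin_center (P : Sylow 2 PS) :
    IsBin ((Subgroup.center (P : Subgroup PS)).map (P : Subgroup PS).subtype) := by
  haveI : Fact (Nat.Prime 2) := ⟨Nat.prime_two⟩
  obtain ⟨e, n, f, B⟩ := exists_frame hF
  obtain ⟨P₀, hP₀⟩ := exists_sylow hF B
  obtain ⟨g, hg⟩ := MulAction.exists_smul_eq PS P P₀
  have h1 : (P : Subgroup PS).map (MulAut.conj g).toMonoidHom = uniP hF B := by
    rw [← hP₀, ← hg]; rfl
  refine (isBin_conj_iff _ g).1 ?_
  rw [center_map_equiv, h1, center_uniP]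
  exact isBin_zenP hF B

/-- A binary action with stabilisers of even order has the centres of Sylow 2-subgroups as stabilisers. -/
theorem eq_center (h4 : 4 ≤ q) (hone : ∀ s t : PS, orderOf s = 2 → orderOf t = 2 → IsConj s t)
    {H : Subgroup PS} (hH : H ≠ ⊤) (he : Even (Nat.card H)) (hb : IsBin H) :
    ∃ P : Sylow 2 PS, H = (Subgroup.center (P : Subgroup PS)).map (P : Subgroup PS).subtype := by
  haveI : Fact (Nat.Prime 2) := ⟨Nat.prime_two⟩
  obtain ⟨e, n, f, B⟩ := exists_frame hF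
  obtain ⟨P₀, hP₀⟩ := exists_sylow hF B
  obtain ⟨t, ht⟩ := exists_prime_orderOf_dvd_card' (G := H) 2 (even_iff_two_dvd.1 he)
  have htG : orderOf (t : PS) = 2 := by rw [Subgroup.orderOf_coe]; exact ht
  obtain ⟨Q, hQ⟩ := (IsPGroup.of_card (G := Subgroup.zpowers (t : PS)) (p := 2) (n := 1)
    (by rw [Nat.card_zpowers, htG, pow_one])).exists_le_sylow
  obtain ⟨g, hg⟩ := MulAction.exists_smul_eq PS Q P₀
  have h1 : (Q : Subgroup PS).map (MulAut.conj g).toMonoidHom = uniP hF B := by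
    rw [← hP₀, ← hg]; rfl
  refine ⟨Q, Subgroup.map_injective (f := (MulAut.conj g).toMonoidHom) (MulAut.conj g).injective ?_⟩
  rw [center_map_equiv, h1, center_uniP]
  set K := H.map (MulAut.conj g).toMonoidHom with hK
  have hKb : IsBin K := (isBin_conj_iff H g).2 hb
  have hKne : K ≠ ⊤ := fun h => hH (Subgroup.map_injective (f := (MulAut.conj g).toMonoidHom) (MulAut.conj g).injective
    (h.trans (Subgroup.map_top_of_surjective _ (MulAut.conj g).surjective).symm))
  have hs : (MulAut.conj g) (t : PS) ∈ uniP hF B := h1 ▸ ⟨t, hQ (Subgroup.mem_zpowers _), rfl⟩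
  have hso : orderOf ((MulAut.conj g) (t : PS)) = 2 := by rw [MulEquiv.orderOf_eq, htG]
  refine eq_zenP hF B h4 hKne (fun z hz => ?_) hKb
  by_cases hz1 : z = 1
  · rw [hz1]; exact one_mem K
  obtain ⟨c, hc, hcz⟩ := (center_uniP hF B).symm ▸ hz
  refine BinInvol.mem_of_commute hone hKb hso (BinInvol.invol_iff.2 ⟨zen_sq hF B hz, hz1⟩) ?_ ⟨t, t.2, rfl⟩
  rw [← hcz]
  exact congrArg Subtype.val (Subgroup.mem_center_iff.1 hc ⟨_, hs⟩)

end Cfsg.Agent.PSUBin
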