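import Cfsg.Agent.Lib.Transfer.PSUThreeIndex.Main
import Cfsg.Agent.Lib.Classical.BinaryAction

/-!
# The Borel subgroup of `PSU₃(q)`, `q` even

Every element of the Borel subgroup has an affine part: a translation parameter and a multiplier.
-/

set_option autoImplicit false
set_option linter.unusedSectionVars false

namespace Cfsg.Agent.PSUBin

open Matrix Cfsg Cfsg.Agent.Classical Cfsg.Agent.Classical.PSUAut Cfsg.Agent.Fus.UnitN Cfsg.Agent.Lie.SUGen
  Cfsg.Agent.Lie.SU3Pres Cfsg.Agent.Transfer.U3Min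

variable {F : Type*} [Field F] [Fintype F] [CharP F 2] {q : ℕ} (hF : Fintype.card F = q ^ 2)

local notation "cj" => qFrob hF
local notation "h" => hermForm 3 F q
local notation "PS" => Cfsg.PSU 3 F q

variable {e n f : Fin 3 → F} (B : Frame3 q e n f)

/-- The image of a Heisenberg element. -/
noncomputable def uP (α b : F) : PS := suToPSU 3 F q (Um hF B α b)

/-- The image of a torus element. -/
noncomputable def tP (l : F) : PS := suToPSU 3 F q (Tm hF B l)

/-- The image of the Weyl element. -/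
noncomputable def wP : PS := suToPSU 3 F q (Wm hF B)

/-- The affine part of an element of the Borel subgroup. -/
def Lin (g : PS) (α m : F) : Prop :=
  ∃ b l : F, l ≠ 0 ∧ OK hF α b ∧ th hF l = m ∧ g = uP hF B α b * tP hF B l

include hF B

omit hF B in
theorem two_zero : (2 : F) = 0 := CharTwo.two_eq_zero

omit B in
theorem th_ne {l : F} (hl : l ≠ 0) : th hF l ≠ 0 := by
  have hl' : cj l ≠ 0 := (map_ne_zero (qFrob hF)).2 hl
  exact div_ne_zero (mul_ne_zero hl' hl') hl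

omit B in
theorem th_inv {l : F} (hl : l ≠ 0) : th hF l⁻¹ = (th hF l)⁻¹ := by
  refine eq_inv_of_mul_eq_one_left ?_
  rw [← th_mul, inv_mul_cancel₀ hl, th_one]

omit B in
theorem exists_ok_b (α : F) : ∃ b, OK hF α b := by
  obtain ⟨b, hb⟩ := exists_trace_eq hF (a := -(α * cj α)) (by rw [map_neg, map_mul, cj_cj hF, mul_comm])
  exact ⟨b, by simp only [OK]; linear_combination hb⟩

omit B in
theorem exists_ok_a (b : F) : ∃ α, OK hF α b := by
  obtain ⟨α, hα⟩ := Cfsg.Agent.Classical.PSUAut.exists_norm hF (a := b + cj b) (by rw [map_add, cj_cj hF, add_comm])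
  refine ⟨α, ?_⟩
  simp only [OK]
  linear_combination hα + (b + cj b) * two_zero (F := F)

theorem uP_zero : uP hF B 0 0 = 1 := by rw [uP, U_zero hF B, map_one]

theorem tP_mul {l l' : F} (hl : l ≠ 0) (hl' : l' ≠ 0) : tP hF B l * tP hF B l' = tP hF B (l * l') := by
  rw [tP, tP, tP, ← map_mul, T_mul hF B hl hl']

theorem tP_one : tP hF B 1 = 1 := by rw [tP, T_one hF B, map_one]

theorem tP_inv {l : F} (hl : l ≠ 0) : (tP hF B l)⁻¹ = tP hF B l⁻¹ :=
  inv_eq_of_mul_eq_one_right (by rw [tP_mul hF B hl (inv_ne_zero hl), mul_inv_cancel₀ hl, tP_one])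

theorem uP_mul {α b α' b' : F} (h1 : OK hF α b) (h2 : OK hF α' b') :
    uP hF B α b * uP hF B α' b' = uP hF B (α + α') (b + b' + cj α * α') := by
  rw [uP, uP, uP, ← map_mul, U_mul hF B h1 h2, CharTwo.sub_eq_add]

theorem uP_inv {α b : F} (h1 : OK hF α b) : (uP hF B α b)⁻¹ = uP hF B α (cj b) := by
  rw [uP, uP, ← map_inv, U_inv hF B h1, CharTwo.neg_eq]

theorem tP_conj {l α b : F} (hl : l ≠ 0) (h1 : OK hF α b) :
    tP hF B l * uP hF B α b = uP hF B (th hF l * α) (l * cj l * b) * tP hF B l := by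
  rw [tP, uP, uP, ← map_mul, ← map_mul, ← T_conj hF B hl h1, inv_mul_cancel_right]

/-- An element of the kernel is a torus element with trivial multiplier. -/
theorem exists_scalar {s : SU 3 F q} (hs : suToPSU 3 F q s = 1) :
    ∃ ω : F, ω ≠ 0 ∧ th hF ω = 1 ∧ s = Tm hF B ω := by
  obtain ⟨ω, hω⟩ := (pi_eq_one_iff hF).1 hs
  have hdet : ω ^ 3 = 1 := by
    have := congrArg Matrix.det hω
    rw [Matrix.det_smul, Matrix.det_one, mul_one, Fintype.card_fin,
      show (suVal s).det = 1 from (s : Matrix.SpecialLinearGroup (Fin 3) F).2] at this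
    exact this.symm
  have hω0 : ω ≠ 0 := fun h0 => by simp [h0] at hdet
  have hact : ∀ v, suVal s *ᵥ v = ω • v := fun v => by rw [hω, Matrix.smul_mulVec, Matrix.one_mulVec]
  have hN : ω * cj ω = 1 := by
    have h1 : h (suVal s *ᵥ e) (suVal s *ᵥ f) = 1 := by rw [su_form, B.P.ef]
    rw [hact, hact, h_smul_left, h_smul_right hF, B.P.ef, mul_one] at h1
    exact h1
  have hc : cj ω = ω⁻¹ := eq_inv_of_mul_eq_one_right hN
  refine ⟨ω, hω0, ?_, ext_co hF B fun x y z => ?_⟩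
  · rw [th, hc]
    field_simp
    linear_combination -hdet
  · rw [T_act hF B hω0, hact, smul_co, hc, inv_inv]
    congr 1
    field_simp
    linear_combination y * hdet

theorem tP_eq_one {l : F} (hl : l ≠ 0) (h1 : th hF l = 1) : tP hF B l = 1 := by
  have hl' : cj l ≠ 0 := (map_ne_zero (qFrob hF)).2 hl
  have hN := th_norm hF hl
  rw [h1, map_one, mul_one] at hN
  have hc : cj l = l⁻¹ := eq_inv_of_mul_eq_one_right hN.symm
  refine (pi_eq_one_iff hF).2 ⟨l, Matrix.ext_iff_mulVec.2 fun v => ?_⟩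
  obtain ⟨x, y, z, rfl⟩ := exists_co hF B v
  rw [T_act hF B hl, Matrix.smul_mulVec, Matrix.one_mulVec, smul_co, hc, inv_inv]
  congr 1
  rw [th, hc] at h1
  field_simp at h1 ⊢
  linear_combination y * h1

theorem Lin.uniq {g : PS} {α m α' m' : F} (h1 : Lin hF B g α m) (h2 : Lin hF B g α' m') : α = α' ∧ m = m' := by
  obtain ⟨b, l, hl, hb, rfl, rfl⟩ := h1
  obtain ⟨b', l', hl', hb', rfl, he⟩ := h2
  obtain ⟨ω, hω0, hω, hs⟩ := exists_scalar hF B (s := (Um hF B α b * Tm hF B l)⁻¹ * (Um hF B α' b' * Tm hF B l')) (by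
    rw [map_mul, map_inv, map_mul, map_mul, inv_mul_eq_one]
    exact he)
  rw [inv_mul_eq_iff_eq_mul, mul_assoc, T_mul hF B hl hω0] at hs
  obtain ⟨e1, -, e3⟩ := UT_inj hF B hb' hl' hb (mul_ne_zero hl hω0) hs
  exact ⟨e1.symm, by rw [e3, th_mul, hω, mul_one]⟩

theorem Lin.m_ne {g : PS} {α m : F} (h1 : Lin hF B g α m) : m ≠ 0 := by
  obtain ⟨b, l, hl, -, rfl, -⟩ := h1
  exact th_ne hF hl

theorem lin_uP {α b : F} (hb : OK hF α b) : Lin hF B (uP hF B α b) α 1 :=
  ⟨b, 1, one_ne_zero, hb, th_one hF, by rw [tP_one, mul_one]⟩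

theorem lin_tP {l : F} (hl : l ≠ 0) : Lin hF B (tP hF B l) 0 (th hF l) :=
  ⟨0, l, hl, OK.zero hF, rfl, by rw [uP_zero, one_mul]⟩

theorem lin_one : Lin hF B 1 0 1 := uP_zero hF B ▸ lin_uP hF B (OK.zero hF)

theorem Lin.mul {g g' : PS} {α m α' m' : F} (h1 : Lin hF B g α m) (h2 : Lin hF B g' α' m') :
    Lin hF B (g * g') (α + m * α') (m * m') := by
  obtain ⟨b, l, hl, hb, rfl, rfl⟩ := h1
  obtain ⟨b', l', hl', hb', rfl, rfl⟩ := h2
  refine ⟨b + l * cj l * b' + cj α * (th hF l * α'), l * l', mul_ne_zero hl hl', ?_, th_mul hF l l', ?_⟩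
  · have := hb.mul hF (hb'.scale hF hl)
    rwa [CharTwo.sub_eq_add] at this
  · rw [show uP hF B α b * tP hF B l * (uP hF B α' b' * tP hF B l') =
        uP hF B α b * (tP hF B l * uP hF B α' b') * tP hF B l' by group, tP_conj hF B hl hb',
      ← uP_mul hF B hb (hb'.scale hF hl), ← tP_mul hF B hl hl']
    group

theorem Lin.inv {g : PS} {α m : F} (h1 : Lin hF B g α m) : Lin hF B g⁻¹ (m⁻¹ * α) m⁻¹ := by
  obtain ⟨b, l, hl, hb, rfl, rfl⟩ := h1
  rw [_root_.mul_inv_rev, uP_inv hF B hb, tP_inv hF B hl]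
  have h2 : OK hF α (cj b) := by simpa [CharTwo.neg_eq] using hb.inv hF
  simpa [th_inv hF hl] using (lin_tP hF B (inv_ne_zero hl)).mul hF B (lin_uP hF B h2)

theorem Lin.conj {g x : PS} {a m c k : F} (hg : Lin hF B g a m) (hx : Lin hF B x c k) :
    Lin hF B (g * x * g⁻¹) (a * (1 + k) + m * c) k := by
  have h0 := hg.m_ne hF B
  have h1 := (hg.mul hF B hx).mul hF B (hg.inv hF B)
  rwa [show a + m * c + m * k * (m⁻¹ * a) = a * (1 + k) + m * c by field_simp; ring,
    show m * k * m⁻¹ = k by field_simp] at h1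

/-- The Borel subgroup. -/
noncomputable def borP : Subgroup PS where
  carrier := {g | ∃ α m, Lin hF B g α m}
  one_mem' := ⟨0, 1, lin_one hF B⟩
  mul_mem' := fun {a b} ⟨_, _, ha⟩ ⟨_, _, hb⟩ => ⟨_, _, ha.mul hF B hb⟩
  inv_mem' := fun {a} ⟨_, _, ha⟩ => ⟨_, _, ha.inv hF B⟩

/-- The unipotent radical. -/
noncomputable def uniP : Subgroup PS where
  carrier := {g | ∃ α, Lin hF B g α 1}
  one_mem' := ⟨0, lin_one hF B⟩
  mul_mem' := fun {a b} ⟨_, ha⟩ ⟨_, hb⟩ => ⟨_, by simpa using ha.mul hF B hb⟩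
  inv_mem' := fun {a} ⟨_, ha⟩ => ⟨_, by simpa using ha.inv hF B⟩

/-- The centre of the unipotent radical. -/
noncomputable def zenP : Subgroup PS where
  carrier := {g | Lin hF B g 0 1}
  one_mem' := lin_one hF B
  mul_mem' := fun {a b} (ha : Lin hF B a 0 1) (hb : Lin hF B b 0 1) => by
    show Lin hF B (a * b) 0 1
    simpa using ha.mul hF B hb
  inv_mem' := fun {a} (ha : Lin hF B a 0 1) => by
    show Lin hF B a⁻¹ 0 1
    simpa using ha.inv hF B

theorem mem_borP {g : PS} : g ∈ borP hF B ↔ ∃ α m, Lin hF B g α m := Iff.rfl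

theorem mem_uniP {g : PS} : g ∈ uniP hF B ↔ ∃ α, Lin hF B g α 1 := Iff.rfl

theorem mem_zenP {g : PS} : g ∈ zenP hF B ↔ Lin hF B g 0 1 := Iff.rfl

theorem uniP_le : uniP hF B ≤ borP hF B := fun _ ⟨α, hg⟩ => ⟨α, 1, hg⟩

theorem zenP_le : zenP hF B ≤ uniP hF B := fun _ hg => ⟨0, hg⟩

theorem eq_uP_of_lin {g : PS} {α : F} (hg : Lin hF B g α 1) : ∃ b, OK hF α b ∧ g = uP hF B α b := by
  obtain ⟨b, l, hl, hb, hm, rfl⟩ := hg
  exact ⟨b, hb, by rw [tP_eq_one hF B hl hm, mul_one]⟩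

theorem mem_Bor_of {s : SU 3 F q} (hs : suToPSU 3 F q s ∈ borP hF B) : s ∈ Bor B := by
  obtain ⟨α, m, b, l, hl, hb, -, he⟩ := hs
  obtain ⟨ω, hω0, -, hω⟩ := exists_scalar hF B (s := (Um hF B α b * Tm hF B l)⁻¹ * s) (by
    rw [map_mul, map_inv, map_mul, inv_mul_eq_one, he]; rfl)
  rw [inv_mul_eq_iff_eq_mul, mul_assoc, T_mul hF B hl hω0] at hω
  exact ⟨l * ω, by rw [hω, UT_e hF B hb (mul_ne_zero hl hω0)]⟩

theorem borP_mem_of {s : SU 3 F q} (hs : s ∈ Bor B) : suToPSU 3 F q s ∈ borP hF B := by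
  obtain ⟨l, hl'⟩ := hs
  obtain ⟨α, b, hl, hb, rfl⟩ := bor_form hF B hl'
  exact ⟨α, th hF l, b, l, hl, hb, rfl, by rw [map_mul]; rfl⟩

/-- A unipotent element fixes only one coset of the Borel subgroup. -/
theorem fixed {u g : PS} (hu : u ∈ uniP hF B) (hu1 : u ≠ 1) (hg : g⁻¹ * u * g ∈ borP hF B) : g ∈ borP hF B := by
  obtain ⟨α, hu⟩ := hu
  obtain ⟨b, hb, rfl⟩ := eq_uP_of_lin hF B hu
  obtain ⟨s, rfl⟩ := pi_surjective (n := 3) (F := F) (q := q) g
  refine borP_mem_of hF B (fixed_Uni hF B (u := Um hF B α b) ⟨α, b, hb, rfl⟩ ?_ (mem_Bor_of hF B ?_))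
  · intro h1
    exact hu1 (by rw [uP, h1, map_one])
  · rw [map_mul, map_mul, map_inv]
    exact hg

theorem wP_sq : wP hF B * wP hF B = 1 := by rw [wP, ← map_mul, W_sq hF B, map_one]

theorem wP_inv : (wP hF B)⁻¹ = wP hF B := inv_eq_of_mul_eq_one_right (wP_sq hF B)

theorem wP_conj {l : F} (hl : l ≠ 0) : wP hF B * tP hF B l * wP hF B = tP hF B (cj l)⁻¹ := by
  rw [wP, tP, tP, ← map_mul, ← map_mul, W_conj hF B hl]

theorem wP_not_mem : wP hF B ∉ borP hF B := by
  intro hw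
  obtain ⟨a, ha⟩ := mem_Bor_of hF B hw
  have h1 : suVal (Wm hF B) *ᵥ co e n f 1 0 0 = co e n f 0 0 1 := by rw [W_act hF B]; simp [co]
  rw [co_e, ha] at h1
  rw [show a • e = co e n f a 0 0 by simp [co]] at h1
  exact zero_ne_one (co_inj hF B h1).2.2

/-- The rank one identity. -/
theorem rank_one_P {α b : F} (h1 : OK hF α b) (hb : b ≠ 0) :
    wP hF B * uP hF B α b * wP hF B =
      uP hF B (α / b) (1 / b) * tP hF B (1 / cj b) * wP hF B * uP hF B (α / cj b) (1 / b) := by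
  simp only [wP, uP, tP, ← map_mul, rank_one hF B h1 hb, CharTwo.neg_eq]

omit B in
theorem ok_first {α b : F} (h1 : OK hF α b) (hb : b ≠ 0) : OK hF (α / b) (1 / b) := by
  simpa [CharTwo.neg_eq] using h1.first hF hb

omit B in
theorem ok_last {α b : F} (h1 : OK hF α b) (hb : b ≠ 0) : OK hF (α / cj b) (1 / b) := by
  have hb' : cj b ≠ 0 := (map_ne_zero (qFrob hF)).2 hb
  have := ok_first hF h1 hb
  simp only [OK, map_div₀, map_one, cj_cj hF] at this ⊢
  field_simp at this ⊢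
  linear_combination this

/-- The Bruhat decomposition. -/
theorem bruhat {g : PS} (hg : g ∉ borP hF B) :
    ∃ α b : F, OK hF α b ∧ ∃ c ∈ borP hF B, g = uP hF B α b * wP hF B * c := by
  obtain ⟨s, rfl⟩ := pi_surjective (n := 3) (F := F) (q := q) g
  obtain ⟨x, y, z, hv⟩ := exists_co hF B (suVal s *ᵥ e)
  have hiso : x * cj z + y * cj y + z * cj x = 0 := by rw [← B.h_co hF, ← hv, su_form, B.P.ee]
  by_cases hz : z = 0
  · subst hz
    have hy : y = 0 := by simpa using hiso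
    exact absurd (borP_mem_of hF B ⟨x, by rw [hv, hy]; simp [co]⟩) hg
  have hz' : cj z ≠ 0 := (map_ne_zero (qFrob hF)).2 hz
  have hok : OK hF (y / z) (x / z) := by
    simp only [OK, map_div₀]
    field_simp
    linear_combination hiso
  refine ⟨y / z, x / z, hok, suToPSU 3 F q ((Um hF B (y / z) (x / z) * Wm hF B)⁻¹ * s), borP_mem_of hF B ⟨z, ?_⟩, ?_⟩
  · apply Matrix.mulVec_injective_of_isUnit (A := suVal (Um hF B (y / z) (x / z) * Wm hF B))
      ((Matrix.isUnit_iff_isUnit_det _).2 (by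
        rw [show (suVal (Um hF B (y / z) (x / z) * Wm hF B)).det = 1 from
          ((Um hF B (y / z) (x / z) * Wm hF B : SU 3 F q) : Matrix.SpecialLinearGroup (Fin 3) F).2]
        exact isUnit_one))
    show suVal _ *ᵥ (suVal _ *ᵥ e) = suVal _ *ᵥ (z • e)
    have hWe : suVal (Wm hF B) *ᵥ e = co e n f 0 0 1 := by simpa [co] using W_act hF B 1 0 0
    rw [← mulVec_mul, mul_inv_cancel_left, hv, Matrix.mulVec_smul, mulVec_mul, hWe, U_act hF B hok, smul_co]
    congr 1 <;> field_simp <;> ring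
  · rw [map_mul, map_inv, map_mul]
    exact (mul_inv_cancel_left _ _).symm

/-- An involution commuting with a nontrivial central element is central. -/
theorem zen_closed {z y : PS} (hz : z ∈ zenP hF B) (hz1 : z ≠ 1) (hy : y * y = 1) (hc : Commute z y) :
    y ∈ zenP hF B := by
  obtain ⟨α, m, hL⟩ := fixed hF B (zenP_le hF B hz) hz1 (g := y) (by
    rw [mul_assoc, hc.eq, inv_mul_cancel_left]
    exact uniP_le hF B (zenP_le hF B hz))
  have h1 := hL.mul hF B hL
  rw [hy] at h1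
  obtain ⟨e1, e2⟩ := (lin_one hF B).uniq hF B h1
  have hm : m = 1 := CharTwo.sq_inj.1 (by rw [sq, ← e2, one_pow])
  subst hm
  obtain ⟨b, hb, rfl⟩ := eq_uP_of_lin hF B hL
  rw [uP_mul hF B hb hb, CharTwo.add_self_eq_zero, CharTwo.add_self_eq_zero, zero_add] at hy
  have h2 : OK hF 0 (cj α * α) := by
    have := hb.mul hF hb
    rwa [CharTwo.sub_eq_add, CharTwo.add_self_eq_zero, CharTwo.add_self_eq_zero, zero_add] at this
  have h3 : Um hF B 0 (cj α * α) = 1 := by
    obtain ⟨ω, hω0, -, hω⟩ := exists_scalar hF B (s := Um hF B 0 (cj α * α)) hy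
    obtain ⟨-, e3, -⟩ := UT_inj hF B h2 one_ne_zero (OK.zero hF) hω0 (by
      rw [T_one hF B, mul_one, U_zero hF B, one_mul]; exact hω)
    rw [e3, U_zero hF B]
  have h4 : α = 0 := by
    have := (U_eq_one hF B h2 h3).2
    rcases mul_eq_zero.1 this with h0 | h0
    · exact (map_eq_zero (qFrob hF)).1 h0
    · exact h0
  subst h4
  exact lin_uP hF B hb

theorem zen_sq {z : PS} (hz : z ∈ zenP hF B) : z * z = 1 := by
  obtain ⟨b, hb, rfl⟩ := eq_uP_of_lin hF B hz
  rw [uP_mul hF B hb hb, CharTwo.add_self_eq_zero, CharTwo.add_self_eq_zero, map_zero, zero_mul, add_zero,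
    uP_zero]

theorem center_uniP : (Subgroup.center (uniP hF B)).map (uniP hF B).subtype = zenP hF B := by
  ext g
  constructor
  · rintro ⟨⟨g, hg⟩, hgc, rfl⟩
    obtain ⟨α, hα⟩ := hg
    obtain ⟨b, hb, rfl⟩ := eq_uP_of_lin hF B hα
    obtain ⟨x, hx⟩ := exists_trace_eq hF (a := (1 : F)) (map_one _)
    have key : ∀ β : F, cj α * β = cj β * α := by
      intro β
      obtain ⟨c, hc⟩ := exists_ok_b hF β
      have := congrArg Subtype.val (Subgroup.mem_center_iff.1 hgc ⟨uP hF B β c, β, lin_uP hF B hc⟩)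
      change uP hF B β c * uP hF B α b = uP hF B α b * uP hF B β c at this
      rw [uP_mul hF B hc hb, uP_mul hF B hb hc] at this
      obtain ⟨s1, s2⟩ : OK hF (β + α) (c + b + cj β * α) ∧ OK hF (α + β) (b + c + cj α * β) :=
        ⟨by simpa [CharTwo.sub_eq_add] using hc.mul hF hb, by simpa [CharTwo.sub_eq_add] using hb.mul hF hc⟩
      obtain ⟨ω, hω0, -, hω⟩ := exists_scalar hF B
        (s := (Um hF B (α + β) (b + c + cj α * β))⁻¹ * Um hF B (β + α) (c + b + cj β * α))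
        (by rw [map_mul, map_inv, inv_mul_eq_one]; exact this.symm)
      rw [inv_mul_eq_iff_eq_mul] at hω
      obtain ⟨-, e2, -⟩ := UT_inj hF B s1 one_ne_zero s2 hω0 (by rw [T_one hF B, mul_one]; exact hω)
      linear_combination -e2
    have h1 := key 1
    have h2 := key x
    rw [mul_one, map_one, one_mul] at h1
    rw [h1] at h2
    have h0 : α = 0 := by linear_combination h2 - α * hx + α * cj x * two_zero (F := F)
    subst h0
    exact lin_uP hF B hb
  · intro hg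
    refine ⟨⟨g, zenP_le hF B hg⟩, Subgroup.mem_center_iff.2 fun ⟨y, hy⟩ => Subtype.ext ?_, rfl⟩
    obtain ⟨β, hy⟩ := hy
    obtain ⟨c, hc, rfl⟩ := eq_uP_of_lin hF B hy
    obtain ⟨b, hb, rfl⟩ := eq_uP_of_lin hF B hg
    show uP hF B β c * uP hF B 0 b = uP hF B 0 b * uP hF B β c
    rw [uP_mul hF B hc hb, uP_mul hF B hb hc, add_zero, zero_add, map_zero, zero_mul, mul_zero, add_zero,
      add_zero, add_comm b c]

/-- The unipotent radical is a Sylow 2-subgroup. -/
theorem exists_sylow : ∃ P : Sylow 2 PS, (P : Subgroup PS) = uniP hF B := by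
  haveI : Fact (Nat.Prime 2) := ⟨Nat.prime_two⟩
  have heq : uniP hF B = (Uni hF B).map (suToPSU 3 F q) := by
    ext g
    constructor
    · rintro ⟨α, hg⟩
      obtain ⟨b, hb, rfl⟩ := eq_uP_of_lin hF B hg
      exact ⟨_, ⟨α, b, hb, rfl⟩, rfl⟩
    · rintro ⟨-, ⟨α, b, hb, rfl⟩, rfl⟩
      exact ⟨α, lin_uP hF B hb⟩
  have hq : Even q := by
    obtain ⟨k, hk⟩ := FiniteField.card F 2
    exact ((Nat.even_pow).1 (show Even (q ^ 2) by rw [← hF, hk.2]; exact Nat.even_pow.2 ⟨even_two, k.pos.ne'⟩)).1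
  have hq1 : 1 ≤ q := by have := two_le_q hF; omega
  have hexp : ∀ g : SU 3 F q, g ∈ Uni hF B → g ^ 4 = 1 := by
    rintro _ ⟨α, b, hb, rfl⟩
    have hN : OK hF 0 (cj α * α) := by
      have := hb.mul hF hb
      rwa [CharTwo.sub_eq_add, CharTwo.add_self_eq_zero, CharTwo.add_self_eq_zero, zero_add] at this
    rw [show 4 = 2 * 2 from rfl, pow_mul, pow_two, pow_two, U_mul hF B hb hb, CharTwo.sub_eq_add,
      CharTwo.add_self_eq_zero, CharTwo.add_self_eq_zero, zero_add, U_mul hF B hN hN]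
    simp only [CharTwo.add_self_eq_zero, map_zero, zero_mul, sub_zero, U_zero hF B]
  have hp : IsPGroup 2 (uniP hF B) := by
    rw [heq]
    exact IsPGroup.map (fun g => ⟨2, Subtype.ext (hexp g.1 g.2)⟩) _
  refine ⟨hp.toSylow (fun h2 => ?_), rfl⟩
  rw [heq] at h2
  have h3 := h2.trans (Subgroup.index_map_dvd (Uni hF B) pi_surjective)
  rw [← Subgroup.relIndex_mul_index (Uni_le_Bor hF B), index_Bor hF B] at h3
  have hU : Nat.card (Uni hF B) = q ^ 3 := by
    have hc0 := card_inf_Uni hF B ⊤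
    rw [top_inf_eq] at hc0
    have hb := card_inf_Bor hF B ⊤
    rw [top_inf_eq, card_Bor hF B, top_inf_eq] at hb
    have ht : tSet B ⊤ = ⊤ := eq_top_iff.2 fun l _ =>
      (mem_tSet hF B).2 ⟨Tm hF B (l : F), Subgroup.mem_top _, T_e hF B l.ne_zero⟩
    rw [ht, Subgroup.card_top, Nat.card_units, Nat.card_eq_fintype_card (α := F), hF] at hb
    exact (Nat.eq_of_mul_eq_mul_right
      (Nat.sub_pos_of_lt (Nat.one_lt_pow two_ne_zero (by have := two_le_q hF; omega))) hb).symm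
  have hr : (Uni hF B).relIndex (Bor B) = q ^ 2 - 1 := by
    have := Subgroup.card_mul_index ((Uni hF B).subgroupOf (Bor B))
    rw [Nat.card_congr (Subgroup.subgroupOfEquivOfLe (Uni_le_Bor hF B)).toEquiv, hU, card_Bor hF B] at this
    exact Nat.eq_of_mul_eq_mul_left (pow_pos (by omega) 3) this
  rw [hr] at h3
  exact Nat.not_even_iff_odd.2
    ((Nat.Even.sub_odd (Nat.one_le_pow _ _ (by omega)) (hq.pow_of_ne_zero two_ne_zero) odd_one).mul
      (hq.pow_of_ne_zero three_ne_zero).add_one) (even_iff_two_dvd.2 h3)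

end Cfsg.Agent.PSUBin
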