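import Cfsg.Agent.Lib.Classical.PSUBinaryModel
import Cfsg.Agent.Lib.Classical.BinaryInvolution

/-!
# Non-binary coset actions of `PSU₃(q)` inside the Borel subgroup

Three witnesses: a triangle of torus elements, a triangle of elements of order four permuted by an element
of order three, and four points.
-/

set_option autoImplicit false
set_option linter.unusedSectionVars false

namespace Cfsg.Agent.PSUBin

open Cfsg Cfsg.Agent.BinAct Cfsg.Agent.Classical Cfsg.Agent.Classical.PSUAut Cfsg.Agent.Fus.UnitN Cfsg.Agent.Lie.SUGen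
  Cfsg.Agent.Lie.SU3Pres

variable {F : Type*} [Field F] [Fintype F] [CharP F 2] {q : ℕ} (hF : Fintype.card F = q ^ 2)

local notation "cj" => qFrob hF
local notation "PS" => Cfsg.PSU 3 F q

variable {e n f : Fin 3 → F} (B : Frame3 q e n f)

include hF B

/-- The translation parameters of a subgroup. -/
noncomputable def wS (H : Subgroup PS) : AddSubgroup F where
  carrier := {α | ∃ g ∈ H, Lin hF B g α 1}
  zero_mem' := ⟨1, one_mem H, lin_one hF B⟩
  add_mem' := fun {a b} ⟨g, hg, hga⟩ ⟨g', hg', hgb⟩ => ⟨g * g', mul_mem hg hg', by simpa using hga.mul hF B hgb⟩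
  neg_mem' := fun {a} ha => by rw [CharTwo.neg_eq]; exact ha

theorem mem_wS {H : Subgroup PS} {α : F} : α ∈ wS hF B H ↔ ∃ g ∈ H, Lin hF B g α 1 := Iff.rfl

theorem wS_stable {H : Subgroup PS} {g : PS} {a m α : F} (hg : g ∈ H) (hgl : Lin hF B g a m)
    (hα : α ∈ wS hF B H) : m * α ∈ wS hF B H := by
  obtain ⟨x, hx, hxl⟩ := hα
  refine ⟨g * x * g⁻¹, mul_mem (mul_mem hg hx) (inv_mem hg), ?_⟩
  have := hgl.conj hF B hxl
  rwa [CharTwo.add_self_eq_zero, mul_zero, zero_add] at this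

theorem uniP_le_of_top {H : Subgroup PS} (hz : zenP hF B ≤ H) (ht : wS hF B H = ⊤) : uniP hF B ≤ H := by
  rintro g ⟨α, hg⟩
  obtain ⟨x, hx, hxl⟩ := (mem_wS hF B).1 (ht ▸ AddSubgroup.mem_top α : α ∈ wS hF B H)
  have h1 : Lin hF B (x⁻¹ * g) 0 1 := by
    simpa [CharTwo.add_self_eq_zero] using (hxl.inv hF B).mul hF B hg
  simpa using mul_mem hx (hz h1)

/-- A triangle of torus elements. -/
theorem not_isBin_torus {H : Subgroup PS} (hz : zenP hF B ≤ H) {l : F} (hl : l ≠ 0) (hm : th hF l ≠ 1)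
    (hτ : tP hF B l ∈ H) (hW : wS hF B H ≠ ⊤)
    (hD : ∀ β, β ∉ wS hF B H → ∀ u : PS, Lin hF B u β 1 → ∀ g ∈ H, g ∈ stab H u → g ∈ borP hF B) :
    ¬ IsBin H := by
  obtain ⟨α, hα⟩ : ∃ α, α ∉ wS hF B H := by
    by_contra h
    push Not at h
    exact hW (eq_top_iff.2 fun a _ => h a)
  set m := th hF l with hmdef
  have hτl : Lin hF B (tP hF B l) 0 m := lin_tP hF B hl
  have hα1 : m * α ∉ wS hF B H := fun h => hα (by
    have := wS_stable hF B (inv_mem hτ) (hτl.inv hF B) h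
    rwa [← mul_assoc, inv_mul_cancel₀ (th_ne hF hl), one_mul] at this)
  -- elements of the stabiliser of a translated point are unipotent
  have hU : ∀ β, β ∉ wS hF B H → ∀ u : PS, Lin hF B u β 1 → ∀ g ∈ H, g ∈ stab H u → g ∈ uniP hF B := by
    intro β hβ u hu g hg hgu
    obtain ⟨a, k, hgl⟩ := hD β hβ u hu g hg hgu
    by_cases hk : k = 1
    · exact ⟨a, hk ▸ hgl⟩
    exfalso
    have h1 := (hu.inv hF B).conj hF B hgl
    rw [inv_one, one_mul, one_mul, inv_inv] at h1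
    have h2 : (1 + k) * β ∈ wS hF B H := ⟨_, mul_mem (mem_stab.1 hgu) (inv_mem hg), by
      have h3 := h1.mul hF B (hgl.inv hF B)
      have hk0 := hgl.m_ne hF B
      rwa [show β * (1 + k) + a + k * (k⁻¹ * a) = (1 + k) * β by
        field_simp; linear_combination a * two_zero (F := F), mul_inv_cancel₀ hk0] at h3⟩
    have hstab : ∀ x ∈ wS hF B H, (1 + k) * x ∈ wS hF B H := fun x hx => by
      rw [add_mul, one_mul]; exact add_mem hx (wS_stable hF B hg hgl hx)
    let φ : wS hF B H → wS hF B H := fun x => ⟨(1 + k) * x.1, hstab _ x.2⟩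
    have hk1 : (1 + k) ≠ 0 := fun h0 => hk (CharTwo.add_eq_zero.1 h0).symm
    have hφ : Function.Injective φ := fun x y hxy => Subtype.ext (mul_left_cancel₀ hk1 (congrArg Subtype.val hxy))
    obtain ⟨x, hx⟩ := Finite.injective_iff_surjective.1 hφ ⟨_, h2⟩
    exact hβ (mul_left_cancel₀ hk1 (congrArg Subtype.val hx) ▸ x.2)
  obtain ⟨b1, hb1⟩ := exists_ok_b hF (m * α)
  obtain ⟨b2, hb2⟩ := exists_ok_b hF α
  set u1 := uP hF B (m * α) b1
  set u2 := uP hF B α b2
  have hu1 : Lin hF B u1 (m * α) 1 := lin_uP hF B hb1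
  have hu2 : Lin hF B u2 α 1 := lin_uP hF B hb2
  set x := u1 * tP hF B l * u1⁻¹ * (u2 * tP hF B l * u2⁻¹) with hxdef
  have hxl : Lin hF B x 0 (m * m) := by
    have h1 := (hu1.conj hF B hτl).mul hF B (hu2.conj hF B hτl)
    rwa [show m * α * (1 + m) + 1 * 0 + m * (α * (1 + m) + 1 * 0) = 0 by
      linear_combination m * α * (1 + m) * two_zero (F := F)] at h1
  have hx : x ∈ H := by
    have h1 : x * (tP hF B l * tP hF B l)⁻¹ ∈ zenP hF B := by
      have := hxl.mul hF B ((hτl.mul hF B hτl).inv hF B)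
      rwa [mul_zero, add_zero, mul_zero, mul_zero, add_zero,
        mul_inv_cancel₀ (mul_ne_zero (th_ne hF hl) (th_ne hF hl))] at this
    have := mul_mem (hz h1) (mul_mem hτ hτ)
    rwa [inv_mul_cancel_right] at this
  refine not_isBin u1 u2 x (tP hF B l) (tP hF B l) hx hτ hτ hxdef fun d d' hd hda hd' hdb heq => hm ?_
  obtain ⟨a1, h1⟩ := hU _ hα1 u1 hu1 d hd hda
  obtain ⟨a2, h2⟩ := hU _ hα u2 hu2 d' hd' hdb
  rw [heq] at hxl
  have h3 := ((h1.mul hF B h2).uniq hF B hxl).2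
  exact CharTwo.sq_inj.1 (by rw [sq, sq, mul_one, ← h3, mul_one])

/-- An element of order three outside the Borel subgroup. -/
theorem cube {α β l : F} (hok : OK hF α β) (hl : l ≠ 0) (hβ : β * (l * l) = cj l) :
    uP hF B α β * wP hF B * tP hF B l * (uP hF B α β * wP hF B * tP hF B l) *
      (uP hF B α β * wP hF B * tP hF B l) = 1 := by
  have hl' : cj l ≠ 0 := (map_ne_zero (qFrob hF)).2 hl
  have hb : β = cj l / (l * l) := by rw [eq_div_iff (mul_ne_zero hl hl)]; exact hβ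
  set X := uP hF B α β
  set T := tP hF B l
  set w := wP hF B
  have hb' : l * cj l * β = th hF l := by rw [hb, th]; field_simp
  have hok' := hok.scale hF hl
  rw [hb'] at hok'
  have hth0 := th_ne hF hl
  set m := (cj l)⁻¹ * l with hmdef
  have hm0 : m ≠ 0 := mul_ne_zero (inv_ne_zero hl') hl
  have hcb : cj β = 1 / th hF l := by
    rw [hb, th, map_div₀, map_mul, cj_cj hF]; field_simp
  have hokX : OK hF α (cj β) := by simpa [CharTwo.neg_eq] using hok.inv hF
  have e1 : T * X = uP hF B (th hF l * α) (th hF l) * T := by rw [tP_conj hF B hl hok, hb']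
  have e2 : T * w * T = w * tP hF B m := by
    calc T * w * T = (w * w) * T * w * T := by rw [wP_sq hF B, one_mul]
      _ = w * ((w * T * w) * T) := by group
      _ = w * tP hF B m := by rw [wP_conj hF B hl, tP_mul hF B (inv_ne_zero hl') hl]
  have e3 : 1 / cj (th hF l) = β := by
    rw [one_div, ← map_inv₀, ← one_div, ← hcb, cj_cj hF]
  have e4 : uP hF B (th hF l * α / cj (th hF l)) (cj β) * tP hF B m = tP hF B m * uP hF B α (cj β) := by
    rw [tP_conj hF B hm0 hokX]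
    congr 2
    · rw [hmdef, th, th]
      simp only [map_mul, map_inv₀, map_div₀, cj_cj hF]
      field_simp
    · rw [hmdef, map_mul, map_inv₀, cj_cj hF]
      field_simp
  have key : X * w * T * (X * w * T) = T⁻¹ * w * X⁻¹ := by
    calc X * w * T * (X * w * T) = X * w * (T * X) * (w * T) := by group
      _ = X * (w * uP hF B (th hF l * α) (th hF l) * w) * (w * (T * w * T)) := by
          rw [e1]
          calc X * w * (uP hF B (th hF l * α) (th hF l) * T) * (w * T) =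
              X * w * uP hF B (th hF l * α) (th hF l) * ((w * w) * (T * w * T)) := by
                rw [wP_sq hF B, one_mul]; group
            _ = _ := by group
      _ = X * (uP hF B α (cj β) * tP hF B β * w * uP hF B (th hF l * α / cj (th hF l)) (cj β)) * (w * (w * tP hF B m)) := by
          rw [rank_one_P hF B hok' hth0, mul_div_cancel_left₀ α hth0, e3, ← hcb, e2]
      _ = (X * uP hF B α (cj β)) * tP hF B β * w *
          (uP hF B (th hF l * α / cj (th hF l)) (cj β) * tP hF B m) := by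
          rw [← mul_assoc w w, wP_sq hF B, one_mul]; group
      _ = tP hF B β * w * (tP hF B m * X⁻¹) := by
          rw [e4, ← uP_inv hF B hok, mul_inv_cancel, one_mul]
      _ = (tP hF B β * (w * tP hF B m * w)) * (w * X⁻¹) := by
          calc tP hF B β * w * (tP hF B m * X⁻¹) = tP hF B β * (w * tP hF B m) * ((w * w) * X⁻¹) := by
                rw [wP_sq hF B, one_mul]; group
            _ = _ := by group
      _ = T⁻¹ * w * X⁻¹ := by
          rw [wP_conj hF B hm0, tP_mul hF B (hb ▸ div_ne_zero hl' (mul_ne_zero hl hl))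
            (inv_ne_zero ((map_ne_zero (qFrob hF)).2 hm0)), tP_inv hF B hl, ← mul_assoc]
          congr 3
          rw [hb, hmdef, map_mul, map_inv₀, cj_cj hF]
          field_simp
  rw [key]
  calc T⁻¹ * w * X⁻¹ * (X * w * T) = T⁻¹ * (w * w) * T := by group
    _ = 1 := by rw [wP_sq hF B, mul_one, inv_mul_cancel]

omit B in
theorem exists_mu (h4 : 4 ≤ q) : ∃ μ : F, μ ≠ 0 ∧ cj (cj μ / (μ * μ)) ≠ cj μ / (μ * μ) := by
  obtain ⟨ζ, hζ⟩ := IsCyclic.exists_ofOrder_eq_natCard (α := Fˣ)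
  refine ⟨ζ, ζ.ne_zero, fun h => ?_⟩
  have hζ' : cj (ζ : F) ≠ 0 := (map_ne_zero (qFrob hF)).2 ζ.ne_zero
  rw [map_div₀, map_mul, cj_cj hF] at h
  field_simp at h
  have h1 : (ζ : F) ^ (3 * q) = (ζ : F) ^ 3 := by
    rw [mul_comm 3 q, pow_mul, ← qFrob_apply hF]
    linear_combination -h
  have h2 : ζ ^ (3 * q - 3) = 1 := by
    have h3 : ζ ^ (3 * q - 3) * ζ ^ 3 = 1 * ζ ^ 3 := by
      rw [← pow_add, Nat.sub_add_cancel (by omega), one_mul]
      exact Units.ext (by push_cast; exact h1)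
    exact mul_right_cancel h3
  have h5 := Nat.le_of_dvd (by omega) (hζ ▸ orderOf_dvd_of_pow_eq_one h2)
  rw [Nat.card_units, Nat.card_eq_fintype_card, hF] at h5
  have : 4 * q ≤ q ^ 2 := by rw [sq]; exact Nat.mul_le_mul_right q h4
  omega

/-- A triangle of elements of order four. -/
theorem not_isBin_four (h4 : 4 ≤ q) {H : Subgroup PS} (hU : H ≤ uniP hF B) {h₀ : PS} (hh : h₀ ∈ H) {α₀ : F}
    (hhl : Lin hF B h₀ α₀ 1) (hα₀ : α₀ ≠ 0) : ¬ IsBin H := by
  obtain ⟨b₀, hb₀, rfl⟩ := eq_uP_of_lin hF B hhl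
  obtain ⟨μ, hμ, hc⟩ := exists_mu hF h4
  set c := cj μ / (μ * μ) with hcdef
  set tc := c + cj c with htc
  have htc0 : tc ≠ 0 := fun h0 => hc (CharTwo.add_eq_zero.1 h0).symm
  have hb₀0 := hb₀.b_ne hF hα₀
  have hα₀' : cj α₀ ≠ 0 := (map_ne_zero (qFrob hF)).2 hα₀
  set α := b₀ / cj α₀
  have hα : α ≠ 0 := div_ne_zero hb₀0 hα₀'
  set r := tc / (α * cj α) with hr
  have hs0 : α * cj α ≠ 0 := mul_ne_zero hα ((map_ne_zero (qFrob hF)).2 hα)
  have hr0 : r ≠ 0 := div_ne_zero htc0 hs0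
  have hrr : cj r = r := by
    rw [hr, map_div₀, map_mul, cj_cj hF, htc, map_add, cj_cj hF, mul_comm (cj α) α, add_comm (cj c) c]
  set l := μ * r
  set β := c / r
  have hl : l ≠ 0 := mul_ne_zero hμ hr0
  have hβl : β * (l * l) = cj l := by
    simp only [β, l, hcdef, map_mul, hrr]
    field_simp
  have hok : OK hF α β := by
    have h1 : β + cj β = α * cj α := by
      simp only [β, map_div₀, hrr]
      rw [← add_div, ← htc, hr, div_div_eq_mul_div, mul_div_cancel_left₀ _ htc0]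
    simp only [OK]
    linear_combination h1 + α * cj α * two_zero (F := F)
  set g := uP hF B α β * wP hF B * tP hF B l with hg
  have hg3 : g * g * g = 1 := cube hF B hok hl hβl
  have hbb : b₀ + β + cj α₀ * α = β := by
    simp only [α]
    rw [mul_div_cancel₀ _ hα₀']
    linear_combination b₀ * two_zero (F := F)
  have hok2 : OK hF (α₀ + α) β := by
    have := hb₀.mul hF hok
    rwa [CharTwo.sub_eq_add, hbb] at this
  have hhg : uP hF B α₀ b₀ * g = uP hF B (α₀ + α) β * wP hF B * tP hF B l := by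
    rw [hg, ← mul_assoc, ← mul_assoc, uP_mul hF B hb₀ hok, hbb]
  have hhg3 := cube hF B hok2 hl hβl
  rw [← hhg] at hhg3
  set hh0 := uP hF B α₀ b₀
  have hne : hh0 ≠ 1 := fun e1 => hα₀ ((hhl.uniq hF B (e1 ▸ lin_one hF B)).1)
  have hgB : g ∉ borP hF B := fun hgb => wP_not_mem hF B (by
    have h1 := mul_mem (mul_mem (inv_mem (show uP hF B α β ∈ borP hF B from ⟨_, _, lin_uP hF B hok⟩)) hgb)
      (inv_mem (show tP hF B l ∈ borP hF B from ⟨_, _, lin_tP hF B hl⟩))
    simpa [hg, mul_assoc] using h1)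
  have hg2 : g * g ∉ borP hF B := fun hgb => hgB (by
    rw [show g = (g * g)⁻¹ from eq_inv_of_mul_eq_one_right hg3]
    exact inv_mem hgb)
  have hD : ∀ {a : PS}, a ∉ borP hF B → ∀ d ∈ H, d ∈ stab H a → d = 1 := by
    intro a ha d hd hda
    by_contra hd1
    exact ha (fixed hF B (hU hd) hd1 (uniP_le hF B (hU (mem_stab.1 hda))))
  refine not_isBin g (g * g) hh0⁻¹ hh0 hh0 (inv_mem hh) hh hh ?_ fun d d' hd hda hd' hdb heq => hne ?_
  · refine inv_eq_of_mul_eq_one_right ?_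
    calc hh0 * (g * hh0 * g⁻¹ * (g * g * hh0 * (g * g)⁻¹)) =
        (hh0 * g) * (hh0 * g) * (hh0 * g) * (g * g * g)⁻¹ := by group
      _ = 1 := by rw [hhg3, hg3, inv_one, mul_one]
  · rw [hD hgB d hd hda, hD hg2 d' hd' hdb, mul_one] at heq
    exact inv_eq_one.1 heq

/-- A Borel element moved into the Borel subgroup by the Weyl element is a torus element. -/
theorem torus_of_conj {g : PS} {a m : F} (hg : Lin hF B g a m) (hw : wP hF B * g * wP hF B ∈ borP hF B) :
    a = 0 ∧ (m = 1 → g = 1) := by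
  obtain ⟨b, l, hl, hb, hm, rfl⟩ := hg
  have h1 : wP hF B * uP hF B a b * wP hF B ∈ borP hF B := by
    have h2 := mul_mem hw (inv_mem (show wP hF B * tP hF B l * wP hF B ∈ borP hF B by
      rw [wP_conj hF B hl]
      exact ⟨_, _, lin_tP hF B (inv_ne_zero ((map_ne_zero (qFrob hF)).2 hl))⟩))
    rwa [show wP hF B * (uP hF B a b * tP hF B l) * wP hF B * (wP hF B * tP hF B l * wP hF B)⁻¹ =
      wP hF B * uP hF B a b * (wP hF B)⁻¹ by
        rw [_root_.mul_inv_rev, _root_.mul_inv_rev, wP_inv]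
        calc wP hF B * (uP hF B a b * tP hF B l) * wP hF B * (wP hF B * ((tP hF B l)⁻¹ * wP hF B)) =
            wP hF B * uP hF B a b * (tP hF B l * (wP hF B * wP hF B) * (tP hF B l)⁻¹) * wP hF B := by group
          _ = _ := by rw [wP_sq hF B, mul_one, mul_inv_cancel, mul_one], wP_inv] at h2
  have h3 : uP hF B a b = 1 := by
    by_contra hne
    exact wP_not_mem hF B (fixed hF B ⟨a, lin_uP hF B hb⟩ hne (by rwa [wP_inv]))
  refine ⟨((h3 ▸ lin_uP hF B hb : Lin hF B 1 a 1).uniq hF B (lin_one hF B)).1, fun h1' => ?_⟩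
  rw [h3, one_mul, tP_eq_one hF B hl (hm.trans h1')]

set_option maxHeartbeats 2000000 in
/-- Four points when the unipotent radical lies in the stabiliser. -/
theorem not_isBin_points {H : Subgroup PS} (hU : uniP hF B ≤ H) (hB : H ≤ borP hF B) {l : F} (hl : l ≠ 0)
    (hm : th hF l ≠ 1) (hτ : tP hF B l ∈ H) : ¬ IsBin H := by
  intro hb
  obtain ⟨b₀, hb₀⟩ := exists_ok_b hF (1 : F)
  have hb₀0 := hb₀.b_ne hF one_ne_zero
  have hl' : cj l ≠ 0 := (map_ne_zero (qFrob hF)).2 hl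
  set w := wP hF B
  set h₀ := uP hF B 1 b₀
  have hh : h₀ ∈ H := hU ⟨_, lin_uP hF B hb₀⟩
  have hmemU : ∀ {α b : F}, OK hF α b → uP hF B α b ∈ H := fun hab => hU ⟨_, lin_uP hF B hab⟩
  have hwi : w⁻¹ = w := wP_inv hF B
  have hww : w * w = 1 := wP_sq hF B
  have pair : ∀ α β m : F, OK hF α β → β ≠ 0 → m ≠ 0 → tP hF B m ∈ H → (β + b₀ + cj α) * cj m = β →
      ∃ x : PS, x • (QuotientGroup.mk ((uP hF B α β)⁻¹ * w) : PS ⧸ H) = QuotientGroup.mk ((uP hF B α β)⁻¹ * w) ∧
        x • (QuotientGroup.mk w : PS ⧸ H) = QuotientGroup.mk (h₀ * w) := by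
    intro α β m hok hβ hm0 hmH hrel
    set b' := β + b₀ + cj α
    have hb'0 : b' ≠ 0 := fun h0 => hβ (by rw [← hrel, h0, zero_mul])
    have hok' : OK hF (α + 1) b' := by
      have := hok.mul hF hb₀
      rwa [CharTwo.sub_eq_add, mul_one] at this
    have hvh : uP hF B α β * h₀ = uP hF B (α + 1) b' := by rw [uP_mul hF B hok hb₀, mul_one]
    set Ua := uP hF B (α / β) (1 / β) with hUa
    set Ua' := uP hF B ((α + 1) / b') (1 / b') with hUa'
    set k := Ua' * tP hF B m * Ua⁻¹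
    have hk : k ∈ H := mul_mem (mul_mem (hmemU (ok_first hF hok' hb'0)) hmH) (inv_mem (hmemU (ok_first hF hok hβ)))
    refine ⟨(uP hF B α β)⁻¹ * w⁻¹ * k * w * uP hF B α β, smul_mk_self_iff.2 (mem_stab.2 ?_), smul_mk_eq_iff.2 ?_⟩
    · rw [show ((uP hF B α β)⁻¹ * w)⁻¹ * ((uP hF B α β)⁻¹ * w⁻¹ * k * w * uP hF B α β) * ((uP hF B α β)⁻¹ * w) =
        (w⁻¹ * w⁻¹) * k * (w * w) by group, hwi, hww, one_mul, mul_one]
      exact hk
    · have hu1 := rank_one_P hF B hok hβ
      have hu2 := rank_one_P hF B hok' hb'0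
      rw [show (h₀ * w)⁻¹ * ((uP hF B α β)⁻¹ * w⁻¹ * k * w * uP hF B α β) * w =
        (w * (uP hF B α β * h₀) * w)⁻¹ * k * (w * uP hF B α β * w) by group, hvh, hu1, hu2,
        ← hUa, ← hUa']
      set Ub := uP hF B (α / cj β) (1 / β)
      set Ub' := uP hF B ((α + 1) / cj b') (1 / b')
      have hc1 : cj b' ≠ 0 := (map_ne_zero (qFrob hF)).2 hb'0
      have hc2 : cj β ≠ 0 := (map_ne_zero (qFrob hF)).2 hβ
      have ht : (tP hF B (1 / cj b'))⁻¹ * tP hF B m * tP hF B (1 / cj β) = 1 := by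
        rw [tP_inv hF B (one_div_ne_zero hc1), tP_mul hF B (inv_ne_zero (one_div_ne_zero hc1)) hm0,
          tP_mul hF B (mul_ne_zero (inv_ne_zero (one_div_ne_zero hc1)) hm0) (one_div_ne_zero hc2)]
        refine (congrArg (tP hF B) ?_).trans (tP_one hF B)
        have := congrArg cj hrel
        rw [map_mul, cj_cj hF] at this
        field_simp
        linear_combination this
      rw [show (Ua' * tP hF B (1 / cj b') * w * Ub')⁻¹ * k * (Ua * tP hF B (1 / cj β) * w * Ub) =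
        Ub'⁻¹ * w⁻¹ * ((tP hF B (1 / cj b'))⁻¹ * tP hF B m * tP hF B (1 / cj β)) * w * Ub by
          simp only [k]; group, ht, mul_one, inv_mul_cancel_right]
      exact mul_mem (inv_mem (hmemU (ok_last hF hok' hb'0))) (hmemU (ok_last hF hok hβ))
  -- the first point
  obtain ⟨β₁, hok₁⟩ := exists_ok_b hF (cj b₀)
  have hβ₁ : β₁ ≠ 0 := hok₁.b_ne hF ((map_ne_zero (qFrob hF)).2 hb₀0)
  obtain ⟨x₁, hx₁, hx₁'⟩ := pair (cj b₀) β₁ 1 hok₁ hβ₁ one_ne_zero (by rw [tP_one]; exact one_mem H) (by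
    rw [map_one, mul_one, cj_cj hF, add_assoc, CharTwo.add_self_eq_zero, add_zero])
  -- the second point
  set k := 1 + 1 / cj l with hkdef
  have hk0 : k ≠ 0 := fun h0 => hm (by
    have h1 : cj l = 1 := by
      have h2 := CharTwo.add_eq_zero.1 h0
      field_simp at h2
      exact h2
    have h3 : l = 1 := by rw [← cj_cj hF l, h1, map_one]
    rw [h3, th_one])
  have hk0' : cj k ≠ 0 := (map_ne_zero (qFrob hF)).2 hk0
  set M := (1 / cj k + b₀) / k with hMdef
  obtain ⟨η, hη⟩ := Cfsg.Agent.Classical.PSUAut.exists_norm hF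
    (a := (1 / (k * cj k) + (M + cj M)) / (k * cj k))
    (by simp only [map_div₀, map_add, map_mul, map_one, cj_cj hF, mul_comm (cj k) k, add_comm (cj M) M])
  set β₂ := η + M
  set α₂ := cj (k * β₂ + b₀) with hα₂
  have hsum : k * β₂ + b₀ = k * η + 1 / cj k := by
    simp only [β₂, hMdef]
    field_simp
    linear_combination b₀ * cj k * two_zero (F := F)
  have hok₂ : OK hF α₂ β₂ := by
    simp only [OK, hα₂, cj_cj hF, hsum]
    have hη' : η * cj η * (k * cj k) = 1 / (k * cj k) + (M + cj M) := by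
      rw [hη, div_mul_cancel₀ _ (mul_ne_zero hk0 hk0')]
    simp only [β₂, map_add, map_mul, map_div₀, map_one, cj_cj hF]
    field_simp at hη' ⊢
    linear_combination hη' + (M + cj M) * k * cj k * two_zero (F := F) + η * k * cj k * two_zero (F := F) +
      cj η * k * cj k * two_zero (F := F) + two_zero (F := F)
  have hβ₂ : β₂ ≠ 0 := fun h0 => by
    have := hok₂
    simp only [OK, hα₂, h0, mul_zero, zero_add, map_zero, cj_cj hF, mul_eq_zero, map_eq_zero, or_self] at this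
    exact hb₀0 this
  obtain ⟨x₂, hx₂, hx₂'⟩ := pair α₂ β₂ l hok₂ hβ₂ hl hτ (by
    rw [hα₂, cj_cj hF, hkdef]
    field_simp
    linear_combination (β₂ + b₀) * cj l * two_zero (F := F))
  have hne : cj b₀ ≠ α₂ := fun h0 => mul_ne_zero hk0 hβ₂ (by
    have := congrArg cj h0
    rw [hα₂, cj_cj hF, cj_cj hF] at this
    linear_combination -this)
  set p₁ := (uP hF B (cj b₀) β₁)⁻¹ * w
  set p₂ := (uP hF B α₂ β₂)⁻¹ * w
  -- the tuple
  obtain ⟨g, hg⟩ := BinInvol.isBin_tuple hb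
    ![(QuotientGroup.mk 1 : PS ⧸ H), QuotientGroup.mk w, QuotientGroup.mk p₁, QuotientGroup.mk p₂]
    ![(QuotientGroup.mk 1 : PS ⧸ H), QuotientGroup.mk (h₀ * w), QuotientGroup.mk p₁, QuotientGroup.mk p₂] (by
    have c01 : h₀ • (QuotientGroup.mk 1 : PS ⧸ H) = QuotientGroup.mk 1 ∧
        h₀ • (QuotientGroup.mk w : PS ⧸ H) = QuotientGroup.mk (h₀ * w) :=
      ⟨smul_mk_eq_iff.2 (by simpa using hh), rfl⟩
    intro i j
    fin_cases i <;> fin_cases j <;>
      first
        | exact ⟨1, one_smul _ _, one_smul _ _⟩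
        | exact ⟨h₀, c01.1, c01.2⟩
        | exact ⟨h₀, c01.2, c01.1⟩
        | exact ⟨h₀, c01.2, c01.2⟩
        | exact ⟨x₁, hx₁', hx₁⟩
        | exact ⟨x₁, hx₁, hx₁'⟩
        | exact ⟨x₂, hx₂', hx₂⟩
        | exact ⟨x₂, hx₂, hx₂'⟩)
  have g0 : g ∈ H := by simpa using smul_mk_eq_iff.1 (hg 0)
  obtain ⟨a, m, hgl⟩ := hB g0
  have key : ∀ {α β : F}, OK hF α β →
      g • (QuotientGroup.mk ((uP hF B α β)⁻¹ * w) : PS ⧸ H) = QuotientGroup.mk ((uP hF B α β)⁻¹ * w) →
      α * (1 + m) + a = 0 ∧ (m = 1 → g = 1) := by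
    intro α β hok hfix
    have h1 := hB (mem_stab.1 (smul_mk_self_iff.1 hfix))
    rw [_root_.mul_inv_rev, inv_inv, wP_inv hF B, show wP hF B * uP hF B α β * g * ((uP hF B α β)⁻¹ * wP hF B) =
      wP hF B * (uP hF B α β * g * (uP hF B α β)⁻¹) * wP hF B by group] at h1
    have h2 := (lin_uP hF B hok).conj hF B hgl
    rw [one_mul] at h2
    obtain ⟨e1, e2⟩ := torus_of_conj hF B h2 h1
    exact ⟨e1, fun hm1 => conj_eq_one_iff.1 (e2 hm1)⟩
  obtain ⟨e1, e1'⟩ := key hok₁ (hg 2)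
  obtain ⟨e2, -⟩ := key hok₂ (hg 3)
  have hm1 : m = 1 := by
    have : (cj b₀ - α₂) * (1 + m) = 0 := by linear_combination e1 - e2
    exact (CharTwo.add_eq_zero.1 ((mul_eq_zero.1 this).resolve_left (sub_ne_zero.2 hne))).symm
  have hg1 := e1' hm1
  have h1 := hB (smul_mk_eq_iff.1 (hg 1))
  rw [hg1, mul_one, _root_.mul_inv_rev, wP_inv hF B, uP_inv hF B hb₀] at h1
  have hb₀' : OK hF 1 (cj b₀) := by simpa [CharTwo.neg_eq] using hb₀.inv hF
  exact one_ne_zero (torus_of_conj hF B (lin_uP hF B hb₀') h1).1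

end Cfsg.Agent.PSUBin
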