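import Cfsg.Agent.Lib.Classical.UnitFieldAut
import Cfsg.Agent.Lib.Classical.PSLGraphFieldAut
import Cfsg.Agent.Lib.Classical.PSLGraphAut

/-!
Involutory graph automorphisms of `PSU_n(q)`: descent to symmetric and alternating matrices over the field of `q`
elements.
-/

set_option autoImplicit false
set_option linter.unusedSectionVars false

namespace Cfsg.Agent.Classical.PSUAut

open Matrix Cfsg.Agent.Classical.Descent Cfsg.Agent.Classical.FormSim

section

variable {F : Type*} [Field F] [Fintype F] {q n : ℕ} {F₀ : Type*} [Field F₀]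

local notation "Mn" => Matrix (Fin n) (Fin n) F
local notation "GI" => GL (Fin n) F
local notation "PS" => PSU n F q
local notation "Sc" => Matrix.GeneralLinearGroup.scalar (Fin n)

theorem gmap_coe (σ : RingAut F) (y : GI) : ((gmap σ y : GI) : Mn) = (y : Mn).map σ := rfl

/-- The hermitian matrix of a vector frame. -/
def herm (σ : RingAut F) (y : GL (Fin n) F) : Matrix (Fin n) (Fin n) F :=
  (y : Matrix (Fin n) (Fin n) F)ᵀ * (y : Matrix (Fin n) (Fin n) F).map σ

theorem herm_mul (σ : RingAut F) (y k : GI) :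
    herm σ (y * k) = (k : Mn)ᵀ * herm σ y * (k : Mn).map σ := by
  rw [herm, herm, Units.val_mul, Matrix.transpose_mul, Matrix.map_mul]
  simp only [Matrix.mul_assoc]

theorem herm_scalar (σ : RingAut F) (ν : Fˣ) (y : GI) :
    herm σ (Sc ν * y) = ((ν : F) * σ ν) • herm σ y := by
  have h : ((Sc ν * y : GI) : Mn) = (ν : F) • (y : Mn) := PSLAut.scalar_mul_coe ν y
  rw [herm, herm, h, Matrix.transpose_smul, Matrix.map_smul' σ (ν : F) (y : Mn) (map_mul σ), Matrix.smul_mul,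
    Matrix.mul_smul, smul_smul]

theorem herm_ne_zero (hn : 1 ≤ n) (σ : RingAut F) (y : GI) : herm σ y ≠ 0 := fun h => by
  haveI : Nonempty (Fin n) := ⟨⟨0, hn⟩⟩
  have h1 := congrArg Matrix.det h
  rw [herm, Matrix.det_mul, Matrix.det_transpose, Matrix.det_zero,
    show (y : Mn).map σ = σ.toRingHom.mapMatrix (y : Mn) from rfl, ← RingHom.map_det] at h1
  rcases mul_eq_zero.1 h1 with h3 | h3
  · exact y.det_ne_zero h3
  · exact y.det_ne_zero ((map_eq_zero_iff _ σ.injective).1 h3)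

theorem invol {σ : RingAut F} (hσ : orderOf σ = 2) (x : F) : σ (σ x) = x := by
  have h : σ * σ = 1 := by rw [← sq, ← hσ, pow_orderOf_eq_one]
  exact DFunLike.congr_fun h x

theorem norm_eq {σ : RingAut F} (μ : Fˣ) :
    ((unitNorm σ 2 μ : Fˣ) : F) = (μ : F) * σ (μ : F) := by
  rw [unitNorm_succ', pow_one, show unitNorm σ 1 μ = μ from by simp [unitNorm]]
  rfl

theorem herm_transpose {σ : RingAut F} (hσ : orderOf σ = 2) (y : GI) :
    (herm σ y)ᵀ = (herm σ y).map σ := by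
  have h : ((y : Mn).map σ).map σ = (y : Mn) := Matrix.ext fun i j => invol hσ _
  rw [herm, Matrix.transpose_mul, Matrix.transpose_transpose, Matrix.map_mul, h, Matrix.transpose_map]

theorem theta_eq {σ : RingAut F} {g : GI} (h : PSLAut.theta σ g = g) : gmap σ g = PSLAut.invT g := by
  have h1 : PSLAut.invT (PSLAut.theta σ g) = PSLAut.invT g := by rw [h]
  rwa [show PSLAut.theta σ g = PSLAut.invT (gmap σ g) from rfl, PSLAut.invT_invT] at h1

theorem theta_of_herm {σ : RingAut F} {g : GI} (h : herm σ g = 1) : PSLAut.theta σ g = g := by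
  rw [← _root_.inv_inj]
  refine (inv_eq_of_mul_eq_one_left (Units.ext ?_)).symm
  rw [Units.val_mul, PSLAut.theta_inv_coe, Units.val_one]
  have h1 := congrArg Matrix.transpose h
  rw [herm, Matrix.transpose_mul, Matrix.transpose_transpose, Matrix.transpose_one] at h1
  exact h1

theorem herm_of_theta {σ : RingAut F} {g : GI} (h : PSLAut.theta σ g = g) : herm σ g = 1 := by
  have h1 := congrArg (fun u : GI => ((u : Mn))ᵀ) (inv_mul_cancel (PSLAut.theta σ g))
  simp only [Units.val_mul, PSLAut.theta_inv_coe, Units.val_one, Matrix.transpose_mul, Matrix.transpose_transpose,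
    Matrix.transpose_one] at h1
  rw [h] at h1
  exact h1

theorem mem_GU_iff (hF : Fintype.card F = q ^ 2) {σ : RingAut F} (hσ : orderOf σ = 2) (g : GI) :
    g ∈ GU n F q ↔ herm σ g = 1 := by
  rw [PSLAut.mem_GU_iff_theta hF hσ]
  exact ⟨herm_of_theta, theta_of_herm⟩

theorem map_map_fixed {σ : RingAut F} {j : F₀ →+* F} (hj : ∀ x, σ x = x ↔ x ∈ j.range)
    (M : Matrix (Fin n) (Fin n) F₀) : (M.map j).map σ = M.map j :=
  Matrix.ext fun a b => (hj _).2 ⟨_, rfl⟩

theorem gmap_map {σ : RingAut F} {j : F₀ →+* F} (hj : ∀ x, σ x = x ↔ x ∈ j.range) (k : GL (Fin n) F₀) :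
    gmap σ (Matrix.GeneralLinearGroup.map j k) = Matrix.GeneralLinearGroup.map j k :=
  Units.ext (map_map_fixed hj (k : Matrix (Fin n) (Fin n) F₀))

/-- `M₀` over the small field is attached to `g`. -/
def Rel (σ : RingAut F) (j : F₀ →+* F) (g : GI) (M₀ : Matrix (Fin n) (Fin n) F₀) : Prop :=
  ∃ (μ η : Fˣ) (y : GI), g = Sc μ * (y * (gmap σ y)⁻¹) ∧ M₀.map j = (η : F) • herm σ y

variable {σ : RingAut F} (hσ : orderOf σ = 2) (j : F₀ →+* F) (hj : ∀ x, σ x = x ↔ x ∈ j.range)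
include hσ hj

/-- The descent of an involution. -/
theorem exists_rel (hn : 1 ≤ n) {g : GI} (hg : herm σ g = 1)
    (hg' : (g : Mn)ᵀ = (g : Mn) ∨ (g : Mn)ᵀ = -(g : Mn)) :
    ∃ M₀ : Matrix (Fin n) (Fin n) F₀, Rel σ j g M₀ ∧ M₀.det ≠ 0 ∧ (M₀ᵀ = M₀ ∨ M₀ᵀ = -M₀) := by
  haveI : Nonempty (Fin n) := ⟨⟨0, hn⟩⟩
  obtain ⟨ε, hε, hgε⟩ := eps_cases hg'
  have hε0 : ε ≠ 0 := fun h0 => by simp [h0] at hε
  have hgg : g * gmap σ g = Sc (Units.mk0 ε hε0) := by
    rw [theta_eq (theta_of_herm hg)]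
    refine Units.ext ?_
    have h3 : (g : Mn) = ε • (g : Mn)ᵀ := by rw [hgε, smul_smul, hε, one_smul]
    rw [Units.val_mul, PSLAut.invT_coe, PSLAut.scalar_coe, Units.val_mk0]
    conv_lhs => rw [h3]
    rw [Matrix.smul_mul, ← Matrix.transpose_mul, Units.inv_mul, Matrix.transpose_one]
  obtain ⟨μ, y, hy⟩ := exists_coboundary_scalar σ g (c := Units.mk0 ε hε0) (by
    rw [hσ, show twistNorm σ g 2 = g * gmap σ g by simp [twistNorm, gmap_one]]; exact hgg)
  have hyy : gmap σ (gmap σ y) = y := by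
    rw [gmap_gmap, show σ * σ = 1 by rw [← sq, ← hσ, pow_orderOf_eq_one], gmap_one]
  -- the norm of the scalar is the sign
  have hN : (μ : F) * σ μ = ε := by
    have h1 := hgg
    rw [hy, map_mul, map_mul, map_inv, hyy, gmap_scalar] at h1
    have h3 : Sc μ * (y * (gmap σ y)⁻¹) * (Sc (Units.map σ.toMonoidHom μ) * (gmap σ y * y⁻¹)) =
        Sc (μ * Units.map σ.toMonoidHom μ) := by
      rw [map_mul, mul_assoc, ← mul_assoc (y * (gmap σ y)⁻¹), ← Descent.scalar_comm]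
      group
    rw [h3] at h1
    exact congrArg Units.val (scalar_injective h1)
  set M := herm σ y with hM
  have hMσ : M.map σ = ε • M := by
    have h1 := hg
    rw [hy, herm_scalar, hN] at h1
    -- `herm (y σy⁻¹) = ε`
    have h2 : herm σ (y * (gmap σ y)⁻¹) = ε • (1 : Mn) := by
      rw [← h1, smul_smul, hε, one_smul]
    rw [herm_mul, ← hM] at h2
    have h3 := congrArg (fun A : Mn => ((gmap σ y : GI) : Mn)ᵀ * A * (y : Mn)) h2
    have ha : ((gmap σ y : GI) : Mn)ᵀ * (((gmap σ y)⁻¹ : GI) : Mn)ᵀ = 1 := by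
      rw [← Matrix.transpose_mul, Units.inv_mul, Matrix.transpose_one]
    have hb : (((gmap σ y)⁻¹ : GI) : Mn).map σ * (y : Mn) = 1 := by
      rw [← gmap_coe, map_inv, hyy, Units.inv_mul]
    simp only [Matrix.mul_smul, Matrix.smul_mul, Matrix.mul_one] at h3
    rw [← Matrix.mul_assoc, ← Matrix.mul_assoc, ha, Matrix.one_mul, Matrix.mul_assoc M, hb, Matrix.mul_one] at h3
    have h4 : M.map σ = ((gmap σ y : GI) : Mn)ᵀ * (y : Mn) := by
      rw [hM, herm, Matrix.map_mul, gmap_coe, Matrix.transpose_map]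
      congr 1
      exact Matrix.ext fun a b => invol hσ _
    rw [h4, h3, smul_smul, hε, one_smul]
  obtain ⟨η, hη⟩ : ∃ η : Fˣ, σ (η : F) = ε * η := by
    have hεσ : σ ε = ε := by
      rcases mul_self_eq_one_iff.1 hε with h | h <;> simp [h]
    obtain ⟨ν, hν⟩ := unitNorm_hilbert90 σ (Units.mk0 ε hε0) (Units.ext (by
      rw [hσ, norm_eq, Units.val_mk0, hεσ, hε, Units.val_one]))
    refine ⟨ν, ?_⟩
    have h1 := congrArg Units.val hν
    rw [Units.val_mk0, Units.val_mul, Units.val_inv_eq_inv_val] at h1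
    have h2 : σ (ν : F) ≠ 0 := (map_ne_zero σ).2 ν.ne_zero
    rw [show ((Units.map σ.toMonoidHom ν : Fˣ) : F) = σ (ν : F) from rfl] at h1
    rw [← mul_right_inj' hε0, ← mul_assoc, hε, one_mul, h1]
    field_simp
  have hfix : ((η : F) • M).map σ = (η : F) • M := by
    rw [Matrix.map_smul' σ (η : F) M (map_mul σ), hMσ, hη, smul_smul, mul_right_comm, hε, one_mul]
  choose A hA using fun a b => (hj _).1 (congrFun (congrFun hfix a) b)
  have hA' : (Matrix.of A).map j = (η : F) • M := Matrix.ext hA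
  refine ⟨Matrix.of A, ⟨μ, η, y, hy, hA'⟩, fun h0 => ?_, ?_⟩
  · have h1 := congrArg Matrix.det hA'
    rw [← RingHom.mapMatrix_apply, ← RingHom.map_det, h0, map_zero, Matrix.det_smul, hM, herm, Matrix.det_mul,
      Matrix.det_transpose, show (y : Mn).map σ = σ.toRingHom.mapMatrix (y : Mn) from rfl, ← RingHom.map_det] at h1
    exact mul_ne_zero (pow_ne_zero _ η.ne_zero)
      (mul_ne_zero y.det_ne_zero ((map_ne_zero σ).2 y.det_ne_zero)) h1.symm
  · have ht : ((Matrix.of A).map j)ᵀ = ε • (Matrix.of A).map j := by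
      rw [hA', Matrix.transpose_smul, herm_transpose hσ, ← hM, hMσ, smul_comm]
    have hinj : ∀ B C : Matrix (Fin n) (Fin n) F₀, B.map j = C.map j → B = C :=
      fun B C h => Matrix.map_injective j.injective h
    rcases mul_self_eq_one_iff.1 hε with h | h
    · refine Or.inl (hinj _ _ ?_)
      rw [Matrix.transpose_map, ht, h, one_smul]
    · refine Or.inr (hinj _ _ ?_)
      rw [Matrix.transpose_map, ht, h, neg_one_smul]
      ext a b; simp

/-- Every form occurs. -/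
theorem exists_of_form [Nonempty (Fin n)] {M₀ : Matrix (Fin n) (Fin n) F₀} (hd : M₀.det ≠ 0)
    (hM : M₀ᵀ = M₀ ∨ M₀ᵀ = -M₀) :
    ∃ g : GI, herm σ g = 1 ∧ ((g : Mn)ᵀ = (g : Mn) ∨ (g : Mn)ᵀ = -(g : Mn)) ∧ Rel σ j g M₀ := by
  obtain ⟨ε, hε, hMε⟩ := eps_cases hM
  set e := j ε with he_def
  have he : e * e = 1 := by rw [he_def, ← map_mul, hε, map_one]
  have he0 : e ≠ 0 := fun h0 => by simp [h0] at he
  have heσ : σ e = e := (hj _).2 ⟨ε, rfl⟩
  obtain ⟨η, hη⟩ : ∃ η : Fˣ, σ (η : F) = e * η := by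
    obtain ⟨ν, hν⟩ := unitNorm_hilbert90 σ (Units.mk0 e he0) (Units.ext (by
      rw [hσ, norm_eq, Units.val_mk0, heσ, he, Units.val_one]))
    refine ⟨ν, ?_⟩
    have h1 := congrArg Units.val hν
    rw [Units.val_mk0, Units.val_mul, Units.val_inv_eq_inv_val] at h1
    have h2 : σ (ν : F) ≠ 0 := (map_ne_zero σ).2 ν.ne_zero
    rw [show ((Units.map σ.toMonoidHom ν : Fˣ) : F) = σ (ν : F) from rfl] at h1
    rw [← mul_right_inj' he0, ← mul_assoc, he, one_mul, h1]
    field_simp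
  set H : Mn := ((η : F)⁻¹) • M₀.map j with hH
  have hHσ : H.map σ = e • H := by
    rw [hH, Matrix.map_smul' σ _ _ (map_mul σ), map_map_fixed hj, smul_smul, map_inv₀, hη, mul_inv, inv_eq_of_mul_eq_one_left he]
  have hHt : Hᵀ = e • H := by
    have h1 : (ε • M₀).map j = e • M₀.map j := Matrix.ext fun a b => by simp [he_def]
    rw [hH, Matrix.transpose_smul, ← Matrix.transpose_map, hMε, h1, smul_comm]
  obtain ⟨G, hG⟩ := (Matrix.isUnit_iff_isUnit_det H).2 (IsUnit.mk0 _ (by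
    rw [hH, Matrix.det_smul, ← RingHom.mapMatrix_apply, ← RingHom.map_det]
    exact mul_ne_zero (pow_ne_zero _ (inv_ne_zero η.ne_zero)) ((map_ne_zero j).2 hd)))
  have hσ1 : σ ≠ 1 := fun h => by rw [h, orderOf_one] at hσ; omega
  obtain ⟨a, ha⟩ := PSLAut.exists_eq_mul_theta_inv hσ1 (by rw [← sq, ← hσ, pow_orderOf_eq_one]) (g := G) (by
    rw [eq_inv_iff_mul_eq_one, ← inv_eq_iff_mul_eq_one]
    refine Units.ext ?_
    rw [PSLAut.theta_inv_coe, hG, hHσ, Matrix.transpose_smul, hHt, smul_smul, he, one_smul])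
  set y : GI := PSLAut.invT a⁻¹
  have hy : herm σ y = H := by
    rw [herm, show (y : Mn) = (a : Mn)ᵀ from PSLAut.invT_inv a, Matrix.transpose_transpose, ← hG, ha, Units.val_mul,
      PSLAut.theta_inv_coe, Matrix.transpose_map]
  have hyy : gmap σ (gmap σ y) = y := by
    rw [gmap_gmap, show σ * σ = 1 by rw [← sq, ← hσ, pow_orderOf_eq_one], gmap_one]
  obtain ⟨μ, hμ⟩ := exists_unitNorm_eq σ (c := Units.mk0 e he0) (mem_fixedUnits.2 (Units.ext heσ))
  have hN : (μ : F) * σ μ = e := by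
    rw [← norm_eq, ← hσ, hμ, Units.val_mk0]
  set g : GI := Sc μ * (y * (gmap σ y)⁻¹)
  have hcomm : herm σ g = 1 := by
    rw [herm_scalar, hN, herm_mul, hy]
    have h1 : H = e • H.map σ := by rw [hHσ, smul_smul, he, one_smul]
    have h3 : H.map σ = ((gmap σ y : GI) : Mn)ᵀ * (y : Mn) := by
      rw [← hy, herm, Matrix.map_mul, gmap_coe, Matrix.transpose_map]
      congr 1
      exact Matrix.ext fun a b => invol hσ _
    rw [h1, h3, Matrix.mul_smul, Matrix.smul_mul, smul_smul, he, one_smul, ← Matrix.mul_assoc,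
      ← Matrix.transpose_mul, Units.mul_inv, Matrix.transpose_one, Matrix.one_mul, ← gmap_coe, map_inv, hyy,
      Units.mul_inv]
  refine ⟨g, hcomm, ?_, μ, η, y, rfl, by rw [hy, hH, smul_smul, mul_inv_cancel₀ η.ne_zero, one_smul]⟩
  have hgg : g * PSLAut.invT g = Sc (Units.mk0 e he0) := by
    rw [← theta_eq (theta_of_herm hcomm)]
    simp only [g]
    rw [map_mul, map_mul, map_inv, hyy, gmap_scalar, mul_assoc, ← mul_assoc (y * (gmap σ y)⁻¹), ← Descent.scalar_comm,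
      show Units.mk0 e he0 = μ * Units.map σ.toMonoidHom μ from Units.ext hN.symm, map_mul]
    group
  have h1 : (g : Mn) = e • (g : Mn)ᵀ := by
    have h2 := congrArg (fun u : GI => (u : Mn) * (g : Mn)ᵀ) hgg
    rw [Units.val_mul, PSLAut.invT_coe, Matrix.mul_assoc, ← Matrix.transpose_mul, Units.mul_inv, Matrix.transpose_one,
      Matrix.mul_one, PSLAut.scalar_coe, Units.val_mk0, Matrix.smul_mul, Matrix.one_mul] at h2
    exact h2
  rcases mul_self_eq_one_iff.1 he with h | h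
  · refine Or.inl ?_
    rw [h, one_smul] at h1
    exact h1.symm
  · refine Or.inr ?_
    rw [h, neg_one_smul] at h1
    conv_rhs => rw [h1, neg_neg]

/-- The multiplier is fixed. -/
theorem mult_fixed {M₀ M₀' : Matrix (Fin n) (Fin n) F₀} {η η' : Fˣ} {y y' : GI} (hn : 1 ≤ n)
    (hy : M₀.map j = (η : F) • herm σ y) (hy' : M₀'.map j = (η' : F) • herm σ y')
    (k : GL (Fin n) F₀) {c : F₀}
    (hk : (k : Matrix (Fin n) (Fin n) F₀)ᵀ * M₀' * (k : Matrix (Fin n) (Fin n) F₀) = c • M₀) :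
    herm σ (y' * Matrix.GeneralLinearGroup.map j k) = ((η' : F)⁻¹ * j c * η) • herm σ y ∧
      σ ((η' : F)⁻¹ * j c * η) = (η' : F)⁻¹ * j c * η := by
  have h1 : herm σ (y' * Matrix.GeneralLinearGroup.map j k) = ((η' : F)⁻¹ * j c * η) • herm σ y := by
    have h3 : ((k : Matrix (Fin n) (Fin n) F₀)ᵀ * M₀' * (k : Matrix (Fin n) (Fin n) F₀)).map j =
        j c • M₀.map j := by rw [hk]; exact Matrix.ext fun a b => by simp
    rw [Matrix.map_mul, Matrix.map_mul, Matrix.transpose_map, hy', hy] at h3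
    rw [herm_mul, ← gmap_coe, gmap_map hj, show ((Matrix.GeneralLinearGroup.map j k : GI) : Mn) =
      (k : Matrix (Fin n) (Fin n) F₀).map j from rfl]
    rw [Matrix.mul_smul, Matrix.smul_mul, smul_smul] at h3
    rw [mul_assoc (η' : F)⁻¹, ← smul_smul, ← h3, smul_smul, inv_mul_cancel₀ η'.ne_zero, one_smul]
  refine ⟨h1, ?_⟩
  set e := (η' : F)⁻¹ * j c * η
  have h3 := herm_transpose hσ (y' * Matrix.GeneralLinearGroup.map j k)
  rw [h1, Matrix.transpose_smul, herm_transpose hσ, Matrix.map_smul' σ e _ (map_mul σ)] at h3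
  exact (smul_left_injective F (fun h => herm_ne_zero hn σ y (Matrix.ext fun a b =>
    (map_eq_zero_iff σ σ.injective).1 (congrFun (congrFun h a) b))) h3).symm

/-- A similarity gives a unitary matrix. -/
theorem exists_unit_of_sim {g g' : GI} {M₀ M₀' : Matrix (Fin n) (Fin n) F₀} {μ μ' η η' : Fˣ} {y y' : GI}
    (hn : 1 ≤ n) 
    (hy : M₀.map j = (η : F) • herm σ y) (hy' : M₀'.map j = (η' : F) • herm σ y')
    (hgy : g = Sc μ * (y * (gmap σ y)⁻¹)) (hgy' : g' = Sc μ' * (y' * (gmap σ y')⁻¹))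
    (k : GL (Fin n) F₀) {c : F₀}
    (hk : (k : Matrix (Fin n) (Fin n) F₀)ᵀ * M₀' * (k : Matrix (Fin n) (Fin n) F₀) = c • M₀) {ν : Fˣ}
    (hν : (ν : F) * σ ν * ((η' : F)⁻¹ * j c * η) = 1) :
    ∃ u : GI, u = Sc ν * (y' * Matrix.GeneralLinearGroup.map j k * y⁻¹) ∧ herm σ u = 1 ∧
      ∃ d : Fˣ, u * g * (gmap σ u)⁻¹ = Sc d * g' := by
  refine ⟨_, rfl, ?_, ν * (Units.map σ.toMonoidHom ν)⁻¹ * μ * μ'⁻¹, ?_⟩
  · rw [herm_scalar, herm_mul, (mult_fixed hσ j hj hn hy hy' k hk).1, Matrix.mul_smul, Matrix.smul_mul, ← herm_mul,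
      mul_inv_cancel, smul_smul, hν, one_smul]
    simp [herm]
  · rw [hgy, hgy', map_mul, map_mul, map_mul, map_inv, gmap_map hj, gmap_scalar]
    simp only [map_mul, map_inv, _root_.mul_inv_rev, inv_inv]
    have hc : ∀ (a : Fˣ) (x : GI), x * Sc a = Sc a * x := fun a x => (Descent.scalar_comm a x).symm
    have hc' : ∀ (a : Fˣ) (x : GI), x * (Sc a)⁻¹ = (Sc a)⁻¹ * x := fun a x => by
      rw [← map_inv, hc]
    calc _ = Sc ν * ((y' * Matrix.GeneralLinearGroup.map j k * y⁻¹) * (Sc μ * (y * (gmap σ y)⁻¹)) *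
          (gmap σ y * ((Matrix.GeneralLinearGroup.map j k)⁻¹ * (gmap σ y')⁻¹))) * (Sc (Units.map σ.toMonoidHom ν))⁻¹ := by
          group
      _ = Sc ν * (Sc μ * ((y' * Matrix.GeneralLinearGroup.map j k * y⁻¹) * (y * (gmap σ y)⁻¹) *
          (gmap σ y * ((Matrix.GeneralLinearGroup.map j k)⁻¹ * (gmap σ y')⁻¹)))) * (Sc (Units.map σ.toMonoidHom ν))⁻¹ := by
          rw [← mul_assoc (y' * Matrix.GeneralLinearGroup.map j k * y⁻¹) (Sc μ), hc μ]
          group
      _ = Sc ν * (Sc μ * (y' * (gmap σ y')⁻¹)) * (Sc (Units.map σ.toMonoidHom ν))⁻¹ := by group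
      _ = _ := by
          rw [hc' (Units.map σ.toMonoidHom ν)]
          simp only [← mul_assoc, ← map_inv, ← map_mul]
          congr 2
          rw [map_inv, inv_mul_cancel_right, mul_comm ν (Units.map σ.toMonoidHom ν)⁻¹]

/-- A unitary matrix gives a similarity. -/
theorem exists_sim_of_unit {g g' : GI} {M₀ M₀' : Matrix (Fin n) (Fin n) F₀} {μ μ' η η' : Fˣ} {y y' : GI}
    (hn : 1 ≤ n) 
    (hy : M₀.map j = (η : F) • herm σ y) (hy' : M₀'.map j = (η' : F) • herm σ y')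
    (hgy : g = Sc μ * (y * (gmap σ y)⁻¹)) (hgy' : g' = Sc μ' * (y' * (gmap σ y')⁻¹))
    {u : GI} (hu : herm σ u = 1) {d : Fˣ} (hug : u * g * (gmap σ u)⁻¹ = Sc d * g') :
    ∃ (k : GL (Fin n) F₀) (c : F₀) (ν : Fˣ), c ≠ 0 ∧
      (k : Matrix (Fin n) (Fin n) F₀)ᵀ * M₀' * (k : Matrix (Fin n) (Fin n) F₀) = c • M₀ ∧
      u = Sc ν * (y' * Matrix.GeneralLinearGroup.map j k * y⁻¹) ∧
      (ν : F) * σ ν * ((η' : F)⁻¹ * j c * η) = 1 := by
  haveI : Nonempty (Fin n) := ⟨⟨0, hn⟩⟩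
  have hs : gmap σ (y'⁻¹ * u * y) = Sc (μ * (d * μ')⁻¹) * (y'⁻¹ * u * y) := by
    rw [hgy, hgy'] at hug
    have hc : ∀ (a : Fˣ) (x : GI), x * Sc a = Sc a * x := fun a x => (Descent.scalar_comm a x).symm
    have h1 : Sc μ * (u * y * (gmap σ y)⁻¹ * (gmap σ u)⁻¹) = Sc (d * μ') * (y' * (gmap σ y')⁻¹) := by
      rw [map_mul (Matrix.GeneralLinearGroup.scalar (Fin n)), mul_assoc (Sc d) (Sc μ'), ← hug, ← mul_assoc u (Sc μ),
        hc μ u]
      group
    have h4 : u * y * (gmap σ y)⁻¹ * (gmap σ u)⁻¹ = Sc (μ * (d * μ')⁻¹)⁻¹ * (y' * (gmap σ y')⁻¹) := by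
      refine mul_left_cancel (a := Sc μ) ?_
      rw [h1, ← mul_assoc (Sc μ) (Sc (μ * (d * μ')⁻¹)⁻¹), ← map_inv, ← map_mul]
      rw [show μ * (μ * (d * μ')⁻¹)⁻¹ = d * μ' by rw [_root_.mul_inv_rev, inv_inv, mul_comm (d * μ'), mul_inv_cancel_left]]
    have h3 : y'⁻¹ * u * y = Sc (μ * (d * μ')⁻¹)⁻¹ * gmap σ (y'⁻¹ * u * y) := by
      calc y'⁻¹ * u * y = y'⁻¹ * (u * y * (gmap σ y)⁻¹ * (gmap σ u)⁻¹) * (gmap σ u * gmap σ y) := by group
        _ = _ := by
          rw [h4, ← mul_assoc y'⁻¹, hc, map_mul (gmap σ), map_mul (gmap σ), map_inv (gmap σ)]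
          group
    have h5 := congrArg (fun x => Sc (μ * (d * μ')⁻¹) * x) h3
    simp only [← mul_assoc, ← map_mul, mul_inv_cancel, map_one, one_mul] at h5
    simp only [← mul_assoc]
    exact h5.symm
  obtain ⟨ν, k', hk', hkν⟩ := exists_fixed_of_map_eq_smul σ (y'⁻¹ * u * y) hs
  obtain ⟨k, rfl⟩ := PSLAut.mem_of_gmap_fixed hj hk'
  have huy : u = Sc ν * (y' * Matrix.GeneralLinearGroup.map j k * y⁻¹) := by
    have h1 : u = y' * (y'⁻¹ * u * y) * y⁻¹ := by group
    rw [h1, hkν, ← mul_assoc y', ← Descent.scalar_comm]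
    group
  have h1 : ((ν : F) * σ ν) • ((k : Matrix (Fin n) (Fin n) F₀).map j)ᵀ * herm σ y' * (k : Matrix (Fin n) (Fin n) F₀).map j =
      herm σ y := by
    have h3 : herm σ (u * y) = herm σ y := by rw [herm_mul, hu, Matrix.mul_one]; rfl
    rw [show u * y = Sc ν * (y' * Matrix.GeneralLinearGroup.map j k) by rw [huy]; group, herm_scalar, herm_mul,
      ← gmap_coe, gmap_map hj] at h3
    rw [Matrix.smul_mul, Matrix.smul_mul]
    exact h3
  obtain ⟨a, b, hab⟩ : ∃ a b, M₀ a b ≠ 0 := by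
    by_contra! hall
    refine herm_ne_zero hn σ y ?_
    have : M₀ = 0 := Matrix.ext hall
    rw [this] at hy
    rw [← one_smul F (herm σ y), ← inv_mul_cancel₀ η.ne_zero, ← smul_smul, ← hy]
    simp
  set A := (k : Matrix (Fin n) (Fin n) F₀)ᵀ * M₀' * (k : Matrix (Fin n) (Fin n) F₀) with hA
  set e : F := ((ν : F) * σ ν)⁻¹ * (η' : F) * (η : F)⁻¹
  have hNν : (ν : F) * σ ν ≠ 0 := mul_ne_zero ν.ne_zero ((map_ne_zero σ).2 ν.ne_zero)
  have h6 : A.map j = e • M₀.map j := by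
    rw [hA, Matrix.map_mul, Matrix.map_mul, Matrix.transpose_map, hy', hy, ← h1]
    simp only [Matrix.mul_smul, Matrix.smul_mul, smul_smul]
    congr 1
    simp only [e]
    field_simp
  have he : e = j (A a b / M₀ a b) := by
    have h7 := congrFun (congrFun h6 a) b
    rw [Matrix.smul_apply, Matrix.map_apply, Matrix.map_apply, smul_eq_mul] at h7
    rw [map_div₀, h7, mul_div_cancel_right₀ _ ((map_ne_zero j).2 hab)]
  refine ⟨k, A a b / M₀ a b, ν, fun h0 => ?_, Matrix.map_injective j.injective ?_, huy, ?_⟩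
  · rw [h0, map_zero] at he
    exact mul_ne_zero (mul_ne_zero (inv_ne_zero hNν) η'.ne_zero) (inv_ne_zero η.ne_zero) he
  · rw [← hA]
    refine h6.trans ?_
    rw [he]
    exact Matrix.ext fun a b => by simp
  · rw [← he]
    simp only [e]
    field_simp

end

end Cfsg.Agent.Classical.PSUAut
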