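import Cfsg.Agent.Lib.Classical.PSUGraphAut

/-!
Classes and centralisers of the involutory graph automorphisms of `PSU_n(q)`.
-/

set_option autoImplicit false
set_option linter.unusedSectionVars false

namespace Cfsg.Agent.Classical.PSUAut

open Matrix Cfsg.Agent.Classical.Descent Cfsg.Agent.Classical.FormSim

section

variable {F : Type*} [Field F] [Fintype F] {q n : ℕ} (hF : Fintype.card F = q ^ 2)

local notation "Mn" => Matrix (Fin n) (Fin n) F
local notation "GI" => GL (Fin n) F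
local notation "PS" => PSU n F q
local notation "Sc" => Matrix.GeneralLinearGroup.scalar (Fin n)

include hF

omit hF in
theorem scalar_of_sym {g : GI} (h : (g : Mn)ᵀ = (g : Mn) ∨ (g : Mn)ᵀ = -(g : Mn)) :
    ∃ c : Fˣ, g * PSLAut.invT g = Sc c := by
  obtain ⟨ε, hε, he⟩ := eps_cases h
  have hε0 : ε ≠ 0 := fun h0 => by simp [h0] at hε
  refine ⟨Units.mk0 ε hε0, Units.ext ?_⟩
  have h3 : (g : Mn) = ε • (g : Mn)ᵀ := by rw [he, smul_smul, hε, one_smul]
  rw [Units.val_mul, PSLAut.invT_coe, PSLAut.scalar_coe, Units.val_mk0]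
  conv_lhs => rw [h3]
  rw [Matrix.smul_mul, ← Matrix.transpose_mul, Units.inv_mul, Matrix.transpose_one]

omit hF in
theorem sym_of_scalar [Nonempty (Fin n)] {g : GI} {c : Fˣ} (h : g * PSLAut.invT g = Sc c) :
    (g : Mn)ᵀ = (g : Mn) ∨ (g : Mn)ᵀ = -(g : Mn) := by
  have hgi : ((g⁻¹ : GI) : Mn)ᵀ * (g : Mn)ᵀ = 1 := by
    rw [← Matrix.transpose_mul, Units.mul_inv, Matrix.transpose_one]
  have h3 : (g : Mn) = (c : F) • (g : Mn)ᵀ := by
    have h4 := congrArg (fun u : GI => (u : Mn) * (g : Mn)ᵀ) h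
    rw [Units.val_mul, PSLAut.invT_coe, Matrix.mul_assoc, hgi, Matrix.mul_one, PSLAut.scalar_coe, Matrix.smul_mul,
      Matrix.one_mul] at h4
    exact h4
  have h5 : (g : Mn)ᵀ = (c : F) • (g : Mn) := by
    conv_lhs => rw [h3]
    rw [Matrix.transpose_smul, Matrix.transpose_transpose]
  have h6 : ((c : F) * c - 1) • (g : Mn) = 0 := by
    rw [sub_smul, one_smul, ← smul_smul, ← h5, ← h3, sub_self]
  rcases smul_eq_zero.1 h6 with h7 | h7
  · rcases mul_self_eq_one_iff.1 (sub_eq_zero.1 h7) with h8 | h8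
    · exact Or.inl (by rw [h5, h8, one_smul])
    · exact Or.inr (by rw [h5, h8, neg_one_smul])
  · exact absurd (by rw [h7, Matrix.det_zero]) g.det_ne_zero

theorem exists_sigma : ∃ σ : RingAut F, orderOf σ = 2 :=
  ⟨RingEquiv.ofBijective (qFrob hF) ⟨(qFrob hF).injective, Finite.surjective_of_injective (qFrob hF).injective⟩,
    orderOf_eq_prime (RingEquiv.ext fun y => qFrob_qFrob hF y)
      (fun h => qFrob_ne_id hF (RingHom.ext fun y => DFunLike.congr_fun h y))⟩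

/-- The descent field. -/
theorem exists_datum_graph {σ : RingAut F} (hσ : orderOf σ = 2) (F₀ : Type*) [Field F₀] [Fintype F₀]
    (hF₀ : Fintype.card F₀ = q) : ∃ j : F₀ →+* F, ∀ x, σ x = x ↔ x ∈ j.range := by
  obtain ⟨p, hp⟩ := CharP.exists F
  haveI : Fact p.Prime := ⟨(CharP.char_is_prime_or_zero F p).resolve_right (CharP.char_ne_zero_of_finite F p)⟩
  obtain ⟨f, -, hpf⟩ := FiniteField.card F p
  have hq : q = p ^ ((f : ℕ) / 2) := by
    obtain ⟨k, -, hk⟩ := (Nat.dvd_prime_pow (Fact.out : p.Prime)).1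
      (show q ∣ p ^ (f : ℕ) by rw [← hpf, hF]; exact dvd_pow_self q two_ne_zero)
    have h1 : p ^ (f : ℕ) = p ^ (k * 2) := by rw [← hpf, hF, hk, ← pow_mul]
    rw [Nat.pow_right_injective (Fact.out : p.Prime).two_le h1, Nat.mul_div_cancel _ two_pos, hk]
  obtain ⟨-, -, j, hj⟩ := PSLAut.exists_fixed_embedding (p := p) hpf hσ F₀ (hF₀.trans hq)
  exact ⟨j, hj⟩

theorem two_ne_zero_small {F₀ : Type*} [Field F₀] [Fintype F₀] (hF₀ : Fintype.card F₀ = q) (hodd : Odd q) :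
    (2 : F₀) ≠ 0 := Ring.two_ne_zero fun h => by
  have := FiniteField.even_card_iff_char_two.1 h
  rw [hF₀, ← Nat.even_iff] at this
  exact Nat.not_even_iff_odd.2 hodd this

theorem gmap_eq_invT {σ : RingAut F} (hσ : orderOf σ = 2) (g : GU n F q) :
    gmap σ (g : GI) = PSLAut.invT (g : GI) :=
  theta_eq ((PSLAut.mem_GU_iff_theta hF hσ _).1 g.2)

theorem order_two_iff (hn : 3 ≤ n) {σ : RingAut F} (hσ : orderOf σ = 2) (g : GU n F q) :
    orderOf (psuSemi g σ : MulAut PS) = 2 ↔ ((g : GI) : Mn)ᵀ = (g : GI) ∨ ((g : GI) : Mn)ᵀ = -((g : GI) : Mn) := by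
  haveI : Nonempty (Fin n) := ⟨⟨0, by omega⟩⟩
  have hσ1 : σ ≠ 1 := fun h => by rw [h, orderOf_one] at hσ; omega
  have hσσ : σ * σ = 1 := by rw [← sq, ← hσ, pow_orderOf_eq_one]
  have hsq : (psuSemi g σ : MulAut PS) * psuSemi g σ = psuSemi (g * guMap σ g) (1 : RingAut F) := by
    rw [psuSemi_mul', hσσ]
  have hco : ((g * guMap σ g : GU n F q) : GI) = (g : GI) * PSLAut.invT (g : GI) := by
    rw [Subgroup.coe_mul, guMap_coe, gmap_eq_invT hF hσ]
  constructor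
  · intro h
    have h1 : (psuSemi g σ : MulAut PS) * psuSemi g σ = 1 := by rw [← sq, ← h, pow_orderOf_eq_one]
    rw [hsq, psuSemi_eq_one_iff' hF hn] at h1
    obtain ⟨-, c, hc⟩ := h1
    exact sym_of_scalar (hco.symm.trans hc)
  · intro h
    refine orderOf_eq_prime (p := 2) ?_ fun h1 => hσ1 ((psuSemi_eq_one_iff' hF hn).1 h1).1
    rw [sq, hsq, psuSemi_eq_one_iff' hF hn]
    obtain ⟨c, hc⟩ := scalar_of_sym h
    exact ⟨rfl, c, hco.trans hc⟩

theorem std_of_involution {σ : RingAut F} (hσ : orderOf σ = 2) {γ : MulAut PS} (h : IsGraphAutClassPSU γ)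
    (h2 : orderOf γ = 2) : ∃ g : GU n F q, γ = psuSemi g σ ∧
      (((g : GI) : Mn)ᵀ = (g : GI) ∨ ((g : GI) : Mn)ᵀ = -((g : GI) : Mn)) := by
  obtain ⟨hn, δ, φ, τ, hτ, hδ, hφ, rfl⟩ := h
  obtain ⟨d, rfl⟩ := innerDiag_iff.1 hδ
  rw [stdField_iff.1 hφ, psuSemi_refl_mul, mul_one] at h2 ⊢
  have hτ1 : (τ : RingAut F) ≠ 1 := fun h1 => by
    rw [show orderOf τ = orderOf (τ : RingAut F) from rfl, h1, orderOf_one] at hτ
    exact absurd hτ (by decide)
  obtain ⟨hτ2, -⟩ := orderOf_field hF hn Nat.prime_two hτ1 h2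
  obtain rfl : σ = τ := by
    exact PSLAut.ringAut_involution_unique hσ hτ2
  exact ⟨d, rfl, (order_two_iff hF hn hσ d).1 h2⟩

theorem graph_of_sym (hn : 3 ≤ n) {σ : RingAut F} (hσ : orderOf σ = 2) (g : GU n F q)
    (h : ((g : GI) : Mn)ᵀ = (g : GI) ∨ ((g : GI) : Mn)ᵀ = -((g : GI) : Mn)) :
    IsGraphAutClassPSU (psuSemi g σ : MulAut PS) ∧ orderOf (psuSemi g σ : MulAut PS) = 2 := by
  refine ⟨⟨hn, psuSemi g (RingEquiv.refl F), psuSemi 1 σ, σ, ?_, innerDiag_iff.2 ⟨g, rfl⟩, stdField_iff.2 rfl,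
    by rw [psuSemi_refl_mul, mul_one]⟩, (order_two_iff hF hn hσ g).2 h⟩
  rw [show orderOf (σ : F ≃+* F) = orderOf (σ : RingAut F) from rfl, hσ]
  exact even_two

omit hF in
theorem conj_semi (u g : GU n F q) (σ : RingAut F) :
    inndiagHom n F q u * psuSemi g σ * (inndiagHom n F q u)⁻¹ =
      (psuSemi (u * g * (guMap σ u)⁻¹) σ : MulAut PS) := by
  rw [inndiagHom_apply, psuSemi_refl_inv, psuSemi_refl_mul, psuSemi_mul', map_inv]
  congr 1

theorem conj_iff (hn : 3 ≤ n) (u g g' : GU n F q) (σ : RingAut F) :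
    inndiagHom n F q u * psuSemi g σ * (inndiagHom n F q u)⁻¹ = (psuSemi g' σ : MulAut PS) ↔
      ∃ d : Fˣ, (u : GI) * (g : GI) * (gmap σ (u : GI))⁻¹ = Sc d * (g' : GI) := by
  rw [conj_semi, semi_eq_iff hF hn]
  refine exists_congr fun d => ?_
  rw [Subgroup.coe_mul, Subgroup.coe_mul, Subgroup.coe_inv, guMap_coe]

theorem commute_semi_iff (hn : 3 ≤ n) (u g : GU n F q) (σ : RingAut F) :
    Commute (inndiagHom n F q u) (psuSemi g σ : MulAut PS) ↔
      ∃ d : Fˣ, (u : GI) * (g : GI) * (gmap σ (u : GI))⁻¹ = Sc d * (g : GI) := by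
  rw [← conj_iff hF hn, Commute, SemiconjBy, ← mul_inv_eq_iff_eq_mul]

theorem inndiag_eq_of_scalar (hn : 3 ≤ n) {a b : GU n F q} {c : Fˣ} (h : (a : GI) = Sc c * (b : GI)) :
    inndiagHom n F q a = inndiagHom n F q b :=
  (semi_eq_iff hF hn).2 ⟨c, h⟩

variable {σ : RingAut F} (hσ : orderOf σ = 2) {F₀ : Type*} [Field F₀] [Fintype F₀] (j : F₀ →+* F)
  (hj : ∀ x, σ x = x ↔ x ∈ j.range)
include hσ hj

theorem exists_rel_GU (hn : 3 ≤ n) (g : GU n F q)
    (h : ((g : GI) : Mn)ᵀ = (g : GI) ∨ ((g : GI) : Mn)ᵀ = -((g : GI) : Mn)) :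
    ∃ M₀ : Matrix (Fin n) (Fin n) F₀, Rel σ j (g : GI) M₀ ∧ M₀.det ≠ 0 ∧ (M₀ᵀ = M₀ ∨ M₀ᵀ = -M₀) :=
  exists_rel hσ j hj (by omega) ((mem_GU_iff hF hσ _).1 g.2) h

theorem fixed_mult {e : F} (he0 : e ≠ 0) (he : σ e = e) : ∃ ν : Fˣ, (ν : F) * σ ν * e = 1 := by
  obtain ⟨ν, hν⟩ := exists_unitNorm_eq σ (c := (Units.mk0 e he0)⁻¹) (mem_fixedUnits.2 (Units.ext (by
    simp [he])))
  refine ⟨ν, ?_⟩
  rw [hσ] at hν
  rw [← norm_eq, hν, Units.val_inv_eq_inv_val, Units.val_mk0, inv_mul_cancel₀ he0]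

theorem conjUnder_iff (hn : 3 ≤ n) {g g' : GU n F q} {M₀ M₀' : Matrix (Fin n) (Fin n) F₀}
    (hr : Rel σ j (g : GI) M₀) (hr' : Rel σ j (g' : GI) M₀') :
    IsConjUnder (inndiagPSU n F q) (psuSemi g σ : MulAut PS) (psuSemi g' σ) ↔ Similar M₀' M₀ := by
  obtain ⟨μ, η, y, hgy, hy⟩ := hr
  obtain ⟨μ', η', y', hgy', hy'⟩ := hr'
  constructor
  · rintro ⟨a, ha, he⟩
    rw [inndiagPSU_eq] at ha
    obtain ⟨u, rfl⟩ := ha
    obtain ⟨d, hd⟩ := (conj_iff hF hn u g g' σ).1 he.symm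
    obtain ⟨k, c, ν, hc, hk, -, -⟩ := exists_sim_of_unit hσ j hj (by omega) hy hy' hgy hgy'
      ((mem_GU_iff hF hσ _).1 u.2) hd
    exact similar_of_congr M₀' k hc hk
  · intro h
    obtain ⟨k, c, hk⟩ := h.exists_matrix
    have he := (mult_fixed hσ j hj (by omega) hy hy' k hk).2
    obtain ⟨ν, hν⟩ := fixed_mult hF hσ j hj (mul_ne_zero (mul_ne_zero (inv_ne_zero η'.ne_zero)
      ((map_ne_zero j).2 c.ne_zero)) η.ne_zero) he
    obtain ⟨u, -, hu, hd⟩ := exists_unit_of_sim hσ j hj (by omega) hy hy' hgy hgy' k hk hν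
    refine ⟨inndiagHom n F q ⟨u, (mem_GU_iff hF hσ u).2 hu⟩, ?_, ?_⟩
    · rw [inndiagPSU_eq]; exact ⟨_, rfl⟩
    · exact ((conj_iff hF hn ⟨u, (mem_GU_iff hF hσ u).2 hu⟩ g g' σ).2 hd).symm

/-- Similitudes over the small field give commuting unitary matrices. -/
theorem exists_commuting (hn : 3 ≤ n) {g : GU n F q} {M₀ : Matrix (Fin n) (Fin n) F₀} {μ η : Fˣ} {y : GI}
    (hgy : (g : GI) = Sc μ * (y * (gmap σ y)⁻¹)) (hy : M₀.map j = (η : F) • herm σ y)
    {k : GL (Fin n) F₀} {c : F₀ˣ}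
    (hk : (k : Matrix (Fin n) (Fin n) F₀)ᵀ * M₀ * (k : Matrix (Fin n) (Fin n) F₀) = (c : F₀) • M₀)
    {ν : Fˣ} (hν : (ν : F) * σ ν * j c = 1) :
    ∃ u : GU n F q, (u : GI) = Sc ν * (y * Matrix.GeneralLinearGroup.map j k * y⁻¹) ∧
      Commute (inndiagHom n F q u) (psuSemi g σ : MulAut PS) := by
  have hν' : (ν : F) * σ ν * ((η : F)⁻¹ * j (c : F₀) * η) = 1 := by
    rw [mul_comm (η : F)⁻¹, mul_assoc (j (c : F₀)), inv_mul_cancel₀ η.ne_zero, mul_one]; exact hν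
  obtain ⟨u, hu', hu, hd⟩ := exists_unit_of_sim hσ j hj (by omega) hy hy hgy hgy k hk hν'
  exact ⟨⟨u, (mem_GU_iff hF hσ u).2 hu⟩, hu', (commute_semi_iff hF hn _ _ _).2 hd⟩

theorem commuting_form (hn : 3 ≤ n) {g : GU n F q} {M₀ : Matrix (Fin n) (Fin n) F₀} {μ η : Fˣ} {y : GI}
    (hgy : (g : GI) = Sc μ * (y * (gmap σ y)⁻¹)) (hy : M₀.map j = (η : F) • herm σ y) {u : GU n F q}
    (h : Commute (inndiagHom n F q u) (psuSemi g σ : MulAut PS)) :
    ∃ (k : GL (Fin n) F₀) (c : F₀ˣ) (ν : Fˣ),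
      (k : Matrix (Fin n) (Fin n) F₀)ᵀ * M₀ * (k : Matrix (Fin n) (Fin n) F₀) = (c : F₀) • M₀ ∧
      (u : GI) = Sc ν * (y * Matrix.GeneralLinearGroup.map j k * y⁻¹) ∧ (ν : F) * σ ν * j c = 1 := by
  obtain ⟨d, hd⟩ := (commute_semi_iff hF hn _ _ _).1 h
  obtain ⟨k, c, ν, hc, hk, hu, hν⟩ := exists_sim_of_unit hσ j hj (by omega) hy hy hgy hgy
    ((mem_GU_iff hF hσ _).1 u.2) hd
  refine ⟨k, Units.mk0 c hc, ν, hk, hu, ?_⟩
  rw [mul_comm (η : F)⁻¹, mul_assoc (j c), inv_mul_cancel₀ η.ne_zero, mul_one] at hν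
  exact hν

theorem centralizer_iso (hn : 3 ≤ n) {g : GU n F q} {M₀ : Matrix (Fin n) (Fin n) F₀}
    (hr : Rel σ j (g : GI) M₀) :
    Nonempty (↥(inndiagPSU n F q ⊓ Subgroup.centralizer {(psuSemi g σ : MulAut PS)}) ≃* projQuot (sim M₀)) := by
  classical
  haveI : Nonempty (Fin n) := ⟨⟨0, by omega⟩⟩
  obtain ⟨μ, η, y, hgy, hy⟩ := hr
  have hex : ∀ k : sim M₀, ∃ (u : GU n F q) (ν : Fˣ),
      (u : GI) = Sc ν * (y * Matrix.GeneralLinearGroup.map j k.1 * y⁻¹) ∧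
        Commute (inndiagHom n F q u) (psuSemi g σ : MulAut PS) := fun k => by
    obtain ⟨c, hc⟩ := mem_sim.1 k.2
    obtain ⟨ν, hν⟩ := fixed_mult hF hσ j hj ((map_ne_zero j).2 c.ne_zero) ((hj _).2 ⟨_, rfl⟩)
    obtain ⟨u, hu, hcom⟩ := exists_commuting hF hσ j hj hn hgy hy hc hν
    exact ⟨u, ν, hu, hcom⟩
  choose U Nu hU hUc using hex
  let Φ : sim M₀ →* ↥(inndiagPSU n F q ⊓ Subgroup.centralizer {(psuSemi g σ : MulAut PS)}) :=
    MonoidHom.mk' (fun k => ⟨inndiagHom n F q (U k), by rw [inndiagPSU_eq]; exact ⟨_, rfl⟩,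
      Subgroup.mem_centralizer_singleton_iff.2 (hUc k)⟩) fun a b => Subtype.ext (by
        show inndiagHom n F q (U (a * b)) = inndiagHom n F q (U a) * inndiagHom n F q (U b)
        rw [← map_mul (inndiagHom n F q)]
        refine inndiag_eq_of_scalar hF hn (c := Nu (a * b) * (Nu a * Nu b)⁻¹) ?_
        rw [Subgroup.coe_mul, hU, hU, hU, Subgroup.coe_mul, map_mul (Matrix.GeneralLinearGroup.map j)]
        have hc : ∀ (t : Fˣ) (x : GI), x * Sc t = Sc t * x := fun t x => (Descent.scalar_comm t x).symm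
        calc Sc (Nu (a * b)) * (y * (Matrix.GeneralLinearGroup.map j a.1 * Matrix.GeneralLinearGroup.map j b.1) * y⁻¹)
            = Sc (Nu (a * b) * (Nu a * Nu b)⁻¹ * (Nu a * Nu b)) * ((y * Matrix.GeneralLinearGroup.map j a.1 * y⁻¹) *
                (y * Matrix.GeneralLinearGroup.map j b.1 * y⁻¹)) := by
              rw [inv_mul_cancel_right]; group
          _ = _ := by
              rw [map_mul, map_mul (Matrix.GeneralLinearGroup.scalar (Fin n)) (Nu a)]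
              rw [mul_assoc _ (Sc (Nu a) * Sc (Nu b))]
              congr 1
              simp only [mul_assoc]
              congr 1
              simp only [← mul_assoc]
              rw [hc (Nu b)]
              simp only [mul_assoc])
  have hsurj : Function.Surjective Φ := by
    rintro ⟨β, hβ1, hβ2⟩
    have hβ1' : β ∈ (inndiagHom n F q).range := by rw [← inndiagPSU_eq]; exact hβ1
    obtain ⟨u, rfl⟩ := hβ1'
    obtain ⟨k, c, ν, hk, hu, -⟩ := commuting_form hF hσ j hj hn hgy hy (u := u) (Subgroup.mem_centralizer_singleton_iff.1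
      (show inndiagHom n F q u ∈ Subgroup.centralizer {(psuSemi g σ : MulAut PS)} from hβ2))
    refine ⟨⟨k, mem_sim.2 ⟨c, hk⟩⟩, Subtype.ext ?_⟩
    refine inndiag_eq_of_scalar hF hn (c := Nu ⟨k, mem_sim.2 ⟨c, hk⟩⟩ * ν⁻¹) ?_
    rw [hU, hu, ← mul_assoc (Sc _) (Sc ν), ← map_mul, inv_mul_cancel_right]
  have hker : Φ.ker = (Geo.scalars (Fin n) F₀).subgroupOf (sim M₀) := by
    ext k
    rw [MonoidHom.mem_ker, Subtype.ext_iff, Subgroup.mem_subgroupOf, Geo.mem_scalars_iff]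
    show inndiagHom n F q (U k) = 1 ↔ _
    rw [ker_inndiagHom_iff' hF hn]
    constructor
    · rintro ⟨t, ht⟩
      rw [hU] at ht
      have h1 : Matrix.GeneralLinearGroup.map j k.1 = Sc ((Nu k)⁻¹ * t) := by
        calc Matrix.GeneralLinearGroup.map j k.1
            = y⁻¹ * ((Sc (Nu k))⁻¹ * (Sc (Nu k) * (y * Matrix.GeneralLinearGroup.map j k.1 * y⁻¹))) * y := by group
          _ = _ := by rw [ht, ← map_inv, ← map_mul, ← Descent.scalar_comm, inv_mul_cancel_right]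
      have he : ∀ a b, j (((k.1 : GL (Fin n) F₀) : Matrix (Fin n) (Fin n) F₀) a b) =
          if a = b then (((Nu k)⁻¹ * t : Fˣ) : F) else 0 := fun a b => by
        refine (congrFun (congrFun (congrArg (fun u : GI => (u : Mn)) h1) a) b).trans ?_
        rw [PSLAut.scalar_coe]
        simp [Matrix.one_apply]
      set o : Fin n := ⟨0, by omega⟩
      have h0 : ((k.1 : GL (Fin n) F₀) : Matrix (Fin n) (Fin n) F₀) o o ≠ 0 := fun h0 => by
        have h3 := he o o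
        rw [h0, map_zero, if_pos rfl] at h3
        exact Units.ne_zero _ h3.symm
      refine ⟨Units.mk0 _ h0, Matrix.ext fun a b => j.injective ?_⟩
      rw [he]
      by_cases hab : a = b <;> simp [hab, he]
    · rintro ⟨c, hc⟩
      refine ⟨Nu k * Units.map j.toMonoidHom c, ?_⟩
      have h1 : Matrix.GeneralLinearGroup.map j k.1 = Sc (Units.map j.toMonoidHom c) := by
        refine Units.ext (Matrix.ext fun a b => ?_)
        show j (((k.1 : GL (Fin n) F₀) : Matrix (Fin n) (Fin n) F₀) a b) = _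
        rw [hc]
        by_cases hab : a = b <;> simp [hab]
      rw [hU, h1, ← Descent.scalar_comm, mul_inv_cancel_right, ← map_mul]
  exact ⟨((QuotientGroup.quotientMulEquivOfEq hker.symm).trans
    (QuotientGroup.quotientKerEquivOfSurjective Φ hsurj)).symm⟩

/-! ### Splitting -/

omit hσ hj in
theorem det_mem_N (u : GU n F q) :
    Matrix.GeneralLinearGroup.det (u : GI) ∈ (powMonoidHom (q + 1) : Fˣ →* Fˣ).ker := by
  rw [MonoidHom.mem_ker, powMonoidHom_apply]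
  refine Units.ext ?_
  rw [Units.val_pow_eq_pow_val, Units.val_one, pow_succ', ← qFrob_apply hF]
  exact det_norm_one hF u.2

omit hj in
theorem mem_N_iff (w : Fˣ) :
    w ∈ (powMonoidHom (q + 1) : Fˣ →* Fˣ).ker ↔ (w : F) * σ w = 1 := by
  rw [MonoidHom.mem_ker, powMonoidHom_apply, ← Units.val_eq_one, Units.val_pow_eq_pow_val, pow_succ',
    ← PSLAut.sigma_eq_pow hF hσ]

omit hσ hj in
theorem splitClassCount_detU (hn : 3 ≤ n) (x : MulAut PS)
    (D : Subgroup (powMonoidHom (q + 1) : Fˣ →* Fˣ).ker)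
    (h1 : ∀ u : GU n F q, Commute (inndiagHom n F q u) x →
      (⟨_, det_mem_N hF u⟩ : (powMonoidHom (q + 1) : Fˣ →* Fˣ).ker) ∈ (powMonoidHom n).range ⊔ D)
    (h2 : ∀ t ∈ D, ∃ u : GU n F q,
      Matrix.GeneralLinearGroup.det (u : GI) = (t : Fˣ) ∧ Commute (inndiagHom n F q u) x) :
    splitClassCount (inndiagPSU n F q) (Inn PS) x = Nat.gcd n D.index := by
  classical
  haveI : Nonempty (Fin n) := ⟨⟨0, by omega⟩⟩
  let d : GU n F q →* (powMonoidHom (q + 1) : Fˣ →* Fˣ).ker := ((Matrix.GeneralLinearGroup.det).comp (GU n F q).subtype).codRestrict (powMonoidHom (q + 1) : Fˣ →* Fˣ).ker fun u =>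
    det_mem_N hF u
  have hN : ∀ w : Fˣ, w ∈ (powMonoidHom (q + 1) : Fˣ →* Fˣ).ker ↔ (w : F) * qFrob hF (w : F) = 1 := fun w => by
    rw [MonoidHom.mem_ker, powMonoidHom_apply, qFrob_apply, ← pow_succ', ← Units.val_pow_eq_pow_val,
      Units.val_eq_one]
  have hd : Function.Surjective d := fun t => by
    obtain ⟨e, hee0, hee⟩ := exists_isotropic hF (show 2 ≤ n by omega)
    obtain ⟨f, P⟩ := exists_pair hF hee0 hee
    obtain ⟨v, -, -, hvv⟩ := exists_aniso_orth hF hn P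
    obtain ⟨g, hg, hdet, -⟩ := exists_reflection hF hvv ((hN _).1 t.2)
    exact ⟨⟨g, hg⟩, Subtype.ext (Units.ext hdet)⟩
  have hscN : ∀ {g k : GU n F q} {μ : Fˣ}, (g : GI) = Sc μ * (k : GI) → μ ∈ (powMonoidHom (q + 1) : Fˣ →* Fˣ).ker := by
    intro g k μ hgk
    obtain ⟨σ', hσ'⟩ := exists_sigma hF
    rw [mem_N_iff hF hσ']
    have h3 := (mem_GU_iff hF hσ' _).1 g.2
    rw [hgk, herm_scalar, (mem_GU_iff hF hσ' _).1 k.2] at h3
    have h4 := congrFun (congrFun h3 ⟨0, by omega⟩) ⟨0, by omega⟩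
    rwa [Matrix.smul_apply, Matrix.one_apply_eq, smul_eq_mul, mul_one] at h4
  have hdsc : ∀ {g k : GU n F q} {μ : Fˣ} (hgk : (g : GI) = Sc μ * (k : GI)),
      d g = (⟨μ, hscN hgk⟩ : (powMonoidHom (q + 1) : Fˣ →* Fˣ).ker) ^ n * d k := by
    intro g k μ hgk
    refine Subtype.ext (Units.ext ?_)
    show ((g : GI) : Mn).det = _
    rw [hgk, PSLAut.scalar_mul_coe, Matrix.det_smul, Fintype.card_fin]
    simp [d, MonoidHom.codRestrict]
  have hdsu : ∀ s : SU n F q, d (suToGU s) = 1 := fun s => Subtype.ext (Units.ext s.1.2)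
  haveI : IsCyclic (powMonoidHom (q + 1) : Fˣ →* Fˣ).ker := inferInstance
  rw [splitClassCount_eq_relIndex _ _ (inn_le_inndiag.trans inndiagPSU_eq.ge), inndiagPSU_eq,
    ← Subgroup.index_comap]
  have hL : Subgroup.comap (inndiagHom n F q)
      (Inn PS ⊔ ((inndiagHom n F q).range ⊓ Subgroup.centralizer {x}))
      = Subgroup.comap d ((powMonoidHom n : (powMonoidHom (q + 1) : Fˣ →* Fˣ).ker →* (powMonoidHom (q + 1) : Fˣ →* Fˣ).ker).range ⊔ D) := by
    ext g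
    rw [Subgroup.mem_comap, Subgroup.mem_comap, Subgroup.mem_sup_of_normal_left]
    constructor
    · rintro ⟨k, ⟨z, rfl⟩, _, ⟨⟨a, rfl⟩, hc⟩, he⟩
      obtain ⟨s, rfl⟩ := suToPSU_surjective z
      rw [conj_eq_psuSemi, ← inndiagHom_apply, ← map_mul] at he
      obtain ⟨ν, hν⟩ := (semi_eq_iff hF hn).1 he.symm
      rw [hdsc hν, map_mul, hdsu, one_mul]
      exact mul_mem (Subgroup.mem_sup_left ⟨_, rfl⟩) (h1 a (Subgroup.mem_centralizer_singleton_iff.1
        (show inndiagHom n F q a ∈ Subgroup.centralizer {x} from hc)))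
    · intro hg
      obtain ⟨_, ⟨μ, rfl⟩, t, ht, hμt⟩ := Subgroup.mem_sup.1 hg
      obtain ⟨A, hA', hAc⟩ := h2 t ht
      have hA : d A = t := Subtype.ext hA'
      have hμN : ((μ : Fˣ) : F) * qFrob hF ((μ : Fˣ) : F) = 1 := (hN _).1 μ.2
      have hSc : Sc (μ : Fˣ) ∈ GU n F q := mem_GU.2 fun u v => by
        rw [PSLAut.scalar_coe, Matrix.smul_mulVec, Matrix.smul_mulVec, Matrix.one_mulVec, Matrix.one_mulVec,
          h_smul_left, h_smul_right hF, ← mul_assoc, hμN, one_mul]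
      set S : GU n F q := ⟨_, hSc⟩
      have hS : d S = μ ^ n := by
        have := hdsc (g := S) (k := 1) (μ := (μ : Fˣ)) (by rw [OneMemClass.coe_one, mul_one])
        rw [map_one, mul_one] at this
        exact this
      set R := g * A⁻¹ * S⁻¹
      have hR : d R = 1 := by
        rw [map_mul, map_mul, map_inv, map_inv, hA, hS, ← hμt, powMonoidHom_apply, mul_inv_cancel_right,
          mul_inv_cancel]
      let s : SU n F q := ⟨⟨((R : GI) : Mn), congrArg (fun t : (powMonoidHom (q + 1) : Fˣ →* Fˣ).ker => ((t : Fˣ) : F)) hR⟩, fun u v => mem_GU.1 R.2 u v⟩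
      refine ⟨_, ⟨suToPSU n F q s, rfl⟩, inndiagHom n F q A, ⟨⟨A, rfl⟩, Subgroup.mem_centralizer_singleton_iff.2
        hAc⟩, ?_⟩
      rw [conj_eq_psuSemi, ← inndiagHom_apply, show suToGU s = R from Subtype.ext (Units.ext rfl),
        map_mul, map_mul, map_inv, map_inv,
        show inndiagHom n F q S = 1 from (ker_inndiagHom_iff' hF hn).2 ⟨_, rfl⟩, inv_one, mul_one,
        inv_mul_cancel_right]
  rw [hL, Subgroup.index_comap_of_surjective _ hd, index_pow_sup]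

omit hσ hj in
theorem det_form {k : GL (Fin n) F₀} {y : GI} (ν : Fˣ) :
    ((Sc ν * (y * Matrix.GeneralLinearGroup.map j k * y⁻¹) : GI) : Mn).det =
      (ν : F) ^ n * j (k : Matrix (Fin n) (Fin n) F₀).det := by
  have h1 : ((Matrix.GeneralLinearGroup.map j k : GI) : Mn).det = j (k : Matrix (Fin n) (Fin n) F₀).det :=
    (RingHom.map_det j _).symm
  rw [PSLAut.scalar_mul_coe, Matrix.det_smul, Fintype.card_fin, Units.val_mul, Units.val_mul, Matrix.det_mul,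
    Matrix.det_mul, mul_comm (y : Mn).det, mul_assoc (_ : F), ← Matrix.det_mul, Units.mul_inv, Matrix.det_one,
    mul_one, h1]

theorem split_graph (hn : 3 ≤ n) {g : GU n F q} {M₀ : Matrix (Fin n) (Fin n) F₀} (hr : Rel σ j (g : GI) M₀)
    (D : Subgroup (powMonoidHom (q + 1) : Fˣ →* Fˣ).ker)
    (h1 : ∀ (k : GL (Fin n) F₀) (c : F₀ˣ) (ν : Fˣ) (t : (powMonoidHom (q + 1) : Fˣ →* Fˣ).ker),
      (k : Matrix (Fin n) (Fin n) F₀)ᵀ * M₀ * (k : Matrix (Fin n) (Fin n) F₀) = (c : F₀) • M₀ →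
      (ν : F) * σ ν * j c = 1 → ((t : Fˣ) : F) = (ν : F) ^ n * j (k : Matrix (Fin n) (Fin n) F₀).det →
      t ∈ (powMonoidHom n).range ⊔ D)
    (h2 : ∀ t ∈ D, ∃ (k : GL (Fin n) F₀) (c : F₀ˣ) (ν : Fˣ),
      (k : Matrix (Fin n) (Fin n) F₀)ᵀ * M₀ * (k : Matrix (Fin n) (Fin n) F₀) = (c : F₀) • M₀ ∧
      (ν : F) * σ ν * j c = 1 ∧ ((t : Fˣ) : F) = (ν : F) ^ n * j (k : Matrix (Fin n) (Fin n) F₀).det) :
    splitClassCount (inndiagPSU n F q) (Inn PS) (psuSemi g σ) = Nat.gcd n D.index := by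
  obtain ⟨μ, η, y, hgy, hy⟩ := hr
  refine splitClassCount_detU hF hn _ D (fun u hu => ?_) fun t ht => ?_
  · obtain ⟨k, c, ν, hk, hu', hν⟩ := commuting_form hF hσ j hj hn hgy hy hu
    refine h1 k c ν _ hk hν ?_
    show ((u : GI) : Mn).det = _
    rw [hu', det_form hF j]
  · obtain ⟨k, c, ν, hk, hν, ht'⟩ := h2 t ht
    obtain ⟨u, hu, hc⟩ := exists_commuting hF hσ j hj hn hgy hy hk hν
    refine ⟨u, Units.ext ?_, hc⟩
    show ((u : GI) : Mn).det = _
    rw [hu, det_form hF j, ht']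

theorem mult_sq_mem {ν : Fˣ} {c : F₀ˣ} (h : (ν : F) * σ ν * j c = 1) :
    ν ^ 2 * Units.map j.toMonoidHom c ∈ (powMonoidHom (q + 1) : Fˣ →* Fˣ).ker := by
  rw [mem_N_iff hF hσ]
  show (ν : F) ^ 2 * j c * σ ((ν : F) ^ 2 * j c) = 1
  rw [map_mul, map_pow, (hj (j c)).2 ⟨_, rfl⟩]
  linear_combination ((ν : F) * σ ν * j c + 1) * h

theorem root_mem {ν : Fˣ} {c s : F₀ˣ} (hs : s ^ 2 = c) (h : (ν : F) * σ ν * j c = 1) :
    ν * Units.map j.toMonoidHom s ∈ (powMonoidHom (q + 1) : Fˣ →* Fˣ).ker := by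
  rw [mem_N_iff hF hσ]
  show (ν : F) * j s * σ ((ν : F) * j s) = 1
  rw [← hs, Units.val_pow_eq_pow_val, map_pow] at h
  rw [map_mul, (hj (j s)).2 ⟨_, rfl⟩]
  linear_combination h

theorem exists_mult_of_norm_one (w : (powMonoidHom (q + 1) : Fˣ →* Fˣ).ker) :
    ∃ (ν : Fˣ) (c : F₀ˣ), (ν : F) * σ ν * j c = 1 ∧ (ν : F) ^ 2 * j c = ((w : Fˣ) : F) := by
  obtain ⟨ν, hν⟩ := unitNorm_hilbert90 σ (w : Fˣ) (Units.ext (by
    rw [hσ, norm_eq, (mem_N_iff hF hσ _).1 w.2, Units.val_one]))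
  have hσν : σ (ν : F) ≠ 0 := (map_ne_zero σ).2 ν.ne_zero
  have hνν : (ν : F) * σ ν ≠ 0 := mul_ne_zero ν.ne_zero hσν
  obtain ⟨c, hc⟩ := (hj ((ν : F) * σ ν)⁻¹).1 (by rw [map_inv₀, map_mul, invol hσ, mul_comm])
  have hc0 : c ≠ 0 := fun h0 => inv_ne_zero hνν (by rw [← hc, h0, map_zero])
  refine ⟨ν, Units.mk0 c hc0, ?_, ?_⟩
  · rw [Units.val_mk0, hc, mul_inv_cancel₀ hνν]
  · rw [Units.val_mk0, hc, hν, Units.val_mul, Units.val_inv_eq_inv_val,
      show ((Units.map σ.toMonoidHom ν : Fˣ) : F) = σ (ν : F) from rfl]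
    have hν0 := ν.ne_zero
    field_simp

/-- A model as a graph automorphism. -/
theorem exists_graph {κ : Type} [Fintype κ] [DecidableEq κ] (hn : 3 ≤ n) (hκ : Fintype.card κ = n)
    {S : Matrix κ κ F₀} (hS : S.det ≠ 0) (hS' : Sᵀ = S ∨ Sᵀ = -S) :
    ∃ (g : GU n F q) (M₀ : Matrix (Fin n) (Fin n) F₀), Rel σ j (g : GI) M₀ ∧ Similar M₀ S ∧
      IsGraphAutClassPSU (psuSemi g σ : MulAut PS) ∧ orderOf (psuSemi g σ : MulAut PS) = 2 := by
  haveI : Nonempty (Fin n) := ⟨⟨0, by omega⟩⟩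
  obtain ⟨M, hM, hd, hε⟩ := exists_model S hκ
  obtain ⟨g, hg, hgs, hr⟩ := exists_of_form hσ j hj (M₀ := M) (hd.trans_ne hS) (by
    rcases hS' with h | h
    · exact Or.inl ((hε 1 (by rw [one_smul, h])).trans (one_smul _ _))
    · exact Or.inr ((hε (-1) (by rw [neg_one_smul, h])).trans (neg_one_smul _ _)))
  exact ⟨⟨g, (mem_GU_iff hF hσ g).2 hg⟩, M, hr, hM, graph_of_sym hF hn hσ _ hgs⟩

end

end Cfsg.Agent.Classical.PSUAut
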