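import Cfsg.Agent.Lib.Classical.PSpGraphAut

/-! Orders of `Inn`, `Inndiag` and `Aut` of `PSp_{2m}(q)`. -/

set_option autoImplicit false
set_option linter.unusedSectionVars false

namespace Cfsg.Agent.Classical.PSpAut

open Matrix

variable {F : Type*} [Field F] [Fintype F] {m : ℕ} {p : ℕ} [Fact p.Prime] [CharP F p]

local notation "Sp" => Matrix.symplecticGroup (Fin m) F
local notation "PS" => PSp m F
local notation "π" => spToPSp m F

theorem natCard_inn (hm : 1 ≤ m) : Nat.card (Inn PS) = Nat.card PS := by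
  refine (Nat.card_congr (MonoidHom.ofInjective ((injective_iff_map_eq_one _).2 fun x hx => ?_)).toEquiv).symm
  obtain ⟨s, rfl⟩ := spToPSp_surjective x
  rw [conj_eq_pspSemi] at hx
  obtain ⟨-, c, hc⟩ := (pspSemi_eq_one_iff hm).1 hx
  have h1 := congrArg (mult hm) hc
  rw [mult_spToGSp, mult_scalar] at h1
  refine (pi_eq_one_iff (by omega)).2 ⟨c, ?_, ?_⟩
  · rw [← Units.val_pow_eq_pow_val, ← h1, Units.val_one]
  · rw [← spToGSp_coe s, hc, gspScalar_coe, Matrix.GeneralLinearGroup.coe_scalar, Matrix.scalar_apply,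
      ← Matrix.smul_one_eq_diagonal]

include p in
/-- The kernel of `Sp → PSp` has order `gcd(2, q-1)`. -/
theorem natCard_sp_eq (hm : 1 ≤ m) {f : ℕ} (hf : f ≠ 0) (hF : Fintype.card F = p ^ f) :
    Nat.card Sp = Nat.gcd 2 (p ^ f - 1) * Nat.card PS := by
  classical
  have hcard : Nat.card (π).ker * Nat.card PS = Nat.card Sp := by
    rw [← Subgroup.card_mul_index (π).ker, Subgroup.index_ker,
      MonoidHom.range_eq_top.2 spToPSp_surjective, Subgroup.card_top]
  rw [← hcard]
  congr 1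
  have hne : Nonempty (Fin m ⊕ Fin m) := ⟨Sum.inl ⟨0, hm⟩⟩
  let e : {l : Fˣ // l ^ 2 = 1} → (π).ker := fun l =>
    ⟨⟨((l : Fˣ) : F) • 1, mem_symplecticGroup_iff_form.2 fun u v => by
      rw [Matrix.smul_mulVec, Matrix.smul_mulVec, Matrix.one_mulVec, Matrix.one_mulVec, sympForm_smul_left,
        sympForm_smul_right, ← mul_assoc, ← Units.val_mul, ← sq, l.2, Units.val_one, one_mul]⟩,
      (pi_eq_one_iff (by omega)).2 ⟨_, by rw [← Units.val_pow_eq_pow_val, l.2, Units.val_one], rfl⟩⟩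
  have he : Function.Bijective e := by
    constructor
    · intro a b hab
      have h := congrFun (congrFun (congrArg (fun x : (π).ker =>
        ((x : Sp) : Matrix (Fin m ⊕ Fin m) (Fin m ⊕ Fin m) F)) hab) hne.some) hne.some
      simp [e] at h
      exact Subtype.ext (Units.ext h)
    · rintro ⟨s, hs⟩
      obtain ⟨l, hl, hsl⟩ := (pi_eq_one_iff (by omega)).1 hs
      exact ⟨⟨⟨l, l, by rw [← sq, hl], by rw [← sq, hl]⟩, Units.ext (by simpa using hl)⟩,
        Subtype.ext (Subtype.ext hsl.symm)⟩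
  rw [← Nat.card_congr (Equiv.ofBijective e he)]
  have hcyc : IsCyclic Fˣ := inferInstance
  have h := IsCyclic.card_powMonoidHom_ker (G := Fˣ) 2
  rw [Nat.card_eq_fintype_card (α := Fˣ), Fintype.card_units, hF, Nat.gcd_comm] at h
  rw [← h]
  exact Nat.card_congr (Equiv.subtypeEquivRight fun l => by simp [MonoidHom.mem_ker])

theorem natCard_inndiag (hm : 1 ≤ m) : Nat.card (inndiagPSp m F) = Nat.card Sp := by
  classical
  have h1 : Nat.card (inndiagHom m F).ker * Nat.card (inndiagPSp m F) = Nat.card (GSp m F) := by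
    rw [inndiagPSp_eq, ← Subgroup.card_mul_index (inndiagHom m F).ker, Subgroup.index_ker]
  have h2 : Nat.card (mult (F := F) hm).ker * Nat.card Fˣ = Nat.card (GSp m F) := by
    rw [← Subgroup.card_mul_index (mult (F := F) hm).ker, Subgroup.index_ker,
      MonoidHom.range_eq_top.2 fun t => (mult_surjective hm t).imp fun g hg => hg.1, Subgroup.card_top]
  have h3 : Nat.card (mult (F := F) hm).ker = Nat.card Sp := by
    refine (Nat.card_congr (Equiv.ofBijective (fun s : Sp => (⟨spToGSp s, mult_spToGSp hm s⟩ :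
      (mult (F := F) hm).ker)) ⟨fun a b h => ?_, ?_⟩)).symm
    · exact Subtype.ext (by rw [← spToGSp_coe a, ← spToGSp_coe b, show spToGSp a = spToGSp b from congrArg Subtype.val h])
    · rintro ⟨g, hg⟩
      exact (exists_sp_of_mult_eq_one hm hg).imp fun s hs => Subtype.ext hs
  have h4 : Nat.card (inndiagHom m F).ker = Nat.card Fˣ := by
    rw [ker_inndiagHom hm]
    refine (Nat.card_congr (MonoidHom.ofInjective fun a b h => ?_).toEquiv).symm
    have := congrArg (fun g : GSp m F => ((g : GL (Fin m ⊕ Fin m) F) :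
      Matrix (Fin m ⊕ Fin m) (Fin m ⊕ Fin m) F) (Sum.inl ⟨0, hm⟩) (Sum.inl ⟨0, hm⟩)) h
    simp [gspScalar_coe, Matrix.GeneralLinearGroup.coe_scalar, Matrix.scalar_apply] at this
    exact Units.ext this
  rw [h3] at h2
  rw [h4, ← h2, mul_comm (Nat.card Sp)] at h1
  exact Nat.eq_of_mul_eq_mul_left Nat.card_pos h1

include p in
theorem natCard_aut (hm : 2 ≤ m) (h4 : m = 2 → p ≠ 2) :
    Nat.card (MulAut PS) = Nat.card (inndiagPSp m F) * Nat.card (RingAut F) := by
  rw [← Nat.card_prod]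
  refine (Nat.card_congr (Equiv.ofBijective
    (fun x : inndiagPSp m F × RingAut F => (x.1 : MulAut PS) * pspSemi 1 x.2) ⟨?_, fun β => ?_⟩)).symm
  · rintro ⟨⟨a, ha⟩, σ⟩ ⟨⟨b, hb⟩, τ⟩ h
    obtain ⟨g, rfl⟩ := mem_inndiag_iff.1 ha
    obtain ⟨k, rfl⟩ := mem_inndiag_iff.1 hb
    simp only [inndiagHom_apply, pspSemi_refl_mul, mul_one] at h
    obtain rfl := ((semi_inj (by omega)).1 h).1
    refine Prod.ext (Subtype.ext ?_) rfl
    have h' : inndiagHom m F g * pspSemi 1 σ = inndiagHom m F k * pspSemi 1 σ := by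
      simpa only [inndiagHom_apply, pspSemi_refl_mul, mul_one] using h
    exact mul_right_cancel h'
  · obtain ⟨g, σ, rfl⟩ := exists_param (p := p) hm h4 β
    refine ⟨(⟨_, mem_inndiag_iff.2 ⟨g, rfl⟩⟩, σ), ?_⟩
    simp only [inndiagHom_apply, pspSemi_refl_mul, mul_one]

include p in
/-- The order of `Aut(PSp_{2m}(q))`. -/
theorem natCard_mulAut (hm : 2 ≤ m) {f : ℕ} (hf : f ≠ 0) (hF : Fintype.card F = p ^ f) :
    Nat.card (MulAut PS) =
      (if m = 2 ∧ p = 2 then 2 else 1) * Nat.gcd 2 (p ^ f - 1) * f * Nat.card PS := by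
  split_ifs with h
  · obtain ⟨rfl, rfl⟩ := h
    have hodd : Nat.gcd 2 (2 ^ f - 1) = 1 := by
      refine (Nat.Prime.coprime_iff_not_dvd Nat.prime_two).2 ?_
      have : 2 ∣ 2 ^ f := dvd_pow_self 2 hf
      have := Nat.one_le_two_pow (n := f)
      omega
    obtain ⟨-, hout⟩ := Graph.out_structure (F := F) hF
    rw [hodd, mul_one, Subgroup.card_eq_card_quotient_mul_card_subgroup (Inn (PSp 2 F)),
      natCard_inn one_le_two]
    rw [show Nat.card (MulAut (PSp 2 F) ⧸ Inn (PSp 2 F)) = 2 * f from hout]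
  · rw [natCard_aut (p := p) hm (fun h2 hp => h ⟨h2, hp⟩), natCard_inndiag (by omega),
      natCard_sp_eq (p := p) (by omega) hf hF, (PSLAut.card_ringAut (F := F) (p := p) hF).2]
    ring

end Cfsg.Agent.Classical.PSpAut
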