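import Cfsg.Agent.Lib.Classical.PSpTransvection
import Cfsg.Agent.Lib.Classical.PSLAutStructure
import Cfsg.Agent.Lib.Classical.SympGen

/-!
Every automorphism of `PSp_{2m}(F)` is semilinear unless `m = 2` in characteristic two: it permutes the
transvection groups, hence fixes a symplectic basis up to a similitude, and on each plane it comes from
an automorphism of `SL_2`.
-/

set_option autoImplicit false
set_option linter.unusedSectionVars false

namespace Cfsg.Agent.Classical.PSpAut

open Matrix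

variable {F : Type*} [Field F] [Fintype F] {m : ℕ} {p : ℕ} [Fact p.Prime] [CharP F p]

local notation "V" => (Fin m ⊕ Fin m → F)
local notation "Sp" => Matrix.symplecticGroup (Fin m) F
local notation "PS" => PSp m F
local notation "MI" => Matrix (Fin m ⊕ Fin m) (Fin m ⊕ Fin m) F
local notation "π" => spToPSp m F
local notation "SL2" => Matrix.SpecialLinearGroup (Fin 2) F

/-- The automorphism maps transvections to transvections. -/
def PresTV (β : MulAut PS) : Prop := ∀ x ∈ transSet m F, β x ∈ transSet m F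

include p in
theorem presTV_of_ne (hm : 2 ≤ m) (h4 : m = 2 → p ≠ 2) (β : MulAut PS) : PresTV β :=
  fun _ hx => map_transSet (p := p) hm h4 β hx

theorem PresTV.mul {β γ : MulAut PS} (hβ : PresTV β) (hγ : PresTV γ) : PresTV (β * γ) :=
  fun _ hx => hβ _ (hγ _ hx)

theorem PresTV.inv {β : MulAut PS} (hβ : PresTV β) : PresTV β⁻¹ := by
  intro x hx
  have hf : (transSet m F).Finite := Set.toFinite _
  have hsurj : β '' transSet m F = transSet m F :=
    hf.eq_of_subset_of_card_le (Set.image_subset_iff.2 hβ) (le_of_eq (Set.ncard_image_of_injective _ β.injective).symm)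
  obtain ⟨y, hy, rfl⟩ := hsurj.symm ▸ hx
  simpa using hy

theorem presTV_semi (g : GSp m F) (σ : F ≃+* F) : PresTV (pspSemi g σ) := by
  rintro _ ⟨v, c, hv, rfl⟩
  obtain ⟨μ, hμ, -⟩ := image_rootV g σ v
  refine ⟨_, _, fun h => hv ?_, hμ c⟩
  have h1 := congrArg ((((g : GL (Fin m ⊕ Fin m) F)⁻¹ : GL (Fin m ⊕ Fin m) F) : MI) *ᵥ ·) h
  simp only [Matrix.mulVec_mulVec, Units.inv_mul, Matrix.one_mulVec, Matrix.mulVec_zero] at h1
  funext i
  simpa using congrFun h1 i

/-- An automorphism permutes the root groups. -/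
theorem exists_image_rootV {β : MulAut PS} (hβ : PresTV β) {v : V} (hv : v ≠ 0) :
    ∃ w : V, w ≠ 0 ∧ β '' rootV v = rootV w := by
  have sub : ∀ (γ : MulAut PS), PresTV γ → ∀ {v : V}, v ≠ 0 → ∃ w : V, w ≠ 0 ∧ γ '' rootV v ⊆ rootV w := by
    intro γ hγ v hv
    obtain ⟨w, d, hw, hd⟩ := hγ _ ⟨v, 1, hv, rfl⟩
    have hd0 : d ≠ 0 := fun h => rootV_tv_ne_one hv one_ne_zero
      (γ.injective (by rw [hd, h, sympTv_zero, map_one, map_one]))
    refine ⟨w, hw, ?_⟩
    rintro _ ⟨_, ⟨c, rfl⟩, rfl⟩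
    by_cases hc : c = 0
    · exact ⟨0, by simp only [hc, sympTv_zero, map_one]⟩
    obtain ⟨u, e, hu, he⟩ := hγ _ ⟨v, c, hv, rfl⟩
    have he0 : e ≠ 0 := fun h => rootV_tv_ne_one hv hc
      (γ.injective (by rw [he, h, sympTv_zero, map_one, map_one]))
    have hcomm : Commute (π (sympTv u e)) (π (sympTv w d)) := by
      rw [← he, ← hd]
      exact ((comm_of_orth (sympForm_self v) c 1).map π).map γ.toMonoidHom
    have horth := orth_of_comm hu hw he0 hd0 hcomm
    have hprod : π (sympTv u e) * π (sympTv w d) ∈ transSet m F := by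
      rw [← he, ← hd, ← map_mul]
      exact hγ _ ⟨v, c + 1, hv, by rw [← map_mul, sympTv_mul]⟩
    obtain ⟨a, rfl⟩ := par_of_prod hu hw he0 hd0 horth hprod
    exact ⟨a ^ 2 * e, by rw [he, sympTv_smul]⟩
  obtain ⟨w, hw, hsub⟩ := sub β hβ hv
  obtain ⟨v', hv', hsub'⟩ := sub β⁻¹ hβ.inv hw
  have h1 : π (sympTv v 1) ∈ rootV v' :=
    hsub' ⟨_, hsub ⟨_, mem_rootV v 1, rfl⟩, by simp⟩
  obtain ⟨c, hc⟩ := h1
  obtain ⟨a, ha⟩ := exists_smul_of_tv_eq hv one_ne_zero (sympTv_eq_of_pi_eq hv hc.symm)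
  have hvv : rootV v' = rootV v := by
    have ha0 : a ≠ 0 := fun h => hv (by rw [ha, h, zero_smul])
    rw [ha, rootV_smul v' ha0]
  refine ⟨w, hw, hsub.antisymm fun y hy => ?_⟩
  refine ⟨(β⁻¹ : MulAut PS) y, ?_, by simp⟩
  rw [← hvv]
  exact hsub' ⟨y, hy, rfl⟩

theorem orth_iff {β : MulAut PS} {v w v' w' : V} (hv : v ≠ 0) (hw : w ≠ 0) (hv' : v' ≠ 0) (hw' : w' ≠ 0)
    (e : β '' rootV v = rootV v') (e' : β '' rootV w = rootV w') :
    sympForm m F v w = 0 ↔ sympForm m F v' w' = 0 := by
  obtain ⟨c, hc⟩ : β (π (sympTv v 1)) ∈ rootV v' := e ▸ Set.mem_image_of_mem β (mem_rootV v 1)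
  obtain ⟨d, hd⟩ : β (π (sympTv w 1)) ∈ rootV w' := e' ▸ Set.mem_image_of_mem β (mem_rootV w 1)
  have hc0 : c ≠ 0 := fun h => rootV_tv_ne_one hv one_ne_zero
    (β.injective (by rw [← hc]; simp only [h, sympTv_zero, map_one]))
  have hd0 : d ≠ 0 := fun h => rootV_tv_ne_one hw one_ne_zero
    (β.injective (by rw [← hd]; simp only [h, sympTv_zero, map_one]))
  constructor
  · intro h
    refine orth_of_comm hv' hw' hc0 hd0 ?_
    simp only at hc hd
    rw [hc, hd]
    exact ((comm_of_orth h 1 1).map π).map β.toMonoidHom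
  · intro h
    refine orth_of_comm hv hw one_ne_zero one_ne_zero ?_
    have h1 := (comm_of_orth h c d).map π
    simp only at hc hd
    rw [hc, hd] at h1
    simpa using h1.map β.symm.toMonoidHom

theorem rootV_inj {v w : V} (hv : v ≠ 0) (h : rootV v = rootV w) : ∃ a : F, v = a • w := by
  obtain ⟨c, hc⟩ : π (sympTv v 1) ∈ rootV w := h ▸ mem_rootV v 1
  exact exists_smul_of_tv_eq hv one_ne_zero (sympTv_eq_of_pi_eq hv hc.symm)

/-! ### `SL₂` on a hyperbolic plane -/

/-- The map of a plane with `f(v,u) = 1`, on vectors. -/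
def planeFun (u v : V) (M : SL2) (x : V) : V :=
  x + (((M : Matrix (Fin 2) (Fin 2) F) 0 0 - 1) * sympForm m F v x +
      (M : Matrix (Fin 2) (Fin 2) F) 0 1 * sympForm m F x u) • u +
    ((M : Matrix (Fin 2) (Fin 2) F) 1 0 * sympForm m F v x +
      ((M : Matrix (Fin 2) (Fin 2) F) 1 1 - 1) * sympForm m F x u) • v

/-- The linear version of `planeFun`. -/
noncomputable def planeLin (u v : V) (M : SL2) : V →ₗ[F] V where
  toFun := planeFun u v M
  map_add' x y := by
    simp only [planeFun, sympForm_add_left, sympForm_add_right]; module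
  map_smul' c x := by
    simp only [planeFun, sympForm_smul_left, sympForm_smul_right, RingHom.id_apply]; module

theorem planeFun_form {u v : V} (h : sympForm m F v u = 1) (M : SL2) (x y : V) :
    sympForm m F (planeFun u v M x) (planeFun u v M y) = sympForm m F x y := by
  have hdet := M.2
  rw [Matrix.det_fin_two] at hdet
  have h' : sympForm m F u v = -1 := by rw [sympForm_swap, h]
  have sxv : sympForm m F x v = -sympForm m F v x := sympForm_swap x v
  have suy : sympForm m F u y = -sympForm m F y u := sympForm_swap u y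
  simp only [planeFun, sympForm_add_left, sympForm_add_right, sympForm_smul_left, sympForm_smul_right,
    sympForm_self, h, h', sxv, suy]
  linear_combination (sympForm m F v x * sympForm m F y u * -1 + sympForm m F x u * sympForm m F v y) * hdet

theorem planeFun_mul {u v : V} (h : sympForm m F v u = 1) (M N : SL2) (x : V) :
    planeFun u v (M * N) x = planeFun u v M (planeFun u v N x) := by
  have h' : sympForm m F u v = -1 := by rw [sympForm_swap, h]
  simp only [planeFun, sympForm_add_left, sympForm_add_right, sympForm_smul_left, sympForm_smul_right,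
    sympForm_self, h, h', Matrix.SpecialLinearGroup.coe_mul, Matrix.mul_apply, Fin.sum_univ_two]
  module

theorem planeLin_mem {u v : V} (h : sympForm m F v u = 1) (M : SL2) :
    LinearMap.toMatrix' (planeLin u v M) ∈ Matrix.symplecticGroup (Fin m) F := by
  refine mem_symplecticGroup_iff_form.2 fun x y => ?_
  rw [LinearMap.toMatrix'_mulVec, LinearMap.toMatrix'_mulVec]
  exact planeFun_form h M x y

/-- `SL₂` acting on the plane spanned by `u` and `v`. -/
noncomputable def planeHom {u v : V} (h : sympForm m F v u = 1) : SL2 →* Sp :=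
  MonoidHom.mk' (fun M => ⟨LinearMap.toMatrix' (planeLin u v M), planeLin_mem h M⟩) fun M N => by
    refine Subtype.ext ?_
    show _ = LinearMap.toMatrix' (planeLin u v M) * LinearMap.toMatrix' (planeLin u v N)
    rw [← LinearMap.toMatrix'_comp]
    refine congrArg (fun φ : V →ₗ[F] V => LinearMap.toMatrix' φ) (LinearMap.ext fun x => ?_)
    show planeFun u v (M * N) x = planeFun u v M (planeFun u v N x)
    exact planeFun_mul h M N x

theorem planeHom_apply {u v : V} (h : sympForm m F v u = 1) (M : SL2) (x : V) :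
    ((planeHom h M : Sp) : MI) *ᵥ x = planeFun u v M x :=
  LinearMap.toMatrix'_mulVec (planeLin u v M) x

theorem planeHom_upper {u v : V} (h : sympForm m F v u = 1) (hij : (0 : Fin 2) ≠ 1) (t : F) :
    planeHom h (Matrix.SpecialLinearGroup.transvection hij t) = sympTv u t := by
  refine Subtype.ext (Matrix.ext_iff_mulVec.2 fun x => ?_)
  rw [planeHom_apply, sympTv_apply, planeFun]
  simp [Matrix.SpecialLinearGroup.transvection_coe, Matrix.one_apply, Matrix.single_apply]

theorem planeHom_lower {u v : V} (h : sympForm m F v u = 1) (hij : (1 : Fin 2) ≠ 0) (t : F) :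
    planeHom h (Matrix.SpecialLinearGroup.transvection hij t) = sympTv v (-t) := by
  refine Subtype.ext (Matrix.ext_iff_mulVec.2 fun x => ?_)
  rw [planeHom_apply, sympTv_apply, planeFun, sympForm_swap x v]
  simp [Matrix.SpecialLinearGroup.transvection_coe, Matrix.one_apply, Matrix.single_apply]

/-- On a plane fixed by `β`, `β` is a diagonal map after a field automorphism. -/
theorem pair_param (hm : m ≠ 0) {β : MulAut PS} {u v : V} (h : sympForm m F v u = 1) {w : V} (hw : w ≠ 0)
    (hwu : sympForm m F w u = 0) (hwv : sympForm m F w v = 0)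
    (eu : β '' rootV u = rootV u) (ev : β '' rootV v = rootV v) :
    ∃ (k : F) (σ : F ≃+* F), k ≠ 0 ∧ (∀ t, β (π (sympTv u t)) = π (sympTv u (k * σ t))) ∧
      ∀ t, β (π (sympTv v t)) = π (sympTv v (σ t / k)) := by
  classical
  have h01 : (0 : Fin 2) ≠ 1 := by decide
  set ψ : SL2 →* PS := (spToPSp m F).comp (planeHom h)
  have hψ : Function.Injective ψ := by
    refine (injective_iff_map_eq_one ψ).2 fun M hM => ?_
    obtain ⟨l, -, hl⟩ := (pi_eq_one_iff hm).1 hM
    have he : ∀ x, planeFun u v M x = l • x := fun x => by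
      rw [← planeHom_apply h, hl, Matrix.smul_mulVec, Matrix.one_mulVec]
    have hvw : sympForm m F v w = 0 := by rw [sympForm_swap, hwv, neg_zero]
    have hw1 := he w
    simp [planeFun, hwu, hvw] at hw1
    have hl1 : l = 1 := by
      obtain ⟨i, hi⟩ := Function.ne_iff.1 hw
      simp only [Pi.zero_apply] at hi
      have hi' := congrFun hw1 i
      simp only [Pi.smul_apply, smul_eq_mul] at hi'
      exact mul_right_cancel₀ hi (by linear_combination -hi')
    subst hl1
    have huv : sympForm m F u v = -1 := by rw [sympForm_swap, h]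
    have a1 := congrArg (fun z => sympForm m F v z) (he u)
    have a2 := congrArg (fun z => sympForm m F u z) (he u)
    have a3 := congrArg (fun z => sympForm m F v z) (he v)
    have a4 := congrArg (fun z => sympForm m F u z) (he v)
    simp only [planeFun, sympForm_add_right, sympForm_smul_right, sympForm_self, h, huv, one_smul]
      at a1 a2 a3 a4
    refine Matrix.SpecialLinearGroup.ext _ _ fun i j => ?_
    fin_cases i <;> fin_cases j <;> simp <;> first
      | linear_combination a1 | linear_combination -a2 | linear_combination a3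
      | linear_combination -a4 | linear_combination -a1 | linear_combination a2
      | linear_combination -a3 | linear_combination a4
  have hup : ∀ t, ψ (Matrix.SpecialLinearGroup.transvection h01 t) = π (sympTv u t) := fun t => by
    show π (planeHom h _) = _
    rw [planeHom_upper]
  have hlo : ∀ t, ψ (Matrix.SpecialLinearGroup.transvection h01.symm t) = π (sympTv v (-t)) := fun t => by
    show π (planeHom h _) = _
    rw [planeHom_lower]
  have hrange : ψ.range = Subgroup.closure (rootV u ∪ rootV v) := by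
    refine le_antisymm ?_ ((Subgroup.closure_le _).2 ?_)
    · rw [MonoidHom.range_eq_map, ← SL_closure_transvections, MonoidHom.map_closure, Subgroup.closure_le]
      rintro _ ⟨_, ⟨⟨i, j, hij, c⟩, rfl⟩, rfl⟩
      fin_cases i <;> fin_cases j
      · exact absurd rfl hij
      · exact Subgroup.subset_closure (Or.inl ⟨c, (hup c).symm⟩)
      · exact Subgroup.subset_closure (Or.inr ⟨-c, (hlo c).symm⟩)
      · exact absurd rfl hij
    · rintro _ (⟨c, rfl⟩ | ⟨c, rfl⟩)
      · exact ⟨_, hup c⟩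
      · exact ⟨_, (hlo (-c)).trans (by rw [neg_neg])⟩
  have hfix : ψ.range.map β.toMonoidHom = ψ.range := by
    rw [hrange, MonoidHom.map_closure]
    congr 1
    show β '' (rootV u ∪ rootV v) = _
    rw [Set.image_union, eu, ev]
  let e : SL2 ≃* ψ.range := MonoidHom.ofInjective hψ
  let γ : SL2 ≃* SL2 :=
    e.trans (((β.subgroupMap ψ.range).trans (MulEquiv.subgroupCongr hfix)).trans e.symm)
  have hγ : ∀ M, ψ (γ M) = β (ψ M) := fun M => by
    show ψ (e.symm _) = _
    rw [MonoidHom.apply_ofInjective_symm]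
    rfl
  have hfu : ∀ t, ∃ s, γ (Matrix.SpecialLinearGroup.transvection h01 t) =
      Matrix.SpecialLinearGroup.transvection h01 s := by
    intro t
    obtain ⟨s, hs⟩ : β (π (sympTv u t)) ∈ rootV u := eu ▸ Set.mem_image_of_mem β (mem_rootV u t)
    exact ⟨s, hψ (by rw [hγ, hup, hup]; exact hs.symm)⟩
  have hfv : ∀ t, ∃ s, γ (Matrix.SpecialLinearGroup.transvection h01.symm t) =
      Matrix.SpecialLinearGroup.transvection h01.symm s := by
    intro t
    obtain ⟨s, hs⟩ : β (π (sympTv v (-t))) ∈ rootV v := ev ▸ Set.mem_image_of_mem β (mem_rootV v (-t))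
    exact ⟨-s, hψ (by rw [hγ, hlo, hlo, neg_neg]; exact hs.symm)⟩
  choose fu hfu' using hfu
  choose fv hfv' using hfv
  have hinju : Function.Surjective fu := Finite.surjective_of_injective fun a b hab => by
    have := γ.injective (show γ (Matrix.SpecialLinearGroup.transvection h01 a) =
      γ (Matrix.SpecialLinearGroup.transvection h01 b) by rw [hfu', hfu', hab])
    simpa [Matrix.SpecialLinearGroup.transvection_coe, Matrix.single_apply, Matrix.one_apply] using
      congrArg (fun M : SL2 => (M : Matrix (Fin 2) (Fin 2) F) 0 1) this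
  have hinjv : Function.Surjective fv := Finite.surjective_of_injective fun a b hab => by
    have := γ.injective (show γ (Matrix.SpecialLinearGroup.transvection h01.symm a) =
      γ (Matrix.SpecialLinearGroup.transvection h01.symm b) by rw [hfv', hfv', hab])
    simpa [Matrix.SpecialLinearGroup.transvection_coe, Matrix.single_apply, Matrix.one_apply] using
      congrArg (fun M : SL2 => (M : Matrix (Fin 2) (Fin 2) F) 1 0) this
  let γ' : MulAut (Matrix.ProjectiveSpecialLinearGroup (Fin 2) F) :=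
    QuotientGroup.congr _ _ γ (Subgroup.characteristic_iff_map_eq.1 inferInstance _)
  have hγ' : ∀ M, γ' (slToPSL 2 F M) = slToPSL 2 F (γ M) := fun M => rfl
  have hfix' : ∀ i j : Fin 2, i ≠ j → γ' '' PSLAut.rootIJ i j = PSLAut.rootIJ i j := by
    intro i j hij
    ext x
    constructor
    · rintro ⟨y, hy, rfl⟩
      obtain ⟨c, rfl⟩ := (PSLAut.mem_rootIJ hij).1 hy
      refine (PSLAut.mem_rootIJ hij).2 ?_
      fin_cases i <;> fin_cases j
      · exact absurd rfl hij
      · exact ⟨fu c, by rw [PSLAut.rootElt, PSLAut.rootElt, hγ', hfu']⟩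
      · exact ⟨fv c, by rw [PSLAut.rootElt, PSLAut.rootElt, hγ', hfv']⟩
      · exact absurd rfl hij
    · intro hx
      obtain ⟨c, rfl⟩ := (PSLAut.mem_rootIJ hij).1 hx
      fin_cases i <;> fin_cases j
      · exact absurd rfl hij
      · obtain ⟨d, rfl⟩ := hinju c
        exact ⟨_, (PSLAut.mem_rootIJ hij).2 ⟨d, rfl⟩, by rw [PSLAut.rootElt, PSLAut.rootElt, hγ', hfu']⟩
      · obtain ⟨d, rfl⟩ := hinjv c
        exact ⟨_, (PSLAut.mem_rootIJ hij).2 ⟨d, rfl⟩, by rw [PSLAut.rootElt, PSLAut.rootElt, hγ', hfv']⟩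
      · exact absurd rfl hij
  obtain ⟨g, σ, hg⟩ := PSLAut.exists_param_of_fix (le_refl 2) hfix'
  obtain ⟨d, hd⟩ := PSLAut.diagonal_of_fix (le_refl 2) (g := g) (σ := σ) fun i j hij => hg ▸ hfix' i j hij
  have hd0 : ∀ k, d k ≠ 0 := fun k hk => by
    have h1 : (g : Matrix (Fin 2) (Fin 2) F).det ≠ 0 := g.det_ne_zero
    rw [hd, Matrix.det_diagonal] at h1
    exact h1 (Finset.prod_eq_zero (Finset.mem_univ k) hk)
  have hu' : ∀ t, fu t = d 0 * σ t / d 1 := fun t => PSLAut.rootElt_injective h01 (by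
    rw [← PSLAut.pslSemi_rootElt hd, ← hg, PSLAut.rootElt, PSLAut.rootElt, hγ', hfu'])
  have hv' : ∀ t, fv t = d 1 * σ t / d 0 := fun t => PSLAut.rootElt_injective h01.symm (by
    rw [← PSLAut.pslSemi_rootElt hd, ← hg, PSLAut.rootElt, PSLAut.rootElt, hγ', hfv'])
  refine ⟨d 0 / d 1, σ, div_ne_zero (hd0 0) (hd0 1), fun t => ?_, fun t => ?_⟩
  · rw [← hup, ← hγ, hfu', hup, hu']
    congr 2
    field_simp
  · conv_lhs => rw [← neg_neg t, ← hlo, ← hγ, hfv', hlo, hv']
    congr 2
    rw [map_neg]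
    field_simp

/-! ### Generation and the main theorem -/

theorem param_unique {u : V} (hu : u ≠ 0) {β : MulAut PS} {k k' : F} {σ σ' : F ≃+* F} (hk : k ≠ 0)
    (h : ∀ t, β (π (sympTv u t)) = π (sympTv u (k * σ t)))
    (h' : ∀ t, β (π (sympTv u t)) = π (sympTv u (k' * σ' t))) : k = k' ∧ σ = σ' := by
  have e : ∀ t, k * σ t = k' * σ' t := fun t =>
    sympTv_coeff_inj hu (sympTv_eq_of_pi_eq hu ((h t).symm.trans (h' t)))
  have hk' : k = k' := by simpa using e 1
  subst hk'
  exact ⟨rfl, RingEquiv.ext fun t => mul_left_cancel₀ hk (e t)⟩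

theorem gen_aux (hm : 2 ≤ m) (G : Subgroup Sp)
    (he : ∀ i c, sympTv (Pi.single (Sum.inl i) 1 : V) c ∈ G)
    (hf : ∀ i c, sympTv (Pi.single (Sum.inr i) 1 : V) c ∈ G)
    (hlink : ∀ j : Fin m, j ≠ ⟨0, by omega⟩ → ∀ c,
      sympTv (Pi.single (Sum.inl ⟨0, by omega⟩) 1 + Pi.single (Sum.inl j) 1 : V) c ∈ G) :
    G = ⊤ := by
  classical
  set o : Fin m := ⟨0, by omega⟩
  set E : Fin m → V := fun i => Pi.single (Sum.inl i) 1
  set Φ : Fin m → V := fun i => Pi.single (Sum.inr i) 1
  have hplane : ∀ (i : Fin m) (M : SL2),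
      planeHom (show sympForm m F (Φ i) (E i) = 1 by simp [E, Φ, sympForm_single_inl]) M ∈ G := by
    intro i
    have h1 : sympForm m F (Φ i) (E i) = 1 := by simp [E, Φ, sympForm_single_inl]
    have hle : (⊤ : Subgroup SL2) ≤ G.comap (planeHom h1) := by
      rw [← SL_closure_transvections, Subgroup.closure_le]
      rintro _ ⟨⟨a, b, hab, c⟩, rfl⟩
      fin_cases a <;> fin_cases b
      · exact absurd rfl hab
      · show planeHom h1 _ ∈ G
        exact (planeHom_upper h1 hab c).symm ▸ he i c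
      · show planeHom h1 _ ∈ G
        exact (planeHom_lower h1 hab c).symm ▸ hf i (-c)
      · exact absurd rfl hab
    exact fun M => hle (Subgroup.mem_top M)
  -- every plane component can be moved to any non-zero value
  have move : ∀ (i : Fin m) (x : V) (a b : F), (x (Sum.inl i) ≠ 0 ∨ x (Sum.inr i) ≠ 0) → (a ≠ 0 ∨ b ≠ 0) →
      ∃ g ∈ G, ((g : Sp) : MI) *ᵥ x =
        x + (a - x (Sum.inl i)) • E i + (b - x (Sum.inr i)) • Φ i := by
    intro i x a b hx hab
    have h1 : sympForm m F (Φ i) (E i) = 1 := by simp [E, Φ, sympForm_single_inl]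
    have e1 : sympForm m F (Φ i) x = x (Sum.inl i) := by
      rw [sympForm_swap, sympForm_single_inr, mul_one, neg_neg]
    have e2 : sympForm m F x (E i) = x (Sum.inr i) := by rw [sympForm_single_inl, mul_one]
    have toCol : ∀ r s : F, r ≠ 0 ∨ s ≠ 0 → ∃ M : SL2,
        (M : Matrix (Fin 2) (Fin 2) F) 0 0 = r ∧ (M : Matrix (Fin 2) (Fin 2) F) 1 0 = s := by
      intro r s hrs
      by_cases hr : r = 0
      · exact ⟨⟨!![r, -s⁻¹; s, 0], by simp [Matrix.det_fin_two, hrs.resolve_left (not_not.2 hr)]⟩, by simp, by simp⟩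
      · exact ⟨⟨!![r, 0; s, r⁻¹], by simp [Matrix.det_fin_two, hr]⟩, by simp, by simp⟩
    obtain ⟨A, hA0, hA1⟩ := toCol _ _ hx
    obtain ⟨B, hB0, hB1⟩ := toCol _ _ hab
    refine ⟨planeHom h1 (B * A⁻¹), hplane i _, ?_⟩
    have hcol := congrArg (fun X : SL2 => (X : Matrix (Fin 2) (Fin 2) F)) (inv_mul_cancel_right B A)
    simp only [Matrix.SpecialLinearGroup.coe_mul] at hcol
    have c0 := congrFun (congrFun hcol 0) 0
    have c1 := congrFun (congrFun hcol 1) 0
    simp only [Matrix.mul_apply, Fin.sum_univ_two, hA0, hA1, hB0, hB1] at c0 c1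
    rw [planeHom_apply, planeFun, e1, e2]
    simp only [Matrix.SpecialLinearGroup.coe_mul, Matrix.mul_apply, Fin.sum_univ_two, hB0, hB1]
    congr 2
    · congr 1; linear_combination c0
    · congr 1; linear_combination c1
  let Good : V → Prop := fun x => ∃ g ∈ G, ((g : Sp) : MI) *ᵥ E o = x
  have trans' : ∀ x, ∀ g ∈ G, Good (((g : Sp) : MI) *ᵥ x) → Good x := by
    rintro x g hg ⟨h, hh, he'⟩
    refine ⟨g⁻¹ * h, mul_mem (inv_mem hg) hh, ?_⟩
    rw [Submonoid.coe_mul, ← Matrix.mulVec_mulVec, he', Matrix.mulVec_mulVec, ← Submonoid.coe_mul,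
      inv_mul_cancel]
    exact Matrix.one_mulVec x
  have hlink' : ∀ j, j ≠ o → ∀ (x : V) c, ((sympTv (E o + E j) c : Sp) : MI) *ᵥ x =
      x + (c * (x (Sum.inr o) + x (Sum.inr j))) • (E o + E j) := fun j _ x c => by
    rw [sympTv_apply, sympForm_add_right, sympForm_single_inl, sympForm_single_inl, mul_one, mul_one]
  have good : ∀ (S : Finset (Fin m)) (x : V), x ≠ 0 →
      (∀ i, i ≠ o → i ∉ S → x (Sum.inl i) = 0 ∧ x (Sum.inr i) = 0) → Good x := by
    intro S
    induction S using Finset.induction with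
    | empty =>
      intro x hx hsupp
      have hxo : x (Sum.inl o) ≠ 0 ∨ x (Sum.inr o) ≠ 0 := by
        by_contra hcon
        push Not at hcon
        refine hx (funext fun k => ?_)
        rcases k with k | k <;> by_cases hk : k = o
        · rw [hk]; exact hcon.1
        · exact (hsupp k hk (Finset.notMem_empty _)).1
        · rw [hk]; exact hcon.2
        · exact (hsupp k hk (Finset.notMem_empty _)).2
      obtain ⟨g, hg, hgx⟩ := move o x 1 0 hxo (Or.inl one_ne_zero)
      refine trans' x g hg ⟨1, one_mem _, ?_⟩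
      rw [hgx, OneMemClass.coe_one, Matrix.one_mulVec]
      funext k
      rcases k with k | k <;> by_cases hk : k = o
      · subst hk; simp [E, Φ]
      · simp [E, Φ, hk, (hsupp k hk (Finset.notMem_empty _)).1]
      · subst hk; simp [E, Φ]
      · simp [E, Φ, hk, (hsupp k hk (Finset.notMem_empty _)).2]
    | insert j S hjS ih =>
      intro x hx hsupp
      have keep : ∀ i, i ≠ o → i ∉ S → i ≠ j → x (Sum.inl i) = 0 ∧ x (Sum.inr i) = 0 :=
        fun i hi hiS hij => hsupp i hi (by simp [hiS, hij])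
      by_cases hj : j = o
      · exact ih x hx fun i hi hiS => keep i hi hiS (hj ▸ hi)
      by_cases hxj : x (Sum.inl j) = 0 ∧ x (Sum.inr j) = 0
      · exact ih x hx fun i hi hiS => by
          by_cases hij : i = j
          · exact hij ▸ hxj
          · exact keep i hi hiS hij
      have hxj' : x (Sum.inl j) ≠ 0 ∨ x (Sum.inr j) ≠ 0 := not_and_or.1 hxj
      -- first make the `o` component non-zero
      obtain ⟨g1, hg1, ho1, hsupp1, hj1⟩ : ∃ g ∈ G,
          ((((g : Sp) : MI) *ᵥ x) (Sum.inl o) ≠ 0 ∨ (((g : Sp) : MI) *ᵥ x) (Sum.inr o) ≠ 0) ∧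
          (∀ i, i ≠ o → i ≠ j → i ∉ S →
            (((g : Sp) : MI) *ᵥ x) (Sum.inl i) = 0 ∧ (((g : Sp) : MI) *ᵥ x) (Sum.inr i) = 0) ∧
          ((((g : Sp) : MI) *ᵥ x) (Sum.inl j) ≠ 0 ∨ (((g : Sp) : MI) *ᵥ x) (Sum.inr j) ≠ 0) := by
        by_cases ho : x (Sum.inl o) = 0 ∧ x (Sum.inr o) = 0
        · obtain ⟨g, hg, hgx⟩ := move j x 0 1 hxj' (Or.inr one_ne_zero)
          refine ⟨sympTv (E o + E j) 1 * g, mul_mem (hlink j hj 1) hg, ?_, ?_, ?_⟩
          all_goals
            rw [Submonoid.coe_mul, ← Matrix.mulVec_mulVec, hlink' j hj, hgx]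
          · left; simp [E, Φ, hj, Ne.symm hj, ho.1, ho.2]
          · intro i hi hij hiS
            simp [E, Φ, hi, hij, keep i hi hiS hij]
          · left; simp [E, Φ, hj, Ne.symm hj, ho.1, ho.2]
        · refine ⟨1, one_mem _, ?_, ?_, ?_⟩ <;> rw [OneMemClass.coe_one, Matrix.one_mulVec]
          · exact not_and_or.1 ho
          · exact fun i hi hij hiS => keep i hi hiS hij
          · exact hxj'
      -- then clear the `j` component
      set y := ((g1 : Sp) : MI) *ᵥ x
      obtain ⟨g2, hg2, hy2⟩ := move j y 1 0 hj1 (Or.inl one_ne_zero)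
      set z := ((g2 : Sp) : MI) *ᵥ y
      have hzo : z (Sum.inl o) ≠ 0 ∨ z (Sum.inr o) ≠ 0 := by
        rw [hy2]; simpa [E, Φ, hj, Ne.symm hj] using ho1
      obtain ⟨g3, hg3, hy3⟩ := move o z 0 1 hzo (Or.inr one_ne_zero)
      refine trans' x (sympTv (E o + E j) (-1) * g3 * g2 * g1)
        (mul_mem (mul_mem (mul_mem (hlink j hj _) hg3) hg2) hg1) (ih _ ?_ ?_)
      · intro h0
        have := congrFun h0 (Sum.inr o)
        simp only [Submonoid.coe_mul, ← Matrix.mulVec_mulVec, hlink' j hj] at this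
        rw [hy3, hy2] at this
        simp [E, Φ, hj, Ne.symm hj] at this
      · intro i hi hiS
        simp only [Submonoid.coe_mul, ← Matrix.mulVec_mulVec, hlink' j hj]
        rw [hy3, hy2]
        by_cases hij : i = j
        · subst hij
          simp [E, Φ, hi, Ne.symm hi]
        · simp [E, Φ, hi, hij, hsupp1 i hi hij hiS]
  rw [eq_top_iff, ← closure_sympTvSet, Subgroup.closure_le]
  rintro A ⟨w, c, hA⟩
  obtain rfl : A = sympTv w c := Subtype.ext hA
  rcases eq_or_ne w 0 with rfl | hw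
  · have : sympTv (0 : V) c = 1 := Subtype.ext (Matrix.ext_iff_mulVec.2 fun x => by
      rw [sympTv_apply, sympForm_zero_right]; simp)
    rw [this]; exact one_mem G
  obtain ⟨g, hg, hgw⟩ := good Finset.univ w hw (fun i _ hi => absurd (Finset.mem_univ i) hi)
  rw [← hgw, ← sympTv_conj]
  exact mul_mem (mul_mem hg (he o c)) (inv_mem hg)

/-- An element of `GSp` with given diagonal. -/
theorem exists_diag_gsp (a b : Fin m → F) (μ : F) (hμ : μ ≠ 0) (h : ∀ i, a i * b i = μ) :
    ∃ g : GSp m F, ∀ x, ((g : GL (Fin m ⊕ Fin m) F) : MI) *ᵥ x = Sum.elim a b * x := by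
  have hu : IsUnit (Matrix.diagonal (Sum.elim a b)).det := by
    rw [Matrix.det_diagonal]
    refine Ne.isUnit (Finset.prod_ne_zero_iff.2 fun k _ hk => hμ ?_)
    rcases k with k | k <;> simp only [Sum.elim_inl, Sum.elim_inr] at hk <;> rw [← h k, hk] <;> simp
  refine ⟨⟨Matrix.GeneralLinearGroup.mk'' _ hu, mem_GSp.2 ⟨Units.mk0 μ hμ, fun x y => ?_⟩⟩,
    fun x => funext fun k => Matrix.mulVec_diagonal _ _ _⟩
  show sympForm m F (Matrix.diagonal (Sum.elim a b) *ᵥ x) (Matrix.diagonal (Sum.elim a b) *ᵥ y) = _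
  simp only [sympForm_eq_sum, Matrix.mulVec_diagonal, Sum.elim_inl, Sum.elim_inr, Units.val_mk0,
    Finset.mul_sum]
  refine Finset.sum_congr rfl fun i _ => ?_
  rw [← h i]; ring

/-- The structure of automorphisms of `PSp_{2m}(F)` preserving transvections. -/
theorem exists_param_of_presTV (hm : 2 ≤ m) {β : MulAut PS} (hβ : PresTV β) :
    ∃ (g : GSp m F) (σ : F ≃+* F), β = pspSemi g σ := by
  classical
  set E : Fin m → V := fun i => Pi.single (Sum.inl i) 1
  set Φ : Fin m → V := fun i => Pi.single (Sum.inr i) 1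
  have hE : ∀ i, E i ≠ 0 := fun i => by simp [E]
  have hΦ : ∀ i, Φ i ≠ 0 := fun i => by simp [Φ]
  set o : Fin m := ⟨0, by omega⟩
  choose a ha using fun i => exists_image_rootV hβ (hE i)
  choose b hb using fun i => exists_image_rootV hβ (hΦ i)
  have hEE : ∀ i j, sympForm m F (E i) (E j) = 0 := fun i j => by simp [E, sympForm_single_inl]
  have hΦΦ : ∀ i j, sympForm m F (Φ i) (Φ j) = 0 := fun i j => by simp [Φ, sympForm_single_inr]
  have hΦE : ∀ i j, sympForm m F (Φ i) (E j) = if i = j then 1 else 0 := fun i j => by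
    simp [E, Φ, sympForm_single_inl, Pi.single_apply, eq_comm]
  have haa : ∀ i j, sympForm m F (a i) (a j) = 0 := fun i j =>
    (orth_iff (hE i) (hE j) (ha i).1 (ha j).1 (ha i).2 (ha j).2).1 (hEE i j)
  have hbb : ∀ i j, sympForm m F (b i) (b j) = 0 := fun i j =>
    (orth_iff (hΦ i) (hΦ j) (hb i).1 (hb j).1 (hb i).2 (hb j).2).1 (hΦΦ i j)
  have hba : ∀ i j, sympForm m F (b i) (a j) = 0 ↔ i ≠ j := fun i j => by
    rw [← orth_iff (hΦ i) (hE j) (hb i).1 (ha j).1 (hb i).2 (ha j).2, hΦE]
    simp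
  set L : Fin m → F := fun i => sympForm m F (b i) (a i)
  have hL : ∀ i, L i ≠ 0 := fun i h => (hba i i).1 h rfl
  set cols : Fin m ⊕ Fin m → V := Sum.elim (fun i => (L i)⁻¹ • a i) b
  set G : MI := (Matrix.of cols)ᵀ with hG
  have hGe : ∀ k, G *ᵥ Pi.single k 1 = cols k := fun k => by
    funext l; simp [hG]
  have hGform : G ∈ Matrix.symplecticGroup (Fin m) F := by
    refine SymplecticGroup.mem_iff'.2 (Matrix.ext fun k l => ?_)
    have h1 : (Gᵀ * Matrix.J (Fin m) F * G) k l = sympForm m F (G *ᵥ Pi.single k 1) (G *ᵥ Pi.single l 1) := by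
      rw [Matrix.mul_assoc, sympForm, Matrix.mulVec_single_one, Matrix.mulVec_single_one]
      rfl
    rw [h1, hGe, hGe]
    have h2 : Matrix.J (Fin m) F k l = sympForm m F (Pi.single k 1) (Pi.single l 1) := by
      rw [sympForm, single_one_dotProduct, Matrix.mulVec_single_one]; rfl
    rw [h2]
    rcases k with k | k <;> rcases l with l | l
    · simp only [cols, Sum.elim_inl, sympForm_smul_left, sympForm_smul_right, haa, mul_zero]
      exact (hEE k l).symm
    · simp only [cols, Sum.elim_inl, Sum.elim_inr, sympForm_smul_left]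
      rw [sympForm_swap (a k), sympForm_swap (Pi.single (Sum.inl k) 1) (Pi.single (Sum.inr l) 1),
        hΦE l k]
      by_cases hlk : l = k
      · subst hlk; rw [if_pos rfl]; simp [L, hL l]
      · rw [(hba l k).2 hlk, if_neg hlk]; simp
    · simp only [cols, Sum.elim_inl, Sum.elim_inr, sympForm_smul_right]
      rw [hΦE k l]
      by_cases hkl : k = l
      · subst hkl; rw [if_pos rfl]; exact inv_mul_cancel₀ (hL k)
      · rw [(hba k l).2 hkl, if_neg hkl, mul_zero]
    · simp only [cols, Sum.elim_inr, hbb]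
      exact (hΦΦ k l).symm
  set g1 : GSp m F := spToGSp ⟨G, hGform⟩
  set β1 := (pspSemi g1 (RingEquiv.refl F))⁻¹ * β
  have himg : ∀ (g : GSp m F) (x : V), pspSemi g (RingEquiv.refl F) '' rootV x =
      rootV (((g : GL (Fin m ⊕ Fin m) F) : MI) *ᵥ x) := by
    intro g x
    obtain ⟨μ, hμ, -⟩ := image_rootV g (RingEquiv.refl F) x
    ext y
    constructor
    · rintro ⟨_, ⟨c, rfl⟩, rfl⟩
      exact ⟨c / μ, (hμ c).symm⟩
    · rintro ⟨c, rfl⟩
      refine ⟨_, mem_rootV x (c * μ), (hμ _).trans ?_⟩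
      simp
  have hback : ∀ (g : GSp m F) (γ : MulAut PS) (x : V),
      γ '' rootV x = rootV (((g : GL (Fin m ⊕ Fin m) F) : MI) *ᵥ x) →
      ⇑((pspSemi g (RingEquiv.refl F))⁻¹ * γ : MulAut PS) '' rootV x = rootV x := by
    intro g γ x h
    rw [show ⇑((pspSemi g (RingEquiv.refl F))⁻¹ * γ : MulAut PS) =
      ⇑((pspSemi g (RingEquiv.refl F))⁻¹ : MulAut PS) ∘ ⇑γ from rfl, Set.image_comp, h, ← himg, Set.image_image]
    simp
  have hfix1 : ∀ k, β1 '' rootV (Pi.single k 1) = rootV (Pi.single k 1) := by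
    intro k
    refine hback g1 β _ ?_
    show _ = rootV (G *ᵥ Pi.single k 1)
    rw [hGe]
    rcases k with k | k
    · simp only [cols, Sum.elim_inl]
      rw [rootV_smul _ (inv_ne_zero (hL k))]
      exact (ha k).2
    · exact (hb k).2
  -- the links
  have hu : ∀ j, j ≠ o → ∃ μ : F, μ ≠ 0 ∧ β1 '' rootV (E o + E j) = rootV (E o + μ • E j) := by
    intro j hj
    have hne : E o + E j ≠ 0 := fun h => by simpa [E, Ne.symm hj] using congrFun h (Sum.inl o)
    obtain ⟨u, hu0, hu⟩ := exists_image_rootV (((presTV_semi g1 _).inv.mul hβ) : PresTV β1) hne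
    have hr : ∀ i, u (Sum.inr i) = 0 := fun i => by
      have h := (orth_iff hne (hE i) hu0 (hE i) hu (hfix1 (Sum.inl i))).1 (by
        rw [sympForm_add_left, hEE, hEE, add_zero])
      simpa [E, sympForm_single_inl] using h
    have hl : ∀ i, u (Sum.inl i) = 0 ↔ (i ≠ o ∧ i ≠ j) := fun i => by
      have h := orth_iff hne (hΦ i) hu0 (hΦ i) hu (hfix1 (Sum.inr i))
      simp only [Φ, sympForm_single_inr, mul_one, neg_eq_zero] at h
      rw [← h]
      by_cases hio : i = o
      · subst hio; simp [E, Ne.symm hj]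
      · by_cases hij : i = j
        · subst hij; simp [E, hj]
        · simp [E, hio, hij]
    have huo : u (Sum.inl o) ≠ 0 := fun h => ((hl o).1 h).1 rfl
    refine ⟨u (Sum.inl j) / u (Sum.inl o), div_ne_zero (fun h => ((hl j).1 h).2 rfl) huo, ?_⟩
    have : u = u (Sum.inl o) • (E o + (u (Sum.inl j) / u (Sum.inl o)) • E j) := by
      funext k
      rcases k with k | k
      · by_cases hko : k = o
        · subst hko; simp [E, Ne.symm hj]
        · by_cases hkj : k = j
          · subst hkj; simp [E, hj]; field_simp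
          · simp [E, hko, hkj, (hl k).2 ⟨hko, hkj⟩]
      · simp [E, hr k]
    rw [hu]
    conv_lhs => rw [this]
    rw [rootV_smul _ huo]
  choose! μ hμ0 hμ using hu
  set d : Fin m → F := fun i => if i = o then 1 else μ i
  have hd : ∀ i, d i ≠ 0 := fun i => by
    by_cases hi : i = o <;> simp [d, hi, hμ0]
  obtain ⟨g2, hg2⟩ := exists_diag_gsp (m := m) d (fun i => (d i)⁻¹) 1 one_ne_zero
    (fun i => mul_inv_cancel₀ (hd i))
  set β2 := (pspSemi g2 (RingEquiv.refl F))⁻¹ * β1
  have hg2e : ∀ k, ((g2 : GL (Fin m ⊕ Fin m) F) : MI) *ᵥ Pi.single k 1 =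
      (Sum.elim d (fun i => (d i)⁻¹) k) • Pi.single k 1 := fun k => by
    rw [hg2]; funext l
    by_cases hl : l = k <;> simp [hl]
  have hfix2 : ∀ k, β2 '' rootV (Pi.single k 1) = rootV (Pi.single k 1) := fun k => by
    refine hback g2 β1 _ ?_
    rw [hfix1, hg2e, rootV_smul]
    rcases k with k | k <;> simp [hd]
  have hfixL : ∀ j, j ≠ o → β2 '' rootV (E o + E j) = rootV (E o + E j) := fun j hj => by
    refine hback g2 β1 _ ?_
    rw [hμ j hj, Matrix.mulVec_add, hg2e, hg2e]
    simp [E, d, hj]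
  -- the planes
  set o' : Fin m := ⟨1, by omega⟩
  have hoo : o' ≠ o := by simp [o, o', Fin.ext_iff]
  have hm0 : m ≠ 0 := by omega
  have hpair : ∀ i, ∃ (k : F) (σ : F ≃+* F), k ≠ 0 ∧
      (∀ t, β2 (π (sympTv (E i) t)) = π (sympTv (E i) (k * σ t))) ∧
      ∀ t, β2 (π (sympTv (Φ i) t)) = π (sympTv (Φ i) (σ t / k)) := by
    intro i
    obtain ⟨j, hj⟩ : ∃ j, j ≠ i := by
      by_cases hi : i = o
      · exact ⟨o', hi ▸ hoo⟩
      · exact ⟨o, Ne.symm hi⟩
    refine pair_param hm0 (u := E i) (v := Φ i) (by rw [hΦE, if_pos rfl]) (hE j) (hEE j i) ?_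
      (hfix2 _) (hfix2 _)
    rw [sympForm_swap, hΦE, if_neg hj.symm, neg_zero]
  choose K S hK hKe hKf using hpair
  have hlinkpar : ∀ j, j ≠ o → K j = K o ∧ S j = S o ∧
      ∀ t, β2 (π (sympTv (E o + E j) t)) = π (sympTv (E o + E j) (K o * S o t)) := by
    intro j hj
    have hne : E o + E j ≠ 0 := fun h => by simpa [E, Ne.symm hj] using congrFun h (Sum.inl o)
    obtain ⟨k, σ, hk, hku, hkv⟩ := pair_param hm0 (β := β2) (u := E o + E j) (v := Φ o)
      (by rw [sympForm_add_right, hΦE, hΦE, if_pos rfl, if_neg (Ne.symm hj), add_zero]) (hE j)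
      (by rw [sympForm_add_right, hEE, hEE, add_zero])
      (by rw [sympForm_swap, hΦE, if_neg (Ne.symm hj), neg_zero]) (hfixL j hj) (hfix2 _)
    obtain ⟨k', σ', hk', hku', hkv'⟩ := pair_param hm0 (β := β2) (u := E o + E j) (v := Φ j)
      (by rw [sympForm_add_right, hΦE, hΦE, if_pos rfl, if_neg hj, zero_add]) (hE o)
      (by rw [sympForm_add_right, hEE, hEE, add_zero])
      (by rw [sympForm_swap, hΦE, if_neg hj, neg_zero]) (hfixL j hj) (hfix2 _)
    obtain ⟨e1, e2⟩ := param_unique hne hk hku hku'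
    have swapdiv : ∀ (w : V) (k : F) (s : F ≃+* F), (∀ t, β2 (π (sympTv w t)) = π (sympTv w (s t / k))) →
        ∀ t, β2 (π (sympTv w t)) = π (sympTv w (k⁻¹ * s t)) := fun w k s h t => by
      rw [h t, div_eq_inv_mul]
    obtain ⟨e3, e4⟩ := param_unique (hΦ o) (inv_ne_zero hk) (swapdiv _ _ _ hkv) (swapdiv _ _ _ (hKf o))
    obtain ⟨e5, e6⟩ := param_unique (hΦ j) (inv_ne_zero hk') (swapdiv _ _ _ hkv') (swapdiv _ _ _ (hKf j))
    have hk1 : k = K o := inv_injective e3
    have hk2 : k' = K j := inv_injective e5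
    refine ⟨by rw [← hk2, ← e1, hk1], by rw [← e6, ← e2, e4], fun t => ?_⟩
    rw [hku, hk1, e4]
  have hall : ∀ i, K i = K o ∧ S i = S o := fun i => by
    by_cases hi : i = o
    · exact hi ▸ ⟨rfl, rfl⟩
    · exact ⟨(hlinkpar i hi).1, (hlinkpar i hi).2.1⟩
  obtain ⟨g3, hg3⟩ := exists_diag_gsp (m := m) (fun _ => K o) (fun _ => 1) (K o) (hK o) (fun _ => mul_one _)
  have hg3μ : ∀ (v : V) (r : F), ((g3 : GL (Fin m ⊕ Fin m) F) : MI) *ᵥ v = r • v →
      S o ∘ v = v → ∀ t, pspSemi g3 (S o) (π (sympTv v t)) = π (sympTv v (r ^ 2 / K o * S o t)) := by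
    intro v r hr hv t
    obtain ⟨c, hc, hc'⟩ := image_rootV g3 (S o) v
    have hcK : (c : F) = K o := by
      have := hc' (Φ o) (E o)
      rw [hΦE, if_pos rfl, mul_one, hg3, hg3] at this
      rw [← this, sympForm_eq_sum, Finset.sum_eq_single o]
      · simp [E, Φ]
      · intro i _ hi; simp [E, Φ, hi]
      · simp
    rw [hc, hv, hr, sympTv_smul, hcK]
    congr 2; ring
  have hcomp : ∀ (k : Fin m ⊕ Fin m), S o ∘ (Pi.single k 1 : V) = Pi.single k 1 := fun k => by
    funext l; by_cases hl : l = k <;> simp [hl]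
  have hfinal : β2 = pspSemi g3 (S o) := by
    refine MulEquiv.ext fun x => ?_
    obtain ⟨s, rfl⟩ := spToPSp_surjective x
    have htop := gen_aux hm (MonoidHom.eqLocus (β2.toMonoidHom.comp π)
      ((pspSemi g3 (S o)).toMonoidHom.comp π)) (fun i c => ?_) (fun i c => ?_) (fun j hj c => ?_)
    · exact htop.ge (Subgroup.mem_top s)
    · show β2 _ = pspSemi g3 (S o) _
      rw [hKe, hg3μ (E i) (K o) ?_ (hcomp _), (hall i).1, (hall i).2]
      · congr 2; field_simp
      · rw [hg3]; funext l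
        rcases l with l | l <;> simp [E]
    · show β2 _ = pspSemi g3 (S o) _
      rw [hKf, hg3μ (Φ i) 1 ?_ (hcomp _), (hall i).1, (hall i).2]
      · congr 2; ring
      · rw [hg3]; funext l
        rcases l with l | l <;> simp [Φ]
    · show β2 (π (sympTv (E o + E j) c)) = pspSemi g3 (S o) (π (sympTv (E o + E j) c))
      rw [(hlinkpar j hj).2.2, hg3μ (E o + E j) (K o) ?_ ?_]
      · congr 2; field_simp
      · rw [hg3]; funext l
        rcases l with l | l <;> simp [E]
      · funext l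
        simp only [Function.comp, Pi.add_apply, map_add]
        exact congrArg₂ (· + ·) (congrFun (hcomp (Sum.inl o)) l) (congrFun (hcomp (Sum.inl j)) l)
  refine ⟨g1 * g2 * g3, S o, ?_⟩
  rw [← pspSemi_refl_mul (g1 * g2), ← hfinal, ← pspSemi_refl_mul g1]
  simp only [β2, β1]
  group

include p in
/-- The structure of automorphisms of `PSp_{2m}(F)`. -/
theorem exists_param (hm : 2 ≤ m) (h4 : m = 2 → p ≠ 2) (β : MulAut PS) :
    ∃ (g : GSp m F) (σ : F ≃+* F), β = pspSemi g σ :=
  exists_param_of_presTV hm (presTV_of_ne (p := p) hm h4 β)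

end Cfsg.Agent.Classical.PSpAut
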