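import Cfsg.Agent.Lib.Classical.PSpAutFrame

/-!
The structure of the semilinear automorphism group of `PSp_{2m}(q)`: uniqueness of parameters, the
group of inner-diagonal automorphisms, the multiplier.
-/

set_option autoImplicit false
set_option linter.unusedSectionVars false

namespace Cfsg.Agent.Classical.PSpAut

open Matrix Cfsg.Agent.Classical.Descent

variable {F : Type*} [Field F] [Fintype F] {m : ℕ}

local notation "V" => (Fin m ⊕ Fin m → F)
local notation "Sp" => Matrix.symplecticGroup (Fin m) F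
local notation "PS" => PSp m F
local notation "MI" => Matrix (Fin m ⊕ Fin m) (Fin m ⊕ Fin m) F
local notation "GI" => GL (Fin m ⊕ Fin m) F

theorem scalar_mem_GSp (c : Fˣ) : Matrix.GeneralLinearGroup.scalar (Fin m ⊕ Fin m) c ∈ GSp m F := by
  refine mem_GSp.2 ⟨c * c, fun u v => ?_⟩
  rw [Matrix.GeneralLinearGroup.coe_scalar, Matrix.scalar_apply, ← Matrix.smul_one_eq_diagonal,
    Matrix.smul_mulVec, Matrix.smul_mulVec, Matrix.one_mulVec, Matrix.one_mulVec, sympForm_smul_left,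
    sympForm_smul_right, Units.val_mul]
  ring

/-- A scalar similitude. -/
def gspScalar (m : ℕ) (F : Type*) [Field F] [Fintype F] : Fˣ →* GSp m F :=
  (Matrix.GeneralLinearGroup.scalar (Fin m ⊕ Fin m)).codRestrict _ fun c => scalar_mem_GSp c

theorem gspScalar_coe (c : Fˣ) :
    ((gspScalar m F c : GSp m F) : GI) = Matrix.GeneralLinearGroup.scalar (Fin m ⊕ Fin m) c := rfl

theorem pspSemi_eq_one_iff (hm : 1 ≤ m) {g : GSp m F} {σ : F ≃+* F} :
    pspSemi g σ = (1 : MulAut PS) ↔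
      σ = RingEquiv.refl F ∧ ∃ c : Fˣ, g = gspScalar m F c := by
  constructor
  · intro h
    have key : ∀ v : V, v ≠ 0 → ∃ a : F, ((g : GI) : MI) *ᵥ (σ ∘ v) = a • v := by
      intro v hv
      obtain ⟨μ, hμ, -⟩ := image_rootV g σ v
      have h1 := hμ 1
      rw [h, map_one, one_div] at h1
      obtain ⟨b, hb⟩ := exists_smul_of_tv_eq hv one_ne_zero (sympTv_eq_of_pi_eq hv h1)
      have hb0 : b ≠ 0 := fun h0 => hv (by rw [hb, h0, zero_smul])
      exact ⟨b⁻¹, by conv_rhs => rw [hb, smul_smul, inv_mul_cancel₀ hb0, one_smul]⟩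
    have hone : ∀ k : Fin m ⊕ Fin m, σ ∘ (Pi.single k 1 : V) = Pi.single k 1 := fun k => by
      funext l; by_cases hl : l = k <;> simp [hl]
    choose d hd using fun k => key (Pi.single k (1 : F)) (by simp)
    simp only [hone] at hd
    have hdd : ∀ k l, d k = d l ∧ ∀ c, c ≠ 0 → k ≠ l → d k * σ c = d k * c := by
      intro k l
      by_cases hkl : k = l
      · exact ⟨by rw [hkl], fun c _ hne => absurd hkl hne⟩
      have hpair : ∀ c : F, d k = d k ∧ ∃ a, d k = a ∧ d l * σ c = a * c := by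
        intro c
        obtain ⟨a, ha⟩ := key (Pi.single k 1 + c • Pi.single l 1) (fun h0 => by
          simpa [hkl] using congrFun h0 k)
        have hσ : σ ∘ (Pi.single k 1 + c • Pi.single l 1 : V) = Pi.single k 1 + σ c • Pi.single l 1 := by
          funext t
          have e1 := congrFun (hone k) t
          have e2 := congrFun (hone l) t
          simp only [Function.comp, Pi.add_apply, Pi.smul_apply, smul_eq_mul, map_add, map_mul] at *
          rw [e1, e2]
        rw [hσ, Matrix.mulVec_add, Matrix.mulVec_smul, hd, hd] at ha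
        have hk := congrFun ha k
        have hl := congrFun ha l
        simp [hkl, Ne.symm hkl] at hk hl
        exact ⟨rfl, a, hk, by linear_combination hl⟩
      obtain ⟨-, a, ha, ha'⟩ := hpair 1
      rw [map_one, mul_one, mul_one, ← ha] at ha'
      refine ⟨ha'.symm, fun c _ _ => ?_⟩
      obtain ⟨-, b, hb, hb'⟩ := hpair c
      rw [ha', ← hb] at hb'
      exact hb'
    set o : Fin m ⊕ Fin m := Sum.inl ⟨0, by omega⟩
    have hne : o ≠ Sum.inr ⟨0, by omega⟩ := by simp [o]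
    have hd0 : d o ≠ 0 := by
      intro h0
      have h1 := congrArg ((((g : GI)⁻¹ : GI) : MI) *ᵥ ·) (hd o)
      simp only [Matrix.mulVec_mulVec, Units.inv_mul, Matrix.one_mulVec, h0, zero_smul,
        Matrix.mulVec_zero] at h1
      simpa using congrFun h1 o
    refine ⟨RingEquiv.ext fun c => ?_, Units.mk0 (d o) hd0, Subtype.ext (Units.ext ?_)⟩
    · by_cases hc : c = 0
      · simp [hc]
      · exact mul_left_cancel₀ hd0 ((hdd o _).2 c hc hne)
    · rw [gspScalar_coe, Matrix.GeneralLinearGroup.coe_scalar]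
      ext i j
      have := congrFun (hd j) i
      rw [Matrix.mulVec_single_one, (hdd j o).1] at this
      refine this.trans ?_
      by_cases hij : i = j <;> simp [hij]
  · rintro ⟨rfl, c, rfl⟩
    refine MulEquiv.ext fun x => ?_
    obtain ⟨s, rfl⟩ := spToPSp_surjective x
    rw [pspSemi_mk]
    refine congrArg _ (Subtype.ext ?_)
    have hcom : (((gspScalar m F c : GSp m F) : GI) : MI) * (s : MI) =
        (s : MI) * ((gspScalar m F c : GSp m F) : GI) := by
      rw [gspScalar_coe, Matrix.GeneralLinearGroup.coe_scalar]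
      exact Matrix.scalar_commute _ (fun r => Commute.all _ r) _
    rw [spSemi_coe, show (s : MI).map (RingEquiv.refl F) = (s : MI) from Matrix.map_id _, hcom,
      Units.mul_inv_cancel_right]

theorem pspSemi_mul' (g h : GSp m F) (σ τ : RingAut F) :
    (pspSemi g σ * pspSemi h τ : MulAut PS) = pspSemi (g * gspMap σ h) (σ * τ) := pspSemi_mul g h σ τ

theorem semi_inj (hm : 1 ≤ m) {g h : GSp m F} {σ τ : RingAut F} :
    (pspSemi g σ : MulAut PS) = pspSemi h τ ↔ σ = τ ∧ ∃ c : Fˣ, g = gspScalar m F c * h := by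
  constructor
  · intro e
    have hinv : (pspSemi h τ : MulAut PS) * pspSemi (gspMap (τ⁻¹ : RingAut F) h⁻¹) (τ⁻¹ : RingAut F) = 1 := by
      rw [pspSemi_mul', mul_inv_cancel]
      refine (pspSemi_eq_one_iff hm).2 ⟨rfl, 1, ?_⟩
      rw [map_one]
      refine Subtype.ext ?_
      show (h : GI) * gmap τ (gmap (τ⁻¹ : RingAut F) ((h : GI)⁻¹)) = 1
      rw [gmap_gmap, mul_inv_cancel, gmap_one, mul_inv_cancel]
    rw [← e, pspSemi_mul', pspSemi_eq_one_iff hm] at hinv
    obtain ⟨hσ, c, hc⟩ := hinv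
    obtain rfl : σ = τ := mul_inv_eq_one.1 hσ
    refine ⟨rfl, c, ?_⟩
    have hc' : (g : GI) * (h : GI)⁻¹ = ((gspScalar m F c : GSp m F) : GI) := by
      rw [← hc]
      show _ = (g : GI) * gmap σ (gmap (σ⁻¹ : RingAut F) ((h : GI)⁻¹))
      rw [gmap_gmap, mul_inv_cancel, gmap_one]
    exact Subtype.ext (by rw [Subgroup.coe_mul, ← hc', inv_mul_cancel_right])
  · rintro ⟨rfl, c, rfl⟩
    rw [← pspSemi_refl_mul, show pspSemi (gspScalar m F c) (RingEquiv.refl F) =
      (1 : MulAut PS) from (pspSemi_eq_one_iff hm).2 ⟨rfl, c, rfl⟩, one_mul]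

theorem pspSemi_pow (g : GSp m F) (σ : RingAut F) (k : ℕ) :
    ∃ N : GSp m F, (pspSemi g σ : MulAut PS) ^ k = pspSemi N (σ ^ k) ∧
      (N : GI) = twistNorm σ (g : GI) k := by
  induction k with
  | zero => exact ⟨1, pspSemi_one.symm, rfl⟩
  | succ k ih =>
    obtain ⟨N, hN, hN'⟩ := ih
    refine ⟨g * gspMap σ N, by rw [pow_succ', hN, pspSemi_mul', pow_succ'], ?_⟩
    rw [Subgroup.coe_mul, gspMap_coe, hN']
    rfl

/-- `PGSp_{2m}(F)` as automorphisms. -/
def inndiagHom (m : ℕ) (F : Type*) [Field F] : GSp m F →* MulAut (PSp m F) where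
  toFun g := pspSemi g (RingEquiv.refl F)
  map_one' := pspSemi_one
  map_mul' g h := (pspSemi_refl_mul g h _).symm

theorem inndiagHom_apply (g : GSp m F) : inndiagHom m F g = pspSemi g (RingEquiv.refl F) := rfl

theorem inndiagPSp_eq : inndiagPSp m F = (inndiagHom m F).range := by
  refine le_antisymm ((Subgroup.closure_le _).2 fun β hβ => ?_) ?_
  · obtain ⟨g, rfl⟩ := innerDiag_iff.1 hβ
    exact ⟨g, rfl⟩
  · rintro _ ⟨g, rfl⟩
    exact Subgroup.subset_closure (innerDiag_iff.2 ⟨g, rfl⟩)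

theorem mem_inndiag_iff {β : MulAut PS} : β ∈ inndiagPSp m F ↔ ∃ g, inndiagHom m F g = β := by
  rw [inndiagPSp_eq, MonoidHom.mem_range]

theorem ker_inndiagHom (hm : 1 ≤ m) : (inndiagHom m F).ker = (gspScalar m F).range := by
  ext g
  rw [MonoidHom.mem_ker, inndiagHom_apply, pspSemi_eq_one_iff hm, MonoidHom.mem_range]
  exact ⟨fun ⟨_, c, hc⟩ => ⟨c, hc.symm⟩, fun ⟨c, hc⟩ => ⟨rfl, c, hc.symm⟩⟩

instance inn_normal : (Inn PS).Normal := by
  refine ⟨?_⟩
  rintro _ ⟨k, rfl⟩ φ
  exact ⟨φ k, MulEquiv.ext fun x => by simp [MulAut.conj_apply]⟩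

theorem inn_le_inndiag : Inn PS ≤ inndiagPSp m F := by
  rintro _ ⟨x, rfl⟩
  obtain ⟨s, rfl⟩ := spToPSp_surjective x
  exact mem_inndiag_iff.2 ⟨_, (conj_eq_pspSemi s).symm⟩

/-! ### The multiplier -/

/-- The multiplier of a similitude. -/
noncomputable def multVal (g : GSp m F) : Fˣ := (mem_GSp.1 g.2).choose

theorem multVal_spec (g : GSp m F) (u v : V) :
    sympForm m F (((g : GI) : MI) *ᵥ u) (((g : GI) : MI) *ᵥ v) = multVal g * sympForm m F u v :=
  (mem_GSp.1 g.2).choose_spec u v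

theorem mult_unique (hm : 1 ≤ m) {g : GSp m F} {c : F}
    (h : ∀ u v, sympForm m F (((g : GI) : MI) *ᵥ u) (((g : GI) : MI) *ᵥ v) = c * sympForm m F u v) :
    (multVal g : F) = c := by
  have h1 := (multVal_spec g (Pi.single (Sum.inr (⟨0, hm⟩ : Fin m)) 1)
    (Pi.single (Sum.inl ⟨0, hm⟩) 1)).symm.trans (h _ _)
  rw [sympForm_single_inl] at h1
  simpa using h1

/-- The multiplier homomorphism. -/
noncomputable def mult (hm : 1 ≤ m) : GSp m F →* Fˣ :=
  MonoidHom.mk' multVal fun g h => Units.ext (mult_unique hm fun u v => by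
    rw [Subgroup.coe_mul, Units.val_mul, ← Matrix.mulVec_mulVec, ← Matrix.mulVec_mulVec, multVal_spec,
      multVal_spec, Units.val_mul]
    ring)

theorem mult_eq (hm : 1 ≤ m) {g : GSp m F} {c : F}
    (h : ∀ u v, sympForm m F (((g : GI) : MI) *ᵥ u) (((g : GI) : MI) *ᵥ v) = c * sympForm m F u v) :
    (mult hm g : F) = c := mult_unique hm h

theorem mult_spec (hm : 1 ≤ m) (g : GSp m F) (u v : V) :
    sympForm m F (((g : GI) : MI) *ᵥ u) (((g : GI) : MI) *ᵥ v) = mult hm g * sympForm m F u v :=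
  multVal_spec g u v

theorem mult_scalar (hm : 1 ≤ m) (c : Fˣ) : mult hm (gspScalar m F c) = c ^ 2 := by
  refine Units.ext (mult_eq hm fun u v => ?_)
  rw [gspScalar_coe, Matrix.GeneralLinearGroup.coe_scalar, Matrix.scalar_apply, ← Matrix.smul_one_eq_diagonal,
    Matrix.smul_mulVec, Matrix.smul_mulVec, Matrix.one_mulVec, Matrix.one_mulVec, sympForm_smul_left,
    sympForm_smul_right, Units.val_pow_eq_pow_val]
  ring

theorem mult_gspMap (hm : 1 ≤ m) (σ : F ≃+* F) (g : GSp m F) :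
    mult hm (gspMap σ g) = Units.map σ.toMonoidHom (mult hm g) := by
  refine Units.ext (mult_eq hm fun u v => ?_)
  obtain ⟨u, rfl⟩ : ∃ u', u = σ ∘ u' := ⟨σ.symm ∘ u, funext fun i => by simp⟩
  obtain ⟨v, rfl⟩ : ∃ v', v = σ ∘ v' := ⟨σ.symm ∘ v, funext fun i => by simp⟩
  show sympForm m F (((g : GI) : MI).map σ *ᵥ _) (((g : GI) : MI).map σ *ᵥ _) = _
  rw [map_mulVec_comp, map_mulVec_comp, sympForm_comp, mult_spec hm, sympForm_comp, map_mul]
  rfl

theorem mult_spToGSp (hm : 1 ≤ m) (s : Sp) : mult hm (spToGSp s) = 1 := by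
  refine Units.ext (mult_eq hm fun u v => ?_)
  rw [spToGSp_coe, sympForm_map, Units.val_one, one_mul]

theorem exists_sp_of_mult_eq_one (hm : 1 ≤ m) {g : GSp m F} (h : mult hm g = 1) :
    ∃ s : Sp, spToGSp s = g :=
  ⟨⟨((g : GI) : MI), mem_symplecticGroup_iff_form.2 fun u v => by
    rw [mult_spec hm, h, Units.val_one, one_mul]⟩, Subtype.ext (Units.ext rfl)⟩

theorem mult_surjective (hm : 1 ≤ m) (t : Fˣ) :
    ∃ g : GSp m F, mult hm g = t ∧ ∀ σ : F ≃+* F, σ t = t → gspMap σ g = g := by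
  obtain ⟨g, hg⟩ := exists_diag_gsp (m := m) (fun _ => (t : F)) (fun _ => 1) t t.ne_zero fun _ => mul_one _
  refine ⟨g, Units.ext (mult_eq hm fun u v => ?_), fun σ hσ => Subtype.ext (Units.ext ?_)⟩
  · rw [hg, hg, sympForm_eq_sum, sympForm_eq_sum, Finset.mul_sum]
    exact Finset.sum_congr rfl fun i _ => by simp; ring
  · refine Matrix.ext_iff_mulVec.2 fun x => ?_
    obtain ⟨x, rfl⟩ : ∃ x', x = σ ∘ x' := ⟨σ.symm ∘ x, funext fun i => by simp⟩
    show ((g : GI) : MI).map σ *ᵥ _ = _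
    rw [map_mulVec_comp, hg, hg]
    funext k
    rcases k with k | k <;> simp [hσ]

variable {p : ℕ} [Fact p.Prime] [CharP F p]

include p in
/-- In characteristic two every similitude is a scalar times a symplectic map. -/
theorem inndiag_le_inn (hm : 1 ≤ m) (hp : p = 2) : inndiagPSp m F ≤ Inn PS := by
  intro β hβ
  obtain ⟨g, rfl⟩ := mem_inndiag_iff.1 hβ
  haveI : CharP F 2 := hp ▸ (inferInstance : CharP F p)
  obtain ⟨ν, hν⟩ : ∃ ν : F, ν ^ 2 = (mult hm g : F) := by
    obtain ⟨ν, hν⟩ := FiniteField.isSquare_of_char_two (ringChar.eq F 2) (mult hm g : F)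
    exact ⟨ν, by rw [hν, sq]⟩
  have hν0 : ν ≠ 0 := fun h0 => (mult hm g).ne_zero (by rw [← hν, h0]; simp)
  obtain ⟨s, hs⟩ := exists_sp_of_mult_eq_one hm (g := (gspScalar m F (Units.mk0 ν hν0))⁻¹ * g) (by
    rw [map_mul, map_inv, mult_scalar, inv_mul_eq_one]
    exact Units.ext (by simpa using hν))
  refine ⟨spToPSp m F s, ?_⟩
  rw [conj_eq_pspSemi, hs, ← inndiagHom_apply, map_mul, map_inv]
  have : inndiagHom m F (gspScalar m F (Units.mk0 ν hν0)) = 1 :=
    (pspSemi_eq_one_iff hm).2 ⟨rfl, _, rfl⟩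
  rw [this, inv_one, one_mul]

end Cfsg.Agent.Classical.PSpAut
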