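import Cfsg.Agent.Lib.Classical.PSpAutStructure
import Cfsg.Agent.Lib.Classical.PSLFieldAut
import Cfsg.Agent.Lib.Classical.SplitClassCount

/-!
Field automorphisms of prime order of `PSp_{2m}(q)`.
-/

set_option autoImplicit false
set_option linter.unusedSectionVars false

namespace Cfsg.Agent.Classical.PSpAut

open Matrix Cfsg.Agent.Classical.Descent

variable {F : Type*} [Field F] [Fintype F] {m : ℕ} {p : ℕ} [Fact p.Prime] [CharP F p]

local notation "V" => (Fin m ⊕ Fin m → F)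
local notation "Sp" => Matrix.symplecticGroup (Fin m) F
local notation "PS" => PSp m F
local notation "MI" => Matrix (Fin m ⊕ Fin m) (Fin m ⊕ Fin m) F
local notation "GI" => GL (Fin m ⊕ Fin m) F

include p in
/-- Conjugates of field automorphisms preserve transvections, also for `Sp₄` in characteristic two. -/
theorem presTV_conj_field (hm : 2 ≤ m) (α : MulAut PS) (σ : RingAut F) :
    PresTV (α⁻¹ * pspSemi 1 σ * α) := by
  classical
  by_cases hp : m = 2 ∧ p = 2
  swap
  · exact presTV_of_ne (p := p) hm (fun h h' => hp ⟨h, h'⟩) _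
  obtain ⟨-, rfl⟩ := hp
  have hm1 : 1 ≤ m := by omega
  have h2 : (2 : F) = 0 := CharTwo.two_eq_zero
  set o : Fin m := ⟨0, by omega⟩
  set o1 : Fin m := ⟨1, by omega⟩
  have h01 : o ≠ o1 := by simp [o, o1, Fin.ext_iff]
  have hsq : ∀ c : F, ∃ r : F, r ^ 2 = c := fun c => by
    obtain ⟨r, hr⟩ := FiniteField.isSquare_of_char_two (ringChar.eq F 2) c
    exact ⟨r, by rw [hr, sq]⟩
  set β := α⁻¹ * pspSemi 1 σ * α
  set e : V := Pi.single (Sum.inl o) 1
  have he : e ≠ 0 := by simp [e]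
  obtain ⟨g, z, a, c, b, ha, -, hz, hgz⟩ := exists_normal_form (p := 2) hm α he 1
  have ha1 : a = 1 := by
    have h1 : (a - 1) * (a - 1) = 0 := by linear_combination ha - h2 * (a - 1)
    exact sub_eq_zero.1 (mul_self_eq_zero.1 h1)
  subst ha1
  rw [one_smul] at hz
  -- scale the entries to zero or one by the torus
  obtain ⟨t0, ht0, hc⟩ : ∃ t : F, t ≠ 0 ∧ (t ^ 2 * c = 0 ∨ t ^ 2 * c = 1) := by
    by_cases hc : c = 0
    · exact ⟨1, one_ne_zero, Or.inl (by simp [hc])⟩
    · obtain ⟨r, hr⟩ := hsq c⁻¹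
      exact ⟨r, fun h0 => inv_ne_zero hc (by rw [← hr, h0]; simp), Or.inr (by rw [hr, inv_mul_cancel₀ hc])⟩
  obtain ⟨t1, ht1, hb⟩ : ∃ t : F, t ≠ 0 ∧ (t0 * t * b = 0 ∨ t0 * t * b = 1) := by
    by_cases hb : b = 0
    · exact ⟨1, one_ne_zero, Or.inl (by simp [hb])⟩
    · exact ⟨(t0 * b)⁻¹, inv_ne_zero (mul_ne_zero ht0 hb), Or.inr (by field_simp)⟩
  set d : Fin m → F := fun i => if i = o then t0 else if i = o1 then t1 else 1
  have hd : ∀ i, d i ≠ 0 := fun i => by
    simp only [d]; split_ifs <;> first | exact ht0 | exact ht1 | exact one_ne_zero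
  set D : MI := Matrix.diagonal (Sum.elim d fun i => (d i)⁻¹)
  set D' : MI := Matrix.diagonal (Sum.elim (fun i => (d i)⁻¹) d)
  have hDD : D * D' = 1 := by
    rw [Matrix.diagonal_mul_diagonal, ← Matrix.diagonal_one]
    congr 1
    funext k; rcases k with k | k <;> simp [hd k]
  have hDmem : D ∈ Matrix.symplecticGroup (Fin m) F := by
    refine mem_symplecticGroup_iff_form.2 fun u v => ?_
    simp only [sympForm_eq_sum, D, Matrix.mulVec_diagonal, Sum.elim_inl, Sum.elim_inr]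
    refine Finset.sum_congr rfl fun i _ => ?_
    have := hd i
    field_simp
  set k : Sp := ⟨D, hDmem⟩
  have hk' : ((k⁻¹ : Sp) : MI) = D' := by
    calc ((k⁻¹ : Sp) : MI) = ((k⁻¹ : Sp) : MI) * (D * D') := by rw [hDD, mul_one]
      _ = D' := by
        rw [← mul_assoc, show D = ((k : Sp) : MI) from rfl, ← Submonoid.coe_mul, inv_mul_cancel]
        exact one_mul _
  set z' := k * z * k⁻¹
  set c' := t0 ^ 2 * c
  set b' := t0 * t1 * b
  have hz' : (z' : MI) = 1 + (Matrix.single (Sum.inl o) (Sum.inr o) c' +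
      Matrix.single (Sum.inl o) (Sum.inr o1) b' + Matrix.single (Sum.inl o1) (Sum.inr o) b') := by
    rw [Submonoid.coe_mul, Submonoid.coe_mul, hk', show ((k : Sp) : MI) = D from rfl, hz, mul_add,
      mul_one, add_mul, hDD]
    congr 1
    have hcj : ∀ (x y : Fin m ⊕ Fin m) (r : F), D * Matrix.single x y r * D' =
        Matrix.single x y (Sum.elim d (fun i => (d i)⁻¹) x * r * Sum.elim (fun i => (d i)⁻¹) d y) := by
      intro x y r
      ext i j
      simp only [D, D', Matrix.mul_diagonal, Matrix.diagonal_mul, Matrix.single_apply]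
      split_ifs with h
      · rw [h.1, h.2]
      · simp
    have e0 : d o = t0 := by simp [d]
    have e1 : d o1 = t1 := by simp [d, h01.symm]
    rw [mul_add, mul_add, add_mul, add_mul, hcj, hcj, hcj]
    simp only [Sum.elim_inl, Sum.elim_inr]
    rw [e0, e1, show t0 * c * t0 = c' by simp only [c']; ring, show t0 * b * t1 = b' by simp only [b']; ring,
      show t1 * b * t0 = b' by simp only [b']; ring]
  have hσz : (z' : MI).map σ = (z' : MI) := by
    have hσc : σ c' = c' := by rcases hc with h | h <;> rw [h] <;> simp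
    have hσb : σ b' = b' := by rcases hb with h | h <;> rw [h] <;> simp
    rw [hz']
    ext i j
    simp only [Matrix.map_apply, Matrix.add_apply, Matrix.one_apply, Matrix.single_apply, map_add,
      apply_ite σ, map_one, map_zero, hσc, hσb]
  have hfix : pspSemi 1 σ (spToPSp m F z') = spToPSp m F z' := by
    rw [pspSemi_mk]
    exact congrArg _ (Subtype.ext (by simp [spSemi_coe, hσz]))
  -- hence the image of one transvection is a transvection
  set h := g * (spToPSp m F k)⁻¹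
  have hα : α (spToPSp m F (sympTv e 1)) = h * spToPSp m F z' * h⁻¹ := by
    rw [show spToPSp m F z' = spToPSp m F k * spToPSp m F z * (spToPSp m F k)⁻¹ by
      rw [← map_inv, ← map_mul, ← map_mul], hgz]
    simp only [h]
    group
  set x := (α⁻¹ : MulAut PS) (pspSemi 1 σ h * h⁻¹)
  have hβ1 : β (spToPSp m F (sympTv e 1)) = x * spToPSp m F (sympTv e 1) * x⁻¹ := by
    apply α.injective
    have hcancel : ∀ y, α ((α⁻¹ : MulAut PS) y) = y := fun y => α.apply_symm_apply y
    show α ((α⁻¹ : MulAut PS) (pspSemi 1 σ (α _))) = _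
    rw [map_mul, map_mul, map_inv, hcancel, hcancel, hα, map_mul, map_mul, map_inv, hfix]
    group
  obtain ⟨x', hx'⟩ := spToPSp_surjective x
  rintro _ ⟨v, r, hv, rfl⟩
  by_cases hr : r = 0
  · exact ⟨v, 0, hv, by rw [hr, sympTv_zero, map_one, map_one]⟩
  obtain ⟨s, hs⟩ := hsq r
  have hs0 : s ≠ 0 := fun h0 => hr (by rw [← hs, h0]; simp)
  obtain ⟨A, hA⟩ := symp_pretransitive he (smul_ne_zero hs0 hv)
  have hvr : sympTv v r = A * sympTv e 1 * A⁻¹ := by
    rw [sympTv_conj, hA, sympTv_smul, mul_one, hs]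
  obtain ⟨y', hy'⟩ := spToPSp_surjective (β (spToPSp m F A))
  set w := ((y' * x' : Sp) : MI) *ᵥ e
  refine ⟨w, 1, fun h0 => he ?_, ?_⟩
  · have h1 := congrArg ((((y' * x')⁻¹ : Sp) : MI) *ᵥ ·) h0
    simp only [w, Matrix.mulVec_mulVec, ← Submonoid.coe_mul, inv_mul_cancel, Matrix.mulVec_zero] at h1
    exact (Matrix.one_mulVec e).symm.trans h1
  · rw [hvr, map_mul, map_mul, map_inv, map_mul, map_mul, map_inv, hβ1, ← hx', ← hy', ← sympTv_conj]
    simp only [map_mul, map_inv]
    group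

include p in
/-- A field automorphism in the general sense is semilinear with non-trivial field part. -/
theorem fieldClass_param (hm : 2 ≤ m) {x : MulAut PS} (hx : IsFieldAutClassPSp x) :
    ∃ (g : GSp m F) (τ : RingAut F), τ ≠ 1 ∧ x = pspSemi g τ := by
  obtain ⟨α, σ, hσ, hα⟩ := hx
  have hm1 : 1 ≤ m := by omega
  have hx' : x = α⁻¹ * pspSemi 1 σ * α := by rw [← stdField_iff.1 hα]; group
  obtain ⟨g, τ, hgτ⟩ := exists_param_of_presTV hm (hx' ▸ presTV_conj_field (p := p) hm α σ : PresTV x)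
  refine ⟨g, τ, fun h1 => hσ ?_, hgτ⟩
  have hφ : pspSemi (1 : GSp m F) σ = α * pspSemi g (RingEquiv.refl F) * α⁻¹ := by
    rw [← stdField_iff.1 hα, hgτ, h1]; rfl
  by_cases h4 : m = 2 ∧ p = 2
  · have hmem : pspSemi (1 : GSp m F) σ ∈ inndiagPSp m F := by
      rw [hφ]
      exact inn_le_inndiag (inn_normal.conj_mem _
        (inndiag_le_inn (p := p) hm1 h4.2 (mem_inndiag_iff.2 ⟨g, rfl⟩)) α)
    obtain ⟨d, hd⟩ := mem_inndiag_iff.1 hmem
    exact ((semi_inj hm1 (σ := σ) (τ := (1 : RingAut F))).1 hd.symm).1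
  · obtain ⟨a, ρ, rfl⟩ := exists_param (p := p) hm (fun h h' => h4 ⟨h, h'⟩) α
    have h2 : pspSemi (1 : GSp m F) σ * pspSemi a ρ = pspSemi a ρ * pspSemi g (RingEquiv.refl F) := by
      rw [hφ, inv_mul_cancel_right]
    rw [pspSemi_mul' (σ := σ) (τ := ρ), pspSemi_mul' (σ := ρ) (τ := (RingEquiv.refl F : RingAut F))] at h2
    have h3 := ((semi_inj hm1).1 h2).1
    exact mul_right_cancel (h3.trans ((mul_one ρ).trans (one_mul ρ).symm))

theorem orderOf_field (hm : 1 ≤ m) {σ : RingAut F} {g : GSp m F} {r : ℕ} (hr : r.Prime) (hσ : σ ≠ 1)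
    (hord : orderOf (pspSemi g σ : MulAut PS) = r) :
    orderOf σ = r ∧ ∃ c, twistNorm σ (g : GI) r = Matrix.GeneralLinearGroup.scalar (Fin m ⊕ Fin m) c := by
  have h := pow_orderOf_eq_one (pspSemi g σ : MulAut PS)
  obtain ⟨N, hN, hN'⟩ := pspSemi_pow g σ r
  rw [hord, hN, pspSemi_eq_one_iff hm] at h
  obtain ⟨hσr, c, hc⟩ := h
  refine ⟨(hr.eq_one_or_self_of_dvd _ (orderOf_dvd_of_pow_eq_one hσr)).resolve_left
    fun h1 => hσ (orderOf_eq_one_iff.1 h1), c, ?_⟩
  rw [← hN', hc]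
  rfl

theorem conj_field (y : GSp m F) (σ : RingAut F) :
    inndiagHom m F y * pspSemi 1 σ * (inndiagHom m F y)⁻¹ =
      (pspSemi (y * (gspMap σ y)⁻¹) σ : MulAut PS) := by
  rw [inndiagHom_apply, pspSemi_refl_inv, pspSemi_refl_mul, pspSemi_mul', mul_one, map_inv]
  congr 1

/-- The form pulled back along an invertible matrix. -/
theorem sympForm_pullback (Y : MI) (u v : V) :
    sympForm m F (Y *ᵥ u) (Y *ᵥ v) = u ⬝ᵥ ((Yᵀ * Matrix.J (Fin m) F * Y) *ᵥ v) := by
  rw [sympForm, ← Matrix.mulVec_mulVec, ← Matrix.mulVec_mulVec, Matrix.dotProduct_mulVec u,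
    Matrix.vecMul_transpose]

/-- Field automorphisms of prime order in a coset are conjugate to the standard one. -/
theorem exists_conj_field (hm : 1 ≤ m) {σ : RingAut F} {g : GSp m F} {r : ℕ} (hr : r.Prime) (hσ : σ ≠ 1)
    (hord : orderOf (pspSemi g σ : MulAut PS) = r) :
    orderOf σ = r ∧ ∃ y, (pspSemi g σ : MulAut PS) =
      inndiagHom m F y * pspSemi 1 σ * (inndiagHom m F y)⁻¹ := by
  classical
  haveI : Nonempty (Fin m ⊕ Fin m) := ⟨Sum.inl ⟨0, hm⟩⟩
  obtain ⟨hσr, c, hc⟩ := orderOf_field hm hr hσ hord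
  rw [← hσr] at hc
  obtain ⟨μ, y, hy⟩ := exists_coboundary_scalar σ (g : GI) hc
  set lam := mult hm g
  set M : MI := ((y : GI) : MI)ᵀ * Matrix.J (Fin m) F * ((y : GI) : MI) with hM
  have hB : ∀ u v, sympForm m F ((y : GI).val *ᵥ u) ((y : GI).val *ᵥ v) = u ⬝ᵥ (M *ᵥ v) :=
    sympForm_pullback _
  have hgy : (g : GI) * gmap σ y = Matrix.GeneralLinearGroup.scalar (Fin m ⊕ Fin m) μ * y := by
    rw [hy, mul_assoc, inv_mul_cancel_right]
  -- the pulled back form is fixed by `σ` up to a scalar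
  have hσM : M.map σ = ((μ : F) ^ 2 / (lam : F)) • M := by
    have hentry : ∀ i j, M i j = sympForm m F ((y : GI).val *ᵥ Pi.single i 1) ((y : GI).val *ᵥ Pi.single j 1) :=
      fun i j => by rw [hB, single_one_dotProduct, Matrix.mulVec_single_one]; rfl
    have hcomp : ∀ i : Fin m ⊕ Fin m, σ ∘ (Pi.single i 1 : V) = Pi.single i 1 := fun k => by
      funext l; by_cases hl : l = k <;> simp [hl]
    ext i j
    rw [Matrix.map_apply, Matrix.smul_apply, hentry, ← sympForm_comp, ← map_mulVec_comp,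
      ← map_mulVec_comp, hcomp, hcomp, smul_eq_mul]
    have hlam := lam.ne_zero
    rw [div_mul_eq_mul_div, eq_div_iff hlam, mul_comm, ← mult_spec hm g, Matrix.mulVec_mulVec,
      Matrix.mulVec_mulVec,
      show ((g : GI) : MI) * ((y : GI) : MI).map σ = (μ : F) • ((y : GI) : MI) from ?_,
      Matrix.smul_mulVec, Matrix.smul_mulVec, sympForm_smul_left, sympForm_smul_right]
    · ring
    · have := congrArg Units.val hgy
      rw [Units.val_mul, Units.val_mul, Matrix.GeneralLinearGroup.coe_scalar, Matrix.scalar_apply,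
        ← Matrix.smul_eq_diagonal_mul] at this
      exact this
  have hMu : IsUnit M.det := by
    rw [hM, Matrix.det_mul, Matrix.det_mul, Matrix.det_transpose]
    exact ((Matrix.GeneralLinearGroup.det y).isUnit.mul (Matrix.isUnit_det_J _ _)).mul
      (Matrix.GeneralLinearGroup.det y).isUnit
  set MU : GI := Matrix.GeneralLinearGroup.mk'' M hMu with hMU
  obtain ⟨ν, K, hK, hMK⟩ := exists_fixed_of_map_eq_smul σ MU (c := μ ^ 2 / lam) (by
    refine Units.ext ?_
    rw [Units.val_mul, Matrix.GeneralLinearGroup.coe_scalar, Matrix.scalar_apply,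
      ← Matrix.smul_eq_diagonal_mul, Units.val_div_eq_div_val, Units.val_pow_eq_pow_val]
    exact hσM)
  have hMK' : M = (ν : F) • (K : MI) := by
    have := congrArg Units.val hMK
    rw [Units.val_mul, Matrix.GeneralLinearGroup.coe_scalar, Matrix.scalar_apply,
      ← Matrix.smul_eq_diagonal_mul] at this
    exact this
  -- descend the form to the fixed field
  let K₀ : Subfield F := RingHom.eqLocusField σ.toRingHom (RingHom.id F)
  have hKfix : ∀ i j, (K : MI) i j ∈ K₀ := fun i j => congrFun (congrFun (congrArg (fun u : GI => (u : MI)) hK) i) j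
  let A : Matrix (Fin m ⊕ Fin m) (Fin m ⊕ Fin m) K₀ := Matrix.of fun i j => ⟨_, hKfix i j⟩
  have hA : A.map K₀.subtype = (K : MI) := by ext i j; rfl
  let B := Matrix.toBilin' A
  have hBK : ∀ u v : Fin m ⊕ Fin m → K₀, (B u v : F) =
      (K₀.subtype ∘ u) ⬝ᵥ ((K : MI) *ᵥ (K₀.subtype ∘ v)) := by
    intro u v
    rw [Matrix.toBilin'_apply', ← hA]
    simp [dotProduct, Matrix.mulVec]
  have hνK : ∀ u v : V, u ⬝ᵥ ((K : MI) *ᵥ v) = (ν : F)⁻¹ * sympForm m F ((y : GI).val *ᵥ u) ((y : GI).val *ᵥ v) := by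
    intro u v
    rw [hB, hMK', Matrix.smul_mulVec, dotProduct_smul, smul_eq_mul, inv_mul_cancel_left₀ ν.ne_zero]
  have halt : B.IsAlt := fun u => Subtype.ext (by rw [hBK, hνK, sympForm_self, mul_zero]; rfl)
  have hnd : ∀ u, (∀ v, B u v = 0) → u = 0 := by
    have hAdet : A.det ≠ 0 := fun h0 => K.det_ne_zero (by
      rw [← hA, ← RingHom.mapMatrix_apply, ← RingHom.map_det, h0, map_zero])
    exact fun u hu => ((Matrix.nondegenerate_of_det_ne_zero hAdet).toBilin').1 u hu
  obtain ⟨L, hL⟩ := exists_symp_coords (e := m) B halt hnd (by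
    rw [Module.finrank_pi, Fintype.card_sum, Fintype.card_fin]; omega)
  set Z := LinearMap.toMatrix' (L : (Fin m ⊕ Fin m → K₀) →ₗ[K₀] (Fin m ⊕ Fin m → K₀))
  set Zf : MI := Z.map K₀.subtype
  have hZu : IsUnit Zf.det := by
    have h1 : IsUnit Z.det := by
      rw [← Matrix.isUnit_iff_isUnit_det]
      refine Matrix.mulVec_injective_iff_isUnit.1 fun a b hab => L.injective ?_
      simpa [Z, LinearMap.toMatrix'_mulVec] using hab
    show IsUnit (K₀.subtype.mapMatrix Z).det
    rw [← RingHom.map_det]; exact h1.map _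
  set zz : GI := Matrix.GeneralLinearGroup.mk'' Zf hZu with hzz
  have hzfix : gmap σ zz = zz := by
    refine Units.ext (Matrix.ext fun i j => ?_)
    exact (Z i j).2
  have hform : ∀ i j, sympForm m F (((y * zz : GI) : MI) *ᵥ Pi.single i 1) (((y * zz : GI) : MI) *ᵥ Pi.single j 1)
      = (ν : F) * sympForm m F (Pi.single i 1) (Pi.single j 1) := by
    intro i j
    rw [Units.val_mul, ← Matrix.mulVec_mulVec, ← Matrix.mulVec_mulVec,
      show ∀ a b : F, a = (ν : F) * b ↔ (ν : F)⁻¹ * a = b from fun a b => by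
        rw [inv_mul_eq_iff_eq_mul₀ ν.ne_zero], ← hνK]
    have hcol : ∀ k, (zz : MI) *ᵥ Pi.single k 1 = K₀.subtype ∘ (L (Pi.single k 1)) := fun k => by
      rw [Matrix.mulVec_single_one]
      funext l
      simp [hzz, Zf, Z, LinearMap.toMatrix'_apply, Pi.single_apply]
    rw [hcol, hcol, ← hBK, hL]
    have hone : ∀ k, (K₀.subtype ∘ (Pi.single k 1 : Fin m ⊕ Fin m → K₀)) = (Pi.single k 1 : V) := fun k => by
      funext l; by_cases hl : l = k <;> simp [hl]
    rw [← hone i, ← hone j]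
    simp [sympForm_eq_sum]
  have hmem : y * zz ∈ GSp m F := by
    refine mem_GSp.2 ⟨ν, fun u v => ?_⟩
    have e1 : ((y * zz : GI) : MI)ᵀ * Matrix.J (Fin m) F * ((y * zz : GI) : MI) = (ν : F) • Matrix.J (Fin m) F := by
      ext i j
      have h := hform i j
      rw [sympForm_pullback, sympForm, single_one_dotProduct, single_one_dotProduct,
        Matrix.mulVec_single_one, Matrix.mulVec_single_one] at h
      simpa using h
    rw [sympForm_pullback, e1, Matrix.smul_mulVec, dotProduct_smul, smul_eq_mul]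
    rfl
  refine ⟨hσr, ⟨y * zz, hmem⟩, ?_⟩
  rw [conj_field, semi_inj hm]
  refine ⟨rfl, μ, Subtype.ext ?_⟩
  rw [Subgroup.coe_mul, gspScalar_coe, Subgroup.coe_mul, Subgroup.coe_inv, gspMap_coe]
  show (g : GI) = _ * (y * zz * (gmap σ (y * zz))⁻¹)
  rw [hy, map_mul, hzfix]
  group

include p in
theorem fieldClass_std (hm : 2 ≤ m) {x : MulAut PS} (hx : IsFieldAutClassPSp x) {r : ℕ} (hr : r.Prime)
    (hxr : orderOf x = r) :
    ∃ (σ : RingAut F) (a : GSp m F), σ ≠ 1 ∧ orderOf σ = r ∧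
      x = inndiagHom m F a * pspSemi 1 σ * (inndiagHom m F a)⁻¹ := by
  obtain ⟨g, τ, hτ, rfl⟩ := fieldClass_param (p := p) hm hx
  obtain ⟨h1, y, hy⟩ := exists_conj_field (by omega) hr hτ hxr
  exact ⟨τ, y, hτ, h1, hy⟩

include p in
theorem coset_conj_iff (hm : 2 ≤ m) {x δ : MulAut PS} (hx : IsFieldAutClassPSp x) {r : ℕ} (hr : r.Prime)
    (hxr : orderOf x = r) (hδ : δ ∈ inndiagPSp m F) :
    orderOf (δ * x) = r ↔ IsConjUnder (inndiagPSp m F) x (δ * x) := by
  constructor
  swap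
  · rintro ⟨h, -, he⟩
    rw [he, ← hxr]
    exact (MulAut.conj h).orderOf_eq x
  intro hord
  obtain ⟨d, rfl⟩ := mem_inndiag_iff.1 hδ
  obtain ⟨σ, a, hσ, -, rfl⟩ := fieldClass_std (p := p) hm hx hr hxr
  have he : inndiagHom m F d * (inndiagHom m F a * pspSemi 1 σ * (inndiagHom m F a)⁻¹) =
      pspSemi (d * (a * (gspMap σ a)⁻¹)) σ := by
    rw [conj_field, inndiagHom_apply, pspSemi_refl_mul]
  rw [he] at hord
  obtain ⟨-, y, hy⟩ := exists_conj_field (by omega) hr hσ hord
  rw [he, hy]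
  exact ⟨inndiagHom m F (y * a⁻¹), mem_inndiag_iff.2 ⟨_, rfl⟩, by rw [map_mul, map_inv]; group⟩

theorem centralizer_field_iff (hm : 1 ≤ m) (σ : RingAut F) (g : GSp m F) :
    Commute (inndiagHom m F g) (pspSemi 1 σ : MulAut PS) ↔
      ∃ c : Fˣ, gspMap σ g = gspScalar m F c * g := by
  rw [inndiagHom_apply, Commute, SemiconjBy, pspSemi_refl_mul, mul_one, pspSemi_mul', one_mul,
    show (σ * (RingEquiv.refl F : RingAut F) : RingAut F) = σ from mul_one σ, semi_inj hm]
  constructor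
  · rintro ⟨-, c, hc⟩
    exact ⟨c⁻¹, by rw [map_inv]; exact eq_inv_mul_of_mul_eq hc.symm⟩
  · rintro ⟨c, hc⟩
    exact ⟨rfl, c⁻¹, by rw [map_inv]; exact eq_inv_mul_of_mul_eq hc.symm⟩

theorem exists_fixed_of_centralizes (hm : 1 ≤ m) (σ : RingAut F) {g : GSp m F}
    (hg : Commute (inndiagHom m F g) (pspSemi 1 σ : MulAut PS)) :
    ∃ (μ : Fˣ) (k : GSp m F), gspMap σ k = k ∧ g = gspScalar m F μ * k := by
  haveI : Nonempty (Fin m ⊕ Fin m) := ⟨Sum.inl ⟨0, hm⟩⟩
  obtain ⟨c, hc⟩ := (centralizer_field_iff hm σ g).1 hg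
  obtain ⟨μ, k, hk, hg'⟩ := exists_fixed_of_map_eq_smul σ (g : GI) (congrArg Subtype.val hc)
  have hk' : k = (((gspScalar m F μ)⁻¹ * g : GSp m F) : GI) := by
    rw [Subgroup.coe_mul, Subgroup.coe_inv, gspScalar_coe, hg', inv_mul_cancel_left]
  refine ⟨μ, (gspScalar m F μ)⁻¹ * g, Subtype.ext ?_, (mul_inv_cancel_left _ _).symm⟩
  rw [gspMap_coe, ← hk']
  exact hk

theorem centralizer_field_iso (hm : 1 ≤ m) {F₀ : Type*} [Field F₀] [Fintype F₀] (σ : RingAut F)
    (j : F₀ →+* F) (hj : ∀ x, σ x = x ↔ x ∈ j.range) :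
    Nonempty (↥(inndiagPSp m F ⊓ Subgroup.centralizer {(pspSemi 1 σ : MulAut PS)}) ≃* PGSp m F₀) := by
  haveI : Nonempty (Fin m ⊕ Fin m) := ⟨Sum.inl ⟨0, hm⟩⟩
  have hcomp : ∀ (u : Fin m ⊕ Fin m → F₀) (A : Matrix (Fin m ⊕ Fin m) (Fin m ⊕ Fin m) F₀),
      A.map j *ᵥ (j ∘ u) = j ∘ (A *ᵥ u) := fun u A => by
    funext i; simp [Matrix.mulVec, dotProduct, map_sum]
  have hformj : ∀ u v : Fin m ⊕ Fin m → F₀, sympForm m F (j ∘ u) (j ∘ v) = j (sympForm m F₀ u v) :=
    fun u v => by simp [sympForm_eq_sum, map_sum]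
  have hup : ∀ g : GSp m F₀, Matrix.GeneralLinearGroup.map j (g : GL (Fin m ⊕ Fin m) F₀) ∈ GSp m F := by
    intro g
    obtain ⟨c, hc⟩ := mem_GSp.1 g.2
    refine mem_GSp.2 ⟨Units.map j.toMonoidHom c, fun u v => ?_⟩
    set G : MI := (Matrix.GeneralLinearGroup.map j (g : GL (Fin m ⊕ Fin m) F₀) : GI).val
    have e1 : Gᵀ * Matrix.J (Fin m) F * G = (j (c : F₀)) • Matrix.J (Fin m) F := by
      ext a b
      have h := hformj (g.1.val *ᵥ Pi.single a 1) (g.1.val *ᵥ Pi.single b 1)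
      rw [hc, ← hcomp, ← hcomp, map_mul, ← hformj] at h
      have hone : ∀ k, (j ∘ (Pi.single k 1 : Fin m ⊕ Fin m → F₀)) = (Pi.single k 1 : V) := fun k => by
        funext l; by_cases hl : l = k <;> simp [hl]
      rw [hone, hone, sympForm_pullback, sympForm, single_one_dotProduct, single_one_dotProduct,
        Matrix.mulVec_single_one, Matrix.mulVec_single_one] at h
      simpa [G] using h
    show sympForm m F (G *ᵥ u) (G *ᵥ v) = _
    rw [sympForm_pullback, e1, Matrix.smul_mulVec, dotProduct_smul, smul_eq_mul]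
    rfl
  let ι : GSp m F₀ →* GSp m F :=
    ((Matrix.GeneralLinearGroup.map j).comp (GSp m F₀).subtype).codRestrict _ hup
  have hfix : ∀ g, gspMap σ (ι g) = ι g := fun g => by
    refine Subtype.ext (Units.ext (Matrix.ext fun a b => ?_))
    exact (hj _).2 ⟨_, rfl⟩
  let Φ : GSp m F₀ →* ↥(inndiagPSp m F ⊓ Subgroup.centralizer {(pspSemi 1 σ : MulAut PS)}) :=
    ((inndiagHom m F).comp ι).codRestrict _ fun g =>
      ⟨mem_inndiag_iff.2 ⟨_, rfl⟩, Subgroup.mem_centralizer_singleton_iff.2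
        ((centralizer_field_iff hm σ _).2 ⟨1, by rw [map_one, one_mul]; exact hfix g⟩)⟩
  have hsurj : Function.Surjective Φ := by
    rintro ⟨β, hβ1, hβ2⟩
    obtain ⟨g, rfl⟩ := mem_inndiag_iff.1 hβ1
    obtain ⟨μ, k, hk, hgk⟩ := exists_fixed_of_centralizes hm σ (Subgroup.mem_centralizer_singleton_iff.1
      (show inndiagHom m F g ∈ Subgroup.centralizer {(pspSemi 1 σ : MulAut PS)} from hβ2))
    have hent : ∀ a b, ∃ y, j y = ((k : GI) : MI) a b := fun a b =>
      (hj _).1 (congrFun (congrFun (congrArg (fun u : GSp m F => ((u : GI) : MI)) hk) a) b)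
    choose A hA using hent
    have hA' : (Matrix.of A).map j = ((k : GI) : MI) := Matrix.ext hA
    have hu : IsUnit (Matrix.of A).det := Ne.isUnit fun h => (k : GI).det_ne_zero (by
      rw [← hA', ← RingHom.mapMatrix_apply, ← RingHom.map_det, h, map_zero])
    obtain ⟨c₀, hc₀⟩ : ∃ c₀, j c₀ = (mult hm k : F) := (hj _).1 (by
      have := congrArg Units.val (mult_gspMap hm σ k)
      rw [hk] at this
      exact this.symm)
    have hc₀0 : c₀ ≠ 0 := fun h0 => (mult hm k).ne_zero (by rw [← hc₀, h0, map_zero])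
    have hk₀ : Matrix.GeneralLinearGroup.mk'' _ hu ∈ GSp m F₀ := by
      refine mem_GSp.2 ⟨Units.mk0 c₀ hc₀0, fun u v => j.injective ?_⟩
      rw [← hformj, ← hcomp, ← hcomp]
      show sympForm m F ((Matrix.of A).map j *ᵥ _) ((Matrix.of A).map j *ᵥ _) = _
      rw [hA', mult_spec hm, hformj, map_mul, Units.val_mk0, hc₀]
    refine ⟨⟨_, hk₀⟩, Subtype.ext ?_⟩
    show inndiagHom m F (ι ⟨_, hk₀⟩) = inndiagHom m F g
    rw [show ι ⟨_, hk₀⟩ = k from Subtype.ext (Units.ext hA'), hgk, map_mul,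
      show inndiagHom m F (gspScalar m F μ) = 1 from (pspSemi_eq_one_iff hm).2 ⟨rfl, μ, rfl⟩, one_mul]
  have hker : Φ.ker = (Geo.scalars (Fin m ⊕ Fin m) F₀).subgroupOf (GSp m F₀) := by
    ext g
    rw [MonoidHom.mem_ker, Subtype.ext_iff, Subgroup.mem_subgroupOf, Geo.mem_scalars_iff]
    show inndiagHom m F (ι g) = 1 ↔ _
    rw [inndiagHom_apply, pspSemi_eq_one_iff hm]
    constructor
    · rintro ⟨-, c, hc⟩
      have he : ∀ a b, j (((g : GL (Fin m ⊕ Fin m) F₀) : Matrix _ _ F₀) a b) =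
          if a = b then (c : F) else 0 := fun a b => by
        refine (congrFun (congrFun (congrArg (fun u : GSp m F => ((u : GI) : MI)) hc) a) b).trans ?_
        simp [gspScalar_coe, Matrix.diagonal_apply]
      set o : Fin m ⊕ Fin m := Sum.inl ⟨0, by omega⟩
      have h0 : ((g : GL (Fin m ⊕ Fin m) F₀) : Matrix _ _ F₀) o o ≠ 0 := fun h => by
        have := he o o
        rw [h, map_zero, if_pos rfl] at this
        exact c.ne_zero this.symm
      refine ⟨Units.mk0 _ h0, Matrix.ext fun a b => j.injective ?_⟩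
      rw [he]
      by_cases hab : a = b <;> simp [hab, he]
    · rintro ⟨c, hc⟩
      refine ⟨rfl, Units.map j.toMonoidHom c, Subtype.ext (Units.ext (Matrix.ext fun a b => ?_))⟩
      show j (((g : GL (Fin m ⊕ Fin m) F₀) : Matrix _ _ F₀) a b) = _
      rw [hc]
      by_cases hab : a = b <;> simp [hab, gspScalar_coe]
  exact ⟨((QuotientGroup.quotientMulEquivOfEq hker.symm).trans
    (QuotientGroup.quotientKerEquivOfSurjective Φ hsurj)).symm⟩

theorem split_field (hm : 1 ≤ m) (σ : RingAut F) :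
    splitClassCount (inndiagPSp m F) (Inn PS) (pspSemi 1 σ) = Nat.gcd 2 (fixedUnits σ).index := by
  haveI : Nonempty (Fin m ⊕ Fin m) := ⟨Sum.inl ⟨0, hm⟩⟩
  have hscal : ∀ μ, inndiagHom m F (gspScalar m F μ) = 1 := fun μ =>
    (pspSemi_eq_one_iff hm).2 ⟨rfl, μ, rfl⟩
  rw [splitClassCount_eq_relIndex _ _ inn_le_inndiag, inndiagPSp_eq, ← Subgroup.index_comap]
  have hL : Subgroup.comap (inndiagHom m F)
      (Inn PS ⊔ ((inndiagHom m F).range ⊓ Subgroup.centralizer {(pspSemi 1 σ : MulAut PS)}))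
      = Subgroup.comap (mult hm) ((powMonoidHom 2 : Fˣ →* Fˣ).range ⊔ fixedUnits σ) := by
    ext g
    rw [Subgroup.mem_comap, Subgroup.mem_comap, Subgroup.mem_sup_of_normal_left]
    constructor
    · rintro ⟨k, ⟨y, rfl⟩, _, ⟨⟨a, rfl⟩, hc⟩, he⟩
      obtain ⟨s, rfl⟩ := spToPSp_surjective y
      rw [conj_eq_pspSemi, ← inndiagHom_apply, ← map_mul] at he
      obtain ⟨μ, k, hk, rfl⟩ := exists_fixed_of_centralizes hm σ (Subgroup.mem_centralizer_singleton_iff.1
        (show inndiagHom m F a ∈ Subgroup.centralizer {(pspSemi 1 σ : MulAut PS)} from hc))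
      have hk' : (spToGSp s * (gspScalar m F μ * k))⁻¹ * g ∈ (inndiagHom m F).ker := by
        rw [MonoidHom.mem_ker, map_mul, map_inv, he, inv_mul_cancel]
      rw [ker_inndiagHom hm] at hk'
      obtain ⟨c, hc'⟩ := hk'
      rw [show g = spToGSp s * (gspScalar m F μ * k) * gspScalar m F c by rw [hc', mul_inv_cancel_left],
        map_mul, map_mul, map_mul, mult_spToGSp, one_mul, mult_scalar, mult_scalar]
      refine mul_mem (mul_mem (Subgroup.mem_sup_left ⟨μ, rfl⟩) (Subgroup.mem_sup_right ?_))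
        (Subgroup.mem_sup_left ⟨c, rfl⟩)
      rw [mem_fixedUnits, ← mult_gspMap hm σ k, hk]
    · intro hg
      obtain ⟨_, ⟨μ, rfl⟩, t, ht, hμt⟩ := Subgroup.mem_sup.1 hg
      obtain ⟨a, ha, hax⟩ := mult_surjective (m := m) hm t
      have hfix := hax σ (congrArg Units.val (mem_fixedUnits.1 ht))
      obtain ⟨s, hs⟩ := exists_sp_of_mult_eq_one hm (g := g * a⁻¹ * (gspScalar m F μ)⁻¹) (by
        rw [map_mul, map_mul, map_inv, map_inv, mult_scalar, ha, ← hμt, powMonoidHom_apply,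
          mul_inv_cancel_right, mul_inv_cancel])
      refine ⟨_, ⟨spToPSp m F s, rfl⟩, inndiagHom m F a, ⟨⟨a, rfl⟩,
        Subgroup.mem_centralizer_singleton_iff.2
          ((centralizer_field_iff hm σ a).2 ⟨1, by rw [map_one, one_mul]; exact hfix⟩)⟩, ?_⟩
      rw [conj_eq_pspSemi, ← inndiagHom_apply, hs, map_mul, map_inv, hscal, inv_one, mul_one, ← map_mul,
        inv_mul_cancel_right]
  rw [hL, Subgroup.index_comap_of_surjective _
    (show Function.Surjective (mult (m := m) (F := F) hm) from fun t => (mult_surjective hm t).imp fun _ h => h.1),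
    index_pow_sup]

theorem inndiag_inf_centralizer_conj {h : MulAut PS} (hh : h ∈ inndiagPSp m F) (x : MulAut PS) :
    Nonempty (↥(inndiagPSp m F ⊓ Subgroup.centralizer {h * x * h⁻¹}) ≃*
      ↥(inndiagPSp m F ⊓ Subgroup.centralizer {x})) := by
  have e : (inndiagPSp m F ⊓ Subgroup.centralizer {x}).map (MulAut.conj h).toMonoidHom =
      inndiagPSp m F ⊓ Subgroup.centralizer {h * x * h⁻¹} := by
    ext y
    rw [Subgroup.mem_map_equiv, Subgroup.mem_inf, Subgroup.mem_inf,
      Subgroup.mem_centralizer_singleton_iff, Subgroup.mem_centralizer_singleton_iff,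
      MulAut.conj_symm_apply]
    refine and_congr ⟨fun h1 => ?_, fun h1 => mul_mem (mul_mem (inv_mem hh) h1) hh⟩ ⟨fun h2 => ?_, fun h2 => ?_⟩
    · simpa [mul_assoc] using mul_mem (mul_mem hh h1) (inv_mem hh)
    · calc y * (h * x * h⁻¹) = h * (h⁻¹ * y * h * x) * h⁻¹ := by group
        _ = _ := by rw [h2]; group
    · calc h⁻¹ * y * h * x = h⁻¹ * (y * (h * x * h⁻¹)) * h := by group
        _ = _ := by rw [h2]; group
  exact ⟨(MulEquiv.subgroupCongr e.symm).trans
    (Subgroup.equivMapOfInjective _ (MulAut.conj h).toMonoidHom (MulAut.conj h).injective).symm⟩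

end Cfsg.Agent.Classical.PSpAut
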