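import Cfsg.Agent.Lib.Classical.PSpAutStructure

/-!
The exceptional endomorphism of `Sp₄` in characteristic two, given by the `2 × 2` minors on the four
totally isotropic pairs of basis vectors; its square is the Frobenius map.
-/

set_option autoImplicit false
set_option linter.unusedSectionVars false

namespace Cfsg.Agent.Classical.PSpAut.Graph

open Matrix

variable {F : Type*} [Field F]

local notation "I4" => (Fin 2 ⊕ Fin 2)
local notation "V4" => (Fin 2 ⊕ Fin 2 → F)
local notation "M4" => Matrix (Fin 2 ⊕ Fin 2) (Fin 2 ⊕ Fin 2) F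
local notation "Sp4" => Matrix.symplecticGroup (Fin 2) F

/-- The four totally isotropic pairs of standard basis vectors. -/
def pr : I4 → I4 × I4 :=
  Sum.elim ![(Sum.inl 0, Sum.inl 1), (Sum.inl 0, Sum.inr 1)]
    ![(Sum.inr 0, Sum.inr 1), (Sum.inr 0, Sum.inl 1)]

/-- The matrix of minors. -/
def T (M : M4) : M4 := fun i j =>
  M (pr i).1 (pr j).1 * M (pr i).2 (pr j).2 + M (pr i).1 (pr j).2 * M (pr i).2 (pr j).1

theorem T_transpose (M : M4) : T Mᵀ = (T M)ᵀ := by
  ext i j
  simp only [T, Matrix.transpose_apply]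
  ring

theorem T_one : T (1 : M4) = 1 := by
  ext i j
  rcases i with i | i <;> rcases j with j | j <;> fin_cases i <;> fin_cases j <;>
    simp [T, pr, Matrix.one_apply]

variable [CharP F 2]

theorem T_J : T (Matrix.J (Fin 2) F) = Matrix.J (Fin 2) F := by
  ext i j
  rcases i with i | i <;> rcases j with j | j <;> fin_cases i <;> fin_cases j <;>
    simp [T, pr, Matrix.J, Matrix.one_apply, CharTwo.neg_eq]

theorem sympForm_pr (i : I4) :
    sympForm 2 F (Pi.single (pr i).1 1) (Pi.single (pr i).2 1) = 0 := by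
  rcases i with i | i <;> fin_cases i <;>
    simp [pr, sympForm_eq_sum, Fin.sum_univ_two]

theorem row_rel {g : M4} (hg : g ∈ Sp4) (i : I4) :
    g (pr i).1 (Sum.inl 0) * g (pr i).2 (Sum.inr 0) + g (pr i).1 (Sum.inr 0) * g (pr i).2 (Sum.inl 0) +
      (g (pr i).1 (Sum.inl 1) * g (pr i).2 (Sum.inr 1) +
        g (pr i).1 (Sum.inr 1) * g (pr i).2 (Sum.inl 1)) = 0 := by
  have h := mem_symplecticGroup_iff_form.1 (SymplecticGroup.transpose_mem hg)
    (Pi.single (pr i).1 1) (Pi.single (pr i).2 1)
  rw [sympForm_pr, Matrix.mulVec_single_one, Matrix.mulVec_single_one] at h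
  simp only [sympForm_eq_sum, Fin.sum_univ_two, CharTwo.sub_eq_add, Matrix.col_apply,
    Matrix.transpose_apply] at h
  linear_combination h

theorem T_mul {g h : M4} (hg : g ∈ Sp4) (hh : h ∈ Sp4) : T (g * h) = T g * T h := by
  ext i j
  have hr := row_rel hg i
  have hc := row_rel (SymplecticGroup.transpose_mem hh) j
  simp only [Matrix.transpose_apply] at hc
  have key : ∀ (x y u w : I4 → F),
      x (Sum.inl 0) * y (Sum.inr 0) + x (Sum.inr 0) * y (Sum.inl 0) +
        (x (Sum.inl 1) * y (Sum.inr 1) + x (Sum.inr 1) * y (Sum.inl 1)) = 0 →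
      u (Sum.inl 0) * w (Sum.inr 0) + u (Sum.inr 0) * w (Sum.inl 0) +
        (u (Sum.inl 1) * w (Sum.inr 1) + u (Sum.inr 1) * w (Sum.inl 1)) = 0 →
      (∑ k, x k * u k) * (∑ l, y l * w l) + (∑ k, x k * w k) * (∑ l, y l * u l) =
        ∑ k, (x (pr k).1 * y (pr k).2 + x (pr k).2 * y (pr k).1) *
          (u (pr k).1 * w (pr k).2 + w (pr k).1 * u (pr k).2) := by
    intro x y u w hr hc
    simp only [Fintype.sum_sum_type, Fin.sum_univ_two, pr, Sum.elim_inl, Sum.elim_inr,
      Matrix.cons_val_zero, Matrix.cons_val_one]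
    linear_combination ((x (Sum.inl 0) * y (Sum.inl 0) * u (Sum.inl 0) * w (Sum.inl 0) +
        x (Sum.inl 1) * y (Sum.inl 1) * u (Sum.inl 1) * w (Sum.inl 1) +
        x (Sum.inr 0) * y (Sum.inr 0) * u (Sum.inr 0) * w (Sum.inr 0) +
        x (Sum.inr 1) * y (Sum.inr 1) * u (Sum.inr 1) * w (Sum.inr 1)) +
        (x (Sum.inl 0) * y (Sum.inr 0) + x (Sum.inr 0) * y (Sum.inl 0)) *
          (u (Sum.inl 0) * w (Sum.inr 0) + u (Sum.inr 0) * w (Sum.inl 0))) *
        (CharTwo.two_eq_zero (R := F)) +
      (x (Sum.inl 1) * y (Sum.inr 1) + x (Sum.inr 1) * y (Sum.inl 1)) * hc -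
      (u (Sum.inl 0) * w (Sum.inr 0) + u (Sum.inr 0) * w (Sum.inl 0)) * hr
  have := key (g (pr i).1) (g (pr i).2) (fun k => h k (pr j).1) (fun k => h k (pr j).2) hr hc
  simpa [T, Matrix.mul_apply] using this

theorem T_mem {g : M4} (hg : g ∈ Sp4) : T g ∈ Sp4 := by
  rw [SymplecticGroup.mem_iff] at *
  have h1 := congrArg T hg
  have hg' : g ∈ Sp4 := SymplecticGroup.mem_iff.2 hg
  rw [T_mul (Submonoid.mul_mem _ hg' (SymplecticGroup.J_mem _ _)) (SymplecticGroup.transpose_mem hg'),
    T_mul hg' (SymplecticGroup.J_mem _ _), T_transpose, T_J] at h1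
  exact h1

/-- The endomorphism on `Sp₄`. -/
def spT : Sp4 →* Sp4 where
  toFun g := ⟨T (g : M4), T_mem g.2⟩
  map_one' := Subtype.ext T_one
  map_mul' g h := Subtype.ext (T_mul g.2 h.2)

theorem spT_coe (g : Sp4) : ((spT g : Sp4) : M4) = T (g : M4) := rfl

/-- The map on transvections. -/
theorem T_tv (v : V4) (c : F) :
    T (T (sympTransvection 2 v c)) = sympTransvection 2 (fun i => v i ^ 2) (c ^ 2) := by
  have h2 : (2 : F) = 0 := CharTwo.two_eq_zero
  have h4 : (4 : F) = 0 := by linear_combination (2 : F) * h2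
  have h6 : (6 : F) = 0 := by linear_combination (3 : F) * h2
  have h8 : (8 : F) = 0 := by linear_combination (4 : F) * h2
  have h3 : (3 : F) = 1 := by linear_combination h2
  ext i j
  rcases i with i | i <;> rcases j with j | j <;> fin_cases i <;> fin_cases j <;>
    simp [T, pr, sympTransvection, Matrix.vecMulVec_apply, Matrix.one_apply, J_mulVec_inl, J_mulVec_inr,
      CharTwo.neg_eq] <;> ring_nf <;> simp [h2, h3, h4, h6, h8]

/-- A long root element goes to a short root element. -/
theorem T_long (c : F) : T (sympTransvection 2 (Pi.single (Sum.inl (0 : Fin 2)) 1) c) =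
    1 + (Matrix.single (Sum.inl (0 : Fin 2)) (Sum.inr (1 : Fin 2)) c +
      Matrix.single (Sum.inl (1 : Fin 2)) (Sum.inr (0 : Fin 2)) c) := by
  ext i j
  rcases i with i | i <;> rcases j with j | j <;> fin_cases i <;> fin_cases j <;>
    simp [T, pr, sympTransvection, Matrix.vecMulVec_apply, Matrix.one_apply, J_mulVec_inl, J_mulVec_inr,
      CharTwo.neg_eq, Matrix.single_apply, Matrix.J, Matrix.fromBlocks]

variable [Fintype F]

local notation "PS4" => PSp 2 F
local notation "π" => spToPSp 2 F

/-- The Frobenius automorphism. -/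
noncomputable def frob (F : Type*) [Field F] [Fintype F] [CharP F 2] : RingAut F := frobeniusEquiv F 2

theorem frob_apply (x : F) : frob F x = x ^ 2 := frobenius_def 2 x

theorem spT_spT (g : Sp4) : spT (spT g) = spSemi 1 (frob F) g := by
  have h : ∀ g : Sp4, g ∈ Subgroup.closure (sympTvSet 2 F) →
      spT (spT g) = spSemi 1 (frob F) g := by
    intro g hg
    induction hg using Subgroup.closure_induction with
    | mem x hx =>
      obtain ⟨w, c, hA⟩ := hx
      refine Subtype.ext ?_
      rw [spT_coe, spT_coe, hA, T_tv, spSemi_coe, hA]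
      ext i j
      have hd : ∀ r : F, frob F r = r ^ 2 := frob_apply
      rcases i with i | i <;> rcases j with j | j <;> fin_cases i <;> fin_cases j <;>
        simp [sympTransvection, Matrix.vecMulVec_apply, Matrix.one_apply, J_mulVec_inl, J_mulVec_inr,
          CharTwo.neg_eq, Matrix.map_apply, hd] <;> simp [CharTwo.add_sq, mul_pow]
    | one => simp
    | mul a b _ _ iha ihb => rw [map_mul, map_mul, iha, ihb, map_mul]
    | inv a _ iha => rw [map_inv, map_inv, iha, map_inv]
  exact h g (closure_sympTvSet.ge (Subgroup.mem_top g))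

theorem spT_bijective : Function.Bijective (spT (F := F)) := by
  refine (Finite.injective_iff_bijective).1 fun a b hab => ?_
  have h := congrArg spT hab
  rw [spT_spT, spT_spT] at h
  exact (spSemi 1 (frob F)).injective h

theorem pi_injective : Function.Injective π := by
  refine (injective_iff_map_eq_one π).2 fun z hz => ?_
  obtain ⟨l, hl, hz'⟩ := (pi_eq_one_iff two_ne_zero).1 hz
  have : l = 1 := by
    have h1 : (l - 1) * (l - 1) = 0 := by
      linear_combination hl - (CharTwo.two_eq_zero (R := F)) * (l - 1)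
    exact sub_eq_zero.1 (mul_self_eq_zero.1 h1)
  exact Subtype.ext (by rw [hz', this, one_smul]; rfl)

/-- `Sp₄ = PSp₄` in characteristic two. -/
noncomputable def piEquiv : Sp4 ≃* PS4 :=
  MulEquiv.ofBijective π ⟨pi_injective, spToPSp_surjective⟩

/-- The graph automorphism. -/
noncomputable def graph : MulAut PS4 :=
  piEquiv.symm.trans ((MulEquiv.ofBijective (spT (F := F)) spT_bijective).trans piEquiv)

theorem graph_mk (g : Sp4) : graph (π g) = π (spT g) := by
  show π (spT (piEquiv.symm (piEquiv g))) = _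
  rw [MulEquiv.symm_apply_apply]

theorem graph_sq : (graph : MulAut PS4) * graph = pspSemi 1 (frob F) := by
  refine MulEquiv.ext fun x => ?_
  obtain ⟨s, rfl⟩ := spToPSp_surjective x
  rw [MulAut.mul_apply, graph_mk, graph_mk, pspSemi_mk, spT_spT]

end Cfsg.Agent.Classical.PSpAut.Graph
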