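import Cfsg.Agent.Lib.Classical.PSpGraph
import Cfsg.Prelude.Def_KGroupFacts

/-!
The automorphism group of `PSp₄(2^f)`: the outer automorphism group is cyclic of order `2f`, generated
by the graph automorphism.
-/

set_option autoImplicit false
set_option linter.unusedSectionVars false

namespace Cfsg.Agent.Classical.PSpAut.Graph

open Matrix

variable {F : Type*} [Field F] [Fintype F] [CharP F 2]

local notation "I4" => (Fin 2 ⊕ Fin 2)
local notation "V4" => (Fin 2 ⊕ Fin 2 → F)
local notation "M4" => Matrix (Fin 2 ⊕ Fin 2) (Fin 2 ⊕ Fin 2) F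
local notation "Sp4" => Matrix.symplecticGroup (Fin 2) F
local notation "PS4" => PSp 2 F
local notation "π" => spToPSp 2 F
local notation "e₀" => (Pi.single (Sum.inl (0 : Fin 2)) 1 : Fin 2 ⊕ Fin 2 → F)

/-- The elements `1 + c E(a,A) + b (E(a,B) + E(b,A))`. -/
theorem normal_eq (c b : F) :
    (1 : M4) + (Matrix.single (Sum.inl (0 : Fin 2)) (Sum.inr (0 : Fin 2)) c +
      Matrix.single (Sum.inl (0 : Fin 2)) (Sum.inr (1 : Fin 2)) b +
      Matrix.single (Sum.inl (1 : Fin 2)) (Sum.inr (0 : Fin 2)) b) =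
    Matrix.fromBlocks 1 !![c, b; b, 0] 0 1 := by
  ext i j
  rcases i with i | i <;> rcases j with j | j <;> fin_cases i <;> fin_cases j <;>
    simp [Matrix.one_apply, Matrix.single_apply]

set_option maxHeartbeats 1600000 in
theorem not_oddProd_mixed {c b : F} (hc : c ≠ 0) (hb : b ≠ 0) {z : Sp4}
    (hz : (z : M4) = Matrix.fromBlocks 1 !![c, b; b, 0] 0 1) : ¬ OddProd (π z) := by
  have h2 : (2 : F) = 0 := CharTwo.two_eq_zero
  have n3 : (3 : F) = 1 := by linear_combination (1 : F) * h2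
  have n4 : (4 : F) = 0 := by linear_combination (2 : F) * h2
  have n5 : (5 : F) = 1 := by linear_combination (2 : F) * h2
  have n6 : (6 : F) = 0 := by linear_combination (3 : F) * h2
  have n7 : (7 : F) = 1 := by linear_combination (3 : F) * h2
  have n8 : (8 : F) = 0 := by linear_combination (4 : F) * h2
  have n9 : (9 : F) = 1 := by linear_combination (4 : F) * h2
  have n10 : (10 : F) = 0 := by linear_combination (5 : F) * h2
  have n11 : (11 : F) = 1 := by linear_combination (5 : F) * h2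
  have n12 : (12 : F) = 0 := by linear_combination (6 : F) * h2
  have n13 : (13 : F) = 1 := by linear_combination (6 : F) * h2
  have n14 : (14 : F) = 0 := by linear_combination (7 : F) * h2
  have n15 : (15 : F) = 1 := by linear_combination (7 : F) * h2
  have n16 : (16 : F) = 0 := by linear_combination (8 : F) * h2
  set G : M4 := Matrix.fromBlocks !![0, 1; 1, 0] 0 !![0, 0; 1, 0] !![0, 1; 1, 0] with hG
  set Gi : M4 := Matrix.fromBlocks !![0, 1; 1, 0] 0 !![0, 1; 0, 0] !![0, 1; 1, 0] with hGi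
  have hGmem : G ∈ Sp4 := by
    rw [SymplecticGroup.mem_iff]
    ext i j
    rcases i with i | i <;> rcases j with j | j <;> fin_cases i <;> fin_cases j <;>
      simp [hG, Matrix.J, Matrix.fromBlocks_transpose, Matrix.fromBlocks_multiply, CharTwo.neg_eq,
        Matrix.mul_apply, Fin.sum_univ_two, Matrix.one_apply, CharTwo.add_self_eq_zero]
  have hGiG : G * Gi = 1 := by
    ext i j
    rcases i with i | i <;> rcases j with j | j <;> fin_cases i <;> fin_cases j <;>
      simp [hG, hGi, Matrix.fromBlocks_multiply, Matrix.mul_apply, Fin.sum_univ_two, Matrix.one_apply,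
        CharTwo.add_self_eq_zero]
  set g : Sp4 := ⟨G, hGmem⟩
  have hgi : ((g⁻¹ : Sp4) : M4) = Gi := by
    have h : ((g⁻¹ : Sp4) : M4) * (g : M4) = 1 := by rw [← Submonoid.coe_mul, inv_mul_cancel]; rfl
    exact left_inv_eq_right_inv h hGiG
  set d := z * (g * z * g⁻¹) with hddef
  have hd2 : ((d ^ 2 : Sp4) : M4) = Matrix.fromBlocks !![1, b * c; 0, 1]
      !![b * b * c, b * c; b * c, 0] 0 !![1, 0; b * c, 1] := by
    rw [SubmonoidClass.coe_pow, sq, hddef, Submonoid.coe_mul, Submonoid.coe_mul, Submonoid.coe_mul, hgi,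
      hz, show (g : M4) = G from rfl, hG, hGi]
    simp only [Matrix.fromBlocks_multiply]
    ext i j
    rcases i with i | i <;> rcases j with j | j <;> fin_cases i <;> fin_cases j <;>
      simp [Matrix.mul_apply, Fin.sum_univ_two, Matrix.one_apply] <;> ring_nf <;> simp [h2, n3, n4, n5, n6, n7, n8, n9, n10, n11, n12, n13, n14, n15, n16]
  have hne : d ^ 2 ≠ 1 := fun h1 => by
    have h := congrArg (fun x : Sp4 => (x : M4) (Sum.inl 0) (Sum.inl 1)) h1
    simp only [hd2] at h
    simp [hb, hc] at h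
  intro hodd
  have key := hodd (π g)
  rw [← map_inv, ← map_mul, ← map_mul, ← map_mul, ← map_pow] at key
  rcases key with k2 | k2
  · exact hne (pi_injective (k2.trans (map_one π).symm))
  · have h4 : d ^ 4 = 1 := by
      refine Subtype.ext ?_
      rw [show 4 = 2 * 2 from rfl, pow_mul, SubmonoidClass.coe_pow, hd2, sq, Matrix.fromBlocks_multiply]
      ext i j
      rcases i with i | i <;> rcases j with j | j <;> fin_cases i <;> fin_cases j <;>
        simp [Matrix.mul_apply, Fin.sum_univ_two, Matrix.one_apply] <;> ring_nf <;> simp [h2, n3, n4, n5, n6, n7, n8, n9, n10, n11, n12, n13, n14, n15, n16]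
    have hd4 : orderOf (π d) ∣ 4 := orderOf_dvd_of_pow_eq_one (by rw [← map_pow, h4, map_one])
    have : orderOf (π d) = 1 :=
      Nat.eq_one_of_dvd_coprimes (Nat.Coprime.pow_right 2 (Nat.coprime_two_right.2 k2)) dvd_rfl hd4
    exact hne (by rw [pi_injective ((orderOf_eq_one_iff.1 this).trans (map_one π).symm), one_pow])

/-- Every nontrivial transvection is conjugate to a fixed one. -/
theorem presTV_of_mem {β : MulAut PS4} (h : β (π (sympTv e₀ 1)) ∈ transSet 2 F) : PresTV β := by
  rintro _ ⟨v, c, hv, rfl⟩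
  by_cases hc : c = 0
  · exact ⟨v, 0, hv, by rw [hc, sympTv_zero, map_one, map_one]⟩
  obtain ⟨d, hd⟩ := FiniteField.isSquare_of_char_two (ringChar.eq F 2) c
  have hd0 : d ≠ 0 := fun h0 => hc (by rw [hd, h0, mul_zero])
  obtain ⟨A, hA⟩ := symp_pretransitive (v := e₀) (w := d • v) (by simp) (smul_ne_zero hd0 hv)
  have hvc : sympTv v c = A * sympTv e₀ 1 * A⁻¹ := by
    rw [sympTv_conj, hA, sympTv_smul, mul_one, sq, ← hd]
  obtain ⟨w, e, hw, hwe⟩ := h
  obtain ⟨t, ht⟩ := spToPSp_surjective (β (π A))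
  refine ⟨(t : M4) *ᵥ w, e, fun h0 => hw ?_, ?_⟩
  · have := congrArg (((t⁻¹ : Sp4) : M4) *ᵥ ·) h0
    simpa [Matrix.mulVec_mulVec, ← Submonoid.coe_mul] using this
  · rw [← sympTv_conj, map_mul, map_mul, map_inv, hvc, map_mul, map_mul, map_mul, map_mul, map_inv,
      map_inv, hwe, ht]

theorem spT_long (c : F) : ((spT (sympTv e₀ c) : Sp4) : M4) = Matrix.fromBlocks 1 !![0, c; c, 0] 0 1 := by
  rw [spT_coe, show ((sympTv e₀ c : Sp4) : M4) = sympTransvection 2 e₀ c from rfl, T_long, ← normal_eq]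
  simp

theorem not_presTV_graph : ¬ PresTV (graph : MulAut PS4) := by
  intro h
  obtain ⟨v, d, -, hvd⟩ := h _ ⟨e₀, 1, by simp, rfl⟩
  rw [graph_mk] at hvd
  have e := congrArg Subtype.val (pi_injective hvd)
  rw [spT_long, show ((sympTv v d : Sp4) : M4) = sympTransvection 2 v d from rfl] at e
  have h1 := congrFun (congrFun e (Sum.inl 0)) (Sum.inr 0)
  have h2 := congrFun (congrFun e (Sum.inl 0)) (Sum.inr 1)
  simp [sympTransvection, Matrix.vecMulVec_apply, J_mulVec_inr] at h1 h2
  rcases h1 with h1 | h1 <;> simp [h1] at h2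

theorem presTV_or (β : MulAut PS4) : PresTV β ∨ PresTV (graph * β) := by
  haveI : Fact (2 : ℕ).Prime := ⟨Nat.prime_two⟩
  obtain ⟨g, z, a, c, b, ha, -, hzeq, hz⟩ :=
    exists_normal_form (p := 2) le_rfl β (v := e₀) (by simp) 1
  have ha1 : a = 1 := by
    have h1 : (a - 1) * (a - 1) = 0 := by
      linear_combination ha - (CharTwo.two_eq_zero (R := F)) * (a - 1)
    exact sub_eq_zero.1 (mul_self_eq_zero.1 h1)
  rw [ha1, one_smul, Fin.mk_zero, Fin.mk_one, normal_eq] at hzeq
  have hβ : β (π (sympTv e₀ 1)) = g * π z * g⁻¹ := by rw [hz]; group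
  obtain ⟨t, rfl⟩ := spToPSp_surjective g
  by_cases hb : b = 0
  · left
    refine presTV_of_mem ⟨(t : M4) *ᵥ e₀, c, fun h0 => ?_, ?_⟩
    · have := congrArg (((t⁻¹ : Sp4) : M4) *ᵥ ·) h0
      simp only [Matrix.mulVec_mulVec, ← Submonoid.coe_mul, inv_mul_cancel, Matrix.mulVec_zero] at this
      simpa using congrFun ((Matrix.one_mulVec e₀).symm.trans this) (Sum.inl 0)
    · rw [hβ, ← sympTv_conj, map_mul, map_mul, map_inv]
      congr 3
      refine Subtype.ext ?_
      rw [hzeq, hb, show ((sympTv e₀ c : Sp4) : M4) = sympTransvection 2 e₀ c from rfl]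
      ext i j
      rcases i with i | i <;> rcases j with j | j <;> fin_cases i <;> fin_cases j <;>
        simp [sympTransvection, Matrix.vecMulVec_apply, J_mulVec_inl, J_mulVec_inr, Matrix.one_apply,
          CharTwo.neg_eq, Matrix.J, Matrix.fromBlocks]
  by_cases hc : c = 0
  · right
    refine presTV_of_mem ?_
    rw [MulAut.mul_apply, hβ, show z = spT (sympTv e₀ b) from Subtype.ext (by rw [spT_long, hzeq, hc]),
      map_mul, map_mul, map_inv, graph_mk, graph_mk, spT_spT]
    have h1 : π (spSemi 1 (frob F) (sympTv e₀ b)) ∈ transSet 2 F := by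
      rw [← pspSemi_mk]
      exact presTV_semi 1 (frob F) _ ⟨e₀, b, by simp, rfl⟩
    obtain ⟨w, d, hw, hwd⟩ := h1
    refine ⟨((spT t : Sp4) : M4) *ᵥ w, d, fun h0 => hw ?_, ?_⟩
    · have := congrArg ((((spT t)⁻¹ : Sp4) : M4) *ᵥ ·) h0
      simpa [Matrix.mulVec_mulVec, ← Submonoid.coe_mul] using this
    · rw [hwd, ← sympTv_conj, map_mul, map_mul, map_inv π]
  · exfalso
    refine not_oddProd_mixed hc hb hzeq ?_
    rw [hz]
    have h := ((oddProd_tv e₀ (1 : F)).map β.toMonoidHom β.surjective).map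
      (MulAut.conj (π t)⁻¹).toMonoidHom (MulAut.conj (π t)⁻¹).surjective
    simpa [mul_assoc] using h

/-- Field automorphisms of `PSp₄`. -/
noncomputable def fieldHom (F : Type*) [Field F] [Fintype F] : RingAut F →* MulAut (PSp 2 F) where
  toFun σ := pspSemi 1 σ
  map_one' := pspSemi_one
  map_mul' σ τ := by rw [pspSemi_mul', map_one, mul_one]

theorem inn_le_presTV {β : MulAut PS4} (h : β ∈ Inn PS4) : PresTV β := by
  obtain ⟨x, rfl⟩ := h
  obtain ⟨s, rfl⟩ := spToPSp_surjective x
  rw [conj_eq_pspSemi]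
  exact presTV_semi _ _

theorem frob_generates {f : ℕ} (hF : Fintype.card F = 2 ^ f) :
    orderOf (frob F) = f ∧ ∀ σ : RingAut F, σ ∈ Subgroup.zpowers (frob F) := by
  haveI : Fact (2 : ℕ).Prime := ⟨Nat.prime_two⟩
  obtain ⟨-, hc⟩ := PSLAut.card_ringAut (F := F) (p := 2) (f := f) hF
  classical
  haveI : Finite (RingAut F) := Finite.of_injective (fun τ => (τ : F → F)) DFunLike.coe_injective
  have hpow : ∀ (k : ℕ) (x : F), (frob F ^ k) x = x ^ 2 ^ k := by
    intro k
    induction k with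
    | zero => intro x; simp
    | succ k ih => intro x; rw [pow_succ, RingAut.mul_apply, ih, frob_apply, ← pow_mul, pow_succ']
  have hf : f ≠ 0 := by
    rintro rfl
    have := Fintype.one_lt_card (α := F)
    simp [hF] at this
  have hord : orderOf (frob F) = f := by
    refine Nat.dvd_antisymm (hc ▸ orderOf_dvd_natCard _) ?_
    by_contra hnd
    have hlt : orderOf (frob F) < f := by
      refine lt_of_le_of_ne (Nat.le_of_dvd (Nat.pos_of_ne_zero hf) (hc ▸ orderOf_dvd_natCard _)) ?_
      intro he; exact hnd (dvd_of_eq he.symm)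
    obtain ⟨u, hu⟩ := IsCyclic.exists_generator (α := Fˣ)
    have ho : orderOf u = 2 ^ f - 1 := by
      rw [orderOf_eq_card_of_forall_mem_zpowers hu, Nat.card_eq_fintype_card, Fintype.card_units, hF]
    have h1 : u ^ 2 ^ orderOf (frob F) = u := Units.ext (by
      rw [Units.val_pow_eq_pow_val, ← hpow, pow_orderOf_eq_one]; rfl)
    have h2 : u ^ (2 ^ orderOf (frob F) - 1) = 1 := by
      have := Nat.one_le_two_pow (n := orderOf (frob F))
      rw [← mul_left_inj u, ← pow_succ, Nat.sub_add_cancel this, h1, one_mul]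
    have h3 := orderOf_dvd_of_pow_eq_one h2
    rw [ho] at h3
    have hpos := orderOf_pos (frob F)
    have h4 : 2 ^ orderOf (frob F) < 2 ^ f := Nat.pow_lt_pow_right (by norm_num) hlt
    have h5 : 2 ≤ 2 ^ orderOf (frob F) := Nat.le_self_pow hpos.ne' 2
    have := Nat.le_of_dvd (by omega) h3
    omega
  refine ⟨hord, fun σ => ?_⟩
  have : Subgroup.zpowers (frob F) = ⊤ :=
    Subgroup.eq_top_of_card_eq _ (by rw [Nat.card_zpowers, hord, hc])
  rw [this]; trivial

/-- `Out(PSp₄(2^f))` is cyclic of order `2f`. -/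
theorem out_structure {f : ℕ} (hF : Fintype.card F = 2 ^ f) :
    IsCyclic (Out PS4) ∧ Nat.card (Out PS4) = 2 * f := by
  haveI : Fact (2 : ℕ).Prime := ⟨Nat.prime_two⟩
  obtain ⟨hord, hgen⟩ := frob_generates (F := F) hF
  haveI : Finite (RingAut F) := Finite.of_injective (fun τ => (τ : F → F)) DFunLike.coe_injective
  set x : Out PS4 := QuotientGroup.mk (graph : MulAut PS4) with hx
  have hsq : ∀ k : ℕ, (graph : MulAut PS4) ^ (2 * k) = fieldHom F (frob F ^ k) := fun k => by
    rw [pow_mul, pow_two, graph_sq, map_pow]; rfl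
  have hsemi : ∀ β : MulAut PS4, PresTV β → (QuotientGroup.mk β : Out PS4) ∈ Subgroup.zpowers x := by
    intro β hβ
    obtain ⟨g, σ, rfl⟩ := exists_param_of_presTV le_rfl hβ
    obtain ⟨k, hk⟩ : ∃ k : ℕ, frob F ^ k = σ :=
      (mem_powers_iff_mem_zpowers (x := frob F) (y := σ)).2 (hgen σ)
    refine Subgroup.mem_zpowers_iff.2 ⟨((2 * k : ℕ) : ℤ), ?_⟩
    rw [zpow_natCast, hx, ← QuotientGroup.mk_pow, hsq, hk, QuotientGroup.eq]
    have hg : inndiagHom 2 F g ∈ Inn PS4 :=
      inndiag_le_inn (p := 2) one_le_two rfl (mem_inndiag_iff.2 ⟨g, rfl⟩)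
    rw [show pspSemi g σ = inndiagHom 2 F g * fieldHom F σ by
      show _ = pspSemi g _ * pspSemi 1 σ
      rw [pspSemi_refl_mul, mul_one], ← mul_assoc]
    simpa using Subgroup.Normal.conj_mem (inferInstance : (Inn PS4).Normal) _ hg (fieldHom F σ)⁻¹
  have htop : Subgroup.zpowers x = ⊤ := by
    refine eq_top_iff.2 fun y _ => ?_
    obtain ⟨β, rfl⟩ := QuotientGroup.mk_surjective y
    rcases presTV_or β with h | h
    · exact hsemi β h
    · have h1 := hsemi _ h
      rw [QuotientGroup.mk_mul, Subgroup.mul_mem_cancel_left _ (Subgroup.mem_zpowers x)] at h1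
      exact h1
  haveI hcyc : IsCyclic (Out PS4) := isCyclic_iff_exists_zpowers_eq_top.2 ⟨x, htop⟩
  refine ⟨hcyc, ?_⟩
  rw [← Nat.card_congr (Subgroup.topEquiv (G := Out PS4)).toEquiv, ← htop, Nat.card_zpowers]
  refine (orderOf_eq_iff_pow (x := x) fun n => ?_)
  constructor
  · intro hn
    rw [hx, ← QuotientGroup.mk_pow, QuotientGroup.eq_one_iff] at hn
    obtain ⟨k, hk | hk⟩ := Nat.even_or_odd' n
    · rw [hk, hsq] at hn
      obtain ⟨s, hs⟩ := hn
      obtain ⟨s, rfl⟩ := spToPSp_surjective s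
      rw [conj_eq_pspSemi] at hs
      have := ((semi_inj one_le_two).1 hs).1
      rw [hk]
      exact Nat.mul_dvd_mul_left 2 (hord ▸ orderOf_dvd_of_pow_eq_one this.symm)
    · exfalso
      rw [hk, pow_succ, hsq] at hn
      have h1 := (presTV_semi 1 (frob F ^ k)).inv.mul (inn_le_presTV hn)
      exact not_presTV_graph (by simpa [fieldHom] using h1)
  · rintro ⟨k, rfl⟩
    rw [hx, ← QuotientGroup.mk_pow, mul_assoc, hsq, pow_mul, ← hord, pow_orderOf_eq_one, one_pow,
      map_one, QuotientGroup.mk_one]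
where
  orderOf_eq_iff_pow {H : Type _} [Monoid H] {x : H} {n : ℕ} (h : ∀ k, x ^ k = 1 ↔ n ∣ k) :
      orderOf x = n :=
    Nat.dvd_antisymm (orderOf_dvd_of_pow_eq_one ((h n).2 dvd_rfl)) ((h _).1 (pow_orderOf_eq_one x))

end Cfsg.Agent.Classical.PSpAut.Graph
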