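import Cfsg.Agent.Lib.Classical.PSpSemilinear
import Cfsg.Agent.Lib.Classical.SympSimple

/-!
Long root groups of `PSp_{2m}(F)`: transvection groups, orthogonality and commuting.
-/

set_option autoImplicit false
set_option linter.unusedSectionVars false

namespace Cfsg.Agent.Classical.PSpAut

open Matrix Cfsg.Agent.Classical.Descent

variable {F : Type*} [Field F] {m : ℕ}

local notation "V" => (Fin m ⊕ Fin m → F)
local notation "Sp" => Matrix.symplecticGroup (Fin m) F
local notation "PS" => PSp m F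
local notation "MI" => Matrix (Fin m ⊕ Fin m) (Fin m ⊕ Fin m) F
local notation "π" => spToPSp m F

theorem nonempty_of_ne_zero {v : V} (hv : v ≠ 0) : Nonempty (Fin m ⊕ Fin m) :=
  (Function.ne_iff.1 hv).nonempty

theorem eq_of_smul_unipotent {ι : Type*} [Fintype ι] [DecidableEq ι] [Nonempty ι] {A B : Matrix ι ι F}
    {l : F} (h : 1 + B = l • (1 + A)) (hA : A * A = 0) (hB : B * B = 0) : A = B := by
  have hB' : B = (l - 1) • (1 : Matrix ι ι F) + l • A := by
    rw [eq_sub_of_add_eq' h, smul_add, sub_smul, one_smul]; abel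
  by_cases hl : l = 1
  · subst hl
    rw [hB', sub_self, zero_smul, zero_add, one_smul]
  exfalso
  have h2 : ((l - 1) * (l - 1)) • (1 : Matrix ι ι F) + (2 * l * (l - 1)) • A = 0 := by
    rw [← hB, hB']
    simp only [add_mul, mul_add, Matrix.smul_mul, Matrix.mul_smul, one_mul, mul_one, hA, smul_smul,
      smul_zero, add_zero, add_assoc, ← add_smul]
    congr 2; ring
  have h3 : ((l - 1) * (l - 1)) • A = 0 := by
    have := congrArg (fun X => X * A) h2
    simpa [add_mul, Matrix.smul_mul, hA] using this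
  have hne : (l - 1) * (l - 1) ≠ 0 := mul_ne_zero (sub_ne_zero.2 hl) (sub_ne_zero.2 hl)
  rw [smul_eq_zero_iff_right hne] at h3
  subst h3
  rw [smul_zero, add_zero, smul_eq_zero_iff_right hne] at h2
  have := congrFun (congrFun h2 (Classical.arbitrary ι)) (Classical.arbitrary ι)
  simp at this

theorem pi_eq_one_iff {s : Sp} (hm : m ≠ 0) :
    π s = 1 ↔ ∃ l : F, l ^ 2 = 1 ∧ (s : MI) = l • 1 := by
  constructor
  · intro h
    have hc : s ∈ Subgroup.center Sp := (QuotientGroup.eq_one_iff _).1 h
    obtain ⟨l, hl, hA⟩ := eq_scalar_of_commute_sympTv s fun v => (Subgroup.mem_center_iff.1 hc _).symm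
    exact ⟨l, hl, hA hm⟩
  · rintro ⟨l, -, hl⟩
    exact (QuotientGroup.eq_one_iff _).2 (Subgroup.mem_center_iff.2 fun g => Subtype.ext (by simp [hl]))

/-- Elements `1 + A`, `A² = 0`, are determined by their class. -/
theorem eq_of_pi_eq (hm : m ≠ 0) {s t : Sp} {A B : MI} (hs : (s : MI) = 1 + A) (ht : (t : MI) = 1 + B)
    (hA : A * A = 0) (hB : B * B = 0) (h : π s = π t) : s = t := by
  haveI : Nonempty (Fin m ⊕ Fin m) := ⟨Sum.inl ⟨0, Nat.pos_of_ne_zero hm⟩⟩
  obtain ⟨l, -, hl⟩ := (pi_eq_one_iff hm).1 (show π (s⁻¹ * t) = 1 by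
    rw [map_mul, map_inv, h, inv_mul_cancel])
  have ht' : (t : MI) = (s : MI) * ((s⁻¹ * t : Sp) : MI) := by
    rw [← Submonoid.coe_mul, mul_inv_cancel_left]
  rw [hl, Matrix.mul_smul, Matrix.mul_one, ht, hs] at ht'
  exact Subtype.ext (by rw [hs, ht, eq_of_smul_unipotent ht' hA hB])

theorem tv_sub_one_sq (v : V) (c : F) :
    (sympTransvection m v c - 1) * (sympTransvection m v c - 1) = 0 := by
  have h := sympTransvection_mul v c c
  have h2 : sympTransvection m v (c + c) =
      sympTransvection m v c + sympTransvection m v c - 1 := by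
    simp only [sympTransvection, add_smul]; abel
  simp only [sub_mul, mul_sub, one_mul, mul_one, h, h2]
  abel

/-- A transvection is determined by its class. -/
theorem sympTv_eq_of_pi_eq {v w : V} {c d : F} (hv : v ≠ 0) (h : π (sympTv v c) = π (sympTv w d)) :
    sympTv v c = sympTv w d := by
  have hm : m ≠ 0 := by
    rintro rfl
    exact hv (funext fun i => i.elim Fin.elim0 Fin.elim0)
  refine eq_of_pi_eq hm (A := sympTransvection m v c - 1) (B := sympTransvection m w d - 1) ?_ ?_
    (tv_sub_one_sq v c) (tv_sub_one_sq w d) h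
  · show sympTransvection m v c = _
    abel
  · show sympTransvection m w d = _
    abel

theorem sympTv_apply (v : V) (c : F) (x : V) :
    ((sympTv v c : Sp) : MI) *ᵥ x = x + (c * sympForm m F x v) • v := sympTransvection_mulVec v c x

theorem exists_smul_of_tv_eq {v w : V} {c d : F} (hv : v ≠ 0) (hc : c ≠ 0)
    (h : sympTv v c = sympTv w d) : ∃ a : F, v = a • w := by
  obtain ⟨x, hx⟩ := exists_sympForm_eq_one hv
  have he := congrArg (fun s : Sp => (s : MI) *ᵥ x) h
  simp only [sympTv_apply, add_right_inj] at he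
  rw [sympForm_swap x v, hx] at he
  refine ⟨(c * -1)⁻¹ * (d * sympForm m F x w), ?_⟩
  rw [← smul_smul, ← he, smul_smul, inv_mul_cancel₀ (by simpa using hc), one_smul]

theorem sympTv_coeff_inj {v : V} {c d : F} (hv : v ≠ 0) (h : sympTv v c = sympTv v d) : c = d := by
  obtain ⟨x, hx⟩ := exists_sympForm_eq_one hv
  have he := congrArg (fun s : Sp => (s : MI) *ᵥ x) h
  simp only [sympTv_apply, add_right_inj, sympForm_swap x v, hx] at he
  have := smul_left_injective F hv he
  simpa using this

/-- The root group of a vector. -/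
def rootV (v : V) : Set PS := Set.range fun c => π (sympTv v c)

theorem mem_rootV (v : V) (c : F) : π (sympTv v c) ∈ rootV v := ⟨c, rfl⟩

theorem sympTv_smul (v : V) (a c : F) : sympTv (a • v) c = sympTv v (a ^ 2 * c) :=
  Subtype.ext (sympTransvection_smul v a c)

theorem rootV_smul (v : V) {a : F} (ha : a ≠ 0) : rootV (a • v) = rootV v := by
  ext x
  constructor
  · rintro ⟨c, rfl⟩; exact ⟨a ^ 2 * c, by simp only [sympTv_smul]⟩
  · rintro ⟨c, rfl⟩
    exact ⟨c / a ^ 2, by simp only [sympTv_smul, mul_div_cancel₀ c (pow_ne_zero 2 ha)]⟩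

/-- The set of classes of transvections, with the identity. -/
def transSet (m : ℕ) (F : Type*) [Field F] : Set (PSp m F) :=
  {x | ∃ (v : Fin m ⊕ Fin m → F) (c : F), v ≠ 0 ∧ x = spToPSp m F (sympTv v c)}

theorem rootV_tv_ne_one {v : V} (hv : v ≠ 0) {c : F} (hc : c ≠ 0) : π (sympTv v c) ≠ 1 := by
  intro h
  rw [← map_one π, ← sympTv_zero v] at h
  exact hc (sympTv_coeff_inj hv (sympTv_eq_of_pi_eq hv h))

theorem comm_of_orth {v w : V} (h : sympForm m F v w = 0) (c d : F) :
    Commute (sympTv v c) (sympTv w d) := by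
  have h' : sympForm m F w v = 0 := by rw [sympForm_swap, h, neg_zero]
  have := sympTv_conj (sympTv v c) w d
  rw [show ((sympTv v c : Sp) : MI) *ᵥ w = w by rw [sympTv_apply, h', mul_zero, zero_smul, add_zero]]
    at this
  exact mul_inv_eq_iff_eq_mul.1 this

theorem orth_of_comm {v w : V} (hv : v ≠ 0) (hw : w ≠ 0) {c d : F} (hc : c ≠ 0) (hd : d ≠ 0)
    (h : Commute (π (sympTv v c)) (π (sympTv w d))) : sympForm m F v w = 0 := by
  have e : π (sympTv v c * sympTv w d * (sympTv v c)⁻¹) = π (sympTv w d) := by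
    rw [map_mul, map_mul, map_inv, h.eq, mul_inv_cancel_right]
  rw [sympTv_conj] at e
  set w' := ((sympTv v c : Sp) : MI) *ᵥ w with hw'
  have e2 : sympTv w d = sympTv w' d := sympTv_eq_of_pi_eq hw e.symm
  obtain ⟨a, ha⟩ := exists_smul_of_tv_eq hw hd e2
  rw [hw', sympTv_apply] at ha
  by_contra hne
  have hne' : sympForm m F w v ≠ 0 := by rw [sympForm_swap]; simpa using hne
  have h1 := congrArg (fun x => sympForm m F x v) ha
  simp only [sympForm_smul_left, sympForm_add_left, sympForm_self, mul_zero, add_zero] at h1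
  have ha1 : a = 1 := mul_right_cancel₀ hne' (by rw [one_mul, ← h1])
  rw [ha1, one_smul, left_eq_add, smul_eq_zero] at ha
  rcases ha with ha | ha
  · exact mul_ne_zero hc hne' ha
  · exact hv ha

/-- Orthogonal transvections whose product is a transvection have proportional centres. -/
theorem par_of_prod {v w : V} (hv : v ≠ 0) (hw : w ≠ 0) {c d : F} (hc : c ≠ 0) (hd : d ≠ 0)
    (hvw : sympForm m F v w = 0) (h : π (sympTv v c) * π (sympTv w d) ∈ transSet m F) :
    ∃ a : F, v = a • w := by
  obtain ⟨u, e, hu, he⟩ := h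
  rw [← map_mul] at he
  have hwv : sympForm m F w v = 0 := by rw [sympForm_swap, hvw, neg_zero]
  have hm : m ≠ 0 := by
    rintro rfl
    exact hv (funext fun i => i.elim Fin.elim0 Fin.elim0)
  set A := (sympTransvection m v c - 1) + (sympTransvection m w d - 1) with hA
  have hxy : (sympTransvection m v c - 1) * (sympTransvection m w d - 1) = 0 := by
    refine Matrix.ext_iff_mulVec.2 fun x => ?_
    simp only [← Matrix.mulVec_mulVec, Matrix.sub_mulVec, Matrix.one_mulVec, Matrix.zero_mulVec,
      sympTransvection_mulVec, add_sub_cancel_left, sympForm_smul_left, hwv, mul_zero, zero_smul]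
  have hyx : (sympTransvection m w d - 1) * (sympTransvection m v c - 1) = 0 := by
    refine Matrix.ext_iff_mulVec.2 fun x => ?_
    simp only [← Matrix.mulVec_mulVec, Matrix.sub_mulVec, Matrix.one_mulVec, Matrix.zero_mulVec,
      sympTransvection_mulVec, add_sub_cancel_left, sympForm_smul_left, hvw, mul_zero, zero_smul]
  have hs : ((sympTv v c * sympTv w d : Sp) : MI) = 1 + A := by
    show sympTransvection m v c * sympTransvection m w d = _
    simp only [sub_mul, mul_sub, mul_one, one_mul] at hxy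
    rw [hA]
    linear_combination (norm := abel) hxy
  have hprod := eq_of_pi_eq hm (t := sympTv u e) hs (B := sympTransvection m u e - 1)
    (by show sympTransvection m u e = _; abel)
    (by rw [hA]; simp only [add_mul, mul_add, hxy, hyx, tv_sub_one_sq, add_zero])
    (tv_sub_one_sq u e) he
  have key : ∀ x, (c * sympForm m F x v) • v + (d * sympForm m F x w) • w =
      (e * sympForm m F x u) • u := by
    intro x
    have := congrArg (fun s : Sp => (s : MI) *ᵥ x) hprod
    simp only [Submonoid.coe_mul, ← Matrix.mulVec_mulVec, sympTv_apply, sympForm_add_left,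
      sympForm_smul_left, hwv, mul_zero, add_zero] at this
    linear_combination (norm := module) this
  by_contra hcon
  push Not at hcon
  have sep : ∀ a b : V, (∀ t : F, a ≠ t • b) → b ≠ 0 →
      ∃ x, sympForm m F x a = 1 ∧ sympForm m F x b = 0 := by
    intro a b hab hb
    by_contra hno
    push Not at hno
    obtain ⟨y, hy⟩ := exists_sympForm_eq_one hb
    have hy' : sympForm m F (-y) b = 1 := by
      rw [← neg_one_smul F y, sympForm_smul_left, sympForm_swap y b, hy]; ring
    refine hab (sympForm m F (-y) a) (sub_eq_zero.1 (eq_zero_of_sympForm_eq_zero fun x => ?_))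
    rw [sympForm_swap, neg_eq_zero]
    set z := x - sympForm m F x b • (-y)
    have hzb : sympForm m F z b = 0 := by
      rw [show z = x - sympForm m F x b • (-y) from rfl, sympForm_sub_left, sympForm_smul_left, hy',
        mul_one, sub_self]
    have hza : sympForm m F z a = 0 := by
      by_contra hza
      exact hno ((sympForm m F z a)⁻¹ • z) (by rw [sympForm_smul_left, inv_mul_cancel₀ hza])
        (by rw [sympForm_smul_left, hzb, mul_zero])
    simp only [z, sympForm_sub_left, sympForm_smul_left] at hza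
    rw [sympForm_sub_right, sympForm_smul_right]
    linear_combination hza
  have hcon' : ∀ t : F, w ≠ t • v := fun t ht => by
    rcases eq_or_ne t 0 with rfl | ht0
    · exact hw (by rw [ht, zero_smul])
    · exact hcon t⁻¹ (by rw [ht, smul_smul, inv_mul_cancel₀ ht0, one_smul])
  obtain ⟨x, hxv, hxw⟩ := sep v w hcon hw
  obtain ⟨y, hyw, hyv⟩ := sep w v hcon' hv
  have k1 := key x
  have k2 := key y
  rw [hxv, hxw, mul_one, mul_zero, zero_smul, add_zero] at k1
  rw [hyw, hyv, mul_one, mul_zero, zero_smul, zero_add] at k2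
  set a1 := e * sympForm m F x u
  set a2 := e * sympForm m F y u
  have ha2 : a2 ≠ 0 := fun h0 => by
    rw [h0, zero_smul, smul_eq_zero] at k2
    exact k2.elim hd hw
  refine hcon (c⁻¹ * a1 * a2⁻¹ * d) ?_
  rw [← smul_smul, k2, smul_smul, inv_mul_cancel_right₀ ha2, ← smul_smul, ← k1, smul_smul,
    inv_mul_cancel₀ hc, one_smul]

theorem image_rootV (g : GSp m F) (σ : F ≃+* F) (v : V) :
    ∃ μ : Fˣ, (∀ c, pspSemi g σ (π (sympTv v c)) =
        π (sympTv (((g : GL (Fin m ⊕ Fin m) F) : MI) *ᵥ (σ ∘ v)) (σ c / μ))) ∧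
      ∀ x y, sympForm m F (((g : GL (Fin m ⊕ Fin m) F) : MI) *ᵥ x)
        (((g : GL (Fin m ⊕ Fin m) F) : MI) *ᵥ y) = μ * sympForm m F x y := by
  obtain ⟨μ, hμ⟩ := mem_GSp.1 g.2
  refine ⟨μ, fun c => ?_, hμ⟩
  rw [pspSemi_mk]
  refine congrArg _ (Subtype.ext (Matrix.ext_iff_mulVec.2 fun x => ?_))
  rw [spSemi_coe, ← Matrix.mulVec_mulVec, ← Matrix.mulVec_mulVec, sympTv_apply]
  set y := (((g : GL (Fin m ⊕ Fin m) F)⁻¹ : GL (Fin m ⊕ Fin m) F) : MI) *ᵥ x
  have hx : x = ((g : GL (Fin m ⊕ Fin m) F) : MI) *ᵥ y := by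
    rw [Matrix.mulVec_mulVec, Units.mul_inv, Matrix.one_mulVec]
  obtain ⟨y', hy'⟩ : ∃ y', y = σ ∘ y' := ⟨σ.symm ∘ y, funext fun i => by simp⟩
  have hmap : ((sympTv v c : Sp) : MI).map σ *ᵥ y = y + (σ c * sympForm m F y (σ ∘ v)) • (σ ∘ v) := by
    rw [hy', map_mulVec_comp, sympTv_apply, sympForm_comp]
    funext i; simp
  rw [hmap, Matrix.mulVec_add, Matrix.mulVec_smul, ← hx]
  congr 2
  rw [hx, hμ]
  field_simp

end Cfsg.Agent.Classical.PSpAut
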