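import Cfsg.Agent.Lib.Classical.Symp
import Cfsg.Agent.Lib.Classical.SympOrders
import Cfsg.Agent.Lib.Classical.GaloisDescent
import Cfsg.Prelude.Def_LieTypeDatum

/-!
Semilinear automorphisms of `PSp_{2m}(F)`: conjugation by a symplectic similitude after a field
automorphism.
-/

set_option autoImplicit false
set_option linter.unusedSectionVars false

namespace Cfsg.Agent.Classical.PSpAut

open Matrix Cfsg.Agent.Classical.Descent

variable {F : Type*} [Field F] {m : ℕ}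

local notation "I" => (Fin m ⊕ Fin m)
local notation "V" => (Fin m ⊕ Fin m → F)
local notation "Sp" => Matrix.symplecticGroup (Fin m) F
local notation "PS" => PSp m F
local notation "MI" => Matrix (Fin m ⊕ Fin m) (Fin m ⊕ Fin m) F
local notation "GI" => GL (Fin m ⊕ Fin m) F

theorem mem_GSp {g : GI} :
    g ∈ GSp m F ↔ ∃ c : Fˣ, ∀ u v, sympForm m F ((g : MI) *ᵥ u) ((g : MI) *ᵥ v) = c * sympForm m F u v :=
  Iff.rfl

theorem sympForm_comp (σ : F ≃+* F) (u v : V) :
    sympForm m F (σ ∘ u) (σ ∘ v) = σ (sympForm m F u v) := by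
  simp [sympForm_eq_sum, map_sum]

theorem map_mulVec_comp (σ : F ≃+* F) (A : MI) (u : V) :
    A.map σ *ᵥ (σ ∘ u) = σ ∘ (A *ᵥ u) := by
  funext i
  simp [Matrix.mulVec, dotProduct, map_sum]

theorem map_mem (σ : F ≃+* F) {A : MI} (hA : A ∈ Matrix.symplecticGroup (Fin m) F) :
    A.map σ ∈ Matrix.symplecticGroup (Fin m) F := by
  rw [mem_symplecticGroup_iff_form] at hA ⊢
  intro u v
  obtain ⟨u, rfl⟩ : ∃ u', u = σ ∘ u' := ⟨σ.symm ∘ u, funext fun i => by simp⟩
  obtain ⟨v, rfl⟩ : ∃ v', v = σ ∘ v' := ⟨σ.symm ∘ v, funext fun i => by simp⟩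
  rw [map_mulVec_comp, map_mulVec_comp, sympForm_comp, hA, sympForm_comp]

theorem conj_mem {g : GI} (hg : g ∈ GSp m F) {A : MI} (hA : A ∈ Matrix.symplecticGroup (Fin m) F) :
    (g : MI) * A * ((g⁻¹ : GI) : MI) ∈ Matrix.symplecticGroup (Fin m) F := by
  rw [mem_symplecticGroup_iff_form] at hA ⊢
  obtain ⟨c, hc⟩ := mem_GSp.1 hg
  intro u v
  rw [← Matrix.mulVec_mulVec, ← Matrix.mulVec_mulVec, ← Matrix.mulVec_mulVec, ← Matrix.mulVec_mulVec,
    hc, hA, ← hc, Matrix.mulVec_mulVec, Matrix.mulVec_mulVec, Units.mul_inv, Matrix.one_mulVec,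
    Matrix.one_mulVec]

theorem gmap_mem_GSp (σ : F ≃+* F) {g : GI} (hg : g ∈ GSp m F) : gmap σ g ∈ GSp m F := by
  obtain ⟨c, hc⟩ := mem_GSp.1 hg
  refine mem_GSp.2 ⟨Units.map σ.toMonoidHom c, fun u v => ?_⟩
  obtain ⟨u, rfl⟩ : ∃ u', u = σ ∘ u' := ⟨σ.symm ∘ u, funext fun i => by simp⟩
  obtain ⟨v, rfl⟩ : ∃ v', v = σ ∘ v' := ⟨σ.symm ∘ v, funext fun i => by simp⟩
  show sympForm m F ((g : MI).map σ *ᵥ _) ((g : MI).map σ *ᵥ _) = _
  rw [map_mulVec_comp, map_mulVec_comp, sympForm_comp, hc, sympForm_comp, map_mul]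
  rfl

/-- Conjugation by a similitude after a field automorphism, on `Sp`. -/
def spSemi (g : GSp m F) (σ : F ≃+* F) : Sp ≃* Sp where
  toFun s := ⟨((g : GI) : MI) * (s : MI).map σ * (((g : GI)⁻¹ : GI) : MI),
    conj_mem g.2 (map_mem σ s.2)⟩
  invFun s := ⟨((((g : GI)⁻¹ : GI) : MI) * (s : MI) * ((g : GI) : MI)).map σ.symm, map_mem σ.symm (by
    simpa using conj_mem (inv_mem g.2) s.2)⟩
  left_inv s := by
    refine Subtype.ext ?_
    show ((((g : GI)⁻¹ : GI) : MI) * (((g : GI) : MI) * (s : MI).map σ * (((g : GI)⁻¹ : GI) : MI))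
      * ((g : GI) : MI)).map σ.symm = _
    simp only [Matrix.mul_assoc, Units.inv_mul, Matrix.mul_one]
    rw [← Matrix.mul_assoc, Units.inv_mul, Matrix.one_mul, Matrix.map_map]
    ext i j; simp
  right_inv s := by
    refine Subtype.ext ?_
    show ((g : GI) : MI) * (((((g : GI)⁻¹ : GI) : MI) * (s : MI) * ((g : GI) : MI)).map σ.symm).map σ *
      (((g : GI)⁻¹ : GI) : MI) = _
    rw [Matrix.map_map, show (σ ∘ σ.symm : F → F) = id from funext fun x => σ.apply_symm_apply x,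
      Matrix.map_id]
    simp only [Matrix.mul_assoc, Units.mul_inv, Matrix.mul_one]
    rw [← Matrix.mul_assoc, Units.mul_inv, Matrix.one_mul]
  map_mul' s t := by
    refine Subtype.ext ?_
    show ((g : GI) : MI) * ((s : MI) * (t : MI)).map σ * (((g : GI)⁻¹ : GI) : MI) =
      (((g : GI) : MI) * (s : MI).map σ * (((g : GI)⁻¹ : GI) : MI)) *
        (((g : GI) : MI) * (t : MI).map σ * (((g : GI)⁻¹ : GI) : MI))
    rw [Matrix.map_mul]
    simp only [Matrix.mul_assoc]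
    rw [← Matrix.mul_assoc (((g : GI)⁻¹ : GI) : MI), Units.inv_mul, Matrix.one_mul]

theorem spSemi_coe (g : GSp m F) (σ : F ≃+* F) (s : Sp) :
    ((spSemi g σ s : Sp) : MI) = ((g : GI) : MI) * (s : MI).map σ * (((g : GI)⁻¹ : GI) : MI) := rfl

/-- The automorphism of `PSp` induced by `v ↦ g σ(v)`. -/
def pspSemi (g : GSp m F) (σ : F ≃+* F) : MulAut PS :=
  QuotientGroup.congr _ _ (spSemi g σ) (Subgroup.characteristic_iff_map_eq.1 inferInstance _)

theorem pspSemi_mk (g : GSp m F) (σ : F ≃+* F) (s : Sp) :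
    pspSemi g σ (spToPSp m F s) = spToPSp m F (spSemi g σ s) := rfl

theorem spToPSp_surjective : Function.Surjective (spToPSp m F) := QuotientGroup.mk'_surjective _

theorem pspSemi_induced (g : GSp m F) (σ : F ≃+* F) :
    IsInducedBySemilinearPSp (g : GI) σ (pspSemi g σ) := by
  intro s s' h
  show spToPSp m F (spSemi g σ s) = spToPSp m F s'
  exact congrArg _ (Subtype.ext h.symm)

theorem induced_iff (g : GSp m F) (σ : F ≃+* F) {β : MulAut PS} :
    IsInducedBySemilinearPSp (g : GI) σ β ↔ β = pspSemi g σ := by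
  refine ⟨fun h => MulEquiv.ext fun x => ?_, fun h => h ▸ pspSemi_induced g σ⟩
  obtain ⟨s, rfl⟩ := spToPSp_surjective x
  exact h s (spSemi g σ s) rfl

theorem stdField_iff {σ : F ≃+* F} {β : MulAut PS} :
    IsStdFieldAutPSp σ β ↔ β = pspSemi 1 σ := by
  rw [← induced_iff]
  simp only [IsStdFieldAutPSp, IsInducedBySemilinearPSp, OneMemClass.coe_one, inv_one, Units.val_one,
    Matrix.one_mul, Matrix.mul_one]

theorem innerDiag_iff {β : MulAut PS} :
    IsInnerDiagonalAutPSp β ↔ ∃ g : GSp m F, β = pspSemi g (RingEquiv.refl F) := by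
  constructor
  · rintro ⟨g, hg, h⟩
    exact ⟨⟨g, hg⟩, (induced_iff ⟨g, hg⟩ _).1 h⟩
  · rintro ⟨g, rfl⟩
    exact ⟨g, g.2, pspSemi_induced g _⟩

/-- A field automorphism on similitudes. -/
def gspMap (σ : F ≃+* F) : GSp m F →* GSp m F :=
  ((gmap σ).comp (GSp m F).subtype).codRestrict _ fun g => gmap_mem_GSp σ g.2

theorem gspMap_coe (σ : F ≃+* F) (g : GSp m F) : ((gspMap σ g : GSp m F) : GI) = gmap σ (g : GI) := rfl

theorem pspSemi_mul (g h : GSp m F) (σ τ : F ≃+* F) :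
    pspSemi g σ * pspSemi h τ = pspSemi (g * gspMap σ h) (τ.trans σ) := by
  refine MulEquiv.ext fun x => ?_
  obtain ⟨s, rfl⟩ := spToPSp_surjective x
  rw [MulAut.mul_apply, pspSemi_mk, pspSemi_mk, pspSemi_mk]
  refine congrArg _ (Subtype.ext ?_)
  simp only [spSemi_coe, Matrix.map_mul, Matrix.map_map, Subgroup.coe_mul, gspMap_coe,
    _root_.mul_inv_rev, Units.val_mul, Matrix.mul_assoc, ← map_inv]
  rfl

theorem pspSemi_one : pspSemi (1 : GSp m F) (RingEquiv.refl F) = 1 := by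
  refine MulEquiv.ext fun x => ?_
  obtain ⟨s, rfl⟩ := spToPSp_surjective x
  rw [pspSemi_mk]
  exact congrArg _ (Subtype.ext (by simp [spSemi_coe]))

theorem gspMap_refl (g : GSp m F) : gspMap (RingEquiv.refl F) g = g :=
  Subtype.ext (Units.ext (by ext i j; rfl))

theorem pspSemi_refl_mul (g h : GSp m F) (τ : F ≃+* F) :
    pspSemi g (RingEquiv.refl F) * pspSemi h τ = pspSemi (g * h) τ := by
  rw [pspSemi_mul, gspMap_refl]; rfl

theorem pspSemi_refl_inv (g : GSp m F) :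
    (pspSemi g (RingEquiv.refl F))⁻¹ = pspSemi g⁻¹ (RingEquiv.refl F) :=
  inv_eq_of_mul_eq_one_right (by rw [pspSemi_refl_mul, mul_inv_cancel, pspSemi_one])

/-- An element of `Sp` as a similitude. -/
def spToGSp : Sp →* GSp m F :=
  (MonoidHom.toHomUnits (Matrix.symplecticGroup (Fin m) F).subtype).codRestrict _ fun s =>
    mem_GSp.2 ⟨1, fun u v => by
      show sympForm m F ((s : MI) *ᵥ u) ((s : MI) *ᵥ v) = _
      rw [sympForm_map, Units.val_one, one_mul]⟩

theorem spToGSp_coe (s : Sp) : (((spToGSp s : GSp m F) : GI) : MI) = (s : MI) := rfl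

theorem conj_eq_pspSemi (s : Sp) :
    MulAut.conj (spToPSp m F s) = pspSemi (spToGSp s) (RingEquiv.refl F) := by
  refine MulEquiv.ext fun x => ?_
  obtain ⟨t, rfl⟩ := spToPSp_surjective x
  rw [MulAut.conj_apply, pspSemi_mk, ← map_inv, ← map_mul, ← map_mul]
  refine congrArg _ (Subtype.ext ?_)
  rw [spSemi_coe, show ((t : MI).map (RingEquiv.refl F)) = (t : MI) from Matrix.map_id _,
    ← Subgroup.coe_inv, ← map_inv]
  rfl

end Cfsg.Agent.Classical.PSpAut
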