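import Cfsg.Agent.Lib.Classical.PSpUnipotent

/-!
Automorphisms of `PSp_{2m}(F)` map transvections to transvections, unless `m = 2` and the
characteristic is two: in that characteristic transvections are odd transpositions and short root
elements are not.
-/

set_option autoImplicit false
set_option linter.unusedSectionVars false

namespace Cfsg.Agent.Classical.PSpAut

open Matrix
open scoped Pointwise

variable {F : Type*} [Field F] [Fintype F] {m : ℕ} {p : ℕ} [Fact p.Prime] [CharP F p]

local notation "V" => (Fin m ⊕ Fin m → F)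
local notation "Sp" => Matrix.symplecticGroup (Fin m) F
local notation "PS" => PSp m F
local notation "MI" => Matrix (Fin m ⊕ Fin m) (Fin m ⊕ Fin m) F
local notation "π" => spToPSp m F

/-- `x` times any conjugate is trivial-squared or of odd order. -/
def OddProd {G : Type*} [Group G] (x : G) : Prop :=
  ∀ g : G, (x * (g * x * g⁻¹)) ^ 2 = 1 ∨ Odd (orderOf (x * (g * x * g⁻¹)))

theorem OddProd.map {G H : Type*} [Group G] [Group H] {x : G} (h : OddProd x) (e : G →* H)
    (he : Function.Surjective e) : OddProd (e x) := by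
  intro g
  obtain ⟨g, rfl⟩ := he g
  rw [← map_inv, ← map_mul, ← map_mul, ← map_mul, ← map_pow]
  rcases h g with h2 | hodd
  · exact Or.inl (by rw [h2, map_one])
  · refine Or.inr ?_
    obtain ⟨k, hk⟩ := orderOf_map_dvd e (x * (g * x * g⁻¹))
    exact (Nat.odd_mul.1 (hk ▸ hodd)).1

theorem oddProd_tv [CharP F 2] (v : V) (c : F) : OddProd (π (sympTv v c)) := by
  refine OddProd.map (fun g => ?_) _ spToPSp_surjective
  rw [sympTv_conj]
  set w := ((g : Sp) : MI) *ᵥ v
  have hcc : c + c = 0 := CharTwo.add_self_eq_zero c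
  by_cases hf : sympForm m F v w = 0
  · refine Or.inl ?_
    rw [(comm_of_orth hf c c).mul_pow, sq, sq, sympTv_mul, sympTv_mul, hcc, sympTv_zero, sympTv_zero,
      one_mul]
  refine Or.inr ?_
  haveI : Finite (Matrix.symplecticGroup (Fin m) F) := inferInstance
  set D := sympTv v c * sympTv w c
  set a := sympForm m F v w
  have hwv : sympForm m F w v = a := by rw [sympForm_swap, CharTwo.neg_eq]
  by_cases hc : c = 0
  · simp [D, hc, sympTv_zero]
  set τ := c * c * a * a with hτ
  have hτ0 : τ ≠ 0 := by simp [hτ, hc, show a ≠ 0 from hf]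
  set N : MI := (D : MI) - 1 with hN
  -- `N` is a root of `X³ + τ X² + τ X`
  have hrel : N * N * N + τ • (N * N) + τ • N = 0 := by
    refine Matrix.ext_iff_mulVec.2 fun x => ?_
    have hNx : ∀ y, N *ᵥ y = (c * sympForm m F y w) • w +
        (c * sympForm m F y v + c * c * a * sympForm m F y w) • v := by
      intro y
      rw [hN, Matrix.sub_mulVec, Matrix.one_mulVec, show (D : MI) =
        ((sympTv v c : Sp) : MI) * ((sympTv w c : Sp) : MI) from rfl, ← Matrix.mulVec_mulVec,
        sympTv_apply, sympTv_apply, sympForm_add_left, sympForm_smul_left, hwv, sub_eq_iff_eq_add]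
      module
    simp only [Matrix.add_mulVec, Matrix.smul_mulVec, ← Matrix.mulVec_mulVec, Matrix.zero_mulVec, hNx,
      sympForm_add_left, sympForm_smul_left, sympForm_self, hwv, mul_zero, zero_add, add_zero]
    funext t
    simp only [Pi.add_apply, Pi.smul_apply, smul_eq_mul, Pi.zero_apply, hτ]
    rw [show sympForm m F v w = a from rfl]
    have h4 : (4 : F) = 0 := by linear_combination (2 : F) * (CharTwo.two_eq_zero (R := F))
    ring_nf
    simp [CharTwo.two_eq_zero, h4]
  set P : Polynomial F := Polynomial.X ^ 3 + Polynomial.C τ * Polynomial.X ^ 2 +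
    Polynomial.C τ * Polynomial.X with hP
  have hPsq : Squarefree P := by
    refine Polynomial.Separable.squarefree ⟨Polynomial.C (τ⁻¹ * τ⁻¹),
      Polynomial.C (τ⁻¹ * τ⁻¹) * (Polynomial.X + Polynomial.C τ), ?_⟩
    have hd : Polynomial.derivative P = Polynomial.X ^ 2 + Polynomial.C τ := by
      rw [hP]
      simp [Polynomial.derivative_pow]
      rw [show (3 : F) = 1 from by linear_combination (CharTwo.two_eq_zero (R := F)),
        show (2 : F) = 0 from CharTwo.two_eq_zero]
      simp
    rw [hd, hP]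
    have h2 : (2 : Polynomial F) = 0 := CharTwo.two_eq_zero
    have h1 : Polynomial.C (τ⁻¹ * τ⁻¹) * (Polynomial.C τ * Polynomial.C τ) = (1 : Polynomial F) := by
      rw [← map_mul, ← map_mul, ← map_one Polynomial.C]
      congr 1
      field_simp
    linear_combination h1 + Polynomial.C (τ⁻¹ * τ⁻¹) * (Polynomial.X ^ 3 + Polynomial.C τ * Polynomial.X ^ 2
      + Polynomial.C τ * Polynomial.X) * h2
  have hmin : minpoly F N ∣ P := minpoly.dvd F N (by
    rw [hP]
    simp [Algebra.algebraMap_eq_smul_one, pow_succ]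
    exact hrel)
  by_contra hev
  obtain ⟨l, hl⟩ := (Nat.not_odd_iff_even.1 hev)
  have hpos : 0 < orderOf D := orderOf_pos D
  have hQ : Polynomial.aeval N (((Polynomial.X + 1) ^ l - 1) ^ 2 : Polynomial F) = 0 := by
    have h1 : (D : MI) ^ (l + l) = 1 := by
      rw [← hl, ← SubmonoidClass.coe_pow, pow_orderOf_eq_one]; rfl
    simp only [map_pow, map_sub, map_add, Polynomial.aeval_X, map_one, hN, sub_add_cancel]
    haveI : Nonempty (Fin m ⊕ Fin m) := by
      by_contra hne
      rw [not_nonempty_iff] at hne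
      exact hf (show sympForm m F v w = 0 by rw [show v = 0 from Subsingleton.elim _ _]; exact sympForm_zero_left _)
    rw [sub_pow_char_of_commute 2 (Commute.one_right _), one_pow, ← pow_mul, mul_two, h1, sub_self]
  have hdvd : minpoly F N ∣ (Polynomial.X + 1) ^ l - 1 :=
    ((hPsq.squarefree_of_dvd hmin).isRadical) 2 _ (minpoly.dvd F N hQ)
  have hz : Polynomial.aeval N ((Polynomial.X + 1) ^ l - 1 : Polynomial F) = 0 :=
    aeval_eq_zero_of_dvd hdvd
  simp only [map_pow, map_sub, map_add, Polynomial.aeval_X, map_one, hN, sub_add_cancel, sub_eq_zero] at hz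
  have : orderOf D ∣ l := orderOf_dvd_of_pow_eq_one (Subtype.ext (by rw [SubmonoidClass.coe_pow, hz]; rfl))
  have := Nat.le_of_dvd (by omega) this
  omega
where
  aeval_eq_zero_of_dvd {A : Type _} [Ring A] [Algebra F A] {N : A} {Q : Polynomial F}
      (h : minpoly F N ∣ Q) : Polynomial.aeval N Q = 0 := by
    obtain ⟨R, rfl⟩ := h
    rw [map_mul, minpoly.aeval, zero_mul]

/-- The permutation `e₁ → e₃`, `e₂ → f₂`, `e₃ → e₁`. -/
def permS (hm : 3 ≤ m) : Equiv.Perm (Fin m ⊕ Fin m) :=
  Equiv.swap (Sum.inl ⟨0, by omega⟩) (Sum.inl ⟨2, by omega⟩) *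
    Equiv.swap (Sum.inr ⟨0, by omega⟩) (Sum.inr ⟨2, by omega⟩) *
    Equiv.swap (Sum.inl ⟨1, by omega⟩) (Sum.inr ⟨1, by omega⟩)

theorem permS_swap (hm : 3 ≤ m) (x : Fin m ⊕ Fin m) : permS hm x.swap = (permS hm x).swap := by
  have h01 : (⟨0, by omega⟩ : Fin m) ≠ ⟨1, by omega⟩ := by simp [Fin.ext_iff]
  have h21 : (⟨2, by omega⟩ : Fin m) ≠ ⟨1, by omega⟩ := by simp [Fin.ext_iff]
  have h02 : (⟨0, by omega⟩ : Fin m) ≠ ⟨2, by omega⟩ := by simp [Fin.ext_iff]
  rcases x with x | x <;>
  · by_cases h0 : x = ⟨0, by omega⟩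
    · subst h0; simp [permS, Equiv.swap_apply_def, h01, h02, h02.symm]
    by_cases h1 : x = ⟨1, by omega⟩
    · subst h1; simp [permS, Equiv.swap_apply_def, h01.symm, h21.symm]
    by_cases h2 : x = ⟨2, by omega⟩
    · subst h2; simp [permS, Equiv.swap_apply_def, h21, h02.symm]
    simp [permS, Equiv.swap_apply_def, h0, h1, h2]

theorem J_apply_char_two [CharP F 2] (x y : Fin m ⊕ Fin m) :
    Matrix.J (Fin m) F x y = if y = x.swap then 1 else 0 := by
  rcases x with x | x <;> rcases y with y | y <;>
    simp [Matrix.J, Matrix.one_apply, CharTwo.neg_eq, eq_comm]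

/-- The short root elements of `centralizer_uniS` are not odd transpositions. -/
theorem not_oddProd_short [CharP F 2] (hm : 3 ≤ m) {c b : F} (hb : b ≠ 0) {s : Sp}
    (hs : (s : MI) = 1 + (Matrix.single (Sum.inl (⟨0, by omega⟩ : Fin m)) (Sum.inr ⟨0, by omega⟩) c +
        Matrix.single (Sum.inl ⟨0, by omega⟩) (Sum.inr ⟨1, by omega⟩) b +
        Matrix.single (Sum.inl ⟨1, by omega⟩) (Sum.inr ⟨0, by omega⟩) b)) :
    ¬ OddProd (π s) := by
  classical
  set e := permS hm
  -- the permutation matrix is symplectic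
  set Q : MI := (1 : MI).submatrix e id with hQ
  have hQmul : ∀ A : MI, Q * A = A.submatrix e id := fun A => by
    ext i j; simp [Q, Matrix.mul_apply, Matrix.one_apply]
  have hQT : Qᵀ = (1 : MI).submatrix id e := by
    rw [hQ, Matrix.transpose_submatrix, Matrix.transpose_one]
  have hmulQT : ∀ A : MI, A * Qᵀ = A.submatrix id e := fun A => by
    ext i j; simp [hQT, Matrix.mul_apply, Matrix.one_apply]
  have hQmem : Q ∈ Matrix.symplecticGroup (Fin m) F := by
    rw [SymplecticGroup.mem_iff, hQmul, hmulQT]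
    ext i j
    simp only [Matrix.submatrix_apply, id, J_apply_char_two]
    rw [← permS_swap hm i]
    exact if_congr e.injective.eq_iff rfl rfl
  set g : Sp := ⟨Q, hQmem⟩
  have hg : ((g * s * g⁻¹ : Sp) : MI) = (s : MI).submatrix e e := by
    have hgi : ((g⁻¹ : Sp) : MI) = Qᵀ := by
      have hQQ : Q * Qᵀ = 1 := by
        rw [hmulQT, hQ, Matrix.submatrix_submatrix]
        ext i j; simp [Matrix.one_apply]
      calc ((g⁻¹ : Sp) : MI) = ((g⁻¹ : Sp) : MI) * (Q * Qᵀ) := by rw [hQQ, mul_one]
        _ = Qᵀ := by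
          rw [← mul_assoc, show Q = ((g : Sp) : MI) from rfl, ← Submonoid.coe_mul, inv_mul_cancel]
          exact one_mul _
    rw [Submonoid.coe_mul, Submonoid.coe_mul, hgi, show ((g : Sp) : MI) = Q from rfl, hQmul, hmulQT,
      Matrix.submatrix_submatrix]
    rfl
  set o : Fin m := ⟨0, by omega⟩
  set o1 : Fin m := ⟨1, by omega⟩
  set o2 : Fin m := ⟨2, by omega⟩
  have h01 : o ≠ o1 := by simp [o, o1, Fin.ext_iff]
  have h02 : o ≠ o2 := by simp [o, o2, Fin.ext_iff]
  have h12 : o1 ≠ o2 := by simp [o1, o2, Fin.ext_iff]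
  set A : MI := Matrix.single (Sum.inl o) (Sum.inr o) c + Matrix.single (Sum.inl o) (Sum.inr o1) b +
    Matrix.single (Sum.inl o1) (Sum.inr o) b
  set B : MI := Matrix.single (Sum.inl o2) (Sum.inr o2) c + Matrix.single (Sum.inl o2) (Sum.inl o1) b +
    Matrix.single (Sum.inr o1) (Sum.inr o2) b
  have hB : A.submatrix e e = B := by
    have es : ∀ x y, (e x = y) ↔ x = e.symm y := fun x y => by rw [Equiv.eq_symm_apply]
    have hsing : ∀ x y (r : F), (Matrix.single x y r).submatrix e e =
        Matrix.single (e.symm x) (e.symm y) r := fun x y r => by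
      ext i j
      have h : ∀ x i, (x = e i ↔ e.symm x = i) := fun x i => (Equiv.symm_apply_eq e).symm
      simp only [Matrix.submatrix_apply, Matrix.single_apply]
      exact if_congr (and_congr (h x i) (h y j)) rfl rfl
    have e1 : e.symm (Sum.inl o) = Sum.inl o2 := by
      rw [Equiv.symm_apply_eq]; simp [e, permS, Equiv.swap_apply_def, o, o2]
    have e2 : e.symm (Sum.inr o) = Sum.inr o2 := by
      rw [Equiv.symm_apply_eq]; simp [e, permS, Equiv.swap_apply_def, o, o2]
    have e3 : e.symm (Sum.inr o1) = Sum.inl o1 := by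
      rw [Equiv.symm_apply_eq]; simp [e, permS, Equiv.swap_apply_def, o1, Fin.ext_iff]
    have e4 : e.symm (Sum.inl o1) = Sum.inr o1 := by
      rw [Equiv.symm_apply_eq]; simp [e, permS, Equiv.swap_apply_def, o1, Fin.ext_iff]
    show A.submatrix e e = _
    simp only [A, Matrix.submatrix_add, Pi.add_apply, hsing, e1, e2, e3, e4, B]
  have hy : ((g * s * g⁻¹ : Sp) : MI) = 1 + B := by
    rw [hg, hs, Matrix.submatrix_add]
    simp only [Pi.add_apply, hB]
    rw [Matrix.submatrix_one_equiv]
  have hAA : A * A = 0 := by simp [A, add_mul, mul_add, h01, h01.symm]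
  have hBB : B * B = 0 := by simp [B, add_mul, mul_add, h12, h12.symm, h02, h02.symm, h01, h01.symm]
  have hAB : A * B = Matrix.single (Sum.inl o) (Sum.inr o2) (b * b) := by
    simp [A, B, add_mul, mul_add, h01, h01.symm, h02, h02.symm, h12, h12.symm]
  have hBA : B * A = Matrix.single (Sum.inl o2) (Sum.inr o) (b * b) := by
    simp [A, B, add_mul, mul_add, h01, h01.symm, h02, h02.symm, h12, h12.symm]
  have hx : (s : MI) = 1 + A := hs
  intro hodd
  have key := hodd (π g)
  rw [← map_inv, ← map_mul, ← map_mul, ← map_mul, ← map_pow] at key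
  set d := s * (g * s * g⁻¹)
  have hm0 : m ≠ 0 := by omega
  have pinj : ∀ z : Sp, π z = 1 → z = 1 := fun z hz => by
    obtain ⟨l, hl, hz'⟩ := (pi_eq_one_iff hm0).1 hz
    have : l = 1 := by
      have h1 : (l - 1) * (l - 1) = 0 := by
        linear_combination hl - (CharTwo.two_eq_zero (R := F)) * (l - 1)
      exact sub_eq_zero.1 (mul_self_eq_zero.1 h1)
    exact Subtype.ext (by rw [hz', this, one_smul]; rfl)
  have hd : (d : MI) = 1 + (A + B + A * B) := by
    show (s : MI) * ((g * s * g⁻¹ : Sp) : MI) = _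
    rw [hx, hy]
    noncomm_ring
  set N := A + B + A * B
  have hNN : N * N = A * B + B * A := by
    simp only [N, add_mul, mul_add, ← mul_assoc, hAA, hBB, zero_mul, zero_add, add_zero]
    rw [show A * B * A = 0 by rw [hAB]; simp [A, add_mul, mul_add, h02.symm, h12.symm],
      show B * A * B = 0 by rw [hBA]; simp [B, add_mul, mul_add, h02, h01]]
    simp [mul_assoc, hBB]
    abel
  have hd2 : ((d ^ 2 : Sp) : MI) = 1 + (A * B + B * A) := by
    rw [SubmonoidClass.coe_pow, hd, sq, ← hNN]
    have : N + N = 0 := by ext i j; exact CharTwo.add_self_eq_zero _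
    linear_combination (norm := noncomm_ring) this
  have hne : d ^ 2 ≠ 1 := by
    intro h1
    have h2 := congrArg (fun z : Sp => (z : MI) (Sum.inl o) (Sum.inr o2)) h1
    simp only [hd2, hAB, hBA] at h2
    simp [h02, h02.symm, hb] at h2
  rcases key with h2 | h2
  · exact hne (pinj _ h2)
  · have h4 : π d ^ 4 = 1 := by
      rw [← map_pow, show d ^ 4 = (1 : Sp) from Subtype.ext ?_, map_one]
      rw [show 4 = 2 * 2 from rfl, pow_mul, SubmonoidClass.coe_pow, hd2, sq, hAB, hBA]
      simp [add_mul, mul_add, h02, h02.symm]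
      ext i j
      simp only [Matrix.add_apply]
      linear_combination (CharTwo.two_eq_zero (R := F)) *
        (Matrix.single (Sum.inl o) (Sum.inr o2) (b * b) i j + Matrix.single (Sum.inl o2) (Sum.inr o) (b * b) i j)
    have hd4 : orderOf (π d) ∣ 4 := orderOf_dvd_of_pow_eq_one h4
    have : orderOf (π d) = 1 :=
      Nat.eq_one_of_dvd_coprimes (Nat.Coprime.pow_right 2 (Nat.coprime_two_right.2 h2)) dvd_rfl hd4
    exact hne (by rw [pinj d (orderOf_eq_one_iff.1 this), one_pow])

include p in
/-- Images of transvections are conjugate to central elements of the standard unipotent group. -/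
theorem exists_normal_form (hm : 2 ≤ m) (β : MulAut PS) {v : V} (hv : v ≠ 0) (c : F) :
    ∃ (g : PS) (z : Sp) (a c' b : F), a ^ 2 = 1 ∧ 2 * b = 0 ∧
      (z : MI) = a • (1 + (Matrix.single (Sum.inl (⟨0, by omega⟩ : Fin m)) (Sum.inr ⟨0, by omega⟩) c' +
        Matrix.single (Sum.inl ⟨0, by omega⟩) (Sum.inr ⟨1, by omega⟩) b +
        Matrix.single (Sum.inl ⟨1, by omega⟩) (Sum.inr ⟨0, by omega⟩) b)) ∧
      π z = g⁻¹ * β (π (sympTv v c)) * g := by
  classical
  have hm0 : m ≠ 0 := by omega
  set S : Subgroup Sp :=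
    { carrier := {s | (s : MI) *ᵥ v = v}
      one_mem' := Matrix.one_mulVec v
      mul_mem' := fun {a b} ha hb => by
        show ((a : MI) * (b : MI)) *ᵥ v = v
        rw [← Matrix.mulVec_mulVec, show (b : MI) *ᵥ v = v from hb]; exact ha
      inv_mem' := fun {a} ha => by
        show ((a⁻¹ : Sp) : MI) *ᵥ v = v
        conv_lhs => arg 2; rw [← show (a : MI) *ᵥ v = v from ha]
        rw [Matrix.mulVec_mulVec, ← Submonoid.coe_mul, inv_mul_cancel]
        exact Matrix.one_mulVec v }
  have hindex : S.index = Fintype.card F ^ (m + m) - 1 := by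
    let f : Sp ⧸ S → {w : V // w ≠ 0} := Quotient.lift (fun s => ⟨(s : MI) *ᵥ v, fun h0 => hv (by
      have := congrArg (((s⁻¹ : Sp) : MI) *ᵥ ·) h0
      simp only [Matrix.mulVec_mulVec, ← Submonoid.coe_mul, inv_mul_cancel, Matrix.mulVec_zero] at this
      exact (Matrix.one_mulVec v).symm.trans this)⟩) (fun a b hab => Subtype.ext (by
        have h1 : ((a⁻¹ * b : Sp) : MI) *ᵥ v = v := (QuotientGroup.leftRel_apply (s := S)).1 hab
        show (a : MI) *ᵥ v = (b : MI) *ᵥ v
        conv_lhs => rw [← h1, Matrix.mulVec_mulVec, ← Submonoid.coe_mul, mul_inv_cancel_left]))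
    have hf : Function.Bijective f := by
      constructor
      · rintro ⟨a⟩ ⟨b⟩ hab
        refine Quotient.sound ((QuotientGroup.leftRel_apply (s := S)).2 ?_)
        show ((a⁻¹ * b : Sp) : MI) *ᵥ v = v
        have h1 : (a : MI) *ᵥ v = (b : MI) *ᵥ v := congrArg Subtype.val hab
        rw [Submonoid.coe_mul, ← Matrix.mulVec_mulVec, ← h1, Matrix.mulVec_mulVec, ← Submonoid.coe_mul,
          inv_mul_cancel]
        exact Matrix.one_mulVec v
      · rintro ⟨w, hw⟩
        obtain ⟨A, hA⟩ := symp_pretransitive hv hw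
        exact ⟨Quotient.mk _ A, Subtype.ext hA⟩
    rw [Subgroup.index, Nat.card_eq_of_bijective f hf, Nat.card_eq_fintype_card,
      Fintype.card_subtype_compl, Fintype.card_subtype_eq, Fintype.card_fun, Fintype.card_sum,
      Fintype.card_fin]
  obtain ⟨f, -, hF⟩ := FiniteField.card F p
  obtain ⟨P0⟩ := (inferInstance : Nonempty (Sylow p (S.map π)))
  set P0' := (P0 : Subgroup (S.map π)).map (S.map π).subtype
  have hP0p : IsPGroup p P0' := P0.2.map _
  have hcent : ∀ y ∈ P0', Commute (π (sympTv v c)) y := by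
    rintro _ ⟨⟨_, s, hs, rfl⟩, -, rfl⟩
    have := sympTv_conj s v c
    rw [show (s : MI) *ᵥ v = v from hs] at this
    exact (show Commute (sympTv v c) s from (mul_inv_eq_iff_eq_mul.1 this).symm).map π
  obtain ⟨P, hP⟩ := hP0p.exists_le_sylow
  -- `P0'` is already a Sylow subgroup
  have hPeq : P0' = (P : Subgroup PS) := by
    refine Subgroup.eq_of_le_of_card_ge hP ?_
    rw [Sylow.card_eq_multiplicity, Subgroup.card_map_of_injective (Subgroup.subtype_injective _),
      Sylow.card_eq_multiplicity]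
    refine Nat.pow_le_pow_right (Fact.out : p.Prime).pos ?_
    have hdvd : (S.map π).index ∣ S.index := Subgroup.index_map_dvd S spToPSp_surjective
    have hcop : ¬ p ∣ (S.map π).index := by
      intro hd
      have h1 : p ∣ Fintype.card F ^ (m + m) - 1 := hindex ▸ hd.trans hdvd
      have h2 : p ∣ Fintype.card F ^ (m + m) := dvd_pow (hF ▸ dvd_pow_self p f.ne_zero) (by omega)
      have h3 := Nat.dvd_sub h2 h1
      have hq1 : 1 ≤ Fintype.card F ^ (m + m) := Nat.one_le_pow _ _ Fintype.card_pos
      rw [Nat.sub_sub_self hq1] at h3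
      exact (Fact.out : p.Prime).one_lt.ne' (Nat.dvd_one.1 h3)
    rw [← Subgroup.card_mul_index (S.map π), Nat.factorization_mul Nat.card_pos.ne'
      Subgroup.index_ne_zero_of_finite, Finsupp.add_apply, Nat.factorization_eq_zero_of_not_dvd hcop,
      add_zero]
  have htP : π (sympTv v c) ∈ (P : Subgroup PS) := by
    have hn : π (sympTv v c) ∈ Subgroup.normalizer ((P : Subgroup PS) : Set PS) := by
      refine Subgroup.mem_normalizer_iff.2 fun y => ?_
      rw [← hPeq]
      constructor
      · intro hy; rwa [(hcent y hy).eq, mul_inv_cancel_right]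
      · intro hy
        have h1 := hcent _ hy
        have : y = π (sympTv v c) * y * (π (sympTv v c))⁻¹ := by
          have h2 := h1.eq
          rw [mul_assoc _ y, mul_assoc] at h2
          simpa [mul_assoc] using (mul_left_cancel h2).symm
        rwa [this]
    have hone : π (sympTv v c) ^ p = 1 := by
      rw [← map_pow]
      have : ∀ k : ℕ, sympTv v c ^ k = sympTv v (k * c) := fun k => by
        induction k with
        | zero => rw [pow_zero, Nat.cast_zero, zero_mul, sympTv_zero]
        | succ k ih => rw [pow_succ, ih, sympTv_mul, Nat.cast_succ, add_mul, one_mul]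
      rw [this, CharP.cast_eq_zero, zero_mul, sympTv_zero, map_one]
    have hpz : IsPGroup p (Subgroup.zpowers (π (sympTv v c))) :=
      IsPGroup.of_card (n := if π (sympTv v c) = 1 then 0 else 1) (by
        rw [Nat.card_zpowers]
        split_ifs with h1
        · simp [h1]
        · rw [pow_one, orderOf_eq_prime hone h1])
    have hsup := hpz.to_sup_of_normal_right' P.2 (Subgroup.zpowers_le.2 hn)
    have := P.3 hsup le_sup_right
    rw [← this]
    exact Subgroup.mem_sup_left (Subgroup.mem_zpowers _)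
  -- move to the standard unipotent group
  have hUp : IsPGroup p ((uniS F m).map π) := (isPGroup_uniS (p := p) hm0).map _
  obtain ⟨Q, hQ⟩ := hUp.exists_le_sylow
  obtain ⟨R, hR⟩ := (P.2.map β.toMonoidHom).exists_le_sylow
  obtain ⟨g, hg⟩ := MulAction.exists_smul_eq PS Q R
  have hz : ∀ u ∈ uniS F m, Commute (g⁻¹ * β (π (sympTv v c)) * g) (π u) := by
    intro u hu
    have h1 : g * π u * g⁻¹ ∈ (R : Subgroup PS) := by
      rw [← hg]
      show g * π u * g⁻¹ ∈ (MulAut.conj g • (Q : Subgroup PS) : Subgroup PS)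
      exact ⟨π u, hQ (Subgroup.mem_map_of_mem _ hu), rfl⟩
    have hRmap : (R : Subgroup PS) = (P : Subgroup PS).map β.toMonoidHom := (Subgroup.eq_of_le_of_card_ge hR (by
      rw [Subgroup.card_map_of_injective β.injective, Sylow.card_eq_multiplicity,
        Sylow.card_eq_multiplicity])).symm
    rw [hRmap] at h1
    obtain ⟨y, hy, hyu⟩ := h1
    rw [hPeq.symm] at hy
    have h2 : Commute (β (π (sympTv v c))) (g * π u * g⁻¹) := by
      rw [← show β y = g * π u * g⁻¹ from hyu]
      exact (hcent y hy).map β.toMonoidHom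
    have := h2.map (MulAut.conj g⁻¹).toMonoidHom
    simpa [mul_assoc] using this
  obtain ⟨z, hz'⟩ := spToPSp_surjective (g⁻¹ * β (π (sympTv v c)) * g)
  obtain ⟨a, c', b, ha, hb, hzeq⟩ := centralizer_uniS hm (s := z) (fun u hu => hz' ▸ hz u hu)
  exact ⟨g, z, a, c', b, ha, hb, hzeq, hz'⟩

include p in
/-- Automorphisms map transvections to transvections. -/
theorem map_transSet (hm : 2 ≤ m) (h4 : m = 2 → p ≠ 2) (β : MulAut PS) {x : PS} (hx : x ∈ transSet m F) :
    β x ∈ transSet m F := by
  classical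
  have hm0 : m ≠ 0 := by omega
  obtain ⟨v, c, hv, rfl⟩ := hx
  obtain ⟨g, z, a, c', b, ha, hb, hzeq, hz'⟩ := exists_normal_form (p := p) hm β hv c
  set o : Fin m := ⟨0, by omega⟩
  set o1 : Fin m := ⟨1, by omega⟩
  have hb0 : b = 0 := by
    by_contra hb0
    have h2 : (2 : F) = 0 := (mul_eq_zero.1 hb).resolve_right hb0
    have hcp : CharP F p := inferInstance
    haveI hc2 : CharP F 2 := CharTwo.of_one_ne_zero_of_two_eq_zero one_ne_zero h2
    have hp2 : p = 2 := CharP.eq F hcp hc2
    have hm3 : 3 ≤ m := by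
      by_contra h
      exact h4 (by omega) hp2
    have ha1 : a = 1 := by
      have h1 : (a - 1) * (a - 1) = 0 := by linear_combination ha - h2 * (a - 1)
      exact sub_eq_zero.1 (mul_self_eq_zero.1 h1)
    rw [ha1, one_smul] at hzeq
    refine not_oddProd_short hm3 hb0 hzeq ?_
    rw [hz']
    have hodd := (oddProd_tv v c).map β.toMonoidHom β.surjective
    have := hodd.map (MulAut.conj g⁻¹).toMonoidHom (MulAut.conj g⁻¹).surjective
    simpa [mul_assoc] using this
  obtain ⟨t, ht⟩ := spToPSp_surjective g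
  set e : V := Pi.single (Sum.inl o) 1
  refine ⟨(t : MI) *ᵥ e, c', fun h0 => ?_, ?_⟩
  · have := congrArg (((t⁻¹ : Sp) : MI) *ᵥ ·) h0
    simp only [Matrix.mulVec_mulVec, ← Submonoid.coe_mul, inv_mul_cancel, Matrix.mulVec_zero] at this
    have h1 := congrFun ((Matrix.one_mulVec e).symm.trans this) (Sum.inl o)
    simp [e] at h1
  · have hzt : π z = π (sympTv e c') := by
      have hcenter : π (z * (sympTv e c')⁻¹) = 1 := by
        refine (pi_eq_one_iff hm0).2 ⟨a, ha, ?_⟩
        have hT : ((sympTv e c' : Sp) : MI) = 1 + Matrix.single (Sum.inl o) (Sum.inr o) c' := by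
          refine Matrix.ext_iff_mulVec.2 fun x => ?_
          rw [sympTv_apply, Matrix.add_mulVec, Matrix.one_mulVec, sympForm_single_inl, mul_one,
            Matrix.single_mulVec]
          congr 1
          ext k
          simp [e, Pi.single_apply, Function.update_apply]
        have hz0 : (z : MI) = a • ((sympTv e c' : Sp) : MI) := by
          rw [hzeq, hT, hb0]; simp
        rw [Submonoid.coe_mul, hz0, Matrix.smul_mul, ← Submonoid.coe_mul, mul_inv_cancel]
        rfl
      rwa [map_mul, map_inv, mul_inv_eq_one] at hcenter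
    rw [← sympTv_conj, map_mul, map_mul, map_inv, ← hzt, hz', ht]
    group

end Cfsg.Agent.Classical.PSpAut
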