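import Cfsg.Agent.Lib.Classical.PSpRootGroups
import Cfsg.Agent.Lib.Classical.SympBlocks

/-!
A unipotent subgroup of `Sp_{2m}(F)` whose centraliser is a long and a short root group; hence in
odd characteristic, and in characteristic two for `m ≥ 3`, automorphisms map transvections to
transvections.
-/

set_option autoImplicit false
set_option linter.unusedSectionVars false

namespace Cfsg.Agent.Classical.PSpAut

open Matrix

variable {F : Type*} [Field F] [Fintype F] {m : ℕ} {p : ℕ} [Fact p.Prime] [CharP F p]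

local notation "V" => (Fin m ⊕ Fin m → F)
local notation "Sp" => Matrix.symplecticGroup (Fin m) F
local notation "PS" => PSp m F
local notation "MI" => Matrix (Fin m ⊕ Fin m) (Fin m ⊕ Fin m) F
local notation "π" => spToPSp m F

/-- The order `e_1, …, e_m, f_m, …, f_1` of the basis. -/
def ordS : Fin m ⊕ Fin m → ℕ
  | Sum.inl i => i
  | Sum.inr i => 2 * m - 1 - i

theorem ordS_injective : Function.Injective (ordS (m := m)) := by
  rintro (i | i) (j | j) h <;> simp only [ordS] at h <;>
    have := i.2 <;> have := j.2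
  · exact congrArg _ (Fin.ext h)
  · omega
  · omega
  · exact congrArg _ (Fin.ext (by omega))

theorem ordS_lt (i : Fin m ⊕ Fin m) : ordS i < 2 * m := by
  rcases i with i | i <;> have := i.2 <;> simp only [ordS] <;> omega

/-- Upper unitriangular in the symplectic order. -/
def IsUniS (M : MI) : Prop := ∀ i j, ordS j ≤ ordS i → M i j = (1 : MI) i j

theorem IsUniS.mul {A B : MI} (hA : IsUniS A) (hB : IsUniS B) : IsUniS (A * B) := by
  intro i j hij
  have hA' : ∀ k, ordS k < ordS i → A i k = 0 := fun k hk => by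
    rw [hA i k hk.le, Matrix.one_apply_ne]; rintro rfl; omega
  have hB' : ∀ k, ordS j < ordS k → B k j = 0 := fun k hk => by
    rw [hB k j hk.le, Matrix.one_apply_ne]; rintro rfl; omega
  rw [Matrix.mul_apply, Finset.sum_eq_single i]
  · rw [hA i i le_rfl, Matrix.one_apply_eq, one_mul, hB i j hij]
  · intro k _ hk
    rcases lt_trichotomy (ordS k) (ordS i) with h | h | h
    · rw [hA' k h, zero_mul]
    · exact absurd (ordS_injective h) hk
    · rw [hB' k (lt_of_le_of_lt hij h), mul_zero]
  · simp

theorem IsUniS.sub_one_pow {M : MI} (hM : IsUniS M) :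
    ∀ k i j, ordS j < ordS i + k → ((M - 1) ^ k) i j = 0 := by
  intro k
  induction k with
  | zero =>
    intro i j h
    rw [pow_zero, Matrix.one_apply_ne]
    rintro rfl
    omega
  | succ k ih =>
    intro i j h
    rw [pow_succ, Matrix.mul_apply]
    refine Finset.sum_eq_zero fun l _ => ?_
    by_cases hl : ordS l < ordS i + k
    · rw [ih i l hl, zero_mul]
    · rw [Matrix.sub_apply, hM l j (by omega), sub_self, mul_zero]

include p in
theorem IsUniS.pow_eq_one {M : MI} (hm : m ≠ 0) (hM : IsUniS M) : M ^ p ^ (2 * m) = 1 := by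
  haveI : Nonempty (Fin m ⊕ Fin m) := ⟨Sum.inl ⟨0, Nat.pos_of_ne_zero hm⟩⟩
  haveI : CharP MI p := inferInstance
  have h1 : (M - 1) ^ p ^ (2 * m) = 0 := by
    refine pow_eq_zero_of_le (m := 2 * m) (Nat.lt_pow_self (Fact.out : p.Prime).one_lt).le ?_
    ext i j
    exact hM.sub_one_pow _ i j (by have := ordS_lt j; omega)
  rw [sub_pow_char_pow_of_commute p (2 * m) (Commute.one_right _), one_pow, sub_eq_zero] at h1
  exact h1

variable (F m) in
/-- The subgroup of unitriangular symplectic matrices. -/
def uniS : Subgroup (Matrix.symplecticGroup (Fin m) F) where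
  carrier := {s | IsUniS (s : MI)}
  one_mem' := fun i j _ => rfl
  mul_mem' := fun ha hb => ha.mul hb
  inv_mem' := fun {a} ha => by
    have hpow : ∀ k : ℕ, IsUniS ((a ^ k : Sp) : MI) := fun k => by
      induction k with
      | zero => exact fun i j _ => rfl
      | succ k ih => rw [pow_succ]; exact ih.mul ha
    have h : a ^ (orderOf a - 1) = a⁻¹ := eq_inv_of_mul_eq_one_left (by
      rw [← pow_succ, Nat.sub_add_cancel (orderOf_pos a), pow_orderOf_eq_one])
    rw [← h]
    exact hpow _

include p in
theorem isPGroup_uniS (hm : m ≠ 0) : IsPGroup p (uniS F m) := fun s =>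
  ⟨2 * m, Subtype.ext (Subtype.ext (by
    simpa using IsUniS.pow_eq_one (p := p) hm (show IsUniS ((s : Sp) : MI) from s.2)))⟩

theorem tv_mem_uniS {v : V} (hv : ∀ i, v (Sum.inr i) = 0) (c : F) : sympTv v c ∈ uniS F m := by
  intro i j hij
  show sympTransvection m v c i j = _
  rw [sympTransvection, Matrix.add_apply, Matrix.smul_apply, Matrix.vecMulVec_apply]
  rcases i with i | i
  · rcases j with j | j
    · rw [J_mulVec_inl, hv]; simp
    · simp only [ordS] at hij
      have := i.2; have := j.2
      omega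
  · simp [hv]

theorem levi_transvection_coe {i j : Fin m} (h : i ≠ j) (b : F) :
    ((sympLevi m (Matrix.SpecialLinearGroup.toGL (Matrix.SpecialLinearGroup.transvection h b)) : Sp) : MI) =
      1 + (Matrix.single (Sum.inl i) (Sum.inl j) b + Matrix.single (Sum.inr j) (Sum.inr i) (-b)) := by
  show Matrix.fromBlocks _ 0 0 _ = _
  rw [← map_inv, Matrix.SpecialLinearGroup.transvection_inv]
  show Matrix.fromBlocks ((Matrix.SpecialLinearGroup.transvection h b : Matrix.SpecialLinearGroup (Fin m) F) :
    Matrix (Fin m) (Fin m) F) 0 0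
    ((Matrix.SpecialLinearGroup.transvection h (-b) : Matrix.SpecialLinearGroup (Fin m) F) :
    Matrix (Fin m) (Fin m) F)ᵀ = _
  rw [Matrix.SpecialLinearGroup.transvection_coe, Matrix.SpecialLinearGroup.transvection_coe]
  ext (k | k) (l | l) <;> simp [Matrix.one_apply, Matrix.single_apply, eq_comm, and_comm]

theorem levi_mem_uniS {i j : Fin m} (h : i < j) (b : F) :
    sympLevi m (Matrix.SpecialLinearGroup.toGL (Matrix.SpecialLinearGroup.transvection h.ne b)) ∈
      uniS F m := by
  intro k l hkl
  show ((sympLevi m _ : Sp) : MI) k l = _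
  rw [levi_transvection_coe, Matrix.add_apply, Matrix.add_apply, Matrix.single_apply, Matrix.single_apply,
    if_neg, if_neg, add_zero, add_zero]
  · rintro ⟨rfl, rfl⟩
    simp only [ordS] at hkl
    have := j.2; rw [Fin.lt_def] at h
    omega
  · rintro ⟨rfl, rfl⟩
    simp only [ordS] at hkl
    rw [Fin.lt_def] at h
    omega

/-- Centralising `uniS` leaves a long root element times, in characteristic two, a short one. -/
theorem centralizer_uniS (hm : 2 ≤ m) {s : Sp} (h : ∀ u ∈ uniS F m, Commute (π s) (π u)) :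
    ∃ a c b : F, a ^ 2 = 1 ∧ (2 : F) * b = 0 ∧
      (s : MI) = a • (1 + (Matrix.single (Sum.inl (⟨0, by omega⟩ : Fin m)) (Sum.inr ⟨0, by omega⟩) c +
        Matrix.single (Sum.inl ⟨0, by omega⟩) (Sum.inr ⟨1, by omega⟩) b +
        Matrix.single (Sum.inl ⟨1, by omega⟩) (Sum.inr ⟨0, by omega⟩) b)) := by
  classical
  set o : Fin m := ⟨0, by omega⟩
  set o1 : Fin m := ⟨1, by omega⟩
  have hm0 : m ≠ 0 := by omega
  -- each vector of the Lagrangian is an eigenvector
  have heig : ∀ v : V, v ≠ 0 → (∀ i, v (Sum.inr i) = 0) →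
      ∃ a : F, a ^ 2 = 1 ∧ (s : MI) *ᵥ v = a • v := by
    intro v hv hW
    have hc := h _ (tv_mem_uniS hW (1 : F))
    have e : π (s * sympTv v 1 * s⁻¹) = π (sympTv v 1) := by
      rw [map_mul, map_mul, map_inv, hc.eq, mul_inv_cancel_right]
    rw [sympTv_conj] at e
    have e2 := sympTv_eq_of_pi_eq hv e.symm
    obtain ⟨a, ha⟩ := exists_smul_of_tv_eq hv one_ne_zero e2
    have ha0 : a ≠ 0 := fun h0 => hv (by rw [ha, h0, zero_smul])
    refine ⟨a⁻¹, ?_, by conv_rhs => rw [ha, smul_smul, inv_mul_cancel₀ ha0, one_smul]⟩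
    have e3 : sympTv v 1 = sympTv v (a⁻¹ ^ 2) := by
      rw [e2, show (s : MI) *ᵥ v = a⁻¹ • v by conv_rhs => rw [ha, smul_smul, inv_mul_cancel₀ ha0, one_smul],
        sympTv_smul, mul_one]
    exact (sympTv_coeff_inj hv e3).symm
  have hsingle : ∀ i : Fin m, (Pi.single (Sum.inl i) 1 : V) ≠ 0 ∧
      ∀ k, (Pi.single (Sum.inl i) 1 : V) (Sum.inr k) = 0 := fun i => ⟨by simp, fun k => by simp⟩
  choose α hα2 hα using fun i => heig _ (hsingle i).1 (hsingle i).2
  have hαc : ∀ i, α i = α o := by
    intro i
    rcases eq_or_ne i o with rfl | hio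
    · rfl
    obtain ⟨a, -, ha⟩ := heig (Pi.single (Sum.inl i) 1 + Pi.single (Sum.inl o) 1)
      (fun h0 => by simpa [hio] using congrFun h0 (Sum.inl i)) (fun k => by simp)
    rw [Matrix.mulVec_add, hα, hα] at ha
    have h1 := congrFun ha (Sum.inl i)
    have h2 := congrFun ha (Sum.inl o)
    simp [hio, hio.symm] at h1 h2
    rw [h1, h2]
  set a := α o
  have ha2 : a * a = 1 := by rw [← sq]; exact hα2 o
  have hcol : ∀ x i, (s : MI) x (Sum.inl i) = if x = Sum.inl i then a else 0 := by
    intro x i
    have := congrFun (hα i) x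
    rw [Matrix.mulVec_single_one, hαc] at this
    rw [Pi.smul_apply, Pi.single_apply, smul_eq_mul, mul_ite, mul_one, mul_zero] at this
    exact this
  have hfr : ∀ i j, (s : MI) (Sum.inr i) (Sum.inr j) = if i = j then a else 0 := by
    intro i j
    have := sympForm_map s (Pi.single (Sum.inr j) 1) (Pi.single (Sum.inl i) 1)
    rw [hα, hαc, sympForm_smul_right, sympForm_single_inl, sympForm_single_inl,
      Matrix.mulVec_single_one, Matrix.col_apply] at this
    simp only [Pi.single_apply, Sum.inr.injEq, mul_one] at this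
    have h3 : a * (a * (s : MI) (Sum.inr i) (Sum.inr j)) = a * if i = j then 1 else 0 := by rw [this]
    rw [← mul_assoc, ha2, one_mul] at h3
    rw [h3]
    split <;> simp
  set B : Matrix (Fin m) (Fin m) F := Matrix.of fun i j => a * (s : MI) (Sum.inl i) (Sum.inr j)
  have hs : (s : MI) = a • Matrix.fromBlocks 1 B 0 1 := by
    ext (x | x) (y | y)
    · rw [hcol]; simp [Matrix.one_apply]
    · simp only [Matrix.smul_apply, Matrix.fromBlocks_apply₁₂, B, Matrix.of_apply, smul_eq_mul]
      rw [← mul_assoc, ha2, one_mul]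
    · rw [hcol]; simp
    · rw [hfr]; simp [Matrix.one_apply]
  -- commuting with the Levi transvections
  have hlevi : ∀ i j : Fin m, i < j → ∀ k l,
      (if k = i then B j l else 0) + (if l = i then B k j else 0) = 0 := by
    intro i j hij k l
    set L := sympLevi m (Matrix.SpecialLinearGroup.toGL
      (Matrix.SpecialLinearGroup.transvection hij.ne (1 : F)))
    have hcL := h L (levi_mem_uniS hij 1)
    have e : π (s * L * s⁻¹) = π L := by rw [map_mul, map_mul, map_inv, hcL.eq, mul_inv_cancel_right]
    set N : MI := Matrix.single (Sum.inl i) (Sum.inl j) (1 : F) + Matrix.single (Sum.inr j) (Sum.inr i) (-1)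
    have hN : (L : MI) = 1 + N := levi_transvection_coe hij.ne 1
    have hNN : N * N = 0 := by
      simp [N, add_mul, mul_add, hij.ne, hij.ne']
    have hsi : ((s⁻¹ : Sp) : MI) * (s : MI) = 1 := by rw [← Submonoid.coe_mul, inv_mul_cancel]; rfl
    have e2 := eq_of_pi_eq hm0 (A := (s : MI) * N * ((s⁻¹ : Sp) : MI)) (B := N)
      (by rw [Submonoid.coe_mul, Submonoid.coe_mul, hN, mul_add, add_mul, mul_one, ← Submonoid.coe_mul,
        mul_inv_cancel]; rfl)
      hN (by
        simp only [mul_assoc]
        rw [← mul_assoc ((s⁻¹ : Sp) : MI), hsi, one_mul, ← mul_assoc N, hNN, zero_mul, mul_zero])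
      hNN e
    have e3 : (s : MI) * (L : MI) = (L : MI) * (s : MI) := by
      rw [← Submonoid.coe_mul, ← Submonoid.coe_mul]
      exact congrArg _ (mul_inv_eq_iff_eq_mul.1 e2)
    rw [hN, mul_add, add_mul, one_mul, mul_one, add_left_cancel_iff, hs, Matrix.smul_mul,
      Matrix.mul_smul] at e3
    have ha0 : a ≠ 0 := fun h0 => by rw [h0, mul_zero] at ha2; exact zero_ne_one ha2
    have e4 := congrFun (congrFun (smul_right_injective MI ha0 e3) (Sum.inl k)) (Sum.inr l)
    by_cases hk : k = i <;> by_cases hl : l = i <;>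
      simp [N, Matrix.mul_apply, Matrix.single_apply, Matrix.add_apply, add_mul, mul_add,
        Finset.sum_add_distrib, Fintype.sum_sum_type, hk, hl, Ne.symm] at e4 ⊢ <;>
      first | linear_combination e4 | linear_combination (-1 : F) * e4 | assumption
  have hB0 : ∀ j l, o < j → l ≠ o → B j l = 0 := fun j l hj hl => by
    simpa [hl] using hlevi o j hj o l
  have hB1 : ∀ j l, o1 < j → B j l = 0 := fun j l hj => by
    rcases eq_or_ne l o with rfl | hl
    · have := hlevi o1 j hj o1 o
      simpa [show o ≠ o1 by simp [o, o1, Fin.ext_iff]] using this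
    · exact hB0 j l (lt_trans (by simp [o, o1, Fin.lt_def]) hj) hl
  have hBo : ∀ k l, B k l = B l k := by
    intro k l
    have := sympForm_map s (Pi.single (Sum.inr k) 1) (Pi.single (Sum.inr l) 1)
    rw [sympForm_single_inr, sympForm_eq_sum] at this
    simp only [Matrix.mulVec_single_one, Matrix.col_apply, hfr] at this
    simp only [ite_mul, zero_mul, mul_ite, mul_zero, Finset.sum_sub_distrib, Finset.sum_ite_eq',
      Finset.mem_univ, if_true, Pi.single_apply, reduceCtorEq, if_false, neg_zero] at this
    simp only [B, Matrix.of_apply]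
    linear_combination this
  have h2b : (2 : F) * B o1 o = 0 := by
    have := hlevi o o1 (by simp [o, o1, Fin.lt_def]) o o
    rw [if_pos rfl, if_pos rfl, hBo o o1] at this
    linear_combination this
  refine ⟨a, B o o, B o1 o, by rw [sq]; exact ha2, h2b, ?_⟩
  rw [hs]
  congr 1
  ext (x | x) (y | y)
  · simp [Matrix.one_apply, Matrix.single_apply]
  · simp only [Matrix.fromBlocks_apply₁₂, Matrix.add_apply, Matrix.single_apply, Matrix.one_apply,
      reduceCtorEq, if_false, zero_add, Sum.inl.injEq, Sum.inr.injEq]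
    by_cases hx : x = o
    · subst hx
      by_cases hy : y = o
      · subst hy; simp [show o1 ≠ o by simp [o, o1, Fin.ext_iff]]
      by_cases hy1 : y = o1
      · subst hy1; simp [hBo o o1, Ne.symm hy]
      · rw [hBo, hB1 y o (by simp only [o, o1, Fin.ext_iff, Fin.lt_def] at *; omega)]
        simp [Ne.symm hy, Ne.symm hy1]
    · have hxo : o < x := by simp only [o, Fin.ext_iff, Fin.lt_def] at *; omega
      by_cases hy : y = o
      · subst hy
        by_cases hx1 : x = o1
        · subst hx1; simp [Ne.symm hx]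
        · rw [hB1 x o (by simp only [o, o1, Fin.ext_iff, Fin.lt_def] at *; omega)]
          simp [Ne.symm hx, Ne.symm hx1]
      · rw [hB0 x y hxo hy]
        simp [Ne.symm hy, Ne.symm hx]
  · simp [Matrix.one_apply, Matrix.single_apply]
  · simp [Matrix.one_apply, Matrix.single_apply]

end Cfsg.Agent.Classical.PSpAut
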