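import Cfsg.Prelude.Def_LinearParabolics
import Cfsg.Agent.Lib.Classical.JacobiTrudi

/-!
Double cosets of standard parabolic subgroups of `GL n`: Bruhat decomposition and the count by matrices
with given margins.
-/

set_option autoImplicit false

namespace Cfsg.Agent.Classical.ParCoset

open Cfsg Matrix

variable {n : ℕ}

/-- Partial sum. -/
def psum (μ : Fin n → ℕ) (j : Fin n) : ℕ := ∑ k ∈ Finset.univ.filter (fun k : Fin n => k ≤ j), μ k

lemma compLabel_eq (μ : Fin n → ℕ) (i : Fin n) :
    compLabel μ i = (Finset.univ.filter fun j : Fin n => psum μ j ≤ i.val).card := rfl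

lemma psum_mono (μ : Fin n → ℕ) {j j' : Fin n} (h : j ≤ j') : psum μ j ≤ psum μ j' :=
  Finset.sum_le_sum_of_subset fun k hk => by
    simp only [Finset.mem_filter, Finset.mem_univ, true_and] at hk ⊢
    exact hk.trans h

lemma compLabel_le_iff (μ : Fin n → ℕ) (i j : Fin n) :
    compLabel μ i ≤ j.val ↔ i.val < psum μ j := by
  rw [compLabel_eq]
  constructor
  · intro h
    by_contra hc
    have hsub : Finset.Iic j ⊆ Finset.univ.filter fun j' : Fin n => psum μ j' ≤ i.val := by
      intro k hk
      simp only [Finset.mem_Iic] at hk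
      simp only [Finset.mem_filter, Finset.mem_univ, true_and]
      exact (psum_mono μ hk).trans (Nat.not_lt.1 hc)
    have := Finset.card_le_card hsub
    rw [Fin.card_Iic] at this
    omega
  · intro h
    have hsub : (Finset.univ.filter fun j' : Fin n => psum μ j' ≤ i.val) ⊆ Finset.Iio j := by
      intro k hk
      simp only [Finset.mem_filter, Finset.mem_univ, true_and] at hk
      simp only [Finset.mem_Iio]
      by_contra hc
      have := psum_mono μ (not_lt.1 hc)
      omega
    have := Finset.card_le_card hsub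
    rw [Fin.card_Iio] at this
    omega

lemma compLabel_mono (μ : Fin n → ℕ) : Monotone (compLabel μ) := by
  intro i i' h
  rw [compLabel_eq, compLabel_eq]
  refine Finset.card_le_card fun k hk => ?_
  simp only [Finset.mem_filter, Finset.mem_univ, true_and] at hk ⊢
  exact hk.trans h

lemma psum_last (μ : Fin n → ℕ) {j : Fin n} (hj : j.val + 1 = n) : psum μ j = ∑ k, μ k := by
  unfold psum
  refine Finset.sum_congr (Finset.filter_true_of_mem fun k _ => ?_) fun _ _ => rfl
  rw [Fin.le_def]
  have := k.isLt
  omega

lemma compLabel_lt {μ : Fin n → ℕ} (hμ : ∑ k, μ k = n) (i : Fin n) : compLabel μ i < n := by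
  have := i.isLt
  let j : Fin n := ⟨n - 1, by omega⟩
  have h : compLabel μ i ≤ j.val := (compLabel_le_iff μ i j).2 (by
    rw [psum_last μ (show j.val + 1 = n by simp [j]; omega), hμ]; omega)
  simp only [j] at h
  omega

/-- The label as an element of `Fin n`. -/
def lab {μ : Fin n → ℕ} (hμ : ∑ k, μ k = n) (i : Fin n) : Fin n := ⟨compLabel μ i, compLabel_lt hμ i⟩

lemma card_lab_fibre {μ : Fin n → ℕ} (hμ : ∑ k, μ k = n) (j : Fin n) :
    (Finset.univ.filter fun i => lab hμ i = j).card = μ j := by
  classical
  have hle : ∀ j : Fin n, psum μ j ≤ n := fun j => by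
    calc psum μ j ≤ ∑ k, μ k := Finset.sum_le_sum_of_subset (Finset.subset_univ _)
      _ = n := hμ
  have hbelow : ∀ j : Fin n, (Finset.univ.filter fun i => lab hμ i ≤ j).card = psum μ j := by
    intro j
    rw [show (Finset.univ.filter fun i => lab hμ i ≤ j) =
      Finset.univ.filter fun i : Fin n => i.val < psum μ j from
      Finset.filter_congr fun i _ => compLabel_le_iff μ i j]
    rw [Fin.card_filter_val_lt, min_eq_right (hle j)]
  have hp : psum μ j = (∑ k ∈ Finset.univ.filter (fun k : Fin n => k < j), μ k) + μ j := by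
    unfold psum
    rw [show (Finset.univ.filter fun k : Fin n => k ≤ j) =
      insert j (Finset.univ.filter fun k : Fin n => k < j) by
        ext k; simp only [Finset.mem_filter, Finset.mem_univ, true_and, Finset.mem_insert]
        exact le_iff_eq_or_lt, Finset.sum_insert (by simp)]
    omega
  have hsplit : (Finset.univ.filter fun i => lab hμ i ≤ j).card =
      (Finset.univ.filter fun i => lab hμ i < j).card +
        (Finset.univ.filter fun i => lab hμ i = j).card := by
    rw [← Finset.card_union_of_disjoint (Finset.disjoint_filter.2 fun _ _ h1 h2 => h1.ne h2)]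
    congr 1
    ext i
    simp only [Finset.mem_filter, Finset.mem_univ, true_and, Finset.mem_union]
    exact le_iff_lt_or_eq
  rw [hbelow, hp] at hsplit
  suffices (Finset.univ.filter fun i => lab hμ i < j).card =
      ∑ k ∈ Finset.univ.filter (fun k : Fin n => k < j), μ k by omega
  rcases Nat.eq_zero_or_pos j.val with h0 | h0
  · have : ∀ k : Fin n, ¬ k < j := fun k hk => by rw [Fin.lt_def] at hk; omega
    simp [this]
  · let j' : Fin n := ⟨j.val - 1, by omega⟩
    have e : ∀ k : Fin n, k < j ↔ k ≤ j' := fun k => by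
      simp only [j', Fin.lt_def, Fin.le_def]; omega
    simp only [e]
    exact hbelow j'

section Matrices

variable {F : Type*} [Field F]

lemma mem_parabolicGL {μ : Fin n → ℕ} {g : GL (Fin n) F} :
    g ∈ parabolicGL n F μ ↔ (g : Matrix (Fin n) (Fin n) F).BlockTriangular (compLabel μ) := Iff.rfl

lemma upper_le_parabolic (μ : Fin n → ℕ) : upperTriangularGL n F ≤ parabolicGL n F μ := by
  intro g hg i j hij
  exact hg ((compLabel_mono μ).reflect_lt hij)

/-- Permutation matrix sending the `j`-th basis vector to the `σ j`-th. -/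
def permGL : Equiv.Perm (Fin n) →* GL (Fin n) F where
  toFun σ :=
    { val := Matrix.of fun i j => if i = σ j then 1 else 0
      inv := Matrix.of fun i j => if i = σ⁻¹ j then 1 else 0
      val_inv := by ext i j; simp [Matrix.mul_apply, Matrix.one_apply]
      inv_val := by ext i j; simp [Matrix.mul_apply, Matrix.one_apply] }
  map_one' := Units.ext (by ext i j; by_cases h : i = j <;> simp [Matrix.one_apply, h])
  map_mul' σ τ := Units.ext (by ext i j; by_cases h : i = σ (τ j) <;> simp [Matrix.mul_apply, h])

lemma permGL_apply (σ : Equiv.Perm (Fin n)) (i j : Fin n) :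
    (permGL σ : GL (Fin n) F).1 i j = if i = σ j then 1 else 0 := rfl

lemma permGL_mem {μ : Fin n → ℕ} {σ : Equiv.Perm (Fin n)} (h : ∀ j, compLabel μ (σ j) = compLabel μ j) :
    (permGL σ : GL (Fin n) F) ∈ parabolicGL n F μ := by
  intro i j hij
  rw [permGL_apply, if_neg]
  rintro rfl
  rw [h] at hij
  exact lt_irrefl _ hij

/-- The first `k` columns are standard vectors in distinct cleared rows. -/
def Mono (k : ℕ) (g : Matrix (Fin n) (Fin n) F) : Prop :=
  ∀ c : Fin n, c.val < k → ∃ r, (∀ i, g i c = if i = r then 1 else 0) ∧ ∀ j, j ≠ c → g r j = 0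

lemma exists_mono_form (g : GL (Fin n) F) (k : ℕ) (hk : k ≤ n) :
    ∃ b ∈ upperTriangularGL n F, ∃ b' ∈ upperTriangularGL n F,
      Mono k (b * g * b' : GL (Fin n) F).1 := by
  classical
  induction k with
  | zero => exact ⟨1, one_mem _, 1, one_mem _, fun c hc => absurd hc (Nat.not_lt_zero _)⟩
  | succ k ih =>
    obtain ⟨b, hb, b', hb', hm⟩ := ih (by omega)
    set G : GL (Fin n) F := b * g * b'
    set col : Fin n := ⟨k, by omega⟩ with hcol
    have hex : ∃ r, G.1 r col ≠ 0 := by
      by_contra h
      push_neg at h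
      have hdet : G.1.det = 0 := Matrix.det_eq_zero_of_column_eq_zero col h
      exact (Matrix.isUnit_iff_isUnit_det _ |>.1 G.isUnit).ne_zero hdet
    obtain ⟨r, hr, hrmax⟩ := Finset.exists_max_image (Finset.univ.filter fun i => G.1 i col ≠ 0) id
      (by obtain ⟨r, hr⟩ := hex; exact ⟨r, by simp [hr]⟩)
    simp only [Finset.mem_filter, Finset.mem_univ, true_and, id] at hr hrmax
    have hbelow : ∀ i, r < i → G.1 i col = 0 := fun i hi => by
      by_contra h
      exact absurd (hrmax i h) (not_le.2 hi)
    -- the row `r` vanishes on the treated columns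
    have hrow : ∀ c : Fin n, c.val < k → G.1 r c = 0 := by
      intro c hc
      obtain ⟨r', h1, h2⟩ := hm c hc
      rw [h1, if_neg]
      rintro rfl
      exact hr (h2 col (by rw [Ne, Fin.ext_iff, hcol]; simp only; omega))
    let w : Fin n → F := fun i =>
      if i = r then (G.1 r col)⁻¹ else if i < r then -(G.1 i col) / G.1 r col else 0
    let L : Matrix (Fin n) (Fin n) F := Matrix.updateCol 1 r w
    have hLt : L.BlockTriangular id := by
      intro i j hij
      simp only [L, id, Matrix.updateCol_apply] at hij ⊢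
      split_ifs with h
      · subst h
        simp only [w, if_neg hij.ne', if_neg (not_lt.2 hij.le)]
      · exact Matrix.one_apply_ne hij.ne'
    have hLd : L.det ≠ 0 := by
      rw [Matrix.det_of_upperTriangular hLt]
      refine Finset.prod_ne_zero_iff.2 fun i _ => ?_
      simp only [L, Matrix.updateCol_apply]
      split_ifs with h
      · subst h
        simp [w, hr]
      · simp
    let bL : GL (Fin n) F := Matrix.GeneralLinearGroup.mkOfDetNeZero L hLd
    have hG1 : ∀ i j, (bL * G : GL (Fin n) F).1 i j =
        if i = r then (G.1 r col)⁻¹ * G.1 r j else G.1 i j + w i * G.1 r j := by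
      intro i j
      show (L * G.1) i j = _
      simp only [Matrix.mul_apply, L, Matrix.updateCol_apply]
      rw [← Finset.sum_erase_add _ _ (Finset.mem_univ r), if_pos rfl]
      rw [Finset.sum_congr rfl (fun m hm' => by
        rw [if_neg (Finset.ne_of_mem_erase hm'), Matrix.one_apply, ite_mul, one_mul, zero_mul])]
      split_ifs with h
      · subst h
        rw [Finset.sum_eq_zero (fun m hm' => by rw [if_neg (Finset.ne_of_mem_erase hm').symm]), zero_add]
        simp [w]
      · rw [Finset.sum_ite_eq, if_pos (Finset.mem_erase.2 ⟨h, Finset.mem_univ _⟩)]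
    set G1 : GL (Fin n) F := bL * G with hG1def
    let R : Matrix (Fin n) (Fin n) F :=
      1 - Matrix.of fun a j => if a = col ∧ col < j then G1.1 r j else 0
    have hRt : R.BlockTriangular id := by
      intro i j hij
      simp only [R, id, Matrix.sub_apply, Matrix.of_apply] at hij ⊢
      rw [Matrix.one_apply_ne hij.ne', if_neg, sub_zero]
      rintro ⟨rfl, h⟩
      exact absurd h (not_lt.2 hij.le)
    have hRd : R.det ≠ 0 := by
      rw [Matrix.det_of_upperTriangular hRt]
      refine Finset.prod_ne_zero_iff.2 fun i _ => ?_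
      simp only [R, Matrix.sub_apply, Matrix.of_apply, Matrix.one_apply_eq]
      rw [if_neg, sub_zero]
      · exact one_ne_zero
      · rintro ⟨rfl, h⟩; exact lt_irrefl _ h
    let bR : GL (Fin n) F := Matrix.GeneralLinearGroup.mkOfDetNeZero R hRd
    refine ⟨bL * b, mul_mem (fun i j h => hLt h) hb, b' * bR, mul_mem hb' (fun i j h => hRt h), ?_⟩
    have hprod : bL * b * g * (b' * bR) = G1 * bR := by simp [hG1def, G, mul_assoc]
    rw [hprod]
    have hG2 : ∀ i j, (G1 * bR : GL (Fin n) F).1 i j =
        G1.1 i j - if col < j then G1.1 i col * G1.1 r j else 0 := by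
      intro i j
      show (G1.1 * R) i j = _
      simp only [R]
      rw [Matrix.mul_sub, Matrix.mul_one, Matrix.sub_apply, Matrix.mul_apply]
      simp only [Matrix.of_apply]
      congr 1
      split_ifs with h
      · rw [Finset.sum_eq_single col (fun a _ ha => by rw [if_neg (fun hh => ha hh.1), mul_zero]) (by simp)]
        rw [if_pos ⟨rfl, h⟩]
      · exact Finset.sum_eq_zero fun a _ => by rw [if_neg (fun hh => h hh.2), mul_zero]
    have hcolG1 : ∀ i, G1.1 i col = if i = r then 1 else 0 := by
      intro i
      rw [hG1]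
      split_ifs with h
      · exact inv_mul_cancel₀ hr
      · simp only [w, if_neg h]
        split_ifs with h'
        · rw [div_mul_cancel₀ _ hr, add_neg_cancel]
        · rw [zero_mul, add_zero]
          exact hbelow i (lt_of_le_of_ne (not_lt.1 h') (Ne.symm h))
    intro c hc
    rcases eq_or_lt_of_le (Nat.lt_succ_iff.1 hc) with hck | hck
    · have hc' : c = col := Fin.ext hck
      subst hc'
      refine ⟨r, fun i => ?_, fun j hj => ?_⟩
      · rw [hG2, if_neg (lt_irrefl _), sub_zero, hcolG1]
      · rw [hG2, hcolG1, if_pos rfl]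
        rcases lt_or_gt_of_ne hj with h | h
        · rw [if_neg (not_lt.2 h.le), sub_zero, hG1, if_pos rfl, hrow j h, mul_zero]
        · rw [if_pos h, one_mul, sub_self]
    · obtain ⟨r', h1, h2⟩ := hm c hck
      have hne : r' ≠ r := by
        rintro rfl
        exact hr (h2 col (by rw [Ne, Fin.ext_iff, hcol]; simp only; omega))
      have hr'col : G1.1 r' col = 0 := by rw [hcolG1, if_neg hne]
      have hG1r' : ∀ j, G1.1 r' j = G.1 r' j := fun j => by
        rw [hG1, if_neg hne]
        simp only [w, if_neg hne]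
        have : G.1 r' col = 0 := h2 col (by rw [Ne, Fin.ext_iff, hcol]; simp only; omega)
        simp [this]
      refine ⟨r', fun i => ?_, fun j hj => ?_⟩
      · rw [hG2, if_neg (by rw [Fin.lt_def, hcol]; simp only; omega), sub_zero, hG1, hrow c hck,
          mul_zero, mul_zero, add_zero]
        split_ifs with h h' <;> first | (subst h; exact absurd h'.symm hne) | rfl | skip
        · rw [h1, if_pos ‹_›]
        · rw [h1, if_neg ‹_›]
      · rw [hG2, hr'col, hG1r', h2 j hj]
        simp

/-- Bruhat decomposition. -/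
theorem bruhat (g : GL (Fin n) F) :
    ∃ b ∈ upperTriangularGL n F, ∃ σ : Equiv.Perm (Fin n), ∃ b' ∈ upperTriangularGL n F,
      g = b * permGL σ * b' := by
  classical
  obtain ⟨b, hb, b', hb', hm⟩ := exists_mono_form g n le_rfl
  choose π h1 h2 using fun c : Fin n => hm c c.isLt
  have hinj : Function.Injective π := by
    intro c c' h
    by_contra hne
    have e1 := h1 c (π c)
    rw [if_pos rfl, h, h2 c' c hne] at e1
    exact zero_ne_one e1
  let σ : Equiv.Perm (Fin n) := Equiv.ofBijective π (Finite.injective_iff_bijective.1 hinj)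
  refine ⟨b⁻¹, inv_mem hb, σ, b'⁻¹, inv_mem hb', ?_⟩
  have : b * g * b' = permGL σ := Units.ext (by ext i c; rw [h1, permGL_apply]; rfl)
  rw [← this]
  simp [mul_assoc]

end Matrices

section Rank

variable {F : Type*} [Field F]

/-- The counts attached to a permutation and two labellings. -/
def cnt (A B : Fin n → ℕ) (k l : ℕ) : ℕ :=
  (Finset.univ.filter fun j => k ≤ A j ∧ B j < l).card

/-- Rank of the corner for rows labelled `≥ k` and columns labelled `< l`. -/
noncomputable def corner (la lb : Fin n → ℕ) (k l : ℕ) (g : Matrix (Fin n) (Fin n) F) : ℕ :=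
  (g.submatrix (Subtype.val : {i // k ≤ la i} → Fin n) (Subtype.val : {j // lb j < l} → Fin n)).rank

lemma corner_perm (la lb : Fin n → ℕ) (k l : ℕ) (σ : Equiv.Perm (Fin n)) :
    corner la lb k l (permGL σ : GL (Fin n) F).1 = cnt (la ∘ σ) lb k l := by
  classical
  set S := {j : Fin n // k ≤ la (σ j) ∧ lb j < l}
  have hcard : cnt (la ∘ σ) lb k l = Fintype.card S := by
    rw [Fintype.card_subtype]; rfl
  rw [hcard]
  refine le_antisymm ?_ ?_
  · let E : Matrix {i // k ≤ la i} S F := Matrix.of fun i s => if i.1 = σ s.1 then 1 else 0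
    let D : Matrix S {j // lb j < l} F := Matrix.of fun s c => if s.1 = c.1 then 1 else 0
    have h : ((permGL σ : GL (Fin n) F).1.submatrix (Subtype.val : {i // k ≤ la i} → Fin n)
        (Subtype.val : {j // lb j < l} → Fin n)) = E * D := by
      ext i c
      simp only [Matrix.submatrix_apply, Matrix.mul_apply, E, D, Matrix.of_apply, permGL_apply]
      by_cases hic : i.1 = σ c.1
      · rw [if_pos hic, Finset.sum_eq_single (⟨c.1, hic ▸ i.2, c.2⟩ : S)]
        · simp [hic]
        · intro s _ hs
          rw [if_neg (c := s.1 = c.1) (fun h => hs (Subtype.ext h)), mul_zero]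
        · simp
      · rw [if_neg hic]
        refine (Finset.sum_eq_zero fun s _ => ?_).symm
        by_cases hs : s.1 = c.1
        · rw [if_neg (hs ▸ hic), zero_mul]
        · rw [if_neg hs, mul_zero]
    unfold corner
    rw [h]
    exact (Matrix.rank_mul_le_left E D).trans (Matrix.rank_le_card_width E)
  · let f : S → {i // k ≤ la i} := fun s => ⟨σ s.1, s.2.1⟩
    let f' : S → {j // lb j < l} := fun s => ⟨s.1, s.2.2⟩
    have h : (((permGL σ : GL (Fin n) F).1.submatrix (Subtype.val : {i // k ≤ la i} → Fin n)
        (Subtype.val : {j // lb j < l} → Fin n)).submatrix f f') = 1 := by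
      ext s t
      by_cases hst : s = t
      · subst hst; simp [f, f', permGL_apply]
      · have hst' : s.1 ≠ t.1 := fun h => hst (Subtype.ext h)
        simp [f, f', permGL_apply, hst, hst']
    calc Fintype.card S = (1 : Matrix S S F).rank := Matrix.rank_one.symm
      _ ≤ corner la lb k l (permGL σ : GL (Fin n) F).1 := by
        rw [← h]; exact Matrix.rank_submatrix_le _ _ _

lemma corner_mul_le (la lb : Fin n → ℕ) (k l : ℕ) {p q g : Matrix (Fin n) (Fin n) F}
    (hp : p.BlockTriangular la) (hq : q.BlockTriangular lb) :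
    corner la lb k l (p * g * q) ≤ corner la lb k l g := by
  classical
  have h : (p * g * q).submatrix (Subtype.val : {i // k ≤ la i} → Fin n)
      (Subtype.val : {j // lb j < l} → Fin n) =
      p.submatrix (Subtype.val : {i // k ≤ la i} → Fin n) (Subtype.val : {i // k ≤ la i} → Fin n) *
      (g.submatrix (Subtype.val : {i // k ≤ la i} → Fin n) (Subtype.val : {j // lb j < l} → Fin n) *
       q.submatrix (Subtype.val : {j // lb j < l} → Fin n) (Subtype.val : {j // lb j < l} → Fin n)) := by
    ext i j
    simp only [Matrix.submatrix_apply, Matrix.mul_apply, Finset.sum_mul, Finset.mul_sum]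
    rw [Finset.sum_comm]
    rw [← Finset.sum_subtype (p := fun a => k ≤ la a) (Finset.univ.filter fun a => k ≤ la a) (by simp)
      (fun a => ∑ c : {j // lb j < l}, p i.1 a * (g a c.1 * q c.1 j.1))]
    rw [Finset.sum_filter]
    refine Finset.sum_congr rfl fun a _ => ?_
    by_cases ha : k ≤ la a
    · rw [if_pos ha, ← Finset.sum_subtype (p := fun c => lb c < l) (Finset.univ.filter fun c => lb c < l)
        (by simp) (fun c => p i.1 a * (g a c * q c j.1)), Finset.sum_filter]
      refine Finset.sum_congr rfl fun c _ => ?_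
      by_cases hc : lb c < l
      · rw [if_pos hc, mul_assoc]
      · rw [if_neg hc, hq (show lb j.1 < lb c from lt_of_lt_of_le j.2 (not_lt.1 hc)), mul_zero]
    · rw [if_neg ha]
      refine Finset.sum_eq_zero fun c _ => ?_
      rw [hp (show la a < la i.1 from lt_of_lt_of_le (not_le.1 ha) i.2), zero_mul, zero_mul]
  unfold corner
  rw [h]
  exact (Matrix.rank_mul_le_right _ _).trans (Matrix.rank_mul_le_left _ _)

lemma corner_eq {α β : Fin n → ℕ} (k l : ℕ) {p q : GL (Fin n) F} (hp : p ∈ parabolicGL n F α)
    (hq : q ∈ parabolicGL n F β) (g : GL (Fin n) F) :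
    corner (compLabel α) (compLabel β) k l (p * g * q : GL (Fin n) F).1 =
      corner (compLabel α) (compLabel β) k l g.1 := by
  refine le_antisymm (corner_mul_le _ _ k l hp hq) ?_
  calc corner (compLabel α) (compLabel β) k l g.1
      = corner (compLabel α) (compLabel β) k l (p⁻¹ * (p * g * q) * q⁻¹ : GL (Fin n) F).1 := by
        simp [mul_assoc]
    _ ≤ _ := corner_mul_le _ _ k l (inv_mem hp : p⁻¹ ∈ parabolicGL n F α)
        (inv_mem hq : q⁻¹ ∈ parabolicGL n F β)

end Rank

section Orbits

variable {F : Type*} [Field F] {α β : Fin n → ℕ} (hα : ∑ k, α k = n) (hβ : ∑ k, β k = n)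

/-- Pairs of labels of a permutation. -/
def pairLab (σ : Equiv.Perm (Fin n)) (j : Fin n) : Fin n × Fin n := (lab hα (σ j), lab hβ j)

/-- Matrix of a permutation. -/
def matsOf (σ : Equiv.Perm (Fin n)) : JT.Mats α β :=
  ⟨fun a b => (Finset.univ.filter fun j => pairLab hα hβ σ j = (a, b)).card, fun a => by
    rw [← card_lab_fibre hα a, ← Finset.card_equiv σ (s := Finset.univ.filter fun j => lab hα (σ j) = a)
      (fun j => by simp), Finset.card_eq_sum_card_fiberwise
      (f := fun j => lab hβ j) (t := Finset.univ) (fun _ _ => Finset.mem_coe.2 (Finset.mem_univ _))]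
    refine Finset.sum_congr rfl fun b _ => ?_
    rw [Finset.filter_filter]
    simp [pairLab, Prod.ext_iff], fun b => by
    rw [← card_lab_fibre hβ b, Finset.card_eq_sum_card_fiberwise
      (f := fun j => lab hα (σ j)) (t := Finset.univ) (fun _ _ => Finset.mem_coe.2 (Finset.mem_univ _))]
    refine Finset.sum_congr rfl fun a _ => ?_
    rw [Finset.filter_filter]
    simp [pairLab, Prod.ext_iff, and_comm]⟩

lemma matsOf_surjective (M : JT.Mats α β) : ∃ σ, matsOf hα hβ σ = M := by
  classical
  -- the cells
  let C := Σ p : Fin n × Fin n, Fin (M.1 p.1 p.2)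
  have hα' : ∀ a, Fintype.card {c : C // c.1.1 = a} = Fintype.card {i // lab hα i = a} := by
    intro a
    rw [Fintype.card_subtype (fun i => lab hα i = a), card_lab_fibre, ← M.2.1 a]
    let e : {c : C // c.1.1 = a} ≃ Σ b : Fin n, Fin (M.1 a b) :=
      { toFun := fun c => ⟨c.1.1.2, Fin.cast (by rw [c.2]) c.1.2⟩
        invFun := fun d => ⟨⟨(a, d.1), d.2⟩, rfl⟩
        left_inv := by rintro ⟨⟨⟨x, y⟩, z⟩, rfl⟩; rfl
        right_inv := by rintro ⟨b, z⟩; rfl }
    rw [Fintype.card_congr e, Fintype.card_sigma]
    simp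
  have hβ' : ∀ b, Fintype.card {c : C // c.1.2 = b} = Fintype.card {i // lab hβ i = b} := by
    intro b
    rw [Fintype.card_subtype (fun i => lab hβ i = b), card_lab_fibre, ← M.2.2 b]
    let e : {c : C // c.1.2 = b} ≃ Σ a : Fin n, Fin (M.1 a b) :=
      { toFun := fun c => ⟨c.1.1.1, Fin.cast (by rw [c.2]) c.1.2⟩
        invFun := fun d => ⟨⟨(d.1, b), d.2⟩, rfl⟩
        left_inv := by rintro ⟨⟨⟨x, y⟩, z⟩, rfl⟩; rfl
        right_inv := by rintro ⟨a, z⟩; rfl }
    rw [Fintype.card_congr e, Fintype.card_sigma]
    simp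
  let eA : C ≃ Fin n := Equiv.ofFiberEquiv (f := fun c : C => c.1.1) (g := lab hα)
    (fun a => Fintype.equivOfCardEq (hα' a))
  let eB : C ≃ Fin n := Equiv.ofFiberEquiv (f := fun c : C => c.1.2) (g := lab hβ)
    (fun b => Fintype.equivOfCardEq (hβ' b))
  refine ⟨eB.symm.trans eA, Subtype.ext (funext fun a => funext fun b => ?_)⟩
  show (Finset.univ.filter fun j => pairLab hα hβ (eB.symm.trans eA) j = (a, b)).card = M.1 a b
  have hA : ∀ c, lab hα (eA c) = c.1.1 := fun c => Equiv.ofFiberEquiv_map _ c
  have hB : ∀ c, lab hβ (eB c) = c.1.2 := fun c => Equiv.ofFiberEquiv_map _ c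
  rw [← Fintype.card_subtype]
  refine (Fintype.card_congr ?_).trans (Fintype.card_fin _)
  refine (Equiv.subtypeEquiv eB.symm (p := fun j => pairLab hα hβ (eB.symm.trans eA) j = (a, b))
    (q := fun c : C => c.1 = (a, b)) fun j => ?_).trans
    { toFun := fun c => Fin.cast (by rw [c.2]) c.1.2
      invFun := fun z => ⟨⟨(a, b), z⟩, rfl⟩
      left_inv := by rintro ⟨⟨p, z⟩, h⟩; change p = (a, b) at h; subst h; rfl
      right_inv := fun z => rfl }
  simp only [pairLab, Equiv.trans_apply, hA]
  have hj : lab hβ j = (eB.symm j).1.2 := by rw [← hB, Equiv.apply_symm_apply]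
  rw [hj]

/-- Equal matrices give the same double coset. -/
lemma exists_factor {σ σ' : Equiv.Perm (Fin n)} (h : matsOf hα hβ σ = matsOf hα hβ σ') :
    ∃ p ∈ parabolicGL n F α, ∃ q ∈ parabolicGL n F β,
      (permGL σ' : GL (Fin n) F) = p * permGL σ * q := by
  classical
  have hc : ∀ p, Fintype.card {j // pairLab hα hβ σ' j = p} = Fintype.card {j // pairLab hα hβ σ j = p} := by
    rintro ⟨a, b⟩
    rw [Fintype.card_subtype, Fintype.card_subtype]
    exact (congrFun (congrFun (congrArg Subtype.val h) a) b).symm
  let t : Equiv.Perm (Fin n) := Equiv.ofFiberEquiv (f := pairLab hα hβ σ') (g := pairLab hα hβ σ)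
    (fun p => Fintype.equivOfCardEq (hc p))
  have ht : ∀ j, pairLab hα hβ σ (t j) = pairLab hα hβ σ' j := fun j => Equiv.ofFiberEquiv_map _ j
  have htb : ∀ j, compLabel β (t j) = compLabel β j := fun j =>
    congrArg (fun p : Fin n × Fin n => p.2.val) (ht j)
  have hta : ∀ j, compLabel α (σ (t j)) = compLabel α (σ' j) := fun j =>
    congrArg (fun p : Fin n × Fin n => p.1.val) (ht j)
  refine ⟨permGL (σ' * t⁻¹ * σ⁻¹), permGL_mem fun i => ?_, permGL t, permGL_mem htb, ?_⟩
  · have := hta (t.symm (σ.symm i))
    simp only [Equiv.apply_symm_apply] at this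
    exact this.symm
  · rw [← map_mul, ← map_mul]
    congr 1
    group

/-- Equal double cosets give equal matrices. -/
lemma matsOf_eq {σ σ' : Equiv.Perm (Fin n)} {p q : GL (Fin n) F} (hp : p ∈ parabolicGL n F α)
    (hq : q ∈ parabolicGL n F β) (h : (permGL σ' : GL (Fin n) F) = p * permGL σ * q) :
    matsOf hα hβ σ = matsOf hα hβ σ' := by
  classical
  have hcnt : ∀ k l, cnt (compLabel α ∘ σ) (compLabel β) k l = cnt (compLabel α ∘ σ') (compLabel β) k l := by
    intro k l
    rw [← corner_perm (F := F), ← corner_perm (F := F), h, corner_eq k l hp hq]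
  have key : ∀ (τ : Equiv.Perm (Fin n)) (a b : Fin n),
      (Finset.univ.filter fun j => pairLab hα hβ τ j = (a, b)).card +
        cnt (compLabel α ∘ τ) (compLabel β) (a.val + 1) (b.val + 1) +
        cnt (compLabel α ∘ τ) (compLabel β) a.val b.val =
      cnt (compLabel α ∘ τ) (compLabel β) a.val (b.val + 1) +
        cnt (compLabel α ∘ τ) (compLabel β) (a.val + 1) b.val := by
    intro τ a b
    unfold cnt
    simp only [Finset.card_filter, ← Finset.sum_add_distrib]
    refine Finset.sum_congr rfl fun j _ => ?_
    simp only [pairLab, lab, Prod.ext_iff, Fin.ext_iff, Function.comp]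
    split_ifs <;> omega
  refine Subtype.ext (funext fun a => funext fun b => ?_)
  have e1 := key σ a b
  have e2 := key σ' a b
  simp only [hcnt] at e1
  show (Finset.univ.filter fun j => pairLab hα hβ σ j = (a, b)).card =
    (Finset.univ.filter fun j => pairLab hα hβ σ' j = (a, b)).card
  omega

variable (F)

include hα hβ in
/-- The orbits of `GL n` on pairs of parabolic cosets are counted by matrices with given margins. -/
theorem card_orbits :
    Nat.card (MulAction.orbitRel.Quotient (GL (Fin n) F)
      ((GL (Fin n) F ⧸ parabolicGL n F α) × (GL (Fin n) F ⧸ parabolicGL n F β))) = JT.numMats α β := by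
  classical
  choose sec hsec using matsOf_surjective hα hβ
  let Φ : JT.Mats α β → MulAction.orbitRel.Quotient (GL (Fin n) F)
      ((GL (Fin n) F ⧸ parabolicGL n F α) × (GL (Fin n) F ⧸ parabolicGL n F β)) := fun M =>
    Quotient.mk'' (QuotientGroup.mk 1, QuotientGroup.mk (permGL (sec M)))
  symm
  refine Nat.card_eq_of_bijective Φ ⟨fun M M' h => ?_, fun x => ?_⟩
  · obtain ⟨g, hg⟩ := Quotient.eq''.1 h
    have hg1 : g * 1 ∈ parabolicGL n F α := by
      have := QuotientGroup.eq.1 (congrArg Prod.fst hg).symm
      simpa using this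
    have hg2 : (permGL (sec M))⁻¹ * (g * permGL (sec M')) ∈ parabolicGL n F β :=
      QuotientGroup.eq.1 (congrArg Prod.snd hg).symm
    rw [mul_one] at hg1
    have := matsOf_eq hα hβ (σ := sec M) (σ' := sec M') (p := g⁻¹) (inv_mem hg1) hg2 (by simp [mul_assoc])
    rw [hsec, hsec] at this
    exact this
  · induction x using Quotient.inductionOn' with
    | h x =>
      obtain ⟨x, y⟩ := x
      induction x using QuotientGroup.induction_on with
      | H u =>
        induction y using QuotientGroup.induction_on with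
        | H v =>
          obtain ⟨b, hb, σ, b', hb', hbr⟩ := bruhat (u⁻¹ * v)
          obtain ⟨p, hp, q, hq, hpq⟩ := exists_factor (F := F) hα hβ (σ := sec (matsOf hα hβ σ)) (σ' := σ)
            (hsec _)
          refine ⟨matsOf hα hβ σ, Quotient.sound' ⟨(u * b * p)⁻¹, ?_⟩⟩
          refine Prod.ext ?_ ?_
          · show (QuotientGroup.mk ((u * b * p)⁻¹ * u) : GL (Fin n) F ⧸ parabolicGL n F α) = QuotientGroup.mk 1
            refine QuotientGroup.eq.2 ?_
            simpa [mul_assoc] using mul_mem (upper_le_parabolic α hb) hp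
          · show (QuotientGroup.mk ((u * b * p)⁻¹ * v) : GL (Fin n) F ⧸ parabolicGL n F β) =
              QuotientGroup.mk (permGL (sec (matsOf hα hβ σ)))
            refine QuotientGroup.eq.2 ?_
            have hv : v = u * (b * (p * permGL (sec (matsOf hα hβ σ)) * q) * b') := by
              rw [← hpq, ← hbr, mul_inv_cancel_left]
            generalize (permGL (sec (matsOf hα hβ σ)) : GL (Fin n) F) = W at hv ⊢
            subst hv
            have := inv_mem (mul_mem hq (upper_le_parabolic β hb'))
            convert this using 1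
            simp [mul_assoc]

end Orbits

end Cfsg.Agent.Classical.ParCoset
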