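import Cfsg.Agent.Lib.Spor.Golay.Perm

/-! A cocycle of Parker loop type on the words of the length-24 code vanishing at the extra point. -/

set_option autoImplicit false
set_option maxRecDepth 100000

namespace Cfsg.Agent.Classical.ParkerM23

open Cfsg.Agent.Spor.Golay
open scoped Pointwise

/-! ### The recursive cocycle -/

/-- The word (as a mask) with the given coordinates in the first `k` entries of `B`. -/
def W (B : ℕ → ℕ) : (k : ℕ) → (Fin k → ZMod 2) → ℕ
  | 0, _ => 0
  | k + 1, a => W B k (Fin.init a) ^^^ (if a (Fin.last k) = 1 then B k else 0)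

/-- Half the size of an intersection, modulo 2. -/
def hh (x y : ℕ) : ZMod 2 := ((pop (x &&& y) / 2 : ℕ) : ZMod 2)

/-- Size of a triple intersection, modulo 2. -/
def tt (x y z : ℕ) : ZMod 2 := ((pop (x &&& y &&& z) : ℕ) : ZMod 2)

/-- A quarter of the weight, modulo 2. -/
def qq (x : ℕ) : ZMod 2 := ((pop x / 4 : ℕ) : ZMod 2)

/-- The cocycle, by recursion on the dimension. -/
def th (B : ℕ → ℕ) : (k : ℕ) → (Fin k → ZMod 2) → (Fin k → ZMod 2) → ZMod 2
  | 0, _, _ => 0
  | k + 1, a, b => th B k (Fin.init a) (Fin.init b) +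
      a (Fin.last k) * tt (W B k (Fin.init a)) (B k) (W B k (Fin.init b)) +
      b (Fin.last k) * hh (W B k (Fin.init a)) (B k) +
      a (Fin.last k) * b (Fin.last k) * qq (B k)

theorem init_add {k : ℕ} (a b : Fin (k + 1) → ZMod 2) :
    Fin.init (a + b) = Fin.init a + Fin.init b := rfl

theorem z2 : ∀ x : ZMod 2, x = 0 ∨ x = 1 := by decide

theorem ite_xor : ∀ (s t : ZMod 2) (c : ℕ), (if s + t = 1 then c else 0) =
    (if s = 1 then c else 0) ^^^ (if t = 1 then c else 0) := by
  intro s t c
  rcases z2 s with rfl | rfl <;> rcases z2 t with rfl | rfl <;>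
    simp [show (1 + 1 : ZMod 2) = 0 from rfl]

theorem W_add (B : ℕ → ℕ) : ∀ (k : ℕ) (a b : Fin k → ZMod 2),
    W B k (a + b) = W B k a ^^^ W B k b
  | 0, _, _ => (Nat.xor_self 0).symm
  | k + 1, a, b => by
    simp only [W, init_add, W_add B k, Pi.add_apply]
    generalize W B k (Fin.init a) = x
    generalize W B k (Fin.init b) = y
    rw [ite_xor]
    simp [Nat.xor_assoc, Nat.xor_comm, Nat.xor_left_comm]

theorem W_mem {B : ℕ → ℕ} : ∀ (k : ℕ), (∀ i < k, B i ∈ codeList) → ∀ (a : Fin k → ZMod 2),
    W B k a ∈ codeList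
  | 0, _, _ => mem_codeList.mpr (show isCode 0 = true by decide +kernel)
  | k + 1, hB, a => by
    simp only [W]
    refine xor_mem_codeList (W_mem k (fun i hi => hB i (hi.trans (Nat.lt_succ_self k))) _) ?_
    split
    · exact hB k (Nat.lt_succ_self k)
    · exact mem_codeList.mpr (by decide +kernel)

theorem tt_comm (x y z : ℕ) : tt x y z = tt y x z := by rw [tt, tt, Nat.and_comm x y]

theorem tt_rot (x y z : ℕ) : tt x y z = tt y z x := by
  rw [tt, tt, Nat.and_assoc, Nat.and_comm x (y &&& z)]

theorem tt_right (x y z : ℕ) : tt x y z = tt x z y := by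
  rw [tt, tt, Nat.and_right_comm]

theorem cast_pop_xor (x y : ℕ) :
    ((pop (x ^^^ y) : ℕ) : ZMod 2) = (pop x : ZMod 2) + (pop y : ZMod 2) := by
  have h := congrArg (fun n : ℕ => (n : ZMod 2)) (pop_xor_add x y)
  simp only [Nat.cast_add, Nat.cast_mul] at h
  rw [show ((2 : ℕ) : ZMod 2) = 0 from rfl, zero_mul, add_zero] at h
  exact h

theorem tt_xor_left (x x' y z : ℕ) : tt (x ^^^ x') y z = tt x y z + tt x' y z := by
  simp only [tt, Nat.and_xor_distrib_right]
  exact cast_pop_xor _ _

theorem tt_xor_mid (x y y' z : ℕ) : tt x (y ^^^ y') z = tt x y z + tt x y' z := by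
  rw [tt_comm x, tt_xor_left, tt_comm y x, tt_comm y' x]

theorem tt_xor_right (x y z z' : ℕ) : tt x y (z ^^^ z') = tt x y z + tt x y z' := by
  rw [tt_right x y, tt_xor_mid, tt_right x z, tt_right x z']

theorem tt_zero_left (y z : ℕ) : tt 0 y z = 0 := by
  simp [tt, show pop 0 = 0 from by decide +kernel]

theorem tt_zero_mid (x z : ℕ) : tt x 0 z = 0 := by rw [tt_comm]; exact tt_zero_left _ _

theorem tt_zero_right (x y : ℕ) : tt x y 0 = 0 := by rw [tt_right]; exact tt_zero_mid _ _

theorem tt_self {x y : ℕ} (hx : x ∈ codeList) (hy : y ∈ codeList) : tt x x y = 0 := by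
  rw [tt, Nat.and_self, ← ZMod.natCast_mod, even_inter hx hy, Nat.cast_zero]

theorem pop_mod_four {x : ℕ} (hx : x ∈ codeList) : pop x % 4 = 0 := by
  rcases pop_code hx with h | h | h | h | h <;> rw [h]

theorem hh_xor {x x' e : ℕ} (hx : x ∈ codeList) (hx' : x' ∈ codeList) (he : e ∈ codeList) :
    hh (x ^^^ x') e = hh x e + hh x' e + tt x x' e := by
  have h := pop_xor_add (x &&& e) (x' &&& e)
  rw [← Nat.and_xor_distrib_right] at h
  have ha : (x &&& e) &&& (x' &&& e) = x &&& x' &&& e := by
    refine Nat.eq_of_testBit_eq fun i => ?_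
    simp only [Nat.testBit_and]
    cases x.testBit i <;> cases x'.testBit i <;> cases e.testBit i <;> rfl
  rw [ha] at h
  have h1 := even_inter hx he
  have h2 := even_inter hx' he
  have h3 := even_inter (xor_mem_codeList hx hx') he
  simp only [hh, tt, ← Nat.cast_add]
  rw [ZMod.natCast_eq_natCast_iff']
  omega

theorem hh_zero (e : ℕ) : hh 0 e = 0 := by
  simp [hh, show pop 0 = 0 from by decide +kernel]

theorem qq_xor {x e : ℕ} (hx : x ∈ codeList) (he : e ∈ codeList) :
    qq (x ^^^ e) = qq x + qq e + hh x e := by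
  have h := pop_xor_add x e
  have h1 := even_inter hx he
  have h2 := pop_mod_four hx
  have h3 := pop_mod_four he
  have h4 := pop_mod_four (xor_mem_codeList hx he)
  simp only [qq, hh, ← Nat.cast_add]
  rw [ZMod.natCast_eq_natCast_iff']
  omega

theorem th_cocycle (B : ℕ → ℕ) : ∀ (k : ℕ), (∀ i < k, B i ∈ codeList) →
    ∀ a b c : Fin k → ZMod 2, th B k b c + th B k (a + b) c + th B k a (b + c) + th B k a b =
      tt (W B k a) (W B k b) (W B k c)
  | 0, _, _, _, _ => by simp [th, W, tt_zero_left]
  | k + 1, hB, a, b, c => by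
    have hB' : ∀ i < k, B i ∈ codeList := fun i hi => hB i (hi.trans (Nat.lt_succ_self k))
    have he := hB k (Nat.lt_succ_self k)
    have ih := th_cocycle B k hB' (Fin.init a) (Fin.init b) (Fin.init c)
    have mA := W_mem k hB' (Fin.init a)
    have mB := W_mem k hB' (Fin.init b)
    have mC := W_mem k hB' (Fin.init c)
    simp only [th, W, init_add, W_add, Pi.add_apply, hh_xor mA mB he, tt_xor_left, tt_xor_right]
    generalize hA : W B k (Fin.init a) = A at *
    generalize hB₂ : W B k (Fin.init b) = A' at *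
    generalize hC : W B k (Fin.init c) = A'' at *
    generalize B k = e at *
    have k1 : tt e A' A'' = tt A' e A'' := tt_comm _ _ _
    have k2 : tt A e A'' = tt A e A'' := rfl
    have k3 : tt A A' e = tt A e A' := tt_right _ _ _
    have k4 : tt e e A'' = 0 := tt_self he mC
    have k5 : tt e A' e = 0 := by rw [tt_right]; exact tt_self he mB
    have k6 : tt A e e = 0 := by rw [tt_rot]; exact tt_self he mA
    have k7 : tt e e e = 0 := tt_self he he
    generalize th B k (Fin.init b) (Fin.init c) = p1 at *
    generalize th B k (Fin.init a + Fin.init b) (Fin.init c) = p2 at *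
    generalize th B k (Fin.init a) (Fin.init b + Fin.init c) = p3 at *
    generalize th B k (Fin.init a) (Fin.init b) = p4 at *
    rcases z2 (a (Fin.last k)) with hs | hs <;> rcases z2 (b (Fin.last k)) with ht | ht <;>
      rcases z2 (c (Fin.last k)) with hu | hu <;>
      simp only [hs, ht, hu, if_pos, if_neg, zero_ne_one, not_false_eq_true, tt_xor_left,
        tt_xor_mid, tt_xor_right, tt_zero_left, tt_zero_mid, tt_zero_right, k1, k3, k4, k5, k6,
        k7, show (1 + 1 : ZMod 2) = 0 from rfl, add_zero, zero_add, mul_zero, zero_mul, mul_one,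
        one_mul] <;>
      rw [← ih] <;>
      ring_nf <;> simp [show (2 : ZMod 2) = 0 from rfl, show (3 : ZMod 2) = 1 from rfl,
        show (4 : ZMod 2) = 0 from rfl]

theorem th_self (B : ℕ → ℕ) : ∀ (k : ℕ), (∀ i < k, B i ∈ codeList) →
    ∀ a : Fin k → ZMod 2, th B k a a = qq (W B k a)
  | 0, _, _ => by simp [th, W, qq, show pop 0 = 0 from by decide +kernel]
  | k + 1, hB, a => by
    have hB' : ∀ i < k, B i ∈ codeList := fun i hi => hB i (hi.trans (Nat.lt_succ_self k))
    have he := hB k (Nat.lt_succ_self k)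
    have mA := W_mem k hB' (Fin.init a)
    have k1 : tt (W B k (Fin.init a)) (B k) (W B k (Fin.init a)) = 0 := by
      rw [tt_right]; exact tt_self mA he
    simp only [th, W, th_self B k hB', k1]
    rcases z2 (a (Fin.last k)) with hs | hs
    · rw [hs, if_neg zero_ne_one, Nat.xor_zero]; ring
    · rw [hs, if_pos rfl, qq_xor mA he]; ring

/-! ### Symmetric cocycles with zero diagonal are coboundaries -/

theorem exists_coboundary : ∀ (k : ℕ) (d : (Fin k → ZMod 2) → (Fin k → ZMod 2) → ZMod 2),
    (∀ a b c, d b c + d (a + b) c + d a (b + c) + d a b = 0) → (∀ a, d a a = 0) →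
    ∃ f : (Fin k → ZMod 2) → ZMod 2, ∀ a b, f (a + b) + f a + f b = d a b
  | 0, d, _, hd => ⟨0, fun a b => by simp [Subsingleton.elim b a, hd]⟩
  | k + 1, d, hc, hd => by
    let j : (Fin k → ZMod 2) → (Fin (k + 1) → ZMod 2) := fun a => Fin.snoc a 0
    have hj : ∀ a b, j (a + b) = j a + j b := by
      intro a b; funext i
      refine Fin.lastCases ?_ (fun i => ?_) i <;> simp [j]
    let e : Fin (k + 1) → ZMod 2 := Fin.snoc 0 1
    obtain ⟨f, hf⟩ := exists_coboundary k (fun a b => d (j a) (j b))
      (fun a b c => by rw [hj, hj]; exact hc _ _ _) (fun a => hd _)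
    have h0 : ∀ x, d 0 x = 0 := fun x => by
      have := hc 0 0 x
      rw [zero_add, zero_add, hd] at this
      generalize d 0 x = u at this
      revert u; decide
    have hx0 : ∀ x, d x 0 = 0 := fun x => by
      have := hc x 0 0
      rw [add_zero, add_zero, hd] at this
      generalize d x 0 = u at this
      revert u; decide
    have hsy : ∀ x y, d x y = d y x := fun x y => by
      have h1 := hc x y (x + y)
      have h2 := hc y y x
      rw [hd (x + y), show y + (x + y) = x from by rw [add_left_comm, CharTwo.add_self_eq_zero, add_zero],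
        hd x] at h1
      rw [CharTwo.add_self_eq_zero y, h0, add_comm y x, hd y] at h2
      generalize d y (x + y) = p at h1 h2
      generalize d x y = u at h1 h2 ⊢
      generalize d y x = v at h1 h2 ⊢
      revert p u v; decide
    refine ⟨fun a => f (Fin.init a) + a (Fin.last k) * d (j (Fin.init a)) e, fun a b => ?_⟩
    have hsplit : ∀ x : Fin (k + 1) → ZMod 2,
        x = j (Fin.init x) + (if x (Fin.last k) = 1 then e else 0) := by
      intro x; funext i
      rcases z2 (x (Fin.last k)) with h | h <;>
        (rw [h]; refine Fin.lastCases ?_ (fun i => ?_) i <;> simp [j, e, h, Fin.init])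
    have key : ∀ s t F₀ F₁ F₂ g₀ g₁ g₂ u v w r : ZMod 2, F₀ + F₁ + F₂ = u →
        g₂ + g₀ + v + u = 0 → g₁ + g₀ + w + u = 0 → g₂ + g₀ + r + w = 0 →
        F₀ + (s + t) * g₀ + (F₁ + s * g₁) + (F₂ + t * g₂) =
          if s = 1 then (if t = 1 then r else w) else (if t = 1 then v else u) := by
      decide +kernel
    have q4 : ∀ x, d (x + e) e = d x e := fun x => by
      have := hc x e e
      rw [CharTwo.add_self_eq_zero e, hd, hx0] at this
      generalize d (x + e) e = u at this ⊢
      generalize d x e = v at this ⊢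
      revert u v; decide
    conv_rhs => rw [hsplit a, hsplit b]
    simp only [init_add, Pi.add_apply, hj]
    have q1 := hc (j (Fin.init a)) (j (Fin.init b)) e
    have q2 := hc (j (Fin.init b)) (j (Fin.init a)) e
    rw [add_comm (j (Fin.init b)) (j (Fin.init a)), hsy (j (Fin.init b)) (j (Fin.init a)),
      hsy (j (Fin.init b)) (j (Fin.init a) + e)] at q2
    have q3 := hc (j (Fin.init a) + e) (j (Fin.init b)) e
    rw [add_right_comm (j (Fin.init a)) e (j (Fin.init b)), q4] at q3
    rw [key (a (Fin.last k)) (b (Fin.last k)) _ _ _ _ _ _ _ _ _ _ (hf (Fin.init a) (Fin.init b))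
      q1 q2 q3]
    split_ifs <;> simp only [add_zero]

/-! ### The words vanishing at the extra point -/

/-- Coordinates of such words. -/
abbrev D : Type := Fin 11 → ZMod 2

/-- A basis of the words vanishing at the extra point, reduced on the positions `1, …, 11`. -/
def bas (i : ℕ) : ℕ :=
  [4845570, 1302533, 7221256, 6053905, 7417889, 2854977, 2019456, 4038912, 8077824, 7767041,
    2422785].getD i 0

theorem bas_mem : ∀ i < 11, bas i ∈ codeList := by
  intro i hi
  rw [mem_codeList]
  revert i
  decide +kernel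

/-- The mask of a coordinate vector. -/
def wm (a : D) : ℕ := W bas 11 a

theorem wm_mem (a : D) : wm a ∈ codeList := W_mem 11 bas_mem a

/-- The cocycle on the words vanishing at the extra point. -/
def theta (a b : D) : ZMod 2 := th bas 11 a b

/-- The word of a coordinate vector. -/
def lw (a : D) : GolayPt → ZMod 2 := vec (wm a)

theorem lw_add (a b : D) : lw (a + b) = lw a + lw b := by
  rw [lw, wm, W_add, vec_xor]; rfl

/-- Read coordinates at the positions `1, …, 11`. -/
def co (w : GolayPt → ZMod 2) : D := fun i => w (pt (i.val + 1))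

theorem co_add (v w : GolayPt → ZMod 2) : co (v + w) = co v + co w := rfl

theorem lw_none (a : D) : lw a none = 0 := by
  revert a; decide +kernel

theorem co_lw (a : D) : co (lw a) = a := by
  revert a; decide +kernel

theorem word_check : (codeList.all fun m => m.testBit 23 || (wm (co (vec m)) == m)) = true := by
  decide +kernel

theorem lw_co {w : GolayPt → ZMod 2} (hw : w ∈ golayCode) (h0 : w none = 0) : lw (co w) = w := by
  obtain ⟨m, hm, rfl⟩ := mem_golayCode.mp hw
  have h := List.all_eq_true.mp word_check m hm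
  have h23 : m.testBit 23 = false := by
    cases e : m.testBit 23
    · rfl
    · simp [vec, idx, e] at h0
  rw [h23, Bool.false_or, beq_iff_eq] at h
  rw [lw, h]

theorem lw_mem (a : D) : lw a ∈ golayCode := mem_golayCode.mpr ⟨_, wm_mem a, rfl⟩

theorem lw_inj {a b : D} (h : lw a = lw b) : a = b := by rw [← co_lw a, h, co_lw]

end Cfsg.Agent.Classical.ParkerM23
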