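import Cfsg.Agent.Lib.Classical.ParkerCode
import Cfsg.Prelude.Def_Spor_Mathieu

/-! The extension of `Spor.M23` given by the cocycle of Parker loop type, with its kernel. -/

set_option autoImplicit false
set_option maxRecDepth 100000

namespace Cfsg.Agent.Classical.ParkerM23

open Cfsg.Agent.Spor.Golay
open scoped Pointwise

/-! ### The action of `Spor.M23` -/

theorem comp_mem {σ : Equiv.Perm GolayPt} (hσ : σ ∈ M24) {w : GolayPt → ZMod 2}
    (hw : w ∈ golayCode) : w ∘ ⇑σ⁻¹ ∈ golayCode := by
  have hs : σ • support₂ w ∈ supports (golayCode : Set (GolayPt → ZMod 2)) := by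
    have h1 : support₂ w ∈ supports (golayCode : Set (GolayPt → ZMod 2)) := ⟨w, hw, rfl⟩
    have := Set.smul_mem_smul_set (a := σ) h1
    rwa [MulAction.mem_stabilizer_iff.mp hσ] at this
  obtain ⟨w', hw', e⟩ := hs
  have : w' = w ∘ ⇑σ⁻¹ := eq_of_support (by
    rw [e]; ext p; simp [support₂, Finset.mem_smul_finset]
    constructor
    · rintro ⟨q, hq, rfl⟩; simpa using hq
    · intro h; exact ⟨σ⁻¹ p, h, by simp⟩)
  rw [← this]; exact hw'

/-- The map of coordinate vectors given by a permutation. -/
def hat (σ : Equiv.Perm GolayPt) (a : D) : D := co (lw a ∘ ⇑σ.symm)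

theorem hat_add (σ : Equiv.Perm GolayPt) (a b : D) : hat σ (a + b) = hat σ a + hat σ b := by
  rw [hat, lw_add]; rfl

theorem inv_none (p : ↥Spor.M23) : (p : Equiv.Perm GolayPt)⁻¹ none = none := by
  have h : (p : Equiv.Perm GolayPt) none = none := p.2.2
  conv_lhs => rw [← h]
  simp

theorem lw_hat (p : ↥Spor.M23) (a : D) :
    lw (hat p a) = lw a ∘ ⇑(p : Equiv.Perm GolayPt)⁻¹ :=
  lw_co (comp_mem p.2.1 (lw_mem a))
    ((congrArg (lw a) (inv_none p)).trans (lw_none a))

theorem hat_one (a : D) : hat ((1 : ↥Spor.M23) : Equiv.Perm GolayPt) a = a := co_lw a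

theorem hat_mul (p q : ↥Spor.M23) (a : D) :
    hat ((p * q : ↥Spor.M23) : Equiv.Perm GolayPt) a = hat p (hat q a) := by
  refine lw_inj ?_
  rw [lw_hat, lw_hat, lw_hat, Subgroup.coe_mul, mul_inv_rev]
  rfl

theorem pts_hat (p : ↥Spor.M23) (a : D) :
    pts (wm (hat p a)) = (pts (wm a)).map (p : Equiv.Perm GolayPt).toEmbedding := by
  rw [← support_vec, ← support_vec]
  show support₂ (lw (hat p a)) = (support₂ (lw a)).map _
  rw [lw_hat]
  ext x
  simp [support₂, Finset.mem_map_equiv]

/-- The obstruction to preserving the cocycle. -/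
def dth (σ : Equiv.Perm GolayPt) (a b : D) : ZMod 2 := theta (hat σ a) (hat σ b) + theta a b

theorem dth_cocycle (p : ↥Spor.M23) (a b c : D) :
    dth p b c + dth p (a + b) c + dth p a (b + c) + dth p a b = 0 := by
  have h1 := th_cocycle bas 11 bas_mem (hat p a) (hat p b) (hat p c)
  have h2 := th_cocycle bas 11 bas_mem a b c
  have h3 : tt (W bas 11 (hat p a)) (W bas 11 (hat p b)) (W bas 11 (hat p c)) =
      tt (W bas 11 a) (W bas 11 b) (W bas 11 c) := by
    show tt (wm _) (wm _) (wm _) = tt (wm a) (wm b) (wm c)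
    simp only [tt, ← card_pts, ← pts_inter, pts_hat, ← Finset.map_inter, Finset.card_map]
  rw [h3, ← h2] at h1
  simp only [dth, theta, hat_add] at h1 ⊢
  linear_combination h1 + CharTwo.add_self_eq_zero (th bas 11 b c + th bas 11 (a + b) c +
    th bas 11 a (b + c) + th bas 11 a b)

theorem dth_self (p : ↥Spor.M23) (a : D) : dth p a a = 0 := by
  simp only [dth, theta, th_self bas 11 bas_mem]
  show qq (wm _) + qq (wm a) = 0
  simp only [qq, ← card_pts, pts_hat, Finset.card_map]
  exact CharTwo.add_self_eq_zero _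

/-! ### The group -/

/-- Elements of the extension: a permutation with a function correcting the cocycle. -/
@[ext] structure El where
  /-- The permutation. -/
  p : ↥Spor.M23
  /-- The correcting function. -/
  f : D → ZMod 2
  hf : ∀ a b, f (a + b) + f a + f b = dth p a b

instance : Finite El :=
  Finite.of_injective (fun x : El => (x.p, x.f)) fun x y h =>
    El.ext (congrArg Prod.fst h) (congrArg Prod.snd h)

instance : Mul El :=
  ⟨fun x y => ⟨x.p * y.p, fun a => x.f (hat y.p a) + y.f a, fun a b => by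
    have h1 := x.hf (hat y.p a) (hat y.p b)
    have h2 := y.hf a b
    simp only [dth, hat_add, hat_mul] at h1 h2 ⊢
    linear_combination h1 + h2 + CharTwo.add_self_eq_zero (theta (hat y.p a) (hat y.p b))⟩⟩

instance : One El :=
  ⟨⟨1, 0, fun a b => by rw [dth, hat_one, hat_one, CharTwo.add_self_eq_zero]; simp⟩⟩

instance : Inv El :=
  ⟨fun x => ⟨x.p⁻¹, fun a => x.f (hat (x.p⁻¹ : ↥Spor.M23) a), fun a b => by
    have h1 := x.hf (hat (x.p⁻¹ : ↥Spor.M23) a) (hat (x.p⁻¹ : ↥Spor.M23) b)
    simp only [dth, ← hat_mul, mul_inv_cancel, hat_one, ← hat_add] at h1 ⊢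
    linear_combination h1⟩⟩

theorem mul_p (x y : El) : (x * y).p = x.p * y.p := rfl

theorem mul_f (x y : El) (a : D) : (x * y).f a = x.f (hat y.p a) + y.f a := rfl

theorem one_f (a : D) : (1 : El).f a = 0 := rfl

theorem one_p : (1 : El).p = 1 := rfl

instance : Group El :=
  Group.ofLeftAxioms
    (fun x y z => El.ext (mul_assoc _ _ _) (funext fun a => by
      simp only [mul_f, mul_p, hat_mul]; ring))
    (fun x => El.ext (one_mul _) (funext fun a => by rw [mul_f, one_f, zero_add]))
    (fun x => El.ext (inv_mul_cancel _) (funext fun a => by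
      show x.f (hat (x.p⁻¹ : ↥Spor.M23) (hat x.p a)) + x.f a = 0
      rw [← hat_mul, inv_mul_cancel, hat_one, CharTwo.add_self_eq_zero]))

/-- The projection to the permutation group. -/
def proj : El →* ↥Spor.M23 where
  toFun x := x.p
  map_one' := rfl
  map_mul' _ _ := rfl

theorem proj_surjective : Function.Surjective proj := fun p => by
  obtain ⟨f, hf⟩ := exists_coboundary 11 (dth p) (dth_cocycle p) (dth_self p)
  exact ⟨⟨p, f, hf⟩, rfl⟩

/-- The functional of a word. -/
def lin (w : GolayPt → ZMod 2) (a : D) : ZMod 2 := ∑ i, w i * lw a i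

/-- The element of the kernel given by a word. -/
def kel (w : GolayPt → ZMod 2) : El :=
  ⟨1, lin w, fun a b => by
    simp only [dth, hat_one, CharTwo.add_self_eq_zero, lin, lw_add, Pi.add_apply, mul_add,
      Finset.sum_add_distrib]
    generalize (∑ i, w i * lw a i) = u
    generalize (∑ i, w i * lw b i) = v
    revert u v; decide⟩

/-- The map from words onto the kernel. -/
def thetaHom : (GolayPt → ZMod 2) →+ Additive ↥proj.ker where
  toFun w := Additive.ofMul ⟨kel w, rfl⟩
  map_zero' := by
    refine congrArg Additive.ofMul (Subtype.ext (El.ext rfl (funext fun a => ?_)))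
    show lin 0 a = 0
    simp [lin]
  map_add' v w := by
    refine congrArg Additive.ofMul (Subtype.ext (El.ext (one_mul 1).symm (funext fun a => ?_)))
    show lin (v + w) a = lin v (hat ((1 : ↥Spor.M23) : Equiv.Perm GolayPt) a) + lin w a
    rw [hat_one]
    simp [lin, add_mul, Finset.sum_add_distrib]

theorem coe_thetaHom (w : GolayPt → ZMod 2) : ((thetaHom w).toMul : El) = kel w := rfl

theorem lin_eq {f : D → ZMod 2} (hf : ∀ a b, f (a + b) + f a + f b = 0) : ∃ w, f = lin w := by
  have h2 : ∀ a b, f (a + b) = f a + f b := fun a b => by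
    rw [← CharTwo.add_eq_zero, ← add_assoc]; exact hf a b
  have h0 : f 0 = 0 := by
    have := h2 0 0
    rw [add_zero, CharTwo.add_self_eq_zero] at this
    exact this
  let F : D →+ ZMod 2 := ⟨⟨f, h0⟩, h2⟩
  refine ⟨∑ i : Fin 11, f (Pi.single i 1) • Pi.single (pt (i.val + 1)) (1 : ZMod 2), funext fun a => ?_⟩
  have e : a = ∑ i : Fin 11, Pi.single i (a i) := (Finset.univ_sum_single a).symm
  calc f a = ∑ i : Fin 11, F (Pi.single i (a i)) := by
        rw [← map_sum, ← e]; rfl
    _ = ∑ i : Fin 11, f (Pi.single i 1) * a i := by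
        refine Finset.sum_congr rfl fun i _ => ?_
        rcases z2 (a i) with h | h <;> rw [h]
        · rw [Pi.single_zero, map_zero, mul_zero]
        · rw [mul_one]; rfl
    _ = _ := by
        simp only [lin, Finset.sum_apply, Pi.smul_apply, smul_eq_mul, Finset.sum_mul]
        rw [Finset.sum_comm]
        refine Finset.sum_congr rfl fun i _ => ?_
        rw [Finset.sum_eq_single (pt (i.val + 1))]
        · rw [Pi.single_eq_same, mul_one, show lw a (pt (i.val + 1)) = a i from congrFun (co_lw a) i]
        · intro p _ hp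
          rw [Pi.single_eq_of_ne hp, mul_zero, zero_mul]
        · exact fun h => absurd (Finset.mem_univ _) h

theorem thetaHom_surjective : Function.Surjective thetaHom := fun z => by
  obtain ⟨⟨x, hx⟩, rfl⟩ := Additive.ofMul.surjective z
  obtain ⟨p, f, hf⟩ := x
  obtain rfl : p = 1 := hx
  obtain ⟨w, hw⟩ := lin_eq (f := f) fun a b => by
    rw [hf, dth, hat_one, hat_one, CharTwo.add_self_eq_zero]
  exact ⟨w, congrArg Additive.ofMul (Subtype.ext (El.ext rfl hw.symm))⟩

theorem thetaHom_eq_zero {w : GolayPt → ZMod 2} : thetaHom w = 0 ↔ lin w = 0 := by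
  constructor
  · intro h
    have h' : (thetaHom w).toMul = (1 : ↥proj.ker) := by rw [h]; rfl
    have h'' : kel w = (1 : El) := by rw [← coe_thetaHom, h', OneMemClass.coe_one]
    funext a
    have h3 := congrArg (fun x : El => x.f a) h''
    exact h3.trans (one_f a)
  · intro h
    have h' : kel w = (1 : El) := El.ext rfl h
    have h'' : (thetaHom w).toMul = (1 : ↥proj.ker) := Subtype.ext h'
    exact Additive.toMul.injective h''

theorem thetaHom_code {w : GolayPt → ZMod 2} (hw : w ∈ golayCode) : thetaHom w = 0 := by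
  rw [thetaHom_eq_zero]
  obtain ⟨m, hm, rfl⟩ := mem_golayCode.mp hw
  funext a
  show ∑ i, vec m i * vec (wm a) i = 0
  rw [dot_vec, ← ZMod.natCast_mod, even_inter hm (wm_mem a), Nat.cast_zero]

theorem thetaHom_single : thetaHom (Pi.single none 1) = 0 := by
  rw [thetaHom_eq_zero]
  funext a
  show ∑ i, (Pi.single none 1 : GolayPt → ZMod 2) i * lw a i = 0
  rw [Finset.sum_eq_single none]
  · rw [lw_none, mul_zero]
  · intro p _ hp; rw [Pi.single_eq_of_ne hp, zero_mul]
  · exact fun h => absurd (Finset.mem_univ _) h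

theorem single_not_mem : (Pi.single none 1 : GolayPt → ZMod 2) ∉ golayCode := fun h => by
  obtain ⟨m, hm, e⟩ := mem_golayCode.mp h
  have h1 := hammingNorm_vec m
  rw [← e] at h1
  have h2 : hammingNorm (Pi.single none 1 : GolayPt → ZMod 2) = 1 := by decide +kernel
  rcases pop_code hm with h' | h' | h' | h' | h' <;> omega

/-- The kernel element given by coordinates. -/
def dual (b : D) : El :=
  ⟨1, fun a => ∑ i, b i * a i, fun u v => by
    rw [dth, hat_one, hat_one, CharTwo.add_self_eq_zero]
    simp only [Pi.add_apply, mul_add, Finset.sum_add_distrib]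
    generalize (∑ i, b i * u i) = p
    generalize (∑ i, b i * v i) = q
    revert p q; decide⟩

theorem le_card_kernel : 2 ^ 11 ≤ Nat.card ↥proj.ker := by
  have hinj : Function.Injective (fun b : D => (⟨dual b, rfl⟩ : ↥proj.ker)) := by
    intro b c h
    funext i
    have h1 := congrArg (fun z : ↥proj.ker => (z : El).f (Pi.single i 1)) h
    simpa [dual, Pi.single_apply] using h1
  have h2 := Nat.card_le_card_of_injective _ hinj
  rwa [Nat.card_fun, Nat.card_zmod, Nat.card_fin] at h2

theorem card_words : Nat.card (GolayPt → ZMod 2) = 2 ^ 24 := by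
  rw [Nat.card_fun, Nat.card_zmod, Nat.card_eq_fintype_card, card_golayPt]

theorem card_thetaHom_ker_le : Nat.card ↥(thetaHom.ker) ≤ 8192 := by
  have h := AddSubgroup.card_eq_card_quotient_mul_card_addSubgroup thetaHom.ker
  rw [Nat.card_congr (QuotientAddGroup.quotientKerEquivOfSurjective thetaHom
    thetaHom_surjective).toEquiv, Nat.card_congr Additive.toMul, card_words] at h
  have h2 := Nat.mul_le_mul_right (Nat.card ↥(thetaHom.ker)) le_card_kernel
  omega

theorem thetaHom_ker (w : GolayPt → ZMod 2) :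
    thetaHom w = 0 ↔ (w ∈ golayCode ∨ w + Pi.single none 1 ∈ golayCode) := by
  constructor
  · intro hw
    let S : Set (GolayPt → ZMod 2) :=
      (golayCode : Set (GolayPt → ZMod 2)) ∪
        (fun x => x + Pi.single none 1) '' (golayCode : Set (GolayPt → ZMod 2))
    have hsub : S ⊆ (thetaHom.ker : Set (GolayPt → ZMod 2)) := by
      rintro x (hx | ⟨y, hy, rfl⟩)
      · exact thetaHom_code hx
      · show thetaHom (y + Pi.single none 1) = 0
        rw [map_add, thetaHom_code hy, thetaHom_single, zero_add]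
    have hc : (golayCode : Set (GolayPt → ZMod 2)).ncard = 4096 :=
      (Nat.card_coe_set_eq _).symm.trans card_golayCode
    have hd : Disjoint (golayCode : Set (GolayPt → ZMod 2))
        ((fun x => x + Pi.single none 1) '' (golayCode : Set (GolayPt → ZMod 2))) := by
      rw [Set.disjoint_left]
      rintro x hx ⟨y, hy, rfl⟩
      have h2 := Submodule.sub_mem _ hx hy
      rw [add_sub_cancel_left] at h2
      exact single_not_mem h2
    have hS : S.ncard = 8192 := by
      rw [Set.ncard_union_eq hd (Set.toFinite _) (Set.toFinite _),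
        Set.ncard_image_of_injective _ (add_left_injective _), hc]
    have hk : (thetaHom.ker : Set (GolayPt → ZMod 2)).ncard ≤ S.ncard := by
      rw [hS, ← Nat.card_coe_set_eq]; exact card_thetaHom_ker_le
    have hEq : S = (thetaHom.ker : Set (GolayPt → ZMod 2)) :=
      Set.eq_of_subset_of_ncard_le hsub hk (Set.toFinite _)
    have hw' : w ∈ S := by rw [hEq]; exact hw
    rcases hw' with h | ⟨y, hy, rfl⟩
    · exact Or.inl h
    · refine Or.inr ?_
      rwa [add_assoc, CharTwo.add_self_eq_zero, add_zero]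
  · rintro (h | h)
    · exact thetaHom_code h
    · have := thetaHom_code h
      rwa [map_add, thetaHom_single, add_zero] at this

theorem conj_kel (g : El) (w : GolayPt → ZMod 2) :
    g * kel w * g⁻¹ = kel (w ∘ ⇑(g.p : Equiv.Perm GolayPt)⁻¹) := by
  refine El.ext (by show g.p * 1 * g.p⁻¹ = 1; rw [mul_one, mul_inv_cancel]) (funext fun a => ?_)
  show g.f (hat ((1 : ↥Spor.M23) : Equiv.Perm GolayPt) (hat (g.p⁻¹ : ↥Spor.M23) a)) +
      lin w (hat (g.p⁻¹ : ↥Spor.M23) a) + g.f (hat (g.p⁻¹ : ↥Spor.M23) a) = lin _ a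
  rw [hat_one, add_right_comm, CharTwo.add_self_eq_zero, zero_add]
  simp only [lin]
  refine Fintype.sum_equiv (g.p : Equiv.Perm GolayPt) _ _ fun i => ?_
  rw [lw_hat, Function.comp_apply, Function.comp_apply, Subgroup.coe_inv, inv_inv]
  simp

end Cfsg.Agent.Classical.ParkerM23
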