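import Cfsg.Agent.Lib.Classical.ParkerM23

/-! Certificate that the extension `El` of `Spor.M23` has no complement to its kernel: three relators
in two permutations whose corrections, evaluated along their orbits, sum to `1`. -/

set_option autoImplicit false
set_option maxRecDepth 100000

namespace Cfsg.Agent.Classical.ParkerM23

open Cfsg.Agent.Spor.Golay

/-- A coordinate vector from its bits. -/
def ofBits (x : ℕ) : D := fun i => if x.testBit i.val then 1 else 0

/-- Images of the positions under the first permutation. -/
def listA : List ℕ :=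
  [17, 21, 10, 15, 3, 1, 18, 7, 4, 0, 12, 20, 11, 8, 5, 13, 14, 6, 9, 19, 2, 16, 22, 23]

/-- Images of the positions under the inverse of the first permutation. -/
def listA' : List ℕ :=
  [9, 5, 20, 4, 8, 14, 17, 7, 13, 18, 2, 12, 10, 15, 16, 3, 21, 0, 6, 19, 11, 1, 22, 23]

/-- Images of the positions under the second permutation. -/
def listB : List ℕ :=
  [0, 11, 5, 6, 22, 2, 9, 21, 20, 18, 7, 12, 15, 8, 10, 14, 3, 4, 17, 13, 19, 1, 16, 23]

/-- Images of the positions under the inverse of the second permutation. -/
def listB' : List ℕ :=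
  [0, 21, 5, 16, 17, 2, 3, 10, 13, 6, 14, 1, 11, 19, 15, 12, 22, 18, 9, 20, 8, 7, 4, 23]

/-- The first permutation. -/
def permA : Equiv.Perm GolayPt where
  toFun p := pt (listA.getD (idx p) 0)
  invFun p := pt (listA'.getD (idx p) 0)
  left_inv := by decide +kernel
  right_inv := by decide +kernel

/-- The second permutation. -/
def permB : Equiv.Perm GolayPt where
  toFun p := pt (listB.getD (idx p) 0)
  invFun p := pt (listB'.getD (idx p) 0)
  left_inv := by decide +kernel
  right_inv := by decide +kernel

theorem mem_M23_of_list {σ : Equiv.Perm GolayPt} (L : List ℕ)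
    (hσ : ∀ p, σ p = pt (L.getD (idx p) 0))
    (h1 : (valid (pack 24 fun i => L.getD i 0) && (List.range 24).all fun i =>
      idx (pt (L.getD (idx (pt i)) 0)) == get (pack 24 fun i => L.getD i 0) i) = true)
    (h2 : inM24 (pack 24 fun i => L.getD i 0) = true) (h3 : L.getD 23 0 = 23) :
    σ ∈ Spor.M23 := by
  refine ⟨?_, ?_⟩
  · rw [eq_permOf_of_fun (fun p => pt (L.getD (idx p) 0)) hσ h1]
    exact permOf_mem_M24 h2
  · show σ none = none
    rw [hσ none, show idx none = 23 from rfl, h3]
    rfl

/-- The two permutations as elements of `Spor.M23`. -/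
def pp : Bool → ↥Spor.M23
  | false => ⟨permA, mem_M23_of_list listA (fun _ => rfl) (by decide +kernel) (by decide +kernel)
      (by decide +kernel)⟩
  | true => ⟨permB, mem_M23_of_list listB (fun _ => rfl) (by decide +kernel) (by decide +kernel)
      (by decide +kernel)⟩

/-- Where the product of the letters of a path sends its base point. -/
def dst (c : D) : List (Bool × ℕ) → D
  | [] => c
  | (l, x) :: _ => hat (pp l : Equiv.Perm GolayPt) (ofBits x)

/-- A path is the orbit of its base point along its letters, read from the right. -/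
def okPath (c : D) : List (Bool × ℕ) → Bool
  | [] => true
  | (l, x) :: r => decide (ofBits x = dst c r) && okPath c r

/-- The product of the letters of a path. -/
def val (g : Bool → El) : List (Bool × ℕ) → El
  | [] => 1
  | (l, _) :: r => g l * val g r

theorem val_mem (g : Bool → El) {H : Subgroup El} (hg : ∀ b, g b ∈ H) :
    ∀ L, val g L ∈ H
  | [] => H.one_mem
  | (l, _) :: r => H.mul_mem (hg l) (val_mem g hg r)

theorem val_p (g : Bool → El) (hg : ∀ b, (g b).p = pp b) :
    ∀ L, ((val g L).p : ↥Spor.M23) = (L.map fun z => pp z.1).prod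
  | [] => rfl
  | (l, x) :: r => by
    rw [List.map_cons, List.prod_cons, val, mul_p, hg, val_p g hg r]

theorem val_eval (g : Bool → El) (hg : ∀ b, (g b).p = pp b) (c : D) :
    ∀ L, okPath c L = true →
      (val g L).f c = (L.map fun z => (g z.1).f (ofBits z.2)).sum ∧
        hat ((val g L).p : Equiv.Perm GolayPt) c = dst c L
  | [], _ => ⟨one_f c, hat_one c⟩
  | (l, x) :: r, h => by
    simp only [okPath, Bool.and_eq_true, decide_eq_true_eq] at h
    obtain ⟨h1, h2⟩ := val_eval g hg c r h.2
    constructor
    · rw [val, mul_f, h2, ← h.1, h1, List.map_cons, List.sum_cons]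
    · rw [val, mul_p, hat_mul, h2, ← h.1, hg]; rfl

/-- The letters of one kind. -/
def part (b : Bool) (L : List (Bool × ℕ)) : List D :=
  (L.filter fun z => z.1 == b).map fun z => ofBits z.2

theorem sum_parts (F : Bool → D → ZMod 2) : ∀ L : List (Bool × ℕ),
    (L.map fun z => F z.1 (ofBits z.2)).sum =
      ((part false L).map (F false)).sum + ((part true L).map (F true)).sum
  | [] => by simp [part]
  | (l, x) :: r => by
    rw [List.map_cons, List.sum_cons, sum_parts F r]
    cases l <;> simp [part] <;> ring

/-- The accumulated obstruction along a list of points. -/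
def accum (σ : Equiv.Perm GolayPt) : List D → ZMod 2
  | [] => 0
  | x :: xs => accum σ xs + dth σ x xs.sum

theorem sum_map_f (x : El) : ∀ xs : List D,
    (xs.map x.f).sum = x.f xs.sum + accum (x.p : Equiv.Perm GolayPt) xs
  | [] => by
    have h := x.hf 0 0
    have h0 : dth (x.p : Equiv.Perm GolayPt) 0 0 = 0 := dth_self x.p 0
    rw [h0, add_zero] at h
    simp only [List.map_nil, List.sum_nil, accum]
    generalize x.f 0 = u at h ⊢
    revert u; decide
  | a :: xs => by
    have h := x.hf a xs.sum
    simp only [List.map_cons, List.sum_cons, accum, sum_map_f x xs]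
    generalize x.f (a + xs.sum) = u at h ⊢
    generalize x.f a = v at h ⊢
    generalize x.f xs.sum = w at h ⊢
    generalize dth (x.p : Equiv.Perm GolayPt) a xs.sum = d at h ⊢
    generalize accum (x.p : Equiv.Perm GolayPt) xs = e
    revert u v w d e; decide

/-- The relators with their orbits and base points. -/
def cert : List (ℕ × List (Bool × ℕ)) :=
  [(1, [(false, 532), (false, 15), (false, 153), (false, 1168), (false, 1)]),
   (1024, [(false, 805), (true, 1060), (false, 521), (true, 1096), (false, 225), (true, 1548),
    (false, 395), (true, 1080), (false, 641), (true, 1024)]),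
   (1, [(false, 532), (true, 74), (true, 1688), (true, 11), (false, 688), (true, 134),
    (true, 1048), (true, 3), (false, 1808), (true, 171), (true, 148), (true, 66), (false, 864),
    (true, 740), (true, 1668), (true, 1)])]

/-- All letters of the certificate. -/
def allLetters : List (Bool × ℕ) := (cert.map Prod.snd).flatten

theorem cert_ok : (cert.all fun c => okPath (ofBits c.1) c.2) = true := by decide +kernel

theorem cert_rel : ∀ c ∈ cert, (c.2.map fun z => pp z.1).prod = 1 := by
  have h : ∀ c ∈ cert, ∀ p : GolayPt,
      (c.2.map fun z => (pp z.1 : Equiv.Perm GolayPt)).foldr (fun σ q => σ q) p = p := by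
    decide +kernel
  intro c hc
  refine Subtype.ext (Equiv.ext fun p => ?_)
  rw [Subgroup.coe_one, Equiv.Perm.one_apply]
  refine Eq.trans ?_ (h c hc p)
  generalize c.2 = L
  induction L with
  | nil => rfl
  | cons z r ih =>
    rw [List.map_cons, List.prod_cons, Subgroup.coe_mul, Equiv.Perm.mul_apply, ih]
    rfl

theorem cert_closed : (part false allLetters).sum = 0 ∧ (part true allLetters).sum = 0 := by
  decide +kernel

theorem cert_one : accum permA (part false allLetters) + accum permB (part true allLetters) = 1 := by
  decide +kernel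

theorem no_complement (H : Subgroup El) (hd : H ⊓ proj.ker = ⊥) : H ⊔ proj.ker ≠ ⊤ := by
  intro hs
  have hsur : ∀ b, ∃ x ∈ H, proj x = pp b := fun b => by
    obtain ⟨y, hy⟩ := proj_surjective (pp b)
    have hy' : y ∈ H ⊔ proj.ker := by rw [hs]; exact Subgroup.mem_top y
    rw [Subgroup.mem_sup_of_normal_right] at hy'
    obtain ⟨x, hx, n, hn, rfl⟩ := hy'
    exact ⟨x, hx, by rw [← hy, map_mul, MonoidHom.mem_ker.mp hn, mul_one]⟩
  choose g hgH hgp using hsur
  have hval : ∀ c ∈ cert, (c.2.map fun z => (g z.1).f (ofBits z.2)).sum = 0 := by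
    intro c hc
    have h1 : val g c.2 = 1 := by
      have hk : val g c.2 ∈ H ⊓ proj.ker :=
        ⟨val_mem g hgH c.2, MonoidHom.mem_ker.mpr ((val_p g hgp c.2).trans (cert_rel c hc))⟩
      rwa [hd, Subgroup.mem_bot] at hk
    have h2 := (val_eval g hgp (ofBits c.1) c.2 (List.all_eq_true.mp cert_ok c hc)).1
    rw [← h2, h1, one_f]
  have hall : (allLetters.map fun z => (g z.1).f (ofBits z.2)).sum = 0 := by
    rw [allLetters, List.map_flatten, List.sum_flatten, List.map_map, List.map_map]
    refine List.sum_eq_zero fun v hv => ?_
    obtain ⟨c, hc, rfl⟩ := List.mem_map.mp hv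
    exact hval c hc
  rw [sum_parts (fun b => (g b).f), sum_map_f, sum_map_f, cert_closed.1, cert_closed.2] at hall
  have ha : ((g false).p : Equiv.Perm GolayPt) = permA := congrArg Subtype.val (hgp false)
  have hb : ((g true).p : Equiv.Perm GolayPt) = permB := congrArg Subtype.val (hgp true)
  have hz : ∀ x : El, x.f 0 = 0 := fun x => by
    have h := sum_map_f x []
    simpa [accum] using h.symm
  rw [hz, hz, zero_add, zero_add, ha, hb, cert_one] at hall
  exact one_ne_zero hall

end Cfsg.Agent.Classical.ParkerM23
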