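import Mathlib

/-!
A group with a split root datum: every non-central element is conjugate to `v * t * u` with the
middle torus factor prescribed (the prescribed Gauss decomposition of Ellers and Gordeev).
-/

set_option autoImplicit false

namespace Cfsg.Agent.Classical.PrescribedGauss

open scoped _root_.Classical

universe u v w

/-- Opposite simple root elements, the torus and the unipotent groups with their rank one
complements. -/
structure RootData (G : Type u) [Group G] (F : Type v) [Field F] (ι : Type w) [Fintype ι] where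
  x : ι → F → G
  y : ι → F → G
  T : (ι → Fˣ) →* G
  A : ι → ι → ℤ
  U : Subgroup G
  V : Subgroup G
  Ui : ι → Subgroup G
  Vi : ι → Subgroup G
  x_add : ∀ i a b, x i (a + b) = x i a * x i b
  y_add : ∀ i a b, y i (a + b) = y i a * y i b
  T_x : ∀ (t : ι → Fˣ) i a, T t * x i a = x i (((∏ p, t p ^ A p i : Fˣ) : F) * a) * T t
  T_y : ∀ (t : ι → Fˣ) i a, T t * y i a = y i ((((∏ p, t p ^ A p i)⁻¹ : Fˣ) : F) * a) * T t
  rank_one : ∀ i (r a : F) (s : Fˣ), (s : F) = 1 + r * a →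
    x i r * y i a = y i (a / s) * T (Pi.mulSingle i s) * x i (r / s)
  Ui_le : ∀ i, Ui i ≤ U
  Vi_le : ∀ i, Vi i ≤ V
  x_mem : ∀ i a, x i a ∈ U
  y_mem : ∀ i a, y i a ∈ V
  U_split : ∀ i, ∀ g ∈ U, ∃ a, x i (-a) * g ∈ Ui i
  V_split : ∀ i, ∀ g ∈ V, ∃ a, y i (-a) * g ∈ Vi i
  x_Ui : ∀ i a, ∀ g ∈ Ui i, x i a * g * (x i a)⁻¹ ∈ Ui i
  y_Ui : ∀ i a, ∀ g ∈ Ui i, y i a * g * (y i a)⁻¹ ∈ Ui i
  T_Ui : ∀ i t, ∀ g ∈ Ui i, T t * g * (T t)⁻¹ ∈ Ui i
  x_Vi : ∀ i a, ∀ g ∈ Vi i, x i a * g * (x i a)⁻¹ ∈ Vi i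
  y_Vi : ∀ i a, ∀ g ∈ Vi i, y i a * g * (y i a)⁻¹ ∈ Vi i
  T_Vi : ∀ i t, ∀ g ∈ Vi i, T t * g * (T t)⁻¹ ∈ Vi i
  gen : ∀ S : Subgroup G, (∀ i a, x i a ∈ S) → (∀ i a, y i a ∈ S) → S = ⊤
  coreU : ∀ g ∈ U, (∀ z, z * g * z⁻¹ ∈ U) → g = 1
  coreV : ∀ g ∈ V, (∀ z, z * g * z⁻¹ ∈ V) → g = 1

variable {G : Type u} [Group G] {F : Type v} [Field F] {ι : Type w} [Fintype ι]

namespace RootData

variable (D : RootData G F ι)

/-- The value of the `i`-th simple root at a torus element. -/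
noncomputable def chi (i : ι) (t : ι → Fˣ) : Fˣ := ∏ p, t p ^ D.A p i

theorem x_zero (i : ι) : D.x i 0 = 1 := by
  have h := D.x_add i 0 0
  rw [add_zero] at h
  exact mul_eq_left.1 h.symm

theorem y_zero (i : ι) : D.y i 0 = 1 := by
  have h := D.y_add i 0 0
  rw [add_zero] at h
  exact mul_eq_left.1 h.symm

theorem x_neg (i : ι) (a : F) : D.x i (-a) = (D.x i a)⁻¹ :=
  eq_inv_of_mul_eq_one_left (by rw [← D.x_add, neg_add_cancel, D.x_zero])

theorem y_neg (i : ι) (a : F) : D.y i (-a) = (D.y i a)⁻¹ :=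
  eq_inv_of_mul_eq_one_left (by rw [← D.y_add, neg_add_cancel, D.y_zero])

theorem U_decomp (i : ι) {g : G} (hg : g ∈ D.U) : ∃ a, ∃ h ∈ D.Ui i, g = D.x i a * h := by
  obtain ⟨a, ha⟩ := D.U_split i g hg
  exact ⟨a, _, ha, by rw [D.x_neg, mul_inv_cancel_left]⟩

theorem V_decomp (i : ι) {g : G} (hg : g ∈ D.V) : ∃ a, ∃ h ∈ D.Vi i, g = D.y i a * h := by
  obtain ⟨a, ha⟩ := D.V_split i g hg
  exact ⟨a, _, ha, by rw [D.y_neg, mul_inv_cancel_left]⟩

theorem x_V (i : ι) (a : F) {g : G} (hg : g ∈ D.Vi i) : D.x i a * g * (D.x i a)⁻¹ ∈ D.V :=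
  D.Vi_le i (D.x_Vi i a g hg)

/-- The rank one identity, inverted. -/
theorem rank_one' (i : ι) (r a : F) (s : Fˣ) (hs : (s : F) = 1 + r * a) :
    D.y i a * D.x i r = D.x i (r / s) * D.T (Pi.mulSingle i s⁻¹) * D.y i (a / s) := by
  have h := congrArg (·⁻¹) (D.rank_one i (-r) (-a) s (by rw [hs]; ring))
  simp only [mul_inv_rev, ← D.x_neg, ← D.y_neg, neg_neg, ← map_inv, ← mul_assoc] at h
  rw [h, neg_div, neg_div, neg_neg, neg_neg, Pi.mulSingle_inv]

/-- The rank one elements stay in the big cell. -/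
theorem rank_one_cell (hF : ∀ a b : F, ∃ s, s ≠ a ∧ s ≠ b) (i : ι) (a r b : F) :
    ∃ p c q : F, ∃ s : ι → Fˣ, D.y i a * D.x i r * D.y i b = D.x i p * D.y i c * D.T s * D.x i q := by
  obtain ⟨σ, h1, h2⟩ := hF (if a = 0 then 0 else -a⁻¹) (if b = 0 then 0 else r + b⁻¹)
  have e1 : 1 + σ * a ≠ 0 := by
    intro e
    rcases eq_or_ne a 0 with rfl | ha
    · simp at e
    · rw [if_neg ha] at h1
      exact h1 (by field_simp; linear_combination e)
  have e2 : 1 + (r - σ) * b ≠ 0 := by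
    intro e
    rcases eq_or_ne b 0 with rfl | hb
    · simp at e
    · rw [if_neg hb] at h2
      exact h2 (by field_simp; linear_combination -e)
  have k1 := D.rank_one' i σ a (Units.mk0 _ e1) rfl
  have k2 := D.rank_one i (r - σ) b (Units.mk0 _ e2) rfl
  refine ⟨σ / (1 + σ * a), (((∏ p, (Pi.mulSingle i (Units.mk0 _ e1)⁻¹ : ι → Fˣ) p ^ D.A p i)⁻¹ : Fˣ) : F) *
      (a / (1 + σ * a) + b / (1 + (r - σ) * b)), (r - σ) / (1 + (r - σ) * b),
    Pi.mulSingle i (Units.mk0 _ e1)⁻¹ * Pi.mulSingle i (Units.mk0 _ e2), ?_⟩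
  calc D.y i a * D.x i r * D.y i b
      = (D.y i a * D.x i σ) * (D.x i (r - σ) * D.y i b) := by
        rw [show r = σ + (r - σ) by ring, D.x_add, show σ + (r - σ) - σ = r - σ by ring]
        simp only [mul_assoc]
    _ = D.x i (σ / (1 + σ * a)) * (D.T (Pi.mulSingle i (Units.mk0 _ e1)⁻¹) *
          D.y i (a / (1 + σ * a) + b / (1 + (r - σ) * b))) *
          D.T (Pi.mulSingle i (Units.mk0 _ e2)) * D.x i ((r - σ) / (1 + (r - σ) * b)) := by
        rw [k1, k2, D.y_add]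
        simp only [Units.val_mk0, mul_assoc]
    _ = _ := by
        rw [D.T_y, map_mul]
        simp only [mul_assoc]

/-- The conjugates lying in `V T U` with a given torus part. -/
def Form (g : G) (t : ι → Fˣ) : Prop :=
  ∃ z, ∃ v ∈ D.V, ∃ u ∈ D.U, z * g * z⁻¹ = v * D.T t * u

/-- Every element lies in `U V T U`. -/
theorem mem_cell (hF : ∀ a b : F, ∃ s, s ≠ a ∧ s ≠ b) (g : G) :
    ∃ u₀ ∈ D.U, ∃ v ∈ D.V, ∃ t, ∃ u ∈ D.U, g = u₀ * v * D.T t * u := by
  have hmem : g ∈ Subgroup.closure {h : G | (∃ i a, h = D.x i a) ∨ ∃ i a, h = D.y i a} := by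
    rw [D.gen _ (fun i a => Subgroup.subset_closure (Or.inl ⟨i, a, rfl⟩))
      (fun i a => Subgroup.subset_closure (Or.inr ⟨i, a, rfl⟩))]
    trivial
  have step : ∀ h : G, ((∃ i a, h = D.x i a) ∨ ∃ i a, h = D.y i a) → ∀ k : G,
      (∃ u₀ ∈ D.U, ∃ v ∈ D.V, ∃ t, ∃ u ∈ D.U, k = u₀ * v * D.T t * u) →
      ∃ u₀ ∈ D.U, ∃ v ∈ D.V, ∃ t, ∃ u ∈ D.U, h * k = u₀ * v * D.T t * u := by
    rintro h (⟨i, a, rfl⟩ | ⟨i, a, rfl⟩) k ⟨u₀, hu₀, v, hv, t, u, hu, rfl⟩
    · exact ⟨_, mul_mem (D.x_mem i a) hu₀, v, hv, t, u, hu, by simp only [mul_assoc]⟩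
    obtain ⟨r, u₁, hu₁, rfl⟩ := D.U_decomp i hu₀
    obtain ⟨b, v₁, hv₁, rfl⟩ := D.V_decomp i hv
    have hu₁' : D.y i a * (D.x i r * u₁ * (D.x i r)⁻¹) * (D.y i a)⁻¹ ∈ D.Ui i :=
      D.y_Ui i a _ (D.x_Ui i r _ hu₁)
    obtain ⟨p, c, q, s, e⟩ := D.rank_one_cell hF i a r b
    have hv₁' : D.T s * (D.x i q * v₁ * (D.x i q)⁻¹) * (D.T s)⁻¹ ∈ D.Vi i :=
      D.T_Vi i s _ (D.x_Vi i q _ hv₁)
    refine ⟨(D.y i a * (D.x i r * u₁ * (D.x i r)⁻¹) * (D.y i a)⁻¹) * D.x i p,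
      mul_mem (D.Ui_le i hu₁') (D.x_mem i p),
      D.y i c * (D.T s * (D.x i q * v₁ * (D.x i q)⁻¹) * (D.T s)⁻¹),
      mul_mem (D.y_mem i c) (D.Vi_le i hv₁'), s * t,
      (D.T t)⁻¹ * D.x i q * D.T t * u, mul_mem ?_ hu, ?_⟩
    · have h2 := D.T_x t⁻¹ i q
      rw [map_inv] at h2
      rw [h2, inv_mul_cancel_right]
      exact D.x_mem i _
    · calc D.y i a * (D.x i r * u₁ * (D.y i b * v₁) * D.T t * u)
          = (D.y i a * (D.x i r * u₁ * (D.x i r)⁻¹) * (D.y i a)⁻¹) *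
              (D.y i a * D.x i r * D.y i b) * v₁ * D.T t * u := by group
        _ = _ := by rw [e, map_mul]; group
  refine Subgroup.closure_induction_left (p := fun k _ => ∃ u₀ ∈ D.U, ∃ v ∈ D.V, ∃ t, ∃ u ∈ D.U,
    k = u₀ * v * D.T t * u) ⟨1, one_mem _, 1, one_mem _, 1, 1, one_mem _, by simp⟩
    (fun h hh k _ ih => step h hh k ih) (fun h hh k _ ih => ?_) hmem
  rcases hh with ⟨i, a, rfl⟩ | ⟨i, a, rfl⟩
  · exact step _ (Or.inl ⟨i, -a, (D.x_neg i a).symm⟩) k ih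
  · exact step _ (Or.inr ⟨i, -a, (D.y_neg i a).symm⟩) k ih

theorem exists_form (hF : ∀ a b : F, ∃ s, s ≠ a ∧ s ≠ b) (g : G) : ∃ t, D.Form g t := by
  obtain ⟨u₀, hu₀, v, hv, t, u, hu, rfl⟩ := D.mem_cell hF g
  exact ⟨t, u₀⁻¹, v, hv, u * u₀, mul_mem hu hu₀, by group⟩

theorem core_step {g z v u : G} {t : ι → Fˣ} {i : ι} (hv : v ∈ D.V) (hu : u ∈ D.U)
    (hz : z * g * z⁻¹ = v * D.T t * u) :
    ∃ a b : F, ∃ v₁ ∈ D.Vi i, ∃ u₁ ∈ D.Ui i,
      z * g * z⁻¹ = v₁ * (D.y i a * D.T t * D.x i b) * u₁ ∧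
      (a = 0 → v ∈ D.Vi i) ∧ (b = 0 → u ∈ D.Ui i) := by
  obtain ⟨a, v₁, hv₁, rfl⟩ := D.V_decomp i hv
  obtain ⟨b, u₁, hu₁, rfl⟩ := D.U_decomp i hu
  refine ⟨a, b, _, D.y_Vi i a _ hv₁, u₁, hu₁, by rw [hz]; group, ?_, ?_⟩
  · rintro rfl; rwa [D.y_zero, one_mul]
  · rintro rfl; rwa [D.x_zero, one_mul]

/-- A conjugate, by an element normalising the complements, of a core element gives a form. -/
theorem form_of_core {g z : G} {i : ι} {v₁ u₁ m w : G} (hv₁ : v₁ ∈ D.Vi i) (hu₁ : u₁ ∈ D.Ui i)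
    (hz : z * g * z⁻¹ = v₁ * m * u₁)
    (hwV : ∀ h ∈ D.Vi i, w * h * w⁻¹ ∈ D.Vi i) (hwU : ∀ h ∈ D.Ui i, w * h * w⁻¹ ∈ D.Ui i)
    {a b : F} {t : ι → Fˣ} (hm : w * m * w⁻¹ = D.y i a * D.T t * D.x i b) : D.Form g t := by
  refine ⟨w * z, (w * v₁ * w⁻¹) * D.y i a, mul_mem (D.Vi_le i (hwV _ hv₁)) (D.y_mem i a),
    D.x i b * (w * u₁ * w⁻¹), mul_mem (D.x_mem i b) (D.Ui_le i (hwU _ hu₁)), ?_⟩
  calc w * z * g * (w * z)⁻¹ = w * (z * g * z⁻¹) * w⁻¹ := by group
    _ = (w * v₁ * w⁻¹) * (w * m * w⁻¹) * (w * u₁ * w⁻¹) := by rw [hz]; group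
    _ = _ := by rw [hm]; group

/-- One torus coordinate can be changed at will. -/
theorem step_core {g z : G} {i : ι} {v₁ u₁ : G} {t : ι → Fˣ} {a b : F} (hv₁ : v₁ ∈ D.Vi i)
    (hu₁ : u₁ ∈ D.Ui i) (hz : z * g * z⁻¹ = v₁ * (D.y i a * D.T t * D.x i b) * u₁)
    (hne : a ≠ 0 ∨ b ≠ 0 ∨ D.chi i t ≠ 1) (s : Fˣ) : D.Form g (t * Pi.mulSingle i s) := by
  have case_b : ∀ {z v₁ u₁ : G} {a b : F}, v₁ ∈ D.Vi i → u₁ ∈ D.Ui i →
      z * g * z⁻¹ = v₁ * (D.y i a * D.T t * D.x i b) * u₁ → b ≠ 0 →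
      D.Form g (t * Pi.mulSingle i s) := by
    intro z v₁ u₁ a b hv₁ hu₁ hz hb
    have k := D.rank_one i b (((s : F) - 1) / b) s (by field_simp; ring)
    refine D.form_of_core hv₁ hu₁ hz (w := D.y i (-(((s : F) - 1) / b))) (D.y_Vi i _) (D.y_Ui i _)
      (a := -(((s : F) - 1) / b) + a + (((D.chi i t)⁻¹ : Fˣ) : F) * (((s : F) - 1) / b / s))
      (b := b / s) ?_
    rw [← D.y_neg, neg_neg]
    calc D.y i (-(((s : F) - 1) / b)) * (D.y i a * D.T t * D.x i b) * D.y i (((s : F) - 1) / b)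
        = D.y i (-(((s : F) - 1) / b)) * D.y i a * D.T t *
            (D.x i b * D.y i (((s : F) - 1) / b)) := by group
      _ = _ := by
        rw [k, D.y_add, D.y_add, map_mul]
        simp only [← mul_assoc]
        rw [mul_assoc _ (D.T t) (D.y i _), D.T_y]
        simp only [← mul_assoc]
        rfl
  rcases eq_or_ne b 0 with rfl | hb
  swap
  · exact case_b hv₁ hu₁ hz hb
  rcases eq_or_ne a 0 with rfl | ha
  · have hμ : D.chi i t ≠ 1 := by tauto
    rw [D.y_zero, D.x_zero, one_mul, mul_one] at hz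
    refine case_b (z := D.x i 1 * z) (a := 0) (b := (((D.chi i t)⁻¹ : Fˣ) : F) + -1)
      (D.x_Vi i 1 _ hv₁) (D.x_Ui i 1 _ hu₁) ?_ ?_
    · have h2 : D.T t * D.x i (((D.chi i t)⁻¹ : Fˣ) : F) = D.x i 1 * D.T t := by
        rw [D.T_x]; congr 2; exact Units.mul_inv _
      calc D.x i 1 * z * g * (D.x i 1 * z)⁻¹ = D.x i 1 * (z * g * z⁻¹) * (D.x i 1)⁻¹ := by group
        _ = (D.x i 1 * v₁ * (D.x i 1)⁻¹) * (D.x i 1 * D.T t * (D.x i 1)⁻¹) *
            (D.x i 1 * u₁ * (D.x i 1)⁻¹) := by rw [hz]; group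
        _ = _ := by rw [D.y_zero, one_mul, D.x_add, D.x_neg, ← h2]; group
    · intro e
      refine hμ (inv_eq_one.1 (Units.ext ?_))
      rw [Units.val_one]
      linear_combination e
  · have k := D.rank_one i (((s : F) - 1) / a) a s (by field_simp; ring)
    refine D.form_of_core hv₁ hu₁ hz (w := D.x i (((s : F) - 1) / a)) (D.x_Vi i _) (D.x_Ui i _)
      (a := a / s)
      (b := (((D.chi i t)⁻¹ : Fˣ) : F) * (((s : F) - 1) / a / s) + -(((s : F) - 1) / a)) ?_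
    have h2 : D.x i (((s : F) - 1) / a / s) * D.T t =
        D.T t * D.x i ((((D.chi i t)⁻¹ : Fˣ) : F) * (((s : F) - 1) / a / s)) := by
      rw [D.T_x, ← mul_assoc]
      congr 2
      rw [show (∏ p, t p ^ D.A p i) = D.chi i t from rfl, Units.mul_inv, one_mul]
    calc D.x i (((s : F) - 1) / a) * (D.y i a * D.T t * D.x i 0) * (D.x i (((s : F) - 1) / a))⁻¹
        = (D.x i (((s : F) - 1) / a) * D.y i a) * D.T t * (D.x i (((s : F) - 1) / a))⁻¹ := by
          rw [D.x_zero]; group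
      _ = _ := by
        rw [k, mul_assoc _ (D.x i _) (D.T t), h2, mul_comm t, map_mul, D.x_add, D.x_neg]
        group

theorem step_first {g z v u : G} {t : ι → Fˣ} {i : ι} (hv : v ∈ D.V) (hu : u ∈ D.U)
    (hz : z * g * z⁻¹ = v * D.T t * u) (hne : v ∉ D.Vi i ∨ u ∉ D.Ui i ∨ D.chi i t ≠ 1)
    {t' : ι → Fˣ} (ht' : ∀ j ≠ i, t' j = t j) : D.Form g t' := by
  obtain ⟨a, b, v₁, hv₁, u₁, hu₁, hz', ha, hb⟩ := D.core_step (i := i) hv hu hz
  have e : t' = t * Pi.mulSingle i ((t i)⁻¹ * t' i) := by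
    funext j
    rcases eq_or_ne j i with rfl | hj
    · simp
    · simp [hj, ht' j hj]
  rw [e]
  exact D.step_core hv₁ hu₁ hz' (by tauto) _

theorem step_chi {g : G} {t : ι → Fˣ} {i : ι} (hg : D.Form g t) (hne : D.chi i t ≠ 1)
    {t' : ι → Fˣ} (ht' : ∀ j ≠ i, t' j = t j) : D.Form g t' := by
  obtain ⟨z, v, hv, u, hu, hz⟩ := hg
  exact D.step_first hv hu hz (Or.inr (Or.inr hne)) ht'

theorem chi_update (i j : ι) (t : ι → Fˣ) (s : Fˣ) :
    D.chi j (Function.update t i s) = s ^ D.A i j * (t i ^ D.A i j)⁻¹ * D.chi j t := by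
  rw [chi, chi, ← Finset.mul_prod_erase _ _ (Finset.mem_univ i),
    ← Finset.mul_prod_erase Finset.univ (fun p => t p ^ D.A p j) (Finset.mem_univ i),
    Function.update_self, mul_assoc, inv_mul_cancel_left]
  congr 1
  exact Finset.prod_congr rfl fun p hp => by
    rw [Function.update_of_ne (Finset.ne_of_mem_erase hp)]

theorem card_roots_le [Fintype F] {k : ℤ} (hk : k ≠ 0) (c : Fˣ) :
    (Finset.univ.filter fun s : Fˣ => s ^ k = c).card ≤ k.natAbs := by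
  have hn : 0 < k.natAbs := Int.natAbs_pos.2 hk
  obtain ⟨c', hc'⟩ : ∃ c' : Fˣ, ∀ s : Fˣ, s ^ k = c → s ^ k.natAbs = c' := by
    rcases Int.natAbs_eq k with h | h
    · exact ⟨c, fun s hs => by rw [← hs]; conv_rhs => rw [h, zpow_natCast]⟩
    · exact ⟨c⁻¹, fun s hs => by
        rw [← hs, ← zpow_natCast]; conv_rhs => rw [h, zpow_neg, inv_inv]⟩
  calc (Finset.univ.filter fun s : Fˣ => s ^ k = c).card
      = ((Finset.univ.filter fun s : Fˣ => s ^ k = c).map ⟨_, Units.val_injective⟩).card :=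
        (Finset.card_map _).symm
    _ ≤ (Polynomial.nthRoots k.natAbs (c' : F)).toFinset.card := Finset.card_le_card fun x hx => by
        obtain ⟨s, hs, rfl⟩ := Finset.mem_map.1 hx
        rw [Multiset.mem_toFinset, Polynomial.mem_nthRoots hn]
        show (s : F) ^ _ = _
        rw [← Units.val_pow_eq_pow_val, hc' s (Finset.mem_filter.1 hs).2]
    _ ≤ k.natAbs := le_trans (Multiset.toFinset_card_le _) (Polynomial.card_nthRoots _ _)

/-- A value of one coordinate keeping the prescribed root values away from one. -/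
theorem exists_value [Fintype F] (hq : 7 ≤ Fintype.card F) (hA : ∀ i, D.A i i = 2)
    (hrow : ∀ i, ∑ j ∈ Finset.univ.erase i, (D.A i j).natAbs ≤ 3) (p : ι) (t t' : ι → Fˣ) :
    ∃ s : Fˣ, (∀ j ≠ p, D.A p j ≠ 0 → D.chi j (Function.update t p s) ≠ 1) ∧
      D.chi p (Function.update t' p s) ≠ 1 := by
  have eqv : ∀ j, ∀ t : ι → Fˣ, ∀ s : Fˣ, D.chi j (Function.update t p s) = 1 →
      s ^ D.A p j = t p ^ D.A p j * (D.chi j t)⁻¹ := fun j t s h => by
    rw [D.chi_update, mul_assoc, mul_eq_one_iff_eq_inv, mul_inv_rev, inv_inv] at h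
    rw [h, mul_comm]
  let bad := ((Finset.univ.erase p).filter fun j => D.A p j ≠ 0).biUnion fun j =>
      Finset.univ.filter fun s : Fˣ => s ^ D.A p j = t p ^ D.A p j * (D.chi j t)⁻¹
  let bad' := Finset.univ.filter fun s : Fˣ => s ^ D.A p p = t' p ^ D.A p p * (D.chi p t')⁻¹
  have hbad : bad.card ≤ 3 := by
    refine le_trans Finset.card_biUnion_le (le_trans (Finset.sum_le_sum fun j hj =>
      card_roots_le (Finset.mem_filter.1 hj).2 _) (le_trans ?_ (hrow p)))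
    exact Finset.sum_le_sum_of_subset (Finset.filter_subset _ _)
  have hbad' : bad'.card ≤ 2 := le_trans (card_roots_le (by rw [hA]; norm_num) _) (by rw [hA]; rfl)
  obtain ⟨s, -, hs⟩ := Finset.exists_mem_notMem_of_card_lt_card
    (s := bad ∪ bad') (t := (Finset.univ : Finset Fˣ)) (by
      have h := Finset.card_union_le bad bad'
      rw [Finset.card_univ, Fintype.card_units]
      omega)
  simp only [Finset.mem_union, not_or] at hs
  refine ⟨s, fun j hjp hj h => hs.1 ?_, fun h => hs.2 ?_⟩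
  · exact Finset.mem_biUnion.2 ⟨j, by simp [hjp, hj], by simp [eqv j t s h]⟩
  · simp [bad', eqv p t' s h]

/-- Connectedness. -/
def Connected : Prop :=
  ∀ S : Finset ι, S.Nonempty → S ≠ Finset.univ → ∃ q ∈ S, ∃ p ∉ S, D.A q p ≠ 0

theorem form_extend [Fintype F] (hq : 7 ≤ Fintype.card F) (hA : ∀ i, D.A i i = 2)
    (hrow : ∀ i, ∑ j ∈ Finset.univ.erase i, (D.A i j).natAbs ≤ 3) (hconn : D.Connected)
    {g : G} (goal : ι → Fˣ) : ∀ (n : ℕ) (S : Finset ι), S.Nonempty → Fintype.card ι ≤ n + S.card →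
      ∀ t, D.Form g t → (∀ j ∉ S, (∃ q ∈ S, D.A q j ≠ 0) → D.chi j t ≠ 1) →
        D.Form g (fun j => if j ∈ S then t j else goal j) := by
  intro n
  induction n with
  | zero =>
    intro S _ hc t ht _
    have : S = Finset.univ := Finset.eq_univ_of_card _ (le_antisymm (Finset.card_le_univ S) (by omega))
    simpa [this] using ht
  | succ n ih =>
    intro S hS hc t ht hinv
    by_cases hu : S = Finset.univ
    · simpa [hu] using ht
    obtain ⟨q, hqS, p, hpS, hqp⟩ := hconn S hS hu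
    obtain ⟨s, hs1, hs2⟩ := D.exists_value hq hA hrow p t (fun j => if j ∈ S then t j else goal j)
    have h1 : D.Form g (Function.update t p s) :=
      D.step_chi ht (hinv p hpS ⟨q, hqS, hqp⟩) fun j hj => Function.update_of_ne hj _ _
    have h2 := ih (insert p S) (Finset.insert_nonempty _ _)
      (by rw [Finset.card_insert_of_notMem hpS]; omega) _ h1 (by
        intro j hj hex
        rw [Finset.mem_insert, not_or] at hj
        by_cases hpj : D.A p j = 0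
        · obtain ⟨r, hr, hrj⟩ := hex
          have hrS : r ∈ S := (Finset.mem_insert.1 hr).resolve_left fun e => hrj (e ▸ hpj)
          rw [D.chi_update, hpj, zpow_zero, zpow_zero, inv_one, one_mul, one_mul]
          exact hinv j hj.2 ⟨r, hrS, hrj⟩
        · exact hs1 j hj.1 hpj)
    refine D.step_chi (i := p) h2 ?_ fun j hj => by
      simp [hj, Finset.mem_insert, Function.update_of_ne hj]
    convert hs2 using 2
    funext j
    rcases eq_or_ne j p with rfl | hj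
    · simp
    · simp [hj, Finset.mem_insert, Function.update_of_ne hj]

/-- The prescribed Gauss decomposition. -/
theorem form_of_notMem_center [Fintype F] (hq : 7 ≤ Fintype.card F) (hA : ∀ i, D.A i i = 2)
    (hrow : ∀ i, ∑ j ∈ Finset.univ.erase i, (D.A i j).natAbs ≤ 3) (hconn : D.Connected)
    {g : G} (hg : g ∉ Subgroup.center G) (goal : ι → Fˣ) : D.Form g goal := by
  have hF : ∀ a b : F, ∃ s, s ≠ a ∧ s ≠ b := fun a b => by
    obtain ⟨s, -, hs⟩ := Finset.exists_mem_notMem_of_card_lt_card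
      (s := ({a, b} : Finset F)) (t := Finset.univ)
      (by have := Finset.card_le_two (a := a) (b := b); rw [Finset.card_univ]; omega)
    simp only [Finset.mem_insert, Finset.mem_singleton, not_or] at hs
    exact ⟨s, hs.1, hs.2⟩
  obtain ⟨t, z, v, hv, u, hu, hz⟩ := D.exists_form hF g
  by_cases hnc : ∃ z v u, v ∈ D.V ∧ u ∈ D.U ∧ z * g * z⁻¹ = v * D.T t * u ∧
      ∃ i, v ∉ D.Vi i ∨ u ∉ D.Ui i ∨ D.chi i t ≠ 1
  · obtain ⟨z, v, u, hv, hu, hz, i, hi⟩ := hnc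
    obtain ⟨s, hs1, hs2⟩ := D.exists_value hq hA hrow i t goal
    have h1 : D.Form g (Function.update t i s) :=
      D.step_first hv hu hz hi fun j hj => Function.update_of_ne hj _ _
    have h2 := D.form_extend hq hA hrow hconn goal _ {i} (Finset.singleton_nonempty i)
      (le_add_right le_rfl) _ h1 (by
        intro j hj hex
        obtain ⟨r, hr, hrj⟩ := hex
        rw [Finset.mem_singleton] at hj hr
        exact hs1 j hj (hr ▸ hrj))
    refine D.step_chi (i := i) h2 ?_ fun j hj => by simp [hj]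
    convert hs2 using 2
    funext j
    rcases eq_or_ne j i with rfl | hj
    · simp
    · simp [hj]
  push Not at hnc
  exfalso
  have hflag := hnc
  set P : G → Prop := fun w => ∀ z v u, v ∈ D.V → u ∈ D.U → z * g * z⁻¹ = v * D.T t * u →
    (w * v * w⁻¹ ∈ D.V ∧ w * u * w⁻¹ ∈ D.U ∧ w * D.T t * w⁻¹ = D.T t) with hP
  let S : Subgroup G :=
    { carrier := {w | P w ∧ P w⁻¹}
      one_mem' := by
        refine ⟨?_, ?_⟩ <;> intro z v u hv hu _ <;> simp [hv, hu]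
      inv_mem' := fun {w} hw => ⟨hw.2, by rw [inv_inv]; exact hw.1⟩
      mul_mem' := fun {w₁ w₂} h₁ h₂ => by
        have key : ∀ a b, P a → P b → P (a * b) := by
          intro a b ha hb z v u hv hu hz
          obtain ⟨bv, bu, bt⟩ := hb z v u hv hu hz
          obtain ⟨av, au, at'⟩ := ha (b * z) _ _ bv bu (by
            calc b * z * g * (b * z)⁻¹ = b * (z * g * z⁻¹) * b⁻¹ := by group
              _ = (b * v * b⁻¹) * (b * D.T t * b⁻¹) * (b * u * b⁻¹) := by rw [hz]; group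
              _ = _ := by rw [bt])
          refine ⟨?_, ?_, ?_⟩
          · rw [show a * b * v * (a * b)⁻¹ = a * (b * v * b⁻¹) * a⁻¹ by group]; exact av
          · rw [show a * b * u * (a * b)⁻¹ = a * (b * u * b⁻¹) * a⁻¹ by group]; exact au
          · rw [show a * b * D.T t * (a * b)⁻¹ = a * (b * D.T t * b⁻¹) * a⁻¹ by group, bt, at']
        exact ⟨key _ _ h₁.1 h₂.1, by rw [mul_inv_rev]; exact key _ _ h₂.2 h₁.2⟩ }
  have hchi : ∀ i, D.chi i t = 1 := fun i => (hflag z v u hv hu hz i).2.2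
  have hS : S = ⊤ := by
    have hx : ∀ i a, P (D.x i a) := fun i a z v u hv hu hz => by
      obtain ⟨h1, h2, -⟩ := hflag z v u hv hu hz i
      refine ⟨D.x_V i a h1, D.Ui_le i (D.x_Ui i a _ h2), ?_⟩
      have := D.T_x t i a
      rw [show (∏ p, t p ^ D.A p i) = 1 from hchi i, Units.val_one, one_mul] at this
      rw [← this, mul_inv_cancel_right]
    have hy : ∀ i a, P (D.y i a) := fun i a z v u hv hu hz => by
      obtain ⟨h1, h2, -⟩ := hflag z v u hv hu hz i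
      refine ⟨D.Vi_le i (D.y_Vi i a _ h1), D.Ui_le i (D.y_Ui i a _ h2), ?_⟩
      have := D.T_y t i a
      rw [show (∏ p, t p ^ D.A p i) = 1 from hchi i, inv_one, Units.val_one, one_mul] at this
      rw [← this, mul_inv_cancel_right]
    exact D.gen S (fun i a => ⟨hx i a, by rw [← D.x_neg]; exact hx i _⟩)
      (fun i a => ⟨hy i a, by rw [← D.y_neg]; exact hy i _⟩)
  have hall : ∀ w, w * v * w⁻¹ ∈ D.V ∧ w * u * w⁻¹ ∈ D.U ∧ w * D.T t * w⁻¹ = D.T t := fun w =>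
    (show w ∈ S by rw [hS]; trivial).1 z v u hv hu hz
  rw [D.coreV v hv fun w => (hall w).1, D.coreU u hu fun w => (hall w).2.1, one_mul, mul_one] at hz
  have hT : D.T t ∈ Subgroup.center G :=
    Subgroup.mem_center_iff.2 fun w => mul_inv_eq_iff_eq_mul.1 (hall w).2.2
  refine hg ?_
  rw [show g = z⁻¹ * (z * g * z⁻¹) * z by group, hz, mul_assoc,
    ← Subgroup.mem_center_iff.1 hT z, inv_mul_cancel_left]
  exact hT

end RootData

end Cfsg.Agent.Classical.PrescribedGauss
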