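import Cfsg.Agent.Lib.Classical.UnitaryConjugacy
import Cfsg.Agent.Lib.Classical.NormalForms
import Cfsg.Agent.Lib.Classical.Witt
import Cfsg.Agent.Lib.Lie.SemisimpleSimilar

/-! Semisimple isometries of a non-degenerate form that are similar are conjugate by an isometry. -/

set_option autoImplicit false

namespace Cfsg.Agent.SemisimpleFormConjugacy

open LinearMap (BilinForm)
open Polynomial

variable {F V : Type*} [Field F] [AddCommGroup V] [Module F V] [FiniteDimensional F V]

/-- A semisimple map: a vector killed by the square of a polynomial in it is killed by the polynomial. -/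
theorem killed_of_sq {g : Module.End F V} {M : ℕ} (hM : (M : F) ≠ 0) (hg : g ^ M = 1) (P : F[X]) {x : V}
    (h : aeval g P (aeval g P x) = 0) : aeval g P x = 0 := by
  classical
  set d := EuclideanDomain.gcd (P * P) (X ^ M - Polynomial.C 1)
  have hd : d ∣ P := by
    have h1 : Squarefree d := Squarefree.squarefree_of_dvd (EuclideanDomain.gcd_dvd_right _ _)
      (Polynomial.separable_X_pow_sub_C 1 hM one_ne_zero).squarefree
    refine (Squarefree.dvd_pow_iff_dvd h1 two_ne_zero).1 ?_
    rw [sq]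
    exact EuclideanDomain.gcd_dvd_left _ _
  obtain ⟨c, hc⟩ := hd
  have hdx : aeval g d x = 0 := by
    rw [show d = EuclideanDomain.gcd (P * P) (X ^ M - Polynomial.C 1) from rfl, EuclideanDomain.gcd_eq_gcd_ab,
      mul_comm (P * P), mul_comm (X ^ M - Polynomial.C 1)]
    simp [h, hg, Module.End.mul_apply]
  rw [hc, mul_comm, map_mul, Module.End.mul_apply, hdx, map_zero]

variable (B : BilinForm F V)

theorem exists_alt_isometry {W : Type*} [AddCommGroup W] [Module F W] [FiniteDimensional F W]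
    (B₁ B₂ : BilinForm F W) (h₁ : B₁.Nondegenerate) (h₂ : B₂.Nondegenerate) (a₁ : B₁.IsAlt) (a₂ : B₂.IsAlt) :
    ∃ k : W →ₗ[F] W, ∀ x y, B₂ (k x) (k y) = B₁ x y := by
  classical
  have key : ∀ (β : BilinForm F W), β.Nondegenerate → β.IsAlt →
      ∃ (m : ℕ) (b : Module.Basis (Fin m ⊕ Fin m) F W), 2 * m = Module.finrank F W ∧
        ∀ i j, β (b i) (b j) = Sum.elim (fun i => Sum.elim (fun _ => (0 : F)) (fun j => if i = j then 1 else 0) j)
          (fun i => Sum.elim (fun j => if j = i then -1 else 0) (fun _ => 0) j) i := by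
    intro β hβ hA
    obtain ⟨m, k, e, f, r, hmk, -, -, hEF, hEE, hFF, hrad, hspan⟩ :=
      Classical.exists_symplectic_family β hA _ ⊤ rfl
    rw [finrank_top] at hmk
    have hr : Set.range r ⊆ {0} := by
      rintro _ ⟨j, rfl⟩
      exact hβ.1 _ fun w => hrad j w trivial
    have hk : k = 0 ∨ ∀ j, r j = 0 := Or.inr fun j => hr ⟨j, rfl⟩
    have hs : ⊤ ≤ Submodule.span F (Set.range (Sum.elim e f)) := by
      refine hspan.trans (Submodule.span_le.2 ?_)
      rintro x ((⟨i, rfl⟩ | ⟨i, rfl⟩) | hx)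
      · exact Submodule.subset_span ⟨Sum.inl i, rfl⟩
      · exact Submodule.subset_span ⟨Sum.inr i, rfl⟩
      · rw [Set.mem_singleton_iff.1 (hr hx)]; exact Submodule.zero_mem _
    have hle : Module.finrank F W ≤ Fintype.card (Fin m ⊕ Fin m) :=
      le_trans (by rw [← finrank_top F W]; exact Submodule.finrank_mono hs) (finrank_range_le_card _)
    rw [Fintype.card_sum, Fintype.card_fin] at hle
    have hcard : 2 * m = Module.finrank F W := by omega
    refine ⟨m, basisOfTopLeSpanOfCardEqFinrank (Sum.elim e f) hs (by simp; omega), hcard, ?_⟩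
    rw [coe_basisOfTopLeSpanOfCardEqFinrank]
    rintro (i | i) (j | j)
    · exact hEE i j
    · exact hEF i j
    · show β (f i) (e j) = _
      rw [← LinearMap.IsAlt.neg hA (e j) (f i), hEF]
      simp only [Sum.elim_inr, Sum.elim_inl]
      split_ifs <;> simp
    · exact hFF i j
  obtain ⟨m₁, b₁, hm₁, hb₁⟩ := key B₁ h₁ a₁
  obtain ⟨m₂, b₂, hm₂, hb₂⟩ := key B₂ h₂ a₂
  obtain rfl : m₁ = m₂ := by omega
  refine ⟨b₁.constr F b₂, fun x y => ?_⟩
  have h : B₂.compl₁₂ (b₁.constr F b₂) (b₁.constr F b₂) = B₁ := LinearMap.ext_basis b₁ b₁ fun i j => by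
    simp [hb₁, hb₂]
  rw [← h]; rfl

/-- A solution on an invariant subspace. -/
def Good (g S : Module.End F V) (U : Submodule F V) : Prop :=
  ∃ k : V →ₗ[F] V, (∀ x ∈ U, k x ∈ U ∧ k (g x) = g (k x)) ∧ ∀ x ∈ U, ∀ y ∈ U, B (k x) (k y) = B (S x) y

theorem good_sup {g S : Module.End F V} {U U' : Submodule F V} (hd : Disjoint U U') (hgU : ∀ x ∈ U, g x ∈ U)
    (hgU' : ∀ x ∈ U', g x ∈ U') (hSU : ∀ x ∈ U, S x ∈ U) (hSU' : ∀ x ∈ U', S x ∈ U')
    (ho : ∀ x ∈ U, ∀ y ∈ U', B x y = 0 ∧ B y x = 0) (h : Good B g S U) (h' : Good B g S U') :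
    Good B g S (U ⊔ U') := by
  obtain ⟨k, hk, hkB⟩ := h
  obtain ⟨k', hk', hkB'⟩ := h'
  obtain ⟨C, hC⟩ := Submodule.exists_isCompl (U ⊔ U')
  have hcompl : IsCompl U (U' ⊔ C) := by
    refine ⟨hd.disjoint_sup_right_of_disjoint_sup_left hC.disjoint, ?_⟩
    rw [codisjoint_iff, ← sup_assoc]
    exact hC.codisjoint.eq_top
  let pr : V →ₗ[F] V := U.subtype.comp (Submodule.linearProjOfIsCompl U _ hcompl)
  have h1 : ∀ x ∈ U, pr x = x := fun x hx =>
    congrArg Subtype.val (Submodule.linearProjOfIsCompl_apply_left hcompl ⟨x, hx⟩)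
  have h2 : ∀ x ∈ U', pr x = 0 := fun x hx =>
    congrArg Subtype.val (Submodule.projectionOnto_apply_of_mem_right hcompl (Submodule.mem_sup_left hx))
  let K : V →ₗ[F] V := k.comp pr + k'.comp (LinearMap.id - pr)
  have hK : ∀ x ∈ U, ∀ y ∈ U', K (x + y) = k x + k' y := fun x hx y hy => by
    simp [K, map_add, h1 x hx, h2 y hy]
  refine ⟨K, fun z hz => ?_, fun z hz w hw => ?_⟩
  · obtain ⟨x, hx, y, hy, rfl⟩ := Submodule.mem_sup.1 hz
    rw [hK x hx y hy, map_add, hK _ (hgU x hx) _ (hgU' y hy), (hk x hx).2, (hk' y hy).2, map_add]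
    exact ⟨Submodule.add_mem_sup (hk x hx).1 (hk' y hy).1, rfl⟩
  · obtain ⟨x, hx, y, hy, rfl⟩ := Submodule.mem_sup.1 hz
    obtain ⟨x', hx', y', hy', rfl⟩ := Submodule.mem_sup.1 hw
    simp only [hK x hx y hy, hK x' hx' y' hy', map_add, LinearMap.add_apply, hkB x hx x' hx', hkB' y hy y' hy',
      (ho _ (hk x hx).1 _ (hk' y' hy').1).1, (ho _ (hk x' hx').1 _ (hk' y hy).1).2,
      (ho _ (hSU x hx) _ hy').1, (ho x' hx' _ (hSU' y hy)).2]

variable {B} {g S : Module.End F V} {M : ℕ}

section Decomposition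

variable (hg : ∀ x y, B (g x) (g y) = B x y) (hM : (M : F) ≠ 0) (hgM : g ^ M = 1)
include hg hM hgM

theorem isCompl_ker_range : IsCompl (LinearMap.ker (g * g - 1)) (LinearMap.range (g * g - 1)) := by
  have haev : aeval g (X * X - 1 : F[X]) = g * g - 1 := by simp
  have hd : Disjoint (LinearMap.ker (g * g - 1)) (LinearMap.range (g * g - 1)) := by
    rw [Submodule.disjoint_def]
    rintro _ hx ⟨y, rfl⟩
    rw [LinearMap.mem_ker] at hx
    have := killed_of_sq hM hgM (X * X - 1) (x := y) (by rw [haev]; exact hx)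
    rwa [haev] at this
  refine ⟨hd, ?_⟩
  rw [codisjoint_iff]
  exact Submodule.eq_top_of_disjoint _ _ (by rw [add_comm, LinearMap.finrank_range_add_finrank_ker]) hd

theorem orth_ker_range {x y : V} (hx : x ∈ LinearMap.ker (g * g - 1)) (hy : y ∈ LinearMap.range (g * g - 1)) :
    B x y = 0 ∧ B y x = 0 := by
  obtain ⟨z, rfl⟩ := hy
  have hgx : g (g x) = x := sub_eq_zero.1 (LinearMap.mem_ker.1 hx)
  show B x (g (g z) - z) = 0 ∧ B (g (g z) - z) x = 0
  constructor
  · rw [map_sub]; nth_rewrite 1 [← hgx]; rw [hg, hg, sub_self]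
  · rw [map_sub, LinearMap.sub_apply]; nth_rewrite 1 [← hgx]; rw [hg, hg, sub_self]

variable (hB : B.Nondegenerate) (hgS : g * S = S * g)
include hB hgS

/-- The part without eigenvalues `±1`. -/
theorem good_range [Finite F] (ε : F) (hε : ∀ x y, B x y = ε * B y x) (hεε : ε * ε = 1)
    (hSa : ∀ x y, B (S x) y = B x (S y)) (hSi : Function.Injective S) :
    Good B g S (LinearMap.range (g * g - 1)) := by
  classical
  set W := LinearMap.range (g * g - 1) with hW
  have hgW : ∀ x ∈ W, g x ∈ W := by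
    rintro _ ⟨z, rfl⟩
    exact ⟨g z, by simp [Module.End.mul_apply]⟩
  have hSW : ∀ x ∈ W, S x ∈ W := by
    rintro _ ⟨z, rfl⟩
    refine ⟨S z, ?_⟩
    have e : ∀ v, g (S v) = S (g v) := fun v => LinearMap.congr_fun hgS v
    simp [Module.End.mul_apply, e]
  have hgS' : ∀ v, g (S v) = S (g v) := fun v => LinearMap.congr_fun hgS v
  set g₀ := g.restrict hgW
  set S₀ := S.restrict hSW
  set β := B.restrict W
  have hβ : ∀ u : W, (∀ v : W, β u v = 0) → u = 0 := fun u hu => Subtype.ext (hB.1 _ fun z => by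
    obtain ⟨a, ha, b, hb, rfl⟩ := Submodule.mem_sup.1
      (show z ∈ LinearMap.ker (g * g - 1) ⊔ W by rw [(isCompl_ker_range hg hM hgM).sup_eq_top]; trivial)
    rw [map_add, (orth_ker_range hg hM hgM ha u.2).2, zero_add]
    exact hu ⟨b, hb⟩)
  have hβ' : ∀ u v : W, β u v = ε * β v u := fun u v => hε u v
  have huniq : ∀ y y' : Module.End F W, (∀ u v, β u (y v) = β u (y' v)) → y = y' := fun y y' h =>
    LinearMap.ext fun v => sub_eq_zero.1 (hβ _ fun u => by
      rw [hβ', map_sub, h, sub_self, mul_zero])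
  set R := Algebra.adjoin F ({g₀, S₀} : Set (Module.End F W))
  have hcommgen : ∀ a ∈ ({g₀, S₀} : Set (Module.End F W)), ∀ b ∈ ({g₀, S₀} : Set (Module.End F W)), a * b = b * a := by
    have h1 : g₀ * S₀ = S₀ * g₀ := LinearMap.ext fun u => Subtype.ext (hgS' u)
    rintro a (rfl | rfl) b (rfl | rfl) <;> first | rfl | exact h1 | exact h1.symm
  letI : CommRing R := Algebra.adjoinCommRingOfComm F hcommgen
  haveI : Module.Finite F (Module.End F W) := inferInstance
  haveI : Finite (Module.End F W) := Module.finite_of_finite F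
  have hg₀inj : Function.Injective g₀ := fun u v h => Subtype.ext (by
    have h1 : g (u : V) = g v := congrArg Subtype.val h
    refine sub_eq_zero.1 (hB.1 _ fun z => ?_)
    rw [← hg, map_sub g, h1, sub_self, map_zero, LinearMap.zero_apply])
  have hg₀M : g₀ ^ M = 1 := by
    refine LinearMap.ext fun u => Subtype.ext ?_
    have : ∀ (k : ℕ) (u : W), ((g₀ ^ k) u : V) = (g ^ k) u := fun k => by
      induction k with
      | zero => simp
      | succ k ih => intro u; rw [pow_succ', pow_succ', Module.End.mul_apply, Module.End.mul_apply, ← ih]; rfl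
    rw [this, hgM]; rfl
  have hM1 : 1 ≤ M := Nat.one_le_iff_ne_zero.2 fun h => hM (by rw [h, Nat.cast_zero])
  have hadj : ∀ x : R, ∃ y : R, ∀ u v, β (x.1 u) v = β u (y.1 v) := by
    rintro ⟨x, hx⟩
    induction hx using Algebra.adjoin_induction with
    | mem x hx =>
      rcases hx with rfl | rfl
      · refine ⟨⟨g₀ ^ (M - 1), pow_mem (Algebra.subset_adjoin (Set.mem_insert _ _)) _⟩, fun u v => ?_⟩
        have e : g₀ ((g₀ ^ (M - 1)) v) = v := by
          rw [← Module.End.mul_apply, ← pow_succ', Nat.sub_add_cancel hM1, hg₀M]; rfl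
        show β (g₀ u) v = β u ((g₀ ^ (M - 1)) v)
        conv_lhs => rw [← e]
        exact hg _ _
      · exact ⟨⟨S₀, Algebra.subset_adjoin (Set.mem_insert_of_mem _ rfl)⟩, fun u v => hSa u v⟩
    | algebraMap c => exact ⟨⟨algebraMap F _ c, algebraMap_mem _ c⟩, fun u v => by simp [Module.algebraMap_end_apply]⟩
    | add x y _ _ hx hy =>
      obtain ⟨x', hx'⟩ := hx
      obtain ⟨y', hy'⟩ := hy
      exact ⟨x' + y', fun u v => by simp [hx' u v, hy' u v]⟩
    | mul x y _ _ hx hy =>
      obtain ⟨x', hx'⟩ := hx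
      obtain ⟨y', hy'⟩ := hy
      refine ⟨y' * x', fun u v => ?_⟩
      show β (x (y u)) v = β u (y'.1 (x'.1 v))
      rw [← hy', ← hx']
  choose σ hσ using hadj
  have hσu : ∀ (x y : R), (∀ u v, β (x.1 u) v = β u (y.1 v)) → σ x = y := fun x y h =>
    Subtype.ext (huniq _ _ fun u v => by rw [← hσ, h])
  let σh : R →+* R :=
    { toFun := σ
      map_one' := hσu 1 1 fun u v => rfl
      map_mul' := fun x y => hσu _ _ fun u v => by
        show β (x.1 (y.1 u)) v = β u ((σ x * σ y).1 v)
        rw [mul_comm (σ x), hσ, hσ]; rfl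
      map_zero' := hσu 0 0 fun u v => by simp
      map_add' := fun x y => hσu _ _ fun u v => by simp [hσ] }
  have hσσ : ∀ x, σh (σh x) = x := fun x => hσu _ _ fun u v => by
    show β ((σ x).1 u) v = β u (x.1 v)
    rw [hβ', ← hσ, hβ' _ u, ← mul_assoc, hεε, one_mul]
  have hunit : ∀ x : R, Function.Injective x.1 → IsUnit x := fun x hx => by
    rw [isUnit_iff_exists_inv]
    obtain ⟨y, hy⟩ := (Finite.injective_iff_surjective (f := fun y : R => x * y)).1
      (fun a b h => Subtype.ext (LinearMap.ext fun u => hx (LinearMap.congr_fun (congrArg Subtype.val h) u))) 1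
    exact ⟨y, hy⟩
  let gR : R := ⟨g₀, Algebra.subset_adjoin (Set.mem_insert _ _)⟩
  let SR : R := ⟨S₀, Algebra.subset_adjoin (Set.mem_insert_of_mem _ rfl)⟩
  have hθ : IsUnit (gR - σh gR) := by
    refine hunit _ ((injective_iff_map_eq_zero _).2 fun u hu => Subtype.ext ?_)
    have hu' : g₀ u = (σ gR).1 u := sub_eq_zero.1 hu
    have h2 : g₀ (g₀ u) = u := sub_eq_zero.1 (hβ _ fun z => by
      rw [map_sub, LinearMap.sub_apply, sub_eq_zero, hu', hβ' _ z, hβ' u z]
      obtain ⟨z', rfl⟩ := (LinearMap.surjective_of_injective hg₀inj) z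
      congr 1
      rw [show β (g₀ z') (g₀ ((σ gR).1 u)) = β z' ((σ gR).1 u) from hg _ _]
      exact (hσ gR z' u).symm)
    exact Submodule.disjoint_def.1 (isCompl_ker_range hg hM hgM).disjoint (u : V)
      (LinearMap.mem_ker.2 (sub_eq_zero.2 (congrArg Subtype.val h2))) u.2
  obtain ⟨k, hk, hkS⟩ := UnitaryConjugacy.exists_norm σh hσσ hθ (s := SR)
    (hσu _ _ fun u v => hSa u v)
    (hunit _ fun u v h => Subtype.ext (hSi (congrArg Subtype.val h)))
  obtain ⟨W', hW'⟩ := W.exists_isCompl
  refine ⟨W.subtype.comp (k.1.comp (Submodule.linearProjOfIsCompl W W' hW')), fun x hx => ?_, fun x hx y hy => ?_⟩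
  · have e : ∀ x (hx : x ∈ W), Submodule.linearProjOfIsCompl W W' hW' x = ⟨x, hx⟩ := fun x hx =>
      Submodule.linearProjOfIsCompl_apply_left hW' ⟨x, hx⟩
    simp only [LinearMap.comp_apply, e _ hx, e _ (hgW x hx), Submodule.subtype_apply]
    refine ⟨(k.1 _).2, ?_⟩
    exact congrArg Subtype.val (LinearMap.congr_fun (congrArg Subtype.val (mul_comm k gR)) ⟨x, hx⟩)
  · have e : ∀ x (hx : x ∈ W), Submodule.linearProjOfIsCompl W W' hW' x = ⟨x, hx⟩ := fun x hx =>
      Submodule.linearProjOfIsCompl_apply_left hW' ⟨x, hx⟩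
    simp only [LinearMap.comp_apply, e _ hx, e _ hy, Submodule.subtype_apply]
    show β (k.1 ⟨x, hx⟩) (k.1 ⟨y, hy⟩) = β (S₀ ⟨x, hx⟩) ⟨y, hy⟩
    rw [hσ k, ← Module.End.mul_apply]
    rw [mul_comm] at hkS
    show β _ ((σh k * k).1 _) = _
    rw [hkS]
    exact (hSa _ _).symm

end Decomposition

variable (B) in
/-- The self-adjoint map carrying the pulled back form. -/
theorem exists_pullback (hB : B.Nondegenerate) (P : V →ₗ[F] V) :
    ∃ S : Module.End F V, ∀ x y, B (S x) y = B (P x) (P y) :=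
  ⟨(LinearMap.BilinForm.toDual B hB).symm.toLinearMap.comp (B.compl₁₂ P P), fun x y => by
    simp [LinearMap.BilinForm.apply_toDual_symm_apply]⟩

/-- Similar semisimple isometries of an alternating form are conjugate by an isometry. -/
theorem alternating_conj [Finite F] (hB : B.Nondegenerate) (hA : B.IsAlt) {g h : Module.End F V}
    (hg : ∀ x y, B (g x) (g y) = B x y) (hh : ∀ x y, B (h x) (h y) = B x y) {M : ℕ} (hM : (M : F) ≠ 0)
    (hgM : g ^ M = 1) (P : V ≃ₗ[F] V) (hP : ∀ x, P (g x) = h (P x)) :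
    ∃ Q : V ≃ₗ[F] V, (∀ x y, B (Q x) (Q y) = B x y) ∧ ∀ x, Q (g x) = h (Q x) := by
  classical
  obtain ⟨S, hS⟩ := exists_pullback B hB P.toLinearMap
  have hS' : ∀ x y, B (S x) y = B (P x) (P y) := hS
  have hsw : ∀ x y, B x y = -B y x := fun x y => by rw [LinearMap.IsAlt.neg hA y x]
  have hSa : ∀ x y, B (S x) y = B x (S y) := fun x y => by
    rw [hS', hsw x (S y), hS', hsw (P x) (P y)]
  have hginj : Function.Injective g := (injective_iff_map_eq_zero g).2 fun x hx => hB.1 _ fun z => by
    rw [← hg, hx, map_zero, LinearMap.zero_apply]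
  have hgsur := LinearMap.surjective_of_injective hginj
  have hSi : Function.Injective S := (injective_iff_map_eq_zero S).2 fun x hx => by
    refine P.injective ((hB.1 _ fun z => ?_).trans (map_zero P).symm)
    obtain ⟨z', rfl⟩ := P.surjective z
    rw [← hS', hx, map_zero, LinearMap.zero_apply]
  have hgS : g * S = S * g := LinearMap.ext fun x => sub_eq_zero.1 (hB.1 _ fun y => by
    obtain ⟨y', rfl⟩ := hgsur y
    rw [Module.End.mul_apply, Module.End.mul_apply, map_sub, LinearMap.sub_apply, hg, hS', hS', hP, hP, hh, sub_self])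
  have hgS' : ∀ v, g (S v) = S (g v) := fun v => LinearMap.congr_fun hgS v
  -- eigenspaces
  have hE : ∀ c : F, c * c = 1 → Good B g S (LinearMap.ker (g - c • (1 : Module.End F V))) := by
    intro c hc
    set W := LinearMap.ker (g - c • (1 : Module.End F V))
    have hmem : ∀ x, x ∈ W ↔ g x = c • x := fun x => by simp [W, sub_eq_zero]
    have hSW : ∀ x ∈ W, S x ∈ W := fun x hx => by rw [hmem] at hx ⊢; rw [hgS', hx, map_smul]
    have hnd : ∀ x ∈ W, (∀ y ∈ W, B x y = 0) → x = 0 := fun x hx h0 => hB.1 _ fun z => by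
      obtain ⟨a, ha, b, hb, rfl⟩ := Submodule.mem_sup.1
        (show z ∈ LinearMap.ker (g * g - 1) ⊔ LinearMap.range (g * g - 1) by
          rw [(isCompl_ker_range hg hM hgM).sup_eq_top]; trivial)
      have hxk : x ∈ LinearMap.ker (g * g - 1) := by
        rw [LinearMap.mem_ker, LinearMap.sub_apply, Module.End.mul_apply, (hmem x).1 hx, map_smul, (hmem x).1 hx,
          smul_smul, hc, one_smul, Module.End.one_apply, sub_self]
      rw [map_add, (orth_ker_range hg hM hgM hxk hb).1, add_zero]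
      have hga : g (g a) = a := sub_eq_zero.1 (LinearMap.mem_ker.1 ha)
      have h1 := h0 (g a + c • a) ((hmem _).2 (by rw [map_add, map_smul, hga, smul_add, smul_smul, hc, one_smul, add_comm]))
      have h2 : B x (g a) = c * B x a := by
        have h3 : g (c • x) = x := by rw [map_smul, (hmem x).1 hx, smul_smul, hc, one_smul]
        conv_lhs => rw [← h3]
        rw [hg, map_smul, LinearMap.smul_apply, smul_eq_mul]
      rw [map_add, h2, map_smul, smul_eq_mul] at h1
      by_cases h2F : (2 : F) = 0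
      · -- characteristic two: `a` is fixed by semisimplicity
        have hc1 : c = 1 := by
          have : (c - 1) * (c - 1) = 0 := by linear_combination hc - (c - 1) * h2F
          exact sub_eq_zero.1 (mul_self_eq_zero.1 this)
        have haW : a ∈ W := by
          rw [hmem, hc1, one_smul]
          have haev : aeval g (X - 1 : F[X]) = g - 1 := by simp
          have h4 := killed_of_sq hM hgM (X - 1) (x := a) (by
            rw [haev, LinearMap.sub_apply, LinearMap.sub_apply, map_sub, Module.End.one_apply, Module.End.one_apply, hga]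
            have : (2 : F) • (a - g a) = 0 := by rw [h2F, zero_smul]
            rw [← this, two_smul]; abel)
          rw [haev] at h4
          exact sub_eq_zero.1 h4
        exact h0 a haW
      · have hc0 : c ≠ 0 := fun h => by rw [h, mul_zero] at hc; exact zero_ne_one hc
        exact (mul_eq_zero.1 (show (2 * c) * B x a = 0 by linear_combination h1)).resolve_left
          (mul_ne_zero h2F hc0)
    set B₂ := B.restrict W
    set B₁ := B₂.compl₁₂ (S.restrict hSW) LinearMap.id
    have h₂ : B₂.Nondegenerate := by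
      refine (LinearMap.IsRefl.nondegenerate_iff_separatingLeft ?_).2 fun u hu => Subtype.ext (hnd u u.2 fun y hy => hu ⟨y, hy⟩)
      exact fun u v h => by show B (v : V) u = 0; rw [hsw, show B (u : V) v = 0 from h, neg_zero]
    have a₁ : B₁.IsAlt := fun u => by show B (S u) u = 0; rw [hS']; exact hA _
    have h₁ : B₁.Nondegenerate := by
      refine (LinearMap.IsRefl.nondegenerate_iff_separatingLeft a₁.isRefl).2 fun u hu => ?_
      have := hnd (S u) (hSW u u.2) fun y hy => hu ⟨y, hy⟩
      exact Subtype.ext (hSi (this.trans (map_zero S).symm))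
    obtain ⟨k, hk⟩ := exists_alt_isometry B₁ B₂ h₁ h₂ a₁ (fun u => hA u)
    obtain ⟨W', hW'⟩ := W.exists_isCompl
    refine ⟨W.subtype.comp (k.comp (Submodule.linearProjOfIsCompl W W' hW')), fun x hx => ?_, fun x hx y hy => ?_⟩
    · have e : ∀ x (hx : x ∈ W), Submodule.linearProjOfIsCompl W W' hW' x = ⟨x, hx⟩ := fun x hx =>
        Submodule.linearProjOfIsCompl_apply_left hW' ⟨x, hx⟩
      simp only [LinearMap.comp_apply, Submodule.subtype_apply, (hmem x).1 hx, e _ (W.smul_mem c hx), e x hx]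
      refine ⟨(k _).2, ?_⟩
      rw [show (⟨c • x, W.smul_mem c hx⟩ : W) = c • ⟨x, hx⟩ from rfl, map_smul, (hmem _).1 (k ⟨x, hx⟩).2]
      rfl
    · have e : ∀ x (hx : x ∈ W), Submodule.linearProjOfIsCompl W W' hW' x = ⟨x, hx⟩ := fun x hx =>
        Submodule.linearProjOfIsCompl_apply_left hW' ⟨x, hx⟩
      simp only [LinearMap.comp_apply, Submodule.subtype_apply, e _ hx, e _ hy]
      exact hk ⟨x, hx⟩ ⟨y, hy⟩
  have hgK : ∀ x ∈ LinearMap.ker (g * g - 1), g x ∈ LinearMap.ker (g * g - 1) := fun x hx => by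
    have : g (g x) = x := sub_eq_zero.1 (LinearMap.mem_ker.1 hx)
    rw [LinearMap.mem_ker, LinearMap.sub_apply, Module.End.mul_apply, this, Module.End.one_apply, sub_self]
  have hSK : ∀ x ∈ LinearMap.ker (g * g - 1), S x ∈ LinearMap.ker (g * g - 1) := fun x hx => by
    have : g (g x) = x := sub_eq_zero.1 (LinearMap.mem_ker.1 hx)
    rw [LinearMap.mem_ker, LinearMap.sub_apply, Module.End.mul_apply, hgS', hgS', this, Module.End.one_apply, sub_self]
  have hgR : ∀ x ∈ LinearMap.range (g * g - 1), g x ∈ LinearMap.range (g * g - 1) := by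
    rintro _ ⟨z, rfl⟩
    exact ⟨g z, by simp [Module.End.mul_apply]⟩
  have hSR : ∀ x ∈ LinearMap.range (g * g - 1), S x ∈ LinearMap.range (g * g - 1) := by
    rintro _ ⟨z, rfl⟩
    exact ⟨S z, by simp [Module.End.mul_apply, hgS']⟩
  have hker : Good B g S (LinearMap.ker (g * g - 1)) := by
    have h1 := hE 1 (one_mul 1)
    rw [one_smul] at h1
    by_cases h2F : (2 : F) = 0
    · have e : LinearMap.ker (g * g - 1) = LinearMap.ker (g - 1) := by
        ext x
        simp only [LinearMap.mem_ker, LinearMap.sub_apply, Module.End.mul_apply, Module.End.one_apply, sub_eq_zero]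
        refine ⟨fun hx => ?_, fun hx => by rw [hx, hx]⟩
        have haev : aeval g (X - 1 : F[X]) = g - 1 := by simp
        have h4 := killed_of_sq hM hgM (X - 1) (x := x) (by
          rw [haev, LinearMap.sub_apply, LinearMap.sub_apply, map_sub, Module.End.one_apply, Module.End.one_apply, hx]
          have : (2 : F) • (x - g x) = 0 := by rw [h2F, zero_smul]
          rw [← this, two_smul]; abel)
        rw [haev] at h4
        exact sub_eq_zero.1 h4
      rw [e]; exact h1
    · have h2 := hE (-1) (by ring)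
      rw [neg_smul, one_smul, sub_neg_eq_add] at h2
      have hp : ∀ x, x ∈ LinearMap.ker (g - 1) ↔ g x = x := fun x => by simp [sub_eq_zero]
      have hm : ∀ x, x ∈ LinearMap.ker (g + 1) ↔ g x = -x := fun x => by simp [eq_neg_iff_add_eq_zero]
      have e : LinearMap.ker (g * g - 1) = LinearMap.ker (g - 1) ⊔ LinearMap.ker (g + 1) := by
        refine le_antisymm (fun x hx => ?_) (sup_le ?_ ?_)
        · have hx' : g (g x) = x := sub_eq_zero.1 (LinearMap.mem_ker.1 hx)
          refine Submodule.mem_sup.2 ⟨(2 : F)⁻¹ • (x + g x), ?_, (2 : F)⁻¹ • (x - g x), ?_, ?_⟩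
          · rw [hp, map_smul, map_add, hx', add_comm]
          · rw [hm, map_smul, map_sub, hx', ← smul_neg, neg_sub]
          · rw [← smul_add, show x + g x + (x - g x) = (2 : F) • x by rw [two_smul]; abel, smul_smul,
              inv_mul_cancel₀ h2F, one_smul]
        · intro x hx
          rw [hp] at hx
          simp [hx]
        · intro x hx
          rw [hm] at hx
          simp [hx]
      rw [e]
      have hgS1 : ∀ x ∈ LinearMap.ker (g - 1), S x ∈ LinearMap.ker (g - 1) := fun x hx => by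
        rw [hp] at hx ⊢; rw [hgS', hx]
      have hgS2 : ∀ x ∈ LinearMap.ker (g + 1), S x ∈ LinearMap.ker (g + 1) := fun x hx => by
        rw [hm] at hx ⊢; rw [hgS', hx, map_neg]
      refine good_sup B ?_ (fun x hx => by rw [hp] at hx ⊢; rw [hx, hx]) (fun x hx => by
        rw [hm] at hx ⊢; rw [hx, map_neg, hx]) hgS1 hgS2 (fun x hx y hy => ?_) h1 h2
      · rw [Submodule.disjoint_def]
        intro x hx hx'
        rw [hp] at hx; rw [hm, hx] at hx'
        have : (2 : F) • x = 0 := by rw [two_smul]; exact eq_neg_iff_add_eq_zero.1 hx'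
        exact (smul_eq_zero.1 this).resolve_left h2F
      · rw [hp] at hx; rw [hm] at hy
        have h3 : B x y = 0 := by
          have h4 := hg x y
          rw [hx, hy, map_neg] at h4
          exact (mul_eq_zero.1 (show (2 : F) * B x y = 0 by linear_combination -h4)).resolve_left h2F
        exact ⟨h3, by rw [hsw, h3, neg_zero]⟩
  have hrange : Good B g S (LinearMap.range (g * g - 1)) :=
    good_range hg hM hgM hB hgS (-1) (fun x y => by rw [hsw x y, neg_one_mul]) (by ring) hSa hSi
  have hsum := good_sup B (isCompl_ker_range hg hM hgM).disjoint hgK hgR hSK hSR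
    (fun x hx y hy => orth_ker_range hg hM hgM hx hy) hker hrange
  rw [(isCompl_ker_range hg hM hgM).sup_eq_top] at hsum
  obtain ⟨k, hk, hkB⟩ := hsum
  have hkinj : Function.Injective k := (injective_iff_map_eq_zero k).2 fun x hx =>
    hSi ((hB.1 _ fun y => by rw [← hkB x trivial y trivial, hx, map_zero, LinearMap.zero_apply]).trans (map_zero S).symm)
  let K := LinearEquiv.ofBijective k ⟨hkinj, LinearMap.surjective_of_injective hkinj⟩
  refine ⟨K.symm.trans P, fun x y => ?_, fun x => ?_⟩
  · show B (P (K.symm x)) (P (K.symm y)) = _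
    rw [← hS', ← hkB _ trivial _ trivial]
    exact congrArg₂ (fun a b => B a b) (K.apply_symm_apply x) (K.apply_symm_apply y)
  · show P (K.symm (g x)) = h (P (K.symm x))
    rw [← hP]
    congr 1
    refine (LinearEquiv.symm_apply_eq K).2 ?_
    rw [show K (g (K.symm x)) = g (K (K.symm x)) from (hk _ trivial).2, LinearEquiv.apply_symm_apply]

/-- Similar semisimple isometries of a quadratic form without eigenvalue `-1` are conjugate by an isometry. -/
theorem quadratic_conj [Finite F] (Q : QuadraticForm F V) (hQ : (QuadraticMap.polarBilin Q).Nondegenerate)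
    {g h : Module.End F V} (hg : ∀ x, Q (g x) = Q x) (hh : ∀ x, Q (h x) = Q x) {M : ℕ} (hM : (M : F) ≠ 0)
    (hMo : Odd M) (hgM : g ^ M = 1) (P : V ≃ₗ[F] V) (hP : ∀ x, P (g x) = h (P x)) :
    ∃ R : V ≃ₗ[F] V, (∀ x, Q (R x) = Q x) ∧ ∀ x, R (g x) = h (R x) := by
  classical
  set β : BilinForm F V := QuadraticMap.polarBilin Q with hβ
  have hgB : ∀ x y, β (g x) (g y) = β x y := Classical.polar_preserved_of_map Q hg
  have hhB : ∀ x y, β (h x) (h y) = β x y := Classical.polar_preserved_of_map Q hh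
  have hsym : ∀ x y, β x y = β y x := fun u v => QuadraticMap.polar_comm (⇑Q) u v
  obtain ⟨S, hS⟩ := exists_pullback β hQ P.toLinearMap
  have hS' : ∀ x y, β (S x) y = β (P x) (P y) := hS
  have hSa : ∀ x y, β (S x) y = β x (S y) := fun x y => by rw [hS', hsym x (S y), hS', hsym (P x) (P y)]
  have hginj : Function.Injective g := (injective_iff_map_eq_zero g).2 fun x hx => hQ.1 _ fun z => by
    rw [← hgB, hx, map_zero, LinearMap.zero_apply]
  have hgsur := LinearMap.surjective_of_injective hginj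
  have hSi : Function.Injective S := (injective_iff_map_eq_zero S).2 fun x hx => by
    refine P.injective ((hQ.1 _ fun z => ?_).trans (map_zero P).symm)
    obtain ⟨z', rfl⟩ := P.surjective z
    rw [← hS', hx, map_zero, LinearMap.zero_apply]
  have hgS : g * S = S * g := LinearMap.ext fun x => sub_eq_zero.1 (hQ.1 _ fun y => by
    obtain ⟨y', rfl⟩ := hgsur y
    rw [Module.End.mul_apply, Module.End.mul_apply, map_sub, LinearMap.sub_apply, hgB, hS', hS', hP, hP, hhB, sub_self])
  obtain ⟨k, hk, hkB⟩ := good_range hgB hM hgM hQ hgS 1 (fun x y => by rw [one_mul, hsym x y]) (one_mul 1) hSa hSi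
  set W := LinearMap.range (g * g - 1)
  have hfix : ∀ x ∈ LinearMap.ker (g * g - 1), g x = x := fun x hx => by
    have h2 : g (g x) = x := sub_eq_zero.1 (LinearMap.mem_ker.1 hx)
    obtain ⟨j, hj⟩ := hMo
    have h3 : ∀ i : ℕ, (g ^ (2 * i)) x = x := fun i => by
      induction i with
      | zero => rfl
      | succ i ih => rw [Nat.mul_succ, pow_add, Module.End.mul_apply, sq, Module.End.mul_apply, h2, ih]
    have h4 := LinearMap.congr_fun hgM x
    rw [hj, pow_succ', Module.End.mul_apply, h3, Module.End.one_apply] at h4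
    exact h4
  have hgW : ∀ x ∈ W, g x ∈ W := by
    rintro _ ⟨z, rfl⟩
    exact ⟨g z, by simp [Module.End.mul_apply]⟩
  let k₀ : W →ₗ[F] W := k.restrict fun x hx => (hk x hx).1
  have hk₀ : Function.Injective k₀ := (injective_iff_map_eq_zero k₀).2 fun x hx => Subtype.ext (hSi
    ((hQ.1 _ fun y => by
      obtain ⟨a, ha, b, hb, rfl⟩ := Submodule.mem_sup.1
        (show y ∈ LinearMap.ker (g * g - 1) ⊔ W by rw [(isCompl_ker_range hgB hM hgM).sup_eq_top]; trivial)
      have hSx : S (x : V) ∈ W := by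
        obtain ⟨z, hz⟩ := x.2
        refine ⟨S z, ?_⟩
        rw [← hz]
        simp [Module.End.mul_apply, show ∀ v, g (S v) = S (g v) from fun v => LinearMap.congr_fun hgS v]
      rw [map_add, (orth_ker_range hgB hM hgM ha hSx).2, zero_add, ← hkB _ x.2 _ hb,
        show k x = ((k₀ x : W) : V) from rfl, hx, Submodule.coe_zero, map_zero, LinearMap.zero_apply]).trans
      (map_zero S).symm))
  let e₀ := LinearEquiv.ofBijective k₀ ⟨hk₀, LinearMap.surjective_of_injective hk₀⟩
  let ψ : W →ₗ[F] V := P.toLinearMap.comp (W.subtype.comp e₀.symm.toLinearMap)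
  have hψ : ∀ x : W, ψ x = P (e₀.symm x : V) := fun x => rfl
  have hke : ∀ x : W, k (e₀.symm x : V) = x := fun x => congrArg Subtype.val (e₀.apply_symm_apply x)
  have hψB : ∀ x y : W, β (ψ x) (ψ y) = β (x : V) y := fun x y => by
    rw [hψ, hψ, ← hS', ← hkB _ (e₀.symm x).2 _ (e₀.symm y).2, hke, hke]
  have hQψ : ∀ x : W, Q (ψ x) = Q (x : V) := by
    -- every vector of `W` is `g z - z`, and then `Q` is determined by the polar form
    intro x
    obtain ⟨z, hz⟩ : ∃ z : W, (x : V) = g z - z := by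
      let d : W →ₗ[F] W := (g.restrict hgW) - LinearMap.id
      have hd : Function.Injective d := (injective_iff_map_eq_zero d).2 fun u hu => Subtype.ext <| by
        have h1 : g (u : V) - u = 0 := congrArg Subtype.val hu
        refine Submodule.disjoint_def.1 (isCompl_ker_range hgB hM hgM).disjoint (u : V) ?_ u.2
        rw [sub_eq_zero] at h1
        simp [h1]
      obtain ⟨z, hz⟩ := LinearMap.surjective_of_injective hd x
      exact ⟨z, (congrArg Subtype.val hz).symm⟩
    have key : ∀ (f : V → V) (u : V), (Q (f u) = Q u) → Q (f u - u) = 2 * Q u - β (f u) u := fun f u hu => by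
      have h1 := Classical.quad_expand Q (f u) u (-1)
      rw [neg_one_smul, ← sub_eq_add_neg] at h1
      rw [h1, hu]; ring
    have hself : ∀ u, β u u = 2 * Q u := fun u => by
      show QuadraticMap.polar (⇑Q) u u = _
      rw [QuadraticMap.polar_self, nsmul_eq_mul]; norm_num
    have hxg : x = (⟨g z, hgW _ z.2⟩ : W) - z := Subtype.ext hz
    have hsym' : ψ (⟨g z, hgW _ z.2⟩ : W) = h (ψ z) := by
      rw [hψ, hψ, ← hP]
      congr 1
      have h5 : e₀.symm ⟨g z, hgW _ z.2⟩ = ⟨g (e₀.symm z : V), hgW _ (e₀.symm z).2⟩ := by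
        rw [LinearEquiv.symm_apply_eq]
        exact Subtype.ext (by show g (z : V) = k (g (e₀.symm z : V)); rw [(hk _ (e₀.symm z).2).2, hke])
      rw [h5]
    rw [hxg, map_sub, hsym', key h _ (hh _), ← hself, hψB, hself, ← hsym', hψB, Submodule.coe_sub,
      key g _ (hg _)]
  obtain ⟨R, hR, hRW⟩ := Classical.witt_quadratic Q hQ W ψ
    (fun a b e => by
      have := P.injective ((hψ a).symm.trans (e.trans (hψ b)))
      exact e₀.symm.injective (Subtype.ext this)) hQψ
  refine ⟨R, hR, fun x => ?_⟩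
  have hRB : ∀ u v, β (R u) (R v) = β u v := Classical.polar_preserved_of_map Q (L := R.toLinearMap) hR
  obtain ⟨a, ha, b, hb, rfl⟩ := Submodule.mem_sup.1
    (show x ∈ LinearMap.ker (g * g - 1) ⊔ W by rw [(isCompl_ker_range hgB hM hgM).sup_eq_top]; trivial)
  have hb1 : R (g b) = h (R b) := by
    rw [hRW ⟨g b, hgW b hb⟩, hRW ⟨b, hb⟩, hψ, hψ, ← hP]
    congr 1
    have h5 : e₀.symm ⟨g b, hgW b hb⟩ = ⟨g (e₀.symm ⟨b, hb⟩ : V), hgW _ (e₀.symm ⟨b, hb⟩).2⟩ := by
      rw [LinearEquiv.symm_apply_eq]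
      exact Subtype.ext (by show g b = k (g (e₀.symm ⟨b, hb⟩ : V)); rw [(hk _ (e₀.symm ⟨b, hb⟩).2).2, hke])
    rw [h5]
  have ha1 : h (R a) = R a := by
    set y := P.symm (R a)
    have hy : R a = P y := (P.apply_symm_apply _).symm
    obtain ⟨a', ha', b', hb', hy'⟩ := Submodule.mem_sup.1
      (show y ∈ LinearMap.ker (g * g - 1) ⊔ W by rw [(isCompl_ker_range hgB hM hgM).sup_eq_top]; trivial)
    have hb0 : b' = 0 := by
      refine hQ.1 _ fun v => ?_
      obtain ⟨c, hc, d, hd, rfl⟩ := Submodule.mem_sup.1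
        (show v ∈ LinearMap.ker (g * g - 1) ⊔ W by rw [(isCompl_ker_range hgB hM hgM).sup_eq_top]; trivial)
      rw [map_add, (orth_ker_range hgB hM hgM hc hb').2, zero_add]
      obtain ⟨d', hd'⟩ : ∃ d' : W, S (d' : V) = d := by
        let s : W →ₗ[F] W := S.restrict (fun u hu => by
          obtain ⟨z, rfl⟩ := hu
          exact ⟨S z, by simp [Module.End.mul_apply, show ∀ v, g (S v) = S (g v) from fun v => LinearMap.congr_fun hgS v]⟩)
        obtain ⟨d', hd'⟩ := LinearMap.surjective_of_injective (f := s)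
          (fun u v e => Subtype.ext (hSi (congrArg Subtype.val e))) ⟨d, hd⟩
        exact ⟨d', congrArg Subtype.val hd'⟩
      obtain ⟨w, hw⟩ := e₀.symm.surjective d'
      have h0 : β (R a) (P (d' : V)) = 0 := by
        rw [← hw, ← hψ, ← hRW, hRB]
        exact (orth_ker_range hgB hM hgM ha w.2).1
      rw [hy, ← hS', ← hy', map_add, map_add, LinearMap.add_apply, hSa, hd', hSa b', hd',
        (orth_ker_range hgB hM hgM ha' hd).1, zero_add] at h0
      exact h0
    rw [hy, ← hP, ← hy', hb0, add_zero, hfix a' ha']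
  rw [map_add, map_add, map_add, map_add, hb1, hfix a ha, ha1]

end Cfsg.Agent.SemisimpleFormConjugacy
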