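import Mathlib
import Cfsg.Prelude.Def_Classical
import Cfsg.Agent.Lib.Classical.SympOrders
import Cfsg.Agent.Lib.Classical.NormalForms
import Cfsg.Agent.Lib.Classical.SemisimpleFormConjugacy
import Cfsg.Agent.Lib.Classical.Symp

/-!
Eigenvalues of semisimple isometries, and the passage from an alternating to a symmetric invariant form.
-/

set_option autoImplicit false

namespace Cfsg.Agent.Classical.PrimeGraphBC

open Matrix Polynomial

variable {F : Type*} [Field F] {ι : Type} [Fintype ι] [DecidableEq ι]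

section Roots

variable {K : Type*} [Field K] [Algebra F K]

/-- The roots of an isometry are closed under inversion. -/
theorem eigRoots_inv {G M : Matrix ι ι F} (hM : M.det ≠ 0) (hG : Gᵀ * M * G = M) {x : K}
    (hx : x ∈ eigRoots K G) : x⁻¹ ∈ eigRoots K G := by
  classical
  set AK := G.map (algebraMap F K)
  set MK := M.map (algebraMap F K)
  have hMK : MK.det ≠ 0 := by
    show ((algebraMap F K).mapMatrix M).det ≠ 0
    rw [← RingHom.map_det]
    exact (_root_.map_ne_zero _).mpr hM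
  have hd : AK.det ≠ 0 := by
    intro h
    have h1 : G.det = 0 := by
      apply (algebraMap F K).injective
      rw [map_zero, RingHom.map_det]; exact h
    have h2 := congrArg Matrix.det hG
    rw [Matrix.det_mul, Matrix.det_mul, h1, mul_zero] at h2
    exact hM h2.symm
  rcases eq_or_ne x 0 with rfl | hx0
  · simpa using hx
  obtain ⟨u, hu⟩ := (Matrix.isUnit_iff_isUnit_det AK).2 (Ne.isUnit hd)
  obtain ⟨uM, huM⟩ := (Matrix.isUnit_iff_isUnit_det MK).2 (Ne.isUnit hMK)
  have hJ : AKᵀ * MK * AK = MK := by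
    have h := congrArg (fun X : Matrix ι ι F => X.map (algebraMap F K)) hG
    simp only [Matrix.map_mul] at h
    rw [Matrix.transpose_map] at h
    exact h
  have h1 : (((Units.mk0 x hx0)⁻¹ : Kˣ) : K) ∈ spectrum K ((u⁻¹ : (Matrix ι ι K)ˣ) : Matrix ι ι K) :=
    (spectrum.inv_mem_iff (r := Units.mk0 x hx0) (a := u)).1
      (by rw [Units.val_mk0, hu]; exact mem_eigRoots_iff.1 hx)
  rw [Units.val_inv_eq_inv_val, Units.val_mk0, Matrix.mem_spectrum_iff_isRoot_charpoly] at h1
  have hinv : ((u⁻¹ : (Matrix ι ι K)ˣ) : Matrix ι ι K) = (uM⁻¹ : (Matrix ι ι K)ˣ) * AKᵀ * uM := by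
    rw [Units.inv_eq_of_mul_eq_one_left]
    rw [hu, mul_assoc, mul_assoc, ← mul_assoc AKᵀ, huM, hJ, ← huM, Units.inv_mul]
  rw [hinv, Matrix.coe_units_inv, Matrix.charpoly_units_conj', Matrix.charpoly_transpose] at h1
  exact mem_eigRoots_iff.2 (Matrix.mem_spectrum_iff_isRoot_charpoly.2 h1)

/-- The determinant is the product of the eigenvalues. -/
theorem det_eq_prod_eigRoots [IsAlgClosed K] (G : Matrix ι ι F) :
    algebraMap F K G.det = (eigRoots K G).prod := by
  rw [RingHom.map_det, Matrix.det_eq_prod_roots_charpoly]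
  rfl

/-- `det (c - G)` as a product over the eigenvalues. -/
theorem det_scalar_sub [IsAlgClosed K] (G : Matrix ι ι F) (c : F) :
    algebraMap F K (Matrix.scalar ι c - G).det =
      ((eigRoots K G).map fun x => algebraMap F K c - x).prod := by
  have h : (Matrix.scalar ι c - G).det = G.charpoly.eval c := (Matrix.eval_charpoly _ _).symm
  rw [h, ← Polynomial.eval_map_apply, ← Matrix.charpoly_map,
    (IsAlgClosed.splits _).eq_prod_roots_of_monic (Matrix.charpoly_monic _)]
  rw [Polynomial.eval_multiset_prod, Multiset.map_map]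
  simp [eigRoots]

theorem det_sub_one_ne_zero [IsAlgClosed K] {G : Matrix ι ι F} (h : ∀ x ∈ eigRoots K G, x ≠ 1) :
    (1 - G).det ≠ 0 := by
  intro h0
  have h1 := det_scalar_sub (K := K) G 1
  rw [map_one, h0, map_zero, eq_comm, Multiset.prod_eq_zero_iff, Multiset.mem_map] at h1
  obtain ⟨x, hx, hxe⟩ := h1
  rw [map_one, sub_eq_zero] at hxe
  exact h x hx hxe.symm

theorem one_mem_eigRoots [IsAlgClosed K] {G : Matrix ι ι F} (h : (1 - G).det = 0) :
    (1 : K) ∈ eigRoots K G := by
  by_contra hne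
  exact det_sub_one_ne_zero (fun x hx hx1 => hne (hx1 ▸ hx)) h

end Roots

variable (p : ℕ) [Fact p.Prime] [CharP F p]

/-- An element of order prime to `p` is killed by a common exponent of its eigenvalues. -/
theorem pow_eq_one_of_roots {K : Type*} [Field K] [Algebra F K] [IsAlgClosed K] [CharP K p]
    {G : Matrix ι ι F} {N M : ℕ} (hG : G ^ N = 1) (hN : N.Coprime p) (hM : M ≠ 0)
    (hroot : ∀ x ∈ eigRoots K G, x ^ M = 1) : G ^ M = 1 := by
  classical
  set c := Nat.clog p (Fintype.card ι)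
  have h := pow_eq_one_of_eigRoots (K := K) p G (c := c) hM hroot (fun x _ =>
    (Multiset.count_le_card x _).trans ((card_eigRoots G).le.trans
      (Nat.le_pow_clog (Fact.out : p.Prime).one_lt _)))
  have hgd : Nat.gcd (p ^ c * M) N ∣ M :=
    (Nat.Coprime.of_dvd_left (Nat.gcd_dvd_right _ _) (hN.pow_right c)).dvd_of_dvd_mul_left
      (Nat.gcd_dvd_left _ _)
  obtain ⟨d, hd⟩ := hgd
  rw [hd, pow_mul, pow_gcd_eq_one.2 ⟨h, hG⟩, one_pow]

section Orbit

variable [Fintype F]

/-- `s` divides `q ^ e + 1` or `q ^ e - 1`. -/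
def Fits (F : Type*) [Fintype F] (s e : ℕ) : Prop :=
  s ∣ Fintype.card F ^ e + 1 ∨ s ∣ Fintype.card F ^ e - 1

/-- An isometry whose eigenvalues are `s`-th roots of unity, not all trivial, has `2 e` distinct eigenvalues of
order `s` for some admissible `e`. -/
theorem exists_fits {K : Type*} [Field K] [Algebra F K] [CharP K p] [DecidableEq K]
    {G M : Matrix ι ι F} (hM : M.det ≠ 0) (hG : Gᵀ * M * G = M) {s : ℕ} (hs : s.Prime) (hs2 : s ≠ 2)
    (hR : ∀ x ∈ eigRoots K G, x ^ s = 1) (hne : ∃ x ∈ eigRoots K G, x ≠ 1) :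
    ∃ e, 1 ≤ e ∧ Fits F s e ∧ 2 * e ≤ ((eigRoots K G).toFinset.erase 1).card := by
  classical
  set R := eigRoots K G
  set S := R.toFinset.erase 1
  have hord : ∀ x ∈ S, orderOf x = s := fun x hx => by
    obtain ⟨h1, h2⟩ := Finset.mem_erase.1 hx
    haveI := Fact.mk hs
    exact orderOf_eq_prime (hR x (Multiset.mem_toFinset.1 h2)) h1
  have hS : OrbSet F S := by
    refine ⟨fun x hx => ?_, fun x hx => ?_, fun x hx => ⟨(Finset.mem_erase.1 hx).1, ?_⟩⟩
    · obtain ⟨h1, h2⟩ := Finset.mem_erase.1 hx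
      refine Finset.mem_erase.2 ⟨fun h => h1 ?_, Multiset.mem_toFinset.2
        (pow_card_mem_eigRoots (Multiset.mem_toFinset.1 h2))⟩
      exact (FiniteField.frobeniusAlgHom F K).toRingHom.injective (by simpa using h)
    · obtain ⟨h1, h2⟩ := Finset.mem_erase.1 hx
      exact Finset.mem_erase.2 ⟨fun h => h1 (inv_eq_one.1 h),
        Multiset.mem_toFinset.2 (eigRoots_inv hM hG (Multiset.mem_toFinset.1 h2))⟩
    · rw [hord x hx]; exact hs.odd_of_ne_two hs2
  have hne' : S.Nonempty := by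
    obtain ⟨x, hx, hx1⟩ := hne
    exact ⟨x, Finset.mem_erase.2 ⟨hx1, Multiset.mem_toFinset.2 hx⟩⟩
  obtain ⟨O, e, N, hOS, he, hOc, -, -, hN, -, -, hON⟩ := exists_orbit p hS hne'
  refine ⟨e, he, ?_, hOc ▸ Finset.card_le_card hOS⟩
  obtain ⟨x, hx⟩ := Finset.card_pos.1 (show 0 < O.card by omega)
  have hsN : s ∣ N := hord x (hOS hx) ▸ orderOf_dvd_of_pow_eq_one (hON x hx)
  exact hN.imp hsN.trans hsN.trans

variable {s : ℕ}

omit [Fintype F] in
theorem hyps_of_pow {K : Type*} [Field K] [Algebra F K] [IsAlgClosed K] [CharP K p] {G : Matrix ι ι F}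
    (hs : s.Prime) (hsp : s ≠ p) (hGs : G ^ s = 1) (hne : G ≠ 1) :
    (∀ x ∈ eigRoots K G, x ^ s = 1) ∧ ∃ x ∈ eigRoots K G, x ≠ 1 := by
  refine ⟨fun x hx => pow_eq_one_of_eigRoot hGs hx, ?_⟩
  by_contra hall
  push Not at hall
  refine hne ?_
  have h := pow_eq_one_of_roots p (K := K) hGs ((Nat.coprime_primes hs (Fact.out)).2 hsp) one_ne_zero
    (fun x hx => by rw [pow_one]; exact hall x hx)
  rwa [pow_one] at h

omit [Fintype F] in
theorem card_erase_le {K : Type*} [Field K] [Algebra F K] [IsAlgClosed K] [DecidableEq K] (G : Matrix ι ι F) :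
    ((eigRoots K G).toFinset.erase 1).card ≤ Fintype.card ι :=
  (Finset.card_le_card (Finset.erase_subset _ _)).trans
    ((Multiset.toFinset_card_le _).trans (card_eigRoots G).le)

/-- The corresponding bound `2 e ≤ dim`. -/
theorem exists_fits_le {G M : Matrix ι ι F} (hM : M.det ≠ 0) (hG : Gᵀ * M * G = M)
    (hs : s.Prime) (hs2 : s ≠ 2) (hsp : s ≠ p) (hGs : G ^ s = 1) (hne : G ≠ 1) :
    ∃ e, 1 ≤ e ∧ Fits F s e ∧ 2 * e ≤ Fintype.card ι := by
  classical
  let K := AlgebraicClosure F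
  haveI : CharP K p := charP_of_injective_algebraMap (algebraMap F K).injective p
  obtain ⟨h1, h2⟩ := hyps_of_pow p (K := K) hs hsp hGs hne
  obtain ⟨e, he, hf, hc⟩ := exists_fits p hM hG hs hs2 h1 h2
  exact ⟨e, he, hf, hc.trans (card_erase_le G)⟩

/-- With no admissible `e` below `n`, the eigenvalues in dimension `2 n` are distinct and different from `1`. -/
theorem roots_of_full {K : Type*} [Field K] [Algebra F K] [IsAlgClosed K] [CharP K p] [DecidableEq K]
    {G M : Matrix ι ι F} (hM : M.det ≠ 0) (hG : Gᵀ * M * G = M) {n : ℕ}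
    (hs : s.Prime) (hs2 : s ≠ 2) (hR : ∀ x ∈ eigRoots K G, x ^ s = 1) (hne : ∃ x ∈ eigRoots K G, x ≠ 1)
    (hcard : Fintype.card ι = 2 * n) (hfull : ∀ e, 1 ≤ e → Fits F s e → n ≤ e) :
    (eigRoots K G).Nodup ∧ ∀ x ∈ eigRoots K G, x ≠ 1 := by
  classical
  obtain ⟨e, he, hf, hc⟩ := exists_fits p hM hG hs hs2 hR hne
  have h4 := hfull e he hf
  have h3 := (card_eigRoots (K := K) G).trans hcard
  have h5 := Finset.card_le_card (Finset.erase_subset (1 : K) (eigRoots K G).toFinset)
  have h6 := Multiset.toFinset_card_le (eigRoots K G)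
  refine ⟨Multiset.toFinset_card_eq_card_iff_nodup.1 (by omega), fun x hx hx1 => ?_⟩
  have := Finset.card_erase_add_one (Multiset.mem_toFinset.2 (hx1 ▸ hx) : (1 : K) ∈ _)
  omega

/-- In odd dimension and determinant one they are distinct. -/
theorem roots_of_full_odd {K : Type*} [Field K] [Algebra F K] [IsAlgClosed K] [CharP K p] [DecidableEq K]
    {G M : Matrix ι ι F} (hM : M.det ≠ 0) (hG : Gᵀ * M * G = M) (hdet : G.det = 1) (h2 : (2 : F) ≠ 0) {n : ℕ}
    (hs : s.Prime) (hs2 : s ≠ 2) (hR : ∀ x ∈ eigRoots K G, x ^ s = 1) (hne : ∃ x ∈ eigRoots K G, x ≠ 1)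
    (hcard : Fintype.card ι = 2 * n + 1) (hfull : ∀ e, 1 ≤ e → Fits F s e → n ≤ e) :
    (eigRoots K G).Nodup := by
  classical
  obtain ⟨e, he, hf, hc⟩ := exists_fits p hM hG hs hs2 hR hne
  have h4 := hfull e he hf
  have h3 := (card_eigRoots (K := K) G).trans hcard
  have h6 := Multiset.toFinset_card_le (eigRoots K G)
  have h0 : (1 - G).det = 0 := by
    have e1 : Gᵀ * M * (1 - G) = -((1 - G)ᵀ * M) := by
      rw [Matrix.mul_sub, hG, Matrix.mul_one, Matrix.transpose_sub, Matrix.transpose_one, Matrix.sub_mul,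
        Matrix.one_mul, neg_sub]
    have e2 := congrArg Matrix.det e1
    rw [Matrix.det_mul, Matrix.det_mul, Matrix.det_transpose, hdet, one_mul, Matrix.det_neg, hcard, pow_succ,
      pow_mul, neg_one_sq, one_pow, one_mul, Matrix.det_mul, Matrix.det_transpose] at e2
    have e3 : (2 * M.det) * (1 - G).det = 0 := by linear_combination e2
    exact (mul_eq_zero.1 e3).resolve_left (mul_ne_zero h2 hM)
  have := Finset.card_erase_add_one (Multiset.mem_toFinset.2 (one_mem_eigRoots (K := K) h0))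
  exact Multiset.toFinset_card_eq_card_iff_nodup.1 (by omega)

/-- With no admissible `e` below `n`, isometries of order `s` in dimension `2 n` fix no vector. -/
theorem det_sub_one_ne_zero_of_full {G M : Matrix ι ι F} (hM : M.det ≠ 0) (hG : Gᵀ * M * G = M) {n : ℕ}
    (hs : s.Prime) (hs2 : s ≠ 2) (hsp : s ≠ p) (hGs : G ^ s = 1) (hne : G ≠ 1)
    (hcard : Fintype.card ι = 2 * n) (hfull : ∀ e, 1 ≤ e → Fits F s e → n ≤ e) : (1 - G).det ≠ 0 := by
  classical
  let K := AlgebraicClosure F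
  haveI : CharP K p := charP_of_injective_algebraMap (algebraMap F K).injective p
  obtain ⟨h1, h2⟩ := hyps_of_pow p (K := K) hs hsp hGs hne
  exact det_sub_one_ne_zero (roots_of_full p hM hG hs hs2 h1 h2 hcard hfull).2

end Orbit

/-! ### From alternating to symmetric forms -/

omit p [Fact p.Prime] [CharP F p] in
/-- `J (G - G⁻¹)` is symmetric and fixed by everything symplectic that commutes with `G`. -/
theorem symmetrize {m : ℕ} (A : Matrix.symplecticGroup (Fin m) F) :
    ((Matrix.J (Fin m) F) * (A.1 - (A⁻¹).1))ᵀ = Matrix.J (Fin m) F * (A.1 - (A⁻¹).1) ∧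
    ∀ t : Matrix.symplecticGroup (Fin m) F, Commute t A →
      t.1ᵀ * (Matrix.J (Fin m) F * (A.1 - (A⁻¹).1)) * t.1 = Matrix.J (Fin m) F * (A.1 - (A⁻¹).1) := by
  set G := A.1
  set H := (A⁻¹).1
  set J := Matrix.J (Fin m) F with hJd
  have hGH : G * H = 1 := congrArg Subtype.val (mul_inv_cancel A)
  have hHG : H * G = 1 := congrArg Subtype.val (inv_mul_cancel A)
  have hJG : Gᵀ * J * G = J := SymplecticGroup.mem_iff'.1 A.2
  have hJH : Hᵀ * J * H = J := SymplecticGroup.mem_iff'.1 (A⁻¹).2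
  have hG1 : Gᵀ * J = J * H := by
    calc Gᵀ * J = Gᵀ * J * (G * H) := by rw [hGH, Matrix.mul_one]
      _ = _ := by rw [← Matrix.mul_assoc, hJG]
  have hH1 : Hᵀ * J = J * G := by
    calc Hᵀ * J = Hᵀ * J * (H * G) := by rw [hHG, Matrix.mul_one]
      _ = _ := by rw [← Matrix.mul_assoc, hJH]
  refine ⟨?_, fun t ht => ?_⟩
  · rw [Matrix.transpose_mul, Matrix.transpose_sub, hJd, Matrix.J_transpose, Matrix.sub_mul, Matrix.mul_neg,
      Matrix.mul_neg, ← hJd, hG1, hH1, Matrix.mul_sub]
    abel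
  · have h1 : t.1ᵀ * J * t.1 = J := SymplecticGroup.mem_iff'.1 t.2
    have h2 : t.1 * G = G * t.1 := congrArg Subtype.val ht.eq
    have h3 : t.1 * H = H * t.1 := congrArg Subtype.val ht.inv_right.eq
    calc t.1ᵀ * (J * (G - H)) * t.1 = t.1ᵀ * J * ((G - H) * t.1) := by
          simp only [Matrix.mul_assoc]
      _ = t.1ᵀ * J * (t.1 * (G - H)) := by rw [Matrix.sub_mul, ← h2, ← h3, ← Matrix.mul_sub]
      _ = _ := by rw [← Matrix.mul_assoc, h1]

omit p [Fact p.Prime] [CharP F p] in
theorem symmetrize_det {m : ℕ} (A : Matrix.symplecticGroup (Fin m) F) :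
    (Matrix.J (Fin m) F * (A.1 - (A⁻¹).1)).det = (1 - A.1).det * (1 + A.1).det := by
  set G := A.1
  set H := (A⁻¹).1
  have hHG : H * G = 1 := congrArg Subtype.val (inv_mul_cancel A)
  have he : G - H = -(H * ((1 - G) * (1 + G))) := by
    have : H * ((1 - G) * (1 + G)) = H - (H * G) * G := by noncomm_ring
    rw [this, hHG, Matrix.one_mul, neg_sub]
  rw [Matrix.det_mul, SymplecticGroup.det_eq_one (SymplecticGroup.J_mem (Fin m) F), one_mul, he,
    Matrix.det_neg, Fintype.card_sum, ← two_mul, pow_mul, neg_one_sq, one_pow, one_mul, Matrix.det_mul,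
    Matrix.det_mul, SymplecticGroup.det_eq_one (A⁻¹).2, one_mul]

omit p [Fact p.Prime] [CharP F p] in
theorem det_one_add_ne_zero {G : Matrix ι ι F} {N : ℕ} (hN : Odd N) (hG : G ^ N = 1) (h2 : (2 : F) ≠ 0) :
    (1 + G).det ≠ 0 := by
  intro h0
  obtain ⟨v, hv, hv0⟩ := Matrix.exists_mulVec_eq_zero_iff.2 h0
  rw [Matrix.add_mulVec, Matrix.one_mulVec] at hv0
  have h1 : G *ᵥ v = -v := eq_neg_of_add_eq_zero_right hv0
  have h3 : ∀ k, (G ^ k) *ᵥ v = (-1 : F) ^ k • v := fun k => by
    induction k with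
    | zero => simp
    | succ k ih => rw [pow_succ', ← Matrix.mulVec_mulVec, ih, Matrix.mulVec_smul, h1, pow_succ, mul_smul,
        neg_one_smul]
  have h4 := h3 N
  rw [hG, Matrix.one_mulVec, hN.neg_one_pow, neg_one_smul] at h4
  refine hv (smul_right_injective _ h2 ?_)
  show (2 : F) • v = (2 : F) • 0
  rw [smul_zero, two_smul]
  nth_rewrite 2 [h4]
  exact add_neg_cancel v

omit p [Fact p.Prime] [CharP F p] in
/-- A symplectic element of odd order prime to the characteristic preserves a non-singular symmetric form. -/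
theorem exists_symmetric_form {m : ℕ} (A : Matrix.symplecticGroup (Fin m) F) {N : ℕ} (hN : Odd N)
    (hNF : (N : F) ≠ 0) (h2 : (2 : F) ≠ 0) (hA : A ^ N = 1) :
    ∃ M : Matrix (Fin m ⊕ Fin m) (Fin m ⊕ Fin m) F, Mᵀ = M ∧ M.det ≠ 0 ∧ A.1ᵀ * M * A.1 = M := by
  classical
  set G := A.1
  set H := (A⁻¹).1
  set J := Matrix.J (Fin m) F
  set S := J * (G - H) with hSd
  have hGN : G ^ N = 1 := by
    show (A.1) ^ N = 1
    rw [← SubmonoidClass.coe_pow, hA]; rfl
  obtain ⟨hSs, hSc⟩ := symmetrize A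
  set L : Module.End F (Fin m ⊕ Fin m → F) := Matrix.toLinAlgEquiv' (G - 1)
  have hL : ∀ v, L v = G *ᵥ v - v := fun v => by
    simp [L, Matrix.toLinAlgEquiv'_apply, Matrix.sub_mulVec]
  have hsq : ∀ v, L (L v) = 0 → L v = 0 := fun v hv => by
    have h := Cfsg.Agent.SemisimpleFormConjugacy.killed_of_sq (g := Matrix.toLinAlgEquiv' G) hNF
      (by rw [← map_pow, hGN, map_one]) (X - Polynomial.C 1) (x := v)
    have e : aeval (Matrix.toLinAlgEquiv' G) (X - Polynomial.C (1 : F)) = L := by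
      simp [L]
    rw [e] at h
    exact h hv
  have hdis : Disjoint (LinearMap.ker L) (LinearMap.range L) := by
    refine Submodule.disjoint_def.2 fun v hv hv' => ?_
    obtain ⟨w, rfl⟩ := hv'
    exact hsq w (LinearMap.mem_ker.1 hv)
  have hcomp : IsCompl (LinearMap.ker L) (LinearMap.range L) := by
    refine ⟨hdis, codisjoint_iff.2 (Submodule.eq_top_of_disjoint _ _ ?_ hdis)⟩
    rw [add_comm, LinearMap.finrank_range_add_finrank_ker]
  set k := Module.finrank F (LinearMap.ker L)
  let ε : LinearMap.ker L ≃ₗ[F] (Fin k → F) := (Module.finBasis F (LinearMap.ker L)).equivFun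
  let Yl : (Fin m ⊕ Fin m → F) →ₗ[F] (Fin k → F) :=
    ε.toLinearMap ∘ₗ Submodule.projectionOnto _ _ hcomp
  set Y := LinearMap.toMatrix' Yl
  have hY : ∀ v, Y *ᵥ v = Yl v := fun v => LinearMap.toMatrix'_mulVec _ _
  have hYG : Y * G = Y := by
    refine Matrix.ext_iff_mulVec.2 fun v => ?_
    rw [← Matrix.mulVec_mulVec, hY, hY, ← sub_eq_zero, ← map_sub, ← hL]
    show ε (Submodule.projectionOnto _ _ hcomp (L v)) = 0
    rw [Submodule.projectionOnto_apply_eq_zero_iff hcomp |>.2 (LinearMap.mem_range_self L v), map_zero]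
  refine ⟨S + Yᵀ * Y, ?_, ?_, ?_⟩
  · rw [Matrix.transpose_add, hSd, hSs, Matrix.transpose_mul, Matrix.transpose_transpose]
  · intro h0
    obtain ⟨v, hv, hv0⟩ := Matrix.exists_mulVec_eq_zero_iff.2 h0
    have hfix : ∀ f ∈ LinearMap.ker L, S *ᵥ f = 0 := by
      intro f hf
      have h1 : G *ᵥ f = f := sub_eq_zero.1 (by rw [← hL]; exact LinearMap.mem_ker.1 hf)
      have h2 : H *ᵥ f = f := by
        conv_lhs => rw [← h1]
        rw [Matrix.mulVec_mulVec, show H * G = 1 from congrArg Subtype.val (inv_mul_cancel A),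
          Matrix.one_mulVec]
      rw [hSd, ← Matrix.mulVec_mulVec, Matrix.sub_mulVec, h1, h2, sub_self, Matrix.mulVec_zero]
    have hYv : Y *ᵥ v = 0 := by
      funext i
      set f : LinearMap.ker L := ε.symm (Pi.single i 1)
      have hfY : Y *ᵥ (f : Fin m ⊕ Fin m → F) = Pi.single i 1 := by
        rw [hY]
        show ε (Submodule.projectionOnto _ _ hcomp f) = _
        rw [Submodule.projectionOnto_apply_left, LinearEquiv.apply_symm_apply]
      have h1 := congrArg (fun w => (f : Fin m ⊕ Fin m → F) ⬝ᵥ w) hv0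
      simp only [Matrix.add_mulVec, dotProduct_add, dotProduct_zero] at h1
      rw [Matrix.dotProduct_mulVec, ← Matrix.mulVec_transpose, hSs, hfix f f.2, zero_dotProduct, zero_add,
        ← Matrix.mulVec_mulVec, Matrix.dotProduct_mulVec, ← Matrix.mulVec_transpose,
        Matrix.transpose_transpose, hfY, single_dotProduct, one_mul] at h1
      exact h1
    simp only [hSd, Matrix.add_mulVec, ← Matrix.mulVec_mulVec, hYv, Matrix.mulVec_zero, add_zero] at hv0
    have hv1 : (G - H) *ᵥ v = 0 := by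
      by_contra hne
      exact (SymplecticGroup.det_eq_one (SymplecticGroup.J_mem (Fin m) F) ▸ one_ne_zero :
        J.det ≠ 0) (Matrix.exists_mulVec_eq_zero_iff.1 ⟨_, hne, hv0⟩)
    have hv2 : G *ᵥ (G *ᵥ v) = v := by
      have h1 := congrArg (fun w => G *ᵥ w) hv1
      simp only [Matrix.sub_mulVec, Matrix.mulVec_sub, Matrix.mulVec_zero] at h1
      rw [Matrix.mulVec_mulVec (v := v) (M := G) (N := H),
        show G * H = 1 from congrArg Subtype.val (mul_inv_cancel A), Matrix.one_mulVec] at h1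
      exact sub_eq_zero.1 h1
    have hv3 : G *ᵥ v = v := by
      obtain ⟨j, hj⟩ := hN
      have hev : ∀ i, (G ^ (2 * i)) *ᵥ v = v := fun i => by
        induction i with
        | zero => simp
        | succ i ih => rw [Nat.mul_succ, pow_add, ← Matrix.mulVec_mulVec, sq, ← Matrix.mulVec_mulVec, hv2, ih]
      have h := hev (j + 1)
      rwa [show 2 * (j + 1) = (2 * j + 1) + 1 by omega, pow_succ, ← hj, hGN, Matrix.one_mul] at h
    have hker : v ∈ LinearMap.ker L := LinearMap.mem_ker.2 (by rw [hL, hv3, sub_self])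
    rw [hY] at hYv
    have : Submodule.projectionOnto _ _ hcomp v = ⟨v, hker⟩ := Submodule.projectionOnto_apply_left hcomp ⟨v, hker⟩
    have h5 : ε (Submodule.projectionOnto _ _ hcomp v) = 0 := hYv
    rw [this, LinearEquiv.map_eq_zero_iff] at h5
    exact hv (congrArg Subtype.val h5)
  · rw [Matrix.mul_add, Matrix.add_mul, hSc A (Commute.refl A), ← Matrix.mul_assoc Gᵀ,
      ← Matrix.transpose_mul, hYG, Matrix.mul_assoc, hYG]

/-! ### Alternating determinants are squares -/

omit p [Fact p.Prime] [CharP F p] in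
theorem isSquare_det_of_alternating {a : ℕ} {M : Matrix (Fin a) (Fin a) F} (halt : ∀ v, v ⬝ᵥ (M *ᵥ v) = 0)
    (hM : M.det ≠ 0) : IsSquare M.det := by
  classical
  set B : LinearMap.BilinForm F (Fin a → F) := Matrix.toBilin' M
  have hB : ∀ u v, B u v = u ⬝ᵥ (M *ᵥ v) := fun u v => Matrix.toBilin'_apply' M u v
  have hA : B.IsAlt := fun v => by rw [hB]; exact halt v
  have hnd : B.Nondegenerate := LinearMap.BilinForm.nondegenerate_toBilin'_iff_det_ne_zero.2 hM
  obtain ⟨m, k, e, f, r, hmk, -, -, hEF, hEE, hFF, hrad, hspan⟩ :=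
    exists_symplectic_family B hA a ⊤ (by rw [finrank_top, Module.finrank_fin_fun])
  have hk : k = 0 := by
    rcases Nat.eq_zero_or_pos k with h | h
    · exact h
    · exfalso
      have hr0 : r ⟨0, h⟩ = 0 := hnd.1 _ fun w => hrad ⟨0, h⟩ w trivial
      let idx : Fin m ⊕ Fin m ⊕ {j : Fin k // j ≠ ⟨0, h⟩} → (Fin a → F) :=
        Sum.elim e (Sum.elim f fun j => r j.1)
      have htop : ⊤ ≤ Submodule.span F (Set.range idx) := by
        refine hspan.trans (Submodule.span_le.2 ?_)
        rintro w ((⟨i, rfl⟩ | ⟨i, rfl⟩) | ⟨j, rfl⟩)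
        · exact Submodule.subset_span ⟨Sum.inl i, rfl⟩
        · exact Submodule.subset_span ⟨Sum.inr (Sum.inl i), rfl⟩
        · by_cases hj : j = ⟨0, h⟩
          · rw [hj, hr0]; exact Submodule.zero_mem _
          · exact Submodule.subset_span ⟨Sum.inr (Sum.inr ⟨j, hj⟩), rfl⟩
      have h1 : Module.finrank F (Submodule.span F (Set.range idx)) ≤ _ := finrank_range_le_card idx
      rw [top_le_iff.1 htop, finrank_top, Module.finrank_fin_fun, Fintype.card_sum, Fintype.card_sum,
        Fintype.card_fin, Fintype.card_subtype_compl, Fintype.card_fin, Fintype.card_subtype_eq] at h1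
      omega
  subst hk
  have hcard : Fintype.card (Fin m ⊕ Fin m) = Module.finrank F (Fin a → F) := by
    rw [Fintype.card_sum, Fintype.card_fin, Module.finrank_fin_fun]; omega
  have htop : ⊤ ≤ Submodule.span F (Set.range (Sum.elim e f)) := by
    refine hspan.trans (Submodule.span_le.2 ?_)
    rintro w ((⟨i, rfl⟩ | ⟨i, rfl⟩) | ⟨j, rfl⟩)
    · exact Submodule.subset_span ⟨Sum.inl i, rfl⟩
    · exact Submodule.subset_span ⟨Sum.inr i, rfl⟩
    · exact j.elim0
  let b : Module.Basis (Fin m ⊕ Fin m) F (Fin a → F) :=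
    basisOfTopLeSpanOfCardEqFinrank (Sum.elim e f) htop hcard
  have hb : ∀ i, b i = Sum.elim e f i := fun i => by simp [b]
  have hgram : LinearMap.BilinForm.toMatrix b B = -Matrix.J (Fin m) F := by
    ext i j
    rw [LinearMap.BilinForm.toMatrix_apply, hb, hb]
    rcases i with i | i <;> rcases j with j | j <;>
      simp [Matrix.J, Matrix.one_apply, hEE, hFF, hEF]
    rw [← LinearMap.IsAlt.neg hA, hEF]
    simp [eq_comm]
  have h1 := LinearMap.BilinForm.toMatrix_mul_basis_toMatrix (Pi.basisFun F (Fin a)) b B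
  let σ : Fin a ≃ (Fin m ⊕ Fin m) := Fintype.equivOfCardEq (by
    rw [Fintype.card_fin, Fintype.card_sum, Fintype.card_fin]; omega)
  set P := (Pi.basisFun F (Fin a)).toMatrix b
  have h3 := congrArg (fun X : Matrix _ _ F => (X.submatrix σ σ).det) h1
  rw [LinearMap.BilinForm.toMatrix_basisFun, LinearMap.BilinForm.toMatrix'_toBilin', hgram] at h3
  rw [← Matrix.submatrix_mul_equiv _ _ σ (Equiv.refl _) σ,
    ← Matrix.submatrix_mul_equiv _ _ σ (Equiv.refl _) (Equiv.refl _),
    Matrix.det_mul, Matrix.det_mul, Matrix.det_submatrix_equiv_self] at h3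
  have hJ : (-Matrix.J (Fin m) F).det = 1 := by
    rw [Matrix.det_neg, Fintype.card_sum, ← two_mul, pow_mul, neg_one_sq, one_pow, one_mul,
      SymplecticGroup.det_eq_one (SymplecticGroup.J_mem (Fin m) F)]
  rw [Matrix.det_submatrix_equiv_self, hJ, ← Matrix.transpose_submatrix, Matrix.det_transpose] at h3
  set d := (P.submatrix id σ).det
  have h4 : d * M.det * d = 1 := by simpa [d] using h3
  refine ⟨d⁻¹, ?_⟩
  have hd : d ≠ 0 := fun h => by rw [h] at h4; simp at h4
  field_simp
  linear_combination h4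

end Cfsg.Agent.Classical.PrimeGraphBC
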