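import Mathlib
import Cfsg.Agent.Lib.Classical.PrimeGraphBCBase
import Cfsg.Agent.Lib.Classical.PrimeGraphBCOrth

/-!
`PSp(2n,q)` and `PΩ(2n+1,q)`, `q` odd, have the same prime graph: the four kinds of pairs of primes.
-/

set_option autoImplicit false

namespace Cfsg.Agent.Classical.PrimeGraphBC

open Matrix Cfsg Cfsg.Agent.Classical.OrthAut

variable {F : Type*} [Field F] [Fintype F]

/-- `PΩ(2n+1,q)` has an element of order `m`. -/
def BSpec (F : Type*) [Field F] (n m : ℕ) : Prop := ∃ y : POmega F (quadFormOdd n F), orderOf y = m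

/-- `PSp(2n,q)` has an element of order `m`. -/
def CSpec (F : Type*) [Field F] (n m : ℕ) : Prop := ∃ y : PSp n F, orderOf y = m

theorem cSpec_of_dvd {n m : ℕ} (y : PSp n F) (h : m ∣ orderOf y) : CSpec F n m := by
  haveI : Finite (Matrix.symplecticGroup (Fin n) F) := inferInstance
  exact ⟨y ^ (orderOf y / m), orderOf_pow_orderOf_div (orderOf_pos y).ne' h⟩

theorem bSpec_of (h2 : (2 : F) ≠ 0) (hodd : Odd (Fintype.card F)) {n : ℕ} (h3 : 3 ≤ n) {ι : Type} [Fintype ι]
    [DecidableEq ι] {Q : QuadraticForm F (ι → F)} (hQ : (QuadraticMap.polarBilin Q).Nondegenerate)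
    (hn : Fintype.card ι = 2 * n + 1) {g : isometryGroup F ⇑Q} (hg : g ∈ Omega F ⇑Q) {m : ℕ}
    (hm : m ∣ orderOf g) : BSpec F n m := by
  haveI : Finite (isometryGroup F ⇑Q) := inferInstance
  obtain ⟨y, hy⟩ := to_pomega h2 hodd hQ h3 hn hg
  exact ⟨y ^ (orderOf y / m), orderOf_pow_orderOf_div (hy ▸ (orderOf_pos g).ne') (hy ▸ hm)⟩

theorem dvd_symp_block {n a : ℕ} (ha : a ≤ n) (x : Matrix.symplecticGroup (Fin a) F) :
    ∃ A : Matrix.symplecticGroup (Fin n) F, orderOf A = orderOf x := by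
  obtain ⟨b, rfl⟩ := Nat.exists_eq_add_of_le ha
  refine ⟨sympBlock a b (x, 1), ?_⟩
  rw [orderOf_injective _ sympBlock_injective, Prod.orderOf, orderOf_one, Nat.lcm_one_right]

theorem card_two_mul (a : ℕ) : Fintype.card (Fin a ⊕ Fin a) = 2 * a := by
  simp [Fintype.card_sum, two_mul]

theorem card_model (n : ℕ) : Fintype.card (Unit ⊕ (Fin n ⊕ Fin n)) = 2 * n + 1 := by
  simp [Fintype.card_sum]; omega

theorem ogVal_pow {ι : Type} [Fintype ι] [DecidableEq ι] {Q : QuadraticForm F (ι → F)}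
    (g : isometryGroup F ⇑Q) (k : ℕ) : ogVal (g ^ k) = ogVal g ^ k := by
  induction k with
  | zero => simp
  | succ k ih => rw [pow_succ, ogVal_mul, ih, pow_succ]

theorem sVal_pow {n : ℕ} (A : Matrix.symplecticGroup (Fin n) F) (k : ℕ) : (A ^ k).1 = A.1 ^ k :=
  SubmonoidClass.coe_pow A k

variable (p : ℕ) [Fact p.Prime] [CharP F p]

/-! ### Two odd primes different from the characteristic -/

theorem rr_of_c (h2 : (2 : F) ≠ 0) (hodd : Odd (Fintype.card F)) {n : ℕ} (h3 : 3 ≤ n) {N : ℕ} (hN : Odd N)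
    (hNp : ¬ p ∣ N) (h : CSpec F n N) : BSpec F n N := by
  obtain ⟨y, hy⟩ := h
  obtain ⟨A, -, hA⟩ := exists_odd_lift y (by rwa [hy])
  rw [hy] at hA
  have hNF : (N : F) ≠ 0 := fun h => hNp ((CharP.cast_eq_zero_iff F p N).1 h)
  obtain ⟨M, hMs, hMd, hMA⟩ := exists_symmetric_form A hN hNF h2 (by rw [← hA]; exact pow_orderOf_eq_one A)
  set g := embL (qMat M) (qfOdd 0 F) (isoOf hMd A.1 hMA)
  have hord : orderOf g = N := by
    rw [orderOf_injective _ embL_injective, ← hA]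
    refine orderOf_eq_orderOf_iff.2 fun k => ?_
    constructor
    · intro hk
      refine Subtype.ext ?_
      rw [sVal_pow, ← ogVal_isoOf hMd A.1 hMA, ← ogVal_pow, hk, ogVal_one]; rfl
    · intro hk
      refine ogVal_ext ?_
      rw [ogVal_pow, ogVal_isoOf, ← sVal_pow, hk, ogVal_one]; rfl
  refine bSpec_of h2 hodd h3 (nondegenerate_sumQ (nondegenerate_qMat h2 hMs hMd) (nondegenerate_qfOdd 0 h2))
    ?_ (g := g) (odd_mem_omega h2 (nondegenerate_sumQ (nondegenerate_qMat h2 hMs hMd) (nondegenerate_qfOdd 0 h2))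
      hN (by rw [← hord]; exact pow_orderOf_eq_one g)) hord.symm.dvd
  rw [Fintype.card_sum, card_two_mul, card_model]

theorem rr_of_b (h2 : (2 : F) ≠ 0) (hodd : Odd (Fintype.card F)) {n : ℕ} (h3 : 3 ≤ n) {N : ℕ} (hN : Odd N)
    (hNp : ¬ p ∣ N) (h : BSpec F n N) : CSpec F n N := by
  classical
  obtain ⟨y, hy⟩ := h
  obtain ⟨g, -, hg⟩ := of_pomega hodd h3 y
  rw [hy] at hg
  let K := AlgebraicClosure F
  haveI : CharP K p := charP_of_injective_algebraMap (algebraMap F K).injective p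
  set G := ogVal g
  obtain ⟨hM, hMG⟩ := gram_facts (nondegenerate_qfOdd n h2)
  have hGN : G ^ N = 1 := by rw [← ogVal_pow, ← hg, pow_orderOf_eq_one, ogVal_one]
  set S := (eigRoots K G).toFinset.erase 1
  have hmem : ∀ x ∈ S, x ≠ 1 ∧ x ∈ eigRoots K G := fun x hx =>
    ⟨(Finset.mem_erase.1 hx).1, Multiset.mem_toFinset.1 (Finset.mem_erase.1 hx).2⟩
  have hS : OrbSet F S := by
    refine ⟨fun x hx => ?_, fun x hx => ?_, fun x hx => ⟨(hmem x hx).1, ?_⟩⟩
    · refine Finset.mem_erase.2 ⟨fun h => (hmem x hx).1 ?_, Multiset.mem_toFinset.2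
        (pow_card_mem_eigRoots (hmem x hx).2)⟩
      exact (FiniteField.frobeniusAlgHom F K).toRingHom.injective (by simpa using h)
    · exact Finset.mem_erase.2 ⟨fun h => (hmem x hx).1 (inv_eq_one.1 h),
        Multiset.mem_toFinset.2 (eigRoots_inv hM (hMG g) (hmem x hx).2)⟩
    · exact hN.of_dvd_nat (orderOf_dvd_of_pow_eq_one (pow_eq_one_of_eigRoot hGN (hmem x hx).2))
  obtain ⟨e, hSe, x, hxo, -, hxS⟩ := exists_symp_of_orbSet p h2 S hS
  have he : e ≤ n := by
    have h1 : S.card ≤ 2 * n + 1 := (card_erase_le G).trans (card_model n).le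
    omega
  have hx0 : orderOf x ≠ 0 := fun h => by rw [h] at hxo; exact Nat.not_odd_zero hxo
  have hGx : G ^ orderOf x = 1 := pow_eq_one_of_roots p (K := K) hGN
    ((Fact.out : p.Prime).coprime_iff_not_dvd.2 hNp).symm hx0 fun a ha => by
      by_cases ha1 : a = 1
      · rw [ha1, one_pow]
      · exact hxS a (Finset.mem_erase.2 ⟨ha1, Multiset.mem_toFinset.2 ha⟩)
  have hd : N ∣ orderOf x := by
    rw [← hg]
    exact orderOf_dvd_of_pow_eq_one (ogVal_ext (by rw [ogVal_pow, hGx, ogVal_one]))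
  obtain ⟨A, hA⟩ := dvd_symp_block he x
  refine cSpec_of_dvd (spToPSp n F A) ?_
  exact (hN.coprime_two_right).dvd_of_dvd_mul_left (hd.trans (hA ▸ orderOf_dvd_two_mul_psp A))

/-! ### The numerical obstruction -/

/-- An element of prime order `s`, in either group, gives an admissible `e ≤ n`. -/
theorem fits_of_c {n s : ℕ} (hs : s.Prime) (hs2 : s ≠ 2) (hsp : s ≠ p) (y : PSp n F) (hy : s ∣ orderOf y) :
    ∃ e, 1 ≤ e ∧ Fits F s e ∧ e ≤ n := by
  obtain ⟨z, hz⟩ := cSpec_of_dvd y hy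
  obtain ⟨A, -, hA⟩ := exists_odd_lift z (by rw [hz]; exact hs.odd_of_ne_two hs2)
  rw [hz] at hA
  have hpow : A.1 ^ s = 1 := by
    rw [← sVal_pow, ← hA, pow_orderOf_eq_one]; rfl
  have hne : A.1 ≠ 1 := fun h => by
    rw [show A = 1 from Subtype.ext h, orderOf_one] at hA
    exact hs.one_lt.ne hA
  obtain ⟨e, he, hf, hc⟩ := exists_fits_le p
    (show (Matrix.J (Fin n) F).det ≠ 0 by
      rw [SymplecticGroup.det_eq_one (SymplecticGroup.J_mem (Fin n) F)]; exact one_ne_zero)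
    (SymplecticGroup.mem_iff'.1 A.2) hs hs2 hsp hpow hne
  rw [card_two_mul] at hc
  exact ⟨e, he, hf, by omega⟩

theorem fits_of_b (h2 : (2 : F) ≠ 0) (hodd : Odd (Fintype.card F)) {n : ℕ} (h3 : 3 ≤ n) {s : ℕ} (hs : s.Prime)
    (hs2 : s ≠ 2) (hsp : s ≠ p) (y : POmega F (quadFormOdd n F)) (hy : s ∣ orderOf y) :
    ∃ e, 1 ≤ e ∧ Fits F s e ∧ e ≤ n := by
  obtain ⟨g, -, hg⟩ := of_pomega hodd h3 y
  haveI : Finite (isometryGroup F ⇑(qfOdd n F)) := inferInstance
  have hz : orderOf (g ^ (orderOf g / s)) = s := orderOf_pow_orderOf_div (orderOf_pos g).ne' (hg ▸ hy)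
  set z := g ^ (orderOf g / s)
  obtain ⟨hM, hMG⟩ := gram_facts (nondegenerate_qfOdd n h2)
  obtain ⟨e, he, hf, hc⟩ := exists_fits_le p hM (hMG z) hs hs2 hsp
    (by rw [← ogVal_pow, ← hz, pow_orderOf_eq_one, ogVal_one]) (fun h => by
      rw [show z = 1 from ogVal_ext (h.trans ogVal_one.symm), orderOf_one] at hz
      exact hs.one_lt.ne hz)
  rw [card_model] at hc
  exact ⟨e, he, hf, by omega⟩

/-- An element of order `s` in a symmetric form of dimension `2 e`, extended by a `(2k+1)`-dimensional model. -/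
theorem exists_block (h2 : (2 : F) ≠ 0) {s e : ℕ} (hs : s.Prime) (hs2 : s ≠ 2) (hsp : s ≠ p) (he : 1 ≤ e)
    (hf : Fits F s e) :
    ∃ (M : Matrix (Fin e ⊕ Fin e) (Fin e ⊕ Fin e) F), Mᵀ = M ∧ M.det ≠ 0 ∧
      ∃ z : isometryGroup F ⇑(qMat M), orderOf z = s := by
  obtain ⟨x, hx⟩ := exists_symp_order_of_dvd h2 he hf
  have hsF : (s : F) ≠ 0 := fun h => hsp (((Nat.prime_dvd_prime_iff_eq (Fact.out) hs).1
    ((CharP.cast_eq_zero_iff F p s).1 h))).symm
  obtain ⟨M, hMs, hMd, hMA⟩ := exists_symmetric_form x (hs.odd_of_ne_two hs2) hsF h2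
    (by rw [← hx]; exact pow_orderOf_eq_one x)
  refine ⟨M, hMs, hMd, isoOf hMd x.1 hMA, ?_⟩
  haveI := Fact.mk hs
  refine orderOf_eq_prime (ogVal_ext ?_) fun h => ?_
  · rw [ogVal_pow, ogVal_isoOf, ← sVal_pow, ← hx, pow_orderOf_eq_one, ogVal_one]; rfl
  · have h1 := congrArg ogVal h
    rw [ogVal_isoOf, ogVal_one] at h1
    rw [show x = 1 from Subtype.ext h1, orderOf_one] at hx
    exact hs.one_lt.ne hx

/-! ### The characteristic with an odd prime -/

theorem ps_b_of_small (h2 : (2 : F) ≠ 0) (hodd : Odd (Fintype.card F)) {n : ℕ} (h3 : 3 ≤ n) {s e : ℕ}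
    (hs : s.Prime) (hs2 : s ≠ 2) (hsp : s ≠ p) (he : 1 ≤ e) (hf : Fits F s e) (hen : e < n) :
    BSpec F n (2 * s) ∧ BSpec F n (p * s) := by
  obtain ⟨M, hMs, hMd, z, hz⟩ := exists_block p h2 hs hs2 hsp he hf
  obtain ⟨⟨t, ht, hto⟩, u, hu, huo⟩ := exists_pairs_model (F := F) p h2 (k := n - e) (by omega)
  have hS := nondegenerate_sumQ (nondegenerate_qMat h2 hMs hMd) (nondegenerate_qfOdd (n - e) h2)
  have hcard : Fintype.card ((Fin e ⊕ Fin e) ⊕ (Unit ⊕ (Fin (n - e) ⊕ Fin (n - e)))) = 2 * n + 1 := by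
    rw [Fintype.card_sum, card_two_mul, card_model]; omega
  set Z := embL (qMat M) (qfOdd (n - e) F) z
  have hZ : orderOf Z = s := by rw [orderOf_injective _ embL_injective, hz]
  have hZm : Z ∈ Omega F ⇑(sumQ (qMat M) (qfOdd (n - e) F)) :=
    odd_mem_omega h2 hS (hs.odd_of_ne_two hs2) (by rw [← hZ]; exact pow_orderOf_eq_one Z)
  have main : ∀ {v : isometryGroup F ⇑(qfOdd (n - e) F)} {r : ℕ}, v ∈ Omega F ⇑(qfOdd (n - e) F) →
      orderOf v = r → r.Coprime s → BSpec F n (r * s) := by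
    intro v r hv hvr hco
    refine bSpec_of h2 hodd h3 hS hcard (g := embR (qMat M) (qfOdd (n - e) F) v * Z)
      (mul_mem (omega_map_le _ hv) hZm) ?_
    rw [((embL_embR_commute z v).symm).orderOf_mul_eq_mul_orderOf_of_coprime
      (by rw [orderOf_injective _ embR_injective, hvr, hZ]; exact hco),
      orderOf_injective _ embR_injective, hvr, hZ]
  exact ⟨main ht hto ((Nat.coprime_primes Nat.prime_two hs).2 hs2.symm),
    main hu huo ((Nat.coprime_primes (Fact.out) hs).2 hsp.symm)⟩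

theorem ps_c_of_small (h2 : (2 : F) ≠ 0) {n : ℕ} {s e : ℕ} (hs : s.Prime) (hs2 : s ≠ 2) (hsp : s ≠ p)
    (he : 1 ≤ e) (hf : Fits F s e) (hen : e < n) : CSpec F n (2 * s) ∧ CSpec F n (p * s) := by
  obtain ⟨b, rfl⟩ : ∃ b, n = e + b := ⟨n - e, by omega⟩
  obtain ⟨x, hx⟩ := exists_symp_order_of_dvd h2 he hf
  have hxo : Odd (orderOf x) := hx ▸ hs.odd_of_ne_two hs2
  constructor
  · obtain ⟨y, hy⟩ := exists_psp_lcm h2 (rfl : e + b = e + b) (by omega) (sympNegOne e F * x) 1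
      (by rw [orderOf_one]; exact odd_one)
    rw [orderOf_sympNegOne_mul h2 he hxo, orderOf_one, Nat.lcm_one_right, hx] at hy
    exact cSpec_of_dvd y hy
  · obtain ⟨u, hu⟩ := exists_symp_regular_unipotent (F := F) p (j := b) (by omega)
    obtain ⟨y, hy⟩ := exists_psp_lcm h2 (rfl : e + b = e + b) (by omega) x u
      (by rw [hu]; exact (odd_prime_of_two_ne_zero p h2).pow)
    refine cSpec_of_dvd y (Dvd.dvd.trans ?_ hy)
    rw [hx, hu]
    refine ((Nat.coprime_primes (Fact.out) hs).2 hsp.symm).mul_dvd_of_dvd_of_dvd ?_ (Nat.dvd_lcm_left _ _)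
    exact (dvd_pow_self p (Nat.clog_pos (Fact.out : p.Prime).one_lt (by omega)).ne').trans (Nat.dvd_lcm_right _ _)

/-- A matrix of order `p * s` has `s`-th roots of unity as eigenvalues, not all trivial, and then repeated ones. -/
theorem ps_roots {K : Type*} [Field K] [Algebra F K] [IsAlgClosed K] [CharP K p] {ι : Type} [Fintype ι]
    [DecidableEq ι] {G : Matrix ι ι F} {s : ℕ} (hs : s.Prime) (hsp : s ≠ p)
    (hord : ∀ k, G ^ k = 1 ↔ p * s ∣ k) :
    (∀ x ∈ eigRoots K G, x ^ s = 1) ∧ (∃ x ∈ eigRoots K G, x ≠ 1) ∧ ¬ (eigRoots K G).Nodup := by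
  classical
  have hR : ∀ x ∈ eigRoots K G, x ^ s = 1 := fun x hx => by
    have h := pow_eq_one_of_eigRoot ((hord (p * s)).2 dvd_rfl) hx
    rw [mul_comm, pow_mul] at h
    exact frobenius_inj K p (by simpa [frobenius_def] using h)
  refine ⟨hR, ?_, fun hnd => ?_⟩
  · by_contra hall
    push Not at hall
    set c := Nat.clog p (Fintype.card ι)
    have h := pow_eq_one_of_eigRoots (K := K) p G (c := c) (M := 1) one_ne_zero
      (fun x hx => by rw [pow_one]; exact hall x hx) (fun x _ => (Multiset.count_le_card x _).trans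
        ((card_eigRoots G).le.trans (Nat.le_pow_clog (Fact.out : p.Prime).one_lt _)))
    rw [mul_one, hord] at h
    exact hsp ((Nat.prime_dvd_prime_iff_eq hs (Fact.out)).1
      (hs.dvd_of_dvd_pow ((dvd_mul_left s p).trans h)))
  · have h := pow_eq_one_of_eigRoots (K := K) p G (c := 0) hs.ne_zero hR
      (fun x _ => by rw [pow_zero]; exact Multiset.nodup_iff_count_le_one.1 hnd x)
    rw [pow_zero, one_mul, hord] at h
    have h1 := Nat.le_of_dvd hs.pos h
    have := (Fact.out : p.Prime).two_le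
    have := Nat.mul_le_mul_right s this
    have := hs.pos
    omega

theorem small_of_ps_c {n : ℕ} {s : ℕ} (hs : s.Prime) (hs2 : s ≠ 2) (hsp : s ≠ p) (h2 : (2 : F) ≠ 0)
    (h : CSpec F n (p * s)) : ∃ e, 1 ≤ e ∧ Fits F s e ∧ e < n := by
  classical
  obtain ⟨y, hy⟩ := h
  obtain ⟨A, -, hA⟩ := exists_odd_lift y (by
    rw [hy]; exact (odd_prime_of_two_ne_zero p h2).mul (hs.odd_of_ne_two hs2))
  rw [hy] at hA
  let K := AlgebraicClosure F
  haveI : CharP K p := charP_of_injective_algebraMap (algebraMap F K).injective p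
  obtain ⟨hR, hne, hnd⟩ := ps_roots p (K := K) (G := A.1) hs hsp fun k => by
    rw [← hA, orderOf_dvd_iff_pow_eq_one, ← sVal_pow]
    exact ⟨fun h => Subtype.ext h, fun h => by rw [h]; rfl⟩
  by_contra hcon
  push Not at hcon
  exact hnd (roots_of_full p (show (Matrix.J (Fin n) F).det ≠ 0 by
      rw [SymplecticGroup.det_eq_one (SymplecticGroup.J_mem (Fin n) F)]; exact one_ne_zero)
    (SymplecticGroup.mem_iff'.1 A.2) hs hs2 hR hne (card_two_mul n) hcon).1

theorem small_of_ps_b (h2 : (2 : F) ≠ 0) (hodd : Odd (Fintype.card F)) {n : ℕ} (h3 : 3 ≤ n) {s : ℕ} (hs : s.Prime)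
    (hs2 : s ≠ 2) (hsp : s ≠ p) (h : BSpec F n (p * s)) : ∃ e, 1 ≤ e ∧ Fits F s e ∧ e < n := by
  classical
  obtain ⟨y, hy⟩ := h
  obtain ⟨g, hgm, hg⟩ := of_pomega hodd h3 y
  rw [hy] at hg
  let K := AlgebraicClosure F
  haveI : CharP K p := charP_of_injective_algebraMap (algebraMap F K).injective p
  obtain ⟨hR, hne, hnd⟩ := ps_roots p (K := K) (G := ogVal g) hs hsp fun k => by
    rw [← hg, orderOf_dvd_iff_pow_eq_one, ← ogVal_pow]
    exact ⟨fun h => ogVal_ext (h.trans ogVal_one.symm), fun h => by rw [h, ogVal_one]⟩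
  have hQ := nondegenerate_qfOdd (F := F) n h2
  obtain ⟨hM, hMG⟩ := gram_facts hQ
  by_contra hcon
  push Not at hcon
  exact hnd (roots_of_full_odd p hM (hMG g) (det_of_mem_omega h2 hQ hgm) h2 hs hs2 hR hne (card_model n) hcon)

/-! ### The prime two -/

theorem two_p_b (h2 : (2 : F) ≠ 0) (hodd : Odd (Fintype.card F)) {n : ℕ} (h3 : 3 ≤ n) : BSpec F n (2 * p) := by
  obtain ⟨g, hg, ho⟩ := exists_two_p_model (F := F) p h2 h3
  exact bSpec_of h2 hodd h3 (nondegenerate_qfOdd n h2) (card_model n) hg ho.symm.dvd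

theorem two_p_c (h2 : (2 : F) ≠ 0) {n : ℕ} (h3 : 3 ≤ n) : CSpec F n (2 * p) := by
  obtain ⟨b, rfl⟩ : ∃ b, n = 1 + b := ⟨n - 1, by omega⟩
  obtain ⟨u, hu⟩ := exists_symp_regular_unipotent (F := F) p (j := b) (by omega)
  obtain ⟨y, hy⟩ := exists_psp_lcm h2 (rfl : 1 + b = 1 + b) (by omega) (sympNegOne 1 F) u
    (by rw [hu]; exact (odd_prime_of_two_ne_zero p h2).pow)
  refine cSpec_of_dvd y (Dvd.dvd.trans ?_ hy)
  have h : orderOf (sympNegOne 1 F) = 2 :=
    orderOf_eq_prime (hp := ⟨Nat.prime_two⟩) (sympNegOne_sq 1) (sympNegOne_ne_one h2 le_rfl)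
  rw [h, hu]
  refine Nat.Coprime.mul_dvd_of_dvd_of_dvd (odd_prime_of_two_ne_zero p h2).coprime_two_left
    (Nat.dvd_lcm_left _ _) ?_
  exact (dvd_pow_self p (Nat.clog_pos (Fact.out : p.Prime).one_lt (by omega)).ne').trans (Nat.dvd_lcm_right _ _)

/-- From `PSp` to `PΩ` when no smaller `e` fits. -/
theorem two_b_of_c (h2 : (2 : F) ≠ 0) (hodd : Odd (Fintype.card F)) {n : ℕ} (h3 : 3 ≤ n) {s : ℕ} (hs : s.Prime)
    (hs2 : s ≠ 2) (hsp : s ≠ p) (hfull : ∀ e, 1 ≤ e → Fits F s e → n ≤ e) (h : CSpec F n (2 * s)) :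
    BSpec F n (2 * s) := by
  obtain ⟨y, hy⟩ := h
  obtain ⟨A, rfl⟩ : ∃ A, spToPSp n F A = y := QuotientGroup.mk'_surjective _ y
  haveI : Finite (PSp n F) := inferInstance
  have hodds := hs.odd_of_ne_two hs2
  have h2s : orderOf (spToPSp n F (A ^ 2)) = s := by
    rw [map_pow, orderOf_pow_of_dvd two_ne_zero (hy ▸ dvd_mul_right 2 s), hy,
      Nat.mul_div_cancel_left _ two_pos]
  obtain ⟨B, hBA, hB⟩ := exists_odd_lift (spToPSp n F (A ^ 2)) (by rw [h2s]; exact hodds)
  rw [h2s] at hB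
  have hcz : (A ^ 2)⁻¹ * B ∈ Subgroup.center (Matrix.symplecticGroup (Fin n) F) :=
    (QuotientGroup.eq).1 hBA.symm
  have hcomm : Commute (A ^ s) B := by
    have e : B = A ^ 2 * ((A ^ 2)⁻¹ * B) := by group
    rw [e]
    exact ((Commute.refl A).pow_pow s 2).mul_right (Subgroup.mem_center_iff.1 hcz _)
  set t := A ^ s
  have ht1 : t ≠ 1 ∧ t ≠ sympNegOne n F := by
    have hne : spToPSp n F t ≠ 1 := fun h => by
      rw [map_pow] at h
      have := Nat.le_of_dvd hs.pos (hy ▸ orderOf_dvd_of_pow_eq_one h)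
      have := hs.two_le
      omega
    refine ⟨fun h => hne (by rw [h, map_one]), fun h => hne ?_⟩
    rw [h]
    exact (QuotientGroup.eq_one_iff _).2 (Subgroup.mem_center_iff.2 fun g => (sympNegOne_commute g).eq.symm)
  have htt : t ^ 2 = 1 ∨ t ^ 2 = sympNegOne n F := by
    refine spToPSp_pow_eq_one (j := 2) (x := t) ?_
    rw [← map_pow, ← pow_mul, map_pow, mul_comm, ← hy, pow_orderOf_eq_one]
  -- the symmetric form
  set S := Matrix.J (Fin n) F * (B.1 - (B⁻¹).1) with hSd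
  obtain ⟨hSs, hSc⟩ := symmetrize B
  have hBs : B.1 ^ s = 1 := by rw [← sVal_pow, ← hB, pow_orderOf_eq_one]; rfl
  have hBne : B.1 ≠ 1 := fun h => by
    rw [show B = 1 from Subtype.ext h, orderOf_one] at hB
    exact hs.one_lt.ne hB
  have hJd : (Matrix.J (Fin n) F).det ≠ 0 := by
    rw [SymplecticGroup.det_eq_one (SymplecticGroup.J_mem (Fin n) F)]; exact one_ne_zero
  have hSdet : S.det ≠ 0 := by
    rw [symmetrize_det]
    exact mul_ne_zero (det_sub_one_ne_zero_of_full p hJd (SymplecticGroup.mem_iff'.1 B.2) hs hs2 hsp hBs hBne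
      (card_two_mul n) hfull) (det_one_add_ne_zero hodds hBs h2)
  let toO : ∀ u : Matrix.symplecticGroup (Fin n) F, Commute u B → isometryGroup F ⇑(qMat S) :=
    fun u hu => isoOf hSdet u.1 (hSc u hu)
  have hQ := nondegenerate_qMat h2 hSs hSdet
  have hS := nondegenerate_sumQ hQ (nondegenerate_qfOdd (F := F) 0 h2)
  let E : isometryGroup F ⇑(qMat S) →* isometryGroup F ⇑(sumQ (qMat S) (qfOdd 0 F)) := embL _ _
  set Z := E (toO B (Commute.refl B))
  have hZ : orderOf Z = s := by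
    rw [show Z = E _ from rfl, orderOf_injective E embL_injective]
    haveI := Fact.mk hs
    refine orderOf_eq_prime (ogVal_ext ?_) fun h => hBne ?_
    · rw [ogVal_pow]; exact hBs.trans ogVal_one.symm
    · exact (congrArg ogVal h).trans ogVal_one
  have hZm : Z ∈ Omega F ⇑(sumQ (qMat S) (qfOdd 0 F)) :=
    odd_mem_omega h2 hS hodds (by rw [← hZ]; exact pow_orderOf_eq_one Z)
  have hneg : Commute (sympNegOne n F) B := sympNegOne_commute B
  set a := E (toO t hcomm)
  set b := E (toO (sympNegOne n F) hneg)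
  have hdet : ∀ u hu, (ogVal (E (toO u hu))).det = 1 := fun u hu => by
    rw [det_embL]; exact SymplecticGroup.det_eq_one u.2
  have hmulE : ∀ u v hu hv, E (toO u hu) * E (toO v hv) = E (toO (u * v) (Commute.mul_left hu hv)) :=
    fun u v hu hv => by rw [← map_mul]; exact congrArg E (ogVal_ext rfl)
  -- an involution commuting with the lift
  obtain ⟨u, huc, hu2, hune, hus⟩ : ∃ u : Matrix.symplecticGroup (Fin n) F, ∃ hu : Commute u B,
      u ^ 2 = 1 ∧ u ≠ 1 ∧ spin (E (toO u hu)) = 1 := by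
    have hn1 := sympNegOne_ne_one (F := F) h2 (show 1 ≤ n by omega)
    rcases htt with h | h
    · rcases Int.units_eq_one_or (spin a) with ha | ha
      · exact ⟨t, hcomm, h, ht1.1, ha⟩
      rcases Int.units_eq_one_or (spin b) with hb | hb
      · exact ⟨_, hneg, sympNegOne_sq n, hn1, hb⟩
      refine ⟨sympNegOne n F * t, hneg.mul_left hcomm, ?_, fun h1 => ht1.2 ?_, ?_⟩
      · rw [(sympNegOne_commute t).mul_pow, sympNegOne_sq, h, one_mul]
      · rw [eq_comm, ← mul_one (sympNegOne n F), ← h1, ← mul_assoc, ← sq, sympNegOne_sq, one_mul]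
      · rw [← hmulE _ _ hneg hcomm, spin_mul hS, ha, hb]; rfl
    · refine ⟨_, hneg, sympNegOne_sq n, hn1, ?_⟩
      have e : b = a * a := by
        rw [hmulE t t hcomm hcomm]
        exact congrArg E (ogVal_ext (congrArg Subtype.val ((sq t).symm.trans h).symm))
      rw [show E (toO (sympNegOne n F) hneg) = b from rfl, e, spin_mul hS, Int.units_mul_self]
  set U := E (toO u huc)
  have hU : orderOf U = 2 := by
    rw [orderOf_injective E embL_injective]
    haveI := Fact.mk Nat.prime_two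
    refine orderOf_eq_prime (ogVal_ext ?_) fun h => hune (Subtype.ext ((congrArg ogVal h).trans ogVal_one))
    rw [ogVal_pow]
    exact ((sVal_pow u 2).symm.trans (congrArg Subtype.val hu2)).trans ogVal_one.symm
  refine bSpec_of h2 hodd h3 hS (by rw [Fintype.card_sum, card_two_mul, card_model]) (g := U * Z)
    (mul_mem (mem_omega_of_det h2 hS (hdet u huc) hus) hZm) ?_
  have hUZ : Commute U Z := Commute.map (ogVal_ext (congrArg Subtype.val huc.eq)) E
  rw [hUZ.orderOf_mul_eq_mul_orderOf_of_coprime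
    (by rw [hU, hZ]; exact (Nat.coprime_primes Nat.prime_two hs).2 hs2.symm), hU, hZ]

end Cfsg.Agent.Classical.PrimeGraphBC
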