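import Mathlib
import Cfsg.Agent.Lib.Classical.PrimeGraphBC

/-!
`PΩ(2n+1,q)` with an element of order `2 s`, no smaller exponent fitting `s`: then `PSp(2n,q)` has one too.
-/

set_option autoImplicit false

namespace Cfsg.Agent.Classical.PrimeGraphBC

open Matrix Cfsg Cfsg.Agent.Classical.OrthAut

variable {F : Type*} [Field F] [Fintype F] (p : ℕ) [Fact p.Prime] [CharP F p]

/-- Conjugates `a ^ (q ^ i)` and their inverses are distinct when no exponent below `n` fits. -/
theorem orbit_eq {K : Type*} [Field K] [Algebra F K] [CharP K p] [DecidableEq K] {n s : ℕ}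
    (hs : s.Prime) (hs2 : s ≠ 2) {S : Finset K} (hS : OrbSet F S) (hcard : S.card ≤ 2 * n)
    (hfull : ∀ e, 1 ≤ e → Fits F s e → n ≤ e) {a : K} (ha : a ∈ S) (has : orderOf a = s) :
    S = (Finset.range n).image (fun i => a ^ Fintype.card F ^ i) ∪
        (Finset.range n).image (fun i => (a ^ Fintype.card F ^ i)⁻¹) ∧
    Disjoint ((Finset.range n).image fun i => a ^ Fintype.card F ^ i)
        ((Finset.range n).image fun i => (a ^ Fintype.card F ^ i)⁻¹) ∧
    Set.InjOn (fun i => a ^ Fintype.card F ^ i) (Finset.range n : Set ℕ) := by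
  classical
  set q := Fintype.card F with hq
  have ha0 : a ≠ 0 := by rintro rfl; simp at has; exact hs.ne_zero has.symm
  have hinj : ∀ i, Function.Injective fun x : K => x ^ q ^ i := fun i => by
    induction i with
    | zero => intro x y h; simpa using h
    | succ i ih =>
      intro x y h
      refine ih ((FiniteField.frobeniusAlgHom F K).toRingHom.injective ?_)
      simpa [pow_succ, pow_mul] using h
  have hsub : ∀ k, 1 ≤ k → k < n → a ^ q ^ k ≠ a ∧ a ^ q ^ k ≠ a⁻¹ := by
    refine fun k hk hkn => ⟨fun h => ?_, fun h => ?_⟩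
    · have h1 : a ^ (q ^ k - 1) = 1 := mul_right_cancel₀ ha0 (by
        rw [← pow_succ, Nat.sub_add_cancel (Nat.one_le_pow _ _ Fintype.card_pos), h, one_mul])
      have := hfull k hk (Or.inr (has ▸ orderOf_dvd_of_pow_eq_one h1))
      omega
    · have h1 : a ^ (q ^ k + 1) = 1 := by rw [pow_succ, h, inv_mul_cancel₀ ha0]
      have := hfull k hk (Or.inl (has ▸ orderOf_dvd_of_pow_eq_one h1))
      omega
  have hne : a⁻¹ ≠ a := fun h => by
    have h1 : a ^ 2 = 1 := by rw [sq]; nth_rewrite 1 [← h]; exact inv_mul_cancel₀ ha0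
    exact hs2 ((Nat.prime_dvd_prime_iff_eq hs Nat.prime_two).1 (has ▸ orderOf_dvd_of_pow_eq_one h1))
  have key : ∀ i j, i ≤ j → j < n → (a ^ q ^ i = a ^ q ^ j → i = j) ∧ a ^ q ^ i ≠ (a ^ q ^ j)⁻¹ := by
    intro i j hij hj
    obtain ⟨k, rfl⟩ := Nat.exists_eq_add_of_le hij
    have e : a ^ q ^ (i + k) = (a ^ q ^ k) ^ q ^ i := by rw [← pow_mul, ← pow_add, add_comm]
    rw [e, ← inv_pow]
    refine ⟨fun h => ?_, fun h => ?_⟩
    · have h1 : a = a ^ q ^ k := hinj i h
      rcases Nat.eq_zero_or_pos k with hk | hk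
      · omega
      · exact absurd h1.symm (hsub k hk (by omega)).1
    · have h1 : a = (a ^ q ^ k)⁻¹ := hinj i h
      rcases Nat.eq_zero_or_pos k with hk | hk
      · exact hne (by rw [hk, pow_zero, pow_one] at h1; exact h1.symm)
      · exact (hsub k hk (by omega)).2 (by rw [eq_comm, inv_eq_iff_eq_inv] at h1; exact h1)
  have hI : Set.InjOn (fun i => a ^ q ^ i) (Finset.range n : Set ℕ) := by
    intro i hi j hj h
    simp only [Finset.coe_range, Set.mem_Iio] at hi hj
    rcases le_total i j with hij | hij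
    · exact (key i j hij hj).1 h
    · exact ((key j i hij hi).1 h.symm).symm
  have hD : Disjoint ((Finset.range n).image fun i => a ^ q ^ i)
      ((Finset.range n).image fun i => (a ^ q ^ i)⁻¹) := by
    simp only [Finset.disjoint_left, Finset.mem_image, Finset.mem_range]
    rintro _ ⟨i, hi, rfl⟩ ⟨j, hj, h⟩
    rcases le_total i j with hij | hij
    · exact (key i j hij hj).2 h.symm
    · exact (key j i hij hi).2 (by rw [← h, inv_inv])
  have hmem : ∀ i, a ^ q ^ i ∈ S := fun i => by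
    induction i with
    | zero => simpa using ha
    | succ i ih => rw [pow_succ, pow_mul]; exact hS.1 _ ih
  refine ⟨(Finset.eq_of_subset_of_card_le ?_ ?_).symm, hD, hI⟩
  · intro x hx
    simp only [Finset.mem_union, Finset.mem_image] at hx
    rcases hx with ⟨i, -, rfl⟩ | ⟨i, -, rfl⟩
    · exact hmem i
    · exact hS.2.1 _ (hmem i)
  · rw [Finset.card_union_of_disjoint hD, Finset.card_image_of_injOn hI,
      Finset.card_image_of_injOn (fun i hi j hj h => hI hi hj (inv_injective h)), Finset.card_range]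
    omega

/-- `q ^ n` modulo four. -/
theorem four_dvd_of {q m n : ℕ} (hq : q = 2 * m + 1) :
    (Odd (n * m) → 4 ∣ q ^ n + 1) ∧ (Even (n * m) → 4 ∣ q ^ n - 1) := by
  have h1 : ((q : ZMod 4)) = (-1) ^ m := by
    rcases Nat.even_or_odd m with ⟨k, hk⟩ | ⟨k, hk⟩
    · rw [hq, hk, Even.neg_one_pow ⟨k, rfl⟩]; push_cast
      have : (4 : ZMod 4) = 0 := by decide
      linear_combination (k : ZMod 4) * this
    · rw [hq, hk, Odd.neg_one_pow ⟨k, rfl⟩]; push_cast
      have : (4 : ZMod 4) = 0 := by decide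
      linear_combination ((k : ZMod 4) + 1) * this
  have h2 : ((q : ZMod 4)) ^ n = (-1) ^ (n * m) := by rw [h1, ← pow_mul, mul_comm]
  refine ⟨fun h => ?_, fun h => ?_⟩
  · rw [← ZMod.natCast_eq_zero_iff]
    rw [Nat.cast_add, Nat.cast_pow, h2, h.neg_one_pow, Nat.cast_one, neg_add_cancel]
  · rw [← ZMod.natCast_eq_zero_iff]
    rw [Nat.cast_sub (Nat.one_le_pow _ _ (by omega)), Nat.cast_pow, h2, h.neg_one_pow, Nat.cast_one, sub_self]

/-- If `det (1 - G) det (1 + G)` is a square, `q ^ n ± 1` is divisible by four. -/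
theorem four_dvd_of_square {ι : Type} [Fintype ι] [DecidableEq ι] {n s : ℕ} {G M : Matrix ι ι F}
    (hM : M.det ≠ 0) (hG : Gᵀ * M * G = M) (hι : Fintype.card ι = 2 * n) (hn : 1 ≤ n)
    (h2 : (2 : F) ≠ 0) (hodd : Odd (Fintype.card F))
    (hs : s.Prime) (hs2 : s ≠ 2) (hsp : s ≠ p) (hGs : G ^ s = 1) (hne : G ≠ 1)
    (hfull : ∀ e, 1 ≤ e → Fits F s e → n ≤ e) (hsq : IsSquare ((1 - G).det * (1 + G).det)) :
    4 * s ∣ Fintype.card F ^ n + 1 ∨ 4 * s ∣ Fintype.card F ^ n - 1 := by
  classical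
  let K := AlgebraicClosure F
  haveI : CharP K p := charP_of_injective_algebraMap (algebraMap F K).injective p
  set q := Fintype.card F with hq
  obtain ⟨hR, hR1⟩ := hyps_of_pow p (K := K) hs hsp hGs hne
  obtain ⟨hnd, h1⟩ := roots_of_full p hM hG hs hs2 hR hR1 hι hfull
  set R := eigRoots K G
  set S := R.toFinset
  have hmem : ∀ x, x ∈ S ↔ x ∈ R := fun x => Multiset.mem_toFinset
  have hord : ∀ x ∈ S, orderOf x = s := fun x hx => by
    haveI := Fact.mk hs
    exact orderOf_eq_prime (hR x ((hmem x).1 hx)) (h1 x ((hmem x).1 hx))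
  have hS : OrbSet F S := by
    refine ⟨fun x hx => (hmem _).2 (pow_card_mem_eigRoots ((hmem x).1 hx)),
      fun x hx => (hmem _).2 (eigRoots_inv hM hG ((hmem x).1 hx)),
      fun x hx => ⟨h1 x ((hmem x).1 hx), by rw [hord x hx]; exact hs.odd_of_ne_two hs2⟩⟩
  have hc : S.card ≤ 2 * n := (Multiset.toFinset_card_le _).trans ((card_eigRoots G).le.trans hι.le)
  obtain ⟨a, haR, -⟩ := hR1
  have has := hord a ((hmem a).2 haR)
  obtain ⟨hSeq, hD, hI⟩ := orbit_eq p hs hs2 hS hc hfull ((hmem a).2 haR) has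
  have ha0 : a ≠ 0 := by rintro rfl; simp at has; exact hs.ne_zero has.symm
  -- the sign of `q ^ n`
  obtain ⟨e, he, hf, hec⟩ := exists_fits_le p hM hG hs hs2 hsp hGs hne
  obtain rfl : e = n := by have := hfull e he hf; omega
  set c := a - a⁻¹
  obtain ⟨ε, hε, hεc⟩ : ∃ ε : ℕ, (ε = 1 ∧ s ∣ q ^ e + 1 ∨ ε = 0 ∧ s ∣ q ^ e - 1) ∧
      c ^ q ^ e = (-1) ^ ε * c := by
    have hfr : c ^ q ^ e = a ^ q ^ e - (a ^ q ^ e)⁻¹ := by
      obtain ⟨j, -, hj⟩ := FiniteField.card F p
      rw [show q ^ e = p ^ (j * e : ℕ) by rw [pow_mul, ← hj], sub_pow_char_pow, inv_pow]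
    rcases hf with hf | hf
    · refine ⟨1, Or.inl ⟨rfl, hf⟩, ?_⟩
      have h : a ^ q ^ e = a⁻¹ := eq_inv_of_mul_eq_one_left (by
        rw [← pow_succ]; exact orderOf_dvd_iff_pow_eq_one.1 (has ▸ hf))
      rw [hfr, h, inv_inv, pow_one, neg_one_mul, neg_sub]
    · refine ⟨0, Or.inr ⟨rfl, hf⟩, ?_⟩
      have h : a ^ q ^ e = a := by
        have h := orderOf_dvd_iff_pow_eq_one.1 (has ▸ hf)
        rw [← Nat.sub_add_cancel (Nat.one_le_pow e q Fintype.card_pos), pow_succ, h, one_mul]
      rw [hfr, h, pow_zero, one_mul]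
  have hc0 : c ≠ 0 := by
    intro h
    have h2 : a ^ 2 = 1 := by rw [sq]; nth_rewrite 2 [sub_eq_zero.1 h]; exact mul_inv_cancel₀ ha0
    exact hs2 ((Nat.prime_dvd_prime_iff_eq hs Nat.prime_two).1 (has ▸ orderOf_dvd_of_pow_eq_one h2))
  -- the product over the eigenvalues
  set h := ∏ i ∈ Finset.range e, c ^ q ^ i
  have hprod : algebraMap F K ((1 - G).det * (1 + G).det) = (-1) ^ e * h ^ 2 := by
    have e1 : (1 + G).det = (Matrix.scalar ι (-1 : F) - G).det := by
      rw [show Matrix.scalar ι (-1 : F) - G = -(1 + G) by rw [map_neg, map_one]; abel, Matrix.det_neg, hι,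
        pow_mul, neg_one_sq, one_pow, one_mul]
    have e2 : (1 - G).det = (Matrix.scalar ι (1 : F) - G).det := by rw [map_one]
    rw [e1, e2, map_mul, det_scalar_sub (K := K), det_scalar_sub (K := K), ← Multiset.prod_map_mul]
    have hRS : R = S.val := by rw [Multiset.toFinset_val, hnd.dedup]
    show (Multiset.map _ R).prod = _
    rw [hRS, ← Finset.prod_eq_multiset_prod, hSeq, Finset.prod_union hD, Finset.prod_image hI,
      Finset.prod_image (fun i hi j hj h => hI hi hj (inv_injective h)), ← Finset.prod_mul_distrib,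
      show ((-1 : K)) ^ e = ∏ _i ∈ Finset.range e, (-1 : K) by rw [Finset.prod_const, Finset.card_range],
      ← Finset.prod_pow, ← Finset.prod_mul_distrib]
    refine Finset.prod_congr rfl fun i _ => ?_
    have hb : a ^ q ^ i ≠ 0 := pow_ne_zero _ ha0
    obtain ⟨j, -, hj⟩ := FiniteField.card F p
    rw [show c ^ q ^ i = a ^ q ^ i - (a ^ q ^ i)⁻¹ by
      rw [show q ^ i = p ^ (j * i : ℕ) by rw [pow_mul, ← hj], sub_pow_char_pow, inv_pow]]
    simp only [map_one, map_neg, ← hq]
    generalize a ^ q ^ i = b at hb ⊢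
    have hbb : b * b⁻¹ = 1 := mul_inv_cancel₀ hb
    linear_combination (b * b⁻¹ - 1) * hbb
  obtain ⟨r, hr⟩ := hsq
  have hr0 : r ≠ 0 := by
    rintro rfl
    rw [mul_zero] at hr
    rw [hr, map_zero] at hprod
    rcases mul_eq_zero.1 hprod.symm with h0 | h0
    · exact pow_ne_zero _ (neg_ne_zero.2 one_ne_zero) h0
    · obtain ⟨i, -, hi⟩ := Finset.prod_eq_zero_iff.1 (pow_eq_zero_iff two_ne_zero |>.1 h0)
      exact pow_ne_zero _ hc0 hi
  obtain ⟨m, hm⟩ := hodd
  have hh : h ^ (2 * m) * c = c ^ q ^ e := by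
    rw [show h = c ^ ∑ i ∈ Finset.range e, q ^ i from Finset.prod_pow_eq_pow_sum _ _ _, ← pow_mul, ← pow_succ]
    congr 1
    have := geom_sum_mul_add (2 * m) e
    rw [show 2 * m + 1 = q from hm.symm] at this
    omega
  have hkey : ((-1 : K)) ^ (e * m + ε) = 1 := by
    have e1 : (algebraMap F K r ^ 2) ^ m = 1 := by
      rw [← pow_mul, ← map_pow, show 2 * m = q - 1 by omega, FiniteField.pow_card_sub_one_eq_one r hr0, map_one]
    rw [sq, ← map_mul, ← hr, hprod, mul_pow, ← pow_mul, ← pow_mul] at e1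
    refine mul_right_cancel₀ hc0 ?_
    calc (-1 : K) ^ (e * m + ε) * c = (-1) ^ (e * m) * ((-1) ^ ε * c) := by rw [pow_add, mul_assoc]
      _ = (-1) ^ (e * m) * (h ^ (2 * m) * c) := by rw [← hεc, hh]
      _ = 1 * c := by rw [← mul_assoc, e1]
  have hev : Even (e * m + ε) := by
    by_contra hne'
    rw [(Nat.not_even_iff_odd.1 hne').neg_one_pow] at hkey
    have : algebraMap F K 2 = 0 := by rw [map_ofNat]; linear_combination -hkey
    exact h2 ((map_eq_zero _).1 this)
  have hco : Nat.Coprime 4 s := by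
    rw [show 4 = 2 ^ 2 by rfl]
    exact Nat.Coprime.pow_left 2 ((Nat.coprime_primes Nat.prime_two hs).2 hs2.symm)
  rcases hε with ⟨rfl, hd⟩ | ⟨rfl, hd⟩
  · exact Or.inl (hco.mul_dvd_of_dvd_of_dvd ((four_dvd_of hm).1
      (by rw [Nat.even_add_one, Nat.not_even_iff_odd] at hev; exact hev)) hd)
  · exact Or.inr (hco.mul_dvd_of_dvd_of_dvd ((four_dvd_of hm).2 hev) hd)

/-- `PSp` has an element of order `2 s` once `4 s ∣ q ^ n ± 1`. -/
theorem cSpec_of_four (h2 : (2 : F) ≠ 0) {n s : ℕ} (hn : 1 ≤ n)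
    (h : 4 * s ∣ Fintype.card F ^ n + 1 ∨ 4 * s ∣ Fintype.card F ^ n - 1) : CSpec F n (2 * s) := by
  obtain ⟨x, hx⟩ := exists_symp_order_of_dvd h2 hn h
  refine cSpec_of_dvd (spToPSp n F x) ?_
  have h1 := orderOf_dvd_two_mul_psp x
  rw [hx, show 4 * s = 2 * (2 * s) by ring] at h1
  exact Nat.dvd_of_mul_dvd_mul_left two_pos h1

section Split

variable {ι : Type} [Fintype ι] [DecidableEq ι] {κ : Type} [Fintype κ] [DecidableEq κ]

omit [Fintype F] p [Fact p.Prime] [CharP F p] in
theorem isometry_sumQ_blocks {Q : QuadraticForm F (ι → F)} {R : QuadraticForm F (κ → F)}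
    {g : isometryGroup F ⇑(sumQ Q R)} {A : Matrix ι ι F} {D : Matrix κ κ F}
    (h : ogVal g = Matrix.fromBlocks A 0 0 D) (v : ι → F) : Q (A *ᵥ v) = Q v := by
  have h1 := ogVal_quad g (Sum.elim v 0)
  rw [h, quad_elim_left, Matrix.fromBlocks_mulVec, Sum.elim_comp_inl, Sum.elim_comp_inr,
    Matrix.mulVec_zero, Matrix.mulVec_zero, Matrix.zero_mulVec, add_zero, add_zero, quad_elim_left] at h1
  exact h1

end Split

/-- An orthogonal decomposition along the fixed space of an element of order `s`. -/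
theorem exists_split (h2 : (2 : F) ≠ 0) {ι : Type} [Fintype ι] [DecidableEq ι] {Q : QuadraticForm F (ι → F)}
    (hQ : (QuadraticMap.polarBilin Q).Nondegenerate) (z : isometryGroup F ⇑Q) {s : ℕ} (hsF : (s : F) ≠ 0)
    (hzs : z ^ s = 1) :
    ∃ (a k : ℕ) (R : QuadraticForm F (Fin a → F)) (S : QuadraticForm F (Fin k → F))
      (φ : isometryGroup F ⇑Q ≃* isometryGroup F ⇑(sumQ R S)) (gw : isometryGroup F ⇑R),
      (QuadraticMap.polarBilin R).Nondegenerate ∧ (QuadraticMap.polarBilin S).Nondegenerate ∧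
      a + k = Fintype.card ι ∧ (∀ g, (ogVal (φ g)).det = (ogVal g).det) ∧ φ z = embL R S gw ∧
      ((1 - ogVal z).det = 0 → 1 ≤ k) ∧ (1 - ogVal gw).det ≠ 0 := by
  classical
  set Z := ogVal z
  have hZs : Z ^ s = 1 := by rw [← ogVal_pow, hzs, ogVal_one]
  set L : Module.End F (ι → F) := Matrix.toLinAlgEquiv' (Z - 1)
  have hL : ∀ v, L v = Z *ᵥ v - v := fun v => by
    simp [L, Matrix.toLinAlgEquiv'_apply, Matrix.sub_mulVec]
  have hsq : ∀ v, L (L v) = 0 → L v = 0 := fun v hv => by
    have h := Cfsg.Agent.SemisimpleFormConjugacy.killed_of_sq (g := Matrix.toLinAlgEquiv' Z) hsF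
      (by rw [← map_pow, hZs, map_one]) (Polynomial.X - Polynomial.C 1) (x := v)
    have e : Polynomial.aeval (Matrix.toLinAlgEquiv' Z) (Polynomial.X - Polynomial.C (1 : F)) = L := by
      simp [L]
    rw [e] at h
    exact h hv
  have hdis : Disjoint (LinearMap.range L) (LinearMap.ker L) := by
    refine Submodule.disjoint_def.2 fun v hv hv' => ?_
    obtain ⟨w, rfl⟩ := hv
    exact hsq w (LinearMap.mem_ker.1 hv')
  have hcomp : IsCompl (LinearMap.range L) (LinearMap.ker L) := by
    refine ⟨hdis, codisjoint_iff.2 (Submodule.eq_top_of_disjoint _ _ ?_ hdis)⟩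
    rw [LinearMap.finrank_range_add_finrank_ker]
  have hfix : ∀ f ∈ LinearMap.ker L, Z *ᵥ f = f := fun f hf =>
    sub_eq_zero.1 (by rw [← hL]; exact LinearMap.mem_ker.1 hf)
  have horth : ∀ w ∈ LinearMap.range L, ∀ f ∈ LinearMap.ker L, QuadraticMap.polar ⇑Q w f = 0 := by
    rintro _ ⟨x, rfl⟩ f hf
    rw [hL, QuadraticMap.polar_sub_left]
    nth_rewrite 1 [← hfix f hf]
    rw [isometry_polar (ogVal_quad z), sub_self]
  set a := Module.finrank F (LinearMap.range L)
  set k := Module.finrank F (LinearMap.ker L)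
  let iW : (Fin a → F) ≃ₗ[F] LinearMap.range L := (Module.finBasis F (LinearMap.range L)).equivFun.symm
  let iK : (Fin k → F) ≃ₗ[F] LinearMap.ker L := (Module.finBasis F (LinearMap.ker L)).equivFun.symm
  set R : QuadraticForm F (Fin a → F) := Q.comp ((LinearMap.range L).subtype ∘ₗ iW.toLinearMap)
  set S : QuadraticForm F (Fin k → F) := Q.comp ((LinearMap.ker L).subtype ∘ₗ iK.toLinearMap)
  let e : (Fin a ⊕ Fin k → F) ≃ₗ[F] (ι → F) :=
    (LinearEquiv.sumArrowLequivProdArrow (Fin a) (Fin k) F F) ≪≫ₗ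
      (iW.prodCongr iK ≪≫ₗ Submodule.prodEquivOfIsCompl _ _ hcomp)
  have he : ∀ x, e x = (iW (x ∘ Sum.inl) : ι → F) + (iK (x ∘ Sum.inr) : ι → F) := fun x => rfl
  have hquad : ∀ x, Q (e x) = sumQ R S x := fun x => by
    rw [he, QuadraticMap.map_add (⇑Q), horth _ (iW _).2 _ (iK _).2, add_zero, sumQ_apply]
    rfl
  let D : IsoData (sumQ R S) Q :=
    { M := LinearMap.toMatrix' e.toLinearMap
      N := LinearMap.toMatrix' e.symm.toLinearMap
      MN := by rw [← LinearMap.toMatrix'_comp, LinearEquiv.comp_coe, LinearEquiv.symm_trans_self]; exact LinearMap.toMatrix'_id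
      NM := by rw [← LinearMap.toMatrix'_comp, LinearEquiv.comp_coe, LinearEquiv.self_trans_symm]; exact LinearMap.toMatrix'_id
      quad := fun v => by rw [LinearMap.toMatrix'_mulVec]; exact hquad v }
  have hDe : ∀ x, D.M *ᵥ x = e x := fun x => LinearMap.toMatrix'_mulVec _ _
  have hsum : (QuadraticMap.polarBilin (sumQ R S)).Nondegenerate := by
    refine nondegenerate_of_separatingLeft _ fun x hx => ?_
    apply e.injective
    rw [map_zero]
    refine eq_zero_of_polar hQ fun w => ?_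
    obtain ⟨y, rfl⟩ := e.surjective w
    have h := hx y
    rw [QuadraticMap.polarBilin_apply_apply] at h
    simpa only [QuadraticMap.polar, ← map_add, hquad] using h
  have hR : (QuadraticMap.polarBilin R).Nondegenerate := by
    refine nondegenerate_of_separatingLeft _ fun v hv => ?_
    have h : (Sum.elim v 0 : Fin a ⊕ Fin k → F) = 0 := eq_zero_of_polar hsum fun w => by
      rw [polar_sumQ, Sum.elim_comp_inl, Sum.elim_comp_inr, QuadraticMap.polar_zero_left, add_zero]
      exact hv _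
    funext i; exact congrFun h (.inl i)
  have hS : (QuadraticMap.polarBilin S).Nondegenerate := by
    refine nondegenerate_of_separatingLeft _ fun v hv => ?_
    have h : (Sum.elim 0 v : Fin a ⊕ Fin k → F) = 0 := eq_zero_of_polar hsum fun w => by
      rw [polar_sumQ, Sum.elim_comp_inl, Sum.elim_comp_inr, QuadraticMap.polar_zero_left, zero_add]
      exact hv _
    funext i; exact congrFun h (.inr i)
  -- the block form
  set z' := D.og.symm z
  have hz' : ∀ x, D.M *ᵥ (ogVal z' *ᵥ x) = Z *ᵥ (D.M *ᵥ x) := fun x => by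
    have h := D.gl_apply (z' : GL (Fin a ⊕ Fin k) F) x
    rw [show (D.gl (z' : GL (Fin a ⊕ Fin k) F)) = (z : GL ι F) from
      congrArg Subtype.val (D.og.apply_symm_apply z)] at h
    exact h.symm
  have hz : ∀ x, e (ogVal z' *ᵥ x) = Z *ᵥ e x := fun x => by rw [← hDe, ← hDe, hz']
  have hWK : ∀ x, (x ∘ Sum.inl = 0 → Z *ᵥ e x = e x) ∧ (x ∘ Sum.inr = 0 → Z *ᵥ e x ∈ LinearMap.range L) := by
    refine fun x => ⟨fun h => hfix _ ?_, fun h => ?_⟩
    · rw [he, h, map_zero, Submodule.coe_zero, zero_add]; exact (iK _).2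
    · rw [show e x = (iW (x ∘ Sum.inl) : ι → F) by rw [he, h, map_zero, Submodule.coe_zero, add_zero]]
      obtain ⟨w, hw⟩ := (iW (x ∘ Sum.inl)).2
      exact ⟨Z *ᵥ w, by rw [← hw, hL, hL, Matrix.mulVec_sub]⟩
  set G := ogVal z'
  have hinr : ∀ v, (G *ᵥ Sum.elim v 0) ∘ Sum.inr = 0 := fun v => by
    have hm := (hWK (Sum.elim v 0)).2 (Sum.elim_comp_inr _ _)
    rw [← hz, he] at hm
    have h1 : (iK ((G *ᵥ Sum.elim v 0) ∘ Sum.inr) : ι → F) ∈ LinearMap.range L :=
      (Submodule.add_mem_iff_right _ (iW _).2).1 hm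
    exact iK.map_eq_zero_iff.1 (Subtype.ext (Submodule.disjoint_def.1 hdis _ h1 (iK _).2))
  have hfixr : ∀ v : Fin k → F, G *ᵥ Sum.elim (0 : Fin a → F) v = Sum.elim (0 : Fin a → F) v := fun v => e.injective (by
    rw [hz, (hWK _).1 (Sum.elim_comp_inl _ _)])
  have hblk : G = Matrix.fromBlocks G.toBlocks₁₁ 0 0 1 := by
    nth_rewrite 1 [← Matrix.fromBlocks_toBlocks G]
    rw [Matrix.fromBlocks_inj]
    refine ⟨rfl, Matrix.ext_iff_mulVec.2 fun v => ?_, Matrix.ext_iff_mulVec.2 fun v => ?_,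
      Matrix.ext_iff_mulVec.2 fun v => ?_⟩
    · have h := congrArg (fun w => w ∘ Sum.inl) (hfixr v)
      rw [← Matrix.fromBlocks_toBlocks G, Matrix.fromBlocks_mulVec] at h
      simpa using h
    · have h := hinr v
      rw [← Matrix.fromBlocks_toBlocks G, Matrix.fromBlocks_mulVec] at h
      simpa using h
    · have h := congrArg (fun w => w ∘ Sum.inr) (hfixr v)
      rw [← Matrix.fromBlocks_toBlocks G, Matrix.fromBlocks_mulVec] at h
      simpa using h
  have hdetz : (ogVal z').det = Z.det := by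
    rw [← Matrix.det_conj_of_mul_eq_one D.MN D.NM (N := ogVal z')]
    exact congrArg Matrix.det (congrArg (fun g : isometryGroup F ⇑Q => ogVal g) (D.og.apply_symm_apply z))
  let gw : isometryGroup F ⇑R := mkIsometry G.toBlocks₁₁ (fun h => by
    have h1 := congrArg Matrix.det hblk
    rw [Matrix.det_fromBlocks_zero₁₂, Matrix.det_one, mul_one, h] at h1
    exact Units.ne_zero (Matrix.GeneralLinearGroup.det (z' : GL (Fin a ⊕ Fin k) F)) h1)
    (isometry_sumQ_blocks hblk)
  refine ⟨a, k, R, S, D.og.symm, gw, hR, hS, ?_, fun g => ?_, ogVal_ext hblk, fun h0 => ?_, fun h0 => ?_⟩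
  · rw [LinearMap.finrank_range_add_finrank_ker, Module.finrank_pi]
  · obtain ⟨g, rfl⟩ := D.og.surjective g
    rw [MulEquiv.symm_apply_apply]
    exact (Matrix.det_conj_of_mul_eq_one D.MN D.NM).symm
  · obtain ⟨v, hv, hv0⟩ := Matrix.exists_mulVec_eq_zero_iff.2 h0
    rw [Matrix.sub_mulVec, Matrix.one_mulVec, sub_eq_zero] at hv0
    exact Nat.one_le_iff_ne_zero.2 fun hk => hv (by
      have hm : v ∈ LinearMap.ker L := LinearMap.mem_ker.2 (by rw [hL, ← hv0, sub_self])
      rw [Submodule.finrank_eq_zero.1 hk] at hm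
      exact (Submodule.mem_bot F).1 hm)
  · obtain ⟨v, hv, hv0⟩ := Matrix.exists_mulVec_eq_zero_iff.2 h0
    rw [Matrix.sub_mulVec, Matrix.one_mulVec, sub_eq_zero] at hv0
    change v = G.toBlocks₁₁ *ᵥ v at hv0
    have h1 : G *ᵥ Sum.elim v 0 = Sum.elim v 0 := by
      rw [hblk, Matrix.fromBlocks_mulVec]; simp [← hv0]
    have h2 : (iW v : ι → F) ∈ LinearMap.ker L := LinearMap.mem_ker.2 (by
      have h3 := hz (Sum.elim v 0)
      rw [h1, he, Sum.elim_comp_inl, Sum.elim_comp_inr, map_zero, Submodule.coe_zero, add_zero] at h3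
      rw [hL, ← h3, sub_self])
    exact hv (iW.map_eq_zero_iff.1 (Subtype.ext (Submodule.disjoint_def.1 hdis _ (iW v).2 h2)))

/-- From `PΩ` to `PSp` when no smaller `e` fits. -/
theorem two_c_of_b (h2 : (2 : F) ≠ 0) (hodd : Odd (Fintype.card F)) {n : ℕ} (h3 : 3 ≤ n) {s : ℕ} (hs : s.Prime)
    (hs2 : s ≠ 2) (hsp : s ≠ p) (hfull : ∀ e, 1 ≤ e → Fits F s e → n ≤ e) (h : BSpec F n (2 * s)) :
    CSpec F n (2 * s) := by
  classical
  obtain ⟨y, hy⟩ := h
  obtain ⟨g, hgm, hg⟩ := of_pomega hodd h3 y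
  rw [hy] at hg
  have hQ := nondegenerate_qfOdd (F := F) n h2
  haveI : Finite (isometryGroup F ⇑(qfOdd n F)) := inferInstance
  have hzo : orderOf (g ^ 2) = s := by
    rw [orderOf_pow_of_dvd two_ne_zero (hg ▸ dvd_mul_right 2 s), hg, Nat.mul_div_cancel_left _ two_pos]
  have hto : orderOf (g ^ s) = 2 := by
    rw [orderOf_pow_of_dvd hs.ne_zero (hg ▸ dvd_mul_left s 2), hg, Nat.mul_div_cancel _ hs.pos]
  have hsF : (s : F) ≠ 0 := fun h => hsp (((Nat.prime_dvd_prime_iff_eq (Fact.out) hs).1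
    ((CharP.cast_eq_zero_iff F p s).1 h))).symm
  obtain ⟨a, k, R, S, φ, gw, hR, hS, hak, hdet, hφz, hk1, hgw1⟩ :=
    exists_split h2 hQ (g ^ 2) hsF (hzo ▸ pow_orderOf_eq_one _)
  rw [card_model] at hak
  set G := ogVal gw
  have hGs : G ^ s = 1 := by
    rw [← ogVal_pow, show gw ^ s = 1 from embL_injective (by
      rw [map_pow, ← hφz, ← map_pow, ← hzo, pow_orderOf_eq_one, map_one, map_one]), ogVal_one]
  have hGne : G ≠ 1 := fun h => by
    have h1 : g ^ 2 = 1 := φ.injective (by rw [hφz, show gw = 1 from ogVal_ext (h.trans ogVal_one.symm), map_one, map_one])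
    rw [h1, orderOf_one] at hzo
    exact hs.one_lt.ne hzo
  obtain ⟨hMR, hMG⟩ := gram_facts hR
  set M := gram R
  obtain ⟨e, he, hf, hea⟩ := exists_fits_le p hMR (hMG gw) hs hs2 hsp hGs hGne
  rw [Fintype.card_fin] at hea
  have hen := hfull e he hf
  have hk : 1 ≤ k := hk1 (by
    have hz0 := det_of_mem_omega h2 hQ (pow_mem hgm 2)
    obtain ⟨hM0, hMG0⟩ := gram_facts hQ
    set M0 := gram (qfOdd n F)
    set Z := ogVal (g ^ 2)
    have e1 : Zᵀ * M0 * (1 - Z) = -((1 - Z)ᵀ * M0) := by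
      rw [Matrix.mul_sub, hMG0, Matrix.mul_one, Matrix.transpose_sub, Matrix.transpose_one, Matrix.sub_mul,
        Matrix.one_mul, neg_sub]
    have e2 := congrArg Matrix.det e1
    rw [Matrix.det_mul, Matrix.det_mul, Matrix.det_transpose, hz0, one_mul, Matrix.det_neg, card_model, pow_succ,
      pow_mul, neg_one_sq, one_pow, one_mul, Matrix.det_mul, Matrix.det_transpose] at e2
    have e3 : (2 * M0.det) * (1 - Z).det = 0 := by linear_combination e2
    exact (mul_eq_zero.1 e3).resolve_left (mul_ne_zero h2 hM0))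
  obtain rfl : k = 1 := by omega
  obtain rfl : a = 2 * n := by omega
  -- the commuting involution
  set t := φ (g ^ s)
  set T := ogVal t
  have htc : Commute t (embL R S gw) := hφz ▸ ((Commute.refl g).pow_pow s 2).map φ
  have hT2 : T * T = 1 := by
    rw [← ogVal_mul, ← sq, ← map_pow,
      show (g ^ s) ^ 2 = 1 from orderOf_dvd_iff_pow_eq_one.1 hto.dvd, map_one, ogVal_one]
  have htO : t ∈ Omega F ⇑(sumQ R S) := omega_map_le φ.toMonoidHom (pow_mem hgm s)
  have hTne : T ≠ 1 := fun h => by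
    rw [show g ^ s = 1 from φ.injective ((ogVal_ext (h.trans ogVal_one.symm) : t = 1).trans (map_one φ).symm),
      orderOf_one] at hto
    exact absurd hto (by decide)
  set A := T.toBlocks₁₁
  set D := T.toBlocks₂₂
  have hu : IsUnit (1 - G) := (Matrix.isUnit_iff_isUnit_det _).2 (Ne.isUnit hgw1)
  have hcomm := congrArg ogVal htc.eq
  rw [ogVal_mul, ogVal_mul, embL_val, show ogVal t = T from rfl, ← Matrix.fromBlocks_toBlocks T,
    Matrix.fromBlocks_multiply, Matrix.fromBlocks_multiply, Matrix.fromBlocks_inj] at hcomm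
  simp only [Matrix.mul_zero, Matrix.zero_mul, add_zero, zero_add, Matrix.mul_one, Matrix.one_mul] at hcomm
  obtain ⟨hAG, hB, hC, -⟩ := hcomm
  have hud : IsUnit (1 - G).det := Ne.isUnit hgw1
  have hB0 : T.toBlocks₁₂ = 0 := by
    have h : (1 - G) * T.toBlocks₁₂ = 0 := by rw [Matrix.sub_mul, Matrix.one_mul, ← hB, sub_self]
    rw [← Matrix.one_mul T.toBlocks₁₂, ← Matrix.nonsing_inv_mul _ hud, Matrix.mul_assoc, h, Matrix.mul_zero]
  have hC0 : T.toBlocks₂₁ = 0 := by
    have h : T.toBlocks₂₁ * (1 - G) = 0 := by rw [Matrix.mul_sub, Matrix.mul_one, hC, sub_self]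
    rw [← Matrix.mul_one T.toBlocks₂₁, ← Matrix.mul_nonsing_inv _ hud, ← Matrix.mul_assoc, h, Matrix.zero_mul]
  have hTb : T = Matrix.fromBlocks A 0 0 D := by
    rw [← hB0, ← hC0]; exact (Matrix.fromBlocks_toBlocks T).symm
  have hA2 : A * A = 1 := by
    have h := hT2
    rw [hTb, Matrix.fromBlocks_multiply, ← Matrix.fromBlocks_one, Matrix.fromBlocks_inj] at h
    simpa using h.1
  have hAd : A.det ≠ 0 := fun h => by
    have := congrArg Matrix.det hA2
    rw [Matrix.det_mul, h, mul_zero, Matrix.det_one] at this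
    exact zero_ne_one this
  let ta : isometryGroup F ⇑R := mkIsometry A hAd (isometry_sumQ_blocks hTb)
  -- `A` is `-1`
  have hMs : Mᵀ = M := by
    ext i j
    simp [M, gram, LinearMap.BilinForm.toMatrix'_apply, QuadraticMap.polar_comm]
  have hTdet : A.det * D.det = 1 := by
    rw [← Matrix.det_fromBlocks_zero₁₂ A 0 D, ← hTb]
    exact det_of_mem_omega h2 (nondegenerate_sumQ hR hS) htO
  have hD1 : A.det = 1 → D = 1 := fun h => by
    rw [h, one_mul, Matrix.det_fin_one] at hTdet
    ext i j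
    rw [Subsingleton.elim i 0, Subsingleton.elim j 0, hTdet, Matrix.one_apply_eq]
  have hAne : A ≠ 1 := fun h => hTne (by rw [hTb, hD1 (by rw [h, Matrix.det_one]), h, Matrix.fromBlocks_one])
  have hA : A = -1 := by
    set P := (2 : F)⁻¹ • (1 + A)
    have hPP : P * P = P := by
      rw [Matrix.smul_mul, Matrix.mul_smul, smul_smul, Matrix.mul_add, Matrix.add_mul, Matrix.add_mul, hA2,
        Matrix.mul_one, Matrix.one_mul]
      simp only [Matrix.mul_one, P]
      match_scalars <;> linear_combination (2 : F)⁻¹ * mul_inv_cancel₀ h2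
    have hPG : P * G = G * P := by
      rw [Matrix.smul_mul, Matrix.mul_smul, Matrix.add_mul, Matrix.mul_add, hAG, Matrix.mul_one, Matrix.one_mul]
    set W := G * P + (1 - P)
    have hWk : ∀ i, W ^ i = G ^ i * P + (1 - P) := fun i => by
      induction i with
      | zero => simp
      | succ i ih =>
        have e1 : P * (G * P) = G * P := by rw [← Matrix.mul_assoc, hPG, Matrix.mul_assoc, hPP]
        have e2 : (1 - P) * (G * P) = 0 := by rw [Matrix.sub_mul, Matrix.one_mul, e1, sub_self]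
        have e3 : P * (1 - P) = 0 := by rw [Matrix.mul_sub, Matrix.mul_one, hPP, sub_self]
        have e4 : (1 - P) * (1 - P) = 1 - P := by rw [Matrix.sub_mul, Matrix.one_mul, e3, sub_zero]
        rw [pow_succ, ih, Matrix.mul_add, Matrix.add_mul, Matrix.add_mul, Matrix.mul_assoc (G ^ i) P,
          e1, e2, Matrix.mul_assoc (G ^ i) P, e3, e4, Matrix.mul_zero, add_zero, zero_add, ← Matrix.mul_assoc,
          ← pow_succ]
    have hWs : W ^ s = 1 := by rw [hWk, hGs, Matrix.one_mul, add_sub_cancel]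
    have hAM : Aᵀ * M = M * A := by
      calc Aᵀ * M = Aᵀ * M * (A * A) := by rw [hA2, Matrix.mul_one]
        _ = _ := by rw [← Matrix.mul_assoc]; exact congrArg (· * A) (hMG ta)
    have hPM : Pᵀ * M = M * P := by
      rw [Matrix.transpose_smul, Matrix.smul_mul, Matrix.mul_smul, Matrix.transpose_add, Matrix.transpose_one,
        Matrix.add_mul, Matrix.mul_add, hAM, Matrix.mul_one, Matrix.one_mul]
    have hWM : Wᵀ * M * W = M := by
      have h1 : Gᵀ * M * G = M := hMG gw
      calc Wᵀ * M * W = Pᵀ * (Gᵀ * M * G) * P + Pᵀ * Gᵀ * M * (1 - P) + (1 - Pᵀ) * M * G * P +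
            (1 - Pᵀ) * M * (1 - P) := by
            simp only [W, Matrix.transpose_add, Matrix.transpose_mul, Matrix.transpose_sub,
              Matrix.transpose_one]
            noncomm_ring
        _ = _ := by
          have h2 : (1 - Pᵀ) * M * G * P = 0 := by
            rw [Matrix.sub_mul, Matrix.one_mul, hPM, Matrix.sub_mul, Matrix.sub_mul, Matrix.mul_assoc M P G,
              hPG, ← Matrix.mul_assoc M, Matrix.mul_assoc (M * G) P P, hPP, sub_self]
          have h3 : Pᵀ * Gᵀ * M * (1 - P) = 0 := by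
            have h := congrArg Matrix.transpose h2
            rw [Matrix.transpose_mul, Matrix.transpose_mul, Matrix.transpose_mul, Matrix.transpose_zero, hMs,
              Matrix.transpose_sub, Matrix.transpose_one, Matrix.transpose_transpose, ← Matrix.mul_assoc,
              ← Matrix.mul_assoc] at h
            exact h
          rw [h1, h2, h3, hPM, Matrix.mul_assoc M P P, hPP, add_zero, add_zero]
          simp only [Matrix.sub_mul, Matrix.mul_sub, Matrix.one_mul, Matrix.mul_one, hPM]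
          rw [Matrix.mul_assoc M P P, hPP]
          abel
    have hW : W = 1 := by
      by_contra hW
      have hd := det_sub_one_ne_zero_of_full p hMR hWM hs hs2 hsp hWs hW (Fintype.card_fin _) hfull
      have e : 1 - W = (1 - G) * P := by
        simp only [W, Matrix.sub_mul, Matrix.one_mul]; abel
      rw [e, Matrix.det_mul] at hd
      have hPu : IsUnit P := (Matrix.isUnit_iff_isUnit_det _).2 (Ne.isUnit (mul_ne_zero_iff.1 hd).2)
      have hP1 : P = 1 := hPu.mul_left_cancel (by rw [hPP, Matrix.mul_one])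
      refine hAne ?_
      have := congrArg (fun X => (2 : F) • X) hP1
      simp only [P, smul_smul, mul_inv_cancel₀ h2, one_smul, two_smul] at this
      exact add_left_cancel this
    have hP0 : P = 0 := by
      refine hu.mul_left_cancel ?_
      rw [Matrix.mul_zero]
      have e : (1 - G) * P = 1 - W := by simp only [W, Matrix.sub_mul, Matrix.one_mul]; abel
      rw [e, hW, sub_self]
    have := congrArg (fun X => (2 : F) • X) hP0
    simp only [P, smul_smul, mul_inv_cancel₀ h2, one_smul, smul_zero] at this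
    exact eq_neg_of_add_eq_zero_right this
  have hAdet : A.det = 1 := by
    rw [hA, Matrix.det_neg, Fintype.card_fin, pow_mul, neg_one_sq, one_pow, one_mul, Matrix.det_one]
  have htt : t = embL R S ta := ogVal_ext (by
    rw [embL_val]; exact hTb.trans (by rw [hD1 hAdet]; rfl))
  have hspin : spin ta = 1 := by
    rw [← spin_embL h2 hR hS, ← htt]
    exact ((mem_omega_gen (nondegenerate_sumQ hR hS) (genQ_odd (nondegenerate_sumQ hR hS) h2) t).1 htO).2
  have hsqM : IsSquare M.det := by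
    have h := (negOne_mem_omega_iff hR (genQ_odd hR h2) h2 (by rw [Fintype.card_fin]; exact even_two_mul n)
      (Pi.basisFun F (Fin (2 * n)))).1 ⟨ta, mem_omega_of_det h2 hR hAdet hspin, hA⟩
    rwa [gramDet, LinearMap.BilinForm.toMatrix_basisFun] at h
  -- the alternating form
  set H := ogVal gw⁻¹
  have hGH : G * H = 1 := by rw [← ogVal_mul, mul_inv_cancel, ogVal_one]
  have hHG : H * G = 1 := by rw [← ogVal_mul, inv_mul_cancel, ogVal_one]
  have hG1 : Gᵀ * M = M * H := by
    calc Gᵀ * M = Gᵀ * M * (G * H) := by rw [hGH, Matrix.mul_one]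
      _ = _ := by rw [← Matrix.mul_assoc, hMG]
  have hH1 : Hᵀ * M = M * G := by
    calc Hᵀ * M = Hᵀ * M * (H * G) := by rw [hHG, Matrix.mul_one]
      _ = _ := by rw [← Matrix.mul_assoc, hMG]
  set K := M * (G - H)
  have hK : Kᵀ = -K := by
    rw [Matrix.transpose_mul, Matrix.transpose_sub, hMs, Matrix.sub_mul, hG1, hH1, ← Matrix.mul_sub,
      ← Matrix.mul_neg, neg_sub]
  have halt : ∀ v, v ⬝ᵥ (K *ᵥ v) = 0 := fun v => by
    have h : v ⬝ᵥ (K *ᵥ v) = -(v ⬝ᵥ (K *ᵥ v)) := by
      conv_lhs => rw [Matrix.dotProduct_mulVec, ← Matrix.mulVec_transpose, hK, Matrix.neg_mulVec,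
        neg_dotProduct, dotProduct_comm]
    have : (2 : F) * (v ⬝ᵥ (K *ᵥ v)) = 0 := by linear_combination h
    exact (mul_eq_zero.1 this).resolve_left h2
  have hGd : G.det = 1 := by
    have h1 : G.det ^ s = 1 := by rw [← Matrix.det_pow, hGs, Matrix.det_one]
    have h := congrArg Matrix.det (hMG gw)
    rw [Matrix.det_mul, Matrix.det_mul, Matrix.det_transpose] at h
    have h2' : G.det ^ 2 = 1 := mul_right_cancel₀ hMR (by linear_combination h)
    obtain ⟨j, hj⟩ := hs.odd_of_ne_two hs2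
    rwa [hj, pow_succ, pow_mul, h2', one_pow, one_mul] at h1
  have hKd : K.det = M.det * ((1 - G).det * (1 + G).det) := by
    have e : G - H = -(H * ((1 - G) * (1 + G))) := by
      have : H * ((1 - G) * (1 + G)) = H - (H * G) * G := by noncomm_ring
      rw [this, hHG, Matrix.one_mul, neg_sub]
    have hHd : H.det = 1 := by
      have := congrArg Matrix.det hHG
      rwa [Matrix.det_mul, hGd, mul_one, Matrix.det_one] at this
    rw [Matrix.det_mul, e, Matrix.det_neg, Fintype.card_fin, pow_mul, neg_one_sq, one_pow, one_mul,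
      Matrix.det_mul, Matrix.det_mul, hHd, one_mul]
  have hne : (1 - G).det * (1 + G).det ≠ 0 :=
    mul_ne_zero hgw1 (det_one_add_ne_zero (hs.odd_of_ne_two hs2) hGs h2)
  obtain ⟨r, hr⟩ := isSquare_det_of_alternating halt (by rw [hKd]; exact mul_ne_zero hMR hne)
  obtain ⟨m, hm⟩ := hsqM
  refine cSpec_of_four h2 (by omega) (four_dvd_of_square p hMR (hMG gw) (Fintype.card_fin _) (by omega) h2
    hodd hs hs2 hsp hGs hGne hfull ⟨r / m, ?_⟩)
  have hm0 : m ≠ 0 := fun h => hMR (by rw [hm, h, mul_zero])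
  rw [hKd, hm] at hr
  field_simp
  linear_combination hr

end Cfsg.Agent.Classical.PrimeGraphBC
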