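import Cfsg.Agent.Lib.Classical.UnitaryConjugacy
import Cfsg.Agent.Lib.Classical.GLSemisimpleClasses

/-! Conjugate-dual polynomials; the centraliser in `GU_n` of an element of order prime to the characteristic
has every determinant of norm one. -/

set_option autoImplicit false

namespace Cfsg.Agent.UnitaryDetCentralizer

open Matrix Polynomial Cfsg.Agent.Classical Cfsg.Agent.UnitaryConjugacy

variable {K : Type*} [Field K]

/-- The conjugate reciprocal of a polynomial, normalised to be monic. -/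
noncomputable def cdual (σ : K →+* K) (P : K[X]) : K[X] := Polynomial.C (σ (P.coeff 0))⁻¹ * (P.map σ).reverse

theorem cdual_mul (σ : K →+* K) (P Q : K[X]) : cdual σ (P * Q) = cdual σ P * cdual σ Q := by
  rw [cdual, cdual, cdual, Polynomial.map_mul, reverse_mul_of_domain, mul_coeff_zero, map_mul σ, mul_inv, C_mul]
  ring

theorem coeff_zero_cdual (σ : K →+* K) (P : K[X]) (hP : P.Monic) :
    (cdual σ P).coeff 0 = (σ (P.coeff 0))⁻¹ := by
  rw [cdual, coeff_C_mul, coeff_zero_reverse, (hP.map σ).leadingCoeff, mul_one]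

theorem natDegree_cdual (σ : K →+* K) {P : K[X]} (h0 : P.coeff 0 ≠ 0) :
    (cdual σ P).natDegree = P.natDegree := by
  have h : (P.map σ).natTrailingDegree = 0 :=
    natTrailingDegree_eq_zero.2 (Or.inr (by rw [coeff_map]; exact (map_ne_zero σ).2 h0))
  rw [cdual, natDegree_C_mul (inv_ne_zero ((map_ne_zero σ).2 h0)), reverse_natDegree, h, natDegree_map,
    Nat.sub_zero]

theorem cdual_monic (σ : K →+* K) {P : K[X]} (h0 : P.coeff 0 ≠ 0) : (cdual σ P).Monic := by
  have h : (P.map σ).natTrailingDegree = 0 :=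
    natTrailingDegree_eq_zero.2 (Or.inr (by rw [coeff_map]; exact (map_ne_zero σ).2 h0))
  rw [Monic.def, cdual, leadingCoeff_mul, leadingCoeff_C, reverse_leadingCoeff, trailingCoeff, h, coeff_map,
    inv_mul_cancel₀ ((map_ne_zero σ).2 h0)]

theorem cdual_cdual (σ : K →+* K) (hσ : ∀ x, σ (σ x) = x) {P : K[X]} (hP : P.Monic) (h0 : P.coeff 0 ≠ 0) :
    cdual σ (cdual σ P) = P := by
  have h : (P.map σ).natTrailingDegree = 0 :=
    natTrailingDegree_eq_zero.2 (Or.inr (by rw [coeff_map]; exact (map_ne_zero σ).2 h0))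
  have hd : (P.map σ).reverse.natDegree = P.natDegree := by
    rw [reverse_natDegree, h, natDegree_map, Nat.sub_zero]
  refine Polynomial.ext fun i => ?_
  rw [cdual, coeff_C_mul, coeff_zero_cdual σ P hP, map_inv₀, hσ, inv_inv, cdual, Polynomial.map_mul, map_C,
    reverse_mul_of_domain, reverse_C, coeff_C_mul, map_inv₀, hσ, ← mul_assoc, mul_inv_cancel₀ h0, one_mul,
    coeff_reverse, natDegree_map, hd, coeff_map, coeff_reverse, natDegree_map, revAt_invol, coeff_map, hσ]

theorem irreducible_cdual (σ : K →+* K) (hσ : ∀ x, σ (σ x) = x) {P : K[X]} (hP : P.Monic)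
    (h0 : P.coeff 0 ≠ 0) (hirr : Irreducible P) : Irreducible (cdual σ P) := by
  have hm := cdual_monic σ h0
  have hd := natDegree_cdual σ h0
  have h0' : (cdual σ P).coeff 0 ≠ 0 := by
    rw [coeff_zero_cdual σ P hP]; exact inv_ne_zero ((map_ne_zero σ).2 h0)
  rw [irreducible_of_monic hm]
  · intro f g hf hg hfg
    have hf0 : f.coeff 0 ≠ 0 := fun h => h0' (by rw [← hfg, mul_coeff_zero, h, zero_mul])
    have hg0 : g.coeff 0 ≠ 0 := fun h => h0' (by rw [← hfg, mul_coeff_zero, h, mul_zero])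
    have h := cdual_cdual σ hσ hP h0
    rw [← hfg, cdual_mul] at h
    rcases (irreducible_of_monic hP hirr.ne_one).1 hirr _ _ (cdual_monic σ hf0) (cdual_monic σ hg0) h with e | e
    · left
      rw [← hf.natDegree_eq_zero, ← natDegree_cdual σ hf0, e, natDegree_one]
    · right
      rw [← hg.natDegree_eq_zero, ← natDegree_cdual σ hg0, e, natDegree_one]
  · intro h
    rw [h, natDegree_one] at hd
    exact hirr.natDegree_pos.ne' hd.symm

variable [Fintype K] {q n : ℕ}

theorem charpoly_st_inv (hK : Fintype.card K = q ^ 2) (A : GL (Fin n) K) :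
    ((st hK (A : Matrix (Fin n) (Fin n) K))⁻¹).charpoly =
      cdual (qFrob hK) (A : Matrix (Fin n) (Fin n) K).charpoly := by
  rw [Matrix.charpoly_inv _ (st_unit hK A.isUnit), ← Matrix.reverse_charpoly, cdual]
  have h1 : (st hK (A : Matrix (Fin n) (Fin n) K)).charpoly =
      (A : Matrix (Fin n) (Fin n) K).charpoly.map (qFrob hK) := by
    rw [st, Matrix.charpoly_transpose, Matrix.charpoly_map]
  have h2 : (st hK (A : Matrix (Fin n) (Fin n) K)).det =
      (-1) ^ n * qFrob hK ((A : Matrix (Fin n) (Fin n) K).charpoly.coeff 0) := by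
    rw [Matrix.det_eq_sign_charpoly_coeff, h1, Fintype.card_fin, coeff_map]
  rw [h1, h2, Ring.inverse_eq_inv', mul_inv, Fintype.card_fin, C_mul]
  have hs : ((-1 : K) ^ n)⁻¹ = (-1) ^ n := by rw [← inv_pow, inv_neg_one]
  rw [hs, map_pow, map_neg, map_one, ← mul_assoc ((-1 : K[X]) ^ n), ← mul_pow, neg_one_mul, neg_neg, one_pow, one_mul]

theorem cdual_charpoly_of_mem (hK : Fintype.card K = q ^ 2) (h : GU n K q) :
    cdual (qFrob hK) ((h : GL (Fin n) K) : Matrix (Fin n) (Fin n) K).charpoly =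
      ((h : GL (Fin n) K) : Matrix (Fin n) (Fin n) K).charpoly := by
  rw [← charpoly_st_inv hK, Matrix.inv_eq_right_inv ((mem_GU_iff hK _).1 h.2)]

variable {p : ℕ} [Fact p.Prime] [CharP K p]

theorem cast_ne_zero_iff (k : ℕ) : (k : K) ≠ 0 ↔ k.Coprime p := by
  rw [ne_eq, CharP.cast_eq_zero_iff K p, Nat.coprime_comm, (Fact.out : p.Prime).coprime_iff_not_dvd]

theorem orderOf_st_inv (hK : Fintype.card K = q ^ 2) (A : GL (Fin n) K) (B : GL (Fin n) K)
    (hB : (B : Matrix (Fin n) (Fin n) K) = (st hK (A : Matrix (Fin n) (Fin n) K))⁻¹) :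
    B ^ orderOf A = 1 := by
  refine Units.ext ?_
  have h : ∀ k : ℕ, st hK ((A : Matrix (Fin n) (Fin n) K) ^ k) = st hK (A : Matrix (Fin n) (Fin n) K) ^ k := by
    intro k
    induction k with
    | zero => rw [pow_zero, pow_zero, st_one]
    | succ k ih => rw [pow_succ, st_mul, ih, pow_succ']
  rw [Units.val_pow_eq_pow_val, hB, Matrix.inv_pow', ← h, ← Units.val_pow_eq_pow_val, pow_orderOf_eq_one,
    Units.val_one, st_one, inv_one]

/-- A self-dual polynomial is the characteristic polynomial of a semisimple element of `GU_n`. -/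
theorem exists_mem_charpoly (hK : Fintype.card K = q ^ 2) {P : K[X]} (hP : P.Monic) (hd : P.natDegree = n)
    (h0 : P.coeff 0 ≠ 0) (hself : cdual (qFrob hK) P = P) :
    ∃ u : GU n K q, (orderOf u).Coprime p ∧ ((u : GL (Fin n) K) : Matrix (Fin n) (Fin n) K).charpoly = P := by
  classical
  obtain ⟨g, M, hM, hgM, hgP⟩ := Cfsg.Agent.Lie.Semisimple.exists_semisimple n P hP hd h0
  have hMp : M ≠ 0 := fun h => hM (by rw [h, Nat.cast_zero])
  set A := Units.ofPowEqOne (LinearMap.toMatrixAlgEquiv' g) M (by rw [← map_pow, hgM, map_one]) hMp with hA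
  have hAP : (A : Matrix (Fin n) (Fin n) K).charpoly = P := by
    rw [hA, Units.val_ofPowEqOne, ← GLSemisimpleClasses.charpoly_toLin', Matrix.toLinAlgEquiv'_toMatrixAlgEquiv', hgP]
  have hAM : A ^ M = 1 := Units.ext (by
    rw [Units.val_pow_eq_pow_val, hA, Units.val_ofPowEqOne, ← map_pow, hgM, map_one, Units.val_one])
  have hAc : ((orderOf A : ℕ) : K) ≠ 0 := fun h => hM (by
    obtain ⟨c, hc⟩ := orderOf_dvd_of_pow_eq_one hAM
    rw [hc, Nat.cast_mul, h, zero_mul])
  obtain ⟨B, hB⟩ : ∃ B : GL (Fin n) K, (B : Matrix (Fin n) (Fin n) K) = (st hK (A : Matrix (Fin n) (Fin n) K))⁻¹ :=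
    (Matrix.isUnit_nonsing_inv_iff.2 (st_unit hK A.isUnit))
  have hBc : ((orderOf B : ℕ) : K) ≠ 0 := fun h => hAc (by
    obtain ⟨c, hc⟩ := orderOf_dvd_of_pow_eq_one (orderOf_st_inv hK A B hB)
    rw [hc, Nat.cast_mul, h, zero_mul])
  have hAB := GLSemisimpleClasses.isConj_of_charpoly_eq hAc hBc (by rw [hB, charpoly_st_inv hK, hAP, hself])
  obtain ⟨H, hH⟩ := isConj_iff.1 hAB
  obtain ⟨u, hu⟩ := exists_similar_mem hK A H (by
    have e : (H : Matrix (Fin n) (Fin n) K) * A = B * H := by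
      rw [← Units.val_mul, ← Units.val_mul, ← hH, inv_mul_cancel_right]
    rw [mul_assoc, e, hB, ← mul_assoc, Matrix.mul_nonsing_inv _
      ((Matrix.isUnit_iff_isUnit_det _).1 (st_unit hK A.isUnit)), one_mul])
  refine ⟨u, ?_, ?_⟩
  · rw [← cast_ne_zero_iff (K := K), ← Subgroup.orderOf_coe]
    obtain ⟨c, hc⟩ := isConj_iff.1 hu
    rw [← hc, ← MulAut.conj_apply, MulEquiv.orderOf_eq]
    exact hAc
  · obtain ⟨c, hc⟩ := isConj_iff.1 hu
    rw [← hc, Units.val_mul, Units.val_mul, Matrix.coe_units_inv, Matrix.charpoly_units_conj, hAP]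

/-- Block diagonal matrices. -/
def blk {a b : ℕ} (A : Matrix (Fin a) (Fin a) K) (B : Matrix (Fin b) (Fin b) K) :
    Matrix (Fin (a + b)) (Fin (a + b)) K :=
  Matrix.reindex finSumFinEquiv finSumFinEquiv (Matrix.fromBlocks A 0 0 B)

omit [Fintype K] in
theorem blk_mul {a b : ℕ} (A A' : Matrix (Fin a) (Fin a) K) (B B' : Matrix (Fin b) (Fin b) K) :
    blk A B * blk A' B' = blk (A * A') (B * B') := by
  rw [blk, blk, blk, Matrix.reindex_apply, Matrix.reindex_apply, Matrix.reindex_apply, Matrix.submatrix_mul_equiv,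
    Matrix.fromBlocks_multiply]
  simp only [Matrix.mul_zero, Matrix.zero_mul, add_zero, zero_add]

omit [Fintype K] in
theorem blk_one {a b : ℕ} : blk (1 : Matrix (Fin a) (Fin a) K) (1 : Matrix (Fin b) (Fin b) K) = 1 := by
  rw [blk, Matrix.fromBlocks_one, Matrix.reindex_apply, Matrix.submatrix_one_equiv]

theorem blk_st (hK : Fintype.card K = q ^ 2) {a b : ℕ} (A : Matrix (Fin a) (Fin a) K)
    (B : Matrix (Fin b) (Fin b) K) : st hK (blk A B) = blk (st hK A) (st hK B) := by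
  rw [st, blk, blk, Matrix.reindex_apply, Matrix.reindex_apply, ← Matrix.submatrix_map, Matrix.transpose_submatrix,
    Matrix.fromBlocks_map, Matrix.fromBlocks_transpose]
  simp [st, Matrix.map_zero _ (map_zero _)]

/-- A polynomial in a semisimple matrix with prescribed determinant. -/
theorem exists_aeval_det {a : ℕ} (u : GL (Fin a) K) (hu : (orderOf u).Coprime p) {f r : K[X]} (hf : f.Monic)
    (hirr : Irreducible f) (hcp : IsCoprime f r) (hur : (u : Matrix (Fin a) (Fin a) K).charpoly = f * r)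
    (e : K) (he : e ≠ 0) : ∃ P : K[X], (aeval (u : Matrix (Fin a) (Fin a) K) P).det = e := by
  classical
  set g := Matrix.toLinAlgEquiv' (u : Matrix (Fin a) (Fin a) K)
  obtain ⟨a', E, g', -, -, hcg, hE⟩ := Cfsg.Agent.Lie.Semisimple.exists_split g
    ((cast_ne_zero_iff _).2 hu) (GLSemisimpleClasses.toLin'_pow_eq_one (pow_orderOf_eq_one u)) hf hirr
    (by rw [GLSemisimpleClasses.charpoly_toLin', hur]; exact dvd_mul_right f r)
  have hg' : g'.charpoly = r := by
    rw [GLSemisimpleClasses.charpoly_toLin', hur] at hcg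
    exact (mul_left_cancel₀ hf.ne_zero hcg).symm
  haveI := Fact.mk hirr
  haveI : Module.Finite K (AdjoinRoot f) := (AdjoinRoot.powerBasis hf.ne_zero).finite
  haveI : Finite (AdjoinRoot f) := Module.finite_of_finite K
  obtain ⟨z, hz⟩ := FiniteField.norm_surjective K (AdjoinRoot f) e
  obtain ⟨Z, hZ⟩ := AdjoinRoot.mk_surjective z
  obtain ⟨s, t, hst⟩ := hcp
  refine ⟨Z * (t * r) + s * f, ?_⟩
  set P := Z * (t * r) + s * f
  have h1 : aeval (AdjoinRoot.root f) P = z := by
    rw [AdjoinRoot.aeval_eq, ← hZ, eq_comm, AdjoinRoot.mk_eq_mk]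
    exact ⟨(Z - 1) * s, by linear_combination -(Z : K[X]) * hst⟩
  have h2 : aeval g' P = 1 := by
    have h0 : aeval g' r = 0 := hg' ▸ LinearMap.aeval_self_charpoly g'
    have : P = 1 + ((Z - 1) * t) * r := by linear_combination hst
    rw [this, map_add, map_one, map_mul, h0, mul_zero, add_zero]
  have hmon : ∀ (Q : K[X]) (x : AdjoinRoot f × (Fin a' → K)),
      aeval g Q (E x) = E (aeval (AdjoinRoot.root f) Q * x.1, aeval g' Q x.2) := by
    intro Q
    induction Q using Polynomial.induction_on' with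
    | add Q Q' h h' =>
      intro x
      rw [map_add, map_add, map_add, LinearMap.add_apply, LinearMap.add_apply, h, h', ← map_add, Prod.mk_add_mk,
        add_mul]
    | monomial k c =>
      intro x
      have hk : ∀ (k : ℕ) x, (g ^ k) (E x) = E (AdjoinRoot.root f ^ k * x.1, (g' ^ k) x.2) := fun k => by
        induction k with
        | zero => simp
        | succ k ih =>
          intro x
          rw [pow_succ', Module.End.mul_apply, ih, hE, pow_succ', pow_succ', Module.End.mul_apply, mul_assoc]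
      rw [aeval_monomial, aeval_monomial, aeval_monomial, Module.End.mul_apply, Module.End.mul_apply,
        Module.algebraMap_end_apply, Module.algebraMap_end_apply, hk, ← map_smul, Prod.smul_mk, Algebra.smul_def,
        mul_assoc]
  have hconj : aeval g P = E.conj ((LinearMap.mulLeft K z).prodMap LinearMap.id) := by
    refine LinearMap.ext fun v => ?_
    obtain ⟨x, rfl⟩ := E.surjective v
    rw [hmon, h1, h2]
    simp [LinearEquiv.conj_apply]
  have h3 : LinearMap.det (aeval g P) = e := by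
    rw [hconj, LinearEquiv.conj_apply, LinearMap.comp_assoc, LinearMap.det_conj, LinearMap.det_prodMap,
      LinearMap.det_id, mul_one, ← hz, Algebra.norm_apply]
    rfl
  rw [← h3, show g = Matrix.toLinAlgEquiv' (u : Matrix (Fin a) (Fin a) K) from rfl, Polynomial.aeval_algHom_apply]
  exact (LinearMap.det_toLin' _).symm

/-- The centraliser in `GU_n` of a semisimple element has every determinant of norm one. -/
theorem exists_commute_det (hK : Fintype.card K = q ^ 2) (hn : 1 ≤ n) (h : GU n K q) (hh : (orderOf h).Coprime p)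
    {d : K} (hd : d * qFrob hK d = 1) :
    ∃ c : GU n K q, c * h = h * c ∧ ((c : GL (Fin n) K) : Matrix (Fin n) (Fin n) K).det = d := by
  classical
  set σ := qFrob hK
  obtain ⟨c₀, hc₀⟩ := exists_ne_qFrob hK
  obtain ⟨e, heu, hed⟩ := hilbert90 σ (qFrob_qFrob hK) (θ := c₀)
    (IsUnit.mk0 _ (sub_ne_zero.2 hc₀.symm)) hd
  set H : Matrix (Fin n) (Fin n) K := ((h : GL (Fin n) K) : Matrix (Fin n) (Fin n) K) with hH
  have hdeg : H.charpoly.natDegree = n := by rw [Matrix.charpoly_natDegree_eq_dim, Fintype.card_fin]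
  obtain ⟨f, hf, hirr, r₁, hr₁⟩ := Polynomial.exists_monic_irreducible_factor H.charpoly
    (fun hu => by rw [Polynomial.natDegree_eq_zero_of_isUnit hu] at hdeg; omega)
  have hP0 : H.charpoly.coeff 0 ≠ 0 := fun h0 => by
    refine ((Matrix.isUnit_iff_isUnit_det _).1 (h : GL (Fin n) K).isUnit).ne_zero ?_
    rw [Matrix.det_eq_sign_charpoly_coeff, ← hH, h0, mul_zero]
  have hf0 : f.coeff 0 ≠ 0 := fun h0 => hP0 (by rw [hr₁, mul_coeff_zero, h0, zero_mul])
  have hself := cdual_charpoly_of_mem hK h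
  rw [← hH] at hself
  set f' := cdual σ f
  have hf' : f'.Monic := cdual_monic σ hf0
  obtain ⟨r, hr, hcp, hdiv, hfr⟩ : ∃ r : K[X], r.Monic ∧ IsCoprime f r ∧ f * r ∣ H.charpoly ∧
      cdual σ (f * r) = f * r := by
    by_cases hff : f' = f
    · refine ⟨1, monic_one, isCoprime_one_right, ?_, ?_⟩
      · rw [mul_one, hr₁]; exact dvd_mul_right f r₁
      · rw [mul_one]; exact hff
    · have hcp : IsCoprime f f' := hirr.coprime_iff_not_dvd.2 fun hdvd => hff
        (Polynomial.eq_of_monic_of_associated hf' hf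
          ((hirr.associated_of_dvd (irreducible_cdual σ (qFrob_qFrob hK) hf hf0 hirr) hdvd)).symm)
      refine ⟨f', hf', hcp, hcp.mul_dvd (hr₁ ▸ dvd_mul_right f r₁) ?_, ?_⟩
      · rw [← hself, hr₁, cdual_mul]; exact dvd_mul_right _ _
      · rw [cdual_mul, cdual_cdual σ (qFrob_qFrob hK) hf hf0, mul_comm]
  obtain ⟨r₂, hr₂⟩ := hdiv
  have hr₂m : r₂.Monic := (hf.mul hr).of_mul_monic_left (hr₂ ▸ Matrix.charpoly_monic H)
  have h2d : n = (f * r).natDegree + r₂.natDegree := by rw [← hdeg, hr₂, (hf.mul hr).natDegree_mul hr₂m]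
  have hfr0 : (f * r).coeff 0 ≠ 0 := fun h0 => hP0 (by rw [hr₂, mul_coeff_zero, h0, zero_mul])
  have hr₂0 : r₂.coeff 0 ≠ 0 := fun h0 => hP0 (by rw [hr₂, mul_coeff_zero, h0, mul_zero])
  have hr₂self : cdual σ r₂ = r₂ := by
    have h2 := hself
    rw [hr₂, cdual_mul, hfr] at h2
    exact mul_left_cancel₀ (hf.mul hr).ne_zero h2
  obtain ⟨u₁, hu₁, hu₁P⟩ := exists_mem_charpoly (p := p) hK (hf.mul hr) rfl hfr0 hfr
  obtain ⟨u₂, hu₂, hu₂P⟩ := exists_mem_charpoly (p := p) hK hr₂m rfl hr₂0 hr₂self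
  generalize ha : (f * r).natDegree = a at u₁ hu₁ hu₁P h2d
  generalize hb : r₂.natDegree = b at u₂ hu₂ hu₂P h2d
  subst h2d
  set U₁ : Matrix (Fin a) (Fin a) K := ((u₁ : GL (Fin a) K) : Matrix (Fin a) (Fin a) K)
  set U₂ : Matrix (Fin b) (Fin b) K := ((u₂ : GL (Fin b) K) : Matrix (Fin b) (Fin b) K)
  have hM : st hK (blk U₁ U₂) * blk U₁ U₂ = 1 := by
    rw [blk_st, blk_mul, (mem_GU_iff hK _).1 u₁.2, (mem_GU_iff hK _).1 u₂.2, blk_one]
  set M : GL (Fin (a + b)) K := ⟨blk U₁ U₂, st hK (blk U₁ U₂), mul_eq_one_comm.1 hM, hM⟩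
  have hMpow : M ^ (orderOf u₁ * orderOf u₂) = 1 := by
    refine Units.ext ?_
    rw [Units.val_pow_eq_pow_val, Units.val_one]
    have h1 : U₁ ^ (orderOf u₁ * orderOf u₂) = 1 := by
      rw [← Units.val_pow_eq_pow_val, ← SubgroupClass.coe_pow, pow_mul, pow_orderOf_eq_one, one_pow]; rfl
    have h2 : U₂ ^ (orderOf u₁ * orderOf u₂) = 1 := by
      rw [← Units.val_pow_eq_pow_val, ← SubgroupClass.coe_pow, pow_mul', pow_orderOf_eq_one, one_pow]; rfl
    have hk : ∀ k : ℕ, blk U₁ U₂ ^ k = blk (U₁ ^ k) (U₂ ^ k) := fun k => by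
      induction k with
      | zero => rw [pow_zero, pow_zero, pow_zero, blk_one]
      | succ k ih => rw [pow_succ, ih, blk_mul, ← pow_succ, ← pow_succ]
    show blk U₁ U₂ ^ _ = 1
    rw [hk, h1, h2, blk_one]
  have hMc : ((orderOf M : ℕ) : K) ≠ 0 := (cast_ne_zero_iff _).2
    (Nat.Coprime.coprime_dvd_left (orderOf_dvd_of_pow_eq_one hMpow) (hu₁.mul_left hu₂))
  have hconjGL : IsConj M (h : GL (Fin (a + b)) K) := by
    refine GLSemisimpleClasses.isConj_of_charpoly_eq hMc ((cast_ne_zero_iff _).2 (by rwa [Subgroup.orderOf_coe])) ?_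
    show (blk U₁ U₂).charpoly = _
    rw [blk, Matrix.charpoly_reindex, Matrix.charpoly_fromBlocks_zero₁₂, hu₁P, hu₂P, ← hr₂]
  obtain ⟨w, hw⟩ := isConj_iff.1
    (UnitaryConjugacy.isConj_of_isConj hK ⟨M, (mem_GU_iff hK M).2 hM⟩ h hconjGL)
  obtain ⟨P, hP⟩ := exists_aeval_det (p := p) (u₁ : GL (Fin a) K) (by rwa [Subgroup.orderOf_coe]) hf hirr hcp
    hu₁P e heu.ne_zero
  set k₁ := aeval U₁ P with hk₁
  have hcomm1 : Commute U₁ k₁ := by
    simpa using (Commute.all (X : K[X]) P).map (aeval U₁)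
  have hcomm2 : Commute U₁ (st hK k₁) := by
    have h1 := congrArg (st hK) hcomm1.eq
    rw [st_mul, st_mul] at h1
    have hs : st hK U₁ * U₁ = 1 := (mem_GU_iff hK _).1 u₁.2
    have h2 := congrArg (fun z => U₁ * z * U₁) h1
    simp only [mul_assoc] at h2
    rw [hs, mul_one, ← mul_assoc U₁ (st hK U₁), mul_eq_one_comm.1 hs, one_mul] at h2
    exact h2
  have hcomm3 : Commute k₁ (st hK k₁) := by
    rw [hk₁]
    exact (Algebra.commute_of_mem_adjoin_singleton_of_commute (aeval_mem_adjoin_singleton K U₁) hcomm2.symm).symm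
  have hstdet : ∀ {m : ℕ} (A : Matrix (Fin m) (Fin m) K), (st hK A).det = σ A.det := fun A => by
    rw [st, Matrix.det_transpose]; exact ((qFrob hK).map_det A).symm
  have hk₁0 : k₁.det ≠ 0 := by rw [hP]; exact heu.ne_zero
  have hku : IsUnit k₁ := (Matrix.isUnit_iff_isUnit_det _).2 (IsUnit.mk0 _ hk₁0)
  obtain ⟨K₁, hK₁⟩ := hku
  obtain ⟨S₁, hS₁⟩ := st_unit hK (n := a) ⟨K₁, hK₁⟩
  set c₁ : GL (Fin a) K := K₁ * S₁⁻¹
  have hS₁d : (S₁ : Matrix (Fin a) (Fin a) K).det = σ e := by rw [hS₁, hstdet, hP]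
  have hc₁ : st hK (c₁ : Matrix (Fin a) (Fin a) K) * c₁ = 1 := by
    have hcSK : S₁⁻¹ * K₁ = K₁ * S₁⁻¹ := by
      refine (Commute.inv_left ?_).eq
      exact Units.ext (by rw [Units.val_mul, Units.val_mul, hS₁, hK₁]; exact hcomm3.eq.symm)
    have hKst : st hK ((S₁⁻¹ : GL (Fin a) K) : Matrix (Fin a) (Fin a) K) = ((K₁⁻¹ : GL (Fin a) K) : Matrix (Fin a) (Fin a) K) := by
      have h1 := congrArg (st hK) (show (S₁ : Matrix (Fin a) (Fin a) K) * (S₁⁻¹ : GL (Fin a) K) = 1 from Units.mul_inv S₁)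
      rw [st_mul, st_one, hS₁, st_st, ← hK₁] at h1
      exact left_inv_eq_right_inv h1 K₁.mul_inv
    show st hK ((K₁ * S₁⁻¹ : GL (Fin a) K) : Matrix (Fin a) (Fin a) K) * _ = 1
    rw [Units.val_mul, st_mul, hKst, show st hK (K₁ : Matrix (Fin a) (Fin a) K) = (S₁ : Matrix (Fin a) (Fin a) K) by rw [hS₁, hK₁], ← Units.val_mul, ← Units.val_mul, ← Units.val_mul, ← Units.val_one]
    congr 1
    rw [← hcSK]
    group
  have hc₁U : Commute U₁ (c₁ : Matrix (Fin a) (Fin a) K) := by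
    rw [Units.val_mul]
    exact (hK₁ ▸ hcomm1).mul_right ((show Commute U₁ (S₁ : Matrix (Fin a) (Fin a) K) from hS₁ ▸ hcomm2).units_inv_right)
  have hc₁d : (c₁ : Matrix (Fin a) (Fin a) K).det = d := by
    have h3 : d * σ e = e := hed
    have he' : σ e ≠ 0 := (map_ne_zero σ).2 heu.ne_zero
    rw [Units.val_mul, Matrix.det_mul, hK₁, hP, Matrix.coe_units_inv, Matrix.det_nonsing_inv,
      Ring.inverse_eq_inv', hS₁d]
    field_simp
    linear_combination -h3
  have hC : st hK (blk (c₁ : Matrix (Fin a) (Fin a) K) (1 : Matrix (Fin b) (Fin b) K)) *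
      blk (c₁ : Matrix (Fin a) (Fin a) K) (1 : Matrix (Fin b) (Fin b) K) = 1 := by
    rw [blk_st, blk_mul, hc₁, st_one, mul_one, blk_one]
  set C : GU (a + b) K q := ⟨⟨_, _, mul_eq_one_comm.1 hC, hC⟩, (mem_GU_iff hK _).2 hC⟩
  have hCM : C * ⟨M, (mem_GU_iff hK M).2 hM⟩ = ⟨M, (mem_GU_iff hK M).2 hM⟩ * C := by
    refine Subtype.ext (Units.ext ?_)
    show blk (c₁ : Matrix (Fin a) (Fin a) K) 1 * blk U₁ U₂ = blk U₁ U₂ * blk (c₁ : Matrix (Fin a) (Fin a) K) 1
    rw [blk_mul, blk_mul, hc₁U.eq, one_mul, mul_one]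
  refine ⟨w * C * w⁻¹, ?_, ?_⟩
  · rw [← hw]
    calc w * C * w⁻¹ * (w * ⟨M, _⟩ * w⁻¹) = w * (C * ⟨M, _⟩) * w⁻¹ := by group
      _ = _ := by rw [hCM]; group
  · show ((((w : GL (Fin (a + b)) K) * (C : GL (Fin (a + b)) K) * (w : GL (Fin (a + b)) K)⁻¹) :
        GL (Fin (a + b)) K) : Matrix (Fin (a + b)) (Fin (a + b)) K).det = d
    rw [Units.val_mul, Units.val_mul, Matrix.det_units_conj]
    show (blk (c₁ : Matrix (Fin a) (Fin a) K) 1).det = d
    rw [blk, Matrix.det_reindex_self, Matrix.det_fromBlocks_zero₁₂, hc₁d, Matrix.det_one, mul_one]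

end Cfsg.Agent.UnitaryDetCentralizer
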