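import Cfsg.Agent.Lib.Classical.ProjPrimeOrderClasses
import Cfsg.Agent.Lib.Classical.UnitaryDetCentralizer
import Cfsg.Agent.Lib.Classical.UnitDiagonalOut

/-! Classes of elements of prime order in `PGL_n(q)` and `PGU_n(q)`. -/

set_option autoImplicit false
set_option linter.unusedSectionVars false

namespace Cfsg.Agent.ProjPrimeOrderApps

open Polynomial Matrix Cfsg.Agent.Classical Cfsg.Agent.UnitaryConjugacy Cfsg.Agent.UnitDiagonalOut
  Cfsg.Agent.UnitaryDetCentralizer Cfsg.Agent.ProjPrimeOrderClasses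

/-- Isomorphic groups have equally many classes of a given order modulo the centre. -/
theorem natCard_classes_congr {A B : Type*} [Group A] [Group B] (e : A ≃* B) (r : ℕ) :
    Nat.card {C : ConjClasses (A ⧸ Subgroup.center A) //
        ∃ g : A ⧸ Subgroup.center A, ConjClasses.mk g = C ∧ orderOf g = r} =
      Nat.card {C : ConjClasses (B ⧸ Subgroup.center B) //
        ∃ g : B ⧸ Subgroup.center B, ConjClasses.mk g = C ∧ orderOf g = r} := by
  have he : (Subgroup.center A).map (e : A →* B) = Subgroup.center B := by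
    ext b
    obtain ⟨a, rfl⟩ := e.surjective b
    rw [Subgroup.mem_center_iff, Subgroup.mem_map]
    refine ⟨?_, fun h => ⟨a, Subgroup.mem_center_iff.2 fun x => e.injective (by simpa using h (e x)), rfl⟩⟩
    rintro ⟨a', ha', he'⟩ y
    obtain ⟨x, rfl⟩ := e.surjective y
    rw [← he', MonoidHom.coe_coe, ← map_mul, ← map_mul, Subgroup.mem_center_iff.1 ha' x]
  let e' := QuotientGroup.congr (Subgroup.center A) (Subgroup.center B) e he
  let E : ConjClasses (A ⧸ Subgroup.center A) ≃ ConjClasses (B ⧸ Subgroup.center B) :=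
    { toFun := ConjClasses.map e'.toMonoidHom
      invFun := ConjClasses.map e'.symm.toMonoidHom
      left_inv := fun c => by
        obtain ⟨g, rfl⟩ := ConjClasses.exists_rep c
        exact congrArg ConjClasses.mk (e'.symm_apply_apply g)
      right_inv := fun c => by
        obtain ⟨g, rfl⟩ := ConjClasses.exists_rep c
        exact congrArg ConjClasses.mk (e'.apply_symm_apply g) }
  refine Nat.card_congr (E.subtypeEquiv fun c => ⟨?_, ?_⟩)
  · rintro ⟨g, rfl, hg⟩
    exact ⟨e' g, rfl, by rw [MulEquiv.orderOf_eq, hg]⟩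
  · rintro ⟨g, hgc, hg⟩
    refine ⟨e'.symm g, ?_, by rw [MulEquiv.orderOf_eq, hg]⟩
    rw [← E.symm_apply_apply c, ← hgc]
    rfl

variable {F : Type*} [Field F] [Fintype F] {n r q : ℕ}

theorem gl_setting (hn : 1 ≤ n) (hr : r.Prime) (hrq : r ∣ Fintype.card F - 1) :
    Setting F n r (⊤ : Subgroup (GL (Fin n) F)) (⊤ : Subgroup Fˣ) where
  pos := hn
  prime := hr
  dvd_card := by rwa [Subgroup.card_top, Nat.card_units, Nat.card_eq_fintype_card]
  root _ _ := trivial
  scalar _ _ _ _ := trivial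
  diag d _ := ⟨Matrix.GeneralLinearGroup.mkOfDetNeZero (Matrix.diagonal fun j => (d j : F))
    (by rw [Matrix.det_diagonal]; exact Finset.prod_ne_zero_iff.2 fun j _ => (d j).ne_zero), trivial, rfl⟩
  perm σ := ⟨Matrix.GeneralLinearGroup.mkOfDetNeZero (σ.permMatrix F)
    (by rw [Matrix.det_permutation]; rcases Int.units_eq_one_or (Equiv.Perm.sign σ) with h | h <;> simp [h]), trivial, rfl⟩
  conj g h hg hh hc := by
    have := GLSemisimpleClasses.isConj_of_charpoly_eq hg hh hc
    obtain ⟨c, hc'⟩ := isConj_iff.1 this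
    exact isConj_iff.2 ⟨⟨c, trivial⟩, Subtype.ext hc'⟩
  realise hd a _ := by
    obtain ⟨k, rfl⟩ := hd
    rw [Nat.mul_div_cancel_left _ hr.pos]
    obtain ⟨g, M, hM, hgM, hgP⟩ := Cfsg.Agent.Lie.Semisimple.exists_semisimple (r * k)
      ((X ^ r - Polynomial.C ((a : Fˣ) : F)) ^ k) ((monic_X_pow_sub_C _ hr.ne_zero).pow k)
      (by rw [natDegree_pow, natDegree_X_pow_sub_C, mul_comm])
      (by rw [coeff_zero_eq_eval_zero, eval_pow, eval_sub, eval_pow, eval_X, eval_C, zero_pow hr.ne_zero, zero_sub]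
          exact pow_ne_zero _ (neg_ne_zero.2 (a : Fˣ).ne_zero))
    have hMp : M ≠ 0 := fun h => hM (by rw [h, Nat.cast_zero])
    refine ⟨⟨Units.ofPowEqOne (LinearMap.toMatrixAlgEquiv' g) M (by rw [← map_pow, hgM, map_one]) hMp, trivial⟩, ?_, ?_⟩
    · intro h
      obtain ⟨c, hc⟩ := orderOf_dvd_of_pow_eq_one
        (x := Units.ofPowEqOne (LinearMap.toMatrixAlgEquiv' g) M (by rw [← map_pow, hgM, map_one]) hMp) (n := M)
        (Units.ext (by rw [Units.val_pow_eq_pow_val, Units.val_ofPowEqOne, ← map_pow, hgM, map_one, Units.val_one]))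
      exact hM (by rw [hc, Nat.cast_mul, h, zero_mul])
    · rw [Units.val_ofPowEqOne, ← GLSemisimpleClasses.charpoly_toLin', Matrix.toLinAlgEquiv'_toMatrixAlgEquiv', hgP]

theorem natCard_pgl (hn : 2 ≤ n) (hr : r.Prime) (hrq : r ∣ Fintype.card F - 1) :
    Nat.card {C : ConjClasses (GL (Fin n) F ⧸ Subgroup.center (GL (Fin n) F)) //
        ∃ g : GL (Fin n) F ⧸ Subgroup.center (GL (Fin n) F), ConjClasses.mk g = C ∧ orderOf g = r} =
      (Nat.choose (n + r - 1) (r - 1) - r - (if r ∣ n then 1 else 0)) / r + r * (if r ∣ n then 1 else 0) := by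
  rw [← natCard_classes_congr (Subgroup.topEquiv (G := GL (Fin n) F)) r]
  exact natCard_classes (gl_setting (by omega) hr hrq) hn

theorem gu_setting (hF : Fintype.card F = q ^ 2) (hn : 1 ≤ n) (hr : r.Prime) (hr2 : r ≠ 2) (hrq : r ∣ q + 1) :
    Setting F n r (GU n F q) (normOne F q) where
  pos := hn
  prime := hr
  dvd_card := by rwa [natCard_normOne hF]
  root c hc := by
    have hq := two_le_q hF
    have h1 : c ^ (r * (q + 1)) = 1 := by rw [pow_mul]; exact hc
    have h2 : c ^ ((q - 1) * (q + 1)) = 1 := by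
      rw [show (q - 1) * (q + 1) = Fintype.card F - 1 by rw [hF, mul_comm, ← Nat.sq_sub_sq, one_pow]]
      exact Units.ext (by rw [Units.val_pow_eq_pow_val, FiniteField.pow_card_sub_one_eq_one _ c.ne_zero, Units.val_one])
    have h3 : c ^ (Nat.gcd r (q - 1) * (q + 1)) = 1 := by
      rw [← Nat.gcd_mul_right]
      exact pow_gcd_eq_one.2 ⟨h1, h2⟩
    have hg : Nat.gcd r (q - 1) = 1 := hr.coprime_iff_not_dvd.2 fun h => hr2 ((Nat.prime_dvd_prime_iff_eq hr
      Nat.prime_two).1 ((show q + 1 - (q - 1) = 2 by omega) ▸ Nat.dvd_sub hrq h))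
    rwa [hg, one_mul] at h3
  scalar g hg c hc := by
    show c ^ (q + 1) = 1
    rw [mem_GU_iff hF, hc, st, Matrix.smul_one_eq_diagonal, Matrix.diagonal_map (map_zero _),
      Matrix.diagonal_transpose, Matrix.diagonal_mul_diagonal, ← Matrix.diagonal_one] at hg
    have h := congrFun (Matrix.diagonal_injective hg) ⟨0, hn⟩
    refine Units.ext ?_
    rw [Units.val_pow_eq_pow_val, pow_succ, ← qFrob_apply hF, Units.val_one]
    exact h
  diag d hd := ⟨(guDiag hF fun j => ⟨d j, hd j⟩ : GU n F q).1, (guDiag hF fun j => ⟨d j, hd j⟩).2, rfl⟩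
  perm σ := by
    refine ⟨Matrix.GeneralLinearGroup.mkOfDetNeZero (σ.permMatrix F)
      (by rw [Matrix.det_permutation]; rcases Int.units_eq_one_or (Equiv.Perm.sign σ) with h | h <;> simp [h]),
      fun u v => ?_, rfl⟩
    show hermForm n F q (σ.permMatrix F *ᵥ u) (σ.permMatrix F *ᵥ v) = hermForm n F q u v
    rw [Matrix.permMatrix_mulVec, Matrix.permMatrix_mulVec]
    exact Equiv.sum_comp σ (fun l => u l * v l ^ q)
  conj g h hg hh hc := isConj_of_isConj hF g h (GLSemisimpleClasses.isConj_of_charpoly_eq hg hh hc)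
  realise hd a _ := by
    obtain ⟨k, rfl⟩ := hd
    rw [Nat.mul_div_cancel_left _ hr.pos]
    obtain ⟨p, hp⟩ := CharP.exists F
    haveI : CharP F p := hp
    haveI : Fact p.Prime := ⟨CharP.char_is_prime F p⟩
    set b : F := ((a : Fˣ) : F)
    have hb : b ^ (q + 1) = 1 := by
      rw [← Units.val_pow_eq_pow_val, show ((a : Fˣ)) ^ (q + 1) = 1 from a.2, Units.val_one]
    have hb0 : b ≠ 0 := (a : Fˣ).ne_zero
    have hone : cdual (qFrob hF) (X ^ r - Polynomial.C b) = X ^ r - Polynomial.C b := by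
      have hq : qFrob hF b = b⁻¹ := eq_inv_of_mul_eq_one_left (by rw [qFrob_apply, ← pow_succ, hb])
      have hrev : (X ^ r - Polynomial.C (qFrob hF b)).reverse = 1 - Polynomial.C (qFrob hF b) * X ^ r := by
        rw [reverse, natDegree_X_pow_sub_C, reflect_sub, reflect_C, reflect_monomial, revAt_le le_rfl, Nat.sub_self,
          pow_zero]
      rw [cdual, Polynomial.map_sub, Polynomial.map_pow, map_X, map_C, hrev, coeff_sub, coeff_X_pow,
        if_neg hr.ne_zero.symm, coeff_C_zero, zero_sub, map_neg, hq, inv_neg, inv_inv, C_neg, mul_sub, mul_one,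
        ← mul_assoc, neg_mul, ← C_mul, mul_inv_cancel₀ hb0, C_1]
      ring
    have hpow : ∀ j : ℕ, cdual (qFrob hF) ((X ^ r - Polynomial.C b) ^ j) = (X ^ r - Polynomial.C b) ^ j := fun j => by
      induction j with
      | zero => simp [cdual, reverse]
      | succ j ih => rw [pow_succ, cdual_mul, ih, hone]
    obtain ⟨u, hu, huP⟩ := exists_mem_charpoly (p := p) hF ((monic_X_pow_sub_C b hr.ne_zero).pow k)
      (show ((X ^ r - Polynomial.C b) ^ k).natDegree = r * k by rw [natDegree_pow, natDegree_X_pow_sub_C, mul_comm])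
      (by rw [coeff_zero_eq_eval_zero, eval_pow, eval_sub, eval_pow, eval_X, eval_C, zero_pow hr.ne_zero, zero_sub]
          exact pow_ne_zero _ (neg_ne_zero.2 hb0))
      (hpow k)
    refine ⟨u, ?_, huP⟩
    rw [Subgroup.orderOf_coe]
    exact (cast_ne_zero_iff _).2 hu

theorem natCard_pgu (hF : Fintype.card F = q ^ 2) (hn : 2 ≤ n) (hr : r.Prime) (hr2 : r ≠ 2) (hrq : r ∣ q + 1) :
    Nat.card {C : ConjClasses (↥(GU n F q) ⧸ Subgroup.center ↥(GU n F q)) //
        ∃ g : ↥(GU n F q) ⧸ Subgroup.center ↥(GU n F q), ConjClasses.mk g = C ∧ orderOf g = r} =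
      (Nat.choose (n + r - 1) (r - 1) - r - (if r ∣ n then 1 else 0)) / r + r * (if r ∣ n then 1 else 0) :=
  natCard_classes (gu_setting hF (by omega) hr hr2 hrq) hn

end Cfsg.Agent.ProjPrimeOrderApps
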