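import Cfsg.Agent.Lib.Classical.GLPrimeOrderClasses

/-!
Classes of elements of prime order `r` of a projective group, for a matrix group in which semisimple
elements are conjugate as soon as their characteristic polynomials agree and which contains the
diagonal matrices over a cyclic group of scalars of order divisible by `r`.
-/

set_option autoImplicit false
set_option linter.unusedSectionVars false

namespace Cfsg.Agent.ProjPrimeOrderClasses

open Polynomial UniqueFactorizationMonoid

variable {F : Type*} [Field F] {n : ℕ}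

/-- Multiples of a multiset by roots of unity. -/
local instance rotAction (r : ℕ) : MulAction (rootsOfUnity r F) (Sym (rootsOfUnity r F) n) where
  smul ζ s := s.map (ζ * ·)
  one_smul s := by
    show s.map (fun x => 1 * x) = s
    simp only [one_mul]
    exact Sym.map_id' s
  mul_smul a b s := by
    show s.map (fun x => a * b * x) = (s.map (fun x => b * x)).map (fun x => a * x)
    rw [Sym.map_map]
    congr 1
    funext x
    rw [Function.comp_apply, mul_assoc]

theorem rot_smul {r : ℕ} (ζ : rootsOfUnity r F) (s : Sym (rootsOfUnity r F) n) :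
    ((ζ • s : Sym (rootsOfUnity r F) n) : Multiset (rootsOfUnity r F)) =
      (s : Multiset (rootsOfUnity r F)).map (ζ * ·) := rfl

/-- An irreducible factor of the characteristic polynomial divides every annihilating polynomial. -/
theorem factor_dvd_of_aeval {g : GL (Fin n) F} {R : F[X]}
    (hR : aeval (Matrix.toLinAlgEquiv' (g : Matrix (Fin n) (Fin n) F)) R = 0) {f : F[X]} (hf : f.Monic)
    (hirr : Irreducible f) (hdvd : f ∣ (g : Matrix (Fin n) (Fin n) F).charpoly) : f ∣ R := by
  obtain ⟨v, hv0, hv⟩ := Cfsg.Agent.Lie.Semisimple.exists_killed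
    (Matrix.toLinAlgEquiv' (g : Matrix (Fin n) (Fin n) F)) hf hirr
    (by rwa [GLSemisimpleClasses.charpoly_toLin'])
  by_contra hcon
  obtain ⟨a, b, hab⟩ := hirr.coprime_iff_not_dvd.2 hcon
  refine hv0 ?_
  have h := congrArg (fun P => aeval (Matrix.toLinAlgEquiv' (g : Matrix (Fin n) (Fin n) F)) P v) hab
  simp only [map_add, map_mul, map_one, LinearMap.add_apply, Module.End.mul_apply, Module.End.one_apply, hR, hv,
    map_zero, LinearMap.zero_apply, add_zero] at h
  exact h.symm

/-- A semisimple matrix is killed by a polynomial divisible by all factors of its characteristic polynomial. -/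
theorem aeval_eq_zero_of_factors {M : ℕ} (hM : (M : F) ≠ 0) (g : GL (Fin n) F) (hgM : g ^ M = 1) {R : F[X]}
    (hR : R ≠ 0) (h : ∀ f : F[X], f.Monic → Irreducible f → f ∣ (g : Matrix (Fin n) (Fin n) F).charpoly → f ∣ R) :
    aeval (Matrix.toLinAlgEquiv' (g : Matrix (Fin n) (Fin n) F)) R = 0 := by
  classical
  set G := Matrix.toLinAlgEquiv' (g : Matrix (Fin n) (Fin n) F)
  have hint : IsIntegral F G := IsIntegral.of_finite F G
  have hm := minpoly.ne_zero hint
  have hd : minpoly F G ∣ X ^ M - 1 := minpoly.dvd F G (by simp [G, GLSemisimpleClasses.toLin'_pow_eq_one hgM])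
  have hsq : Squarefree (minpoly F G) := by
    refine Squarefree.squarefree_of_dvd hd ?_
    rw [← map_one Polynomial.C]
    exact (Polynomial.separable_X_pow_sub_C 1 hM one_ne_zero).squarefree
  have hdiv : minpoly F G ∣ R := by
    rw [dvd_iff_normalizedFactors_le_normalizedFactors hm hR, Multiset.le_iff_subset
      ((squarefree_iff_nodup_normalizedFactors hm).1 hsq)]
    intro f hf
    obtain ⟨f', hf', hff'⟩ := exists_mem_normalizedFactors_of_dvd hR (irreducible_of_normalized_factor f hf)
      (h f (by rw [← normalize_normalized_factor f hf]; exact monic_normalize (irreducible_of_normalized_factor f hf).ne_zero)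
        (irreducible_of_normalized_factor f hf) (by
          rw [← GLSemisimpleClasses.charpoly_toLin']
          exact (dvd_of_mem_normalizedFactors hf).trans G.minpoly_dvd_charpoly))
    rw [Associated.eq_of_normalized hff' (normalize_normalized_factor f hf) (normalize_normalized_factor f' hf')]
    exact hf'
  obtain ⟨c, hc⟩ := hdiv
  rw [hc, map_mul, minpoly.aeval, zero_mul]

/-- The setting: a matrix group with the scalars `S`. -/
structure Setting (F : Type*) [Field F] [Fintype F] (n r : ℕ) (G : Subgroup (GL (Fin n) F)) (S : Subgroup Fˣ) :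
    Prop where
  pos : 1 ≤ n
  prime : r.Prime
  dvd_card : r ∣ Nat.card S
  root : ∀ c : Fˣ, c ^ r ∈ S → c ∈ S
  scalar : ∀ g ∈ G, ∀ c : Fˣ, (g : Matrix (Fin n) (Fin n) F) = (c : F) • (1 : Matrix (Fin n) (Fin n) F) → c ∈ S
  diag : ∀ d : Fin n → Fˣ, (∀ j, d j ∈ S) → ∃ g ∈ G, (g : Matrix (Fin n) (Fin n) F) = Matrix.diagonal (fun j => (d j : F))
  perm : ∀ σ : Equiv.Perm (Fin n), ∃ g ∈ G, (g : Matrix (Fin n) (Fin n) F) = σ.permMatrix F
  conj : ∀ g h : G, ((orderOf (g : GL (Fin n) F) : ℕ) : F) ≠ 0 → ((orderOf (h : GL (Fin n) F) : ℕ) : F) ≠ 0 →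
    ((g : GL (Fin n) F) : Matrix (Fin n) (Fin n) F).charpoly = ((h : GL (Fin n) F) : Matrix (Fin n) (Fin n) F).charpoly →
    IsConj g h
  realise : r ∣ n → ∀ a : S, (∀ b : S, b ^ r ≠ a) → ∃ g : G, ((orderOf (g : GL (Fin n) F) : ℕ) : F) ≠ 0 ∧
    ((g : GL (Fin n) F) : Matrix (Fin n) (Fin n) F).charpoly = (X ^ r - Polynomial.C ((a : Fˣ) : F)) ^ (n / r)

variable [Fintype F] {r : ℕ} {G : Subgroup (GL (Fin n) F)} {S : Subgroup Fˣ}

theorem dvd_units (h : Setting F n r G S) : r ∣ Fintype.card F - 1 := by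
  have := h.dvd_card.trans (Subgroup.card_subgroup_dvd_card S)
  rwa [Nat.card_units, Nat.card_eq_fintype_card] at this

theorem cast_ne_zero (h : Setting F n r G S) : (r : F) ≠ 0 := fun e => by
  have h0 : ((Fintype.card F - 1 : ℕ) : F) = 0 := by
    obtain ⟨c, hc⟩ := dvd_units h
    rw [hc, Nat.cast_mul, e, zero_mul]
  rw [Nat.cast_sub Fintype.card_pos, FiniteField.cast_card_eq_zero, Nat.cast_one, zero_sub, neg_eq_zero] at h0
  exact one_ne_zero h0

theorem exists_scalar (h : Setting F n r G S) (c : S) :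
    ∃ g : G, g ∈ Subgroup.center G ∧
      ((g : GL (Fin n) F) : Matrix (Fin n) (Fin n) F) = ((c : Fˣ) : F) • (1 : Matrix (Fin n) (Fin n) F) := by
  obtain ⟨g, hg, hgv⟩ := h.diag (fun _ => c) fun _ => c.2
  rw [← Matrix.smul_one_eq_diagonal] at hgv
  refine ⟨⟨g, hg⟩, Subgroup.mem_center_iff.2 fun x => Subtype.ext (Units.ext ?_), hgv⟩
  show ((x : GL (Fin n) F) : Matrix (Fin n) (Fin n) F) * (g : Matrix (Fin n) (Fin n) F) = (g : Matrix (Fin n) (Fin n) F) * _
  rw [hgv, Matrix.mul_smul, Matrix.smul_mul, Matrix.mul_one, Matrix.one_mul]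

theorem exists_prim (h : Setting F n r G S) : ∃ ζ : rootsOfUnity r F, ζ ≠ 1 ∧ IsPrimitiveRoot ((ζ : Fˣ) : F) r := by
  obtain ⟨u, hu⟩ := IsCyclic.exists_ofOrder_eq_natCard (α := Fˣ)
  obtain ⟨w, hw⟩ := dvd_units h
  have hcu : Nat.card Fˣ = r * w := by rw [Nat.card_units, Nat.card_eq_fintype_card, hw]
  have hord : orderOf (u ^ w) = r := by
    have hw0 : w ≠ 0 := fun e => by
      have := Nat.card_pos (α := Fˣ)
      rw [hcu, e, mul_zero] at this
      omega
    rw [orderOf_pow_of_dvd hw0 (hu ▸ hcu ▸ dvd_mul_left w r), hu, hcu, Nat.mul_div_cancel _ (Nat.pos_of_ne_zero hw0)]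
  refine ⟨⟨u ^ w, (mem_rootsOfUnity r _).2 (orderOf_dvd_iff_pow_eq_one.1 (Eq.dvd hord))⟩, fun e => ?_, ?_⟩
  · have e1 : u ^ w = 1 := congrArg Subtype.val e
    rw [e1, orderOf_one] at hord
    exact h.prime.one_lt.ne hord
  · have hp := IsPrimitiveRoot.coe_units_iff.2 (IsPrimitiveRoot.orderOf (u ^ w))
    rw [hord] at hp
    exact hp

theorem mem_center_iff (h : Setting F n r G S) (g : G) :
    g ∈ Subgroup.center G ↔
      ∃ c : S, ((g : GL (Fin n) F) : Matrix (Fin n) (Fin n) F) = ((c : Fˣ) : F) • (1 : Matrix (Fin n) (Fin n) F) := by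
  classical
  refine ⟨fun hg => ?_, fun ⟨c, hc⟩ => ?_⟩
  · set A := ((g : GL (Fin n) F) : Matrix (Fin n) (Fin n) F)
    have hcom : ∀ x ∈ G, (x : Matrix (Fin n) (Fin n) F) * A = A * (x : Matrix (Fin n) (Fin n) F) := fun x hx =>
      congrArg (fun y : G => ((y : GL (Fin n) F) : Matrix (Fin n) (Fin n) F)) (Subgroup.mem_center_iff.1 hg ⟨x, hx⟩)
    obtain ⟨ζ, hζ1, -⟩ := exists_prim h
    have hζS : (ζ : Fˣ) ∈ S := h.root _ (by rw [(mem_rootsOfUnity r _).1 ζ.2]; exact S.one_mem)
    have hoff : ∀ i j, i ≠ j → A i j = 0 := fun i j hij => by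
      obtain ⟨x, hx, hxv⟩ := h.diag (Function.update 1 i (ζ : Fˣ)) fun k => by
        by_cases hk : k = i
        · subst hk; simpa using hζS
        · rw [Function.update_of_ne hk]; exact S.one_mem
      have e := congrFun (congrFun (hcom x hx) i) j
      rw [hxv, Matrix.diagonal_mul, Matrix.mul_diagonal, Function.update_self, Function.update_of_ne hij.symm,
        Pi.one_apply, Units.val_one, mul_one] at e
      have hne : ((ζ : Fˣ) : F) - 1 ≠ 0 := sub_ne_zero.2 fun e1 => hζ1 (Subtype.ext (Units.ext e1))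
      exact (mul_eq_zero.1 (show (((ζ : Fˣ) : F) - 1) * A i j = 0 by linear_combination e)).resolve_left hne
    let i₀ : Fin n := ⟨0, h.pos⟩
    have hdiag : ∀ i, A i i = A i₀ i₀ := fun i => by
      obtain ⟨x, hx, hxv⟩ := h.perm (Equiv.swap i i₀)
      have e := congrFun (congrFun (hcom x hx) i) i₀
      rw [hxv, Equiv.Perm.permMatrix, PEquiv.toMatrix_toPEquiv_mul, PEquiv.mul_toMatrix_toPEquiv] at e
      simpa [eq_comm] using e
    have hA : A = A i₀ i₀ • (1 : Matrix (Fin n) (Fin n) F) := by
      ext i j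
      by_cases hij : i = j
      · subst hij; simp [hdiag i]
      · simp [hij, hoff i j hij]
    have h0 : A i₀ i₀ ≠ 0 := fun e => by
      haveI : Nonempty (Fin n) := ⟨i₀⟩
      have hu := ((g : GL (Fin n) F)).isUnit
      rw [show ((g : GL (Fin n) F) : Matrix (Fin n) (Fin n) F) = A from rfl, hA, e, zero_smul] at hu
      exact not_isUnit_zero hu
    exact ⟨⟨Units.mk0 _ h0, h.scalar g g.2 _ hA⟩, hA⟩
  · refine Subgroup.mem_center_iff.2 fun x => Subtype.ext (Units.ext ?_)
    show ((x : GL (Fin n) F) : Matrix (Fin n) (Fin n) F) * ((g : GL (Fin n) F) : Matrix (Fin n) (Fin n) F) =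
      ((g : GL (Fin n) F) : Matrix (Fin n) (Fin n) F) * _
    rw [hc, Matrix.mul_smul, Matrix.mul_one, Matrix.smul_mul, Matrix.one_mul]

/-- Lifts of `r`-torsion elements are semisimple, with a scalar power. -/
theorem lift_data (h : Setting F n r G S) (g : G) (hg : g ^ r ∈ Subgroup.center G) :
    ((orderOf (g : GL (Fin n) F) : ℕ) : F) ≠ 0 ∧ ∃ a : S,
      aeval (Matrix.toLinAlgEquiv' ((g : GL (Fin n) F) : Matrix (Fin n) (Fin n) F))
        (X ^ r - Polynomial.C ((a : Fˣ) : F)) = 0 ∧
      ((g : GL (Fin n) F) : Matrix (Fin n) (Fin n) F) ^ r = ((a : Fˣ) : F) • (1 : Matrix (Fin n) (Fin n) F) := by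
  obtain ⟨a, ha⟩ := (mem_center_iff h _).1 hg
  rw [SubgroupClass.coe_pow, Units.val_pow_eq_pow_val] at ha
  refine ⟨fun e => ?_, a, ?_, ha⟩
  · have hpow : (g : GL (Fin n) F) ^ (r * (Fintype.card F - 1)) = 1 := Units.ext (by
      rw [Units.val_pow_eq_pow_val, pow_mul, ha, _root_.smul_pow, one_pow,
        FiniteField.pow_card_sub_one_eq_one _ (a : Fˣ).ne_zero, one_smul, Units.val_one])
    obtain ⟨w, hw⟩ := orderOf_dvd_of_pow_eq_one hpow
    have h0 : ((r * (Fintype.card F - 1) : ℕ) : F) = 0 := by rw [hw, Nat.cast_mul, e, zero_mul]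
    rw [Nat.cast_mul, Nat.cast_sub Fintype.card_pos, FiniteField.cast_card_eq_zero, Nat.cast_one, zero_sub,
      mul_neg_one, neg_eq_zero] at h0
    exact cast_ne_zero h h0
  · rw [map_sub, map_pow, aeval_X, aeval_C, ← map_pow, ha, map_smul, map_one, Algebra.algebraMap_eq_smul_one, sub_self]

theorem charpoly_smul_diag (c : F) (d : Fin n → F) :
    (c • Matrix.diagonal d).charpoly = ∏ j, (X - Polynomial.C (c * d j)) := by
  rw [← Matrix.diagonal_smul, Matrix.charpoly_diagonal]
  rfl

theorem roots_prod_linear (M : Multiset F) : ((M.map fun x => X - Polynomial.C x).prod).roots = M :=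
  roots_multiset_prod_X_sub_C M

theorem natCard_nonPowers (h : Setting F n r G S) :
    Nat.card {x : S ⧸ (powMonoidHom r : S →* S).range // x ≠ 1} = r - 1 := by
  classical
  haveI : Fintype (S ⧸ (powMonoidHom r : S →* S).range) := Fintype.ofFinite _
  rw [Nat.card_eq_fintype_card, Fintype.card_subtype_compl, Fintype.card_subtype_eq, ← Nat.card_eq_fintype_card,
    ← Subgroup.index_eq_card, IsCyclic.index_powMonoidHom_range, Nat.gcd_eq_right h.dvd_card]

theorem card_orbits (h : Setting F n r G S) :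
    r * Nat.card (MulAction.orbitRel.Quotient (rootsOfUnity r F) (Sym (rootsOfUnity r F) n)) =
      Nat.choose (n + r - 1) (r - 1) + (r - 1) * (if r ∣ n then 1 else 0) := by
  classical
  haveI : NeZero r := ⟨h.prime.ne_zero⟩
  haveI := Fact.mk h.prime
  set μ := rootsOfUnity r F
  obtain ⟨ζ, hζ1, hζ⟩ := exists_prim h
  have hμ : Fintype.card μ = r := by rw [← Nat.card_eq_fintype_card]; exact hζ.card_rootsOfUnity
  have hfix : ∀ c : μ, c ≠ 1 →
      Fintype.card (MulAction.fixedBy (Sym μ n) c) = if r ∣ n then 1 else 0 := by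
    intro c hc
    have hgen : ∀ x : μ, ∃ k : ℕ, x = c ^ k := fun x => by
      have hco : orderOf c = r := orderOf_eq_prime (Subtype.ext ((mem_rootsOfUnity r _).1 c.2)) hc
      have := mem_powers_of_prime_card (G := μ) (p := r) (by rw [Nat.card_eq_fintype_card, hμ]) (g := c) (g' := x) hc
      obtain ⟨k, hk⟩ := this
      exact ⟨k, hk.symm⟩
    have hconst : ∀ s ∈ MulAction.fixedBy (Sym μ n) c, ∀ x : μ,
        (s : Multiset μ).count x = (s : Multiset μ).count 1 := by
      intro s hs x
      have hstep : ∀ y : μ, (s : Multiset μ).count (c * y) = (s : Multiset μ).count y := fun y => by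
        conv_lhs => rw [← show c • s = s from hs, rot_smul]
        exact Multiset.count_map_eq_count' _ _ (mul_right_injective c) y
      obtain ⟨k, rfl⟩ := hgen x
      induction k with
      | zero => rw [pow_zero]
      | succ k ih => rw [pow_succ', hstep, ih]
    have hsum : ∀ s ∈ MulAction.fixedBy (Sym μ n) c, n = r * (s : Multiset μ).count 1 := by
      intro s hs
      have := Multiset.toFinset_sum_count_eq (s : Multiset μ)
      rw [Finset.sum_subset (Finset.subset_univ _) (fun o _ ho =>
          Multiset.count_eq_zero.2 fun hh => ho (Multiset.mem_toFinset.2 hh)),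
        Finset.sum_congr rfl (fun x _ => hconst s hs x), Finset.sum_const, Finset.card_univ, hμ, smul_eq_mul,
        Sym.card_coe] at this
      exact this.symm
    split_ifs with hd
    · obtain ⟨k, hk⟩ := hd
      let s₀ : Sym μ n := Sym.mk ((Finset.univ : Finset μ).val.bind fun x => Multiset.replicate k x) (by
        rw [Multiset.card_bind]
        simp [hμ, hk])
      have hc₀ : ∀ x : μ, (s₀ : Multiset μ).count x = k := fun x => by
        show ((Finset.univ : Finset μ).val.bind fun x => Multiset.replicate k x).count x = k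
        rw [Multiset.count_bind, ← Finset.sum_eq_multiset_sum, Finset.sum_eq_single x]
        · simp
        · intro y _ hy; simp [Multiset.count_replicate, hy]
        · simp
      refine Fintype.card_eq_one_iff.2 ⟨⟨s₀, ?_⟩, fun s => Subtype.ext (Sym.coe_injective (Multiset.ext.2 fun x => ?_))⟩
      · refine Sym.coe_injective (Multiset.ext.2 fun x => ?_)
        rw [rot_smul, hc₀, show x = c * (c⁻¹ * x) by group, Multiset.count_map_eq_count' _ _ (mul_right_injective c), hc₀]
      · rw [hc₀, hconst s.1 s.2 x]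
        have := hsum s.1 s.2
        exact (Nat.eq_of_mul_eq_mul_left h.prime.pos (hk.symm.trans this)).symm
    · refine Fintype.card_eq_zero_iff.2 ⟨fun s => hd ?_⟩
      exact ⟨_, hsum s.1 s.2⟩
  have hB := MulAction.sum_card_fixedBy_eq_card_orbits_mul_card_group μ (Sym μ n)
  rw [← Finset.add_sum_erase _ _ (Finset.mem_univ (1 : μ)),
    Finset.sum_congr rfl (fun c hc => hfix c (Finset.mem_erase.1 hc).1), Finset.sum_const, Finset.card_erase_of_mem
    (Finset.mem_univ _), Finset.card_univ, hμ, smul_eq_mul] at hB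
  rw [Nat.card_eq_fintype_card, mul_comm r, ← hB]
  congr 1
  have h1 : Fintype.card (MulAction.fixedBy (Sym μ n) (1 : μ)) = Fintype.card (Sym μ n) :=
    Fintype.card_congr (Equiv.subtypeUnivEquiv fun s => show (1 : μ) • s = s from one_smul μ s)
  rw [h1, Sym.card_sym_eq_choose, hμ, add_comm r n]
  exact Nat.choose_symm_of_eq_add (by have := h.prime.two_le; omega)

/-- The classes killed by `r` in the projective group. -/
theorem ncard_classes_pow (h : Setting F n r G S) :
    {C : ConjClasses (G ⧸ Subgroup.center G) | ∃ g, ConjClasses.mk g = C ∧ g ^ r = 1}.ncard =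
      Nat.card (MulAction.orbitRel.Quotient (rootsOfUnity r F) (Sym (rootsOfUnity r F) n)) +
        (if r ∣ n then r - 1 else 0) := by
  classical
  haveI : NeZero r := ⟨h.prime.ne_zero⟩
  set μ := rootsOfUnity r F
  have hμS : ∀ x : μ, (x : Fˣ) ∈ S := fun x =>
    h.root _ (by rw [(mem_rootsOfUnity r _).1 x.2]; exact S.one_mem)
  -- split representatives
  have hrep : ∀ s : Sym μ n, ∃ (g : G) (v : Fin n → F),
      ((g : GL (Fin n) F) : Matrix (Fin n) (Fin n) F) = Matrix.diagonal v ∧
      (Finset.univ : Finset (Fin n)).val.map v = (s : Multiset μ).map (fun x : μ => ((x : Fˣ) : F)) ∧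
      ((g : GL (Fin n) F) : Matrix (Fin n) (Fin n) F) ^ r = 1 ∧ g ^ r ∈ Subgroup.center G := by
    intro s
    obtain ⟨l, hl, hls⟩ : ∃ l : List μ, l.length = n ∧ (l : Multiset μ) = (s : Multiset μ) :=
      ⟨(s : Multiset μ).toList, by rw [Multiset.length_toList, Sym.card_coe], Multiset.coe_toList _⟩
    subst hl
    obtain ⟨g, hg, hgv⟩ := h.diag (fun j => ((l.get j : μ) : Fˣ)) fun j => hμS _
    have hgr : (g : Matrix (Fin l.length) (Fin l.length) F) ^ r = 1 := by
      rw [hgv, Matrix.diagonal_pow, ← Matrix.diagonal_one]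
      congr 1
      funext j
      rw [Pi.pow_apply, ← Units.val_pow_eq_pow_val, (mem_rootsOfUnity r _).1 (l.get j).2, Units.val_one]
    refine ⟨⟨g, hg⟩, _, hgv, ?_, hgr, (mem_center_iff h _).2 ⟨1, ?_⟩⟩
    · rw [Fin.univ_val_map, ← hls, Multiset.map_coe]
      congr 1
      conv_rhs => rw [← List.ofFn_get l, List.map_ofFn]
      rfl
    · rw [SubgroupClass.coe_pow, Units.val_pow_eq_pow_val, hgr, OneMemClass.coe_one, Units.val_one, one_smul]
  choose d v hdv hdm hdr hdc using hrep
  -- conjugate in the quotient: equal characteristic polynomial after scaling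
  have hscale : ∀ g g' : G, ConjClasses.mk (g : G ⧸ Subgroup.center G) = ConjClasses.mk (g' : G ⧸ Subgroup.center G) →
      ∃ c : S, ((g' : GL (Fin n) F) : Matrix (Fin n) (Fin n) F).charpoly =
        (((c : Fˣ) : F) • ((g : GL (Fin n) F) : Matrix (Fin n) (Fin n) F)).charpoly ∧
        (∀ a : F, ((g : GL (Fin n) F) : Matrix (Fin n) (Fin n) F) ^ r = a • 1 →
          ((g' : GL (Fin n) F) : Matrix (Fin n) (Fin n) F) ^ r = (((c : Fˣ) : F) ^ r * a) • 1) := by
    intro g g' he'
    obtain ⟨x, hx⟩ := isConj_iff.1 (ConjClasses.mk_eq_mk_iff_isConj.1 he')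
    obtain ⟨x, rfl⟩ := QuotientGroup.mk_surjective x
    rw [← QuotientGroup.mk_inv, ← QuotientGroup.mk_mul, ← QuotientGroup.mk_mul, QuotientGroup.eq] at hx
    obtain ⟨c, hc⟩ := (mem_center_iff h _).1 hx
    have hg' : ((g' : GL (Fin n) F) : Matrix (Fin n) (Fin n) F) =
        ((x : GL (Fin n) F) : Matrix (Fin n) (Fin n) F) * ((((c : Fˣ) : F)) • ((g : GL (Fin n) F) : Matrix (Fin n) (Fin n) F)) *
          (((x : GL (Fin n) F)⁻¹ : GL (Fin n) F) : Matrix (Fin n) (Fin n) F) := by
      have e1 : g' = x * g * x⁻¹ * ((x * g * x⁻¹)⁻¹ * g') := by group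
      conv_lhs => rw [e1]
      rw [Subgroup.coe_mul, Units.val_mul, hc, Matrix.mul_smul, Matrix.mul_one, Subgroup.coe_mul, Subgroup.coe_mul,
        Subgroup.coe_inv, Units.val_mul, Units.val_mul, Matrix.mul_smul, Matrix.smul_mul]
    refine ⟨c, ?_, fun a ha => ?_⟩
    · rw [hg', Matrix.coe_units_inv, Matrix.charpoly_units_conj]
    · rw [hg', Units.conj_pow, _root_.smul_pow, ha, smul_smul, Matrix.mul_smul, Matrix.mul_one,
        Matrix.smul_mul, Units.mul_inv]
  have hconv : ∀ g g' : G, g ^ r ∈ Subgroup.center G → g' ^ r ∈ Subgroup.center G → ∀ c : S,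
      ((g' : GL (Fin n) F) : Matrix (Fin n) (Fin n) F).charpoly =
        (((c : Fˣ) : F) • ((g : GL (Fin n) F) : Matrix (Fin n) (Fin n) F)).charpoly →
      ConjClasses.mk (g : G ⧸ Subgroup.center G) = ConjClasses.mk (g' : G ⧸ Subgroup.center G) := by
    intro g g' hg hg' c hc
    obtain ⟨z, hzc, hzv⟩ := exists_scalar h c
    have hz : (g : G ⧸ Subgroup.center G) = ((z * g : G) : G ⧸ Subgroup.center G) := by
      rw [QuotientGroup.mk_mul, (QuotientGroup.eq_one_iff z).2 hzc, one_mul]
    have hzg : (z * g) ^ r ∈ Subgroup.center G := by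
      rw [(show Commute z g from (Subgroup.mem_center_iff.1 hzc g).symm).mul_pow]
      exact mul_mem (pow_mem hzc r) hg
    rw [hz, ConjClasses.mk_eq_mk_iff_isConj]
    refine (QuotientGroup.mk' (Subgroup.center G)).map_isConj (h.conj _ _ (lift_data h _ hzg).1 (lift_data h _ hg').1 ?_)
    rw [hc, Subgroup.coe_mul, Units.val_mul, hzv, Matrix.smul_mul, Matrix.one_mul]
  haveI : Nonempty (Fin n) := ⟨⟨0, h.pos⟩⟩
  have hsmul_inj : ∀ a b : F, a • (1 : Matrix (Fin n) (Fin n) F) = b • 1 → a = b := fun a b hab => by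
    simpa using congrFun (congrFun hab ⟨0, h.pos⟩) ⟨0, h.pos⟩
  -- powers modulo `r`-th powers
  set P := (powMonoidHom r : S →* S).range
  have hnp : ∀ x : S ⧸ P, x ≠ 1 → ∀ b : S, b ^ r ≠ x.out := fun x hx b e => hx (by
    rw [← QuotientGroup.out_eq' x, QuotientGroup.eq_one_iff]
    exact ⟨b, e⟩)
  have hirr : ∀ a : S, (∀ b : S, b ^ r ≠ a) → Irreducible (X ^ r - Polynomial.C ((a : Fˣ) : F)) := fun a ha => by
    refine X_pow_sub_C_irreducible_of_prime h.prime fun b hb => ?_
    have hb0 : b ≠ 0 := fun e0 => (a : Fˣ).ne_zero (by rw [← hb, e0, zero_pow h.prime.ne_zero])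
    exact ha ⟨Units.mk0 b hb0, h.root _ (by rw [show (Units.mk0 b hb0) ^ r = (a : Fˣ) from Units.ext hb]; exact a.2)⟩
      (Subtype.ext (Units.ext hb))
  -- an element with a non-power as its power
  have hcp : ∀ (g : G) (a : S), (∀ b : S, b ^ r ≠ a) →
      ((g : GL (Fin n) F) : Matrix (Fin n) (Fin n) F) ^ r = ((a : Fˣ) : F) • 1 →
      r ∣ n ∧ ((g : GL (Fin n) F) : Matrix (Fin n) (Fin n) F).charpoly = (X ^ r - Polynomial.C ((a : Fˣ) : F)) ^ (n / r) := by
    intro g a ha hga
    set R : F[X] := X ^ r - Polynomial.C ((a : Fˣ) : F)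
    set Q := ((g : GL (Fin n) F) : Matrix (Fin n) (Fin n) F).charpoly
    have hR : aeval (Matrix.toLinAlgEquiv' ((g : GL (Fin n) F) : Matrix (Fin n) (Fin n) F)) R = 0 := by
      rw [map_sub, map_pow, aeval_X, aeval_C, ← map_pow, hga, map_smul, map_one, Algebra.algebraMap_eq_smul_one, sub_self]
    have hQm : Q.Monic := Matrix.charpoly_monic _
    have hRm : R.Monic := monic_X_pow_sub_C _ h.prime.ne_zero
    have hN : ∀ f ∈ normalizedFactors Q, f = R := fun f hf => by
      have hfm : f.Monic := by
        rw [← normalize_normalized_factor f hf]; exact monic_normalize (irreducible_of_normalized_factor f hf).ne_zero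
      exact Polynomial.eq_of_monic_of_associated hfm hRm ((irreducible_of_normalized_factor f hf).associated_of_dvd
        (hirr a ha) (factor_dvd_of_aeval hR hfm (irreducible_of_normalized_factor f hf) (dvd_of_mem_normalizedFactors hf)))
    have hQ : Q = R ^ Multiset.card (normalizedFactors Q) := by
      conv_lhs => rw [← show (normalizedFactors Q).prod = Q by
        rw [prod_normalizedFactors_eq hQm.ne_zero, hQm.normalize_eq_self],
        Multiset.eq_replicate_card.2 hN, Multiset.prod_replicate]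
    have hd := congrArg natDegree hQ
    rw [Matrix.charpoly_natDegree_eq_dim, Fintype.card_fin, natDegree_pow, natDegree_X_pow_sub_C] at hd
    refine ⟨⟨Multiset.card (normalizedFactors Q), hd.trans (mul_comm _ _)⟩, ?_⟩
    rwa [show n / r = Multiset.card (normalizedFactors Q) by rw [hd, Nat.mul_div_cancel _ h.prime.pos]]
  -- representatives without eigenvalues
  have hrep' : ∀ x : {x : S ⧸ P // x ≠ 1 ∧ r ∣ n}, ∃ g : G,
      ((g : GL (Fin n) F) : Matrix (Fin n) (Fin n) F) ^ r = (((x.1.out : S) : Fˣ) : F) • 1 ∧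
      g ^ r ∈ Subgroup.center G := by
    intro x
    obtain ⟨g, hgc, hgP⟩ := h.realise x.2.2 _ (hnp x.1 x.2.1)
    have h0 := aeval_eq_zero_of_factors hgc (g : GL (Fin n) F) (pow_orderOf_eq_one _)
      (R := X ^ r - Polynomial.C (((x.1.out : S) : Fˣ) : F)) (X_pow_sub_C_ne_zero h.prime.pos _) fun f hf hi hd => by
        rw [hgP] at hd
        exact hi.prime.dvd_of_dvd_pow hd
    rw [map_sub, map_pow, aeval_X, aeval_C, ← map_pow, sub_eq_zero, Algebra.algebraMap_eq_smul_one,
      ← map_one (Matrix.toLinAlgEquiv' : Matrix (Fin n) (Fin n) F ≃ₐ[F] _), ← map_smul] at h0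
    have h1 := Matrix.toLinAlgEquiv'.injective h0
    refine ⟨g, h1, (mem_center_iff h _).2 ⟨x.1.out, ?_⟩⟩
    rw [SubgroupClass.coe_pow, Units.val_pow_eq_pow_val, h1]
  choose e he hec using hrep'
  let D := MulAction.orbitRel.Quotient μ (Sym μ n) ⊕ {x : S ⧸ P // x ≠ 1 ∧ r ∣ n}
  let φ : D → ConjClasses (G ⧸ Subgroup.center G) := fun o =>
    ConjClasses.mk (QuotientGroup.mk (Sum.elim (fun w => d (Quotient.out w)) e o) : G ⧸ Subgroup.center G)
  have hroots : ∀ (c : F) (s : Sym μ n),
      ((c • ((d s : GL (Fin n) F) : Matrix (Fin n) (Fin n) F)).charpoly).roots =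
        (s : Multiset μ).map fun x : μ => c * ((x : Fˣ) : F) := fun c s => by
    rw [hdv, charpoly_smul_diag, Finset.prod_eq_multiset_prod]
    rw [show (Finset.univ.val.map fun j => X - Polynomial.C (c * v s j)) =
      ((Finset.univ.val.map (v s)).map fun y => c * y).map (fun y => X - Polynomial.C y) by
      rw [Multiset.map_map, Multiset.map_map]; rfl, roots_prod_linear, hdm, Multiset.map_map]
    rfl
  have hd1 : ∀ s, ((d s : GL (Fin n) F) : Matrix (Fin n) (Fin n) F) ^ r = (1 : F) • 1 := fun s => by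
    rw [hdr, one_smul]
  have hinj : Function.Injective φ := by
    rintro (w | x) (w' | x') hφ
    · obtain ⟨c, hcP, hcr⟩ := hscale _ _ hφ
      have hc1 := (hd1 _).symm.trans (hcr 1 (hd1 _))
      rw [mul_one] at hc1
      have hcμ : (c : Fˣ) ∈ μ := (mem_rootsOfUnity r _).2 (Units.ext (by
        rw [Units.val_pow_eq_pow_val, ← hsmul_inj _ _ hc1, Units.val_one]))
      have h2 := congrArg Polynomial.roots hcP
      simp only [Sum.elim_inl] at h2
      have e1 := hroots 1 (Quotient.out w')
      rw [one_smul] at e1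
      rw [e1, hroots] at h2
      simp only [one_mul] at h2
      have h3 : Quotient.out w' = (⟨(c : Fˣ), hcμ⟩ : μ) • Quotient.out w := by
        refine Sym.coe_injective (Multiset.map_injective (f := fun x : μ => ((x : Fˣ) : F))
          (fun a b hab => Subtype.ext (Units.ext hab)) ?_)
        rw [rot_smul, Multiset.map_map, h2]
        rfl
      congr 1
      rw [← Quotient.out_eq w, ← Quotient.out_eq w']
      refine (Quotient.sound (MulAction.orbitRel_apply.2 ?_)).symm
      exact ⟨_, h3.symm⟩
    · obtain ⟨c, -, hcr⟩ := hscale _ _ hφ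
      have hc1 := (he x').symm.trans (hcr 1 (hd1 _))
      rw [mul_one] at hc1
      exact absurd (Subtype.ext (Units.ext (by
        rw [SubmonoidClass.coe_pow, Units.val_pow_eq_pow_val]; exact (hsmul_inj _ _ hc1).symm))) (hnp x'.1 x'.2.1 c)
    · obtain ⟨c, -, hcr⟩ := hscale _ _ hφ.symm
      have hc1 := (he x).symm.trans (hcr 1 (hd1 _))
      rw [mul_one] at hc1
      exact absurd (Subtype.ext (Units.ext (by
        rw [SubmonoidClass.coe_pow, Units.val_pow_eq_pow_val]; exact (hsmul_inj _ _ hc1).symm))) (hnp x.1 x.2.1 c)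
    · obtain ⟨c, -, hcr⟩ := hscale _ _ hφ
      have hc1 := (he x').symm.trans (hcr _ (he x))
      have h2 : x'.1.out = c ^ r * x.1.out := Subtype.ext (Units.ext (by
        rw [Subgroup.coe_mul, SubmonoidClass.coe_pow, Units.val_mul, Units.val_pow_eq_pow_val]
        exact hsmul_inj _ _ hc1))
      congr 1
      refine Subtype.ext ?_
      rw [← QuotientGroup.out_eq' x.1, ← QuotientGroup.out_eq' x'.1, h2, QuotientGroup.mk_mul,
        (QuotientGroup.eq_one_iff (c ^ r)).2 (MonoidHom.mem_range.2 ⟨c, rfl⟩), one_mul]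
  have hrange : Set.range φ = {C : ConjClasses (G ⧸ Subgroup.center G) | ∃ g, ConjClasses.mk g = C ∧ g ^ r = 1} := by
    ext C
    constructor
    · rintro ⟨o, rfl⟩
      refine ⟨_, rfl, ?_⟩
      rw [← QuotientGroup.mk_pow, QuotientGroup.eq_one_iff]
      rcases o with w | x
      exacts [hdc _, hec x]
    · rintro ⟨g, rfl, hg⟩
      obtain ⟨g, rfl⟩ := QuotientGroup.mk_surjective g
      rw [← QuotientGroup.mk_pow, QuotientGroup.eq_one_iff] at hg
      obtain ⟨-, a, -, hga⟩ := lift_data h g hg
      by_cases hx : (a : S ⧸ P) = 1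
      · obtain ⟨b, hb⟩ := (QuotientGroup.eq_one_iff a).1 hx
        rw [powMonoidHom_apply] at hb
        obtain ⟨z, hzc, hzv⟩ := exists_scalar h b⁻¹
        have hg₁ : (((z * g : G) : GL (Fin n) F) : Matrix (Fin n) (Fin n) F) ^ r = 1 := by
          rw [Subgroup.coe_mul, Units.val_mul, hzv, Matrix.smul_mul, Matrix.one_mul, _root_.smul_pow, hga, smul_smul,
            ← Units.val_pow_eq_pow_val, ← SubmonoidClass.coe_pow, inv_pow, hb, ← Units.val_mul,
            ← Subgroup.coe_mul, inv_mul_cancel, OneMemClass.coe_one, Units.val_one, one_smul]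
        set Q := (((z * g : G) : GL (Fin n) F) : Matrix (Fin n) (Fin n) F).charpoly
        obtain ⟨ζ, -, hζ⟩ := exists_prim h
        have hfac : ∀ f ∈ normalizedFactors Q, ∃ y : F, y ^ r = 1 ∧ f = X - Polynomial.C y := fun f hf => by
          have hfm : f.Monic := by
            rw [← normalize_normalized_factor f hf]; exact monic_normalize (irreducible_of_normalized_factor f hf).ne_zero
          have hd := GLPrimeOrderClasses.factor_dvd (g := ((z * g : G) : GL (Fin n) F)) (r := r)
            (Units.ext (by rw [Units.val_pow_eq_pow_val, hg₁, Units.val_one])) hfm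
            (irreducible_of_normalized_factor f hf) (dvd_of_mem_normalizedFactors hf)
          rw [X_pow_sub_one_eq_prod h.prime.pos hζ] at hd
          obtain ⟨y, hy, hfy⟩ := (irreducible_of_normalized_factor f hf).prime.exists_mem_finset_dvd hd
          exact ⟨y, (Polynomial.mem_nthRootsFinset h.prime.pos (1 : F)).1 hy,
            Polynomial.eq_of_monic_of_associated hfm (monic_X_sub_C y)
              ((irreducible_of_normalized_factor f hf).associated_of_dvd (irreducible_X_sub_C y) hfy)⟩
        choose y hy1 hy2 using hfac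
        let M : Multiset μ := (normalizedFactors Q).attach.map fun f =>
          rootsOfUnity.mkOfPowEq (y f.1 f.2) (hy1 f.1 f.2)
        have hQm : Q.Monic := Matrix.charpoly_monic _
        have hQM : Q = ((M.map fun x : μ => ((x : Fˣ) : F)).map fun x => X - Polynomial.C x).prod := by
          have hMf : (M.map fun x : μ => ((x : Fˣ) : F)).map (fun x => X - Polynomial.C x) = normalizedFactors Q := by
            conv_rhs => rw [← Multiset.attach_map_val (normalizedFactors Q)]
            rw [Multiset.map_map, Multiset.map_map]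
            refine Multiset.map_congr rfl fun f _ => ?_
            show X - Polynomial.C ((((rootsOfUnity.mkOfPowEq (y f.1 f.2) (hy1 f.1 f.2) : μ) : Fˣ) : F)) = f.1
            rw [rootsOfUnity.coe_mkOfPowEq, ← hy2]
          rw [hMf, prod_normalizedFactors_eq hQm.ne_zero, hQm.normalize_eq_self]
        have hM : Multiset.card M = n := by
          have := congrArg natDegree hQM
          rw [Matrix.charpoly_natDegree_eq_dim, Fintype.card_fin, natDegree_multiset_prod_X_sub_C_eq_card,
            Multiset.card_map] at this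
          exact this.symm
        set s : Sym μ n := Sym.mk M hM
        refine ⟨Sum.inl (Quotient.mk'' s), ?_⟩
        obtain ⟨ζ', hζ'⟩ := MulAction.orbitRel_apply.1 (Quotient.mk_out s : (MulAction.orbitRel μ (Sym μ n)).r _ _)
        have hz : ((z * g : G) : G ⧸ Subgroup.center G) = (g : G ⧸ Subgroup.center G) := by
          rw [QuotientGroup.mk_mul, (QuotientGroup.eq_one_iff z).2 hzc, one_mul]
        show ConjClasses.mk ((d (Quotient.out (Quotient.mk'' s : MulAction.orbitRel.Quotient μ (Sym μ n)))) :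
          G ⧸ Subgroup.center G) = _
        rw [← hz]
        refine (hconv (z * g) _ ?_ (hdc _) ⟨(ζ' : Fˣ), hμS ζ'⟩ ?_).symm
        · refine (mem_center_iff h _).2 ⟨1, ?_⟩
          rw [SubgroupClass.coe_pow, Units.val_pow_eq_pow_val, hg₁, OneMemClass.coe_one, Units.val_one, one_smul]
        · -- both are products of the same linear factors
          have hsc : (((ζ' : Fˣ) : F) • (((z * g : G) : GL (Fin n) F) : Matrix (Fin n) (Fin n) F)).charpoly =
              (((ζ' : Fˣ) : F) • ((d s : GL (Fin n) F) : Matrix (Fin n) (Fin n) F)).charpoly := by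
            have hQs : (((z * g : G) : GL (Fin n) F) : Matrix (Fin n) (Fin n) F).charpoly =
                ((d s : GL (Fin n) F) : Matrix (Fin n) (Fin n) F).charpoly := by
              rw [hdv, Matrix.charpoly_diagonal, Finset.prod_eq_multiset_prod]
              refine hQM.trans ?_
              rw [show (Finset.univ.val.map fun j => X - Polynomial.C (v s j)) =
                (Finset.univ.val.map (v s)).map fun y => X - Polynomial.C y by rw [Multiset.map_map]; rfl, hdm]
              rfl
            obtain ⟨u, hu⟩ := isConj_iff.1 (h.conj (z * g) (d s)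
              (lift_data h _ ((mem_center_iff h _).2 ⟨1, by
                rw [SubgroupClass.coe_pow, Units.val_pow_eq_pow_val, hg₁, OneMemClass.coe_one, Units.val_one, one_smul]⟩)).1
              (lift_data h _ (hdc s)).1 hQs)
            rw [← hu]
            simp only [Subgroup.coe_mul, Subgroup.coe_inv, Units.val_mul]
            have key : ∀ (k : F) (u : GL (Fin n) F) (A : Matrix (Fin n) (Fin n) F),
                (k • ((u : Matrix (Fin n) (Fin n) F) * A * ((u⁻¹ : GL (Fin n) F) : Matrix (Fin n) (Fin n) F))).charpoly =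
                  (k • A).charpoly := fun k u A => by
              rw [← Matrix.smul_mul, ← Matrix.mul_smul, Matrix.coe_units_inv, Matrix.charpoly_units_conj]
            exact (key _ _ _).symm
          rw [hsc]
          have hev : ∀ s' : Sym μ n, ((d s' : GL (Fin n) F) : Matrix (Fin n) (Fin n) F).charpoly =
              (((s' : Multiset μ).map fun x : μ => ((x : Fˣ) : F)).map fun y => X - Polynomial.C y).prod := fun s' => by
            rw [hdv, Matrix.charpoly_diagonal, Finset.prod_eq_multiset_prod, ← hdm, Multiset.map_map]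
            rfl
          rw [hev, hdv s, charpoly_smul_diag, Finset.prod_eq_multiset_prod,
            show (Finset.univ.val.map fun j => X - Polynomial.C (((ζ' : Fˣ) : F) * v s j)) =
              ((Finset.univ.val.map (v s)).map fun y => ((ζ' : Fˣ) : F) * y).map (fun y => X - Polynomial.C y) by
              rw [Multiset.map_map, Multiset.map_map]; rfl, hdm]
          congr 2
          rw [Multiset.map_map, show Quotient.out (Quotient.mk'' s : MulAction.orbitRel.Quotient μ (Sym μ n)) = ζ' • s
            from hζ'.symm, rot_smul, Multiset.map_map]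
          rfl
      · obtain ⟨hrn, -⟩ := hcp g a (fun b hb => hx ((QuotientGroup.eq_one_iff a).2 ⟨b, hb⟩)) hga
        refine ⟨Sum.inr ⟨(a : S ⧸ P), hx, hrn⟩, ?_⟩
        set x : {x : S ⧸ P // x ≠ 1 ∧ r ∣ n} := ⟨(a : S ⧸ P), hx, hrn⟩
        obtain ⟨b, hb⟩ := (QuotientGroup.eq (s := P)).1 (QuotientGroup.out_eq' (a : S ⧸ P)).symm
        rw [powMonoidHom_apply] at hb
        have hx' : x.1.out = b ^ r * a := by rw [hb, mul_comm a⁻¹, mul_assoc, inv_mul_cancel, mul_one]
        obtain ⟨z, hzc, hzv⟩ := exists_scalar h b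
        refine (hconv g (e x) hg (hec x) b ?_).symm
        have hzg : (((z * g : G) : GL (Fin n) F) : Matrix (Fin n) (Fin n) F) =
            ((b : Fˣ) : F) • ((g : GL (Fin n) F) : Matrix (Fin n) (Fin n) F) := by
          rw [Subgroup.coe_mul, Units.val_mul, hzv, Matrix.smul_mul, Matrix.one_mul]
        rw [(hcp (e x) _ (hnp x.1 x.2.1) (he x)).2, ← hzg, (hcp (z * g) x.1.out (hnp x.1 x.2.1) ?_).2]
        rw [hzg, _root_.smul_pow, hga, smul_smul, hx', Subgroup.coe_mul, SubmonoidClass.coe_pow, Units.val_mul,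
          Units.val_pow_eq_pow_val]
  rw [← hrange, ← Nat.card_coe_set_eq, Nat.card_range_of_injective hinj, Nat.card_sum]
  congr 1
  split_ifs with hd
  · rw [← natCard_nonPowers h]
    exact Nat.card_congr (Equiv.subtypeEquivRight fun x => and_iff_left hd)
  · haveI : IsEmpty {x : S ⧸ P // x ≠ 1 ∧ r ∣ n} := ⟨fun x => hd x.2.2⟩
    exact Nat.card_of_isEmpty

/-- The classes of elements of order `r` in the projective group. -/
theorem natCard_classes (h : Setting F n r G S) (hn : 2 ≤ n) :
    Nat.card {C : ConjClasses (G ⧸ Subgroup.center G) //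
        ∃ g : G ⧸ Subgroup.center G, ConjClasses.mk g = C ∧ orderOf g = r} =
      (Nat.choose (n + r - 1) (r - 1) - r - (if r ∣ n then 1 else 0)) / r + r * (if r ∣ n then 1 else 0) := by
  classical
  set A := {C : ConjClasses (G ⧸ Subgroup.center G) | ∃ g, ConjClasses.mk g = C ∧ g ^ r = 1}
  have hB : {C : ConjClasses (G ⧸ Subgroup.center G) | ∃ g, ConjClasses.mk g = C ∧ orderOf g = r} =
      A \ {ConjClasses.mk 1} := by
    ext C
    constructor
    · rintro ⟨g, rfl, hg⟩
      refine ⟨⟨g, rfl, hg ▸ pow_orderOf_eq_one g⟩, fun e => ?_⟩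
      rw [Set.mem_singleton_iff, ConjClasses.mk_eq_mk_iff_isConj, isConj_one_left] at e
      rw [e, orderOf_one] at hg
      exact h.prime.one_lt.ne hg
    · rintro ⟨⟨g, rfl, hg⟩, hne⟩
      refine ⟨g, rfl, (h.prime.eq_one_or_self_of_dvd _ (orderOf_dvd_of_pow_eq_one hg)).resolve_left fun e => ?_⟩
      exact hne (by rw [orderOf_eq_one_iff.1 e]; rfl)
  show Nat.card {C : ConjClasses (G ⧸ Subgroup.center G) | ∃ g, ConjClasses.mk g = C ∧ orderOf g = r} = _
  rw [hB, Nat.card_coe_set_eq, Set.ncard_sdiff_singleton_of_mem (show ConjClasses.mk 1 ∈ A from ⟨1, rfl, one_pow r⟩),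
    ncard_classes_pow h]
  have ho := card_orbits h
  set O := Nat.card (MulAction.orbitRel.Quotient (rootsOfUnity r F) (Sym (rootsOfUnity r F) n))
  set C := Nat.choose (n + r - 1) (r - 1)
  have hr2 := h.prime.two_le
  have hC : r + 1 ≤ C := by
    have h1 : Nat.choose (r + 1) (r - 1) ≤ C := Nat.choose_le_choose _ (by omega)
    refine le_trans ?_ h1
    rw [Nat.choose_symm_of_eq_add (show r + 1 = (r - 1) + 2 by omega), Nat.choose_two_right, Nat.le_div_iff_mul_le two_pos,
      Nat.add_sub_cancel]
    exact Nat.mul_le_mul_left _ hr2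
  split_ifs at ho ⊢ with hd
  · obtain ⟨k, hk⟩ : ∃ k, O = k + 2 := ⟨O - 2, by
      rcases O with _ | _ | O <;> simp at ho <;> omega⟩
    rw [hk, Nat.mul_add] at ho
    rw [show C - r - 1 = r * k by omega, Nat.mul_div_cancel_left _ h.prime.pos]
    omega
  · obtain ⟨k, hk⟩ : ∃ k, O = k + 1 := ⟨O - 1, by
      rcases O with _ | O <;> simp at ho <;> omega⟩
    rw [hk, Nat.mul_add] at ho
    rw [show C - r - 0 = r * k by omega, Nat.mul_div_cancel_left _ h.prime.pos]
    omega

end Cfsg.Agent.ProjPrimeOrderClasses
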