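import Mathlib
import Cfsg.Agent.Lib.Classical.DicksonEmbed

/-!
Restriction of scalars along a quadratic extension of finite fields, by explicit two by two blocks.
-/

set_option autoImplicit false

namespace Cfsg.Agent.Classical.QuadRes

open Matrix

/-- A quadratic extension of finite fields with coordinates. -/
structure Quad (F K : Type*) [Field F] [Field K] where
  φ : F →+* K
  θ : K
  s : F
  t : F
  q : ℕ
  bij : Function.Bijective fun p : F × F => φ p.1 + φ p.2 * θ
  sq : θ * θ = φ s * θ + φ t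
  bar : ∀ x y : F, (φ x + φ y * θ) ^ q = φ x + φ y * (φ s - θ)
  barθ : φ s - θ ≠ θ

variable {F K : Type*} [Field F] [Field K]

theorem exists_quad [Fintype F] [Fintype K] {q : ℕ} (hK : Fintype.card K = q ^ 2) (hF : Fintype.card F = q) :
    ∃ D : Quad F K, D.q = q := by
  classical
  obtain ⟨φ⟩ : Nonempty (F →+* K) := by
    obtain ⟨f⟩ := Dickson.exists_ringHom_of_card_pow (K := F) (F := K) (m := 2) (by rw [hF, hK])
    exact ⟨f⟩
  have hq : 1 < q := hF ▸ Fintype.one_lt_card
  obtain ⟨θ, hθ⟩ : ∃ θ : K, θ ∉ Set.range φ := by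
    by_contra hc
    push Not at hc
    have h := Fintype.card_le_of_surjective φ hc
    rw [hK, hF, pow_two] at h
    have : q * 2 ≤ q * q := Nat.mul_le_mul_left _ hq
    omega
  have hinj : Function.Injective fun p : F × F => φ p.1 + φ p.2 * θ := by
    rintro ⟨x, y⟩ ⟨x', y'⟩ h
    simp only at h
    by_cases hy : y = y'
    · subst hy
      exact Prod.ext (φ.injective (add_right_cancel h)) rfl
    · refine absurd ⟨(x - x') / (y' - y), ?_⟩ hθ
      rw [map_div₀, map_sub, map_sub,
        div_eq_iff (sub_ne_zero.mpr fun e => hy (φ.injective e).symm)]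
      linear_combination h
  have hbij := (Fintype.bijective_iff_injective_and_card _).mpr
    ⟨hinj, by rw [Fintype.card_prod, hF, hK, pow_two]⟩
  obtain ⟨⟨t, s⟩, hst⟩ := hbij.2 (θ * θ)
  simp only at hst
  have hfr : ∀ x : F, φ x ^ q = φ x := fun x => by rw [← map_pow, ← hF, FiniteField.pow_card]
  have hadd : ∀ u v : K, (u + v) ^ q = u ^ q + v ^ q := by
    obtain ⟨p, hp⟩ := CharP.exists K
    haveI : Fact p.Prime := ⟨CharP.char_is_prime K p⟩
    haveI : CharP F p := (φ.charP_iff φ.injective p).mpr hp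
    obtain ⟨n, -, hn⟩ := FiniteField.card F p
    intro u v
    rw [← hF, hn, add_pow_char_pow]
  have hθq : θ ^ q ≠ θ := by
    intro h
    have hall : ∀ z : K, z ^ q = z := fun z => by
      obtain ⟨⟨x, y⟩, rfl⟩ := hbij.2 z
      simp only
      rw [hadd, mul_pow, hfr, hfr, h]
    have hp := FiniteField.X_pow_card_sub_X_natDegree_eq K (p := q) hq
    have hne := FiniteField.X_pow_card_sub_X_ne_zero K (p := q) hq
    have hr := Polynomial.card_roots' (Polynomial.X ^ q - Polynomial.X : Polynomial K)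
    rw [hp] at hr
    have hsub : (Finset.univ : Finset K) ⊆ (Polynomial.X ^ q - Polynomial.X : Polynomial K).roots.toFinset :=
      fun z _ => by rw [Multiset.mem_toFinset, Polynomial.mem_roots hne, Polynomial.IsRoot.def]; simp [hall z]
    have h1 := (Finset.card_le_card hsub).trans (Multiset.toFinset_card_le _)
    rw [Finset.card_univ, hK, pow_two] at h1
    have : q * 2 ≤ q * q := Nat.mul_le_mul_left _ hq
    omega
  have hbar : θ ^ q = φ s - θ := by
    have h : (θ * θ) ^ q = (φ t + φ s * θ) ^ q := by rw [hst]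
    rw [mul_pow, hadd, mul_pow, hfr, hfr] at h
    have hz : (θ ^ q - θ) * (θ ^ q - (φ s - θ)) = 0 := by linear_combination h + hst
    exact sub_eq_zero.mp ((mul_eq_zero.mp hz).resolve_left (sub_ne_zero.mpr hθq))
  exact ⟨⟨φ, θ, s, t, q, hbij, by rw [← hst]; ring, fun x y => by rw [hadd, mul_pow, hfr, hfr, hbar],
    hbar ▸ hθq⟩, rfl⟩

namespace Quad

variable (D : Quad F K)

/-- The coordinates. -/
noncomputable def co : K ≃ F × F := (Equiv.ofBijective _ D.bij).symm

theorem co_spec (k : K) : D.φ (D.co k).1 + D.φ (D.co k).2 * D.θ = k :=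
  (Equiv.ofBijective _ D.bij).apply_symm_apply k

theorem co_eq {k : K} {x y : F} (h : k = D.φ x + D.φ y * D.θ) : D.co k = (x, y) := by
  subst h
  exact (Equiv.ofBijective _ D.bij).symm_apply_apply (x, y)

/-- The regular representation. -/
noncomputable def ρ : K →+* Matrix (Fin 2) (Fin 2) F where
  toFun k := !![(D.co k).1, D.t * (D.co k).2; (D.co k).2, (D.co k).1 + D.s * (D.co k).2]
  map_one' := by
    rw [D.co_eq (x := 1) (y := 0) (by simp)]
    ext i j; fin_cases i <;> fin_cases j <;> simp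
  map_zero' := by
    rw [D.co_eq (x := 0) (y := 0) (by simp)]
    ext i j; fin_cases i <;> fin_cases j <;> simp
  map_add' a b := by
    obtain ⟨⟨x, y⟩, rfl⟩ := D.bij.2 a
    obtain ⟨⟨u, v⟩, rfl⟩ := D.bij.2 b
    simp only
    rw [D.co_eq (x := x) (y := y) rfl, D.co_eq (x := u) (y := v) rfl,
      D.co_eq (x := x + u) (y := y + v) (by rw [map_add, map_add]; ring)]
    ext i j; fin_cases i <;> fin_cases j <;> simp <;> ring
  map_mul' a b := by
    obtain ⟨⟨x, y⟩, rfl⟩ := D.bij.2 a
    obtain ⟨⟨u, v⟩, rfl⟩ := D.bij.2 b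
    simp only
    rw [D.co_eq (x := x) (y := y) rfl, D.co_eq (x := u) (y := v) rfl,
      D.co_eq (x := x * u + D.t * (y * v)) (y := x * v + y * u + D.s * (y * v))
        (by simp only [map_add, map_mul]; linear_combination (D.φ y * D.φ v) * D.sq)]
    ext i j; fin_cases i <;> fin_cases j <;> simp [Matrix.mul_apply, Fin.sum_univ_two] <;> ring

theorem ρ_apply (x y : F) :
    D.ρ (D.φ x + D.φ y * D.θ) = !![x, D.t * y; y, x + D.s * y] := by
  show !![_, _; _, _] = _
  rw [D.co_eq (x := x) (y := y) rfl]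

theorem t_ne : D.t ≠ 0 := by
  intro h
  have h1 : D.θ * (D.θ - D.φ D.s) = 0 := by
    have := D.sq; rw [h, map_zero] at this; linear_combination this
  have h2 : ∀ c : F, D.θ ≠ D.φ c := fun c e => by
    have := (D.co_eq (k := D.θ) (x := 0) (y := 1) (by simp)).symm.trans (D.co_eq (x := c) (y := 0) (by simp [e]))
    simp at this
  rcases mul_eq_zero.mp h1 with e | e
  · exact h2 0 (by simpa using e)
  · exact h2 D.s (sub_eq_zero.mp e)

theorem ρ_injective : Function.Injective D.ρ := D.ρ.injective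

theorem self_adjoint (k : K) :
    D.ρ k * !![D.t, 0; 0, 1] = !![D.t, 0; 0, 1] * (D.ρ k)ᵀ := by
  obtain ⟨⟨x, y⟩, rfl⟩ := D.bij.2 k
  rw [ρ_apply]
  ext i j; fin_cases i <;> fin_cases j <;> simp [Matrix.mul_apply, Fin.sum_univ_two] <;> ring

theorem bar_adjoint (k : K) :
    D.ρ k * !![(0 : F), -1; 1, 0] = !![(0 : F), -1; 1, 0] * (D.ρ (k ^ D.q))ᵀ := by
  obtain ⟨⟨x, y⟩, rfl⟩ := D.bij.2 k
  simp only
  rw [D.bar, show D.φ x + D.φ y * (D.φ D.s - D.θ) = D.φ (x + y * D.s) + D.φ (-y) * D.θ by
    simp only [map_add, map_mul, map_neg]; ring, ρ_apply, ρ_apply]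
  ext i j; fin_cases i <;> fin_cases j <;> simp [Matrix.mul_apply, Fin.sum_univ_two] <;> ring

/-- The block form of a matrix over the extension. -/
noncomputable def res (I : Type*) [Fintype I] [DecidableEq I] :
    Matrix I I K →+* Matrix (I × Fin 2) (I × Fin 2) F :=
  ((Matrix.compRingEquiv I (Fin 2) F).toRingHom).comp D.ρ.mapMatrix

theorem res_apply {I : Type*} [Fintype I] [DecidableEq I] (M : Matrix I I K) (i j : I) (a b : Fin 2) :
    D.res I M (i, a) (j, b) = D.ρ (M i j) a b := rfl

theorem res_injective (I : Type*) [Fintype I] [DecidableEq I] : Function.Injective (D.res I) := by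
  intro M N h
  ext i j
  refine D.ρ_injective ?_
  ext a b
  exact congrFun (congrFun h (i, a)) (j, b)

/-- Blocks constant on the diagonal. -/
def blockConst {I : Type*} [DecidableEq I] (G : Matrix I I F) (S : Matrix (Fin 2) (Fin 2) F) :
    Matrix (I × Fin 2) (I × Fin 2) F := Matrix.of fun a b => G a.1 b.1 * S a.2 b.2

theorem res_congr {I : Type*} [Fintype I] [DecidableEq I] (σ : K → K) (S : Matrix (Fin 2) (Fin 2) F)
    (hS : ∀ k, D.ρ k * S = S * (D.ρ (σ k))ᵀ) (M : Matrix I I K) (G : Matrix I I F)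
    (hσG : ∀ k c, σ (D.φ c * k) = D.φ c * σ k)
    (hM : ∀ i j, ∑ a, ∑ b, M j b * σ (D.φ (G a b) * M i a) = D.φ (G i j)) :
    D.res I M * blockConst G S * (D.res I M)ᵀ = blockConst G S := by
  ext ⟨i, a⟩ ⟨j, b⟩
  have key : ∀ x y : I, (D.ρ (M i x) * (G x y • S) * (D.ρ (M j y))ᵀ) =
      S * (D.ρ (M j y * σ (D.φ (G x y) * M i x)))ᵀ := by
    intro x y
    rw [map_mul, Matrix.transpose_mul, hσG, ← Matrix.mul_assoc]
    congr 1
    rw [map_mul, Matrix.transpose_mul, Matrix.mul_smul, hS,
      show D.ρ (D.φ (G x y)) = !![G x y, D.t * 0; 0, G x y + D.s * 0] by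
        rw [← ρ_apply, map_zero, zero_mul, add_zero],
      ← Matrix.mul_assoc]
    ext u v
    fin_cases v <;> simp [Matrix.mul_apply, Fin.sum_univ_two] <;> ring
  have h1 : (∑ x, ∑ y, D.ρ (M i x) * (G x y • S) * (D.ρ (M j y))ᵀ) = G i j • S := by
    simp only [key, ← Finset.mul_sum, ← Matrix.transpose_sum, ← map_sum, hM]
    rw [show D.ρ (D.φ (G i j)) = !![G i j, D.t * 0; 0, G i j + D.s * 0] by
        rw [← ρ_apply, map_zero, zero_mul, add_zero]]
    ext u v
    fin_cases v <;> simp [Matrix.mul_apply, Fin.sum_univ_two] <;> ring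
  have h2 := congrFun (congrFun h1 a) b
  simp only [Matrix.sum_apply, Matrix.mul_apply, Matrix.smul_apply, Matrix.transpose_apply, smul_eq_mul] at h2
  simp only [Matrix.mul_apply, Fintype.sum_prod_type, res_apply, Matrix.transpose_apply, blockConst, Matrix.of_apply]
  rw [← h2, Finset.sum_comm]
  simp only [Finset.sum_mul]
  conv_lhs => enter [2, y]; rw [Finset.sum_comm]
  rw [Finset.sum_comm]
  refine Finset.sum_congr rfl fun y _ => ?_
  rw [Finset.sum_comm]

end Quad

/-- A monoid map into a subgroup, read after a reindexing. -/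
noncomputable def reindexHom {I J : Type*} [Fintype I] [DecidableEq I] [Fintype J] [DecidableEq J] (e : I ≃ J) :
    Matrix I I F →+* Matrix J J F := (Matrix.reindexAlgEquiv F F e).toRingHom

end Cfsg.Agent.Classical.QuadRes
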