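import Cfsg.Agent.Lib.Grp.RankOneCentral
import Cfsg.Agent.Lib.Transfer.PSUThreeIndex.Main
import Cfsg.Agent.Lib.Classical.SLNormal
import Cfsg.Agent.Lib.Classical.UnitMultMain
import Cfsg.Agent.Lib.Lie.SympWreath

/-!
`SL₂`, `PSL₂`, `SU₃`, `PSU₃` over fields of characteristic `p ≥ 5` as rank one data.
-/

set_option autoImplicit false
set_option linter.unusedSectionVars false

namespace Cfsg.Agent.RankOneCentral

open Matrix

/-- A unit of the prime field whose order is `p - 1`. -/
theorem exists_prime_unit (F : Type*) [Field F] (p : ℕ) [hp : Fact p.Prime] [CharP F p] (h5 : 5 ≤ p) :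
    ∃ a : F, a ≠ 0 ∧ a ^ (p - 1) = 1 ∧ a ^ 2 ≠ 1 ∧ ∀ k : ℕ, a ^ p ^ k = a := by
  obtain ⟨g, hg⟩ := IsCyclic.exists_generator (α := (ZMod p)ˣ)
  have ho : orderOf g = p - 1 := by
    rw [orderOf_eq_card_of_forall_mem_zpowers hg, Nat.card_eq_fintype_card, ZMod.card_units]
  let f : ZMod p →+* F := ZMod.castHom dvd_rfl F
  have hf : Function.Injective f := f.injective
  have h1 : (f g) ^ (p - 1) = 1 := by
    rw [← map_pow, ← Units.val_pow_eq_pow_val, ← ho, pow_orderOf_eq_one, Units.val_one, map_one]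
  have h0 : f g ≠ 0 := (map_ne_zero f).2 g.ne_zero
  have hp' : (f g) ^ p = f g := by
    calc (f g) ^ p = (f g) ^ (p - 1 + 1) := by congr 1; omega
      _ = f g := by rw [pow_succ, h1, one_mul]
  refine ⟨f g, h0, h1, fun h => ?_, fun k => ?_⟩
  · rw [← map_pow, ← map_one f] at h
    have h2 : g ^ 2 = 1 := Units.ext (by rw [Units.val_pow_eq_pow_val, Units.val_one]; exact hf h)
    have := Nat.le_of_dvd two_pos (orderOf_dvd_of_pow_eq_one h2)
    omega
  · induction k with
    | zero => simp
    | succ k ih => rw [pow_succ, pow_mul, ih, hp']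

theorem card_mul_relIndex' {G : Type*} [Group G] {H K : Subgroup G} (h : H ≤ K) :
    Nat.card H * H.relIndex K = Nat.card K := by
  rw [← Nat.card_congr (Subgroup.subgroupOfEquivOfLe h).toEquiv]
  exact (H.subgroupOf K).card_mul_index

section SL

variable (F : Type) [Field F] [Fintype F]

local notation "SS" => Matrix.SpecialLinearGroup (Fin 2) F

/-- The unit upper triangular subgroup. -/
def upperUni : Subgroup SS where
  carrier := {g | g.1 1 0 = 0 ∧ g.1 0 0 = 1}
  one_mem' := by simp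
  mul_mem' := by
    intro a b ha hb
    constructor <;> simp [Matrix.mul_apply, Fin.sum_univ_two, ha.1, ha.2, hb.1, hb.2]
  inv_mem' := by
    intro a ha
    have hd := a.2
    rw [det_fin_two, ha.1, ha.2, one_mul, mul_zero, sub_zero] at hd
    constructor <;> simp [Matrix.SpecialLinearGroup.coe_inv, adjugate_fin_two, ha.1, hd]

/-- The upper triangular subgroup. -/
def upperBorel : Subgroup SS where
  carrier := {g | g.1 1 0 = 0}
  one_mem' := by simp
  mul_mem' := by
    intro a b ha hb
    simp only [Set.mem_setOf_eq] at ha hb ⊢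
    simp [Matrix.mul_apply, Fin.sum_univ_two, ha, hb]
  inv_mem' := by
    intro a ha
    simp only [Set.mem_setOf_eq] at ha ⊢
    simp [Matrix.SpecialLinearGroup.coe_inv, adjugate_fin_two, ha]

/-- The triangular element with entries `a`, `x`, `a⁻¹`. -/
def upT (a : Fˣ) (x : F) : SS := ⟨!![(a : F), x; 0, ((a⁻¹ : Fˣ) : F)], by simp [det_fin_two]⟩

/-- The diagonal element with entries `a`, `a⁻¹`. -/
def diagEl (a : Fˣ) : SS := upT F a 0

variable {F}

@[simp] theorem upT_val (a : Fˣ) (x : F) :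
    (upT F a x : Matrix (Fin 2) (Fin 2) F) = !![(a : F), x; 0, ((a⁻¹ : Fˣ) : F)] := rfl

theorem mem_upperUni {g : SS} : g ∈ upperUni F ↔ g.1 1 0 = 0 ∧ g.1 0 0 = 1 := Iff.rfl

theorem mem_upperBorel {g : SS} : g ∈ upperBorel F ↔ g.1 1 0 = 0 := Iff.rfl

/-- Coordinates on the unit triangular group. -/
noncomputable def upperUniEquiv : upperUni F ≃ F where
  toFun g := g.1.1 0 1
  invFun x := ⟨upT F 1 x, by simp [mem_upperUni]⟩
  left_inv g := by
    have hd := g.1.2
    rw [det_fin_two, g.2.1, g.2.2, one_mul, mul_zero, sub_zero] at hd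
    refine Subtype.ext (Subtype.ext (Matrix.ext fun i j => ?_))
    fin_cases i <;> fin_cases j <;> simp [g.2.1, g.2.2, hd]
  right_inv x := by simp

/-- Coordinates on the triangular group. -/
noncomputable def upperBorelEquiv : upperBorel F ≃ Fˣ × F where
  toFun g := (Units.mk0 (g.1.1 0 0) (fun h => by
      have hd := g.1.2
      rw [det_fin_two, h, mem_upperBorel.1 g.2, zero_mul, mul_zero, sub_zero] at hd
      exact zero_ne_one hd), g.1.1 0 1)
  invFun x := ⟨upT F x.1 x.2, by simp [mem_upperBorel]⟩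
  left_inv g := by
    have hd := g.1.2
    rw [det_fin_two, mem_upperBorel.1 g.2, mul_zero, sub_zero] at hd
    refine Subtype.ext (Subtype.ext (Matrix.ext fun i j => ?_))
    fin_cases i <;> fin_cases j <;> simp [mem_upperBorel.1 g.2, (eq_inv_of_mul_eq_one_right hd).symm]
  right_inv x := by simp

theorem diagEl_pow (a : Fˣ) (i : ℕ) : diagEl F a ^ i = diagEl F (a ^ i) := by
  induction i with
  | zero =>
    refine Subtype.ext (Matrix.ext fun i j => ?_)
    fin_cases i <;> fin_cases j <;> simp [diagEl]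
  | succ i ih =>
    rw [pow_succ, ih]
    refine Subtype.ext (Matrix.ext fun k l => ?_)
    fin_cases k <;> fin_cases l <;> simp [diagEl, Matrix.mul_apply, Fin.sum_univ_two, pow_succ, mul_comm]

theorem exists_dataSL (p : ℕ) [hp : Fact p.Prime] [CharP F p] (h5 : 5 ≤ p) :
    Nonempty (Data p SS) := by
  classical
  obtain ⟨k, -, hk⟩ := FiniteField.card F p
  obtain ⟨a, ha0, ha1, ha2, -⟩ := exists_prime_unit F p h5
  obtain ⟨g, hg⟩ := IsCyclic.exists_generator (α := Fˣ)
  have hU : Nat.card (upperUni F) = Fintype.card F := by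
    rw [Nat.card_congr upperUniEquiv, Nat.card_eq_fintype_card]
  have hB : Nat.card (upperBorel F) = (Fintype.card F - 1) * Fintype.card F := by
    rw [Nat.card_congr upperBorelEquiv, Nat.card_prod, Nat.card_eq_fintype_card, Fintype.card_units,
      Nat.card_eq_fintype_card]
  have hq : 5 ≤ Fintype.card F := le_trans h5 (by rw [hk]; exact Nat.le_self_pow k.pos.ne' p)
  have hle : upperUni F ≤ upperBorel F := fun x hx => hx.1
  have hdiag : ∀ (b : Fˣ), diagEl F b ∈ upperBorel F := fun b => by simp [mem_upperBorel, diagEl]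
  refine ⟨{
    U := upperUni F
    B := upperBorel F
    le := hle
    isP := IsPGroup.of_card (hU.trans hk)
    ne := ?_
    index := ?_
    norm := ?_
    cop := ?_
    cyc := ⟨diagEl F g, hdiag g, ?_⟩
    b₀ := diagEl F (Units.mk0 a ha0)
    hb₀ := hdiag _
    hpow := ?_
    reg := ?_
    free := ?_
    perfect := ?_ }⟩
  · intro h
    rw [h, Subgroup.card_bot] at hU
    omega
  · have h1 := (upperBorel F).card_mul_index
    rw [hB, Cfsg.Agent.Lie.SympWreath.natCard_SL2] at h1
    rw [hU]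
    refine Nat.eq_of_mul_eq_mul_left (Nat.mul_pos (show 0 < Fintype.card F - 1 by omega)
      (show 0 < Fintype.card F by omega)) (h1.trans ?_)
    obtain ⟨c, hc⟩ : ∃ c, Fintype.card F = c + 1 := ⟨_, (Nat.sub_add_cancel (by omega : 1 ≤ Fintype.card F)).symm⟩
    rw [hc, Nat.add_sub_cancel, show (c + 1) ^ 2 - 1 = c * (c + 2) by
      rw [show (c + 1) ^ 2 = c * (c + 2) + 1 by ring, Nat.add_sub_cancel]]
    ring
  · intro b hb u hu
    have hb1 := mem_upperBorel.1 hb
    have hd := b.2
    rw [det_fin_two, hb1, mul_zero, sub_zero] at hd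
    refine mem_upperUni.2 ⟨?_, ?_⟩ <;>
      simp [Matrix.mul_apply, Fin.sum_univ_two, Matrix.SpecialLinearGroup.coe_inv, adjugate_fin_two,
        hb1, hu.1, hu.2, hd]
  · have h1 := Cfsg.Agent.RankOneCentral.card_mul_relIndex' hle
    rw [hU, hB, mul_comm] at h1
    rw [Nat.eq_of_mul_eq_mul_right (show 0 < Fintype.card F by omega) h1]
    intro h
    have h2 : p ∣ Fintype.card F := hk ▸ dvd_pow_self p k.pos.ne'
    have h3 := (Nat.dvd_add_right h).1
      (show p ∣ (Fintype.card F - 1) + 1 by rwa [Nat.sub_add_cancel (by omega : 1 ≤ Fintype.card F)])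
    exact hp.out.not_dvd_one h3
  · intro x hx
    have hx1 := mem_upperBorel.1 hx
    have hx0 : x.1 0 0 ≠ 0 := by
      intro h
      have hd := x.2
      rw [det_fin_two, h, hx1, zero_mul, mul_zero, sub_zero] at hd
      exact zero_ne_one hd
    obtain ⟨i, hi⟩ := (mem_powers_iff_mem_zpowers).2 (hg (Units.mk0 _ hx0))
    refine ⟨i, ?_⟩
    have hi' : ((g : F)) ^ i = x.1 0 0 := by
      have := congrArg Units.val hi
      simpa using this
    rw [diagEl_pow]
    refine mem_upperUni.2 ⟨?_, ?_⟩ <;>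
      simp [Matrix.mul_apply, Fin.sum_univ_two, Matrix.SpecialLinearGroup.coe_inv, adjugate_fin_two,
        diagEl, hx1, hi', hx0]
  · rw [diagEl_pow]
    simp [mem_upperUni, diagEl, ha1]
  · intro u hu hu1 x hx
    have hu01 : u.1 0 1 ≠ 0 := fun h => hu1 <| congrArg Subtype.val
      (upperUniEquiv.injective (a₁ := ⟨u, hu⟩) (a₂ := 1) (by simpa [upperUniEquiv] using h))
    have hd := u.2
    rw [det_fin_two, hu.1, hu.2, one_mul, mul_zero, sub_zero] at hd
    rw [mem_upperBorel] at hx ⊢
    simp [Matrix.mul_apply, Matrix.vecMul, dotProduct, Fin.sum_univ_two, Matrix.SpecialLinearGroup.coe_inv,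
      adjugate_fin_two, hu.1, hu.2, hd] at hx
    have h2 : u.1 0 1 * (x.1 1 0 * x.1 1 0) = 0 := by linear_combination -hx
    rcases mul_eq_zero.1 h2 with h | h
    · exact absurd h hu01
    · exact mul_self_eq_zero.1 h
  · intro b hb hbU u hu hcomm
    have hb1 := mem_upperBorel.1 hb
    have hb0 : b.1 0 0 = a := by
      have := hbU.2
      simp [Matrix.mul_apply, Fin.sum_univ_two, Matrix.SpecialLinearGroup.coe_inv, adjugate_fin_two,
        diagEl] at this
      field_simp at this
      linear_combination this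
    have hd := b.2
    rw [det_fin_two, hb1, hb0, mul_zero, sub_zero] at hd
    have hdu := u.2
    rw [det_fin_two, hu.1, hu.2, one_mul, mul_zero, sub_zero] at hdu
    have h1 := congrArg (fun s : SS => s.1 0 1) hcomm.eq
    simp [Matrix.mul_apply, Fin.sum_univ_two, hu.1, hu.2, hdu, hb0] at h1
    have h2 : u.1 0 1 * (a - b.1 1 1) = 0 := by linear_combination h1
    rcases mul_eq_zero.1 h2 with h | h
    · exact congrArg Subtype.val
        (upperUniEquiv.injective (a₁ := ⟨u, hu⟩) (a₂ := 1) (by simpa [upperUniEquiv] using h))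
    · exfalso
      rw [sub_eq_zero] at h
      rw [← h] at hd
      exact ha2 (by rw [pow_two]; exact hd)
  · exact Classical.SL_commutator_eq_top fun _ => Classical.exists_sq_ne_one_field (by omega)

theorem exists_dataPSL (p : ℕ) [Fact p.Prime] [CharP F p] (h5 : 5 ≤ p) :
    Nonempty (Data p (Matrix.ProjectiveSpecialLinearGroup (Fin 2) F)) := by
  classical
  obtain ⟨D⟩ := exists_dataSL (F := F) p h5
  exact ⟨D.map (QuotientGroup.mk' (Subgroup.center SS)) (QuotientGroup.mk'_surjective _)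
    (le_of_eq (QuotientGroup.ker_mk' _))⟩

end SL

section SU

open Cfsg Cfsg.Agent.Classical Cfsg.Agent.Classical.PSUAut Cfsg.Agent.Fus.UnitN Cfsg.Agent.Lie.SUGen
  Cfsg.Agent.Lie.SU3Pres Cfsg.Agent.Transfer.U3Min

variable {F : Type} [Field F] [Fintype F] {q : ℕ}

theorem exists_dataSU (p : ℕ) [hp : Fact p.Prime] [CharP F p] (h5 : 5 ≤ p) {k : ℕ} (hk : 1 ≤ k)
    (hF : Fintype.card F = q ^ 2) (hqp : q = p ^ k) :
    Nonempty (Data p (SU 3 F q)) := by
  classical
  obtain ⟨e, n, f, B⟩ := exists_frame hF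
  obtain ⟨a, ha0, ha1, ha2, hafix⟩ := exists_prime_unit F p h5
  obtain ⟨g, hg⟩ := IsCyclic.exists_generator (α := Fˣ)
  have hq : 5 ≤ q := le_trans h5 (by rw [hqp]; exact Nat.le_self_pow (by omega) p)
  have hT : ∀ {l : F}, l ≠ 0 → Tm hF B l ∈ Bor B := fun hl => ⟨_, T_e hF B hl⟩
  have hTpow : ∀ {l : F}, l ≠ 0 → ∀ i : ℕ, Tm hF B l ^ i = Tm hF B (l ^ i) := by
    intro l hl i
    induction i with
    | zero => rw [pow_zero, pow_zero, T_one hF B]
    | succ i ih => rw [pow_succ, ih, T_mul hF B (pow_ne_zero i hl) hl, pow_succ]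
  have hcj : qFrob hF a = a := by rw [qFrob_apply, hqp, hafix]
  refine ⟨{
    U := Uni hF B
    B := Bor B
    le := Uni_le_Bor hF B
    isP := isPGroup_Uni hF B
    ne := ?_
    index := by rw [index_Bor hF B, card_Uni hF B]
    norm := ?_
    cop := ?_
    cyc := ⟨Tm hF B (g : F), hT g.ne_zero, ?_⟩
    b₀ := Tm hF B a
    hb₀ := hT ha0
    hpow := ?_
    reg := fun u hu hu1 x hx => fixed_Uni hF B hu hu1 hx
    free := ?_
    perfect := Classical.UnitMult.perfect_SU hF le_rfl (by omega) }⟩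
  · intro h
    have h1 := card_Uni hF B
    rw [h, Subgroup.card_bot] at h1
    have := Nat.le_self_pow (show 3 ≠ 0 by norm_num) q
    omega
  · intro b hb u hu
    obtain ⟨l, hl⟩ := hb
    obtain ⟨α, c, hl0, hok, rfl⟩ := bor_form hF B hl
    obtain ⟨α', c', hok', rfl⟩ := hu
    obtain ⟨c'', hok'', he⟩ := conj_linear hF B hok hl0 hok'
    exact ⟨_, _, hok'', he⟩
  · have h1 := Cfsg.Agent.RankOneCentral.card_mul_relIndex' (Uni_le_Bor hF B)
    rw [card_Uni hF B, card_Bor hF B] at h1
    rw [Nat.eq_of_mul_eq_mul_left (pow_pos (by omega) 3) h1]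
    intro h
    have h2 : p ∣ q ^ 2 := dvd_pow (hqp ▸ dvd_pow_self p (by omega)) two_ne_zero
    have h3 := (Nat.dvd_add_right h).1 (show p ∣ (q ^ 2 - 1) + 1 by
      rwa [Nat.sub_add_cancel (Nat.one_le_pow _ _ (by omega))])
    exact hp.out.not_dvd_one h3
  · intro x hx
    obtain ⟨l, hl⟩ := hx
    obtain ⟨α, c, hl0, hok, rfl⟩ := bor_form hF B hl
    obtain ⟨i, hi⟩ := (mem_powers_iff_mem_zpowers).2 (hg (Units.mk0 l hl0))
    refine ⟨i, α, c, hok, ?_⟩
    have hi' : (g : F) ^ i = l := by
      have := congrArg Units.val hi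
      simpa using this
    rw [hTpow g.ne_zero, hi', mul_inv_cancel_right]
  · rw [hTpow ha0, ha1, T_one hF B]
    exact Subgroup.one_mem _
  · intro b hb hbU u hu hcomm
    obtain ⟨α, c, hok, he⟩ := hbU
    obtain ⟨α', c', hok', rfl⟩ := hu
    rw [mul_inv_eq_iff_eq_mul] at he
    subst he
    have hth : th hF a = a := by
      rw [th, hcj]; field_simp
    obtain ⟨c'', hok'', hconj⟩ := conj_linear hF B hok ha0 hok'
    rw [hcomm.eq, mul_inv_cancel_right, hth] at hconj
    rw [hth] at hok''
    have h1 := (U_inj hF B hok' hok'' hconj).1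
    have ha1' : a ≠ 1 := fun h => ha2 (by rw [h, one_pow])
    obtain rfl : α' = 0 := by
      have h2 : (a - 1) * α' = 0 := by linear_combination -h1
      exact (mul_eq_zero.1 h2).resolve_left (sub_ne_zero.2 ha1')
    have hskew : c' + qFrob hF c' = 0 := by
      simpa [OK] using hok'
    have hc := conj_center hF B hok ha0 hskew
    rw [hcomm.eq, mul_inv_cancel_right, hcj] at hc
    have hok2 : OK hF 0 (a * a * c') := OK.skew hF (by rw [map_mul, map_mul, hcj]; linear_combination (a * a) * hskew)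
    have h3 := (U_inj hF B hok' hok2 hc).2
    obtain rfl : c' = 0 := by
      have h4 : (a ^ 2 - 1) * c' = 0 := by linear_combination -h3
      exact (mul_eq_zero.1 h4).resolve_left (sub_ne_zero.2 ha2)
    exact U_zero hF B

theorem exists_dataPSU (p : ℕ) [Fact p.Prime] [CharP F p] (h5 : 5 ≤ p) {k : ℕ} (hk : 1 ≤ k)
    (hF : Fintype.card F = q ^ 2) (hqp : q = p ^ k) :
    Nonempty (Data p (PSU 3 F q)) := by
  classical
  obtain ⟨D⟩ := exists_dataSU p h5 hk hF hqp
  exact ⟨D.map (suToPSU 3 F q) (QuotientGroup.mk'_surjective _)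
    (le_of_eq (QuotientGroup.ker_mk' _))⟩

end SU

end Cfsg.Agent.RankOneCentral
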