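import Mathlib

set_option autoImplicit false

/-! A non-scalar element of determinant one is a product of two regular unipotent elements. -/

namespace Cfsg.Agent.Classical.RegUnipProduct

open Module

universe u v

variable {K : Type u} [Field K]

/-- Four distinct scalars are available. -/
def Big (K : Type u) : Prop := ∃ f : Fin 4 → K, Function.Injective f

theorem exists_avoid {V : Type v} [AddCommGroup V] [Module K V] (hK : Big K) :
    ∀ l : List (Submodule K V), l.length ≤ 4 → (∀ p ∈ l, p ≠ ⊤) → ∃ x : V, ∀ p ∈ l, x ∉ p := by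
  classical
  obtain ⟨f, hf⟩ := hK
  intro l
  induction l with
  | nil => intro _ _; exact ⟨0, by simp⟩
  | cons p l ih =>
    intro hl htop
    simp only [List.length_cons] at hl
    obtain ⟨x, hx⟩ := ih (by omega) fun q hq => htop q (List.mem_cons_of_mem _ hq)
    by_cases hxp : x ∈ p
    swap
    · exact ⟨x, fun q hq => by rcases List.mem_cons.1 hq with rfl | hq; exacts [hxp, hx q hq]⟩
    obtain ⟨y, -, hy⟩ := SetLike.exists_of_lt (lt_top_iff_ne_top.2 (htop p (List.mem_cons_self ..)))
    by_contra hno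
    push Not at hno
    have hmem : ∀ i, ∃ q ∈ l, y + f i • x ∈ q := fun i => by
      obtain ⟨q, hq, hq'⟩ := hno (y + f i • x)
      rcases List.mem_cons.1 hq with rfl | hq
      · exact absurd (by simpa using sub_mem hq' (q.smul_mem (f i) hxp)) hy
      · exact ⟨q, hq, hq'⟩
    choose q hq hq' using hmem
    have hinj : Function.Injective q := by
      intro i j hij
      by_contra hne
      have h2 : (f i - f j) • x ∈ q i := by
        rw [sub_smul, show f i • x - f j • x = (y + f i • x) - (y + f j • x) by abel]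
        exact sub_mem (hq' i) (hij ▸ hq' j)
      exact hx _ (hq i) ((Submodule.smul_mem_iff _ (sub_ne_zero.2 (hf.ne hne))).1 h2)
    have h := Finset.card_le_card_of_injOn (s := (Finset.univ : Finset (Fin 4))) (t := l.toFinset) q
      (fun i _ => by simpa using hq i) hinj.injOn
    rw [Finset.card_univ, Fintype.card_fin] at h
    have := h.trans l.toFinset_card_le
    omega

variable {V : Type v} [AddCommGroup V] [Module K V]

/-- The nilpotent-part notation. -/
abbrev nil (A : Module.End K V) : Module.End K V := A - 1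

theorem nil_apply (A : Module.End K V) (x : V) : nil A x = A x - x := rfl

theorem exists_noneigen (hK : Big K) {A : Module.End K V} (hns : ∀ ν : K, ∃ x, A x ≠ ν • x)
    {H P : Submodule K V} (hH : H ≠ ⊤) (hP : P ≠ ⊤) : ∃ x, x ∉ H ∧ x ∉ P ∧ ∀ ν : K, A x ≠ ν • x := by
  classical
  obtain ⟨z, hz⟩ := exists_avoid hK [H, P] (by simp) (by simp [hH, hP])
  simp only [List.mem_cons, List.not_mem_nil, or_false, forall_eq_or_imp, forall_eq] at hz
  by_cases hze : ∀ ν : K, A z ≠ ν • z
  · exact ⟨z, hz.1, hz.2, hze⟩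
  push Not at hze
  obtain ⟨μ, hμ⟩ := hze
  obtain ⟨u, hu⟩ : ∃ u, ∀ ν : K, A u ≠ ν • u := by
    by_contra hno
    push Not at hno
    obtain ⟨w, hw⟩ := hns μ
    obtain ⟨a, ha⟩ := hno w
    obtain ⟨b, hb⟩ := hno (w + z)
    rw [map_add, hμ, ha, smul_add] at hb
    have hab : (a - b) • w = (b - μ) • z := by
      rw [sub_smul, sub_smul]; exact sub_eq_sub_iff_add_eq_add.2 (by rw [hb]; abel)
    rcases eq_or_ne a b with rfl | hne
    · rw [sub_self, zero_smul, eq_comm, smul_eq_zero] at hab
      rcases hab with h | h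
      · exact hw (by rw [ha, sub_eq_zero.1 h])
      · exact hz.1 (h ▸ zero_mem _)
    · refine hw ?_
      have e : w = ((a - b)⁻¹ * (b - μ)) • z := by
        rw [mul_smul, ← hab, smul_smul, inv_mul_cancel₀ (sub_ne_zero.2 hne), one_smul]
      rw [e, map_smul, hμ, smul_comm]
  obtain ⟨f, hf⟩ := hK
  have hline : ∀ {Q : Submodule K V}, z ∉ Q → ∀ i j, u + f i • z ∈ Q → u + f j • z ∈ Q → i = j := by
    intro Q hzQ i j hi hj
    by_contra hne
    have h2 : (f i - f j) • z ∈ Q := by
      rw [sub_smul, show f i • z - f j • z = (u + f i • z) - (u + f j • z) by abel]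
      exact sub_mem hi hj
    exact hzQ ((Submodule.smul_mem_iff _ (sub_ne_zero.2 (hf.ne hne))).1 h2)
  have heig : ∀ i j, (∃ a : K, A (u + f i • z) = a • (u + f i • z)) →
      (∃ b : K, A (u + f j • z) = b • (u + f j • z)) → i = j := by
    rintro i j ⟨a, ha⟩ ⟨b, hb⟩
    by_contra hne
    have hd : (a - b) • u = (f i * μ - f j * μ - a * f i + b * f j) • z := by
      have h := congrArg₂ (· - ·) ha hb
      simp only [map_add, map_smul, hμ] at h
      rw [← sub_eq_zero] at h ⊢
      rw [← neg_eq_zero, ← h]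
      module
    have hab : a = b := by
      by_contra hab
      refine hu μ ?_
      have e : u = ((a - b)⁻¹ * (f i * μ - f j * μ - a * f i + b * f j)) • z := by
        rw [mul_smul, ← hd, smul_smul, inv_mul_cancel₀ (sub_ne_zero.2 hab), one_smul]
      rw [e, map_smul, hμ, smul_comm]
    subst hab
    rw [sub_self, zero_smul, eq_comm, smul_eq_zero] at hd
    rcases hd with h | h
    · have haμ : a = μ := by
        have h' : (μ - a) * (f i - f j) = 0 := by linear_combination h
        rcases mul_eq_zero.1 h' with h'' | h''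
        · exact (sub_eq_zero.1 h'').symm
        · exact absurd (sub_eq_zero.1 h'') (hf.ne hne)
      subst haμ
      refine hu a ?_
      rw [map_add, map_smul, hμ, smul_add, smul_comm a (f i) z] at ha
      exact add_right_cancel ha
    · exact hz.1 (h ▸ zero_mem _)
  by_contra hno
  push Not at hno
  let g : Fin 4 → Fin 3 := fun i =>
    if u + f i • z ∈ H then 0 else if u + f i • z ∈ P then 1 else 2
  obtain ⟨i, j, hne, hg⟩ := Fintype.exists_ne_map_eq_of_card_lt g (by simp)
  simp only [g] at hg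
  split_ifs at hg with h1 h2 h3 h4 h5 h6
  all_goals first
    | exact hne (hline hz.1 i j ‹_› ‹_›)
    | exact hne (hline hz.2 i j ‹_› ‹_›)
    | exact hne (heig i j (hno _ ‹_› ‹_›) (hno _ ‹_› ‹_›))
    | simp at hg

/-- A functional killing `w` and not vanishing on given vectors outside the line of `w`. -/
theorem exists_functional (hK : Big K) (w : V) (l : List V) (hl : l.length ≤ 4)
    (h : ∀ u ∈ l, u ∉ (K ∙ w)) : ∃ ψ : V →ₗ[K] K, ψ w = 0 ∧ ∀ u ∈ l, ψ u ≠ 0 := by
  let D : Submodule K (V →ₗ[K] K) := LinearMap.ker (LinearMap.applyₗ w)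
  have htop : ∀ p ∈ l.map (fun u => LinearMap.ker ((LinearMap.applyₗ u).comp D.subtype)), p ≠ ⊤ := by
    intro p hp htop
    obtain ⟨u, hu, rfl⟩ := List.mem_map.1 hp
    obtain ⟨f, hfu, hfw⟩ := Submodule.exists_dual_map_eq_bot_of_notMem (h u hu) inferInstance
    have hf0 : f w = 0 := by
      have : f w ∈ (K ∙ w).map f := Submodule.mem_map_of_mem (Submodule.mem_span_singleton_self w)
      rwa [hfw, Submodule.mem_bot] at this
    exact hfu (LinearMap.congr_fun (LinearMap.ker_eq_top.1 htop) ⟨f, hf0⟩)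
  obtain ⟨ψ, hψ⟩ := exists_avoid (V := D) hK _ (by simpa using hl) htop
  exact ⟨ψ.1, ψ.2, fun u hu hu0 => hψ _ (List.mem_map.2 ⟨u, hu, rfl⟩) hu0⟩

/-- With determinant one, `A - 1` has rank at most one only if it squares to zero. -/
theorem exists_notMem_line [FiniteDimensional K V] {A : Module.End K V} (hdet : LinearMap.det A = 1)
    (hgood : ∃ x, nil A (nil A x) ≠ 0) (u : V) : ∃ z, nil A z ∉ (K ∙ u) := by
  by_contra hno
  push Not at hno
  rcases eq_or_ne u 0 with rfl | hu
  · obtain ⟨x, hx⟩ := hgood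
    have h := hno x
    rw [Submodule.span_zero_singleton, Submodule.mem_bot] at h
    exact hx (by rw [h, map_zero])
  obtain ⟨χ, hχ⟩ : ∃ χ : V →ₗ[K] K, χ u = 1 := by
    obtain ⟨g, hg⟩ := Module.Projective.exists_dual_ne_zero K hu
    exact ⟨(g u)⁻¹ • g, by simp [hg]⟩
  set f : V →ₗ[K] K := χ.comp (nil A) with hf
  have hN : ∀ x, nil A x = f x • u := fun x => by
    obtain ⟨t, ht⟩ := Submodule.mem_span_singleton.1 (hno x)
    rw [hf, LinearMap.comp_apply, ← ht, map_smul, hχ, smul_eq_mul, mul_one]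
  have hA : A = LinearMap.transvection f u := LinearMap.ext fun x => by
    rw [LinearMap.transvection.apply, ← hN, nil_apply, add_sub_cancel]
  rw [hA, LinearMap.transvection.det, add_eq_left] at hdet
  obtain ⟨x, hx⟩ := hgood
  exact hx (by rw [hN x, map_smul, hN u, hdet, zero_smul, smul_zero])

/-- Factorisation into two regular unipotent factors, adapted to a vector and a functional. -/
def Fact (A : Module.End K V) (c : V) (r : V →ₗ[K] K) (m : ℕ) : Prop :=
  ∃ L M : Module.End K V, A = (1 + L) * (1 + M) ∧ L ^ (m + 1) = 0 ∧ M ^ (m + 1) = 0 ∧ (L ^ m) c ≠ 0 ∧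
    ∃ x, r ((M ^ m) x) ≠ 0

/-- `A` is neither scalar nor quadratic unipotent. -/
def Good (A : Module.End K V) : Prop :=
  (∃ x, nil A (nil A x) ≠ 0) ∧ ∀ ν : K, ∃ x, A x ≠ ν • x

section Step

variable (A : Module.End K V) (φ : V →ₗ[K] K) (v : V) (hv : φ v = 1) (hAv : φ (A v) = 1)

/-- The induced map on the hyperplane. -/
def ind : Module.End K (LinearMap.ker φ) :=
  ((A - (φ.comp A).smulRight (A v)).comp (LinearMap.ker φ).subtype).codRestrict _ fun x => by
    rw [LinearMap.mem_ker, LinearMap.comp_apply, LinearMap.sub_apply, map_sub, LinearMap.smulRight_apply,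
      map_smul, hAv, smul_eq_mul, mul_one, LinearMap.comp_apply, sub_self]

theorem ind_apply (x : LinearMap.ker φ) :
    ((ind A φ v hAv x : LinearMap.ker φ) : V) = A x - φ (A x) • A v := rfl

/-- The projection to the hyperplane. -/
def proj : V →ₗ[K] LinearMap.ker φ :=
  (LinearMap.id - φ.smulRight v).codRestrict _ fun x => by
    rw [LinearMap.mem_ker, LinearMap.sub_apply, LinearMap.id_apply, map_sub, LinearMap.smulRight_apply,
      map_smul, hv, smul_eq_mul, mul_one, sub_self]

theorem proj_apply (x : V) : ((proj φ v hv x : LinearMap.ker φ) : V) = x - φ x • v := rfl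

theorem proj_coe (x : LinearMap.ker φ) : proj φ v hv (x : V) = x :=
  Subtype.ext (by rw [proj_apply, show φ (x : V) = 0 from x.2, zero_smul, sub_zero])

theorem proj_self : proj φ v hv v = 0 :=
  Subtype.ext (by rw [proj_apply, hv, one_smul, sub_self]; rfl)

include hv in
theorem finrank_ker [FiniteDimensional K V] {m : ℕ} (hm : finrank K V = m + 1) :
    finrank K (LinearMap.ker φ) = m := by
  have hφ : φ ≠ 0 := fun e => by simp [e] at hv
  have := Module.Dual.finrank_ker_add_one_of_ne_zero hφ
  omega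

include hv in
theorem det_ind [FiniteDimensional K V] (hdet : LinearMap.det A = 1) :
    LinearMap.det (ind A φ v hAv) = 1 := by
  set W := LinearMap.ker φ
  let e : (K × W) ≃ₗ[K] V :=
    { toFun := fun p => p.1 • v + (p.2 : V)
      map_add' := fun p q => by simp only [Prod.fst_add, Prod.snd_add, Submodule.coe_add, add_smul]; abel
      map_smul' := fun c p => by simp only [Prod.smul_fst, Prod.smul_snd, SetLike.val_smul, smul_eq_mul,
        mul_smul, RingHom.id_apply, smul_add]
      invFun := fun x => (φ x, proj φ v hv x)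
      left_inv := fun p => by
        have h : φ (p.1 • v + (p.2 : V)) = p.1 := by
          rw [map_add, map_smul, hv, show φ (p.2 : V) = 0 from p.2.2, smul_eq_mul, mul_one, add_zero]
        refine Prod.ext h (Subtype.ext ?_)
        show p.1 • v + (p.2 : V) - φ (p.1 • v + (p.2 : V)) • v = p.2
        rw [h, add_sub_cancel_left]
      right_inv := fun x => by
        show φ x • v + (x - φ x • v) = x
        rw [add_sub_cancel] }
  set D : Module.End K V :=
    φ.smulRight v + W.subtype.comp ((ind A φ v hAv).comp (proj φ v hv)) with hD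
  set f : V →ₗ[K] K := (φ.comp A).comp (W.subtype.comp (proj φ v hv)) with hf
  have hfv : f v = 0 := by simp [hf, proj_self φ v hv]
  have hAeq : A = LinearMap.transvection φ (A v - v) * (D * LinearMap.transvection f v) := by
    refine LinearMap.ext fun x => ?_
    simp only [Module.End.mul_apply, LinearMap.transvection.apply, hD, LinearMap.add_apply,
      LinearMap.smulRight_apply, LinearMap.comp_apply, Submodule.subtype_apply, map_add, map_smul, hv,
      proj_self φ v hv, map_zero, Submodule.coe_zero, zero_smul, one_smul, smul_zero, add_zero, smul_eq_mul, mul_one]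
    have h0 : φ ((ind A φ v hAv (proj φ v hv x) : W) : V) = 0 := (ind A φ v hAv (proj φ v hv x)).2
    rw [h0, zero_smul, add_zero, ind_apply]
    rw [show φ (A (proj φ v hv x : V)) = f x from rfl, proj_apply, map_sub, map_smul]
    module
  have hDdet : LinearMap.det D = LinearMap.det (ind A φ v hAv) := by
    have hDe : D = (e : (K × W) →ₗ[K] V).comp
        (((LinearMap.id : K →ₗ[K] K).prodMap (ind A φ v hAv)).comp (e.symm : V →ₗ[K] K × W)) :=
      LinearMap.ext fun x => rfl
    rw [hDe, LinearMap.det_conj, LinearMap.det_prodMap, LinearMap.det_id, one_mul]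
  rw [hAeq, map_mul, map_mul, LinearMap.transvection.det, LinearMap.transvection.det, hfv, map_sub, hAv, hv,
    sub_self, add_zero, one_mul, mul_one, hDdet] at hdet
  exact hdet

include hv in
/-- The inductive step. -/
theorem fact_step {c : V} {r : V →ₗ[K] K} {k : ℕ} (hw : φ (A v - v) = 0) (hc : φ c ≠ 0) (hr : r v ≠ 0)
    (h : Fact (ind A φ v hAv) ⟨A v - v, hw⟩ ((φ.comp A).comp (LinearMap.ker φ).subtype) k) :
    Fact A c r (k + 1) := by
  set W := LinearMap.ker φ
  set w : W := ⟨A v - v, hw⟩
  set r' : W →ₗ[K] K := (φ.comp A).comp W.subtype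
  obtain ⟨L', M', hA', hL', hM', hLc, x₀, hx₀⟩ := h
  set L : Module.End K V := φ.smulRight (w : V) + W.subtype.comp (L'.comp (proj φ v hv))
  set M : Module.End K V := (r'.comp (proj φ v hv)).smulRight v + W.subtype.comp (M'.comp (proj φ v hv))
  have hLpow : ∀ (j : ℕ) (x : V), (L ^ (j + 1)) x =
      φ x • (((L' ^ j) w : W) : V) + (((L' ^ (j + 1)) (proj φ v hv x) : W) : V) := by
    intro j
    induction j with
    | zero => intro x; simp [L]
    | succ j ih =>
      intro x
      have hLW : ∀ z : W, L (z : V) = ((L' z : W) : V) := fun z => by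
        simp only [L, LinearMap.add_apply, LinearMap.smulRight_apply, LinearMap.comp_apply, proj_coe φ v hv,
          Submodule.subtype_apply, show φ (z : V) = 0 from z.2, zero_smul, zero_add]
      rw [pow_succ' L, Module.End.mul_apply, ih, map_add, map_smul, hLW, hLW, ← Module.End.mul_apply,
        ← pow_succ', ← Module.End.mul_apply, ← pow_succ']
  have hMpow : ∀ (j : ℕ) (x : V), (M ^ (j + 1)) x =
      r' ((M' ^ j) (proj φ v hv x)) • v + (((M' ^ (j + 1)) (proj φ v hv x) : W) : V) := by
    intro j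
    induction j with
    | zero => intro x; simp [M]
    | succ j ih =>
      intro x
      have hMW : ∀ z : W, M (z : V) = r' z • v + ((M' z : W) : V) := fun z => by
        simp only [M, LinearMap.add_apply, LinearMap.smulRight_apply, LinearMap.comp_apply, proj_coe φ v hv,
          Submodule.subtype_apply]
      have hMv : M v = 0 := by simp [M, proj_self φ v hv]
      rw [pow_succ' M, Module.End.mul_apply, ih, map_add, map_smul, hMv, smul_zero, zero_add, hMW,
        ← Module.End.mul_apply, ← pow_succ']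
  refine ⟨L, M, LinearMap.ext fun x => ?_, ?_, ?_, ?_, (x₀ : V), ?_⟩
  · have h2 : ((ind A φ v hAv (proj φ v hv x) : W) : V) =
        (((1 + L') * (1 + M')) (proj φ v hv x) : W) := by rw [← hA']
    simp only [Module.End.mul_apply, LinearMap.add_apply, Module.End.one_apply, map_add, Submodule.coe_add,
      ind_apply] at h2
    simp only [L, M, Module.End.mul_apply, LinearMap.add_apply, Module.End.one_apply, LinearMap.smulRight_apply,
      LinearMap.comp_apply, Submodule.subtype_apply, map_add, map_smul, hv, proj_self φ v hv, smul_eq_mul,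
      show φ ((M' (proj φ v hv x) : W) : V) = 0 from (M' (proj φ v hv x)).2, proj_coe φ v hv, one_smul, add_zero, mul_one,
      Submodule.coe_add, smul_zero, add_smul, zero_smul, zero_add, map_zero]
    rw [show φ (A ((proj φ v hv x : W) : V)) = r' (proj φ v hv x) from rfl] at h2
    rw [proj_apply, map_sub, map_smul, sub_sub, sub_eq_iff_eq_add] at h2
    rw [h2]
    module
  · refine LinearMap.ext fun x => ?_
    rw [hLpow, hL', pow_succ L', hL', zero_mul]
    simp
  · refine LinearMap.ext fun x => ?_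
    rw [hMpow, hM', pow_succ M', hM', zero_mul]
    simp
  · rw [hLpow, hL']
    simp [hc, hLc]
  · rw [hMpow, proj_coe, hM']
    simp [hr, hx₀]

end Step

/-- The data of one step. -/
theorem exists_step [FiniteDimensional K V] (hK : Big K) {A : Module.End K V} {m : ℕ}
    (hm : finrank K V = m + 2) (hdet : LinearMap.det A = 1) (hG : Good A) {c : V} (hc : c ≠ 0)
    {r : V →ₗ[K] K} (hr : r ≠ 0) :
    ∃ (v : V) (φ : V →ₗ[K] K) (hv : φ v = 1) (hAv : φ (A v) = 1), φ c ≠ 0 ∧ r v ≠ 0 ∧ A v - v ≠ 0 ∧
      (∃ x : LinearMap.ker φ, φ (A (x : V)) ≠ 0) ∧ (1 ≤ m → Good (ind A φ v hAv)) := by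
  classical
  have hinj : ∀ x, A x = 0 → x = 0 := by
    intro x hx
    by_contra hx0
    have h := LinearMap.det_eq_zero_iff_ker_ne_bot (f := A) |>.2
      fun h => hx0 ((Submodule.mem_bot K).1 (h ▸ LinearMap.mem_ker.2 hx))
    exact one_ne_zero (hdet.symm.trans h)
  obtain ⟨hsq, hns⟩ := hG
  set N := nil A with hN
  set P : Submodule K V := (K ∙ c).comap N with hPdef
  have hP : P ≠ ⊤ := fun e => by
    obtain ⟨z, hz⟩ := exists_notMem_line hdet hsq c
    exact hz (show z ∈ P from e ▸ Submodule.mem_top)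
  have hH : LinearMap.ker r ≠ ⊤ := fun e => hr (LinearMap.ker_eq_top.1 e)
  -- a good vector
  obtain ⟨v₁, hv₁r, hv₁c, hv₁e, hv₁n⟩ : ∃ v, r v ≠ 0 ∧ N v ∉ (K ∙ c) ∧ (∀ ν : K, A v ≠ ν • v) ∧
      (IsNilpotent N → N (N v) ≠ 0) := by
    by_cases hnil : IsNilpotent N
    · obtain ⟨x, hx⟩ := exists_avoid hK [LinearMap.ker r, P, LinearMap.ker (N.comp N)] (by simp) (by
        simp only [List.mem_cons, List.not_mem_nil, or_false, forall_eq_or_imp, forall_eq]
        refine ⟨hH, hP, fun e => ?_⟩
        obtain ⟨x, hx⟩ := hsq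
        exact hx (LinearMap.congr_fun (LinearMap.ker_eq_top.1 e) x))
      simp only [List.mem_cons, List.not_mem_nil, or_false, forall_eq_or_imp, forall_eq, LinearMap.mem_ker,
        LinearMap.comp_apply] at hx
      refine ⟨x, hx.1, hx.2.1, fun ν h => ?_, fun _ => hx.2.2⟩
      have hNx : N x = (ν - 1) • x := by rw [hN, nil_apply, h, sub_smul, one_smul]
      obtain ⟨k, hk⟩ := hnil
      have hpow : ∀ j : ℕ, (N ^ j) x = (ν - 1) ^ j • x := by
        intro j
        induction j with
        | zero => simp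
        | succ j ih => rw [pow_succ', Module.End.mul_apply, ih, map_smul, hNx, smul_smul, ← pow_succ]
      have h0 := hpow k
      rw [hk, LinearMap.zero_apply, eq_comm, smul_eq_zero] at h0
      rcases h0 with h0 | h0
      · exact hx.2.2 (by rw [hNx, pow_eq_zero_iff'.1 h0 |>.1, zero_smul, map_zero])
      · exact hx.1 (by rw [h0, map_zero])
    · obtain ⟨x, hx, hx', hxe⟩ := exists_noneigen hK hns hH hP
      exact ⟨x, hx, hx', hxe, fun h => absurd h hnil⟩
  -- independence
  have hind₁ : ∀ a b : K, a • v₁ + b • N v₁ = 0 → a = 0 ∧ b = 0 := by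
    intro a b h
    rcases eq_or_ne b 0 with rfl | hb
    · rw [zero_smul, add_zero, smul_eq_zero] at h
      exact ⟨h.resolve_right fun e => hv₁e 0 (by rw [e, map_zero, zero_smul]), rfl⟩
    · refine absurd ?_ (hv₁e (1 - b⁻¹ * a))
      have h2 : N v₁ = (-(b⁻¹ * a)) • v₁ := by
        rw [neg_smul, mul_smul, eq_neg_iff_add_eq_zero, ← inv_smul_smul₀ hb (N v₁), ← smul_add,
          add_comm, h, smul_zero]
      rw [hN, nil_apply, sub_eq_iff_eq_add] at h2
      rw [h2]
      module
  -- three dimensional orbit, or a plane which is not bad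
  obtain ⟨v, hvr, hvc, hvind, hcase⟩ : ∃ v, r v ≠ 0 ∧ N v ∉ (K ∙ c) ∧
      (∀ a b : K, a • v + b • N v = 0 → a = 0 ∧ b = 0) ∧
      ((∀ a b e : K, a • v + b • N v + e • A (N v) = 0 → a = 0 ∧ b = 0 ∧ e = 0) ∨
        ∃ α β : K, A (N v) = α • v + β • N v ∧
          (1 ≤ m → β - α = 1 → ∃ x, N (N x) ∉ Submodule.span K {v, N v})) := by
    by_cases h3 : ∀ a b e : K, a • v₁ + b • N v₁ + e • A (N v₁) = 0 → a = 0 ∧ b = 0 ∧ e = 0
    · exact ⟨v₁, hv₁r, hv₁c, hind₁, Or.inl h3⟩
    push Not at h3
    obtain ⟨a, b, e, habe, hne⟩ := h3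
    have he : e ≠ 0 := fun he => by
      obtain ⟨ha, hb⟩ := hind₁ a b (by rw [← habe, he, zero_smul, add_zero])
      exact hne ha hb he
    obtain ⟨α, β, hαβ⟩ : ∃ α β : K, A (N v₁) = α • v₁ + β • N v₁ := by
      refine ⟨-(e⁻¹ * a), -(e⁻¹ * b), ?_⟩
      rw [← inv_smul_smul₀ he (A (N v₁)), show e • A (N v₁) = -(a • v₁ + b • N v₁) from
        eq_neg_of_add_eq_zero_right habe]
      module
    by_cases hbad : 1 ≤ m → β - α = 1 → ∃ x, N (N x) ∉ Submodule.span K {v₁, N v₁}
    · exact ⟨v₁, hv₁r, hv₁c, hind₁, Or.inr ⟨α, β, hαβ, hbad⟩⟩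
    push Not at hbad
    obtain ⟨hm1, hδ, hsp⟩ := hbad
    have hNw : N (N v₁) = α • v₁ + α • N v₁ := by
      rw [show N (N v₁) = A (N v₁) - N v₁ from nil_apply A _, hαβ, show β = α + 1 by linear_combination hδ]
      module
    rcases eq_or_ne α 0 with rfl | hα
    · exfalso
      rw [zero_smul, zero_smul, add_zero] at hNw
      refine hv₁n ⟨4, LinearMap.ext fun x => ?_⟩ hNw
      obtain ⟨a, b, hab⟩ := Submodule.mem_span_pair.1 (hsp x)
      rw [show (4 : ℕ) = 1 + 1 + 1 + 1 from rfl, pow_succ, pow_succ, pow_succ, pow_one, Module.End.mul_apply,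
        Module.End.mul_apply, Module.End.mul_apply, ← hab]
      simp [map_add, map_smul, hNw]
    obtain ⟨k, hk0, hk⟩ : ∃ k, k ≠ 0 ∧ N k = 0 := by
      by_contra hno
      push Not at hno
      have hNinj : Function.Injective N := (injective_iff_map_eq_zero N).2 fun x hx => by
        by_contra h
        exact hno x h hx
      have h := LinearMap.finrank_le_finrank_of_injective (f := (N.comp N).codRestrict
        (Submodule.span K {v₁, N v₁}) hsp) fun x y hxy => hNinj (hNinj (congrArg Subtype.val hxy))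
      have h2 := finrank_range_le_card (R := K) ![v₁, N v₁]
      rw [Set.finrank, Matrix.range_cons_cons_empty, Fintype.card_fin] at h2
      omega
    have hkP : ∀ a b : K, k ≠ a • v₁ + b • N v₁ := by
      intro a b hab
      have h := hk
      rw [hab, map_add, map_smul, map_smul, hNw] at h
      obtain ⟨h1, h2⟩ := hind₁ (b * α) (a + b * α) (by rw [← h]; module)
      have hb : b = 0 := (mul_eq_zero.1 h1).resolve_right hα
      subst hb
      rw [zero_mul, add_zero] at h2
      exact hk0 (by rw [hab, h2, zero_smul, zero_smul, add_zero])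
    obtain ⟨t, ht0, ht⟩ : ∃ t : K, t ≠ 0 ∧ r (v₁ + t • k) ≠ 0 := by
      obtain ⟨f, hf⟩ := hK
      by_contra hno
      push Not at hno
      have : ∀ i, f i ≠ 0 → r v₁ + f i * r k = 0 := fun i hi => by simpa using hno _ hi
      obtain ⟨i, j, hij, hi, hj⟩ : ∃ i j, i ≠ j ∧ f i ≠ 0 ∧ f j ≠ 0 := by
        by_cases h0 : f 0 = 0
        · exact ⟨1, 2, by decide, fun h => absurd (hf (h.trans h0.symm)) (by decide),
            fun h => absurd (hf (h.trans h0.symm)) (by decide)⟩
        by_cases h1 : f 1 = 0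
        · exact ⟨0, 2, by decide, h0, fun h => absurd (hf (h.trans h1.symm)) (by decide)⟩
        exact ⟨0, 1, by decide, h0, h1⟩
      have e : (f i - f j) * r k = 0 := by linear_combination this i hi - this j hj
      have hk' : r k = 0 := (mul_eq_zero.1 e).resolve_left (sub_ne_zero.2 (hf.ne hij))
      exact hv₁r (by simpa [hk'] using this i hi)
    have hN' : N (v₁ + t • k) = N v₁ := by rw [map_add, map_smul, hk, smul_zero, add_zero]
    have h3' : ∀ a b e : K, a • (v₁ + t • k) + b • N v₁ + e • A (N v₁) = 0 → a = 0 ∧ b = 0 ∧ e = 0 := by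
      intro a b e h
      have ha : a = 0 := by
        by_contra ha
        refine hkP (-(t⁻¹ + (a * t)⁻¹ * e * α)) (-((a * t)⁻¹ * (b + e * β))) ?_
        have hat : a * t ≠ 0 := mul_ne_zero ha ht0
        rw [← inv_smul_smul₀ hat k, show (a * t) • k = -(a • v₁ + b • N v₁ + e • A (N v₁)) by
          rw [eq_neg_iff_add_eq_zero, ← h]; module, hαβ]
        match_scalars <;> field_simp
      subst ha
      rw [zero_smul, zero_add, hαβ] at h
      obtain ⟨h1, h2⟩ := hind₁ (e * α) (b + e * β) (by rw [← h]; module)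
      have he : e = 0 := (mul_eq_zero.1 h1).resolve_right hα
      subst he
      exact ⟨rfl, by simpa using h2, rfl⟩
    refine ⟨v₁ + t • k, ht, hN' ▸ hv₁c, fun a b h => ?_, Or.inl (by rw [hN']; exact h3')⟩
    rw [hN'] at h
    obtain ⟨ha, hb, -⟩ := h3' a b 0 (by rw [zero_smul, add_zero]; exact h)
    exact ⟨ha, hb⟩
  have hNv : N v = A v - v := nil_apply A v
  have hw0 : N v ≠ 0 := fun e => one_ne_zero (hvind 0 1 (by rw [e, zero_smul, smul_zero, add_zero])).2
  have hvw : v ∉ (K ∙ N v) := fun h => by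
    obtain ⟨b, hb⟩ := Submodule.mem_span_singleton.1 h
    exact one_ne_zero (hvind 1 (-b) (by rw [one_smul, neg_smul, hb, add_neg_cancel])).1
  have hcw : c ∉ (K ∙ N v) := fun h => by
    obtain ⟨b, hb⟩ := Submodule.mem_span_singleton.1 h
    have hb0 : b ≠ 0 := fun e => hc (by rw [← hb, e, zero_smul])
    exact hvc (Submodule.mem_span_singleton.2 ⟨b⁻¹, by rw [← hb, smul_smul, inv_mul_cancel₀ hb0, one_smul]⟩)
  have mk : ∀ ψ : V →ₗ[K] K, ψ (N v) = 0 → ψ v ≠ 0 → ψ c ≠ 0 →
      ∃ φ : V →ₗ[K] K, φ v = 1 ∧ φ (A v) = 1 ∧ φ c ≠ 0 ∧ ∀ u, φ u = 0 ↔ ψ u = 0 := by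
    intro ψ h1 h2 h3
    refine ⟨(ψ v)⁻¹ • ψ, by simp [h2], ?_, by simp [h2, h3], fun u => by simp [h2]⟩
    rw [show A v = v + N v by rw [hNv]; abel, map_add]
    simp [h1, h2]
  rcases hcase with h3 | ⟨α, β, hαβ, hnb⟩
  · -- three dimensional orbit
    set y := A (N v) with hy
    have hyw : y ∉ (K ∙ N v) := fun h => by
      obtain ⟨b, hb⟩ := Submodule.mem_span_singleton.1 h
      exact neg_ne_zero.2 one_ne_zero (h3 0 b (-1) (by rw [← hb]; module)).2.2
    obtain ⟨z, hz, hzsp⟩ : ∃ z, z ∉ (K ∙ N v) ∧ ∀ a b e : K, A y = a • v + b • N v + e • y →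
        z = y - (e - 2) • v := by
      by_cases h : ∃ a b e : K, A y = a • v + b • N v + e • y
      · obtain ⟨a, b, e, h⟩ := h
        refine ⟨y - (e - 2) • v, fun hz => ?_, fun a' b' e' h' => ?_⟩
        · obtain ⟨t, ht⟩ := Submodule.mem_span_singleton.1 hz
          exact neg_ne_zero.2 one_ne_zero (h3 (e - 2) t (-1) (by rw [ht]; module)).2.2
        · obtain ⟨-, -, he⟩ := h3 (a - a') (b - b') (e - e') (by
            rw [← sub_self (A y)]; nth_rw 2 [h']; rw [h]; module)
          rw [sub_eq_zero.1 he]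
      · exact ⟨v, hvw, fun a b e h' => absurd ⟨a, b, e, h'⟩ h⟩
    obtain ⟨ψ, hψw, hψ⟩ := exists_functional hK (N v) [v, c, y, z] (by simp)
      (by simp [hvw, hcw, hyw, hz])
    simp only [List.mem_cons, List.not_mem_nil, or_false, forall_eq_or_imp, forall_eq] at hψ
    obtain ⟨φ, hφv, hφA, hφc, hφ⟩ := mk ψ hψw hψ.1 hψ.2.1
    have hφw : φ (N v) = 0 := (hφ _).2 hψw
    refine ⟨v, φ, hφv, hφA, hφc, hvr, hNv ▸ hw0, ⟨⟨N v, hφw⟩, fun h => hψ.2.2.1 ((hφ _).1 h)⟩, fun _ => ⟨?_, ?_⟩⟩
    · refine ⟨⟨N v, hφw⟩, fun h => ?_⟩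
      have h' := congrArg Subtype.val h
      simp only [nil_apply, AddSubgroupClass.coe_sub, ind_apply, ZeroMemClass.coe_zero] at h'
      have hval : A (A (N v)) = A y := rfl
      rw [← hy, show A v = v + N v by rw [hNv]; abel] at h'
      simp only [map_sub, map_add, map_smul, ← hy] at h'
      set s := φ y
      set s' := φ (A y - (s • (A v) + s • y) - y)
      have key : ∃ a b : K, A y = a • v + b • N v + (s + 2) • y := by
        refine ⟨φ (A (A (N v) - s • (v + N v) - N v)), φ (A (A (N v) - s • (v + N v) - N v)) - 1, ?_⟩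
        simp only [map_sub, map_add, map_smul, ← hy]
        rw [← sub_eq_zero] at h' ⊢
        rw [← h']
        rw [show A v = v + N v by rw [hNv]; abel]
        simp only [map_sub, map_add, map_smul, smul_eq_mul]
        module
      obtain ⟨a, b, hab⟩ := key
      have := hzsp a b _ hab
      apply hψ.2.2.2
      rw [this, ← hφ, map_sub, map_smul, hφv, smul_eq_mul, mul_one]
      ring
    · intro ν
      refine ⟨⟨N v, hφw⟩, fun h => ?_⟩
      have h' := congrArg Subtype.val h
      simp only [ind_apply, SetLike.val_smul] at h'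
      rw [← hy, show A v = v + N v by rw [hNv]; abel] at h'
      exact one_ne_zero (h3 (-φ y) (-φ y - ν) 1 (by rw [← sub_eq_zero] at h'; rw [← h']; module)).2.2
  · -- plane
    set P₀ : Submodule K V := Submodule.span K {v, N v} with hP₀
    have hvP : v ∈ P₀ := Submodule.subset_span (by simp)
    have hwP : N v ∈ P₀ := Submodule.subset_span (by simp)
    have hAP : ∀ p ∈ P₀, A p ∈ P₀ := by
      intro p hp
      obtain ⟨a, b, rfl⟩ := Submodule.mem_span_pair.1 hp
      rw [map_add, map_smul, map_smul, hαβ, show A v = v + N v by rw [hNv]; abel]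
      exact add_mem (P₀.smul_mem _ (add_mem hvP hwP))
        (P₀.smul_mem _ (add_mem (P₀.smul_mem _ hvP) (P₀.smul_mem _ hwP)))
    have hNP : ∀ p ∈ P₀, N p ∈ P₀ := fun p hp => by rw [hN, nil_apply]; exact sub_mem (hAP p hp) hp
    have hδ : β - α ≠ 0 := fun h => by
      have e : A (N v - α • v) = 0 := by
        rw [map_sub, map_smul, hαβ, show A v = v + N v by rw [hNv]; abel, show β = α from sub_eq_zero.1 h]
        module
      exact one_ne_zero (hvind (-α) 1 (by rw [← hinj _ e]; module)).2
    obtain ⟨z₁, hz₁⟩ := exists_notMem_line hdet hsq (N v)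
    obtain ⟨q, hq, hqsp⟩ : ∃ q, q ∉ (K ∙ N v) ∧ (1 ≤ m → ∃ z, ∀ a b : K,
        A z - (β - α) • z = a • v + b • A v → q = (β - α) • z + a • v) := by
      by_cases hm1 : 1 ≤ m
      swap
      · exact ⟨v, hvw, fun h => absurd h hm1⟩
      obtain ⟨z, -, hz⟩ : ∃ z ∈ (⊤ : Submodule K V), z ∉ P₀ := SetLike.exists_of_lt (lt_top_iff_ne_top.2 fun e => by
        have h2 := finrank_range_le_card (R := K) ![v, N v]
        rw [Set.finrank, Matrix.range_cons_cons_empty, Fintype.card_fin, ← hP₀, e, finrank_top] at h2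
        omega)
      by_cases h : ∃ a b : K, A z - (β - α) • z = a • v + b • A v
      · obtain ⟨a, b, h⟩ := h
        refine ⟨(β - α) • z + a • v, fun hq => hz ?_, fun _ => ⟨z, fun a' b' h' => ?_⟩⟩
        · obtain ⟨t, ht⟩ := Submodule.mem_span_singleton.1 hq
          rw [← inv_smul_smul₀ hδ z, show (β - α) • z = t • N v - a • v by rw [ht]; abel]
          exact P₀.smul_mem _ (sub_mem (P₀.smul_mem _ hwP) (P₀.smul_mem _ hvP))
        · have e : (a - a') • v + (b - b') • A v = 0 := by
            rw [← sub_self (A z - (β - α) • z)]; nth_rw 2 [h']; rw [h]; module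
          rw [show A v = v + N v by rw [hNv]; abel] at e
          obtain ⟨h1, h2⟩ := hvind (a - a' + (b - b')) (b - b') (by rw [← e]; module)
          rw [h2, add_zero, sub_eq_zero] at h1
          rw [h1]
      · exact ⟨v, hvw, fun _ => ⟨z, fun a b h' => absurd ⟨a, b, h'⟩ h⟩⟩
    obtain ⟨ψ, hψw, hψ⟩ := exists_functional hK (N v) [v, c, N z₁, q] (by simp)
      (by simp [hvw, hcw, show N z₁ ∉ (K ∙ N v) from hz₁, hq])
    simp only [List.mem_cons, List.not_mem_nil, or_false, forall_eq_or_imp, forall_eq] at hψ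
    obtain ⟨φ, hφv, hφA, hφc, hφ⟩ := mk ψ hψw hψ.1 hψ.2.1
    have hφw : φ (N v) = 0 := (hφ _).2 hψw
    have hproj : ∀ x, φ (x - φ x • v) = 0 := fun x => by simp [hφv]
    refine ⟨v, φ, hφv, hφA, hφc, hvr, hNv ▸ hw0, ⟨⟨z₁ - φ z₁ • v, hproj z₁⟩, fun h => hψ.2.2.1 ((hφ _).1 ?_)⟩,
      fun hm1 => ⟨?_, fun ν => ?_⟩⟩
    · rw [map_sub, map_smul, map_sub, map_smul, hφA, smul_eq_mul, mul_one, sub_eq_zero] at h
      rw [hN, nil_apply, map_sub, h, sub_self]
    · have hA'w : ind A φ v hφA ⟨N v, hφw⟩ = (β - α) • ⟨N v, hφw⟩ := Subtype.ext (by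
        rw [ind_apply, SetLike.val_smul, hαβ, show A v = v + N v by rw [hNv]; abel]
        simp only [map_add, map_smul, hφv, hφw, smul_eq_mul, mul_one, mul_zero, add_zero]
        module)
      rcases ne_or_eq (β - α) 1 with h1 | h1
      · refine ⟨⟨N v, hφw⟩, ?_⟩
        have e : nil (ind A φ v hφA) ⟨N v, hφw⟩ = (β - α - 1) • ⟨N v, hφw⟩ := by
          rw [nil_apply, hA'w, sub_smul _ 1, one_smul]
        rw [e, map_smul, e, smul_smul]
        exact smul_ne_zero (mul_ne_zero (sub_ne_zero.2 h1) (sub_ne_zero.2 h1))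
          (fun e => hw0 (congrArg Subtype.val e))
      obtain ⟨x, hx⟩ := hnb hm1 h1
      refine ⟨⟨x - φ x • v, hproj x⟩, fun h => hx ?_⟩
      have hstep : ∀ z : LinearMap.ker φ, ((nil (ind A φ v hφA) z : LinearMap.ker φ) : V) - N (z : V) ∈ P₀ := by
        intro z
        rw [nil_apply, AddSubgroupClass.coe_sub, ind_apply, hN, nil_apply,
          show A v = v + N v by rw [hNv]; abel]
        rw [show A (z : V) - φ (A z) • (v + N v) - (z : V) - (A z - (z : V)) = -(φ (A z) • (v + N v)) by abel]
        exact neg_mem (P₀.smul_mem _ (add_mem hvP hwP))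
      set x' : LinearMap.ker φ := ⟨x - φ x • v, hproj x⟩
      have h1' := hstep (nil (ind A φ v hφA) x')
      have h2' := hNP _ (hstep x')
      rw [h] at h1'
      have h3' : N (N x) = -((0 : V) - N ((nil (ind A φ v hφA) x' : LinearMap.ker φ) : V))
          - N ((((nil (ind A φ v hφA) x' : LinearMap.ker φ) : V)) - N (x' : V)) + φ x • N (N v) := by
        simp only [x', map_sub, map_smul]; abel
      rw [h3']
      exact add_mem (sub_mem (neg_mem (by simpa using h1')) h2') (P₀.smul_mem _ (hNP _ hwP))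
    · by_contra hall
      push Not at hall
      have hνδ : ν = β - α := by
        have h' := congrArg Subtype.val (hall ⟨N v, hφw⟩)
        rw [ind_apply, SetLike.val_smul, hαβ, show A v = v + N v by rw [hNv]; abel] at h'
        simp only [map_add, map_smul, hφv, hφw, smul_eq_mul, mul_one, mul_zero, add_zero] at h'
        have e : (β - α - ν) • N v = 0 := by rw [← sub_eq_zero] at h'; rw [← h']; module
        exact (sub_eq_zero.1 ((smul_eq_zero.1 e).resolve_right hw0)).symm
      subst hνδ
      obtain ⟨z, hz⟩ := hqsp hm1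
      have h' := congrArg Subtype.val (hall ⟨z - φ z • v, hproj z⟩)
      rw [ind_apply, SetLike.val_smul] at h'
      simp only [map_sub, map_smul, hφA, smul_eq_mul, mul_one] at h'
      have e : A z - (β - α) • z = (-(β - α) * φ z) • v + φ (A z) • A v := by
        rw [← sub_eq_zero] at h' ⊢
        rw [← h']
        module
      apply hψ.2.2.2
      rw [hz _ _ e, ← hφ, map_add, map_smul, map_smul, hφv, smul_eq_mul, smul_eq_mul]
      ring

/-- The factorisation. -/
theorem exists_fact (hK : Big K) : ∀ (m : ℕ) {V : Type v} [AddCommGroup V] [Module K V] [FiniteDimensional K V],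
    finrank K V = m + 1 → ∀ A : Module.End K V, LinearMap.det A = 1 → (1 ≤ m → Good A) →
    ∀ c : V, c ≠ 0 → ∀ r : V →ₗ[K] K, r ≠ 0 → Fact A c r m := by
  intro m
  induction m with
  | zero =>
    intro V _ _ _ hm A hdet _ c hc r hr
    obtain ⟨x, hx⟩ : ∃ x, r x ≠ 0 := by
      by_contra! h
      exact hr (LinearMap.ext h)
    have hA : A = 1 := LinearMap.ext fun y => by
      obtain ⟨t, ht⟩ := exists_smul_eq_of_finrank_eq_one hm hc y
      obtain ⟨a, ha⟩ := exists_smul_eq_of_finrank_eq_one hm hc (A c)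
      have hsc : A = a • (1 : Module.End K V) := LinearMap.ext fun z => by
        obtain ⟨s, rfl⟩ := exists_smul_eq_of_finrank_eq_one hm hc z
        rw [map_smul, ← ha, LinearMap.smul_apply, Module.End.one_apply, smul_comm]
      rw [hsc, LinearMap.det_smul, hm, map_one, mul_one, pow_one] at hdet
      rw [hsc, hdet, one_smul]
    exact ⟨0, 0, by simp [hA], by simp, by simp, by simpa using hc, x, by simpa using hx⟩
  | succ k ih =>
    intro V _ _ _ hm A hdet hG c hc r hr
    obtain ⟨v, φ, hv, hAv, hφc, hrv, hw, ⟨x, hx⟩, hG'⟩ := exists_step hK hm hdet (hG (by omega)) hc hr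
    refine fact_step A φ v hv hAv (by rw [map_sub, hAv, hv, sub_self]) hφc hrv (ih (finrank_ker φ v hv hm) _
      (det_ind A φ v hv hAv hdet) hG' _ (fun e => hw (congrArg Subtype.val e)) _ (fun e => hx ?_))
    exact LinearMap.congr_fun e x

end Cfsg.Agent.Classical.RegUnipProduct
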