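import Cfsg.Agent.Lib.Classical.RegUnipProduct
import Cfsg.Agent.Lib.Classical.RegUnipClasses
import Cfsg.Agent.Lib.Classical.SympRegularUnipotent

set_option autoImplicit false

/-! Matrices of determinant one as products of two conjugates of the regular Jordan block. -/

namespace Cfsg.Agent.Classical.RegUnipProduct

open Module Matrix

variable {K : Type*} [Field K]

/-- A basis adapted to an operator whose square vanishes. -/
theorem exists_basis_sq_zero {V : Type*} [AddCommGroup V] [Module K V] [FiniteDimensional K V] {n : ℕ}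
    (hn : finrank K V = n) (h3 : 3 ≤ n) {N : Module.End K V} (hsq : N * N = 0) :
    ∃ b : Basis (Fin n) K V, ∀ j : Fin n, N (b j) ∈ Submodule.span K (b '' {i : Fin n | (i : ℕ) + 2 ≤ j}) := by
  classical
  have hker : LinearMap.range N ≤ LinearMap.ker N := by
    rintro _ ⟨x, rfl⟩
    exact LinearMap.congr_fun hsq x
  have hrn := LinearMap.finrank_range_add_finrank_ker N
  have hle := Submodule.finrank_mono hker
  obtain ⟨D, hD⟩ := Submodule.exists_isCompl ((LinearMap.range N).comap (LinearMap.ker N).subtype)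
  obtain ⟨C, hC⟩ := Submodule.exists_isCompl (LinearMap.ker N)
  set R := LinearMap.range N with hR
  set k := finrank K R with hk
  have hCk : finrank K C = k := by
    have := Submodule.finrank_add_eq_of_isCompl hC
    omega
  have hRk : finrank K (R.comap (LinearMap.ker N).subtype : Submodule K (LinearMap.ker N)) = k :=
    (Submodule.comapSubtypeEquivOfLe hker).finrank_eq
  have hDk : finrank K D = finrank K (LinearMap.ker N) - k := by
    have := Submodule.finrank_add_eq_of_isCompl hD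
    omega
  set d := finrank K (LinearMap.ker N) - k with hd
  let bC := Module.finBasisOfFinrankEq K C hCk
  let NC : C →ₗ[K] R := N.rangeRestrict.comp C.subtype
  have hNCinj : Function.Injective NC := (injective_iff_map_eq_zero NC).2 fun x hx => by
    have : (x : V) ∈ LinearMap.ker N := congrArg Subtype.val hx
    exact Subtype.ext (Submodule.disjoint_def.1 hC.disjoint _ this x.2)
  let eC : C ≃ₗ[K] R := LinearEquiv.ofBijective NC
    ⟨hNCinj, (LinearMap.injective_iff_surjective_of_finrank_eq_finrank hCk).1 hNCinj⟩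
  let bR : Basis (Fin k) K (R.comap (LinearMap.ker N).subtype : Submodule K (LinearMap.ker N)) :=
    (bC.map eC).map (Submodule.comapSubtypeEquivOfLe hker).symm
  let bK : Basis (Fin k ⊕ Fin d) K (LinearMap.ker N) :=
    (bR.prod (Module.finBasisOfFinrankEq K D hDk)).map (Submodule.prodEquivOfIsCompl _ _ hD)
  let bV : Basis ((Fin k ⊕ Fin d) ⊕ Fin k) K V :=
    (bK.prod bC).map (Submodule.prodEquivOfIsCompl _ _ hC)
  have hkn : k + d + k = n := by omega
  let e : (Fin k ⊕ Fin d) ⊕ Fin k ≃ Fin n :=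
    ((finSumFinEquiv.sumCongr (Equiv.refl _)).trans finSumFinEquiv).trans (finCongr hkn)
  refine ⟨bV.reindex e, fun j => ?_⟩
  obtain ⟨s, rfl⟩ := e.surjective j
  rw [Basis.reindex_apply, Equiv.symm_apply_apply]
  rcases s with s | i
  · have : N (bV (Sum.inl s)) = 0 := by
      simp only [bV, Basis.map_apply, Basis.prod_apply, Sum.elim_inl, Function.comp_apply, LinearMap.inl_apply,
        Submodule.coe_prodEquivOfIsCompl', Submodule.coe_zero, add_zero]
      exact (bK s).2
    rw [this]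
    exact Submodule.zero_mem _
  · refine Submodule.subset_span ⟨e (Sum.inl (Sum.inl i)), ?_, ?_⟩
    · show (e (Sum.inl (Sum.inl i)) : ℕ) + 2 ≤ e (Sum.inr i)
      simp [e]
      have := i.2
      omega
    · rw [Basis.reindex_apply, Equiv.symm_apply_apply]
      simp only [bV, bK, bR, Basis.map_apply, Basis.prod_apply, Sum.elim_inl, Sum.elim_inr, Function.comp_apply,
        LinearMap.inl_apply, LinearMap.inr_apply, Submodule.coe_prodEquivOfIsCompl', Submodule.coe_zero, add_zero,
        zero_add]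
      rfl


/-- An operator whose square vanishes, times a regular unipotent, can be regular unipotent. -/
theorem exists_of_sq_zero {V : Type*} [AddCommGroup V] [Module K V] [FiniteDimensional K V] {n : ℕ}
    (hn : finrank K V = n) (h3 : 3 ≤ n) {N : Module.End K V} (hsq : N * N = 0) :
    ∃ X M : Module.End K V, X = N + M + N * M ∧ X ^ n = 0 ∧ X ^ (n - 1) ≠ 0 ∧ M ^ n = 0 ∧ M ^ (n - 1) ≠ 0 := by
  classical
  obtain ⟨b, hb⟩ := exists_basis_sq_zero hn h3 hsq
  -- the shift
  let M : Module.End K V := b.constr K fun j => if h : 1 ≤ (j : ℕ) then b ⟨(j : ℕ) - 1, by omega⟩ else 0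
  obtain ⟨Fl, hFl⟩ : ∃ Fl : ℕ → Submodule K V,
      ∀ l, Fl l = Submodule.span K (b '' {i : Fin n | (i : ℕ) < l}) := ⟨_, fun _ => rfl⟩
  have hmono : ∀ l l' : ℕ, l ≤ l' → ∀ x ∈ Fl l, x ∈ Fl l' := fun l l' h x hx => by
    rw [hFl] at hx ⊢
    have hsub : {i : Fin n | (i : ℕ) < l} ⊆ {i : Fin n | (i : ℕ) < l'} :=
      fun i (hi : (i : ℕ) < l) => lt_of_lt_of_le hi h
    exact Submodule.span_mono (Set.image_mono hsub) hx
  have hmem : ∀ (i : Fin n) (l : ℕ), (i : ℕ) < l → b i ∈ Fl l := by
    intro i l hi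
    rw [hFl]
    exact Submodule.subset_span (Set.mem_image_of_mem b hi)
  have hFltop : Fl n = ⊤ := by
    rw [eq_top_iff, ← b.span_eq]
    exact Submodule.span_le.2 (by rintro _ ⟨i, rfl⟩; exact hmem i n i.2)
  have hFl0 : Fl 0 = ⊥ := by simp [hFl]
  have hlift : ∀ (T : Module.End K V) (d : ℕ), (∀ j : Fin n, T (b j) ∈ Fl ((j : ℕ) + 1 - d)) →
      ∀ l, ∀ x ∈ Fl l, T x ∈ Fl (l - d) := fun T d hT l x hx => by
    rw [← Submodule.mem_comap]
    rw [hFl l] at hx
    refine Submodule.span_le.2 ?_ hx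
    rintro _ ⟨i, hi, rfl⟩
    rw [SetLike.mem_coe, Submodule.mem_comap]
    have hle : (i : ℕ) + 1 - d ≤ l - d := by have : (i : ℕ) < l := hi; omega
    exact hmono _ _ hle _ (hT i)
  have hNb : ∀ j : Fin n, N (b j) ∈ Fl ((j : ℕ) + 1 - 2) := fun j => by
    rw [hFl]
    have hsub : {i : Fin n | (i : ℕ) + 2 ≤ j} ⊆ {i : Fin n | (i : ℕ) < (j : ℕ) + 1 - 2} :=
      fun i (hi : (i : ℕ) + 2 ≤ j) => show (i : ℕ) < (j : ℕ) + 1 - 2 by omega
    exact Submodule.span_mono (Set.image_mono hsub) (hb j)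
  have hN2 := hlift N 2 hNb
  have hMb : ∀ j : Fin n, M (b j) = if h : 1 ≤ (j : ℕ) then b ⟨(j : ℕ) - 1, by omega⟩ else 0 :=
    fun j => b.constr_basis K _ j
  have hXlead : ∀ (T : Module.End K V),
      (∀ j : Fin n, T (b j) - M (b j) ∈ Fl ((j : ℕ) + 1 - 2)) → T ^ n = 0 ∧ T ^ (n - 1) ≠ 0 := by
    intro T hT
    have hM1 : ∀ j : Fin n, M (b j) ∈ Fl ((j : ℕ) + 1 - 1) := fun j => by
      rw [hMb]
      split_ifs with h
      · exact hmem _ _ (show (j : ℕ) - 1 < _ by omega)
      · exact Submodule.zero_mem _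
    have hT1 := hlift T 1 fun j => by
      have h := add_mem (hmono _ ((j : ℕ) + 1 - 1) (show (j : ℕ) + 1 - 2 ≤ _ by omega) _ (hT j)) (hM1 j)
      rwa [sub_add_cancel] at h
    have hpow : ∀ i l, ∀ x ∈ Fl l, (T ^ i) x ∈ Fl (l - i) := by
      intro i
      induction i with
      | zero => intro l x hx; simpa using hx
      | succ i ih => intro l x hx; rw [pow_succ', Module.End.mul_apply, ← Nat.sub_sub]; exact hT1 _ _ (ih l x hx)
    refine ⟨LinearMap.ext fun x => ?_, fun h0 => ?_⟩
    · have := hpow n n x (hFltop ▸ Submodule.mem_top)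
      rwa [Nat.sub_self, hFl0, Submodule.mem_bot] at this
    · have hl : ∀ i, ∀ hi : i < n, (T ^ i) (b ⟨n - 1, by omega⟩) - b ⟨n - 1 - i, by omega⟩ ∈ Fl (n - 1 - i) := by
        intro i
        induction i with
        | zero => intro _; simp
        | succ i ih =>
          intro hi
          have h1 := hT1 _ _ (ih (by omega))
          have h2 := hT ⟨n - 1 - i, by omega⟩
          rw [hMb, dif_pos (show 1 ≤ n - 1 - i by omega)] at h2
          rw [map_sub] at h1
          have h3 := add_mem (hmono _ (n - 1 - (i + 1)) (by omega) _ h1)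
            (hmono _ (n - 1 - (i + 1)) (by simp only []; omega) _ h2)
          rw [pow_succ', Module.End.mul_apply]
          have e : (⟨n - 1 - i - 1, by omega⟩ : Fin n) = ⟨n - 1 - (i + 1), by omega⟩ := Fin.ext (by simp; omega)
          rw [sub_add_sub_cancel, e] at h3
          exact h3
      have := hl (n - 1) (by omega)
      rw [h0, LinearMap.zero_apply, zero_sub, Submodule.neg_mem_iff] at this
      simp only [Nat.sub_self, hFl0, Submodule.mem_bot] at this
      exact b.ne_zero _ this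
  obtain ⟨hM0, hM1⟩ := hXlead M fun j => by rw [sub_self]; exact Submodule.zero_mem _
  obtain ⟨hX0, hX1⟩ := hXlead (N + M + N * M) fun j => by
    simp only [LinearMap.add_apply, Module.End.mul_apply]
    rw [show N (b j) + M (b j) + N (M (b j)) - M (b j) = N (b j) + N (M (b j)) by abel]
    refine add_mem (hNb j) ?_
    rw [hMb]
    split_ifs with h
    · exact hmono _ _ (by simp only []; omega) _ (hNb _)
    · rw [map_zero]; exact Submodule.zero_mem _
  exact ⟨_, M, rfl, hX0, hX1, hM0, hM1⟩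

/-- A non-scalar operator of determinant one is the product of two regular unipotent operators. -/
theorem exists_regular_factors {V : Type*} [AddCommGroup V] [Module K V] [FiniteDimensional K V] {n : ℕ}
    (hn : finrank K V = n) (h3 : 3 ≤ n) (hK : Big K) (A : Module.End K V) (hdet : LinearMap.det A = 1)
    (hns : ∀ ν : K, ∃ x, A x ≠ ν • x) :
    ∃ X Y : Module.End K V, A = (1 + X) * (1 + Y) ∧ X ^ n = 0 ∧ X ^ (n - 1) ≠ 0 ∧ Y ^ n = 0 ∧ Y ^ (n - 1) ≠ 0 := by
  by_cases hG : ∃ x, nil A (nil A x) ≠ 0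
  · have : Nontrivial V := Module.nontrivial_of_finrank_pos (R := K) (by omega)
    obtain ⟨c, hc⟩ := exists_ne (0 : V)
    obtain ⟨r, hr⟩ := Module.Projective.exists_dual_ne_zero K hc
    obtain ⟨X, Y, h, hX, hY, hX1, x, hx⟩ := exists_fact hK (n - 1) (show finrank K V = n - 1 + 1 by omega) A hdet
      (fun _ => ⟨hG, hns⟩) c hc r (fun e => hr (by rw [e]; rfl))
    rw [Nat.sub_add_cancel (by omega : 1 ≤ n)] at hX hY
    exact ⟨X, Y, h, hX, fun e => hX1 (by rw [e]; rfl), hY, fun e => hx (by rw [e]; simp)⟩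
  · push Not at hG
    obtain ⟨X, M, hXM, hX0, hX1, hM0, hM1⟩ := exists_of_sq_zero hn h3 (N := nil A) (LinearMap.ext hG)
    obtain ⟨u, hu⟩ := IsNilpotent.isUnit_one_add ⟨n, hM0⟩
    have hcomm : Commute M (↑u⁻¹ : Module.End K V) :=
      (show Commute M (u : Module.End K V) by rw [hu]; exact (Commute.one_right M).add_right rfl).units_inv_right
    refine ⟨X, -(M * ↑u⁻¹), ?_, hX0, hX1, ?_, ?_⟩
    · have e1 : A * (u : Module.End K V) = 1 + X := by rw [hXM, hu]; noncomm_ring
      have e2 : (1 : Module.End K V) + -(M * ↑u⁻¹) = ↑u⁻¹ := by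
        have h := Units.mul_inv u
        rw [hu] at h
        conv_lhs => rw [← h]
        noncomm_ring
      rw [← e1, e2, mul_assoc, Units.mul_inv, mul_one]
    · rw [neg_pow, hcomm.mul_pow, hM0, zero_mul, mul_zero]
    · intro h
      rw [neg_pow, hcomm.mul_pow] at h
      refine hM1 ?_
      have hs : IsUnit ((-1 : Module.End K V) ^ (n - 1)) := (isUnit_one.neg).pow _
      exact (Units.mul_left_eq_zero (u⁻¹ ^ (n - 1))).1 (by rw [Units.val_pow_eq_pow_val]; exact hs.mul_right_eq_zero.1 h)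

theorem exists_conjugates (hK : 4 ≤ Cardinal.mk K) {n : ℕ} (hn : 3 ≤ n) (J g : GL (Fin n) K)
    (hJ : ∀ i j : Fin n, (J : Matrix (Fin n) (Fin n) K) i j = if i = j then 1 else if j.val = i.val + 1 then 1 else 0)
    (hg : ¬ ∃ c : K, (g : Matrix (Fin n) (Fin n) K) = c • (1 : Matrix (Fin n) (Fin n) K))
    (hdet : (g : Matrix (Fin n) (Fin n) K).det = 1) :
    ∃ x y : GL (Fin n) K, g = (x * J * x⁻¹) * (y * J * y⁻¹) := by
  have hB : Big K := by
    have h : Cardinal.lift.{0} (Cardinal.mk K) ≥ Cardinal.lift (Cardinal.mk (Fin 4)) := by simpa using hK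
    obtain ⟨f⟩ := Cardinal.lift_mk_le'.1 h
    exact ⟨f, f.injective⟩
  let Φ : Matrix (Fin n) (Fin n) K ≃ₐ[K] Module.End K (Fin n → K) := Matrix.toLinAlgEquiv'
  have hd : LinearMap.det (Φ g) = 1 := by
    rw [show Φ g = Matrix.toLin' (g : Matrix (Fin n) (Fin n) K) from rfl, LinearMap.det_toLin', hdet]
  obtain ⟨X, Y, h, hX0, hX1, hY0, hY1⟩ := exists_regular_factors (finrank_fin_fun K) hn hB (Φ g) hd fun ν => by
    by_contra! hno
    refine hg ⟨ν, Φ.injective ?_⟩
    rw [map_smul, map_one]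
    exact LinearMap.ext hno
  set S : Matrix (Fin n) (Fin n) K := (RegUnipClasses.shift K n)ᵀ with hS
  have hJS : (J : Matrix (Fin n) (Fin n) K) = 1 + S := by
    ext i j
    rw [hJ, hS, Matrix.add_apply, Matrix.transpose_apply, Matrix.one_apply, RegUnipClasses.shift, Matrix.of_apply]
    split_ifs with h1 h2 h3 <;> simp_all
  have hS0 : S ^ n = 0 := by rw [hS, ← Matrix.transpose_pow, RegUnipClasses.shift_pow_self, Matrix.transpose_zero]
  have hS1 : S ^ (n - 1) ≠ 0 := by
    rw [hS, ← Matrix.transpose_pow]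
    intro h0
    have h1 := congrArg Matrix.transpose h0
    rw [Matrix.transpose_transpose, Matrix.transpose_zero] at h1
    have h2 := RegUnipClasses.shift_pow_single (F := K) (show 0 < n by omega) ⟨n - 1, by omega⟩
    rw [h1, Matrix.zero_mulVec] at h2
    simpa using congrFun h2 ⟨n - 1, by omega⟩
  have conv : ∀ Z : Module.End K (Fin n → K), Z ^ n = 0 → Z ^ (n - 1) ≠ 0 →
      ∃ x : GL (Fin n) K, ((x * J * x⁻¹ : GL (Fin n) K) : Matrix (Fin n) (Fin n) K) = 1 + Φ.symm Z := by
    intro Z h0 h1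
    obtain ⟨P, hP⟩ := SympRegularUnipotent.exists_similar (Fintype.card_fin n) hS0 hS1
      (N' := Φ.symm Z) (by rw [← map_pow, h0, map_zero])
      (fun e => h1 (by rw [← map_pow] at e; exact Φ.symm.injective (by rw [e, map_zero])))
    refine ⟨P, ?_⟩
    rw [Units.val_mul, Units.val_mul, hJS, mul_add, mul_one, add_mul, hP, Units.mul_inv, mul_assoc, Units.mul_inv,
      mul_one]
  obtain ⟨x, hx⟩ := conv X hX0 hX1
  obtain ⟨y, hy⟩ := conv Y hY0 hY1
  refine ⟨x, y, Units.ext ?_⟩
  rw [Units.val_mul, hx, hy, ← map_one Φ.symm, ← map_add, ← map_add, ← map_mul, ← h, AlgEquiv.symm_apply_apply]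

end Cfsg.Agent.Classical.RegUnipProduct
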