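import Mathlib

/-!
`SL₂(ℤ/5^k)` is perfect, and the preimage of the Borel subgroup is a solvable maximal subgroup of
unbounded derived length.
-/

set_option autoImplicit false

namespace Cfsg.Agent.SL2LiftBorel

open Matrix
open scoped MatrixGroups commutatorElement

variable (k : ℕ)

/-- The ring `ℤ/5^(k+1)`. -/
abbrev R : Type := ZMod (5 ^ (k + 1))

/-- The group. -/
abbrev G : Type := SpecialLinearGroup (Fin 2) (R k)

noncomputable def red : R k →+* ZMod 5 :=
  ZMod.castHom (dvd_pow_self 5 (Nat.succ_ne_zero k)) (ZMod 5)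

variable {k}

theorem isUnit_iff (r : R k) : IsUnit r ↔ red k r ≠ 0 := by
  have hp : Nat.Prime 5 := by norm_num
  conv_lhs => rw [← ZMod.natCast_zmod_val r]
  rw [ZMod.isUnit_iff_coprime, Nat.coprime_comm, Nat.coprime_pow_left_iff (Nat.succ_pos k),
    hp.coprime_iff_not_dvd, ← CharP.cast_eq_zero_iff (ZMod 5) 5, ← map_natCast (red k),
    ZMod.natCast_zmod_val]

theorem eq_five_mul {r : R k} (h : red k r = 0) : ∃ t, r = 5 * t := by
  rw [← ZMod.natCast_zmod_val r, map_natCast, CharP.cast_eq_zero_iff (ZMod 5) 5] at h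
  obtain ⟨c, hc⟩ := h
  exact ⟨(c : R k), by rw [← ZMod.natCast_zmod_val r, hc]; push_cast; ring⟩

theorem red_five_mul (t : R k) : red k (5 * t) = 0 := by
  rw [map_mul, map_ofNat, show (5 : ZMod 5) = 0 from by decide, zero_mul]

theorem red_five_pow {m : ℕ} (hm : 1 ≤ m) (t : R k) : red k (5 ^ m * t) = 0 := by
  obtain ⟨j, rfl⟩ : ∃ j, m = j + 1 := ⟨m - 1, by omega⟩
  rw [pow_succ' (5 : R k), mul_assoc]
  exact red_five_mul _

def up (t : R k) : G k := ⟨!![1, t; 0, 1], by simp [det_fin_two_of]⟩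

def lo (t : R k) : G k := ⟨!![1, 0; t, 1], by simp [det_fin_two_of]⟩

def dg (a : (R k)ˣ) : G k := ⟨!![(a : R k), 0; 0, ((a⁻¹ : (R k)ˣ) : R k)], by simp [det_fin_two_of]⟩

@[simp] theorem coe_up (t : R k) : (up t).1 = !![1, t; 0, 1] := rfl

@[simp] theorem coe_lo (t : R k) : (lo t).1 = !![1, 0; t, 1] := rfl

@[simp] theorem coe_dg (a : (R k)ˣ) :
    (dg a).1 = !![(a : R k), 0; 0, ((a⁻¹ : (R k)ˣ) : R k)] := rfl

theorem up_zero : up (0 : R k) = 1 := by
  ext i j; fin_cases i <;> fin_cases j <;> simp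

theorem up_mul (s t : R k) : up s * up t = up (s + t) := by
  ext i j; fin_cases i <;> fin_cases j <;> simp [Matrix.mul_apply, Fin.sum_univ_two, add_comm]

theorem lo_mul (s t : R k) : lo s * lo t = lo (s + t) := by
  ext i j; fin_cases i <;> fin_cases j <;> simp [Matrix.mul_apply, Fin.sum_univ_two, add_comm]

theorem lo_zero : lo (0 : R k) = 1 := by
  ext i j; fin_cases i <;> fin_cases j <;> simp

theorem up_inv (t : R k) : (up t)⁻¹ = up (-t) :=
  inv_eq_of_mul_eq_one_right (by rw [up_mul, add_neg_cancel, up_zero])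

theorem lo_inv (t : R k) : (lo t)⁻¹ = lo (-t) :=
  inv_eq_of_mul_eq_one_right (by rw [lo_mul, add_neg_cancel, lo_zero])

theorem lo_nsmul (t : R k) (n : ℕ) : lo t ^ n = lo ((n : R k) * t) := by
  induction n with
  | zero => simp [lo_zero]
  | succ n ih => rw [pow_succ, ih, lo_mul]; push_cast; ring_nf

theorem comm_dg_up (a : (R k)ˣ) (s : R k) :
    ⁅dg a, up s⁆ = up (((a : R k) ^ 2 - 1) * s) := by
  rw [commutatorElement_def, mul_inv_eq_iff_eq_mul, mul_inv_eq_iff_eq_mul, up_mul]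
  ext i j; fin_cases i <;> fin_cases j <;> simp [Matrix.mul_apply, Fin.sum_univ_two]
  ring_nf
  linear_combination (-(((a : R k) * s))) * a.mul_inv

theorem comm_dg_lo (a : (R k)ˣ) (s : R k) :
    ⁅dg a, lo s⁆ = lo ((((a⁻¹ : (R k)ˣ) : R k) ^ 2 - 1) * s) := by
  rw [commutatorElement_def, mul_inv_eq_iff_eq_mul, mul_inv_eq_iff_eq_mul, lo_mul]
  ext i j; fin_cases i <;> fin_cases j <;> simp [Matrix.mul_apply, Fin.sum_univ_two]
  ring_nf
  linear_combination (-((((a⁻¹ : (R k)ˣ) : R k) * s))) * a.mul_inv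

theorem det_eq (x : G k) : x.1 0 0 * x.1 1 1 - x.1 0 1 * x.1 1 0 = 1 := by
  rw [← det_fin_two]; exact x.2

theorem factor (x : G k) (c : (R k)ˣ) (hc : (c : R k) = x.1 1 0) :
    x = up ((x.1 0 0 - 1) * ((c⁻¹ : (R k)ˣ) : R k)) * lo c *
      up ((x.1 1 1 - 1) * ((c⁻¹ : (R k)ˣ) : R k)) := by
  have h := det_eq x
  have hi : (c : R k) * ((c⁻¹ : (R k)ˣ) : R k) = 1 := c.mul_inv
  rw [← hc] at h
  ext i j; fin_cases i <;> fin_cases j <;> simp [Matrix.mul_apply, Fin.sum_univ_two] <;>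
    first
      | exact hc.symm
      | linear_combination (-(x.1 0 0 - 1)) * hi
      | linear_combination (-(x.1 1 1 - 1)) * hi
      | linear_combination (-((c⁻¹ : (R k)ˣ) : R k)) * h +
          (-x.1 0 1) * hi

theorem eq_top {K : Subgroup (G k)} (hu : ∀ t, up t ∈ K) (hl : ∀ t, lo t ∈ K) : K = ⊤ := by
  have key : ∀ x : G k, IsUnit (x.1 1 0) → x ∈ K := by
    intro x h
    obtain ⟨c, hc⟩ := h
    rw [factor x c hc]
    exact K.mul_mem (K.mul_mem (hu _) (hl _)) (hu _)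
  refine eq_top_iff.2 fun x _ => ?_
  by_cases h : IsUnit (x.1 1 0)
  · exact key x h
  have h0 : red k (x.1 1 0) = 0 := not_not.1 fun e => h ((isUnit_iff _).2 e)
  have h1 : red k (x.1 0 0) ≠ 0 := by
    intro e
    have := congrArg (red k) (det_eq x)
    simp [h0, e] at this
    exact absurd this (by decide)
  have := key (lo 1 * x) ((isUnit_iff _).2 (by simpa [SpecialLinearGroup.coe_mul, Matrix.mul_apply, h0] using h1))
  simpa using K.mul_mem (K.inv_mem (hl 1)) this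

theorem perfect : commutator (G k) = ⊤ := by
  have hmem : ∀ x y : G k, ⁅x, y⁆ ∈ commutator (G k) := fun x y =>
    Subgroup.commutator_mem_commutator (Subgroup.mem_top x) (Subgroup.mem_top y)
  obtain ⟨a, ha⟩ := (isUnit_iff (2 : R k)).2 (by rw [map_ofNat]; decide)
  obtain ⟨e, he⟩ := (isUnit_iff ((a : R k) ^ 2 - 1)).2 (by
    rw [ha, map_sub, map_pow, map_ofNat, map_one]; decide)
  obtain ⟨f, hf⟩ := (isUnit_iff (((a⁻¹ : (R k)ˣ) : R k) ^ 2 - 1)).2 (by
    have hz : red k ((a⁻¹ : (R k)ˣ) : R k) = 3 := by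
      have := congrArg (red k) a.mul_inv
      rw [map_mul, map_one, ha, map_ofNat] at this
      revert this
      generalize red k ((a⁻¹ : (R k)ˣ) : R k) = z
      revert z
      decide
    rw [map_sub, map_pow, hz, map_one]; decide)
  refine eq_top (fun t => ?_) fun t => ?_
  · have := hmem (dg a) (up (((e⁻¹ : (R k)ˣ) : R k) * t))
    rwa [comm_dg_up, ← he, ← mul_assoc, e.mul_inv, one_mul] at this
  · have := hmem (dg a) (lo (((f⁻¹ : (R k)ˣ) : R k) * t))
    rwa [comm_dg_lo, ← hf, ← mul_assoc, f.mul_inv, one_mul] at this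

variable (k)

/-- The preimage of the Borel subgroup. -/
def borel : Subgroup (G k) where
  carrier := {x | red k (x.1 1 0) = 0}
  mul_mem' {x y} hx hy := by
    simp only [Set.mem_setOf_eq] at hx hy ⊢
    simp [Matrix.mul_apply, hx, hy]
  one_mem' := by simp
  inv_mem' {x} hx := by
    simp only [Set.mem_setOf_eq] at hx ⊢
    simp [SpecialLinearGroup.coe_inv, adjugate_fin_two, hx]

variable {k}

theorem mem_borel {x : G k} : x ∈ borel k ↔ red k (x.1 1 0) = 0 := Iff.rfl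

theorem up_mem (t : R k) : up t ∈ borel k := by simp [mem_borel]

theorem dg_mem (a : (R k)ˣ) : dg a ∈ borel k := by simp [mem_borel]

theorem borel_isCoatom : IsCoatom (borel k) := by
  refine ⟨fun h => ?_, fun K hK => ?_⟩
  · have : lo (1 : R k) ∈ borel k := by rw [h]; trivial
    simp [mem_borel] at this
    exact absurd this (by decide)
  obtain ⟨x, hxK, hx⟩ := SetLike.exists_of_lt hK
  obtain ⟨c, hc⟩ := (isUnit_iff (x.1 1 0)).2 (mt mem_borel.2 hx)
  have hu : ∀ t, up t ∈ K := fun t => hK.le (up_mem t)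
  have hlc : lo (c : R k) ∈ K := by
    have := hxK
    rw [factor x c hc, K.mul_mem_cancel_right (hu _), K.mul_mem_cancel_left (hu _)] at this
    exact this
  refine eq_top hu fun r => ?_
  have hr : red k ((r * ((c⁻¹ : (R k)ˣ) : R k)) -
      ((red k (r * ((c⁻¹ : (R k)ˣ) : R k))).val : R k)) = 0 := by
    rw [map_sub, map_natCast, ZMod.natCast_zmod_val, sub_self]
  obtain ⟨t, ht⟩ := eq_five_mul hr
  have h2 : lo (5 * (t * (c : R k))) ∈ K := hK.le (by simp [mem_borel, red_five_mul])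
  have h3 := K.mul_mem (K.pow_mem hlc (red k (r * ((c⁻¹ : (R k)ˣ) : R k))).val) h2
  rw [lo_nsmul, lo_mul, ← mul_assoc 5 t, ← ht] at h3
  convert h3 using 2
  linear_combination (-r) * c.inv_mul

variable (k)

/-- `1 +` a multiple of `5^j`, in the matrix ring. -/
def Lvl (j : ℕ) (M : Matrix (Fin 2) (Fin 2) (R k)) : Prop :=
  ∃ N, M = 1 + (5 ^ j : R k) • N

variable {k}

theorem lvl_pow {j : ℕ} (hj : 1 ≤ j) {M : Matrix (Fin 2) (Fin 2) (R k)} (h : Lvl k j M) :
    Lvl k (j + 1) (M ^ 5) := by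
  obtain ⟨N, rfl⟩ := h
  obtain ⟨i, rfl⟩ : ∃ i, j = i + 1 := ⟨j - 1, by omega⟩
  set c : R k := 5 ^ (i + 1) with hc
  refine ⟨N + (2 * c) • N ^ 2 + (2 * c ^ 2) • N ^ 3 + c ^ 3 • N ^ 4 +
    (5 ^ (4 * i + 3) : R k) • N ^ 5, ?_⟩
  rw [(Commute.one_left (c • N)).add_pow]
  simp only [Finset.sum_range_succ, Finset.sum_range_zero, one_pow, one_mul, smul_pow,
    smul_add, smul_smul, pow_succ (5 : R k) (i + 1), ← hc]
  norm_num [Nat.choose, smul_smul, ← Nat.cast_smul_eq_nsmul (R k)]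
  simp only [← smul_mul_assoc, ← Nat.cast_ofNat (R := Matrix (Fin 2) (Fin 2) (R k)),
    ← nsmul_eq_mul', ← Nat.cast_smul_eq_nsmul (R k), smul_smul]
  push_cast
  rw [show c ^ 5 = c * 5 * 5 ^ (4 * i + 3) by
    rw [hc, ← pow_succ, ← pow_add, ← pow_mul]; ring_nf]
  abel_nf
  module

theorem pgroup_of_red {x : G k} (hx : red k (x.1 1 0) = 0) (ha : red k (x.1 0 0) = 1) :
    x ^ 5 ^ (k + 1) = 1 := by
  have hd : red k (x.1 1 1) = 1 := by
    have := congrArg (red k) (det_eq x)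
    simpa [hx, ha] using this
  have h5 : Lvl k 1 ((x.1) ^ 5) := by
    have : ((x.1) ^ 5).map (red k) = 1 := by
      have e : (x.1).map (red k) = !![1, red k (x.1 0 1); 0, 1] := by
        ext i j; fin_cases i <;> fin_cases j <;> simp [hx, ha, hd]
      rw [← RingHom.mapMatrix_apply, map_pow, RingHom.mapMatrix_apply, e]
      generalize red k (x.1 0 1) = b
      revert b
      decide
    have h2 : ∀ i j, ∃ t, ((x.1) ^ 5) i j - (1 : Matrix (Fin 2) (Fin 2) (R k)) i j = 5 * t := by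
      intro i j
      refine eq_five_mul ?_
      have h3 := congrFun (congrFun this i) j
      rw [Matrix.map_apply] at h3
      rw [map_sub, h3]
      fin_cases i <;> fin_cases j <;> simp
    choose t ht using h2
    refine ⟨Matrix.of t, Matrix.ext fun i j => ?_⟩
    rw [Matrix.add_apply, Matrix.smul_apply, Matrix.of_apply, smul_eq_mul, pow_one, ← ht, add_sub_cancel]
  have hall : ∀ n, Lvl k (n + 1) ((x.1) ^ 5 ^ (n + 1)) := by
    intro n
    induction n with
    | zero => simpa using h5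
    | succ n ih =>
      rw [pow_succ 5 (n + 1), pow_mul]
      exact lvl_pow (by omega) ih
  obtain ⟨N, hN⟩ := hall k
  apply Subtype.ext
  show (x.1) ^ 5 ^ (k + 1) = 1
  rw [hN]
  rw [show (5 ^ (k + 1) : R k) = ((5 ^ (k + 1) : ℕ) : R k) by push_cast; rfl, ZMod.natCast_self,
    zero_smul, add_zero]

theorem borel_solvable : Group.IsSolvable (borel k) := by
  have := Fact.mk (show Nat.Prime 5 by norm_num)
  let φ : borel k →* ZMod 5 :=
    { toFun := fun x => red k (x.1.1 0 0)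
      map_one' := by simp
      map_mul' := fun x y => by simp [Matrix.mul_apply, mem_borel.1 y.2] }
  have hker : IsPGroup 5 φ.toHomUnits.ker := fun x => by
    refine ⟨k + 1, Subtype.ext (Subtype.ext ?_)⟩
    push_cast
    refine pgroup_of_red x.1.2 ?_
    exact congrArg Units.val (MonoidHom.mem_ker.1 x.2)
  have : Group.IsNilpotent φ.toHomUnits.ker := hker.isNilpotent
  exact solvable_of_ker_le_range φ.toHomUnits.ker.subtype φ.toHomUnits (by simp)

/-- The commutator step. -/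
theorem step {D D' : Subgroup (G k)} (hc : ∀ x ∈ D, ∀ y ∈ D, ⁅x, y⁆ ∈ D') {m : ℕ} (hm : 1 ≤ m)
    (hu : ∀ t, up (5 ^ m * t) ∈ D) (hl : ∀ t, lo (5 ^ m * t) ∈ D)
    (hd : ∃ a e : (R k)ˣ, dg a ∈ D ∧ (a : R k) ^ 2 = 1 + 5 ^ m * e) :
    (∀ t, up (5 ^ (2 * m) * t) ∈ D') ∧ (∀ t, lo (5 ^ (2 * m) * t) ∈ D') ∧
      ∃ a e : (R k)ˣ, dg a ∈ D' ∧ (a : R k) ^ 2 = 1 + 5 ^ (2 * m) * e := by
  obtain ⟨a, e, ha, hae⟩ := hd
  have hu' : ∀ t, up (5 ^ (2 * m) * t) ∈ D' := fun t => by
    have := hc _ ha _ (hu (((e⁻¹ : (R k)ˣ) : R k) * t))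
    rw [comm_dg_up, hae] at this
    convert this using 2
    linear_combination (-(5 ^ (2 * m) : R k) * t) * e.mul_inv
  have hl' : ∀ t, lo (5 ^ (2 * m) * t) ∈ D' := fun t => by
    have := hc _ ha _ (hl (-((a : R k) ^ 2) * ((e⁻¹ : (R k)ˣ) : R k) * t))
    rw [comm_dg_lo] at this
    convert this using 2
    linear_combination ((5 ^ m : R k) * ((e⁻¹ : (R k)ˣ) : R k) * t *
        ((a : R k) * ((a⁻¹ : (R k)ˣ) : R k) + 1)) * a.mul_inv +
      (-(5 ^ m : R k) * ((e⁻¹ : (R k)ˣ) : R k) * t) * hae + (-(5 ^ (2 * m) : R k) * t) * e.mul_inv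
  refine ⟨hu', hl', ?_⟩
  set N : R k := 5 ^ (2 * m) with hN
  have hN0 : red k N = 0 := by
    have := red_five_pow (k := k) (show 1 ≤ 2 * m by omega) 1
    rwa [mul_one] at this
  obtain ⟨A, hA⟩ := (isUnit_iff (1 + N + N ^ 2)).2 (by simp [hN0]; decide)
  obtain ⟨E, hE⟩ := (isUnit_iff (2 + 3 * N + 2 * N ^ 2 + N ^ 3)).2 (by
    simp [hN0, show red k 2 = 2 from map_ofNat _ 2]; decide)
  refine ⟨A, E, ?_, by rw [hA, hE]; ring⟩
  set x : R k := 5 ^ m * 1 with hx
  have h1 := hc _ (hu 1) _ (hl 1)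
  have hdec : ⁅up x, lo x⁆ = lo (N * ((5 ^ m : R k) * ((A⁻¹ : (R k)ˣ) : R k))) * dg A *
      up (N * (-(5 ^ m : R k) * ((A⁻¹ : (R k)ˣ) : R k))) := by
    rw [commutatorElement_def, up_inv, lo_inv]
    have hi : (A : R k) * ((A⁻¹ : (R k)ˣ) : R k) = 1 := A.mul_inv
    ext i j; fin_cases i <;> fin_cases j <;> simp [Matrix.mul_apply, Fin.sum_univ_two, hx] <;>
      simp only [hN, pow_mul', sq] at hA ⊢ <;>
      first
        | linear_combination (-1 : R k) * hA
        | linear_combination ((5 ^ m : R k) * 5 ^ m * 5 ^ m) * hi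
        | linear_combination (-(5 ^ m : R k) * 5 ^ m * 5 ^ m) * hi
        | linear_combination (((5 ^ m : R k) * 5 ^ m * 5 ^ m) ^ 2 * ((A⁻¹ : (R k)ˣ) : R k)) * hi +
            ((5 ^ m : R k) * 5 ^ m - 1) * hi + ((1 - (5 ^ m : R k) * 5 ^ m) *
            ((A⁻¹ : (R k)ˣ) : R k)) * hA
  rw [hx] at hdec
  rw [hdec, D'.mul_mem_cancel_right (hu' _), D'.mul_mem_cancel_left (hl' _)] at h1
  exact h1

theorem derived_mem (d : ℕ) :
    ∀ t, up ((5 : R k) ^ 2 ^ d * t) ∈ (derivedSeries (borel k) d).map (borel k).subtype := by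
  suffices H : (∀ t, up ((5 : R k) ^ 2 ^ d * t) ∈ (derivedSeries (borel k) d).map (borel k).subtype) ∧
      (∀ t, lo ((5 : R k) ^ 2 ^ d * t) ∈ (derivedSeries (borel k) d).map (borel k).subtype) ∧
      ∃ a e : (R k)ˣ, dg a ∈ (derivedSeries (borel k) d).map (borel k).subtype ∧
        (a : R k) ^ 2 = 1 + 5 ^ 2 ^ d * e from H.1
  induction d with
  | zero =>
    simp only [derivedSeries_zero, ← MonoidHom.range_eq_map, Subgroup.range_subtype, pow_zero, pow_one]
    refine ⟨fun t => up_mem _, fun t => by simp [mem_borel, red_five_mul], ?_⟩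
    obtain ⟨a, ha⟩ := (isUnit_iff (6 : R k)).2 (by rw [map_ofNat]; decide)
    obtain ⟨e, he⟩ := (isUnit_iff (7 : R k)).2 (by rw [map_ofNat]; decide)
    exact ⟨a, e, dg_mem a, by rw [ha, he]; norm_num⟩
  | succ d ih =>
    rw [pow_succ' 2 d, derivedSeries_succ, Subgroup.map_commutator]
    exact step (fun x hx y hy => Subgroup.commutator_mem_commutator hx hy)
      (Nat.one_le_two_pow) ih.1 ih.2.1 ih.2.2

theorem derived_ne_bot (d : ℕ) (hd : 2 ^ d ≤ k) : derivedSeries (borel k) d ≠ ⊥ := by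
  intro h
  have := derived_mem (k := k) d 1
  rw [h, Subgroup.map_bot, Subgroup.mem_bot] at this
  have h2 := congrFun (congrFun (congrArg Subtype.val this) 0) 1
  simp at h2
  have h3 : ((5 ^ 2 ^ d : ℕ) : R k) = 0 := by push_cast; exact h2
  rw [CharP.cast_eq_zero_iff (R k) (5 ^ (k + 1)), Nat.pow_dvd_pow_iff_le_right (by norm_num)] at h3
  omega

end Cfsg.Agent.SL2LiftBorel
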