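import Mathlib

/-!
A semisimple class `C` of `PSL₃(q)` with `CC` containing every non-identity element: factorisation of
non-scalar `3 × 3` matrices into two conjugates of a fixed semisimple element.
-/

set_option autoImplicit false
set_option linter.unusedSectionVars false

namespace Cfsg.Agent.Classical.SL3Square

open Matrix

variable {F : Type*} [Field F]

local notation "V3" => (Fin 3 → F)
local notation "M3" => Matrix (Fin 3) (Fin 3) F

/-- Three independent vectors. -/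
def Ind (u v w : V3) : Prop := ∀ a b c : F, a • u + b • v + c • w = 0 → a = 0 ∧ b = 0 ∧ c = 0

/-- The matrix with the given columns. -/
def cols (u v w : V3) : M3 := (Matrix.of ![u, v, w])ᵀ

theorem cols_mulVec (u v w c : V3) : cols u v w *ᵥ c = c 0 • u + c 1 • v + c 2 • w := by
  funext i
  simp [cols, Matrix.mulVec, dotProduct, Fin.sum_univ_three, mul_comm]

theorem det_cols_ne {u v w : V3} (h : Ind u v w) : (cols u v w).det ≠ 0 := fun h0 => by
  obtain ⟨c, hc, hc0⟩ := Matrix.exists_mulVec_eq_zero_iff.2 h0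
  obtain ⟨h1, h2, h3⟩ := h _ _ _ ((cols_mulVec u v w c).symm.trans hc0)
  exact hc (funext fun i => by fin_cases i <;> assumption)

theorem mul_cols (G h : M3) {u v w : V3} (h1 : G *ᵥ u = h 0 0 • u + h 1 0 • v + h 2 0 • w)
    (h2 : G *ᵥ v = h 0 1 • u + h 1 1 • v + h 2 1 • w) (h3 : G *ᵥ w = h 0 2 • u + h 1 2 • v + h 2 2 • w) :
    G * cols u v w = cols u v w * h := by
  ext i j
  have e1 := congrFun h1 i
  have e2 := congrFun h2 i
  have e3 := congrFun h3 i
  simp [Matrix.mulVec, dotProduct, Fin.sum_univ_three] at e1 e2 e3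
  fin_cases j <;> simp [cols, Matrix.mul_apply, Fin.sum_univ_three]
  · linear_combination e1
  · linear_combination e2
  · linear_combination e3

/-- `G` is similar to `h`. -/
def Sim (G h : M3) : Prop := ∃ M : M3, M.det ≠ 0 ∧ G * M = M * h

theorem Sim.det_eq {G h : M3} (e : Sim G h) : h.det = G.det := by
  obtain ⟨M, hM, e⟩ := e
  have := congrArg Matrix.det e
  rw [Matrix.det_mul, Matrix.det_mul, mul_comm] at this
  exact (mul_left_cancel₀ hM this).symm

theorem Sim.trans {A B C : M3} (h : Sim A B) (h' : Sim B C) : Sim A C := by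
  obtain ⟨M, hM, e⟩ := h
  obtain ⟨N, hN, e'⟩ := h'
  exact ⟨M * N, by rw [Matrix.det_mul]; exact mul_ne_zero hM hN,
    by rw [← Matrix.mul_assoc, e, Matrix.mul_assoc, e', Matrix.mul_assoc]⟩

theorem exists_not_eigen {G : M3} (hG : ∀ c : F, G ≠ c • 1) :
    ∃ v : V3, ∀ a b : F, a • v + b • (G *ᵥ v) = 0 → a = 0 ∧ b = 0 := by
  by_contra hcon
  push Not at hcon
  have heig : ∀ v : V3, ∃ c : F, G *ᵥ v = c • v := by
    intro v
    obtain ⟨a, b, h, hab⟩ := hcon v
    by_cases hb : b = 0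
    · subst hb
      have ha : a ≠ 0 := fun ha => hab ha rfl
      rw [zero_smul, add_zero, smul_eq_zero] at h
      exact ⟨0, by rw [h.resolve_left ha, Matrix.mulVec_zero, smul_zero]⟩
    · refine ⟨-(b⁻¹ * a), ?_⟩
      have := congrArg (b⁻¹ • ·) h
      simp [smul_add, smul_smul, inv_mul_cancel₀ hb] at this
      rw [neg_smul, eq_neg_iff_add_eq_zero, add_comm]; exact this
  have hoff : ∀ i l, i ≠ l → G i l = 0 := by
    intro i l hil
    obtain ⟨c, hc⟩ := heig (Pi.single l 1)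
    have := congrFun hc i
    simpa [Matrix.mulVec_single, hil] using this
  have hdiag : ∀ i l, G i i = G l l := by
    intro i l
    by_cases hil : i = l
    · rw [hil]
    obtain ⟨c, hc⟩ := heig (Pi.single i 1 + Pi.single l 1)
    have h1 := congrFun hc i
    have h2 := congrFun hc l
    simp [Matrix.mulVec_add, Matrix.mulVec_single, hoff i l hil, hil] at h1
    simp [Matrix.mulVec_add, Matrix.mulVec_single, hoff l i (Ne.symm hil), Ne.symm hil] at h2
    rw [h1, h2]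
  refine hG (G 0 0) (Matrix.ext fun i l => ?_)
  by_cases hil : i = l
  · subst hil; simp [hdiag i 0]
  · simp [hoff i l hil, hil]

/-- The Hessenberg shape with prescribed minors. -/
def hess (m₁ m₂ u w z : F) : M3 := !![m₁, -m₂, u; 1, 0, w; 0, 1, z]

/-- The two non-cyclic shapes. -/
def nA (a b : F) : M3 := !![a, 0, 0; 1, b, 0; 0, 0, a]
@[inherit_doc nA]
def nB (a b : F) : M3 := !![a, 0, 0; 0, a, 0; 1, 0, b]

theorem hess_of_cyclic {G : M3} {v : V3} (hv : Ind v (G *ᵥ v) (G *ᵥ (G *ᵥ v))) (m₁ m₂ : F) :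
    ∃ u w z : F, Sim G (hess m₁ m₂ u w z) := by
  set b₂ := G *ᵥ v - m₁ • v
  set b₃ := G *ᵥ b₂ + m₂ • v
  have hind : Ind v b₂ b₃ := by
    intro a b c h
    obtain ⟨h1, h2, h3⟩ := hv (a - b * m₁ + c * m₂) (b - c * m₁) c (by
      rw [← h]; simp only [b₃, b₂, Matrix.mulVec_sub, Matrix.mulVec_smul]; module)
    subst h3
    simp only [zero_mul, sub_zero, add_zero] at h1 h2
    subst h2
    exact ⟨by simpa using h1, rfl, rfl⟩
  set M := cols v b₂ b₃
  have hM := det_cols_ne hind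
  set c := M⁻¹ *ᵥ (G *ᵥ b₃)
  refine ⟨c 0, c 1, c 2, M, hM, mul_cols G _ ?_ ?_ ?_⟩
  · simp [hess, b₂]
  · simp [hess, b₃]
  · have : M *ᵥ c = G *ᵥ b₃ := by
      rw [Matrix.mulVec_mulVec, Matrix.mul_nonsing_inv _ (isUnit_iff_ne_zero.2 hM), Matrix.one_mulVec]
    rw [← this, cols_mulVec]
    simp [hess]

/-- The normal forms. -/
theorem normal_form {G : M3} (hG : ∀ c : F, G ≠ c • 1) :
    (∀ m₁ m₂ : F, ∃ u w z : F, Sim G (hess m₁ m₂ u w z)) ∨
      ∃ a b : F, Sim G (nA a b) ∧ Sim G (nB a b) := by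
  classical
  by_cases hcyc : ∃ v : V3, Ind v (G *ᵥ v) (G *ᵥ (G *ᵥ v))
  · obtain ⟨v, hv⟩ := hcyc
    exact Or.inl (hess_of_cyclic hv)
  refine Or.inr ?_
  obtain ⟨v, hv⟩ := exists_not_eigen hG
  obtain ⟨s, t, hst⟩ : ∃ s t : F, G *ᵥ (G *ᵥ v) = t • v + s • (G *ᵥ v) := by
    have h : ¬ Ind v (G *ᵥ v) (G *ᵥ (G *ᵥ v)) := fun hi => hcyc ⟨v, hi⟩
    unfold Ind at h
    push Not at h
    obtain ⟨a, b, c, h1, h2⟩ := h
    by_cases hc : c = 0
    · subst hc
      obtain ⟨ha, hb⟩ := hv a b (by simpa using h1)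
      exact absurd rfl (h2 ha hb)
    refine ⟨-(c⁻¹ * b), -(c⁻¹ * a), ?_⟩
    have := congrArg (c⁻¹ • ·) h1
    simp only [smul_add, smul_smul, inv_mul_cancel₀ hc, one_smul, smul_zero] at this
    linear_combination (norm := module) this
  obtain ⟨w, hw⟩ : ∃ w : V3, w ∉ Submodule.span F (Set.range ![v, G *ᵥ v]) := by
    by_contra h
    push Not at h
    have h1 := finrank_range_le_card (R := F) ![v, G *ᵥ v]
    rw [Set.finrank, Submodule.eq_top_iff'.2 h, finrank_top, Module.finrank_pi] at h1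
    simp at h1
  have hvw : Ind v (G *ᵥ v) w := by
    intro a b c h
    by_cases hc : c = 0
    · subst hc
      obtain ⟨ha, hb⟩ := hv a b (by simpa using h)
      exact ⟨ha, hb, rfl⟩
    refine absurd ?_ hw
    have hv' : v ∈ Submodule.span F (Set.range ![v, G *ᵥ v]) := Submodule.subset_span ⟨0, rfl⟩
    have hv'' : G *ᵥ v ∈ Submodule.span F (Set.range ![v, G *ᵥ v]) := Submodule.subset_span ⟨1, rfl⟩
    rw [show w = (-(c⁻¹ * a)) • v + (-(c⁻¹ * b)) • (G *ᵥ v) by
      have := congrArg (c⁻¹ • ·) h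
      simp only [smul_add, smul_smul, inv_mul_cancel₀ hc, one_smul, smul_zero] at this
      linear_combination (norm := module) this]
    exact add_mem (Submodule.smul_mem _ _ hv') (Submodule.smul_mem _ _ hv'')
  set C := cols v (G *ᵥ v) w
  obtain ⟨α, β, a, hgw⟩ : ∃ α β a : F, G *ᵥ w = α • v + β • (G *ᵥ v) + a • w := by
    refine ⟨(C⁻¹ *ᵥ (G *ᵥ w)) 0, (C⁻¹ *ᵥ (G *ᵥ w)) 1, (C⁻¹ *ᵥ (G *ᵥ w)) 2, ?_⟩
    rw [← cols_mulVec, Matrix.mulVec_mulVec, Matrix.mul_nonsing_inv _ (isUnit_iff_ne_zero.2 (det_cols_ne hvw)),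
      Matrix.one_mulVec]
  -- no vector of the coset of `w` is cyclic
  have key : ∀ c d : F, (α - a * c + t * d) * ((α - a * c + t * d) + s * (β + c + (s - a) * d)) -
      t * (β + c + (s - a) * d) ^ 2 = 0 := by
    intro c d
    by_contra hD
    refine hcyc ⟨w + c • v + d • (G *ᵥ v), fun p q r h => ?_⟩
    set A := α - a * c + t * d
    set B := β + c + (s - a) * d
    have hGx : G *ᵥ (w + c • v + d • (G *ᵥ v)) = A • v + B • (G *ᵥ v) + a • (w + c • v + d • (G *ᵥ v)) := by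
      simp only [Matrix.mulVec_add, Matrix.mulVec_smul, hgw, hst, A, B]
      module
    have hGGx : G *ᵥ (G *ᵥ (w + c • v + d • (G *ᵥ v))) =
        (a * A + t * B) • v + (a * B + A + s * B) • (G *ᵥ v) + (a * a) • (w + c • v + d • (G *ᵥ v)) := by
      rw [hGx]
      simp only [Matrix.mulVec_add, Matrix.mulVec_smul, hgw, hst, A, B]
      module
    rw [hGGx, hGx] at h
    obtain ⟨h1, h2, h3⟩ := hvw (q * A + r * (a * A + t * B) + c * (p + q * a + r * (a * a)))
      (q * B + r * (a * B + A + s * B) + d * (p + q * a + r * (a * a))) (p + q * a + r * (a * a))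
      (by rw [← h]; module)
    rw [h3, mul_zero, add_zero] at h1 h2
    have hr : r = 0 := (mul_eq_zero.1 (show r * (A * (A + s * B) - t * B ^ 2) = 0 by
      linear_combination A * h2 - B * h1)).resolve_right hD
    subst hr
    have hq : q = 0 := by
      by_contra hq
      have hA : A = 0 := by simpa [hq] using h1
      have hB : B = 0 := by simpa [hq] using h2
      exact hD (by rw [hA, hB]; ring)
    subst hq
    exact ⟨by simpa using h3, rfl, rfl⟩
  have hf : t = a * a - s * a := by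
    by_contra hf
    set f := a * a - s * a - t
    have hf0 : f ≠ 0 := fun h => hf (by linear_combination -h)
    obtain ⟨c, d, hA, hB⟩ : ∃ c d : F, α - a * c + t * d = 1 ∧ β + c + (s - a) * d = 0 :=
      ⟨-β - (s - a) * (-((α + a * β - 1) / (t + a * (s - a)))), -((α + a * β - 1) / (t + a * (s - a))),
        by
          have h0 : t + a * (s - a) ≠ 0 := fun h => hf (by linear_combination h)
          field_simp
          ring,
        by ring⟩
    have := key c d
    rw [hA, hB] at this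
    exact one_ne_zero (by linear_combination this)
  set b := s - a with hb
  have hconst : α + a * β = 0 := by
    by_contra h0
    have h1 : ∀ c : F, α + b * β + (b - a) * c = 0 := fun c => by
      have := key c 0
      refine (mul_eq_zero.1 (show (α + a * β) * (α + b * β + (b - a) * c) = 0 by
        rw [hb]; rw [hf] at this; linear_combination this)).resolve_left h0
    have h2 := h1 0
    have h3 := h1 1
    exact h0 (by linear_combination h2 - β * (h3 - h2))
  refine ⟨a, b, ?_⟩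
  set x := w - β • v
  set e := G *ᵥ v - a • v
  have hx : G *ᵥ x = a • x := by
    rw [Matrix.mulVec_sub, Matrix.mulVec_smul, hgw, show α = -(a * β) by linear_combination hconst]
    simp only [x]; module
  have he : G *ᵥ e = b • e := by
    rw [Matrix.mulVec_sub, Matrix.mulVec_smul, hst, hf]
    simp only [e, hb]; module
  have hvv : G *ᵥ v = a • v + e := by simp [e]
  have hind : Ind v e x := fun p q r h => by
    obtain ⟨h1, h2, h3⟩ := hvw (p - q * a - r * β) q r (by rw [← h]; simp only [e, x]; module)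
    subst h2 h3
    exact ⟨by simpa using h1, rfl, rfl⟩
  have hind' : Ind v x e := fun p q r h => by
    obtain ⟨h1, h2, h3⟩ := hind p r q (by rw [← h]; abel)
    exact ⟨h1, h3, h2⟩
  refine ⟨⟨cols v e x, det_cols_ne hind, mul_cols G _ ?_ ?_ ?_⟩,
    ⟨cols v x e, det_cols_ne hind', mul_cols G _ ?_ ?_ ?_⟩⟩ <;> simp [nA, nB, hvv, he, hx]

/-- Non-cyclic matrices have shapes with prescribed minors. -/
theorem minors_of_nc {G : M3} {a b : F} (h : Sim G (nA a b)) (h' : Sim G (nB a b)) (ha : a ≠ 0) (m₁ m₂ : F) :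
    ∃ k : M3, Sim G k ∧ k 0 0 = m₁ ∧ k 0 0 * k 1 1 - k 0 1 * k 1 0 = m₂ := by
  classical
  set p₁ := m₁ - a
  set p₂ := (m₂ - a * m₁) / a
  set p₃ := b - a - p₁ - p₂
  by_cases hp : p₁ = 0 ∧ p₂ = 0
  · obtain ⟨h1, h2⟩ := hp
    refine ⟨nB a b, h', ?_, ?_⟩
    · simp [nB]; exact (sub_eq_zero.1 h1).symm
    · simp [nB]
      have h3 : m₂ - a * m₁ = 0 := (div_eq_zero_iff.1 h2).resolve_right ha
      rw [show m₁ = a from sub_eq_zero.1 h1] at h3
      linear_combination -h3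
  set k : M3 := !![a + p₁, p₂, p₃; p₁, a + p₂, p₃; p₁, p₂, a + p₃]
  refine ⟨k, h.trans ?_, by simp [k, p₁], ?_⟩
  swap
  · simp [k, p₁, p₂]; field_simp; ring
  obtain ⟨c₁, c₃, h1, h3, hi⟩ : ∃ c₁ c₃ : V3, p₁ * c₁ 0 + p₂ * c₁ 1 + p₃ * c₁ 2 = 1 ∧
      p₁ * c₃ 0 + p₂ * c₃ 1 + p₃ * c₃ 2 = 0 ∧ Ind c₁ ![1, 1, 1] c₃ := by
    by_cases hp1 : p₁ = 0
    · have hp2 : p₂ ≠ 0 := fun h2 => hp ⟨hp1, h2⟩
      refine ⟨![0, p₂⁻¹, 0], ![1, 0, 0], by simp [hp2], by simp [hp1], fun x y z h => ?_⟩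
      have e0 := congrFun h 0
      have e1 := congrFun h 1
      have e2 := congrFun h 2
      simp at e0 e1 e2
      subst e2
      simp [hp2] at e0 e1
      exact ⟨e1, rfl, e0⟩
    · refine ⟨![p₁⁻¹, 0, 0], ![p₂, -p₁, 0], by simp [hp1], by simp; ring, fun x y z h => ?_⟩
      have e0 := congrFun h 0
      have e1 := congrFun h 1
      have e2 := congrFun h 2
      simp at e0 e1 e2
      subst e2
      simp [hp1] at e1
      subst e1
      simp [hp1] at e0
      exact ⟨e0, rfl, rfl⟩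
  set P := cols c₁ ![1, 1, 1] c₃
  have hPd := det_cols_ne hi
  have hkP : k * P = P * nA a b := by
    refine mul_cols k _ ?_ ?_ ?_ <;>
      (funext i; fin_cases i <;>
        simp [nA, k, Matrix.mulVec, dotProduct, Fin.sum_univ_three, Matrix.vecHead, Matrix.vecTail])
    all_goals first | linear_combination h1 | linear_combination h3 | (simp only [p₃]; ring)
  have hu : IsUnit P.det := isUnit_iff_ne_zero.2 hPd
  refine ⟨P⁻¹, (Matrix.isUnit_nonsing_inv_det P hu).ne_zero, ?_⟩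
  calc nA a b * P⁻¹ = P⁻¹ * (P * nA a b) * P⁻¹ := by
        rw [← Matrix.mul_assoc, Matrix.nonsing_inv_mul P hu, Matrix.one_mul]
    _ = P⁻¹ * (k * P) * P⁻¹ := by rw [hkP]
    _ = P⁻¹ * k := by rw [Matrix.mul_assoc, Matrix.mul_assoc, Matrix.mul_nonsing_inv P hu, Matrix.mul_one]

/-- `A` is conjugate to `X`. -/
def IsC (X A : M3) : Prop := ∃ R : M3, R.det ≠ 0 ∧ A = R * X * R⁻¹

theorem isC_of_mul {X A R : M3} (hR : R.det ≠ 0) (h : A * R = R * X) : IsC X A :=
  ⟨R, hR, by rw [← h, Matrix.mul_assoc, Matrix.mul_nonsing_inv _ (isUnit_iff_ne_zero.2 hR), Matrix.mul_one]⟩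

theorem IsC.conj {X A M : M3} (h : IsC X A) (hM : M.det ≠ 0) : IsC X (M * A * M⁻¹) := by
  obtain ⟨R, hR, rfl⟩ := h
  exact ⟨M * R, by rw [Matrix.det_mul]; exact mul_ne_zero hM hR, by
    rw [Matrix.mul_inv_rev]; simp only [Matrix.mul_assoc]⟩

theorem Sim.factor {X G h : M3} (e : Sim G h) (hh : ∃ A B : M3, IsC X A ∧ IsC X B ∧ h = A * B) :
    ∃ A B : M3, IsC X A ∧ IsC X B ∧ G = A * B := by
  obtain ⟨M, hM, e⟩ := e
  obtain ⟨A, B, hA, hB, rfl⟩ := hh
  have hu : IsUnit M.det := isUnit_iff_ne_zero.2 hM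
  refine ⟨M * A * M⁻¹, M * B * M⁻¹, hA.conj hM, hB.conj hM, ?_⟩
  calc G = G * M * M⁻¹ := by rw [Matrix.mul_assoc, Matrix.mul_nonsing_inv _ hu, Matrix.mul_one]
    _ = M * (A * B) * M⁻¹ := by rw [e]
    _ = _ := by
      simp only [Matrix.mul_assoc]
      rw [← Matrix.mul_assoc M⁻¹ M, Matrix.nonsing_inv_mul _ hu, Matrix.one_mul]

/-- Prescribed minors give a product of two conjugates of a diagonal matrix. -/
theorem factor_diag {d₁ d₂ d₃ : F} (h12 : d₁ ≠ d₂) (h13 : d₁ ≠ d₃) (h23 : d₂ ≠ d₃) (hd : d₁ * d₂ * d₃ = 1)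
    {h : M3} (hdet : h.det = 1) (m1 : h 0 0 = d₁ * d₁)
    (m2 : h 0 0 * h 1 1 - h 0 1 * h 1 0 = d₁ * d₁ * (d₂ * d₂)) :
    ∃ A B : M3, IsC (diagonal ![d₁, d₂, d₃]) A ∧ IsC (diagonal ![d₁, d₂, d₃]) B ∧ h = A * B := by
  have h1 : d₁ ≠ 0 := fun h0 => zero_ne_one (α := F) (by rw [← hd, h0]; ring)
  have h2 : d₂ ≠ 0 := fun h0 => zero_ne_one (α := F) (by rw [← hd, h0]; ring)
  set u₁ := h 0 1 / d₁ with hu1
  set u₂ := h 0 2 / d₁ with hu2
  set l₁ := h 1 0 / d₁ with hl1
  set l₂ := h 2 0 / d₁ with hl2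
  set u₃ := (h 1 2 - l₁ * u₂) / d₂ with hu3
  set l₃ := (h 2 1 - l₂ * u₁) / d₂ with hl3
  have e11 : h 1 1 = l₁ * u₁ + d₂ * d₂ := by
    rw [m1] at m2
    rw [hl1, hu1]; field_simp
    linear_combination m2
  have e01 : h 0 1 = d₁ * u₁ := by rw [hu1]; field_simp
  have e02 : h 0 2 = d₁ * u₂ := by rw [hu2]; field_simp
  have e10 : h 1 0 = l₁ * d₁ := by rw [hl1]; field_simp
  have e20 : h 2 0 = l₂ * d₁ := by rw [hl2]; field_simp
  have e12 : h 1 2 = l₁ * u₂ + d₂ * u₃ := by rw [hu3]; field_simp; ring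
  have e21 : h 2 1 = l₂ * u₁ + l₃ * d₂ := by rw [hl3]; field_simp; ring
  set L : M3 := !![d₁, 0, 0; l₁, d₂, 0; l₂, l₃, d₃]
  set U : M3 := !![d₁, u₁, u₂; 0, d₂, u₃; 0, 0, d₃]
  have e22 : h 2 2 = l₂ * u₂ + l₃ * u₃ + d₃ * d₃ := by
    rw [Matrix.det_fin_three] at hdet
    rw [m1, e01, e02, e10, e20, e11, e12, e21] at hdet
    refine mul_left_cancel₀ (mul_ne_zero (mul_ne_zero h1 h1) (mul_ne_zero h2 h2)) ?_
    linear_combination hdet - (d₁ * d₂ * d₃ + 1) * hd
  refine ⟨L, U, ?_, ?_, ?_⟩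
  · set x := l₁ / (d₁ - d₂) with hx
    set z := l₃ / (d₂ - d₃) with hz
    set y := (l₂ + l₃ * x) / (d₁ - d₃) with hy
    have e1 : l₁ = x * (d₁ - d₂) := by rw [hx, div_mul_cancel₀ _ (sub_ne_zero.2 h12)]
    have e2 : l₃ = z * (d₂ - d₃) := by rw [hz, div_mul_cancel₀ _ (sub_ne_zero.2 h23)]
    have e3 : l₂ + l₃ * x = y * (d₁ - d₃) := by rw [hy, div_mul_cancel₀ _ (sub_ne_zero.2 h13)]
    refine isC_of_mul (R := !![1, 0, 0; x, 1, 0; y, z, 1]) (by simp [Matrix.det_fin_three]) ?_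
    ext i j
    fin_cases i <;> fin_cases j <;> simp [L, Matrix.mul_apply, Fin.sum_univ_three]
    · linear_combination e1
    · linear_combination e3
    · linear_combination e2
  · set x := u₁ / (d₂ - d₁) with hx
    set z := u₃ / (d₃ - d₂) with hz
    set y := (u₂ + u₁ * z) / (d₃ - d₁) with hy
    have e1 : u₁ = x * (d₂ - d₁) := by rw [hx, div_mul_cancel₀ _ (sub_ne_zero.2 (Ne.symm h12))]
    have e2 : u₃ = z * (d₃ - d₂) := by rw [hz, div_mul_cancel₀ _ (sub_ne_zero.2 (Ne.symm h23))]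
    have e3 : u₂ + u₁ * z = y * (d₃ - d₁) := by rw [hy, div_mul_cancel₀ _ (sub_ne_zero.2 (Ne.symm h13))]
    refine isC_of_mul (R := !![1, x, y; 0, 1, z; 0, 0, 1]) (by simp [Matrix.det_fin_three]) ?_
    ext i j
    fin_cases i <;> fin_cases j <;> simp [U, Matrix.mul_apply, Fin.sum_univ_three]
    · linear_combination e1
    · linear_combination e3
    · linear_combination e2
  · ext i j
    fin_cases i <;> fin_cases j <;> simp [L, U, Matrix.mul_apply, Fin.sum_univ_three]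
    all_goals first | linear_combination m1 | linear_combination e01 | linear_combination e02 |
      linear_combination e10 | linear_combination e11 | linear_combination e12 | linear_combination e20 |
      linear_combination e21 | linear_combination e22

theorem nc_det_ne {a b : F} {G : M3} (h : Sim G (nA a b)) (hG : G.det = 1) : a ≠ 0 ∧ a * a * b = 1 := by
  have e := h.det_eq
  rw [hG, Matrix.det_fin_three] at e
  simp [nA] at e
  exact ⟨fun h0 => zero_ne_one (α := F) (by rw [← e, h0]; ring), by linear_combination e⟩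

/-- Every non-scalar matrix of determinant one is such a product. -/
theorem factor_ge_four {d₁ d₂ d₃ : F} (h12 : d₁ ≠ d₂) (h13 : d₁ ≠ d₃) (h23 : d₂ ≠ d₃) (hd : d₁ * d₂ * d₃ = 1)
    {G : M3} (hdet : G.det = 1) (hG : ∀ c : F, G ≠ c • 1) :
    ∃ A B : M3, IsC (diagonal ![d₁, d₂, d₃]) A ∧ IsC (diagonal ![d₁, d₂, d₃]) B ∧ G = A * B := by
  obtain ⟨k, hk, hk1, hk2⟩ : ∃ k : M3, Sim G k ∧ k 0 0 = d₁ * d₁ ∧
      k 0 0 * k 1 1 - k 0 1 * k 1 0 = d₁ * d₁ * (d₂ * d₂) := by
    rcases normal_form hG with h | ⟨a, b, h, h'⟩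
    · obtain ⟨u, w, z, h⟩ := h (d₁ * d₁) (d₁ * d₁ * (d₂ * d₂))
      exact ⟨_, h, by simp [hess], by simp [hess]⟩
    · exact minors_of_nc h h' (nc_det_ne h hdet).1 _ _
  exact hk.factor (factor_diag h12 h13 h23 hd (hk.det_eq.trans hdet) hk1 hk2)

end Cfsg.Agent.Classical.SL3Square
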