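import Cfsg.Agent.Lib.Classical.SL3Square

/-!
The semisimple class squaring onto `PSL₃(q) ∖ {1}`: the field of three elements, and the passage to `PSL₃`.
-/

set_option autoImplicit false
set_option linter.unusedSectionVars false

namespace Cfsg.Agent.Classical.SL3Square

open Matrix

local notation "M3" => Matrix (Fin 3) (Fin 3) (ZMod 3)

/-- An element of order eight of `SL₃(3)`. -/
def x3 : M3 := !![0, 0, 1; 1, 0, 0; 0, 1, 1]

theorem x3_pow : x3 ^ 8 = 1 := by decide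

theorem x3_det : x3.det = 1 := by decide

/-- Witnesses for a product of two conjugates of `x3`. -/
def Wit (h : M3) : Prop :=
  ∃ P P' Q Q' : M3, P * P' = 1 ∧ Q * Q' = 1 ∧ h = (P * x3 * P') * (Q * x3 * Q')

theorem wit_hess : ∀ w z : ZMod 3, Wit !![0, 0, 1; 1, 0, w; 0, 1, z] := by
  intro w z
  fin_cases w <;> fin_cases z
  · exact ⟨!![0, 0, 1; 0, 1, 0; 2, 0, 0], !![0, 0, 2; 0, 1, 0; 1, 0, 0], !![0, 0, 2; 0, 1, 1; 1, 0, 0], !![0, 0, 1; 1, 1, 0; 2, 0, 0], by decide, by decide, by decide⟩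
  · exact ⟨!![0, 0, 1; 0, 1, 0; 2, 1, 0], !![0, 1, 2; 0, 1, 0; 1, 0, 0], !![0, 0, 1; 2, 1, 0; 1, 1, 0], !![0, 1, 2; 0, 2, 2; 1, 0, 0], by decide, by decide, by decide⟩
  · exact ⟨!![0, 0, 1; 0, 1, 1; 2, 2, 0], !![1, 2, 2; 2, 1, 0; 1, 0, 0], !![0, 0, 2; 2, 1, 0; 1, 0, 2], !![2, 0, 1; 2, 1, 1; 2, 0, 0], by decide, by decide, by decide⟩
  · exact ⟨!![0, 0, 1; 0, 1, 0; 2, 0, 2], !![2, 0, 2; 0, 1, 0; 1, 0, 0], !![0, 1, 2; 0, 1, 1; 2, 0, 0], !![0, 0, 2; 2, 2, 0; 1, 2, 0], by decide, by decide, by decide⟩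
  · exact ⟨!![0, 0, 1; 0, 1, 0; 2, 1, 2], !![2, 1, 2; 0, 1, 0; 1, 0, 0], !![0, 0, 2; 2, 1, 1; 1, 0, 2], !![2, 0, 1; 0, 1, 1; 2, 0, 0], by decide, by decide, by decide⟩
  · exact ⟨!![0, 0, 1; 0, 1, 2; 2, 1, 2], !![0, 1, 2; 1, 1, 0; 1, 0, 0], !![0, 1, 2; 2, 1, 0; 0, 1, 0], !![0, 2, 1; 0, 0, 1; 2, 0, 1], by decide, by decide, by decide⟩
  · exact ⟨!![0, 0, 1; 1, 0, 0; 1, 1, 2], !![0, 1, 0; 1, 2, 1; 1, 0, 0], !![0, 0, 1; 2, 2, 0; 0, 2, 0], !![0, 2, 1; 0, 0, 2; 1, 0, 0], by decide, by decide, by decide⟩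
  · exact ⟨!![0, 0, 1; 0, 1, 0; 2, 1, 1], !![1, 1, 2; 0, 1, 0; 1, 0, 0], !![0, 1, 2; 1, 0, 0; 1, 2, 0], !![0, 1, 0; 0, 1, 2; 2, 1, 2], by decide, by decide, by decide⟩
  · exact ⟨!![0, 0, 1; 0, 1, 0; 2, 1, 0], !![0, 1, 2; 0, 1, 0; 1, 0, 0], !![0, 0, 2; 0, 1, 0; 1, 2, 2], !![2, 1, 1; 0, 1, 0; 2, 0, 0], by decide, by decide, by decide⟩

theorem wit_nA : ∀ a : ZMod 3, a ≠ 0 → Wit !![a, 0, 0; 1, 1, 0; 0, 0, a] := by
  intro a ha
  fin_cases a
  · exact absurd rfl ha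
  · exact ⟨!![0, 0, 1; 0, 1, 0; 2, 1, 0], !![0, 1, 2; 0, 1, 0; 1, 0, 0], !![0, 0, 2; 2, 0, 1; 2, 1, 1], !![2, 2, 0; 0, 2, 1; 2, 0, 0], by decide, by decide, by decide⟩
  · exact ⟨!![0, 0, 1; 1, 2, 2; 0, 1, 0], !![1, 1, 1; 0, 0, 1; 1, 0, 0], !![0, 0, 1; 2, 1, 0; 2, 0, 2], !![2, 0, 2; 2, 1, 2; 1, 0, 0], by decide, by decide, by decide⟩

section Lift

variable {F : Type*} [Field F]

local notation "SL3" => Matrix.SpecialLinearGroup (Fin 3) F
local notation "PSL3" => Matrix.ProjectiveSpecialLinearGroup (Fin 3) F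

theorem coe_inv_eq (u : SL3) : ((u⁻¹ : SL3) : Matrix (Fin 3) (Fin 3) F) = (u : Matrix (Fin 3) (Fin 3) F)⁻¹ :=
  (Matrix.inv_eq_left_inv (by rw [← Matrix.SpecialLinearGroup.coe_mul, inv_mul_cancel]; rfl)).symm

/-- Factorisation of non-scalar matrices gives the statement in `PSL₃`. -/
theorem psl_square (X : SL3)
    (hlift : ∀ R : Matrix (Fin 3) (Fin 3) F, R.det ≠ 0 → ∃ u : SL3,
      ((u * X * u⁻¹ : SL3) : Matrix (Fin 3) (Fin 3) F) = R * (X : Matrix (Fin 3) (Fin 3) F) * R⁻¹)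
    (hfac : ∀ G : Matrix (Fin 3) (Fin 3) F, G.det = 1 → (∀ c : F, G ≠ c • 1) →
      ∃ A B, IsC (X : Matrix (Fin 3) (Fin 3) F) A ∧ IsC (X : Matrix (Fin 3) (Fin 3) F) B ∧ G = A * B)
    (g : PSL3) (hg : g ≠ 1) :
    ∃ u v : PSL3, g = (u * QuotientGroup.mk X * u⁻¹) * (v * QuotientGroup.mk X * v⁻¹) := by
  induction g using QuotientGroup.induction_on with
  | H G =>
    have hns : ∀ c : F, (G : Matrix (Fin 3) (Fin 3) F) ≠ c • 1 := fun c hc => hg ((QuotientGroup.eq_one_iff G).2 (by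
      rw [Subgroup.mem_center_iff]
      intro H
      refine Subtype.ext ?_
      rw [Matrix.SpecialLinearGroup.coe_mul, Matrix.SpecialLinearGroup.coe_mul, hc, Matrix.mul_smul,
        Matrix.smul_mul, Matrix.mul_one, Matrix.one_mul]))
    obtain ⟨A, B, ⟨R, hR, hA⟩, ⟨S, hS, hB⟩, hGAB⟩ := hfac G G.2 hns
    obtain ⟨u, hu⟩ := hlift R hR
    obtain ⟨v, hv⟩ := hlift S hS
    refine ⟨QuotientGroup.mk u, QuotientGroup.mk v, ?_⟩
    rw [← QuotientGroup.mk_inv, ← QuotientGroup.mk_inv, ← QuotientGroup.mk_mul, ← QuotientGroup.mk_mul,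
      ← QuotientGroup.mk_mul, ← QuotientGroup.mk_mul, ← QuotientGroup.mk_mul]
    refine congrArg _ (Subtype.ext ?_)
    rw [Matrix.SpecialLinearGroup.coe_mul, hu, hv, hGAB, hA, hB]

variable [Fintype F]

theorem exists_three (h : 4 ≤ Fintype.card F) :
    ∃ d₁ d₂ d₃ : F, d₁ ≠ d₂ ∧ d₁ ≠ d₃ ∧ d₂ ≠ d₃ ∧ d₁ * d₂ * d₃ = 1 := by
  classical
  obtain ⟨c, hc⟩ : ∃ c : F, c ∉ ({0, 1, -1} : Finset F) := by
    by_contra hcon
    push Not at hcon
    have : Fintype.card F ≤ ({0, 1, -1} : Finset F).card :=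
      Finset.card_le_card (fun x _ => hcon x)
    have h3 : ({0, 1, -1} : Finset F).card ≤ 3 := Finset.card_le_three
    omega
  simp only [Finset.mem_insert, Finset.mem_singleton, not_or] at hc
  obtain ⟨h0, h1, h2⟩ := hc
  refine ⟨c, 1, c⁻¹, h1, fun e => ?_, fun e => h1 (inv_eq_one.1 e.symm), by field_simp⟩
  have : c * c = 1 := by rw [← mul_inv_cancel₀ h0, ← e]
  rcases mul_self_eq_one_iff.1 this with e1 | e1 <;> contradiction

/-- The theorem. -/
theorem exists_square_class (p : ℕ) [Fact p.Prime] [CharP F p] (h3 : 3 ≤ Fintype.card F) :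
    ∃ x : PSL3, ¬ p ∣ orderOf x ∧ ∀ g : PSL3, g ≠ 1 → ∃ u v : PSL3, g = (u * x * u⁻¹) * (v * x * v⁻¹) := by
  classical
  have hp : p.Prime := Fact.out
  rcases lt_or_ge (Fintype.card F) 4 with h4 | h4
  swap
  · obtain ⟨d₁, d₂, d₃, h12, h13, h23, hd⟩ := exists_three h4
    let X : SL3 := ⟨diagonal ![d₁, d₂, d₃], by rw [Matrix.det_diagonal, Fin.prod_univ_three]; exact hd⟩
    refine ⟨QuotientGroup.mk X, fun hdiv => ?_, psl_square X (fun R hR => ?_) fun G hG hns =>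
      factor_ge_four h12 h13 h23 hd hG hns⟩
    · have hpow : X ^ (Fintype.card F - 1) = 1 := by
        refine Subtype.ext ?_
        rw [Matrix.SpecialLinearGroup.coe_pow]
        show diagonal ![d₁, d₂, d₃] ^ _ = 1
        rw [Matrix.diagonal_pow, ← Matrix.diagonal_one]
        congr 1
        have hne : ∀ i, ![d₁, d₂, d₃] i ≠ 0 := fun i hi => zero_ne_one (α := F) (by
          rw [← hd]; fin_cases i <;> simp at hi <;> simp [hi])
        funext i
        rw [Pi.pow_apply]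
        exact FiniteField.pow_card_sub_one_eq_one _ (hne i)
      have h1 : orderOf (QuotientGroup.mk X : PSL3) ∣ Fintype.card F - 1 :=
        orderOf_dvd_of_pow_eq_one (by rw [← QuotientGroup.mk_pow, hpow]; rfl)
      obtain ⟨n, -, hn⟩ := FiniteField.card F p
      have h2 : p ∣ Fintype.card F := by rw [hn]; exact dvd_pow_self p n.ne_zero
      have h5 := Nat.dvd_sub h2 (hdiv.trans h1)
      rw [show Fintype.card F - (Fintype.card F - 1) = 1 by omega] at h5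
      exact hp.ne_one (Nat.dvd_one.1 h5)
    · set E := diagonal ![R.det⁻¹, 1, 1]
      have hE : (R * E).det = 1 := by
        rw [Matrix.det_mul, Matrix.det_diagonal, Fin.prod_univ_three]; simp [hR]
      obtain ⟨u, hu⟩ : ∃ u : SL3, (u : Matrix (Fin 3) (Fin 3) F) = R * E := ⟨⟨R * E, hE⟩, rfl⟩
      refine ⟨u, ?_⟩
      rw [Matrix.SpecialLinearGroup.coe_mul, Matrix.SpecialLinearGroup.coe_mul, coe_inv_eq, hu]
      show R * E * diagonal ![d₁, d₂, d₃] * (R * E)⁻¹ = R * diagonal ![d₁, d₂, d₃] * R⁻¹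
      have hEd : IsUnit E.det := isUnit_iff_ne_zero.2 (fun h0 => by
        rw [Matrix.det_mul, h0, mul_zero] at hE; exact zero_ne_one hE)
      rw [Matrix.mul_inv_rev, Matrix.mul_assoc R E, show E * diagonal ![d₁, d₂, d₃] = diagonal ![d₁, d₂, d₃] * E by
        simp [E, Matrix.diagonal_mul_diagonal, mul_comm], Matrix.mul_assoc, Matrix.mul_assoc (diagonal _) E,
        ← Matrix.mul_assoc E E⁻¹, Matrix.mul_nonsing_inv _ hEd, Matrix.one_mul, Matrix.mul_assoc]
  · have hcard : Fintype.card F = 3 := by omega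
    obtain ⟨n, -, hn⟩ := FiniteField.card F p
    have hp3 : p = 3 := by
      have : p ∣ 3 := by rw [← hcard, hn]; exact dvd_pow_self p n.ne_zero
      exact (Nat.prime_dvd_prime_iff_eq hp Nat.prime_three).1 this
    subst hp3
    let φ : ZMod 3 →+* F := ZMod.castHom (dvd_refl 3) F
    have hφ : Function.Bijective φ :=
      (Fintype.bijective_iff_injective_and_card φ).2 ⟨φ.injective, by rw [hcard, ZMod.card]⟩
    set Φ := φ.mapMatrix (m := Fin 3)
    let X : SL3 := Matrix.SpecialLinearGroup.map φ ⟨x3, x3_det⟩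
    have hX : (X : Matrix (Fin 3) (Fin 3) F) = Φ x3 := rfl
    refine ⟨QuotientGroup.mk X, fun hdiv => ?_, psl_square X (fun R hR => ?_) fun G hG hns => ?_⟩
    · have hpow : X ^ 8 = 1 := Subtype.ext (by
        rw [Matrix.SpecialLinearGroup.coe_pow, hX, ← map_pow, x3_pow, map_one]
        rfl)
      have h1 := hdiv.trans (orderOf_dvd_of_pow_eq_one (x := (QuotientGroup.mk X : PSL3)) (n := 8)
        (by rw [← QuotientGroup.mk_pow, hpow]; rfl))
      norm_num at h1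
    · have h8 : R.det * R.det = 1 := by
        have := FiniteField.pow_card_sub_one_eq_one _ hR
        rw [hcard] at this
        simpa [sq] using this
      have hS : (R.det • R).det = 1 := by
        rw [Matrix.det_smul, Fintype.card_fin]
        linear_combination (R.det * R.det + 1) * h8
      obtain ⟨u, hu⟩ : ∃ u : SL3, (u : Matrix (Fin 3) (Fin 3) F) = R.det • R := ⟨⟨R.det • R, hS⟩, rfl⟩
      refine ⟨u, ?_⟩
      rw [Matrix.SpecialLinearGroup.coe_mul, Matrix.SpecialLinearGroup.coe_mul, coe_inv_eq, hu]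
      rw [show (R.det • R)⁻¹ = R.det • R⁻¹ from Matrix.inv_eq_right_inv (by
        rw [Matrix.smul_mul, Matrix.mul_smul, smul_smul, h8, one_smul,
          Matrix.mul_nonsing_inv _ (isUnit_iff_ne_zero.2 hR)]),
        Matrix.smul_mul, Matrix.smul_mul, Matrix.mul_smul, smul_smul, h8, one_smul]
    · rw [hX]
      have hwit : ∀ k : Matrix (Fin 3) (Fin 3) (ZMod 3), Wit k →
          ∃ A B, IsC (Φ x3) A ∧ IsC (Φ x3) B ∧ Φ k = A * B := by
        rintro k ⟨P, P', Q, Q', hP, hQ, rfl⟩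
        have hP' : Φ P * Φ P' = 1 := by rw [← map_mul, hP, map_one]
        have hQ' : Φ Q * Φ Q' = 1 := by rw [← map_mul, hQ, map_one]
        refine ⟨Φ (P * x3 * P'), Φ (Q * x3 * Q'), ⟨Φ P, ?_, ?_⟩, ⟨Φ Q, ?_, ?_⟩, map_mul _ _ _⟩
        · exact Matrix.det_ne_zero_of_right_inverse hP'
        · rw [map_mul, map_mul, Matrix.inv_eq_right_inv hP']
        · exact Matrix.det_ne_zero_of_right_inverse hQ'
        · rw [map_mul, map_mul, Matrix.inv_eq_right_inv hQ']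
      rcases normal_form hns with h | ⟨a, b, h, -⟩
      · obtain ⟨u, w, z, h⟩ := h 0 0
        have hu : u = 1 := by
          have e := h.det_eq
          rw [hG, Matrix.det_fin_three] at e
          simpa [hess] using e
        obtain ⟨w, rfl⟩ := hφ.2 w
        obtain ⟨z, rfl⟩ := hφ.2 z
        subst hu
        refine h.factor ?_
        obtain ⟨A, B, hA, hB, hAB⟩ := hwit _ (wit_hess w z)
        refine ⟨A, B, hA, hB, ?_⟩
        rw [← hAB]
        ext i l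
        fin_cases i <;> fin_cases l <;> simp [hess, Φ]
      · obtain ⟨ha, hab⟩ := nc_det_ne h hG
        have haa : a * a = 1 := by
          have := FiniteField.pow_card_sub_one_eq_one _ ha
          rw [hcard] at this
          simpa [sq] using this
        rw [haa, one_mul] at hab
        obtain ⟨a, rfl⟩ := hφ.2 a
        subst hab
        refine h.factor ?_
        obtain ⟨A, B, hA, hB, hAB⟩ := hwit _ (wit_nA a fun h0 => ha (by rw [h0, map_zero]))
        refine ⟨A, B, hA, hB, ?_⟩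
        rw [← hAB]
        ext i l
        fin_cases i <;> fin_cases l <;> simp [nA, Φ]

end Lift

end Cfsg.Agent.Classical.SL3Square
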