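import Cfsg.Agent.Lib.Classical.BlockCountBN
import Cfsg.Agent.Lib.Classical.ParabolicCosets
import Cfsg.Agent.Lib.Fus.PSLUnipotent
import Mathlib.FieldTheory.ChevalleyWarning

/-!
The big cell of `SLₙ` over a finite field in defining characteristic: sums over the upper unitriangular
group of functions on free double cosets are constant.
-/

set_option autoImplicit false
set_option linter.unusedSectionVars false

namespace Cfsg.Agent.Classical.BigCell

open Cfsg Matrix Cfsg.Agent.Fus.PSLN Cfsg.Agent.Classical.BlockCount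

attribute [local instance] _root_.Classical.propDecidable

variable {K : Type*} [Field K] [Fintype K] {m : ℕ}

local notation "SLn" => Matrix.SpecialLinearGroup (Fin (m + 1)) K
local notation "Mat" => Matrix (Fin (m + 1)) (Fin (m + 1)) K

/-- The first `k + 1` indices. -/
def first (k : Fin m) (s : Fin (k.val + 1)) : Fin (m + 1) := ⟨s.val, by omega⟩

/-- The last `k + 1` indices, in decreasing order. -/
def last' (k : Fin m) (s : Fin (k.val + 1)) : Fin (m + 1) := (first k s).rev

lemma first_injective (k : Fin m) : Function.Injective (first k) := fun s t h =>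
  Fin.ext (Fin.val_eq_of_eq h :)

lemma last'_injective (k : Fin m) : Function.Injective (last' k) :=
  Fin.rev_injective.comp (first_injective k)

lemma mem_range_first {k : Fin m} {x : Fin (m + 1)} (h : x.val ≤ k.val) : x ∈ Set.range (first k) :=
  ⟨⟨x.val, by omega⟩, Fin.ext rfl⟩

lemma mem_range_last' {k : Fin m} {x : Fin (m + 1)} (h : m ≤ x.val + k.val) :
    x ∈ Set.range (last' k) :=
  ⟨⟨x.rev.val, by simp only [Fin.val_rev]; omega⟩, by
    show Fin.rev _ = x
    conv_rhs => rw [← Fin.rev_rev x]
    congr 1⟩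

/-- The minors in the last rows and the first columns. -/
def minor (A : Mat) (k : Fin m) : K := (A.submatrix (last' k) (first k)).det

lemma submatrix_mul_left {N : ℕ} (r c : Fin N → Fin (m + 1)) (hr : Function.Injective r) (A B : Mat)
    (hA : ∀ s x, x ∉ Set.range r → A (r s) x = 0) :
    (A * B).submatrix r c = A.submatrix r r * B.submatrix r c := by
  ext s t
  simp only [Matrix.submatrix_apply, Matrix.mul_apply]
  rw [← Finset.sum_subset (Finset.subset_univ (Finset.univ.image r))]
  · rw [Finset.sum_image fun a _ b _ h => hr h]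
  · intro x _ hx
    rw [hA s x (by simpa using hx), zero_mul]

lemma submatrix_mul_right {N : ℕ} (r c : Fin N → Fin (m + 1)) (hc : Function.Injective c) (A B : Mat)
    (hB : ∀ x t, x ∉ Set.range c → B x (c t) = 0) :
    (A * B).submatrix r c = A.submatrix r c * B.submatrix c c := by
  ext s t
  simp only [Matrix.submatrix_apply, Matrix.mul_apply]
  rw [← Finset.sum_subset (Finset.subset_univ (Finset.univ.image c))]
  · rw [Finset.sum_image fun a _ b _ h => hc h]
  · intro x _ hx
    rw [hB x t (by simpa using hx), mul_zero]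

lemma minor_mul_upper {A B : Mat} (hA : ∀ i j, j < i → A i j = 0) (hB : ∀ i j, j < i → B i j = 0)
    (X : Mat) (k : Fin m) :
    minor (A * X * B) k = (∏ s, A (last' k s) (last' k s)) * minor X k * ∏ t, B (first k t) (first k t) := by
  have h1 : ∀ x t, x ∉ Set.range (first k) → B x (first k t) = 0 := fun x t hx => by
    refine hB _ _ ?_
    by_contra hc
    refine hx (mem_range_first ?_)
    simp only [not_lt, Fin.le_def, first] at hc
    omega
  have h2 : ∀ s x, x ∉ Set.range (last' k) → A (last' k s) x = 0 := fun s x hx => by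
    refine hA _ _ ?_
    by_contra hc
    refine hx (mem_range_last' ?_)
    simp only [not_lt, Fin.le_def, last', first, Fin.val_rev] at hc
    omega
  have e1 : (A.submatrix (last' k) (last' k)).det = ∏ s, A (last' k s) (last' k s) := by
    refine Matrix.det_of_isLowerTriangular _ fun s t hst => hA _ _ ?_
    simp only [last', Fin.rev_lt_rev]
    exact hst
  have e2 : (B.submatrix (first k) (first k)).det = ∏ t, B (first k t) (first k t) :=
    Matrix.det_of_isUpperTriangular fun s t hst => hB _ _ hst
  rw [minor, submatrix_mul_right _ _ (first_injective k) _ _ h1,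
    submatrix_mul_left _ _ (last'_injective k) _ _ h2, Matrix.det_mul, Matrix.det_mul, e1, e2, minor]

/-- All minors of an element of `SLₙ`. -/
def minors (g : SLn) (k : Fin m) : K := minor (g : Mat) k

lemma minors_invariant (u v g : SLn) (hu : u ∈ unip K (m + 1)) (hv : v ∈ unip K (m + 1)) :
    minors (u * g * v) = minors g := by
  funext k
  simp only [minors, Matrix.SpecialLinearGroup.coe_mul]
  rw [minor_mul_upper hu.1 hv.1]
  rw [Finset.prod_eq_one fun s _ => hu.2 _, Finset.prod_eq_one fun s _ => hv.2 _, one_mul, mul_one]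

/-- The elements all of whose minors are nonzero. -/
def Big (g : SLn) : Prop := ∀ k, minors g k ≠ 0

/-- Antidiagonal. -/
def IsAnti (g : SLn) : Prop := ∀ i j : Fin (m + 1), i ≠ j.rev → ent g i j = 0

lemma IsAnti.apply_ne_zero {M : SLn} (hM : IsAnti M) (j : Fin (m + 1)) : ent M j.rev j ≠ 0 := fun h => by
  have h0 : (M : Mat).det = 0 := Matrix.det_eq_zero_of_column_eq_zero j fun i => by
    by_cases hi : i = j.rev
    · rw [hi]; exact h
    · exact hM i j hi
  exact one_ne_zero (M.2.symm.trans h0)

lemma IsAnti.minors_eq {M : SLn} (hM : IsAnti M) (k : Fin m) :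
    minors M k = ∏ s, ent M (first k s).rev (first k s) := by
  rw [minors, minor, Matrix.det_of_isUpperTriangular]
  · rfl
  · intro s t hst
    refine hM _ _ fun h => ?_
    exact hst.ne' (first_injective k (Fin.rev_injective h))

lemma IsAnti.big {M : SLn} (hM : IsAnti M) : Big M := fun k => by
  rw [hM.minors_eq]
  exact Finset.prod_ne_zero_iff.2 fun s _ => hM.apply_ne_zero _

lemma IsAnti.ext' {M M' : SLn} (hM : IsAnti M) (hM' : IsAnti M') (h : minors M = minors M') : M = M' := by
  have hlow : ∀ k, (hk : k < m) →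
      ent M (Fin.rev ⟨k, by omega⟩) ⟨k, by omega⟩ = ent M' (Fin.rev ⟨k, by omega⟩) ⟨k, by omega⟩ := by
    intro k
    induction k using Nat.strong_induction_on with
    | _ k ih =>
      intro hk
      have e := congrFun h ⟨k, hk⟩
      rw [hM.minors_eq, hM'.minors_eq, Fin.prod_univ_castSucc, Fin.prod_univ_castSucc] at e
      have e1 : ∏ s : Fin k, ent M (first ⟨k, hk⟩ s.castSucc).rev (first ⟨k, hk⟩ s.castSucc) =
          ∏ s : Fin k, ent M' (first ⟨k, hk⟩ s.castSucc).rev (first ⟨k, hk⟩ s.castSucc) :=
        Finset.prod_congr rfl fun s _ => ih s.val s.2 (s.2.trans hk)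
      rw [e1] at e
      exact mul_left_cancel₀ (Finset.prod_ne_zero_iff.2 fun s _ => hM'.apply_ne_zero _) e
  have key : ∀ M : SLn, IsAnti M →
      ((Equiv.Perm.sign (Fin.revPerm : Equiv.Perm (Fin (m + 1))) : ℤ) : K) *
        ∏ j : Fin (m + 1), ent M j.rev j = 1 := by
    intro M hM
    have h1 : ((M : Mat).submatrix (Fin.revPerm : Equiv.Perm (Fin (m + 1))) id).det =
        ∏ j : Fin (m + 1), ent M j.rev j := by
      rw [Matrix.det_of_isUpperTriangular]
      · rfl
      · intro s t hst
        exact hM _ _ fun h => hst.ne' (Fin.rev_injective h)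
    rw [← h1, Matrix.det_permute, ← mul_assoc, ← Int.cast_mul, ← Units.val_mul, Int.units_mul_self]
    simp
  have hall : ∀ j : Fin (m + 1), ent M j.rev j = ent M' j.rev j := by
    intro j
    rcases Nat.lt_or_ge j.val m with hj | hj
    · exact hlow j.val hj
    · have e := (key M hM).trans (key M' hM').symm
      have hs : ((Equiv.Perm.sign (Fin.revPerm : Equiv.Perm (Fin (m + 1))) : ℤ) : K) ≠ 0 :=
        left_ne_zero_of_mul_eq_one (key M hM)
      have e2 := mul_left_cancel₀ hs e
      rw [Fin.prod_univ_castSucc, Fin.prod_univ_castSucc] at e2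
      have e3 : ∏ i : Fin m, ent M i.castSucc.rev i.castSucc = ∏ i : Fin m, ent M' i.castSucc.rev i.castSucc :=
        Finset.prod_congr rfl fun i _ => hlow i.val i.2
      rw [e3] at e2
      obtain rfl : j = Fin.last m := Fin.ext (by simp only [Fin.val_last]; omega)
      exact mul_left_cancel₀ (Finset.prod_ne_zero_iff.2 fun s _ => hM'.apply_ne_zero _) e2
  refine Subtype.ext (Matrix.ext fun i j => ?_)
  by_cases hi : i = j.rev
  · subst hi; exact hall j
  · exact (hM i j hi).trans (hM' i j hi).symm

/-- An element of the cell of the longest permutation is antidiagonal up to the unitriangular group. -/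
lemma decomp {g : SLn} {b b' : GL (Fin (m + 1)) K} (hb : b ∈ upperTriangularGL (m + 1) K)
    (hb' : b' ∈ upperTriangularGL (m + 1) K)
    (hg : (g : Mat) = b.1 * (ParCoset.permGL (Fin.revPerm : Equiv.Perm (Fin (m + 1))) : GL (Fin (m + 1)) K).1 * b'.1) :
    ∃ u ∈ unip K (m + 1), ∃ v ∈ unip K (m + 1), ∃ M : SLn, IsAnti M ∧ g = u * M * v := by
  have hdiag : ∀ {c : GL (Fin (m + 1)) K}, c ∈ upperTriangularGL (m + 1) K → ∀ i, c.1 i i ≠ 0 := by
    intro c hc i h
    have h1 : c.1.det ≠ 0 := (Matrix.isUnit_iff_isUnit_det _ |>.1 c.isUnit).ne_zero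
    rw [Matrix.det_of_isUpperTriangular hc] at h1
    exact h1 (Finset.prod_eq_zero (Finset.mem_univ i) h)
  let U : Mat := b.1 * Matrix.diagonal fun i => (b.1 i i)⁻¹
  let V : Mat := Matrix.diagonal (fun i => (b'.1 i i)⁻¹) * b'.1
  have hU : ∀ i j, j < i → U i j = 0 := fun i j h => by
    simp only [U, Matrix.mul_diagonal, hb h, zero_mul]
  have hU1 : ∀ i, U i i = 1 := fun i => by simp [U, Matrix.mul_diagonal, hdiag hb i]
  have hV : ∀ i j, j < i → V i j = 0 := fun i j h => by
    simp only [V, Matrix.diagonal_mul, hb' h, mul_zero]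
  have hV1 : ∀ i, V i i = 1 := fun i => by simp [V, Matrix.diagonal_mul, hdiag hb' i]
  let u : SLn := ⟨U, by
    rw [Matrix.det_of_isUpperTriangular (fun i j h => hU i j h)]; exact Finset.prod_eq_one fun i _ => hU1 i⟩
  let v : SLn := ⟨V, by
    rw [Matrix.det_of_isUpperTriangular (fun i j h => hV i j h)]; exact Finset.prod_eq_one fun i _ => hV1 i⟩
  let A : Mat := Matrix.diagonal (fun i => b.1 i i) *
    (ParCoset.permGL (Fin.revPerm : Equiv.Perm (Fin (m + 1))) : GL (Fin (m + 1)) K).1 *
    Matrix.diagonal (fun i => b'.1 i i)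
  have hUAV : (g : Mat) = U * A * V := by
    have e1 : U * Matrix.diagonal (fun i => b.1 i i) = b.1 := by
      simp only [U, Matrix.mul_assoc, Matrix.diagonal_mul_diagonal]
      simp [inv_mul_cancel₀ (hdiag hb _)]
    have e2 : Matrix.diagonal (fun i => b'.1 i i) * V = b'.1 := by
      simp only [V, ← Matrix.mul_assoc, Matrix.diagonal_mul_diagonal]
      simp [mul_inv_cancel₀ (hdiag hb' _)]
    rw [hg]
    conv_lhs => rw [← e1, ← e2]
    simp only [A, Matrix.mul_assoc]
  have hA : A.det = 1 := by
    have h := g.2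
    rw [hUAV, Matrix.det_mul, Matrix.det_mul, u.2, v.2, one_mul, mul_one] at h
    exact h
  refine ⟨u, ⟨hU, hU1⟩, v, ⟨hV, hV1⟩, ⟨A, hA⟩, fun i j hij => ?_, Subtype.ext hUAV⟩
  show A i j = 0
  simp only [A, Matrix.mul_diagonal, Matrix.diagonal_mul, ParCoset.permGL_apply, Fin.revPerm_apply,
    if_neg hij, mul_zero, zero_mul]

lemma eq_revPerm {σ : Equiv.Perm (Fin (m + 1))} (h : ∀ t, m ≤ (σ t).val + t.val) : σ = Fin.revPerm := by
  refine Equiv.ext fun t => Fin.ext ?_
  simp only [Fin.revPerm_apply, Fin.val_rev]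
  by_contra hne
  have h1 : ∑ t : Fin (m + 1), (t.rev : ℕ) < ∑ t, (σ t : ℕ) := by
    refine Finset.sum_lt_sum (fun x _ => ?_) ⟨t, Finset.mem_univ _, ?_⟩
    · simp only [Fin.val_rev]; have := h x; omega
    · simp only [Fin.val_rev]; have := h t; omega
  rw [Equiv.sum_comp σ (fun x : Fin (m + 1) => (x : ℕ))] at h1
  have h2 := Equiv.sum_comp (Fin.revPerm : Equiv.Perm (Fin (m + 1))) (fun x => (x : ℕ))
  simp only [Fin.revPerm_apply] at h2
  omega

theorem exists_anti_of_big {g : SLn} (hg : Big g) :
    ∃ u ∈ unip K (m + 1), ∃ v ∈ unip K (m + 1), ∃ M : SLn, IsAnti M ∧ g = u * M * v := by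
  obtain ⟨b, hb, σ, b', hb', e⟩ := ParCoset.bruhat (Matrix.SpecialLinearGroup.toGL g)
  have e' : (g : Mat) = b.1 * (ParCoset.permGL σ : GL (Fin (m + 1)) K).1 * b'.1 := by
    rw [← Units.val_mul, ← Units.val_mul, ← e]
    rfl
  obtain rfl : σ = Fin.revPerm := eq_revPerm fun t => by
    by_contra hc
    have ht : t.val < m := by omega
    have h1 := hg ⟨t.val, ht⟩
    rw [minors, e', minor_mul_upper (fun i j h => hb h) (fun i j h => hb' h)] at h1
    refine right_ne_zero_of_mul (left_ne_zero_of_mul h1) (Matrix.det_eq_zero_of_column_eq_zero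
      (⟨t.val, Nat.lt_succ_self _⟩ : Fin (t.val + 1)) fun s => ?_)
    simp only [Matrix.submatrix_apply, ParCoset.permGL_apply]
    rw [if_neg]
    intro h
    have h3 : first (⟨t.val, ht⟩ : Fin m) ⟨t.val, Nat.lt_succ_self _⟩ = t := Fin.ext rfl
    simp only [h3] at h
    have h2 := congrArg Fin.val h
    simp only [last', first, Fin.val_rev] at h2
    have : s.val < t.val + 1 := s.2
    omega
  exact decomp hb hb' e'

theorem exists_anti_of_free {g : SLn} (hg : Free (unip K (m + 1)) g) :
    ∃ u ∈ unip K (m + 1), ∃ v ∈ unip K (m + 1), ∃ M : SLn, IsAnti M ∧ g = u * M * v := by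
  obtain ⟨b, hb, σ, b', hb', e⟩ := ParCoset.bruhat (Matrix.SpecialLinearGroup.toGL g)
  obtain rfl : σ = Fin.revPerm := by
    by_contra hne
    obtain ⟨i, j, hij, hσ⟩ : ∃ i j, i < j ∧ σ i < σ j := by
      by_contra hc
      push Not at hc
      have hanti : StrictMono (fun t => (σ t).rev) := fun i j hij =>
        Fin.rev_lt_rev.2 ((hc i j hij).lt_of_ne fun h => hij.ne' (σ.injective h))
      refine hne (Equiv.ext fun t => ?_)
      have h : (fun t => (σ t).rev) = id := hanti.eq_id
      rw [← Fin.rev_rev (σ t), show (σ t).rev = t from congrFun h t]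
      rfl
    let Eij : Mat := Matrix.single i j (1 : K)
    have hconj : ∀ {c : GL (Fin (m + 1)) K}, c ∈ upperTriangularGL (m + 1) K → ∀ {a a' : Fin (m + 1)},
        a < a' → ∃ u ∈ unip K (m + 1), ((u : SLn) : Mat) = c.1 * (1 + Matrix.single a a' (1 : K)) * (c⁻¹).1 := by
      intro c hc a a' haa
      have hci : (c⁻¹).1.BlockTriangular id := inv_mem hc
      have hmul : c.1 * (1 + Matrix.single a a' (1 : K)) * (c⁻¹).1 =
          1 + c.1 * Matrix.single a a' (1 : K) * (c⁻¹).1 := by
        rw [mul_add, mul_one, add_mul, Units.mul_inv]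
      have hz : ∀ r s, s ≤ r → (c.1 * Matrix.single a a' (1 : K) * (c⁻¹).1) r s = 0 := by
        intro r s hrs
        rw [Matrix.mul_apply]
        refine Finset.sum_eq_zero fun x _ => ?_
        by_cases hx : x = a'
        · subst hx
          rw [Matrix.mul_single_apply_same, mul_one]
          rcases lt_or_ge a r with h | h
          · rw [hc h, zero_mul]
          · rw [hci (show s < x from lt_of_le_of_lt (hrs.trans h) haa), mul_zero]
        · rw [Matrix.mul_single_apply_of_ne _ _ _ _ _ hx, zero_mul]
      refine ⟨⟨c.1 * (1 + Matrix.single a a' (1 : K)) * (c⁻¹).1, ?_⟩, ⟨fun r s h => ?_, fun r => ?_⟩, rfl⟩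
      · rw [Matrix.det_of_isUpperTriangular (fun r s h => ?_)]
        · refine Finset.prod_eq_one fun r _ => ?_
          rw [hmul, Matrix.add_apply, hz r r le_rfl, add_zero, Matrix.one_apply_eq]
        · have h' : s < r := h
          rw [hmul, Matrix.add_apply, hz r s h'.le, add_zero, Matrix.one_apply_ne h'.ne']
      · show (c.1 * (1 + Matrix.single a a' (1 : K)) * (c⁻¹).1) r s = 0
        rw [hmul, Matrix.add_apply, hz r s h.le, add_zero, Matrix.one_apply_ne h.ne']
      · show (c.1 * (1 + Matrix.single a a' (1 : K)) * (c⁻¹).1) r r = 1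
        rw [hmul, Matrix.add_apply, hz r r le_rfl, add_zero, Matrix.one_apply_eq]
    obtain ⟨v, hv, hv'⟩ := hconj (inv_mem hb') hij
    obtain ⟨u, hu, hu'⟩ := hconj hb hσ
    rw [inv_inv] at hv'
    have hperm : (ParCoset.permGL σ : GL (Fin (m + 1)) K).1 * (1 + Matrix.single i j (1 : K)) =
        (1 + Matrix.single (σ i) (σ j) (1 : K)) * (ParCoset.permGL σ : GL (Fin (m + 1)) K).1 := by
      rw [mul_add, add_mul, mul_one, one_mul]
      congr 1
      ext r s
      simp [Matrix.mul_apply, ParCoset.permGL_apply, Matrix.single_apply, eq_comm, ite_and]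
      split_ifs <;> rfl
    have heq : u * g = g * v := by
      apply Subtype.ext
      have e' : (g : Mat) = b.1 * (ParCoset.permGL σ : GL (Fin (m + 1)) K).1 * b'.1 := by
        rw [← Units.val_mul, ← Units.val_mul, ← e]
        rfl
      rw [Matrix.SpecialLinearGroup.coe_mul, Matrix.SpecialLinearGroup.coe_mul, hu', hv', e']
      simp only [Matrix.mul_assoc]
      simp only [← Matrix.mul_assoc (b'.1) ((b'⁻¹).1), Units.mul_inv, one_mul,
        ← Matrix.mul_assoc ((b⁻¹).1) b.1, Units.inv_mul]
      rw [← Matrix.mul_assoc (1 + Matrix.single (σ i) (σ j) (1 : K)), ← hperm, Matrix.mul_assoc]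
    have h1 := hg u hu (by rwa [mul_assoc, heq, inv_mul_cancel_left])
    rw [h1, Matrix.SpecialLinearGroup.coe_one] at hu'
    have h2 : (1 : Mat) * b.1 = b.1 * (1 + Matrix.single (σ i) (σ j) (1 : K)) :=
      (congrArg (· * b.1) hu').trans (by simp only [Units.inv_mul_cancel_right])
    rw [one_mul, mul_add, mul_one, left_eq_add] at h2
    have h3 : (b⁻¹).1 * (b.1 * Matrix.single (σ i) (σ j) (1 : K)) = 0 := by rw [h2, mul_zero]
    rw [← Matrix.mul_assoc, Units.inv_mul, one_mul] at h3
    simpa using congrFun (congrFun h3 (σ i)) (σ j)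
  exact decomp hb hb' (by rw [← Units.val_mul, ← Units.val_mul, ← e]; rfl)

theorem big_of_free {g : SLn} (hg : Free (unip K (m + 1)) g) : Big g := by
  obtain ⟨u, hu, v, hv, M, hM, rfl⟩ := exists_anti_of_free hg
  intro k
  rw [minors_invariant u v M hu hv]
  exact hM.big k

section Count

variable (K m)

/-- The places above the diagonal. -/
abbrev Above : Type := {x : Fin (m + 1) × Fin (m + 1) // x.1 < x.2}

/-- The generic unitriangular matrix. -/
noncomputable def genU : Matrix (Fin (m + 1)) (Fin (m + 1)) (MvPolynomial (Above m) K) :=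
  Matrix.of fun i j => if h : i < j then MvPolynomial.X ⟨(i, j), h⟩ else if i = j then 1 else 0

/-- The generic minor in the first rows and the last columns. -/
noncomputable def genMinor (k : Fin m) : MvPolynomial (Above m) K :=
  ((genU K m).submatrix (first k) (last' k)).det

/-- The unitriangular matrix with the given entries. -/
def mkU (x : Above m → K) : Matrix (Fin (m + 1)) (Fin (m + 1)) K :=
  Matrix.of fun i j => if h : i < j then x ⟨(i, j), h⟩ else if i = j then 1 else 0

variable {K m}

lemma mkU_isUni (x : Above m → K) (h : (mkU K m x).det = 1) : IsUni (⟨mkU K m x, h⟩ : SLn) := by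
  refine ⟨fun i j hij => ?_, fun i => ?_⟩
  · show mkU K m x i j = 0
    simp [mkU, not_lt.2 hij.le, hij.ne']
  · show mkU K m x i i = 1
    simp [mkU]

lemma det_mkU (x : Above m → K) : (mkU K m x).det = 1 := by
  rw [Matrix.det_of_isUpperTriangular (fun i j h => by
    have h' : j < i := h
    simp [mkU, not_lt.2 h'.le, h'.ne'])]
  exact Finset.prod_eq_one fun i _ => by simp [mkU]

/-- The coordinates of the unitriangular group. -/
def coord : (Above m → K) ≃ unip K (m + 1) where
  toFun x := ⟨⟨mkU K m x, det_mkU x⟩, mkU_isUni x _⟩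
  invFun u y := ((u : SLn) : Mat) y.1.1 y.1.2
  left_inv x := funext fun y => by simp [mkU, y.2]
  right_inv u := Subtype.ext (Subtype.ext (Matrix.ext fun i j => by
    show mkU K m (fun y => ((u : SLn) : Mat) y.1.1 y.1.2) i j = _
    simp only [mkU, Matrix.of_apply]
    split_ifs with h h'
    · rfl
    · subst h'; exact (u.2.2 i).symm
    · exact (u.2.1 i j (lt_of_le_of_ne (not_lt.1 h) (Ne.symm h'))).symm))

lemma eval_genMinor (x : Above m → K) (k : Fin m) :
    MvPolynomial.eval x (genMinor K m k) = ((mkU K m x).submatrix (first k) (last' k)).det := by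
  rw [genMinor, RingHom.map_det]
  congr 1
  ext s t
  simp only [RingHom.mapMatrix_apply, Matrix.map_apply, Matrix.submatrix_apply, genU, mkU, Matrix.of_apply]
  split_ifs <;> simp

lemma totalDegree_genMinor (k : Fin m) : (genMinor K m k).totalDegree ≤ k.val + 1 := by
  rw [genMinor, Matrix.det_apply']
  refine MvPolynomial.totalDegree_finsetSum_le fun σ _ => (MvPolynomial.totalDegree_mul _ _).trans ?_
  have h1 : ((Equiv.Perm.sign σ : ℤ) : MvPolynomial (Above m) K).totalDegree = 0 := by
    rw [← map_intCast (MvPolynomial.C : K →+* MvPolynomial (Above m) K), MvPolynomial.totalDegree_C]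
  rw [h1, zero_add]
  refine (MvPolynomial.totalDegree_finset_prod _ _).trans ((Finset.sum_le_sum fun s _ => ?_).trans
    (by simp : ∑ _s : Fin (k.val + 1), 1 ≤ k.val + 1))
  simp only [Matrix.submatrix_apply, genU, Matrix.of_apply]
  split_ifs <;> simp

lemma card_above : Fintype.card (Above m) = ∑ k : Fin m, (k.val + 1) := by
  rw [show ∑ k : Fin m, (k.val + 1) = ∑ j : Fin (m + 1), j.val by rw [Fin.sum_univ_succ]; simp,
    show Fintype.card (Above m) = Fintype.card (Σ j : Fin (m + 1), {i : Fin (m + 1) // i < j}) from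
      Fintype.card_congr ⟨fun x => ⟨x.1.2, x.1.1, x.2⟩, fun y => ⟨(y.2.1, y.1), y.2.2⟩,
        fun _ => rfl, fun _ => rfl⟩,
    Fintype.card_sigma]
  refine Finset.sum_congr rfl fun j _ => ?_
  rw [Fintype.card_subtype, show (Finset.univ.filter fun i => i < j) = Finset.Iio j by ext; simp,
    Fin.card_Iio]

/-- The number of unitriangular matrices with given minors. -/
noncomputable def fibre (ν : Fin m → K) : ℕ :=
  (Finset.univ.filter fun x : Above m → K => ∀ k, MvPolynomial.eval x (genMinor K m k) = ν k).card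

lemma indicator_pow (a : K) : 1 - a ^ (Fintype.card K - 1) = if a = 0 then 1 else 0 := by
  have : Fintype.card K - 1 ≠ 0 := by have := Fintype.one_lt_card (α := K); omega
  by_cases h : a = 0
  · rw [if_pos h, h, zero_pow this, sub_zero]
  · rw [if_neg h, FiniteField.pow_card_sub_one_eq_one a h, sub_self]

lemma cast_fibre (ν : Fin m → K) :
    ((fibre ν : ℕ) : K) = ∑ x : Above m → K,
      MvPolynomial.eval x (∏ k, (1 - (genMinor K m k - MvPolynomial.C (ν k)) ^ (Fintype.card K - 1))) := by
  rw [fibre, Finset.card_filter, Nat.cast_sum]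
  refine Finset.sum_congr rfl fun x _ => ?_
  simp only [map_prod, map_sub, map_one, map_pow, MvPolynomial.eval_C, indicator_pow, sub_eq_zero]
  rw [Fintype.prod_boole]
  simp

lemma fibre_update (ν : Fin m → K) (i : Fin m) (c : K) :
    ((fibre (Function.update ν i c) : ℕ) : K) = ((fibre ν : ℕ) : K) := by
  set d := Fintype.card K - 1 with hd
  set P : K → MvPolynomial (Above m) K := fun a => genMinor K m i - MvPolynomial.C a
  set R := ∏ k ∈ Finset.univ.erase i, (1 - (genMinor K m k - MvPolynomial.C (ν k)) ^ d) with hR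
  have hprod : ∀ a, ∏ k, (1 - (genMinor K m k - MvPolynomial.C (Function.update ν i a k)) ^ d) =
      R * (1 - P a ^ d) := by
    intro a
    rw [← Finset.prod_erase_mul _ _ (Finset.mem_univ i), Function.update_self]
    congr 1
    exact Finset.prod_congr rfl fun k hk => by rw [Function.update_of_ne (Finset.ne_of_mem_erase hk)]
  rw [← sub_eq_zero, cast_fibre, cast_fibre, ← Finset.sum_sub_distrib]
  conv_lhs => enter [2, x]; rw [← map_sub, hprod c]
  rw [show (∏ k, (1 - (genMinor K m k - MvPolynomial.C (ν k)) ^ d)) = R * (1 - P (ν i) ^ d) by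
    rw [← hprod (ν i), Function.update_eq_self]]
  refine MvPolynomial.sum_eval_eq_zero _ ?_
  have hgeom : R * (1 - P c ^ d) - R * (1 - P (ν i) ^ d) =
      R * ((∑ j ∈ Finset.range d, P (ν i) ^ j * P c ^ (d - 1 - j)) * MvPolynomial.C (c - ν i)) := by
    rw [← mul_sub]
    congr 1
    rw [sub_sub_sub_cancel_left, ← geom_sum₂_mul, map_sub]
    congr 1
    simp [P]
  rw [hgeom]
  have hdeg : ∀ k a, (genMinor K m k - MvPolynomial.C a).totalDegree ≤ k.val + 1 := fun k a =>
    (MvPolynomial.totalDegree_sub _ _).trans (max_le (totalDegree_genMinor k) (by simp))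
  have hR' : R.totalDegree ≤ ∑ k ∈ Finset.univ.erase i, d * (k.val + 1) := by
    refine (MvPolynomial.totalDegree_finset_prod _ _).trans (Finset.sum_le_sum fun k _ => ?_)
    refine (MvPolynomial.totalDegree_sub _ _).trans (max_le (by simp) ?_)
    exact (MvPolynomial.totalDegree_pow _ _).trans (Nat.mul_le_mul_left _ (hdeg k _))
  have hd1 : 1 ≤ d := by have := Fintype.one_lt_card (α := K); omega
  have hS : (∑ j ∈ Finset.range d, P (ν i) ^ j * P c ^ (d - 1 - j)).totalDegree ≤ (d - 1) * (i.val + 1) := by
    refine MvPolynomial.totalDegree_finsetSum_le fun j hj => (MvPolynomial.totalDegree_mul _ _).trans ?_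
    have hj' := Finset.mem_range.1 hj
    calc (P (ν i) ^ j).totalDegree + (P c ^ (d - 1 - j)).totalDegree
        ≤ j * (i.val + 1) + (d - 1 - j) * (i.val + 1) := Nat.add_le_add
          ((MvPolynomial.totalDegree_pow _ _).trans (Nat.mul_le_mul_left _ (hdeg i _)))
          ((MvPolynomial.totalDegree_pow _ _).trans (Nat.mul_le_mul_left _ (hdeg i _)))
      _ = _ := by rw [← add_mul, show j + (d - 1 - j) = d - 1 by omega]
  calc (R * ((∑ j ∈ Finset.range d, P (ν i) ^ j * P c ^ (d - 1 - j)) * MvPolynomial.C (c - ν i))).totalDegree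
      ≤ (∑ k ∈ Finset.univ.erase i, d * (k.val + 1)) + (d - 1) * (i.val + 1) := by
        refine (MvPolynomial.totalDegree_mul _ _).trans (Nat.add_le_add hR' ?_)
        refine (MvPolynomial.totalDegree_mul _ _).trans ?_
        rw [MvPolynomial.totalDegree_C, add_zero]
        exact hS
    _ < (∑ k ∈ Finset.univ.erase i, d * (k.val + 1)) + d * (i.val + 1) :=
        Nat.add_lt_add_left (Nat.mul_lt_mul_of_pos_right (by omega) (Nat.succ_pos _)) _
    _ = d * Fintype.card (Above m) := by
        rw [card_above, Finset.mul_sum, Finset.sum_erase_add _ _ (Finset.mem_univ i)]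

theorem fibre_const (ν ν' : Fin m → K) : ((fibre ν : ℕ) : K) = ((fibre ν' : ℕ) : K) := by
  suffices h : ∀ s : Finset (Fin m), ((fibre (s.piecewise ν' ν) : ℕ) : K) = ((fibre ν : ℕ) : K) by
    simpa using (h Finset.univ).symm
  intro s
  induction s using Finset.induction_on with
  | empty => simp
  | insert a s ha ih => rw [Finset.piecewise_insert, fibre_update, ih]

end Count

section Kernel

variable {k : Type*} [Field k]

lemma entry_sandwich {M M' : SLn} (hM : IsAnti M) (hM' : IsAnti M') (x : SLn) (i j : Fin (m + 1)) :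
    ent (M * x * M') i j = ent M i i.rev * ent x i.rev j.rev * ent M' j.rev j := by
  rw [ent_mul, Finset.sum_eq_single j.rev, ent_mul, Finset.sum_eq_single i.rev]
  · intro a _ ha
    rw [hM i a, zero_mul]
    rintro rfl
    exact ha (Fin.rev_rev a).symm
  · exact fun h => absurd (Finset.mem_univ _) h
  · intro a _ ha
    rw [hM' a j ha, mul_zero]
  · exact fun h => absurd (Finset.mem_univ _) h

lemma minors_sandwich {M M' : SLn} (hM : IsAnti M) (hM' : IsAnti M') (x : Above m → K) (i : Fin m) :
    minors (M * ((coord x : unip K (m + 1)) : SLn) * M') i =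
      minors M i * minors M' i * MvPolynomial.eval x (genMinor K m i) := by
  rw [hM.minors_eq, hM'.minors_eq, eval_genMinor, minors, minor]
  rw [show ((M * ((coord x : unip K (m + 1)) : SLn) * M' : SLn) : Mat).submatrix (last' i) (first i) =
    Matrix.diagonal (fun s => ent M (first i s).rev (first i s)) *
      (mkU K m x).submatrix (first i) (last' i) *
      Matrix.diagonal (fun s => ent M' (first i s).rev (first i s)) from ?_]
  · rw [Matrix.det_mul, Matrix.det_mul, Matrix.det_diagonal, Matrix.det_diagonal]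
    ring
  · ext s t
    rw [Matrix.mul_diagonal, Matrix.diagonal_mul, Matrix.submatrix_apply]
    refine (entry_sandwich hM hM' _ _ _).trans ?_
    simp only [last', Fin.rev_rev]
    rfl

/-- The sums over the unitriangular group are constant on the big cell. -/
theorem kernel_const (p : ℕ) [CharP K p] [CharP k p] [Fintype (unip K (m + 1))] (φ : SLn → k)
    (hr : ∀ g, ∀ u ∈ unip K (m + 1), φ (g * u) = φ g) (hl : ∀ g, ∀ u ∈ unip K (m + 1), φ (u * g) = φ g)
    (hs : ∀ g, φ g ≠ 0 → Free (unip K (m + 1)) g) (z : SLn) (hz : Free (unip K (m + 1)) z)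
    (g g' : SLn) (hg : Big g) (hg' : Big g') :
    ∑ u : unip K (m + 1), φ (g * u * z⁻¹) = ∑ u : unip K (m + 1), φ (g' * u * z⁻¹) := by
  let F : (Fin m → K) → k := fun ν =>
    if h : ∃ M : SLn, IsAnti M ∧ minors M = ν then φ h.choose else 0
  have hF : ∀ x, φ x = F (minors x) := by
    intro x
    by_cases hx : Big x
    · obtain ⟨u, hu, v, hv, M, hM, rfl⟩ := exists_anti_of_big hx
      have hex : ∃ M' : SLn, IsAnti M' ∧ minors M' = minors (u * M * v) :=
        ⟨M, hM, (minors_invariant u v M hu hv).symm⟩
      have e0 : M = hex.choose :=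
        hM.ext' hex.choose_spec.1 ((minors_invariant u v M hu hv).symm.trans hex.choose_spec.2.symm)
      simp only [F, dif_pos hex]
      rw [hr _ v hv, hl _ u hu]
      exact congrArg φ e0
    · have hne : ¬ ∃ M : SLn, IsAnti M ∧ minors M = minors x := by
        rintro ⟨M, hM, e⟩
        exact hx fun k => e ▸ hM.big k
      simp only [F, dif_neg hne]
      by_contra h0
      exact hx (big_of_free (hs x h0))
  obtain ⟨v1, hv1, v2, hv2, C, hC, ez⟩ := exists_anti_of_free (g := z⁻¹) (fun u hu hzu => by
    have h := hz _ hzu (by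
      rw [inv_inv, show z⁻¹ * (z * u * z⁻¹) * z = u by group]
      exact hu)
    rw [inv_inv] at h
    rw [show u = z⁻¹ * (z * u * z⁻¹) * z by group, h]
    group)
  have key : ∀ g : SLn, Big g → ∑ u : unip K (m + 1), φ (g * u * z⁻¹) =
      ((fibre (K := K) (m := m) 0 : ℕ) : k) * ∑ ν, F ν := by
    intro g hg
    obtain ⟨u1, hu1, u2, hu2, A, hA, rfl⟩ := exists_anti_of_big hg
    have h1 : ∑ u : unip K (m + 1), φ (u1 * A * u2 * u * z⁻¹) =
        ∑ u : unip K (m + 1), φ (A * u * C) := by
      refine Fintype.sum_equiv ((Equiv.mulLeft (⟨u2, hu2⟩ : unip K (m + 1))).trans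
        (Equiv.mulRight (⟨v1, hv1⟩ : unip K (m + 1)))) _ _ fun u => ?_
      simp only [Equiv.trans_apply, Equiv.coe_mulLeft, Equiv.coe_mulRight, Subgroup.coe_mul]
      rw [ez, ← hl (A * (u2 * (u : SLn) * v1) * C) u1 hu1, ← hr (u1 * (A * (u2 * (u : SLn) * v1) * C)) v2 hv2]
      congr 1
      group
    rw [h1, ← Equiv.sum_comp (coord (K := K) (m := m))]
    rw [show (∑ x : Above m → K, φ (A * ((coord x : unip K (m + 1)) : SLn) * C)) =
        ∑ x : Above m → K, F (fun i => minors A i * minors C i * MvPolynomial.eval x (genMinor K m i)) from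
      Finset.sum_congr rfl fun x _ => by rw [hF]; exact congrArg F (funext fun i => minors_sandwich hA hC x i)]
    rw [← Finset.sum_fiberwise Finset.univ (fun (x : Above m → K) i => MvPolynomial.eval x (genMinor K m i))]
    have h2 : ∀ ν : Fin m → K, (∑ x ∈ Finset.univ.filter
        (fun x : Above m → K => (fun i => MvPolynomial.eval x (genMinor K m i)) = ν),
        F (fun i => minors A i * minors C i * MvPolynomial.eval x (genMinor K m i))) =
        ((fibre (K := K) (m := m) 0 : ℕ) : k) * F (fun i => minors A i * minors C i * ν i) := by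
      intro ν
      rw [Finset.sum_congr rfl (g := fun _ => F (fun i => minors A i * minors C i * ν i)) fun x hx => by
        rw [← (Finset.mem_filter.1 hx).2], Finset.sum_const, nsmul_eq_mul]
      congr 1
      rw [CharP.natCast_eq_natCast k p]
      refine (CharP.natCast_eq_natCast K p).1 ?_
      rw [← fibre_const ν 0]
      simp only [fibre, funext_iff]
    rw [Finset.sum_congr rfl fun ν _ => h2 ν, ← Finset.mul_sum]
    have hbij : Function.Bijective (fun (ν : Fin m → K) i => minors A i * minors C i * ν i) :=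
      Finite.injective_iff_bijective.1 fun ν ν' h => funext fun i =>
        mul_left_cancel₀ (mul_ne_zero (hA.big i) (hC.big i)) (congrFun h i)
    exact congrArg (((fibre (K := K) (m := m) 0 : ℕ) : k) * ·) (hbij.sum_comp F)
  rw [key g hg, key g' hg']

end Kernel

end Cfsg.Agent.Classical.BigCell
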