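import Cfsg.Agent.Lib.Classical.SLBigCell
import Cfsg.Agent.Lib.Classical.GLDegree
import Cfsg.Agent.Lib.Classical.UnipotentChar
import Cfsg.Agent.Lib.Classical.SLGroup
import Cfsg.Agent.Lib.Char.CoprimeDegree

/-!
The blocks of `SLₙ` over a finite field in defining characteristic: radical subgroups have small
centralisers, and there is a character of defect zero.
-/

set_option autoImplicit false
set_option linter.unusedSectionVars false
set_option linter.style.haveILetI false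

namespace Cfsg.Agent.Classical.SLBlocks

open Cfsg Matrix Cfsg.Agent.Block

attribute [local instance] _root_.Classical.propDecidable

section Radical

variable {K : Type*} [Field K] [Fintype K] {p : ℕ} [Fact p.Prime] [CharP K p] {n : ℕ}

local notation "SLn" => Matrix.SpecialLinearGroup (Fin n) K
local notation "V" => Fin n → K

/-- The fixed space. -/
def fixSpace (D : Subgroup SLn) : Submodule K V where
  carrier := {v | ∀ d ∈ D, (d : Matrix (Fin n) (Fin n) K) *ᵥ v = v}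
  add_mem' := fun ha hb d hd => by rw [Matrix.mulVec_add, ha d hd, hb d hd]
  zero_mem' := fun d _ => Matrix.mulVec_zero _
  smul_mem' := fun c v hv d hd => by rw [Matrix.mulVec_smul, hv d hd]

lemma eq_one_of_mulVec {d : SLn} (h : ∀ v : V, (d : Matrix (Fin n) (Fin n) K) *ᵥ v = v) : d = 1 :=
  Subtype.ext (Matrix.toLin'.injective (LinearMap.ext fun v => by simp [h v]))

lemma fixSpace_ne_top {D : Subgroup SLn} (hD : D ≠ ⊥) : fixSpace D ≠ ⊤ := fun h =>
  hD ((Subgroup.eq_bot_iff_forall D).2 fun d hd => eq_one_of_mulVec fun v =>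
    (show v ∈ fixSpace D by rw [h]; exact Submodule.mem_top) d hd)

lemma exists_fixed_ne_zero {D : Subgroup SLn} (hD : IsPGroup p D) (hn : 0 < n) :
    ∃ v : V, v ≠ 0 ∧ v ∈ fixSpace D := by
  letI : MulAction D V :=
    { smul := fun d v => ((d : SLn) : Matrix (Fin n) (Fin n) K) *ᵥ v
      one_smul := fun v => by show ((1 : D) : SLn).1 *ᵥ v = v; simp
      mul_smul := fun d e v => by
        show ((d * e : D) : SLn).1 *ᵥ v = (d : SLn).1 *ᵥ ((e : SLn).1 *ᵥ v)
        rw [Subgroup.coe_mul, Matrix.SpecialLinearGroup.coe_mul, Matrix.mulVec_mulVec] }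
  have hdvd : p ∣ Nat.card V := by
    obtain ⟨a, -, ha⟩ := FiniteField.card K p
    rw [Nat.card_fun, Nat.card_eq_fintype_card, ha, Nat.card_eq_fintype_card, Fintype.card_fin, ← pow_mul]
    exact dvd_pow_self p (Nat.mul_ne_zero a.ne_zero hn.ne')
  have h0 : (0 : V) ∈ MulAction.fixedPoints D V := fun d => Matrix.mulVec_zero _
  obtain ⟨v, hv, hne⟩ := hD.exists_fixed_point_of_prime_dvd_card_of_fixed_point V hdvd h0
  exact ⟨v, hne.symm, fun d hd => hv ⟨d, hd⟩⟩

/-- The elements centralising a subspace and the quotient by it. -/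
def relU (W : Submodule K V) : Subgroup SLn where
  carrier := {g | (∀ w ∈ W, (g : Matrix (Fin n) (Fin n) K) *ᵥ w = w) ∧
    ∀ v : V, (g : Matrix (Fin n) (Fin n) K) *ᵥ v - v ∈ W}
  one_mem' := ⟨fun w _ => by simp, fun v => by simp⟩
  mul_mem' := by
    rintro a b ⟨ha, ha'⟩ ⟨hb, hb'⟩
    refine ⟨fun w hw => ?_, fun v => ?_⟩
    · rw [Matrix.SpecialLinearGroup.coe_mul, ← Matrix.mulVec_mulVec, hb w hw, ha w hw]
    · rw [Matrix.SpecialLinearGroup.coe_mul, ← Matrix.mulVec_mulVec]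
      have := W.add_mem (ha' ((b : Matrix (Fin n) (Fin n) K) *ᵥ v)) (hb' v)
      rwa [sub_add_sub_cancel] at this
  inv_mem' := by
    rintro a ⟨ha, ha'⟩
    have hai : ∀ v : V, (a⁻¹ : SLn).1 *ᵥ (a.1 *ᵥ v) = v := fun v => by
      rw [Matrix.mulVec_mulVec, ← Matrix.SpecialLinearGroup.coe_mul, inv_mul_cancel]; simp
    have hia : ∀ v : V, a.1 *ᵥ ((a⁻¹ : SLn).1 *ᵥ v) = v := fun v => by
      rw [Matrix.mulVec_mulVec, ← Matrix.SpecialLinearGroup.coe_mul, mul_inv_cancel]; simp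
    refine ⟨fun w hw => ?_, fun v => ?_⟩
    · conv_lhs => rw [← ha w hw]
      exact hai w
    · have := ha' ((a⁻¹ : SLn).1 *ᵥ v)
      rw [hia] at this
      simpa using W.neg_mem this

lemma relU_pGroup (W : Submodule K V) : IsPGroup p (relU W : Subgroup SLn) := by
  rintro ⟨g, hg, hg'⟩
  refine ⟨1, Subtype.ext (eq_one_of_mulVec fun v => ?_)⟩
  have hpow : ∀ m : ℕ, (g ^ m : SLn).1 *ᵥ v = v + (m : K) • (g.1 *ᵥ v - v) := by
    intro m
    induction m with
    | zero => simp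
    | succ m ih =>
      rw [pow_succ', Matrix.SpecialLinearGroup.coe_mul, ← Matrix.mulVec_mulVec, ih, Matrix.mulVec_add,
        Matrix.mulVec_smul, hg _ (hg' v), Nat.cast_succ, add_smul, one_smul]
      abel
  show ((g ^ p ^ 1 : SLn)).1 *ᵥ v = v
  rw [pow_one, hpow, CharP.cast_eq_zero, zero_smul, add_zero]

lemma rankOne_mem {W : Submodule K V} {w : V} (hw : w ∈ W) (f : V →ₗ[K] K) (hf : ∀ x ∈ W, f x = 0) :
    ∃ r ∈ (relU W : Subgroup SLn), ∀ v : V, r.1 *ᵥ v = v + f v • w := by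
  let a : V := fun i => f (Pi.single i 1)
  have hfa : ∀ v, f v = a ⬝ᵥ v := fun v => by
    conv_lhs => rw [pi_eq_sum_univ' v]
    simp [dotProduct, a, mul_comm]
  let A : Matrix (Fin n) (Fin n) K := 1 + Matrix.vecMulVec w a
  have hAv : ∀ v : V, A *ᵥ v = v + f v • w := fun v => by
    rw [Matrix.add_mulVec, Matrix.one_mulVec, hfa, Matrix.vecMulVec_mulVec]
    simp
  have hdet : A.det = 1 := by
    show (1 + Matrix.vecMulVec w a).det = 1
    rw [Matrix.vecMulVec_eq Unit, Matrix.det_one_add_replicateCol_mul_replicateRow, ← hfa, hf w hw, add_zero]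
  refine ⟨⟨A, hdet⟩, ⟨fun x hx => ?_, fun v => ?_⟩, hAv⟩
  · rw [hAv, hf x hx, zero_smul, add_zero]
  · rw [hAv, add_sub_cancel_left]
    exact W.smul_mem _ hw

/-- Radical subgroups have central centralisers modulo `p`-elements. -/
theorem centralizer_radical (hn : 0 < n) {D : Subgroup SLn} (hD : IsPGroup p D) (hD1 : D ≠ ⊥)
    (hrad : ∀ Q : Subgroup SLn, IsPGroup p Q → Q ≤ Subgroup.normalizer (D : Set SLn) →
      (∀ g ∈ Subgroup.normalizer (D : Set SLn), ∀ k ∈ Q, g * k * g⁻¹ ∈ Q) → Q ≤ D)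
    {y : SLn} (hy : ¬ p ∣ orderOf y) (hyD : y ∈ Subgroup.centralizer (D : Set SLn)) :
    y ∈ Subgroup.center SLn := by
  set W := fixSpace D with hW
  set R : Subgroup SLn := relU W
  set N := Subgroup.normalizer (D : Set SLn)
  have hWN : ∀ g ∈ N, ∀ w ∈ W, g.1 *ᵥ w ∈ W := by
    intro g hg w hw d hd
    have hd' : g⁻¹ * d * g ∈ D := (Subgroup.mem_normalizer_iff''.1 hg d).1 hd
    conv_rhs => rw [← hw _ hd']
    rw [Matrix.mulVec_mulVec, Matrix.mulVec_mulVec, ← Matrix.SpecialLinearGroup.coe_mul,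
      ← Matrix.SpecialLinearGroup.coe_mul, mul_assoc g⁻¹, mul_inv_cancel_left]
  have hRN : ∀ g ∈ N, ∀ r ∈ R, g * r * g⁻¹ ∈ R := by
    intro g hg r hr
    have hgi : g⁻¹ ∈ N := inv_mem hg
    have e : ∀ v : V, (g * r * g⁻¹ : SLn).1 *ᵥ v = g.1 *ᵥ (r.1 *ᵥ ((g⁻¹ : SLn).1 *ᵥ v)) := fun v => by
      simp only [Matrix.SpecialLinearGroup.coe_mul, Matrix.mulVec_mulVec, Matrix.mul_assoc]
    have e1 : ∀ v : V, g.1 *ᵥ ((g⁻¹ : SLn).1 *ᵥ v) = v := fun v => by
      rw [Matrix.mulVec_mulVec, ← Matrix.SpecialLinearGroup.coe_mul, mul_inv_cancel]; simp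
    refine ⟨fun w hw => ?_, fun v => ?_⟩
    · rw [e, hr.1 _ (hWN _ hgi w hw), e1]
    · rw [e]
      have := hWN _ hg _ (hr.2 ((g⁻¹ : SLn).1 *ᵥ v))
      rwa [Matrix.mulVec_sub, e1] at this
  have hRD : IsPGroup p (R ⊔ D : Subgroup SLn) :=
    (relU_pGroup W).to_sup_of_normal_left' hD fun d hd =>
      Subgroup.mem_normalizer_iff.2 fun r => ⟨hRN d (Subgroup.le_normalizer hd) r, fun h => by
        have := hRN d⁻¹ (inv_mem (Subgroup.le_normalizer hd)) _ h
        simpa [mul_assoc] using this⟩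
  have hle : R ⊔ D ≤ D := by
    have h1 : (R ⊔ D) ⊓ N ≤ D := by
      refine hrad _ (hRD.to_le inf_le_left) inf_le_right fun g hg k hk => ⟨?_, ?_⟩
      · have hgn : ∀ x ∈ R ⊔ D, g * x * g⁻¹ ∈ R ⊔ D := by
          intro x hx
          have : (R ⊔ D).map (MulAut.conj g).toMonoidHom ≤ R ⊔ D := by
            rw [Subgroup.map_sup]
            refine sup_le_sup ?_ ?_
            · rintro _ ⟨r, hr, rfl⟩; exact hRN g hg r hr
            · rintro _ ⟨d, hd, rfl⟩; exact (Subgroup.mem_normalizer_iff.1 hg d).1 hd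
          exact this ⟨x, hx, rfl⟩
        exact hgn k hk.1
      · have hgN : g ∈ N := hg
        have hkN : k ∈ N := hk.2
        exact N.mul_mem (N.mul_mem hgN hkN) (N.inv_mem hgN)
    haveI : Finite (R ⊔ D : Subgroup SLn) := inferInstance
    haveI := hRD.isNilpotent
    have h2 : D.subgroupOf (R ⊔ D) = ⊤ := by
      refine normalizerCondition_iff_only_full_group_self_normalizing.1 (Group.normalizerCondition_of_isNilpotent) _ ?_
      refine le_antisymm (fun x hx => ?_) Subgroup.le_normalizer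
      refine h1 ⟨x.2, Subgroup.mem_normalizer_iff.2 fun d => ⟨fun hd => ?_, fun hd => ?_⟩⟩
      · exact Subgroup.mem_subgroupOf.1
          ((Subgroup.mem_normalizer_iff.1 hx ⟨d, le_sup_right (a := R) hd⟩).1 hd)
      · have hmem : d ∈ R ⊔ D := by
          have h3 := mul_mem (mul_mem (inv_mem x.2) (le_sup_right (a := R) hd)) x.2
          simpa [mul_assoc] using h3
        exact Subgroup.mem_subgroupOf.1
          ((Subgroup.mem_normalizer_iff.1 hx ⟨d, hmem⟩).2 hd)
    exact Subgroup.subgroupOf_eq_top.1 h2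
  have hcomm : ∀ w ∈ W, ∀ f : V →ₗ[K] K, (∀ x ∈ W, f x = 0) → ∀ v : V,
      f v • y.1 *ᵥ w = f (y.1 *ᵥ v) • w := by
    intro w hw f hf v
    obtain ⟨r, hr, hrv⟩ := rankOne_mem hw f hf
    have h := Subgroup.mem_centralizer_iff.1 hyD r (hle (le_sup_left (b := D) hr))
    have h2 := congrArg (fun g : SLn => g.1 *ᵥ v) h
    simp only [Matrix.SpecialLinearGroup.coe_mul, ← Matrix.mulVec_mulVec, hrv, Matrix.mulVec_add,
      Matrix.mulVec_smul] at h2
    exact (add_left_cancel h2).symm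
  obtain ⟨w₀, hw₀, hw₀W⟩ := exists_fixed_ne_zero (p := p) hD hn
  obtain ⟨v₀, hv₀⟩ : ∃ v₀, v₀ ∉ W := by
    by_contra h
    push Not at h
    exact fixSpace_ne_top hD1 (eq_top_iff.2 fun v _ => h v)
  obtain ⟨f₀, hf₀, hf₀W⟩ := Submodule.exists_le_ker_of_notMem hv₀
  have hf₀W' : ∀ x ∈ W, f₀ x = 0 := fun x hx => hf₀W hx
  set c : K := (f₀ v₀)⁻¹ * f₀ (y.1 *ᵥ v₀) with hc
  have hyW : ∀ w ∈ W, y.1 *ᵥ w = c • w := fun w hw => by
    rw [hc, mul_smul, ← hcomm w hw f₀ hf₀W' v₀, inv_smul_smul₀ hf₀]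
  have hyV : ∀ v : V, y.1 *ᵥ v - c • v ∈ W := by
    intro v
    by_contra hv
    obtain ⟨f, hf, hfW⟩ := Submodule.exists_le_ker_of_notMem hv
    have hf' : ∀ x ∈ W, f x = 0 := fun x hx => hfW hx
    refine hf ?_
    have h := hcomm w₀ hw₀W f hf' v
    rw [hyW w₀ hw₀W, smul_smul] at h
    have h' := smul_left_injective K hw₀ h
    rw [map_sub, map_smul, smul_eq_mul, ← h']
    ring
  have hpow : ∀ (m : ℕ) (v : V), (y ^ (m + 1) : SLn).1 *ᵥ v =
      c ^ (m + 1) • v + ((m + 1 : ℕ) : K) • c ^ m • (y.1 *ᵥ v - c • v) := by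
    intro m
    induction m with
    | zero => intro v; simp
    | succ m ih =>
      intro v
      rw [pow_succ' y, Matrix.SpecialLinearGroup.coe_mul, ← Matrix.mulVec_mulVec, ih, Matrix.mulVec_add,
        Matrix.mulVec_smul, Matrix.mulVec_smul, Matrix.mulVec_smul, hyW _ (hyV v)]
      push_cast
      module
  have hyp : ∀ v : V, (y ^ p : SLn).1 *ᵥ v = c ^ p • v := fun v => by
    obtain ⟨m, hm⟩ : ∃ m, p = m + 1 := ⟨p - 1, by have := (Fact.out : p.Prime).pos; omega⟩
    rw [hm, hpow, ← hm, CharP.cast_eq_zero, zero_smul, add_zero]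
  have hyc : y ^ p ∈ Subgroup.center SLn := by
    refine Subgroup.mem_center_iff.2 fun g => Subtype.ext (Matrix.toLin'.injective (LinearMap.ext fun v => ?_))
    simp only [Matrix.toLin'_apply, Matrix.SpecialLinearGroup.coe_mul, ← Matrix.mulVec_mulVec, hyp,
      Matrix.mulVec_smul]
  have hyz : y ∈ Subgroup.zpowers (y ^ p) := by
    obtain ⟨k, hk⟩ := exists_pow_eq_self_of_coprime (((Fact.out : p.Prime).coprime_iff_not_dvd).2 hy)
    exact ⟨k, by simpa using hk⟩
  exact Subgroup.zpowers_le.2 hyc hyz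

omit [Fact p.Prime] in
theorem not_dvd_orderOf_center (hp : p.Prime) (hn : 0 < n) {z : SLn} (hz : z ∈ Subgroup.center SLn) :
    ¬ p ∣ orderOf z := by
  obtain ⟨r, hr, hrz⟩ := Matrix.SpecialLinearGroup.mem_center_iff.1 hz
  have hr0 : r ≠ 0 := by
    rintro rfl
    rw [zero_pow (by simp; omega)] at hr
    exact zero_ne_one hr
  have h1 : z ^ (Fintype.card K - 1) = 1 := Subtype.ext (by
    rw [Matrix.SpecialLinearGroup.coe_pow, ← hrz, ← map_pow, FiniteField.pow_card_sub_one_eq_one r hr0,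
      map_one, Matrix.SpecialLinearGroup.coe_one])
  intro h
  have h2 : p ∣ Fintype.card K - 1 := h.trans (orderOf_dvd_of_pow_eq_one h1)
  obtain ⟨a, -, ha⟩ := FiniteField.card K p
  have h3 : p ∣ Fintype.card K := ha ▸ dvd_pow_self p a.ne_zero
  have h4 := Fintype.card_pos (α := K)
  have h5 := Nat.dvd_sub h3 h2
  rw [show Fintype.card K - (Fintype.card K - 1) = 1 by omega] at h5
  exact hp.one_lt.ne' (Nat.dvd_one.1 h5)

end Radical

section Defect

variable {K : Type} [Field K] [Fintype K] {p : ℕ} [Fact p.Prime] [CharP K p] {n : ℕ}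

/-- A character of defect zero of `SLₙ`. -/
theorem exists_full (hn : 0 < n) : ∃ χ : IrrCharacter (Matrix.SpecialLinearGroup (Fin n) K),
    (charDegree (χ : Matrix.SpecialLinearGroup (Fin n) K → ℂ)).factorization p =
      (Nat.card (Matrix.SpecialLinearGroup (Fin n) K)).factorization p := by
  haveI : Nonempty (Fin n) := ⟨⟨0, hn⟩⟩
  have hp : p.Prime := Fact.out
  let G := GL (Fin n) K
  let d : G →* Kˣ := Matrix.GeneralLinearGroup.det
  let e : Matrix.SpecialLinearGroup (Fin n) K ≃* d.ker :=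
    MulEquiv.ofBijective (MonoidHom.codRestrict Matrix.SpecialLinearGroup.toGL d.ker fun A =>
      MonoidHom.mem_ker.2 (Units.ext (by simp [d])))
      ⟨fun A B h => Subtype.ext (congrArg (fun x : d.ker => x.1.1) h), fun g => ⟨⟨g.1.1, by
        exact congrArg Units.val (MonoidHom.mem_ker.1 g.2)⟩, Subtype.ext (Units.ext rfl)⟩⟩
  have hirr := UnipotentChar.isIrr_chi (F := K) (ν := fun _ : Fin n => 1) monotone_const (by simp)
  set χ : IrrCharacter G := ⟨_, hirr⟩
  have hdeg : (χ : G → ℂ) 1 = ((Fintype.card K ^ n.choose 2 : ℕ) : ℂ) := by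
    push_cast
    exact GLDeg.degree_steinberg rfl
  obtain ⟨θ, hθ⟩ := Cfsg.Agent.Char.IsChar.exists_constituent'
    (Cfsg.Agent.Char.IsChar.res (Cfsg.Agent.Char.IsIrr.isCharacter hirr) d.ker)
    (show (χ : G → ℂ) ((1 : d.ker) : G) ≠ 0 by
      rw [Subgroup.coe_one, hdeg]; exact Nat.cast_ne_zero.2 (pow_ne_zero _ Fintype.card_ne_zero))
  obtain ⟨m, hm, hmdvd⟩ := Cfsg.Agent.Char.Ext.ratio_dvd_index' χ.2 θ.2 hθ
  have hidx : d.ker.index = Fintype.card K - 1 := by
    rw [Subgroup.index_ker, MonoidHom.range_eq_top_of_surjective d Matrix.GeneralLinearGroup.det_surjective,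
      Subgroup.card_top, natCard_units_field]
  rw [hdeg, Cfsg.Agent.Block.charDeg_spec' θ, ← Nat.cast_mul, Nat.cast_inj] at hm
  refine ⟨⟨fun g => (θ : d.ker → ℂ) (e g), Cfsg.Agent.Char.IsIrr.comp_mulEquiv e θ.2⟩, ?_⟩
  have hθdeg : charDegree (fun g => (θ : d.ker → ℂ) (e g)) = charDegree (θ : d.ker → ℂ) := by
    simp only [charDegree, map_one]
  show (charDegree fun g => (θ : d.ker → ℂ) (e g)).factorization p = _
  rw [hθdeg]
  obtain ⟨a, -, ha⟩ := FiniteField.card K p
  have hq : p ∣ Fintype.card K := ha ▸ dvd_pow_self p a.ne_zero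
  have hnd : ¬ p ∣ Fintype.card K - 1 := fun h => by
    have h5 := Nat.dvd_sub hq h
    rw [show Fintype.card K - (Fintype.card K - 1) = 1 by have := Fintype.card_pos (α := K); omega] at h5
    exact hp.one_lt.ne' (Nat.dvd_one.1 h5)
  have hm0 : m ≠ 0 ∧ charDegree (θ : d.ker → ℂ) ≠ 0 :=
    ne_zero_and_ne_zero_of_mul (hm ▸ pow_ne_zero _ Fintype.card_ne_zero)
  have h1 := congrArg (fun x : ℕ => x.factorization p) hm
  simp only [Nat.factorization_mul hm0.1 hm0.2, Finsupp.add_apply] at h1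
  rw [Nat.factorization_eq_zero_of_not_dvd (n := m) (fun h => hnd (h.trans (hidx ▸ hmdvd))), zero_add] at h1
  rw [← h1]
  have hq1 : Fintype.card K - 1 ≠ 0 := by have := Fintype.one_lt_card (α := K); omega
  have hcard := natCard_GL_eq_SL_mul (F := K) n hn
  rw [GLDeg.natCard_GL rfl, natCard_units_field] at hcard
  have hqf : ¬ p ∣ GLDeg.qf (Fintype.card K) n := fun h => by
    obtain ⟨j, -, hj⟩ := hp.prime.exists_mem_finset_dvd h
    rw [GLDeg.qi, Finset.sum_range_succ'] at hj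
    refine hp.not_dvd_one ((Nat.dvd_add_right (Finset.dvd_sum fun l _ => ?_)).1 (by simpa using hj))
    exact hq.trans (dvd_pow_self _ (Nat.succ_ne_zero l))
  have h2 := congrArg (fun x : ℕ => x.factorization p) hcard
  simp only [Nat.factorization_mul hq1 Nat.card_pos.ne',
    Nat.factorization_mul (mul_ne_zero (pow_ne_zero _ Fintype.card_ne_zero) (pow_ne_zero _ hq1))
      (GLDeg.qf_pos _ n).ne',
    Nat.factorization_mul (pow_ne_zero (n.choose 2) (Fintype.card_ne_zero (α := K))) (pow_ne_zero n hq1),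
    Nat.factorization_pow (Fintype.card K - 1), Finsupp.add_apply, Finsupp.smul_apply,
    Nat.factorization_eq_zero_of_not_dvd hnd, Nat.factorization_eq_zero_of_not_dvd hqf, smul_zero, add_zero, zero_add] at h2
  exact h2

end Defect

end Cfsg.Agent.Classical.SLBlocks
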