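import Cfsg.Agent.Lib.Classical.CommutatorBlocks
import Cfsg.Agent.Lib.Classical.GLClassNumber

/-!
Labels of operators by multisets of elementary divisors: existence, conjugacy, scaling, determinant and the
determinants of the centraliser.
-/

set_option autoImplicit false

namespace Cfsg.Agent.Classical.SLClasses

open Polynomial Module Cfsg.Agent.Classical.CommutatorSL

universe u v w

variable {F : Type u} [Field F] {V : Type v} [AddCommGroup V] [Module F V]

/-- `h` is a product of multiplications by `X` on the algebras `F[X]/(Q i)`. -/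
def Model {ι : Type w} (h : End F V) (Q : ι → F[X]) : Prop :=
  ∃ φ : (∀ i, AdjoinRoot (Q i)) ≃ₗ[F] V, ∀ x, h (φ x) = φ fun i => AdjoinRoot.root (Q i) * x i

/-- `S` lists elementary divisors `(g, e)` of `h`. -/
def Labels (h : End F V) (S : Multiset (F[X] × ℕ)) : Prop :=
  ∃ (r : ℕ) (c : Fin r → F[X] × ℕ), (Finset.univ.val.map c) = S ∧
    (∀ i, (c i).1.Monic ∧ Irreducible (c i).1 ∧ 1 ≤ (c i).2) ∧ Model h fun i => (c i).1 ^ (c i).2

variable [FiniteDimensional F V]

theorem model_of_vectors {ι : Type w} [Fintype ι] (h : End F V) (Q : ι → F[X]) (hQ : ∀ i, (Q i).Monic)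
    (v : ι → V) (hv : ∀ i, aeval h (Q i) (v i) = 0)
    (hspan : ⊤ ≤ Submodule.span F (Set.range fun x : ι × ℕ => (h ^ x.2) (v x.1)))
    (hsum : ∑ i, (Q i).natDegree = finrank F V) : Model h Q := by
  classical
  let ψ : ∀ i, AdjoinRoot (Q i) →ₗ[F] V := fun i =>
    ((LinearMap.applyₗ (v i)).comp (aeval h).toLinearMap).comp (AdjoinRoot.modByMonicHom (hQ i))
  have hψ : ∀ i (P : F[X]), ψ i (AdjoinRoot.mk (Q i) P) = aeval h P (v i) := fun i P => by
    show aeval h (AdjoinRoot.modByMonicHom (hQ i) (AdjoinRoot.mk (Q i) P)) (v i) = _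
    rw [AdjoinRoot.modByMonicHom_mk (hQ i)]
    conv_rhs => rw [← modByMonic_add_div P (Q i)]
    rw [map_add, LinearMap.add_apply, mul_comm, map_mul, Module.End.mul_apply, hv, map_zero, add_zero]
  haveI : ∀ i, FiniteDimensional F (AdjoinRoot (Q i)) := fun i => (AdjoinRoot.powerBasis (hQ i).ne_zero).finite
  let φ : (∀ i, AdjoinRoot (Q i)) →ₗ[F] V := ∑ i, (ψ i).comp (LinearMap.proj i)
  have hφ : ∀ x, φ x = ∑ i, ψ i (x i) := fun x => by simp [φ]
  have hsurj : LinearMap.range φ = ⊤ := by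
    refine eq_top_iff.2 (hspan.trans (Submodule.span_le.2 ?_))
    rintro _ ⟨⟨i, j⟩, rfl⟩
    refine ⟨Pi.single i (AdjoinRoot.mk (Q i) (X ^ j)), ?_⟩
    rw [hφ, Finset.sum_eq_single i (fun k _ hk => by rw [Pi.single_eq_of_ne hk, map_zero]) (by simp),
      Pi.single_eq_same, hψ, map_pow, aeval_X]
  have hdim : finrank F (∀ i, AdjoinRoot (Q i)) = finrank F V := by
    rw [Module.finrank_pi_fintype, ← hsum]
    exact Finset.sum_congr rfl fun i _ => (AdjoinRoot.powerBasis (hQ i).ne_zero).finrank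
  refine ⟨LinearEquiv.ofBijective φ ⟨(LinearMap.injective_iff_surjective_of_finrank_eq_finrank hdim).2
    (LinearMap.range_eq_top.1 hsurj), LinearMap.range_eq_top.1 hsurj⟩, fun x => ?_⟩
  show h (φ x) = φ fun i => AdjoinRoot.root (Q i) * x i
  rw [hφ, hφ, map_sum]
  refine Finset.sum_congr rfl fun i _ => ?_
  obtain ⟨P, hP⟩ := AdjoinRoot.mk_surjective (x i)
  show h (ψ i (x i)) = ψ i (AdjoinRoot.root (Q i) * x i)
  rw [← hP, ← AdjoinRoot.mk_X, ← map_mul, hψ, hψ, map_mul, aeval_X, Module.End.mul_apply]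

omit [FiniteDimensional F V] in
theorem exists_vectors {ι : Type w} [Fintype ι] {h : End F V} {Q : ι → F[X]} (hM : Model h Q) :
    ∃ v : ι → V, (∀ i, aeval h (Q i) (v i) = 0) ∧
      ⊤ ≤ Submodule.span F (Set.range fun x : ι × ℕ => (h ^ x.2) (v x.1)) := by
  classical
  obtain ⟨φ, hφ⟩ := hM
  have hpoly : ∀ (i : ι) (P : F[X]),
      aeval h P (φ (Pi.single i 1)) = φ (Pi.single i (AdjoinRoot.mk (Q i) P)) := by
    intro i P
    induction P using Polynomial.induction_on' with
    | add p q hp hq => rw [map_add, LinearMap.add_apply, hp, hq, map_add, Pi.single_add, map_add]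
    | monomial k r =>
      rw [← C_mul_X_pow_eq_monomial, map_mul, aeval_C, Module.End.mul_apply, Module.algebraMap_end_apply,
        map_pow, aeval_X, map_mul, AdjoinRoot.mk_C, ← AdjoinRoot.algebraMap_eq, ← Algebra.smul_def,
        Pi.single_smul, map_smul]
      congr 1
      induction k with
      | zero => simp
      | succ k ih =>
        rw [pow_succ', Module.End.mul_apply, ih, hφ]
        congr 1
        funext j
        rcases eq_or_ne j i with rfl | hj
        · rw [Pi.single_eq_same, Pi.single_eq_same, pow_succ', map_mul, AdjoinRoot.mk_X]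
        · rw [Pi.single_eq_of_ne hj, Pi.single_eq_of_ne hj, mul_zero]
  refine ⟨fun i => φ (Pi.single i 1), fun i => by rw [hpoly, AdjoinRoot.mk_self, Pi.single_zero, map_zero], ?_⟩
  intro z _
  obtain ⟨x, rfl⟩ := φ.surjective z
  rw [← Finset.univ_sum_single x, map_sum]
  refine Submodule.sum_mem _ fun i _ => ?_
  obtain ⟨P, hP⟩ := AdjoinRoot.mk_surjective (x i)
  rw [← hP, ← hpoly, aeval_eq_sum_range, LinearMap.sum_apply]
  refine Submodule.sum_mem _ fun j _ => ?_
  rw [LinearMap.smul_apply]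
  exact Submodule.smul_mem _ _ (Submodule.subset_span ⟨(i, j), rfl⟩)

theorem finrank_of_model {ι : Type w} [Fintype ι] {h : End F V} {Q : ι → F[X]} (hQ : ∀ i, (Q i).Monic)
    (hM : Model h Q) : ∑ i, (Q i).natDegree = finrank F V := by
  obtain ⟨φ, -⟩ := hM
  haveI : ∀ i, FiniteDimensional F (AdjoinRoot (Q i)) := fun i => (AdjoinRoot.powerBasis (hQ i).ne_zero).finite
  rw [← φ.finrank_eq, Module.finrank_pi_fintype]
  exact Finset.sum_congr rfl fun i _ => ((AdjoinRoot.powerBasis (hQ i).ne_zero).finrank).symm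

omit [FiniteDimensional F V] in
theorem model_reindex {ι : Type w} {κ : Type*} {h : End F V} {Q : ι → F[X]} (σ : κ ≃ ι) (hM : Model h Q) :
    Model h fun k => Q (σ k) := by
  obtain ⟨φ, hφ⟩ := hM
  let e := LinearEquiv.piCongrLeft F (fun i => AdjoinRoot (Q i)) σ
  refine ⟨e.trans φ, fun x => ?_⟩
  obtain ⟨y, rfl⟩ := e.symm.surjective x
  rw [LinearEquiv.trans_apply, LinearEquiv.trans_apply, e.apply_symm_apply, hφ]
  congr 1
  refine e.symm.injective ?_
  rw [e.symm_apply_apply]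
  rfl

theorem exists_labels (h : End F V) : ∃ S, Labels h S := by
  classical
  obtain ⟨T, hT, hspan, hlen⟩ := exists_decomposition h
  let c : Fin T.length → F[X] × ℕ := fun i => (T.get i).2
  refine ⟨_, T.length, c, rfl, fun i => ⟨(hT _ (T.get_mem i)).1, (hT _ (T.get_mem i)).2.1, (hT _ (T.get_mem i)).2.2.1⟩,
    model_of_vectors h _ (fun i => (hT _ (T.get_mem i)).1.pow _) (fun i => (T.get i).1)
      (fun i => (hT _ (T.get_mem i)).2.2.2) (hspan.trans (spanL_le fun z hz => ?_)) ?_⟩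
  · obtain ⟨p, hp, hz⟩ := List.mem_flatMap.1 hz
    obtain ⟨t, ht, rfl⟩ := List.mem_map.1 hp
    obtain ⟨i, rfl⟩ := List.get_of_mem ht
    obtain ⟨j, -, rfl⟩ := mem_allDown.1 hz
    exact Submodule.subset_span ⟨(i, j), rfl⟩
  · rw [← hlen, List.map_map, ← Fin.sum_univ_fun_getElem T (Prod.snd ∘ piece)]
    rfl

omit [FiniteDimensional F V] in
theorem conj_of_labels {W : Type*} [AddCommGroup W] [Module F W] {h : End F V} {h' : End F W}
    {S : Multiset (F[X] × ℕ)} (hS : Labels h S) (hS' : Labels h' S) :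
    ∃ e : V ≃ₗ[F] W, ∀ x, e (h x) = h' (e x) := by
  obtain ⟨r, c, hc, -, hM⟩ := hS
  obtain ⟨r', c', hc', -, hM'⟩ := hS'
  obtain ⟨σ, hσ⟩ := GLClassNumber.exists_equiv_of_map_eq c c' (hc.trans hc'.symm)
  have hM'' := model_reindex σ hM'
  rw [show (fun k => (c' (σ k)).1 ^ (c' (σ k)).2) = fun i => (c i).1 ^ (c i).2 from funext fun i => by rw [hσ]] at hM''
  obtain ⟨φ, hφ⟩ := hM
  obtain ⟨φ', hφ'⟩ := hM''
  refine ⟨φ.symm.trans φ', fun x => ?_⟩
  obtain ⟨y, rfl⟩ := φ.surjective x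
  simp [hφ, hφ']

/-- Scaling of a label. -/
noncomputable def sc (ζ : F) (x : F[X] × ℕ) : F[X] × ℕ := (x.1.scaleRoots ζ, x.2)

theorem irreducible_scaleRoots {g : F[X]} (hg : Irreducible g) {ζ : F} (hζ : ζ ≠ 0) :
    Irreducible (g.scaleRoots ζ) := by
  have hback : ∀ f : F[X], (f.scaleRoots ζ⁻¹).scaleRoots ζ = f := fun f => by
    rw [← scaleRoots_mul, inv_mul_cancel₀ hζ, scaleRoots_one]
  have hfwd : ∀ f : F[X], (f.scaleRoots ζ).scaleRoots ζ⁻¹ = f := fun f => by
    rw [← scaleRoots_mul, mul_inv_cancel₀ hζ, scaleRoots_one]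
  have hunit : ∀ (f : F[X]) (s : F), IsUnit f → IsUnit (f.scaleRoots s) := fun f s hf => by
    obtain ⟨r, hr, rfl⟩ := Polynomial.isUnit_iff.1 hf
    rw [scaleRoots_C]
    exact isUnit_C.2 hr
  refine ⟨fun h => hg.not_isUnit (hfwd g ▸ hunit _ _ h), fun a b hab => ?_⟩
  have h1 : g = a.scaleRoots ζ⁻¹ * b.scaleRoots ζ⁻¹ := by
    rw [← mul_scaleRoots_of_noZeroDivisors, ← hab, hfwd]
  exact (hg.isUnit_or_isUnit h1).imp (fun h => hback a ▸ hunit _ _ h) fun h => hback b ▸ hunit _ _ h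

theorem labels_smul {h : End F V} {S : Multiset (F[X] × ℕ)} {ζ : F} (hζ : ζ ≠ 0) (hS : Labels h S) :
    Labels (ζ • h) (S.map (sc ζ)) := by
  classical
  obtain ⟨r, c, rfl, hc, hM⟩ := hS
  refine ⟨r, fun i => sc ζ (c i), by rw [Multiset.map_map]; rfl,
    fun i => ⟨(monic_scaleRoots_iff ζ).2 (hc i).1, irreducible_scaleRoots (hc i).2.1 hζ, (hc i).2.2⟩, ?_⟩
  obtain ⟨v, hv, hspan⟩ := exists_vectors hM
  have heq : ∀ i, (sc ζ (c i)).1 ^ (sc ζ (c i)).2 = ((c i).1 ^ (c i).2).scaleRoots ζ := fun i =>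
    (pow_scaleRoots_of_isReduced _ _ _).symm
  refine model_of_vectors _ _ (fun i => (((monic_scaleRoots_iff ζ).2 (hc i).1).pow _)) v (fun i => ?_) ?_ ?_
  · rw [heq]
    have h1 : ζ • h = algebraMap F (End F V) ζ * h := Algebra.smul_def ..
    rw [h1, aeval_def, scaleRoots_eval₂_mul_of_commute _ _ _ (Algebra.commutes ζ h) (fun a b => Algebra.commutes a _),
      ← aeval_def, Module.End.mul_apply, hv i, map_zero]
  · refine hspan.trans (Submodule.span_le.2 ?_)
    rintro _ ⟨⟨i, j⟩, rfl⟩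
    have h2 : (h ^ j) (v i) = (ζ⁻¹) ^ j • (((ζ • h) ^ j) (v i)) := by
      rw [_root_.smul_pow, LinearMap.smul_apply, smul_smul, ← mul_pow, inv_mul_cancel₀ hζ, one_pow, one_smul]
    show (h ^ j) (v i) ∈ _
    rw [h2]
    exact Submodule.smul_mem _ _ (Submodule.subset_span ⟨(i, j), rfl⟩)
  · rw [← finrank_of_model (fun i => (hc i).1.pow _) hM]
    exact Finset.sum_congr rfl fun i _ => by rw [heq, natDegree_scaleRoots]

theorem det_pi_fin : ∀ (r : ℕ) (M : Fin r → Type w) [∀ i, AddCommGroup (M i)] [∀ i, Module F (M i)]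
    [∀ i, FiniteDimensional F (M i)] (f : ∀ i, M i →ₗ[F] M i),
    LinearMap.det (LinearMap.pi fun i => (f i).comp (LinearMap.proj i)) = ∏ i, LinearMap.det (f i) := by
  intro r
  induction r with
  | zero =>
    intro M _ _ _ f
    rw [show (LinearMap.pi fun i => (f i).comp (LinearMap.proj i)) = (1 : End F (∀ i, M i)) from
      LinearMap.ext fun x => funext fun i => i.elim0, map_one, Fin.prod_univ_zero]
  | succ r ih =>
    intro M _ _ _ f
    let e := Fin.consLinearEquiv F M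
    have h : (LinearMap.pi fun i => (f i).comp (LinearMap.proj i)) = e.toLinearMap.comp
        (((f 0).prodMap (LinearMap.pi fun i : Fin r => (f i.succ).comp (LinearMap.proj i))).comp e.symm.toLinearMap) := by
      refine LinearMap.ext fun x => funext fun i => ?_
      refine Fin.cases ?_ (fun j => ?_) i <;> simp [e] <;> rfl
    rw [h, LinearMap.det_conj, LinearMap.det_prodMap, ih, Fin.prod_univ_succ]

/-- The determinant attached to a label. -/
noncomputable def lblDet (S : Multiset (F[X] × ℕ)) : F :=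
  (S.map fun x => ((-1) ^ x.1.natDegree * x.1.coeff 0) ^ x.2).prod

theorem det_mulRoot {Q : F[X]} (hQ : Q.Monic) :
    LinearMap.det (LinearMap.mulLeft F (AdjoinRoot.root Q)) = (-1) ^ Q.natDegree * Q.coeff 0 := by
  have h := Algebra.PowerBasis.norm_gen_eq_coeff_zero_minpoly (AdjoinRoot.powerBasis (K := F) hQ.ne_zero)
  rw [AdjoinRoot.minpoly_powerBasis_gen_of_monic hQ, AdjoinRoot.powerBasis_dim, AdjoinRoot.powerBasis_gen,
    Algebra.norm_apply] at h
  exact h

theorem det_of_labels {h : End F V} {S : Multiset (F[X] × ℕ)} (hS : Labels h S) : LinearMap.det h = lblDet S := by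
  classical
  obtain ⟨r, c, rfl, hc, φ, hφ⟩ := hS
  haveI : ∀ i, FiniteDimensional F (AdjoinRoot ((c i).1 ^ (c i).2)) := fun i =>
    (AdjoinRoot.powerBasis ((hc i).1.pow _).ne_zero).finite
  have h1 : h = φ.toLinearMap.comp ((LinearMap.pi fun i =>
      (LinearMap.mulLeft F (AdjoinRoot.root ((c i).1 ^ (c i).2))).comp (LinearMap.proj i)).comp φ.symm.toLinearMap) := by
    refine LinearMap.ext fun x => ?_
    obtain ⟨y, rfl⟩ := φ.surjective x
    simp [hφ]
    rfl
  rw [h1, LinearMap.det_conj, det_pi_fin, lblDet, Multiset.map_map]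
  refine Finset.prod_congr rfl fun i _ => ?_
  rw [det_mulRoot ((hc i).1.pow _), natDegree_pow, coeff_zero_eq_eval_zero, eval_pow, ← coeff_zero_eq_eval_zero,
    Function.comp_apply, mul_pow, ← pow_mul, mul_comm (c i).2]

theorem labels_sum {h : End F V} {S : Multiset (F[X] × ℕ)} (hS : Labels h S) :
    (S.map fun x => x.2 * x.1.natDegree).sum = finrank F V := by
  obtain ⟨r, c, rfl, hc, hM⟩ := hS
  rw [← finrank_of_model (fun i => (hc i).1.pow _) hM, Multiset.map_map]
  exact Finset.sum_congr rfl fun i _ => (natDegree_pow _ _).symm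

theorem labels_mem {h : End F V} (hdet : LinearMap.det h ≠ 0) {S : Multiset (F[X] × ℕ)} (hS : Labels h S) :
    ∀ x ∈ S, x.1.Monic ∧ Irreducible x.1 ∧ x.1.coeff 0 ≠ 0 ∧ 1 ≤ x.2 := by
  have hd := det_of_labels hS
  obtain ⟨r, c, rfl, hc, -⟩ := hS
  intro x hx
  have hne : ((-1) ^ x.1.natDegree * x.1.coeff 0) ^ x.2 ≠ 0 := fun h0 =>
    hdet (hd.trans (Multiset.prod_eq_zero (h0 ▸ Multiset.mem_map_of_mem _ hx)))
  obtain ⟨i, -, rfl⟩ := Multiset.mem_map.1 hx
  refine ⟨(hc i).1, (hc i).2.1, fun h0 => hne ?_, (hc i).2.2⟩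
  rw [h0, mul_zero, zero_pow (by have := (hc i).2.2; omega)]

theorem exists_commute_det_of_labels [Finite F] {h : End F V} {S : Multiset (F[X] × ℕ)} (hS : Labels h S)
    {x : F[X] × ℕ} (hx : x ∈ S) (t : F) : ∃ z : End F V, Commute z h ∧ LinearMap.det z = t ^ x.2 := by
  classical
  obtain ⟨r, c, rfl, hc, φ, hφ⟩ := hS
  obtain ⟨i₀, -, rfl⟩ := Multiset.mem_map.1 hx
  haveI : ∀ i, FiniteDimensional F (AdjoinRoot ((c i).1 ^ (c i).2)) := fun i =>
    (AdjoinRoot.powerBasis ((hc i).1.pow _).ne_zero).finite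
  set Q := (c i₀).1 ^ (c i₀).2 with hQdef
  have hQ : Q.Monic := (hc i₀).1.pow _
  have hfin : finrank F (AdjoinRoot Q) = Q.natDegree := (AdjoinRoot.powerBasis hQ.ne_zero).finrank
  have hae : ∀ P : F[X], aeval (LinearMap.mulLeft F (AdjoinRoot.root Q)) P = LinearMap.mulLeft F (AdjoinRoot.mk Q P) :=
    fun P => by
      refine LinearMap.ext fun y => ?_
      have h2 : aeval (Algebra.lmul F (AdjoinRoot Q) (AdjoinRoot.root Q)) P
          = Algebra.lmul F (AdjoinRoot Q) (AdjoinRoot.mk Q P) := by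
        rw [aeval_algHom_apply, AdjoinRoot.aeval_eq]
      exact LinearMap.congr_fun h2 y
  obtain ⟨z, hz, hzdet⟩ := exists_commute_det_of_component (LinearMap.mulLeft F (AdjoinRoot.root Q)) (c i₀).1 1
    (c i₀).2 (hc i₀).1 (hc i₀).2.1 monic_one isCoprime_one_right
    (by rw [mul_one, hae, AdjoinRoot.mk_self]; simp) (by rw [mul_one, hfin])
    (fun P hP h0 => by
      rw [hae] at h0
      have h1 := LinearMap.congr_fun h0 1
      rw [LinearMap.mulLeft_apply, mul_one, LinearMap.zero_apply, AdjoinRoot.mk_eq_zero] at h1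
      exact eq_zero_of_dvd_of_natDegree_lt h1 (hfin ▸ hP)) t
  let f : ∀ i, AdjoinRoot ((c i).1 ^ (c i).2) →ₗ[F] AdjoinRoot ((c i).1 ^ (c i).2) :=
    Function.update (fun _ => LinearMap.id) i₀ z
  refine ⟨φ.toLinearMap.comp ((LinearMap.pi fun i => (f i).comp (LinearMap.proj i)).comp φ.symm.toLinearMap), ?_, ?_⟩
  · refine LinearMap.ext fun y => ?_
    obtain ⟨y, rfl⟩ := φ.surjective y
    simp only [Module.End.mul_apply, LinearMap.comp_apply, LinearEquiv.coe_coe, hφ, LinearEquiv.symm_apply_apply,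
      LinearMap.pi_apply, LinearMap.proj_apply]
    congr 1
    funext i
    show f i (_ * y i) = _ * f i (y i)
    simp only [f]
    rcases eq_or_ne i i₀ with rfl | hi
    · rw [Function.update_self]
      exact LinearMap.congr_fun hz.eq (y i)
    · rw [Function.update_of_ne hi]
      rfl
  · rw [LinearMap.det_conj, det_pi_fin, Finset.prod_eq_single i₀]
    · simp only [f, Function.update_self]; exact hzdet
    · intro i _ hi
      simp only [f, Function.update_of_ne hi, LinearMap.det_id]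
    · simp

end Cfsg.Agent.Classical.SLClasses
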