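import Cfsg.Agent.Lib.Classical.SLClassCount
import Cfsg.Agent.Lib.Classical.RegUnipClasses

/-!
Bounds on the numbers of conjugacy classes of `SL(n, q)` and `PSL(n, q)`.
-/

set_option autoImplicit false

namespace Cfsg.Agent.Classical.SLClasses

open Polynomial GLClassNumber Cfsg.Agent.Classical.CommutatorSL

section Numeric

/-- The growth bound for labels without exponent one. -/
def Φ (q : ℕ) : ℕ → ℕ
  | 0 => 1
  | 1 => 0
  | n + 2 => Φ q (n + 1) + q * Φ q n

theorem Φ_succ (q n : ℕ) : Φ q (n + 2) = Φ q (n + 1) + q * Φ q n := by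
  rw [Φ]

theorem Φ_sum (q : ℕ) : ∀ n, Φ q (n + 1) = q * ∑ i ∈ Finset.range n, Φ q i
  | 0 => by simp [Φ]
  | n + 1 => by rw [Φ_succ, Φ_sum q n, Finset.sum_range_succ]; ring

theorem A_le_sum {q : ℕ} (hq : 1 ≤ q) : ∀ (j K n : ℕ), n + 1 - K ≤ j → 2 ≤ K → 1 ≤ n →
    A q K n ≤ q * ∑ i ∈ Finset.range (n + 1 - K), Φ q i := by
  intro j
  induction j with
  | zero => intro K n hj hK hn; rw [A_of_lt q (by omega) (by omega)]; exact Nat.zero_le _
  | succ j ih =>
    intro K
    refine fun n => Nat.strong_induction_on n (fun n ihn => ?_)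
    intro hj hK hn
    rcases Nat.lt_or_ge n K with h | h
    · rw [A_of_lt q (by omega) h]; exact Nat.zero_le _
    have hstep : A q K n ≤ A q (K + 1) n + q * A q K (n - K) := by
      have := A_step hq (show 0 < K by omega) h
      omega
    refine hstep.trans ?_
    rw [show n + 1 - K = (n + 1 - (K + 1)) + 1 by omega, Finset.sum_range_succ, mul_add]
    refine Nat.add_le_add (ih (K + 1) n (by omega) (by omega) hn) (Nat.mul_le_mul_left _ ?_)
    rw [show n + 1 - (K + 1) = n - K by omega]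
    rcases Nat.eq_zero_or_pos (n - K) with h0 | h0
    · rw [h0, A_zero]; exact le_rfl
    refine (ihn (n - K) (by omega) (by omega) hK h0).trans ?_
    obtain ⟨m, hm⟩ : ∃ m, n - K = m + 1 := ⟨n - K - 1, by omega⟩
    rw [hm, Φ_sum]
    exact Nat.mul_le_mul_left _ (Finset.sum_le_sum_of_subset (Finset.range_mono (by omega)))

theorem A_two_le {q : ℕ} (hq : 1 ≤ q) {n : ℕ} (hn : 1 ≤ n) : A q 2 n ≤ Φ q n := by
  obtain ⟨m, rfl⟩ : ∃ m, n = m + 1 := ⟨n - 1, by omega⟩
  rw [Φ_sum]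
  exact (A_le_sum hq (m + 2) 2 (m + 1) (by omega) (by omega) hn).trans (le_of_eq (by rw [show m + 1 + 1 - 2 = m by omega]))

theorem D_add {q k n : ℕ} (hk : 0 < k) (h : k ≤ n) : (q - 1) * D q k n + A q (k + 1) n = A q k n := by
  rw [A_of_le q hk h, D, add_comm]

theorem sum_D {q : ℕ} : ∀ (j k n : ℕ), n + 1 - k ≤ j → 1 ≤ k → 1 ≤ n →
    (q - 1) * ∑ i ∈ Finset.Icc k n, D q i n = A q k n := by
  intro j
  induction j with
  | zero =>
    intro k n hj hk hn
    rw [Finset.Icc_eq_empty (by omega), A_of_lt q (by omega) (by omega)]; simp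
  | succ j ih =>
    intro k n hj hk hn
    rcases Nat.lt_or_ge n k with h | h
    · rw [Finset.Icc_eq_empty (by omega), A_of_lt q (by omega) h]; simp
    rw [← Finset.add_sum_Ioc_eq_sum_Icc h, ← Finset.Icc_add_one_left_eq_Ioc, mul_add,
      ih (k + 1) n (by omega) (by omega) hn, D_add (by omega) h]

/-- The weight bound. -/
def M (q n : ℕ) : ℕ := min n (q - 1) ^ 2

theorem gcd_sq_le {q : ℕ} (hq : 2 ≤ q) {i n : ℕ} (hi : 1 ≤ i) (hin : i ≤ n) : Nat.gcd (q - 1) i ^ 2 ≤ M q n :=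
  Nat.pow_le_pow_left (le_min ((Nat.le_of_dvd (by omega) (Nat.gcd_dvd_right _ _)).trans hin)
    (Nat.le_of_dvd (by omega) (Nat.gcd_dvd_left _ _))) 2

theorem Bd_le {q n : ℕ} (hq : 2 ≤ q) (hn : 2 ≤ n) :
    (q - 1) * Bd q 1 n ≤ q ^ n + (M q n - 1) * Φ q n := by
  have h1 : ∑ i ∈ Finset.Icc 1 n, Nat.gcd (q - 1) i ^ 2 * D q i n
      ≤ ∑ i ∈ Finset.Icc 1 n, D q i n + (M q n - 1) * ∑ i ∈ Finset.Icc 2 n, D q i n := by
    rw [← Finset.add_sum_Ioc_eq_sum_Icc (show 1 ≤ n by omega) (f := fun i => Nat.gcd (q - 1) i ^ 2 * D q i n),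
      ← Finset.add_sum_Ioc_eq_sum_Icc (show 1 ≤ n by omega) (f := fun i => D q i n),
      ← Finset.Icc_add_one_left_eq_Ioc, show (1 : ℕ) + 1 = 2 from rfl, Nat.gcd_one_right, one_pow, one_mul, add_assoc, Finset.mul_sum]
    refine Nat.add_le_add_left ?_ _
    rw [← Finset.sum_add_distrib]
    refine Finset.sum_le_sum fun i hi => ?_
    have h2 := gcd_sq_le hq (show 1 ≤ i by simp at hi; omega) (show i ≤ n by simp at hi; omega)
    calc Nat.gcd (q - 1) i ^ 2 * D q i n ≤ (1 + (M q n - 1)) * D q i n := Nat.mul_le_mul_right _ (by omega)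
      _ = D q i n + (M q n - 1) * D q i n := by ring
  refine (Nat.mul_le_mul_left (q - 1) h1).trans ?_
  rw [mul_add, sum_D (n + 1) 1 n (by omega) le_rfl (by omega), ← mul_assoc, mul_comm (q - 1), mul_assoc,
    sum_D (n + 1) 2 n (by omega) (by omega) (by omega)]
  exact Nat.add_le_add (A_le (by omega) n) (Nat.mul_le_mul_left _ (A_two_le (by omega) (by omega)))

theorem Bd_one {q : ℕ} : Bd q 1 1 = 1 := by
  simp [Bd, D, A_zero, Finset.sum_range_succ]

theorem Bd_two {q : ℕ} (hq : 2 ≤ q) : Bd q 1 2 ≤ q + 4 := by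
  have a22 : A q 2 2 = q - 1 := by
    rw [A_of_le q (by omega) le_rfl, A_of_lt q (by omega) (show 2 < 2 + 1 by omega)]
    simp [A_zero, Finset.sum_range_succ]
  have a21 : A q 2 1 = 0 := A_of_lt q (by omega) (by omega)
  have h1 : D q 1 2 = q - 1 * 0 := by
    simp [D, Finset.sum_range_succ, A_zero, a21]
  have h2 : D q 2 2 = 1 := by simp [D, Finset.sum_range_succ, A_zero]
  have hg : Nat.gcd (q - 1) 2 ^ 2 ≤ 4 :=
    (Nat.pow_le_pow_left (Nat.le_of_dvd (by omega) (Nat.gcd_dvd_right _ _)) 2).trans (by norm_num)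
  rw [Bd, show Finset.Icc 1 2 = {1, 2} by rfl, Finset.sum_pair (by omega), h1, h2, Nat.gcd_one_right]
  omega

theorem Bd_three {q : ℕ} (hq : 2 ≤ q) : Bd q 1 3 ≤ q ^ 2 + 3 * q := by
  have a22 : A q 2 2 = q - 1 := by
    rw [A_of_le q (by omega) le_rfl, A_of_lt q (by omega) (show 2 < 2 + 1 by omega)]
    simp [A_zero, Finset.sum_range_succ]
  have a21 : A q 2 1 = 0 := A_of_lt q (by omega) (by omega)
  have a31 : A q 3 1 = 0 := A_of_lt q (by omega) (by omega)
  have h1 : D q 1 3 = q - 1 + q ^ 2 := by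
    simp [D, Finset.sum_range_succ, A_zero, a21, a22]
  have h2 : D q 2 3 = 0 := by simp [D, Finset.sum_range_succ, a31]
  have h3 : D q 3 3 = 1 := by simp [D, Finset.sum_range_succ, A_zero]
  rw [Bd, show Finset.Icc 1 3 = {1, 2, 3} by rfl, Finset.sum_insert (by simp), Finset.sum_pair (by omega), h1, h2, h3,
    Nat.gcd_one_right, mul_zero, one_pow, one_mul, zero_add, mul_one]
  have hg3 : Nat.gcd (q - 1) 3 ≤ 3 := Nat.le_of_dvd (by omega) (Nat.gcd_dvd_right _ _)
  have hgq : Nat.gcd (q - 1) 3 ≤ q - 1 := Nat.le_of_dvd (by omega) (Nat.gcd_dvd_left _ _)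
  rcases Nat.lt_or_ge q 4 with h | h
  · have h' := Nat.pow_le_pow_left hgq 2
    interval_cases q <;> simp_all
  · have h' := Nat.pow_le_pow_left hg3 2
    omega

theorem Bd_four {q : ℕ} (hq : 2 ≤ q) : Bd q 1 4 ≤ q ^ 3 + 3 * q ^ 2 := by
  have a22 : A q 2 2 = q - 1 := by
    rw [A_of_le q (by omega) le_rfl, A_of_lt q (by omega) (show 2 < 2 + 1 by omega)]
    simp [A_zero, Finset.sum_range_succ]
  have a21 : A q 2 1 = 0 := A_of_lt q (by omega) (by omega)
  have a32 : A q 3 2 = 0 := A_of_lt q (by omega) (by omega)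
  have a41 : A q 4 1 = 0 := A_of_lt q (by omega) (by omega)
  have a33 : A q 3 3 = q - 1 := by
    rw [A_of_le q (by omega) le_rfl, A_of_lt q (by omega) (show 3 < 3 + 1 by omega)]
    simp [A_zero, Finset.sum_range_succ]
  have a23 : A q 2 3 = q - 1 := by
    rw [A_of_le q (by omega) (by omega), show (2 + 1) = 3 from rfl, a33]
    simp [Finset.sum_range_succ, A_of_lt]
  have h1 : D q 1 4 = q - 1 + q * (q - 1) + q ^ 3 := by
    simp [D, Finset.sum_range_succ, A_zero, a21, a22, a23]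
  have h2 : D q 2 4 = q := by simp [D, Finset.sum_range_succ, a32, A_zero]
  have h3 : D q 3 4 = 0 := by simp [D, Finset.sum_range_succ, a41]
  have h4 : D q 4 4 = 1 := by simp [D, Finset.sum_range_succ, A_zero]
  rw [Bd, show Finset.Icc 1 4 = {1, 2, 3, 4} by rfl, Finset.sum_insert (by simp), Finset.sum_insert (by simp),
    Finset.sum_pair (by omega), h1, h2, h3, h4, Nat.gcd_one_right, mul_zero, one_pow, one_mul, zero_add, mul_one]
  have hg2 := Nat.pow_le_pow_left (Nat.le_of_dvd (by omega) (Nat.gcd_dvd_right (q - 1) 2)) 2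
  have hg4 := Nat.pow_le_pow_left (Nat.le_of_dvd (by omega) (Nat.gcd_dvd_right (q - 1) 4)) 2
  have hg2' := Nat.mul_le_mul_right q hg2
  have hqq : q * (q - 1) + q = q ^ 2 := by
    obtain ⟨r, rfl⟩ : ∃ r, q = r + 1 := ⟨q - 1, by omega⟩
    rw [Nat.add_sub_cancel]; ring
  rcases Nat.lt_or_ge q 4 with h | h
  · interval_cases q <;> simp_all
  · have : 4 * q ≤ q ^ 2 := by rw [pow_two]; exact Nat.mul_le_mul_right q h
    omega

theorem Φ_growth {q : ℕ} (hq : 2 ≤ q) : ∀ n, 5 ≤ n → (M q n - 1) * Φ q n ≤ (2 * q - 3) * q ^ (n - 2) := by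
  intro n
  induction n using Nat.strong_induction_on with
  | _ n ih =>
    intro hn
    have h5 : Φ q 5 = q * (2 * q + 1) := by simp [Φ]; ring
    have h6 : Φ q 6 = q * (q * q + 3 * q + 1) := by simp [Φ]; ring
    rcases eq_or_lt_of_le hn with rfl | hn5
    · rw [h5]
      rcases Nat.lt_or_ge q 6 with hq6 | hq6
      · interval_cases q <;> simp [M]
      · rw [show M q 5 - 1 = 24 by simp [M, show min 5 (q - 1) = 5 by omega]]
        obtain ⟨r, rfl⟩ : ∃ r, q = r + 6 := ⟨q - 6, by omega⟩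
        rw [show 2 * (r + 6) - 3 = 2 * r + 9 by omega]
        norm_num
        nlinarith
    rcases eq_or_lt_of_le (show 6 ≤ n by omega) with rfl | hn6
    · rw [h6]
      rcases Nat.lt_or_ge q 7 with hq7 | hq7
      · interval_cases q <;> simp [M]
      · rw [show M q 6 - 1 = 35 by simp [M, show min 6 (q - 1) = 6 by omega]]
        obtain ⟨r, rfl⟩ : ∃ r, q = r + 7 := ⟨q - 7, by omega⟩
        rw [show 2 * (r + 7) - 3 = 2 * r + 11 by omega]
        norm_num
        nlinarith [sq_nonneg r, mul_nonneg (Nat.zero_le r) (sq_nonneg r)]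
    obtain ⟨k, rfl⟩ : ∃ k, n = k + 2 := ⟨n - 2, by omega⟩
    have i1 := ih (k + 1) (by omega) (by omega)
    have i2 := ih k (by omega) (by omega)
    rw [Φ_succ, Nat.add_sub_cancel]
    rw [show k + 1 - 2 = k - 1 by omega] at i1
    obtain ⟨j, rfl⟩ : ∃ j, k = j + 5 := ⟨k - 5, by omega⟩
    rw [show j + 5 - 1 = j + 4 by omega] at i1
    rw [show j + 5 - 2 = j + 3 by omega] at i2
    have hmin : q ≤ 3 ∨ 4 ≤ q := by omega
    have hM : M q (j + 5 + 2) - 1 ≤ 2 * (M q (j + 5 + 1) - 1) ∧ M q (j + 5 + 2) - 1 ≤ 2 * (M q (j + 5) - 1) := by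
      simp only [M]
      rcases Nat.lt_or_ge (j + 5) (q - 1) with h | h
      · rw [show min (j + 5 + 1) (q - 1) = j + 6 by omega, show min (j + 5) (q - 1) = j + 5 by omega]
        have h7 : min (j + 5 + 2) (q - 1) ^ 2 ≤ (j + 7) ^ 2 := Nat.pow_le_pow_left (by omega) 2
        have e6 : (j + 7) ^ 2 + 1 ≤ 2 * (j + 6) ^ 2 := by nlinarith
        have e5 : (j + 7) ^ 2 + 1 ≤ 2 * (j + 5) ^ 2 := by nlinarith
        omega
      · rw [show min (j + 5 + 1) (q - 1) = q - 1 by omega, show min (j + 5) (q - 1) = q - 1 by omega,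
          show min (j + 5 + 2) (q - 1) = q - 1 by omega]
        omega
    set c := 2 * q - 3
    rcases Nat.lt_or_ge q 4 with hq4 | hq4
    · have hMq : ∀ x, 5 ≤ x → M q x = (q - 1) ^ 2 := fun x hx => by
        simp only [M]; rw [show min x (q - 1) = q - 1 by omega]
      rw [hMq _ (by omega)] at i1 i2 ⊢
      calc ((q - 1) ^ 2 - 1) * (Φ q (j + 5 + 1) + q * Φ q (j + 5))
          = ((q - 1) ^ 2 - 1) * Φ q (j + 5 + 1) + q * (((q - 1) ^ 2 - 1) * Φ q (j + 5)) := by ring
        _ ≤ c * q ^ (j + 4) + q * (c * q ^ (j + 3)) := Nat.add_le_add i1 (Nat.mul_le_mul_left _ i2)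
        _ = 2 * (c * q ^ (j + 4)) := by ring
        _ ≤ q * (c * q ^ (j + 4)) := Nat.mul_le_mul_right _ hq
        _ = c * q ^ (j + 5) := by ring
    · calc (M q (j + 5 + 2) - 1) * (Φ q (j + 5 + 1) + q * Φ q (j + 5))
          = (M q (j + 5 + 2) - 1) * Φ q (j + 5 + 1) + q * ((M q (j + 5 + 2) - 1) * Φ q (j + 5)) := by ring
        _ ≤ 2 * (M q (j + 5 + 1) - 1) * Φ q (j + 5 + 1) + q * (2 * (M q (j + 5) - 1) * Φ q (j + 5)) :=
          Nat.add_le_add (Nat.mul_le_mul_right _ hM.1) (Nat.mul_le_mul_left _ (Nat.mul_le_mul_right _ hM.2))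
        _ = 2 * ((M q (j + 5 + 1) - 1) * Φ q (j + 5 + 1)) + 2 * q * ((M q (j + 5) - 1) * Φ q (j + 5)) := by ring
        _ ≤ 2 * (c * q ^ (j + 4)) + 2 * q * (c * q ^ (j + 3)) :=
          Nat.add_le_add (Nat.mul_le_mul_left _ i1) (Nat.mul_le_mul_left _ i2)
        _ = 4 * (c * q ^ (j + 4)) := by ring
        _ ≤ q * (c * q ^ (j + 4)) := Nat.mul_le_mul_right _ hq4
        _ = c * q ^ (j + 5) := by ring

theorem Bd_ge_three {q : ℕ} (hq : 2 ≤ q) {n : ℕ} (hn : 3 ≤ n) : Bd q 1 n ≤ q ^ (n - 1) + 3 * q ^ (n - 2) := by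
  rcases Nat.lt_or_ge n 5 with h5 | h5
  · interval_cases n
    · simpa using Bd_three hq
    · simpa using Bd_four hq
  refine Nat.le_of_mul_le_mul_left ((Bd_le hq (by omega)).trans ((Nat.add_le_add_left (Φ_growth hq n h5) _).trans ?_))
    (show 0 < q - 1 by omega)
  obtain ⟨m, rfl⟩ : ∃ m, n = m + 2 := ⟨n - 2, by omega⟩
  obtain ⟨r, rfl⟩ : ∃ r, q = r + 2 := ⟨q - 2, by omega⟩
  rw [show 2 * (r + 2) - 3 = 2 * r + 1 by omega, show r + 2 - 1 = r + 1 by omega, Nat.add_sub_cancel,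
    show m + 2 - 1 = m + 1 by omega]
  exact le_of_eq (by ring)

theorem Bd_small {q : ℕ} (hq : 3 ≤ q) {m : ℕ} (hm : 1 ≤ m) : Bd q 1 m ≤ 3 * q ^ (m - 1) := by
  rcases Nat.lt_or_ge m 3 with h | h
  · interval_cases m
    · simp [Bd_one]
    · exact (Bd_two (by omega)).trans (by norm_num; omega)
  · refine (Bd_ge_three (by omega) h).trans ?_
    obtain ⟨k, rfl⟩ : ∃ k, m = k + 2 := ⟨m - 2, by omega⟩
    rw [Nat.add_sub_cancel, show k + 2 - 1 = k + 1 by omega, pow_succ]
    have := Nat.mul_le_mul_left (q ^ k) hq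
    omega

theorem psl_numeric {q n d : ℕ} (hq : 2 ≤ q) (hn : 2 ≤ n) (hd : d ∣ n) (hdq : d ∣ q - 1) (B : ℕ)
    (hB : B = Bd q 1 n) (R : ℕ)
    (hR : ∀ b, (∀ m, 1 ≤ m → 2 * m ≤ n → Bd q 1 m ≤ b) → (n = 3 → 1 ≤ b) → R ≤ (d - 1) * b) :
    B + R ≤ q ^ (n - 1) + 5 * q ^ (n - 2) := by
  have hd0 : 1 ≤ d := Nat.pos_of_ne_zero fun h => by subst h; simp at hd; omega
  have hdn : d ≤ n := Nat.le_of_dvd (by omega) hd
  have hdq' : d ≤ q - 1 := Nat.le_of_dvd (by omega) hdq
  subst hB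
  rcases eq_or_lt_of_le hn with rfl | hn3
  · have h := hR 1 (fun m h1 h2 => by rw [show m = 1 by omega, Bd_one]) (fun h => absurd h (by omega))
    have := Bd_two hq
    simp only [Nat.reduceSub, pow_one, pow_zero]
    rw [mul_one] at h
    omega
  rcases eq_or_lt_of_le (show 3 ≤ n by omega) with rfl | hn4
  · have h := hR 1 (fun m h1 h2 => by rw [show m = 1 by omega, Bd_one]) (fun _ => le_rfl)
    have := Bd_three hq
    simp only [Nat.reduceSub, pow_one]
    rw [mul_one] at h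
    omega
  have hmain := Bd_ge_three hq (show 3 ≤ n by omega)
  suffices hsmall : R ≤ 2 * q ^ (n - 2) by omega
  rcases eq_or_lt_of_le (show 4 ≤ n by omega) with rfl | hn5
  · have h := hR (q + 4) (fun m h1 h2 => by
      rcases eq_or_lt_of_le h1 with rfl | h1
      · rw [Bd_one]; omega
      · rw [show m = 2 by omega]; exact Bd_two hq) (fun h => absurd h (by omega))
    refine h.trans ?_
    simp only [Nat.reduceSub]
    rcases Nat.lt_or_ge q 4 with h4 | h4
    · interval_cases q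
      · rw [show d - 1 = 0 by omega]; simp
      · exact (Nat.mul_le_mul_right _ (show d - 1 ≤ 1 by omega)).trans (by norm_num)
    · refine (Nat.mul_le_mul_right _ (show d - 1 ≤ 3 by omega)).trans ?_
      nlinarith
  rcases Nat.lt_or_ge q 3 with h3 | h3
  · have h := hR (Finset.sup (Finset.range (n + 1)) fun m => Bd q 1 m)
      (fun m _ h2 => Finset.le_sup (f := fun m => Bd q 1 m) (Finset.mem_range.2 (by omega)))
      (fun h => absurd h (by omega))
    rw [show d - 1 = 0 by omega, zero_mul] at h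
    omega
  · have h := hR (3 * q ^ (n - 4)) (fun m h1 h2 => (Bd_small h3 h1).trans
      (Nat.mul_le_mul_left _ (Nat.pow_le_pow_right (by omega) (by omega)))) (fun h => absurd h (by omega))
    refine h.trans ?_
    obtain ⟨k, rfl⟩ : ∃ k, n = k + 4 := ⟨n - 4, by omega⟩
    rw [Nat.add_sub_cancel, show k + 4 - 2 = k + 2 by omega, pow_add]
    have : (d - 1) * 3 ≤ 2 * q ^ 2 := by
      have : (d - 1) * 3 ≤ q * 3 := Nat.mul_le_mul_right _ (by omega)
      nlinarith
    calc (d - 1) * (3 * q ^ k) = ((d - 1) * 3) * q ^ k := by ring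
      _ ≤ (2 * q ^ 2) * q ^ k := Nat.mul_le_mul_right _ this
      _ = _ := by ring

end Numeric

section Groups

universe u

variable {F : Type u} [Field F] [Fintype F] {n : ℕ}

/-- The operator of a matrix. -/
noncomputable def endOf (M : Matrix (Fin n) (Fin n) F) : Module.End F (Fin n → F) := Matrix.toLinAlgEquiv' M

theorem det_endOf (M : Matrix (Fin n) (Fin n) F) : LinearMap.det (endOf M) = M.det := LinearMap.det_toLin' M

/-- Conjugation of a unimodular matrix. -/
noncomputable def conjSL (P : GL (Fin n) F) (g : Matrix.SpecialLinearGroup (Fin n) F) :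
    Matrix.SpecialLinearGroup (Fin n) F :=
  ⟨(P : Matrix (Fin n) (Fin n) F) * g * ((P⁻¹ : GL (Fin n) F) : Matrix (Fin n) (Fin n) F), by
    rw [Matrix.det_mul, Matrix.det_mul, g.2, mul_one, ← Matrix.det_mul, Units.mul_inv, Matrix.det_one]⟩

theorem conjSL_mul (P Q : GL (Fin n) F) (g : Matrix.SpecialLinearGroup (Fin n) F) :
    conjSL (P * Q) g = conjSL P (conjSL Q g) := Subtype.ext (by simp [conjSL, mul_assoc])

theorem label_mem (g : Matrix.SpecialLinearGroup (Fin n) F) {S : Multiset (F[X] × ℕ)}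
    (hS : Labels (endOf (g : Matrix (Fin n) (Fin n) F)) S) :
    ∃ S' : LT F 1 n 1, S'.1.1 = S := by
  have hdet : LinearMap.det (endOf (g : Matrix (Fin n) (Fin n) F)) = 1 := by rw [det_endOf]; exact g.2
  refine ⟨⟨⟨S, labels_mem (by rw [hdet]; exact one_ne_zero) hS, ?_⟩, (det_of_labels hS).symm.trans hdet⟩, rfl⟩
  rw [labels_sum hS, Module.finrank_fin_fun]

/-- The classes of the special linear group are covered by weighted labels. -/
theorem exists_cover (hn : 0 < n) :
    ∃ f : (Σ S : LT F 1 n 1, Fin (wt (Fintype.card F) S.1.1)) → ConjClasses (Matrix.SpecialLinearGroup (Fin n) F),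
      ∀ (g : Matrix.SpecialLinearGroup (Fin n) F) (S : LT F 1 n 1),
        Labels (endOf (g : Matrix (Fin n) (Fin n) F)) S.1.1 → ∃ i, f ⟨S, i⟩ = ConjClasses.mk g := by
  classical
  suffices H : ∀ S : LT F 1 n 1, ∃ f : Fin (wt (Fintype.card F) S.1.1) → ConjClasses (Matrix.SpecialLinearGroup (Fin n) F),
      ∀ g : Matrix.SpecialLinearGroup (Fin n) F, Labels (endOf (g : Matrix (Fin n) (Fin n) F)) S.1.1 →
        ∃ i, f i = ConjClasses.mk g by
    choose f hf using H
    exact ⟨fun x => f x.1 x.2, fun g S hS => hf S g hS⟩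
  intro S
  by_cases hreal : ∃ g₀ : Matrix.SpecialLinearGroup (Fin n) F, Labels (endOf (g₀ : Matrix (Fin n) (Fin n) F)) S.1.1
  swap
  · exact ⟨fun _ => ConjClasses.mk 1, fun g hg => absurd ⟨g, hg⟩ hreal⟩
  obtain ⟨g₀, hg₀⟩ := hreal
  obtain ⟨x, hx, hxw⟩ := exists_wt (Fintype.card F) (T_ne_zero hn S.1)
  let H : Subgroup Fˣ := (powMonoidHom x.2 : Fˣ →* Fˣ).range
  have hcard : Nat.card (Fˣ ⧸ H) = wt (Fintype.card F) S.1.1 := by
    show H.index = _
    rw [IsCyclic.index_powMonoidHom_range, Nat.card_units, Nat.card_eq_fintype_card, hxw]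
  let eH : Fˣ ⧸ H ≃ Fin (wt (Fintype.card F) S.1.1) := (Finite.equivFin _).trans (finCongr hcard)
  refine ⟨fun i => ConjClasses.mk (conjSL (RegUnipClasses.scaleFirst n (eH.symm i).out) g₀), fun g hg => ?_⟩
  obtain ⟨e, he⟩ := conj_of_labels hg₀ hg
  set P : GL (Fin n) F := Matrix.GeneralLinearGroup.toLin.symm (LinearMap.GeneralLinearGroup.ofLinearEquiv e) with hP
  have hPv : ∀ v, Matrix.mulVec (P : Matrix (Fin n) (Fin n) F) v = e v := fun v => by
    have h1 : Matrix.GeneralLinearGroup.toLin P = LinearMap.GeneralLinearGroup.ofLinearEquiv e := by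
      rw [hP, MulEquiv.apply_symm_apply]
    have h2 := LinearMap.congr_fun (congrArg Units.val h1) v
    exact h2
  have hconj : conjSL P g₀ = g := by
    refine Subtype.ext ?_
    show (P : Matrix (Fin n) (Fin n) F) * g₀ * ((P⁻¹ : GL (Fin n) F) : Matrix (Fin n) (Fin n) F) = g
    rw [Units.mul_inv_eq_iff_eq_mul]
    refine Matrix.ext_of_mulVec_single fun j => ?_
    rw [← Matrix.mulVec_mulVec, ← Matrix.mulVec_mulVec, hPv, hPv]
    exact he _
  set a : Fˣ := Matrix.GeneralLinearGroup.det P with ha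
  obtain ⟨t, ht⟩ : ∃ t : Fˣ, (QuotientGroup.mk a : Fˣ ⧸ H).out * t ^ x.2 = a := by
    obtain ⟨⟨k, t, ht⟩, hk⟩ := QuotientGroup.mk_out_eq_mul H a
    have hk' : (QuotientGroup.mk a : Fˣ ⧸ H).out = a * k := hk
    refine ⟨t⁻¹, ?_⟩
    rw [hk', inv_pow, ← ht, powMonoidHom_apply, mul_inv_cancel_right]
  refine ⟨eH (QuotientGroup.mk a), ?_⟩
  show ConjClasses.mk (conjSL (RegUnipClasses.scaleFirst n (eH.symm (eH _)).out) g₀) = _
  rw [eH.symm_apply_apply]
  set u := (QuotientGroup.mk a : Fˣ ⧸ H).out with hu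
  obtain ⟨z, hz, hzd⟩ := exists_commute_det_of_labels hg₀ hx ((t⁻¹ : Fˣ) : F)
  obtain ⟨Z, hZ⟩ : ∃ Z : GL (Fin n) F, endOf (Z : Matrix (Fin n) (Fin n) F) = z := by
    refine ⟨Matrix.GeneralLinearGroup.mkOfDetNeZero (Matrix.toLinAlgEquiv'.symm z) ?_, Matrix.toLinAlgEquiv'.apply_symm_apply z⟩
    rw [← det_endOf, endOf, AlgEquiv.apply_symm_apply, hzd]
    exact pow_ne_zero _ (Units.ne_zero _)
  have hZg : conjSL Z g₀ = g₀ := by
    refine Subtype.ext ?_
    show (Z : Matrix (Fin n) (Fin n) F) * g₀ * ((Z⁻¹ : GL (Fin n) F) : Matrix (Fin n) (Fin n) F) = g₀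
    rw [Units.mul_inv_eq_iff_eq_mul]
    refine Matrix.toLinAlgEquiv'.injective ?_
    rw [map_mul, map_mul]
    show endOf (Z : Matrix (Fin n) (Fin n) F) * endOf _ = endOf _ * endOf _
    rw [hZ]
    exact hz.eq
  set S₁ := RegUnipClasses.scaleFirst n u with hS₁
  obtain ⟨G, hG⟩ : ∃ G : Matrix.SpecialLinearGroup (Fin n) F,
      (G : Matrix (Fin n) (Fin n) F) = ((P * Z * S₁⁻¹ : GL (Fin n) F) : Matrix (Fin n) (Fin n) F) := by
    refine ⟨⟨_, ?_⟩, rfl⟩
    have hdZ : Matrix.GeneralLinearGroup.det Z = (t⁻¹) ^ x.2 := Units.ext (by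
      rw [Matrix.GeneralLinearGroup.val_det_apply, ← det_endOf, hZ, hzd, Units.val_pow_eq_pow_val])
    have hdS : Matrix.GeneralLinearGroup.det S₁ = u := Units.ext (by
      rw [Matrix.GeneralLinearGroup.val_det_apply, RegUnipClasses.det_scaleFirst hn])
    have h1 : Matrix.GeneralLinearGroup.det (P * Z * S₁⁻¹) = 1 := by
      rw [map_mul, map_mul, map_inv, hdZ, hdS, ← ha, ← ht, inv_pow, mul_inv_cancel_right, mul_inv_cancel]
    exact congrArg Units.val h1
  rw [ConjClasses.mk_eq_mk_iff_isConj, isConj_iff]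
  refine ⟨G, ?_⟩
  have h1 : conjSL (P * Z * S₁⁻¹) (conjSL S₁ g₀) = g := by
    rw [← conjSL_mul, inv_mul_cancel_right, conjSL_mul, hZg, hconj]
  rw [mul_inv_eq_iff_eq_mul]
  refine Subtype.ext ?_
  conv_rhs => rw [← h1]
  show (G : Matrix (Fin n) (Fin n) F) * (conjSL S₁ g₀ : Matrix (Fin n) (Fin n) F) = _
  rw [Matrix.SpecialLinearGroup.coe_mul, hG]
  show _ = ((P * Z * S₁⁻¹ : GL (Fin n) F) : Matrix (Fin n) (Fin n) F) * (conjSL S₁ g₀ : Matrix (Fin n) (Fin n) F)
    * (((P * Z * S₁⁻¹)⁻¹ : GL (Fin n) F) : Matrix (Fin n) (Fin n) F) * ((P * Z * S₁⁻¹ : GL (Fin n) F) : Matrix (Fin n) (Fin n) F)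
  rw [Units.inv_mul_cancel_right]

theorem card_sl_le (hn : 0 < n) :
    Nat.card (ConjClasses (Matrix.SpecialLinearGroup (Fin n) F)) ≤ Bd (Fintype.card F) 1 n := by
  obtain ⟨f, hf⟩ := exists_cover (F := F) hn
  haveI : Finite (T F 1 n) := finite_T le_rfl
  haveI : Finite (LT F 1 n (1 : F)) := Subtype.finite
  refine (Nat.card_le_card_of_surjective f fun c => ?_).trans (card_WT (n + 1) 1 n (by omega) le_rfl hn 1)
  obtain ⟨g, rfl⟩ := ConjClasses.mk_surjective c
  obtain ⟨S, hS⟩ := exists_labels (endOf (g : Matrix (Fin n) (Fin n) F))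
  obtain ⟨S', rfl⟩ := label_mem g hS
  obtain ⟨i, hi⟩ := hf g S' hS
  exact ⟨⟨S', i⟩, hi⟩

/-- The monic polynomial with middle coefficients `c` and the constant term of a unimodular matrix. -/
noncomputable def cpol (n : ℕ) (c : Fin (n - 1) → F) : F[X] :=
  X ^ n + ∑ i, C (c i) * X ^ ((i : ℕ) + 1) + C ((-1) ^ n)

omit [Fintype F] in
theorem cpol_props (hn : 0 < n) (c : Fin (n - 1) → F) :
    (cpol n c).Monic ∧ (cpol n c).natDegree = n ∧ (cpol n c).coeff 0 = (-1) ^ n ∧
      ∀ i : Fin (n - 1), (cpol n c).coeff ((i : ℕ) + 1) = c i := by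
  have hlow : (∑ i, C (c i) * X ^ ((i : ℕ) + 1) + C ((-1 : F) ^ n)).degree < n := by
    refine (degree_add_le _ _).trans_lt (max_lt ?_ (degree_C_le.trans_lt (by exact_mod_cast hn)))
    refine (degree_sum_le _ _).trans_lt ((Finset.sup_lt_iff (WithBot.bot_lt_coe _)).2 fun i _ => ?_)
    exact (degree_C_mul_X_pow_le _ _).trans_lt (by have := i.2; exact_mod_cast (show (i : ℕ) + 1 < n by omega))
  have he : cpol n c = X ^ n + (∑ i, C (c i) * X ^ ((i : ℕ) + 1) + C ((-1 : F) ^ n)) := by rw [cpol, add_assoc]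
  have hdeg : (cpol n c).degree = n := by
    rw [he, degree_add_eq_left_of_degree_lt (by rw [degree_X_pow]; exact hlow), degree_X_pow]
  refine ⟨he ▸ monic_X_pow_add hlow, natDegree_eq_of_degree_eq_some hdeg, ?_, fun i => ?_⟩
  · rw [cpol, coeff_add, coeff_add, coeff_X_pow, if_neg hn.ne, coeff_C_zero, finsetSum_coeff, Finset.sum_eq_zero,
      zero_add, zero_add]
    intro i _
    simp
  · simp only [cpol, coeff_add, coeff_X_pow, finsetSum_coeff, coeff_C_mul, coeff_C_succ, add_zero]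
    rw [if_neg (by have := i.2; omega), zero_add, Finset.sum_eq_single i]
    · simp
    · intro j _ hj
      rw [if_neg (fun h => hj (Fin.ext (by omega))), mul_zero]
    · simp

theorem exists_charpoly (hn : 0 < n) (c : Fin (n - 1) → F) :
    ∃ g : Matrix.SpecialLinearGroup (Fin n) F, (g : Matrix (Fin n) (Fin n) F).charpoly = cpol n c := by
  obtain ⟨hm, hd, h0, -⟩ := cpol_props hn c
  set pb := AdjoinRoot.powerBasis (K := F) hm.ne_zero
  have hdim : pb.dim = n := by rw [AdjoinRoot.powerBasis_dim, hd]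
  let b := pb.basis.reindex (finCongr hdim)
  set G := Algebra.leftMulMatrix b pb.gen
  have hchar : G.charpoly = cpol n c := by
    have h1 : G = Matrix.reindex (finCongr hdim) (finCongr hdim) (Algebra.leftMulMatrix pb.basis pb.gen) := by
      ext i j
      simp [G, b, Algebra.leftMulMatrix_eq_repr_mul]
    rw [h1, Matrix.charpoly_reindex, charpoly_leftMulMatrix, AdjoinRoot.minpoly_powerBasis_gen_of_monic hm]
  refine ⟨⟨G, ?_⟩, hchar⟩
  rw [Matrix.det_eq_sign_charpoly_coeff, hchar, h0, Fintype.card_fin, ← mul_pow, neg_mul_neg, one_mul, one_pow]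

theorem lt_card_sl (hn : 2 ≤ n) :
    Fintype.card F ^ (n - 1) < Nat.card (ConjClasses (Matrix.SpecialLinearGroup (Fin n) F)) := by
  classical
  let f : ConjClasses (Matrix.SpecialLinearGroup (Fin n) F) → (Fin (n - 1) → F) :=
    Quotient.lift (fun g => fun i => (g : Matrix (Fin n) (Fin n) F).charpoly.coeff ((i : ℕ) + 1)) fun a b hab => by
      obtain ⟨c, hc⟩ := isConj_iff.1 (show IsConj a b from hab)
      have : (b : Matrix (Fin n) (Fin n) F).charpoly = (a : Matrix (Fin n) (Fin n) F).charpoly := by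
        rw [← hc, Matrix.SpecialLinearGroup.coe_mul, Matrix.charpoly_mul_comm, ← Matrix.SpecialLinearGroup.coe_mul,
          inv_mul_cancel_left]
      funext i
      simp only [this]
  have hsurj : Function.Surjective f := fun c => by
    obtain ⟨g, hg⟩ := exists_charpoly (show 0 < n by omega) c
    exact ⟨ConjClasses.mk g, funext fun i => by
      show (g : Matrix (Fin n) (Fin n) F).charpoly.coeff ((i : ℕ) + 1) = c i
      rw [hg]; exact (cpol_props (by omega) c).2.2.2 i⟩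
  obtain ⟨i₀, i₁, hne, hlt⟩ : ∃ i₀ i₁ : Fin n, i₀ ≠ i₁ ∧ i₀ < i₁ :=
    ⟨⟨0, by omega⟩, ⟨1, by omega⟩, by simp, Fin.mk_lt_mk.2 (by omega)⟩
  let t : Matrix.SpecialLinearGroup (Fin n) F :=
    ⟨Matrix.transvection i₀ i₁ 1, Matrix.det_transvection_of_ne i₀ i₁ hne 1⟩
  have htc : (t : Matrix (Fin n) (Fin n) F).charpoly = (1 : Matrix (Fin n) (Fin n) F).charpoly := by
    show (Matrix.transvection i₀ i₁ (1 : F)).charpoly = _
    rw [Matrix.charpoly_of_upperTriangular, Matrix.charpoly_one]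
    · rw [Finset.prod_congr rfl (g := fun _ : Fin n => (X - 1 : F[X])), Finset.prod_const, Finset.card_univ]
      intro i _
      rw [Matrix.transvection, Matrix.add_apply, Matrix.one_apply_eq, Matrix.single_apply_of_ne _ _ _ _ _ (by
        rintro ⟨h1, h2⟩; exact hne (h1.trans h2.symm)), add_zero, map_one]
    · intro i j hij
      have hij' : j < i := hij
      rw [Matrix.transvection, Matrix.add_apply, Matrix.one_apply_ne hij'.ne', Matrix.single_apply_of_ne _ _ _ _ _ (by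
        rintro ⟨h1, h2⟩; subst h1 h2; exact absurd hlt (not_lt.2 hij'.le)), add_zero]
  have hninj : ¬ Function.Injective f := fun hf => by
    have h1 : ConjClasses.mk t = ConjClasses.mk (1 : Matrix.SpecialLinearGroup (Fin n) F) :=
      hf (funext fun i => by show _ = _; simp only [f]; exact congrArg (fun p : F[X] => p.coeff ((i : ℕ) + 1)) htc)
    rw [ConjClasses.mk_eq_mk_iff_isConj, isConj_comm, isConj_one_right] at h1
    have h2 := congrArg (fun g : Matrix.SpecialLinearGroup (Fin n) F => (g : Matrix (Fin n) (Fin n) F) i₀ i₁) h1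
    simp [t, Matrix.transvection, Matrix.single_apply_same, hne] at h2
  haveI := Fintype.ofFinite (ConjClasses (Matrix.SpecialLinearGroup (Fin n) F))
  have h := Fintype.card_lt_of_surjective_not_injective f hsurj hninj
  rw [Fintype.card_fun, Fintype.card_fin] at h
  rwa [Nat.card_eq_fintype_card (α := ConjClasses _)]

/-- The scalar element. -/
noncomputable def scalarSL (ζ : rootsOfUnity n F) : Matrix.SpecialLinearGroup (Fin n) F :=
  ⟨Matrix.scalar (Fin n) ((ζ : Fˣ) : F), by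
    rw [Matrix.scalar_apply, Matrix.det_diagonal, Finset.prod_const, Finset.card_univ, Fintype.card_fin]
    have h := congrArg Units.val ((mem_rootsOfUnity n (ζ : Fˣ)).1 ζ.2)
    simpa using h⟩

theorem scalarSL_mem (ζ : rootsOfUnity n F) :
    scalarSL ζ ∈ Subgroup.center (Matrix.SpecialLinearGroup (Fin n) F) := by
  refine Matrix.SpecialLinearGroup.mem_center_iff.2 ⟨((ζ : Fˣ) : F), ?_, rfl⟩
  have h := congrArg Units.val ((mem_rootsOfUnity n (ζ : Fˣ)).1 ζ.2)
  simpa using h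

theorem card_mu : Nat.card (rootsOfUnity n F) = Nat.gcd n (Fintype.card F - 1) := by
  have h : rootsOfUnity n F = (powMonoidHom n : Fˣ →* Fˣ).ker := by
    ext z
    simp [mem_rootsOfUnity, MonoidHom.mem_ker]
  rw [h, IsCyclic.card_powMonoidHom_ker, Nat.card_units, Nat.card_eq_fintype_card, Nat.gcd_comm]

theorem card_sl_le_mul (hn : 0 < n) : Nat.card (ConjClasses (Matrix.SpecialLinearGroup (Fin n) F)) ≤
    Nat.gcd n (Fintype.card F - 1) * Nat.card (ConjClasses (Matrix.ProjectiveSpecialLinearGroup (Fin n) F)) := by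
  classical
  haveI : Nonempty (Fin n) := ⟨⟨0, hn⟩⟩
  set Z := Subgroup.center (Matrix.SpecialLinearGroup (Fin n) F)
  have hmk : Function.Surjective (QuotientGroup.mk' Z) := QuotientGroup.mk'_surjective Z
  choose r hr using ConjClasses.map_surjective (f := QuotientGroup.mk' Z) hmk
  choose g hg using fun c => ConjClasses.mk_surjective (r c)
  rw [← card_mu, ← Nat.card_prod]
  refine Nat.card_le_card_of_surjective
    (fun x : rootsOfUnity n F × _ => ConjClasses.mk (scalarSL x.1 * g x.2)) fun C => ?_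
  obtain ⟨h, rfl⟩ := ConjClasses.mk_surjective C
  set c : ConjClasses (Matrix.ProjectiveSpecialLinearGroup (Fin n) F) := ConjClasses.mk (QuotientGroup.mk' Z h) with hc
  have h1 : ConjClasses.map (QuotientGroup.mk' Z) (ConjClasses.mk (g c)) = c := by rw [hg]; exact hr c
  obtain ⟨k, hk⟩ := isConj_iff.1 (ConjClasses.mk_eq_mk_iff_isConj.1 h1)
  obtain ⟨k, rfl⟩ := hmk k
  rw [← map_mul, ← map_inv, ← map_mul] at hk
  have hz : (k * g c * k⁻¹)⁻¹ * h ∈ Z := QuotientGroup.eq.1 hk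
  obtain ⟨s, hs, hsz⟩ := Matrix.SpecialLinearGroup.mem_center_iff.1 hz
  rw [Fintype.card_fin] at hs
  haveI : NeZero n := ⟨hn.ne'⟩
  refine ⟨(rootsOfUnity.mkOfPowEq s hs, c), ConjClasses.mk_eq_mk_iff_isConj.2 (isConj_iff.2 ⟨k, ?_⟩)⟩
  have e : scalarSL (rootsOfUnity.mkOfPowEq s hs) = (k * g c * k⁻¹)⁻¹ * h := Subtype.ext hsz
  have hcomm := Subgroup.mem_center_iff.1 (scalarSL_mem (rootsOfUnity.mkOfPowEq s hs))
  show k * (scalarSL _ * g c) * k⁻¹ = h
  calc k * (scalarSL (rootsOfUnity.mkOfPowEq s hs) * g c) * k⁻¹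
      = scalarSL (rootsOfUnity.mkOfPowEq s hs) * (k * g c * k⁻¹) := by rw [← mul_assoc k, hcomm k]; group
    _ = (k * g c * k⁻¹) * scalarSL (rootsOfUnity.mkOfPowEq s hs) := (hcomm _).symm
    _ = h := by rw [e]; group

omit [Fintype F] in
theorem lblDet_map_sc (ζ : F) : ∀ S : Multiset (F[X] × ℕ),
    lblDet (S.map (sc ζ)) = ζ ^ (S.map fun x => x.2 * x.1.natDegree).sum * lblDet S := by
  intro S
  induction S using Multiset.induction with
  | empty => simp [lblDet]
  | cons a s ih =>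
    simp only [lblDet, Multiset.map_cons, Multiset.prod_cons, Multiset.sum_cons] at ih ⊢
    rw [ih, show (sc ζ a).1.coeff 0 = a.1.coeff 0 * ζ ^ a.1.natDegree by
      simp [sc, coeff_scaleRoots], show (sc ζ a).1.natDegree = a.1.natDegree from natDegree_scaleRoots _ _,
      show (sc ζ a).2 = a.2 from rfl]
    simp only [mul_pow, pow_add]
    ring

theorem natCard_psl_le (hn : 2 ≤ n) :
    Nat.gcd n (Fintype.card F - 1) * Nat.card (ConjClasses (Matrix.ProjectiveSpecialLinearGroup (Fin n) F)) ≤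
      Fintype.card F ^ (n - 1) + 5 * Fintype.card F ^ (n - 2) := by
  classical
  set q := Fintype.card F with hqdef
  have hq : 2 ≤ q := Fintype.one_lt_card
  haveI : Finite (T F 1 n) := finite_T le_rfl
  haveI : Finite (LT F 1 n (1 : F)) := Subtype.finite
  have hmem : ∀ (ζ : rootsOfUnity n F) (S : LT F 1 n (1 : F)), ∃ S' : LT F 1 n (1 : F),
      S'.1.1 = S.1.1.map (sc ((ζ : Fˣ) : F)) := by
    intro ζ S
    have hsum : ((S.1.1.map (sc ((ζ : Fˣ) : F))).map fun x => x.2 * x.1.natDegree).sum = n := by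
      rw [Multiset.map_map]
      conv_rhs => rw [← S.1.2.2]
      exact congrArg Multiset.sum (Multiset.map_congr rfl fun x _ => by simp [sc])
    refine ⟨⟨⟨_, fun x hx => ?_, hsum⟩, ?_⟩, rfl⟩
    · obtain ⟨y, hy, rfl⟩ := Multiset.mem_map.1 hx
      obtain ⟨a, b, c, e⟩ := S.1.2.1 y hy
      refine ⟨(monic_scaleRoots_iff _).2 a, irreducible_scaleRoots b (Units.ne_zero _), ?_, e⟩
      simp only [sc, coeff_scaleRoots]
      exact mul_ne_zero c (pow_ne_zero _ (Units.ne_zero _))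
    · have h := congrArg Units.val ((mem_rootsOfUnity n (ζ : Fˣ)).1 ζ.2)
      rw [Units.val_pow_eq_pow_val, Units.val_one] at h
      rw [lblDet_map_sc, S.2, mul_one, S.1.2.2, h]
  choose act hact using hmem
  letI : MulAction (rootsOfUnity n F) (LT F 1 n (1 : F)) :=
    { smul := act
      one_smul := fun S => Subtype.ext (Subtype.ext (by
        show (act 1 S).1.1 = _
        rw [hact]
        conv_rhs => rw [← Multiset.map_id S.1.1]
        exact Multiset.map_congr rfl fun x _ => by simp [sc]))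
      mul_smul := fun a b S => Subtype.ext (Subtype.ext (by
        show (act (a * b) S).1.1 = (act a (act b S)).1.1
        rw [hact, hact, hact, Multiset.map_map]
        exact Multiset.map_congr rfl fun x _ => by simp [sc, mul_comm ((a : Fˣ) : F)])) }
  have hwt : ∀ (ζ : rootsOfUnity n F) (S : LT F 1 n (1 : F)), wt q (ζ • S).1.1 = wt q S.1.1 := fun ζ S => by
    show wt q (act ζ S).1.1 = _
    rw [hact]
    refine wt_congr q fun j => ⟨?_, ?_⟩
    · rintro ⟨x, hx, rfl⟩
      obtain ⟨y, hy, rfl⟩ := Multiset.mem_map.1 hx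
      exact ⟨y, hy, rfl⟩
    · rintro ⟨x, hx, rfl⟩
      exact ⟨_, Multiset.mem_map_of_mem _ hx, rfl⟩
  have hwtq : ∀ S : LT F 1 n (1 : F), wt q S.1.1 ≤ q := fun S => by
    obtain ⟨x, -, hx⟩ := exists_wt q (T_ne_zero (show 1 ≤ n by omega) S.1)
    rw [← hx]
    exact (Nat.le_of_dvd (by omega) (Nat.gcd_dvd_left _ _)).trans (Nat.sub_le _ _)
  let Xt := {p : LT F 1 n (1 : F) × Fin q // (p.2 : ℕ) < wt q p.1.1.1}
  letI : MulAction (rootsOfUnity n F) Xt :=
    { smul := fun ζ p => ⟨(ζ • p.1.1, p.1.2), by rw [hwt]; exact p.2⟩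
      one_smul := fun p => Subtype.ext (Prod.ext (one_smul _ _) rfl)
      mul_smul := fun a b p => Subtype.ext (Prod.ext (mul_smul a b _) rfl) }
  haveI := Fintype.ofFinite (rootsOfUnity n F)
  haveI := fun ζ : rootsOfUnity n F => Fintype.ofFinite (MulAction.fixedBy Xt ζ)
  haveI := Fintype.ofFinite (Quotient (MulAction.orbitRel (rootsOfUnity n F) Xt))
  haveI := Fintype.ofFinite (Quotient (MulAction.orbitRel (rootsOfUnity n F) (LT F 1 n (1 : F))))
  have hburn := MulAction.sum_card_fixedBy_eq_card_orbits_mul_card_group (rootsOfUnity n F) Xt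
  -- the classes are covered by orbits
  obtain ⟨f, hf⟩ := exists_cover (F := F) (show 0 < n by omega)
  let Om := Quotient (MulAction.orbitRel (rootsOfUnity n F) (LT F 1 n (1 : F)))
  have hle : Nat.card (ConjClasses (Matrix.ProjectiveSpecialLinearGroup (Fin n) F))
      ≤ Nat.card (Quotient (MulAction.orbitRel (rootsOfUnity n F) Xt)) := by
    refine le_trans (Nat.card_le_card_of_surjective (α := Σ O : Om, Fin (wt q O.out.1.1))
      (fun x => ConjClasses.map (QuotientGroup.mk' (Subgroup.center _)) (f ⟨x.1.out, x.2⟩)) fun c => ?_) ?_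
    · obtain ⟨y, rfl⟩ := ConjClasses.mk_surjective c
      obtain ⟨g, rfl⟩ := QuotientGroup.mk'_surjective _ y
      obtain ⟨S, hS⟩ := exists_labels (endOf (g : Matrix (Fin n) (Fin n) F))
      obtain ⟨S', rfl⟩ := label_mem g hS
      obtain ⟨ζ, hζ⟩ : ∃ ζ : rootsOfUnity n F, ζ • S' = (Quotient.mk'' S' : Om).out :=
        MulAction.mem_orbit_iff.1 (MulAction.orbitRel_apply.1 (Quotient.mk_out (s := MulAction.orbitRel _ _) S'))
      have hlab : Labels (endOf ((scalarSL ζ * g : Matrix.SpecialLinearGroup (Fin n) F) : Matrix (Fin n) (Fin n) F))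
          (ζ • S').1.1 := by
        have e : endOf ((scalarSL ζ * g : Matrix.SpecialLinearGroup (Fin n) F) : Matrix (Fin n) (Fin n) F)
            = ((ζ : Fˣ) : F) • endOf (g : Matrix (Fin n) (Fin n) F) := by
          rw [endOf, endOf, ← map_smul, Matrix.SpecialLinearGroup.coe_mul]
          congr 1
          show Matrix.scalar (Fin n) ((ζ : Fˣ) : F) * _ = _
          rw [Matrix.scalar_apply, ← Matrix.smul_one_eq_diagonal, Matrix.smul_mul, one_mul]
        rw [e]
        show Labels _ (act ζ S').1.1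
        rw [hact]
        exact labels_smul (Units.ne_zero _) hS
      rw [hζ] at hlab
      obtain ⟨i, hi⟩ := hf _ _ hlab
      refine ⟨⟨Quotient.mk'' S', i⟩, ?_⟩
      show ConjClasses.map _ (f _) = _
      rw [hi]
      show ConjClasses.mk (QuotientGroup.mk' _ (scalarSL ζ * g)) = _
      congr 1
      rw [map_mul]
      simp only [QuotientGroup.mk'_apply]
      rw [(QuotientGroup.eq_one_iff _).2 (scalarSL_mem ζ), one_mul]
    · refine Nat.card_le_card_of_injective
        (fun x => (Quotient.mk'' ⟨(x.1.out, Fin.castLE (hwtq _) x.2), x.2.2⟩ :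
          Quotient (MulAction.orbitRel (rootsOfUnity n F) Xt))) ?_
      rintro ⟨O, i⟩ ⟨O', i'⟩ h
      obtain ⟨ζ, hζ⟩ := MulAction.mem_orbit_iff.1 (MulAction.orbitRel_apply.1 (Quotient.eq''.1 h))
      have h1 : ζ • O'.out = O.out := congrArg (fun p : Xt => p.1.1) hζ
      have h2 : (i' : ℕ) = i := congrArg (fun p : Xt => (p.1.2 : ℕ)) hζ
      have hO : O = O' := by
        rw [← Quotient.out_eq O, ← Quotient.out_eq O']
        exact Quotient.sound (MulAction.orbitRel_apply.2 (MulAction.mem_orbit_iff.2 ⟨ζ, h1⟩))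
      subst hO
      obtain rfl : i = i' := Fin.ext h2.symm
      rfl
  have hμ : Fintype.card (rootsOfUnity n F) = Nat.gcd n (q - 1) := by
    rw [← Nat.card_eq_fintype_card, card_mu]
  refine (Nat.mul_le_mul_left _ hle).trans ?_
  rw [Nat.card_eq_fintype_card, mul_comm, ← hμ, ← hburn]
  simp only [← Nat.card_eq_fintype_card]
  -- the fixed points
  let emb : Xt → Σ S : LT F 1 n (1 : F), Fin (wt q S.1.1) := fun p => ⟨p.1.1, ⟨p.1.2, p.2⟩⟩
  have hemb : Function.Injective emb := by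
    rintro ⟨⟨S, i⟩, hi⟩ ⟨⟨S', i'⟩, hi'⟩ h
    simp only [emb, Sigma.mk.injEq] at h
    obtain ⟨rfl, h2⟩ := h
    obtain rfl : i = i' := by
      have h3 := eq_of_heq h2
      simp only [Fin.mk.injEq] at h3
      exact Fin.ext h3
    rfl
  rw [← Finset.add_sum_erase _ _ (Finset.mem_univ (1 : rootsOfUnity n F))]
  have h1 : Nat.card (MulAction.fixedBy Xt (1 : rootsOfUnity n F)) ≤ Bd q 1 n :=
    (Nat.card_le_card_of_injective (fun p : MulAction.fixedBy Xt (1 : rootsOfUnity n F) => emb p.1)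
      (hemb.comp Subtype.val_injective)).trans (card_WT (n + 1) 1 n (by omega) le_rfl (by omega) 1)
  refine (Nat.add_le_add_right h1 _).trans
    (psl_numeric hq hn (Nat.gcd_dvd_left n (q - 1)) (Nat.gcd_dvd_right n (q - 1)) _ rfl _ fun b hb hb3 => ?_)
  have hcard : (Finset.univ.erase (1 : rootsOfUnity n F)).card = Nat.gcd n (q - 1) - 1 := by
    rw [Finset.card_erase_of_mem (Finset.mem_univ _), Finset.card_univ, hμ]
  rw [← hcard, ← smul_eq_mul, ← Finset.sum_const]
  refine Finset.sum_le_sum fun ζ hζ => ?_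
  have hζ1 : ζ ≠ 1 := Finset.ne_of_mem_erase hζ
  set o := orderOf (ζ : Fˣ) with ho
  have ho1 : o ≠ 1 := fun h => hζ1 (Subtype.ext (orderOf_eq_one_iff.1 h))
  have hon : o ∣ n := orderOf_dvd_of_pow_eq_one ((mem_rootsOfUnity n (ζ : Fˣ)).1 ζ.2)
  obtain ⟨m, hm⟩ := hon
  have hm0 : 1 ≤ m := Nat.pos_of_ne_zero fun h => by rw [h, mul_zero] at hm; omega
  have ho2 : 2 ≤ o := by
    have := orderOf_pos (ζ : Fˣ)
    omega
  refine le_trans ?_ (hb m hm0 (hm ▸ Nat.mul_le_mul_right m ho2))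
  refine le_trans (Nat.card_le_card_of_injective
    (fun p : MulAction.fixedBy Xt ζ => (⟨emb p.1, ?_⟩ :
      {x : Σ S : LT F 1 n (1 : F), Fin (wt q S.1.1) // Fixed ((ζ : Fˣ) : F) x.1.1.1}))
    fun a b h => Subtype.ext (hemb (congrArg Subtype.val h))) (card_WT_fixed n o m hm hm0 (ζ : Fˣ) rfl 1)
  have h := congrArg (fun x : Xt => x.1.1.1.1) p.2
  exact (hact ζ p.1.1.1).symm.trans h

end Groups

end Cfsg.Agent.Classical.SLClasses
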