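import Cfsg.Agent.Lib.Classical.GLSemisimpleClasses
import Cfsg.Prelude.Def_GeometricClasses

/-! Elements of prime order in the normaliser of a Singer cycle of prime degree. -/

set_option autoImplicit false
set_option linter.unusedSectionVars false

namespace Cfsg.Agent.SingerNormalizerDerange

open Matrix Module Polynomial Cfsg.Geo

variable {F : Type*} [Field F] {n : ℕ}

/-- A matrix killed by `X^n - z` with minimal polynomial of degree at least `n`. -/
theorem charpoly_eq (hn : 0 < n) (x : Matrix (Fin n) (Fin n) F) {z : F} (hz : x ^ n = z • 1)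
    (hmin : n ≤ (minpoly F x).natDegree) : x.charpoly = X ^ n - C z := by
  have hdvd : minpoly F x ∣ X ^ n - C z := minpoly.dvd F x (by simp [hz, Algebra.algebraMap_eq_smul_one])
  have h1 := Polynomial.eq_of_monic_of_dvd_of_natDegree_le (minpoly.monic (Matrix.isIntegral x))
    (monic_X_pow_sub_C z hn.ne') hdvd (by rw [natDegree_X_pow_sub_C]; exact hmin)
  rw [h1]
  exact Polynomial.eq_of_monic_of_dvd_of_natDegree_le (minpoly.monic (Matrix.isIntegral x)) (Matrix.charpoly_monic x)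
    (Matrix.minpoly_dvd_charpoly x) (by rw [Matrix.charpoly_natDegree_eq_dim, Fintype.card_fin]; exact hmin)

/-- The field structure on a field subalgebra. -/
@[reducible]
noncomputable def fieldOf {r : ℕ} {K : Subalgebra F (Matrix (Fin n) (Fin n) F)} [Nonempty (Fin n)]
    (hK : IsFieldSubalgebra r K) : Field K :=
  @IsField.toField K (inferInstance : Ring K)
    { exists_pair_ne := ⟨0, 1, fun h => zero_ne_one (congrArg Subtype.val h)⟩
      mul_comm := fun a b => Subtype.ext (hK.comm a a.2 b b.2)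
      mul_inv_cancel := fun {a} ha => by
        obtain ⟨y, hy, hay⟩ := hK.inv a a.2 (fun h => ha (Subtype.ext h))
        exact ⟨⟨y, hy⟩, Subtype.ext hay⟩ }

variable {K : Subalgebra F (Matrix (Fin n) (Fin n) F)}

/-- A field subalgebra of full degree acts simply transitively. -/
theorem exists_coords (hn : 0 < n) (hK : IsFieldSubalgebra n K) :
    ∃ (v₀ : Fin n → F) (E : K ≃ₗ[F] (Fin n → F)), ∀ k : K, E k = (k : Matrix (Fin n) (Fin n) F) *ᵥ v₀ := by
  let v₀ : Fin n → F := Pi.single ⟨0, hn⟩ 1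
  let f : K →ₗ[F] (Fin n → F) :=
    { toFun := fun k => (k : Matrix (Fin n) (Fin n) F) *ᵥ v₀
      map_add' := fun a b => by simp [add_mulVec]
      map_smul' := fun c a => by simp [smul_mulVec] }
  have hinj : Function.Injective f := (injective_iff_map_eq_zero f).2 fun k hk => by
    by_contra h0
    obtain ⟨y, hy, hky⟩ := hK.inv k k.2 (fun h => h0 (Subtype.ext h))
    have hv : v₀ = 0 := by
      rw [← one_mulVec v₀, ← hky, hK.comm k k.2 y hy, ← mulVec_mulVec]
      show y *ᵥ f k = 0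
      rw [hk, mulVec_zero]
    simpa [v₀] using congrFun hv ⟨0, hn⟩
  exact ⟨v₀, LinearEquiv.ofInjectiveOfFinrankEq f hinj (by rw [hK.finrank_eq, Module.finrank_fin_fun]), fun k => rfl⟩

/-- Elements of the normaliser have minimal polynomials of full degree. -/
theorem degree_minpoly [Fintype F] (hn : n.Prime) (hK : IsFieldSubalgebra n K) (y : GL (Fin n) F)
    (hy : y ∈ subalgebraNormalizer K) (hns : ∀ z : F, (y : Matrix (Fin n) (Fin n) F) ≠ z • 1) :
    n ≤ (minpoly F (y : Matrix (Fin n) (Fin n) F)).natDegree := by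
  classical
  haveI : Nonempty (Fin n) := ⟨⟨0, hn.pos⟩⟩
  obtain ⟨v₀, E, hE⟩ := exists_coords hn.pos hK
  letI := fieldOf hK
  have hfr : Module.finrank F K = n := hK.finrank_eq
  set Y : Matrix (Fin n) (Fin n) F := (y : Matrix (Fin n) (Fin n) F)
  set Yi : Matrix (Fin n) (Fin n) F := ((y⁻¹ : GL (Fin n) F) : Matrix (Fin n) (Fin n) F)
  let θ : K →ₐ[F] K :=
    { toFun := fun k => ⟨Y * k * Yi, (hy k).1 k.2⟩
      map_one' := Subtype.ext (by
        show Y * 1 * Yi = 1
        rw [mul_one]; exact y.mul_inv)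
      map_mul' := fun a b => Subtype.ext (by
        show Y * (a * b : Matrix (Fin n) (Fin n) F) * Yi = (Y * a * Yi) * (Y * b * Yi)
        simp [Y, Yi, mul_assoc])
      map_zero' := Subtype.ext (by simp)
      map_add' := fun a b => Subtype.ext (by simp [mul_add, add_mul])
      commutes' := fun c => Subtype.ext (by
        show Y * algebraMap F (Matrix (Fin n) (Fin n) F) c * Yi = algebraMap F (Matrix (Fin n) (Fin n) F) c
        rw [← Algebra.commutes c Y, mul_assoc, show Y * Yi = 1 from y.mul_inv, mul_one]) }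
  have hθ : ∀ k : K, Y * (k : Matrix (Fin n) (Fin n) F) = (θ k : K).1 * Y := fun k => by
    show Y * _ = Y * k * Yi * Y
    rw [mul_assoc, show Yi * Y = 1 from y.inv_mul, mul_one]
  by_cases hθ1 : θ = AlgHom.id F K
  · have hcomm : ∀ k : K, Y * (k : Matrix (Fin n) (Fin n) F) = (k : Matrix (Fin n) (Fin n) F) * Y := fun k => by
      rw [hθ, hθ1]; rfl
    obtain ⟨k₀, hk₀⟩ := E.surjective (Y *ᵥ v₀)
    have hYk : Y = (k₀ : Matrix (Fin n) (Fin n) F) := Matrix.ext_iff_mulVec.2 fun v => by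
      obtain ⟨k, rfl⟩ := E.surjective v
      rw [hE, mulVec_mulVec, hcomm, ← mulVec_mulVec, ← hk₀, hE, mulVec_mulVec, mulVec_mulVec,
        hK.comm _ k.2 _ k₀.2]
    rw [hYk, show (k₀ : Matrix (Fin n) (Fin n) F) = K.val k₀ from rfl,
      minpoly.algHom_eq K.val Subtype.val_injective]
    haveI : FiniteDimensional F K := Module.finite_of_finrank_pos (by rw [hfr]; exact hn.pos)
    rcases hn.eq_one_or_self_of_dvd _ (hfr ▸ minpoly.degree_dvd (K := F) (x := k₀) (Algebra.IsIntegral.isIntegral k₀))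
      with h | h
    · exfalso
      obtain ⟨c, hc⟩ := minpoly.natDegree_eq_one_iff.1 h
      refine hns c ?_
      rw [hYk, ← hc]
      exact Algebra.algebraMap_eq_smul_one c
    · exact h.ge
  by_contra hlt
  push Not at hlt
  haveI : FiniteDimensional F K := Module.finite_of_finrank_pos (by rw [hfr]; exact hn.pos)
  haveI : Finite K := Module.finite_of_finite F
  set σ : K ≃ₐ[F] K := AlgEquiv.ofBijective θ (Finite.injective_iff_bijective.1 θ.injective)
  have hσ : ∀ k, σ k = θ k := fun k => rfl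
  have hord : orderOf σ = n := by
    have hcard : Nat.card (K ≃ₐ[F] K) = n := by rw [IsGalois.card_aut_eq_finrank, hfr]
    rcases hn.eq_one_or_self_of_dvd _ (hcard ▸ orderOf_dvd_natCard σ) with h | h
    · exact absurd (AlgHom.ext fun k => by rw [← hσ, orderOf_eq_one_iff.1 h]; rfl) hθ1
    · exact h
  have hpow : ∀ (i : ℕ) (k : K), (Y ^ i) * (k : Matrix (Fin n) (Fin n) F) = ((σ ^ i) k : K).1 * Y ^ i := fun i => by
    induction i with
    | zero => intro k; simp
    | succ i ih =>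
      intro k
      rw [pow_succ, mul_assoc, hθ, ← mul_assoc, ih, mul_assoc, ← pow_succ, pow_succ σ, AlgEquiv.mul_apply, hσ]
  choose u hu using fun i : ℕ => E.surjective ((Y ^ i) *ᵥ v₀)
  have hu0 : ∀ i, u i ≠ 0 := fun i h => by
    have h1 := hu i
    rw [h, map_zero] at h1
    have h2 : v₀ = 0 := by
      rw [← one_mulVec v₀, ← show Yi ^ i * Y ^ i = 1 by
        rw [← Units.val_pow_eq_pow_val, ← Units.val_pow_eq_pow_val, ← Units.val_mul, inv_pow, inv_mul_cancel,
          Units.val_one], ← mulVec_mulVec, ← h1, mulVec_zero]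
    have h3 : E 1 = E 0 := by rw [hE, map_zero, h2]; simp
    exact one_ne_zero (E.injective h3)
  set P := minpoly F Y
  set d := P.natDegree
  let g : Fin (d + 1) → (K →* K) := fun i => ((σ ^ (i : ℕ) : K ≃ₐ[F] K) : K →* K)
  have hg : Function.Injective g := fun i j hij => Fin.ext <| by
    refine (pow_injOn_Iio_orderOf (x := σ)) (by show (i : ℕ) < orderOf σ; rw [hord]; omega)
      (by show (j : ℕ) < orderOf σ; rw [hord]; omega) ?_
    exact AlgEquiv.ext fun k => DFunLike.congr_fun hij k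
  have hli := Fintype.linearIndependent_iff.1 ((linearIndependent_monoidHom K K).comp g hg)
    (fun i => algebraMap F K (P.coeff i) * u i) (funext fun k => by
      refine E.injective ?_
      rw [Finset.sum_apply, Pi.zero_apply, map_zero, map_sum]
      have h0 : Polynomial.aeval Y P *ᵥ E k = 0 := by rw [minpoly.aeval, zero_mulVec]
      rw [Polynomial.aeval_eq_sum_range, sum_mulVec, ← Fin.sum_univ_eq_sum_range (fun i => (P.coeff i • Y ^ i) *ᵥ E k)] at h0
      rw [← h0]
      refine Finset.sum_congr rfl fun i _ => ?_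
      simp only [Function.comp_apply, Pi.smul_apply, smul_eq_mul]
      show E (algebraMap F K (P.coeff i) * u i * (σ ^ (i : ℕ)) k) = _
      rw [mul_assoc, ← Algebra.smul_def, map_smul, smul_mulVec, mul_comm, hE, hE, MulMemClass.coe_mul, ← mulVec_mulVec,
        ← hE (u i), hu, mulVec_mulVec, mulVec_mulVec, hpow])
    ⟨d, Nat.lt_succ_self d⟩
  have hmon : P.Monic := minpoly.monic (Matrix.isIntegral Y)
  rw [show P.coeff ((⟨d, Nat.lt_succ_self d⟩ : Fin (d + 1)) : ℕ) = 1 from hmon.coeff_natDegree, map_one, one_mul] at hli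
  exact hu0 _ hli

/-- An element of the field of given determinant. -/
theorem exists_det [Fintype F] (hn : 0 < n) (hK : IsFieldSubalgebra n K) {d : F} (hd : d ≠ 0) :
    ∃ k ∈ K, Matrix.det k = d := by
  haveI : Nonempty (Fin n) := ⟨⟨0, hn⟩⟩
  obtain ⟨v₀, E, hE⟩ := exists_coords hn hK
  letI := fieldOf hK
  haveI : FiniteDimensional F K := Module.finite_of_finrank_pos (by rw [hK.finrank_eq]; exact hn)
  haveI : Finite K := Module.finite_of_finite F
  obtain ⟨k, hk⟩ := FiniteField.unitsMap_norm_surjective F K (Units.mk0 d hd)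
  refine ⟨((k : K) : Matrix (Fin n) (Fin n) F), (k : K).2, ?_⟩
  have h : Algebra.norm F (k : K) = d := congrArg Units.val hk
  rw [← h, Algebra.norm_apply, ← LinearMap.det_toLin', ← LinearMap.det_conj (Algebra.lmul F K (k : K)) E]
  congr 1
  refine LinearMap.ext fun v => ?_
  obtain ⟨w, rfl⟩ := E.surjective v
  simp only [LinearMap.comp_apply, LinearEquiv.coe_coe, LinearEquiv.symm_apply_apply, Matrix.toLin'_apply]
  show _ = E ((k : K) * w)
  rw [hE, hE, MulMemClass.coe_mul, mulVec_mulVec]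

/-- The Frobenius element. -/
theorem exists_frob [Fintype F] (hn : n.Prime) (hK : IsFieldSubalgebra n K) :
    ∃ y : GL (Fin n) F, y ∈ subalgebraNormalizer K ∧ y ^ n = 1 ∧ ∀ z : F, (y : Matrix (Fin n) (Fin n) F) ≠ z • 1 := by
  classical
  haveI : Nonempty (Fin n) := ⟨⟨0, hn.pos⟩⟩
  obtain ⟨v₀, E, hE⟩ := exists_coords hn.pos hK
  letI := fieldOf hK
  haveI : FiniteDimensional F K := Module.finite_of_finrank_pos (by rw [hK.finrank_eq]; exact hn.pos)
  haveI : Finite K := Module.finite_of_finite F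
  set φ := FiniteField.frobeniusAlgEquivOfAlgebraic F K
  have hord : orderOf φ = n := (FiniteField.orderOf_frobeniusAlgEquivOfAlgebraic F K).trans hK.finrank_eq
  have hT : ∀ (ψ : K ≃ₐ[F] K), ∃ g : GL (Fin n) F, ∀ k : K, (g : Matrix (Fin n) (Fin n) F) *ᵥ E k = E (ψ k) := fun ψ => by
    set T : (Fin n → F) ≃ₗ[F] (Fin n → F) := (E.symm.trans ψ.toLinearEquiv).trans E with hTdef
    refine ⟨Matrix.GeneralLinearGroup.toLin.symm (LinearMap.GeneralLinearGroup.ofLinearEquiv T), fun k => ?_⟩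
    show LinearMap.toMatrix' (T : (Fin n → F) →ₗ[F] (Fin n → F)) *ᵥ E k = _
    rw [← Matrix.toLin'_apply, Matrix.toLin'_toMatrix']
    simp [T]
  obtain ⟨y, hy⟩ := hT φ
  have hyp : ∀ (i : ℕ) k, ((y ^ i : GL (Fin n) F) : Matrix (Fin n) (Fin n) F) *ᵥ E k = E ((φ ^ i) k) := fun i => by
    induction i with
    | zero => intro k; simp
    | succ i ih => intro k; rw [pow_succ, Units.val_mul, ← mulVec_mulVec, hy, ih, pow_succ, AlgEquiv.mul_apply]
  have hyn : y ^ n = 1 := Units.ext (Matrix.ext_iff_mulVec.2 fun v => by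
    obtain ⟨k, rfl⟩ := E.surjective v
    rw [hyp, show φ ^ n = 1 from orderOf_dvd_iff_pow_eq_one.1 hord.dvd, Units.val_one, one_mulVec]; rfl)
  have hcomm : ∀ k : K, (y : Matrix (Fin n) (Fin n) F) * (k : Matrix (Fin n) (Fin n) F) =
      ((φ k : K) : Matrix (Fin n) (Fin n) F) * (y : Matrix (Fin n) (Fin n) F) := fun k => Matrix.ext_iff_mulVec.2 fun v => by
    obtain ⟨w, rfl⟩ := E.surjective v
    have e : ∀ a b : K, (a : Matrix (Fin n) (Fin n) F) *ᵥ E b = E (a * b) := fun a b => by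
      rw [hE, hE, MulMemClass.coe_mul, mulVec_mulVec]
    rw [← mulVec_mulVec, e, hy, ← mulVec_mulVec, hy, e, map_mul]
  have hmem : ∀ k : Matrix (Fin n) (Fin n) F, k ∈ K →
      (y : Matrix (Fin n) (Fin n) F) * k * ((y⁻¹ : GL (Fin n) F) : Matrix (Fin n) (Fin n) F) ∈ K := fun k hk => by
    rw [show (y : Matrix (Fin n) (Fin n) F) * k = _ from hcomm ⟨k, hk⟩, mul_assoc, y.mul_inv, mul_one]
    exact (φ ⟨k, hk⟩).2
  refine ⟨y, fun k => ⟨hmem k, fun h => ?_⟩, hyn, fun z hz => ?_⟩
  · obtain ⟨w, hw⟩ := φ.surjective ⟨_, h⟩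
    have h1 := hcomm w
    rw [hw] at h1
    have h2 : (y : Matrix (Fin n) (Fin n) F) * (w : Matrix (Fin n) (Fin n) F) = (y : Matrix (Fin n) (Fin n) F) * k := by
      rw [h1, mul_assoc, mul_assoc, y.inv_mul, mul_one]
    rw [← Units.mul_right_inj y |>.1 h2]
    exact w.2
  · have hφ1 : φ = 1 := AlgEquiv.ext fun k => by
      refine Subtype.ext ?_
      have h1 := hcomm k
      rw [hz, Matrix.smul_mul, one_mul, Matrix.mul_smul, mul_one] at h1
      have hz0 : z ≠ 0 := fun h0 => not_isUnit_zero (M₀ := Matrix (Fin n) (Fin n) F) (by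
        have := y.isUnit
        rwa [hz, h0, zero_smul] at this)
      exact (smul_right_injective _ hz0 h1).symm
    rw [hφ1, orderOf_one] at hord
    exact hn.ne_one hord.symm

/-- An element with characteristic polynomial `X^n - 1` is conjugate into the normaliser. -/
theorem conj_singer [Fintype F] (hn : n.Prime) (hK : IsFieldSubalgebra n K) (hnF : (n : F) ≠ 0)
    (x : Matrix.SpecialLinearGroup (Fin n) F) (hx : (x : Matrix (Fin n) (Fin n) F) ^ n = 1)
    (hmin : n ≤ (minpoly F (x : Matrix (Fin n) (Fin n) F)).natDegree) :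
    ∃ P : Matrix.SpecialLinearGroup (Fin n) F, P⁻¹ * x * P ∈ (subalgebraNormalizer K).comap
      (Matrix.SpecialLinearGroup.toGL : Matrix.SpecialLinearGroup (Fin n) F →* GL (Fin n) F) := by
  classical
  obtain ⟨y, hy, hyn, hyns⟩ := exists_frob hn hK
  have hx' : (x : Matrix (Fin n) (Fin n) F) ^ n = (1 : F) • 1 := by rw [one_smul, hx]
  have hy' : (y : Matrix (Fin n) (Fin n) F) ^ n = (1 : F) • 1 := by
    rw [← Units.val_pow_eq_pow_val, hyn, one_smul, Units.val_one]
  set X := Matrix.SpecialLinearGroup.toGL x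
  have hXv : (X : Matrix (Fin n) (Fin n) F) = (x : Matrix (Fin n) (Fin n) F) := rfl
  have hord : ∀ g : GL (Fin n) F, g ^ n = 1 → ((orderOf g : ℕ) : F) ≠ 0 := fun g hg => by
    rcases hn.eq_one_or_self_of_dvd _ (orderOf_dvd_of_pow_eq_one hg) with h | h <;> rw [h]
    · simp
    · exact hnF
  obtain ⟨c, hc⟩ := isConj_iff.1 (GLSemisimpleClasses.isConj_of_charpoly_eq (g := X) (h := y)
    (hord X (Units.ext (by rw [Units.val_pow_eq_pow_val, hXv, hx, Units.val_one]))) (hord y hyn)
    (by rw [hXv, charpoly_eq hn.pos _ hx' hmin, charpoly_eq hn.pos _ hy' (degree_minpoly hn hK y hy hyns)]))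
  obtain ⟨k, hk, hkd⟩ := exists_det hn.pos hK (d := (c : Matrix (Fin n) (Fin n) F).det)
    ((Matrix.isUnit_iff_isUnit_det _).1 c.isUnit).ne_zero
  obtain ⟨ku, hku⟩ : ∃ ku : GL (Fin n) F, (ku : Matrix (Fin n) (Fin n) F) = k :=
    ((Matrix.isUnit_iff_isUnit_det _).2 (by rw [hkd]; exact (Matrix.isUnit_iff_isUnit_det _).1 c.isUnit))
  have hkN : ku ∈ subalgebraNormalizer K := by
    intro a
    have hfw : ∀ b ∈ K, (ku : Matrix (Fin n) (Fin n) F) * b * ((ku⁻¹ : GL (Fin n) F) : Matrix (Fin n) (Fin n) F) = b :=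
      fun b hb => by rw [hku, hK.comm k hk b hb, ← hku, mul_assoc, ku.mul_inv, mul_one]
    refine ⟨fun ha => by rw [hfw a ha]; exact ha, fun h => ?_⟩
    have h2 := hfw _ h
    have h3 : (ku : Matrix (Fin n) (Fin n) F) * a * ((ku⁻¹ : GL (Fin n) F) : Matrix (Fin n) (Fin n) F) = a := by
      have e := congrArg (fun m => ((ku⁻¹ : GL (Fin n) F) : Matrix (Fin n) (Fin n) F) * m * (ku : Matrix (Fin n) (Fin n) F)) h2
      simp [mul_assoc] at e
      simpa [mul_assoc] using e
    rwa [h3] at h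
  obtain ⟨Q, hQ⟩ : ∃ Q : Matrix.SpecialLinearGroup (Fin n) F, Matrix.SpecialLinearGroup.toGL Q = c⁻¹ * ku := by
    refine ⟨⟨((c⁻¹ * ku : GL (Fin n) F) : Matrix (Fin n) (Fin n) F), ?_⟩, Units.ext rfl⟩
    rw [Units.val_mul, det_mul, hku, hkd, ← det_mul, c.inv_mul, det_one]
  refine ⟨Q, ?_⟩
  rw [Subgroup.mem_comap, map_mul, map_mul, map_inv, hQ, show (c⁻¹ * ku)⁻¹ * X * (c⁻¹ * ku) = ku⁻¹ * (c * X * c⁻¹) * ku by
    group, hc]
  exact mul_mem (mul_mem (inv_mem hkN) hy) hkN

/-- A polynomial of smaller degree kills no conjugate inside the normaliser. -/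
theorem not_conj [Fintype F] (hn : n.Prime) (hK : IsFieldSubalgebra n K) {ι : Type} [Fintype ι] [DecidableEq ι]
    (e : Fin n ≃ ι) (A : Matrix ι ι F) (hdet : A.det = 1) {z : F} (hz : A ^ n = z • 1)
    (hns : ∀ c : F, A ≠ c • 1) (P : F[X]) (hP0 : P ≠ 0) (hdeg : P.natDegree < n) (hP : Polynomial.aeval A P = 0)
    (H : ∀ x : Matrix.SpecialLinearGroup (Fin n) F,
      (∃ z : F, ((x ^ n : Matrix.SpecialLinearGroup (Fin n) F) : Matrix (Fin n) (Fin n) F) = z • (1 : Matrix (Fin n) (Fin n) F)) →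
      (∀ z : F, (x : Matrix (Fin n) (Fin n) F) ≠ z • (1 : Matrix (Fin n) (Fin n) F)) →
      ∃ P : Matrix.SpecialLinearGroup (Fin n) F, P⁻¹ * x * P ∈ (subalgebraNormalizer K).comap
        (Matrix.SpecialLinearGroup.toGL : Matrix.SpecialLinearGroup (Fin n) F →* GL (Fin n) F)) : False := by
  classical
  let Φ : Matrix ι ι F ≃ₐ[F] Matrix (Fin n) (Fin n) F := Matrix.reindexAlgEquiv F F e.symm
  let x : Matrix.SpecialLinearGroup (Fin n) F := ⟨Φ A, by
    show (Matrix.reindexAlgEquiv F F e.symm A).det = 1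
    rw [Matrix.det_reindexAlgEquiv, hdet]⟩
  have hns' : ∀ c : F, Φ A ≠ c • 1 := fun c hc => hns c (Φ.injective (by rw [hc, map_smul, map_one]))
  obtain ⟨Q, hQ⟩ := H x ⟨z, by rw [Matrix.SpecialLinearGroup.coe_pow]; show Φ A ^ n = _; rw [← map_pow, hz, map_smul, map_one]⟩ hns'
  rw [Subgroup.mem_comap] at hQ
  set y := Matrix.SpecialLinearGroup.toGL (Q⁻¹ * x * Q)
  have hyv : (y : Matrix (Fin n) (Fin n) F) = (Q⁻¹).1 * Φ A * Q.1 := rfl
  have hQQ : Q.1 * (Q⁻¹).1 = 1 := congrArg Subtype.val (mul_inv_cancel Q)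
  have hQQ' : (Q⁻¹).1 * Q.1 = 1 := congrArg Subtype.val (inv_mul_cancel Q)
  have hd := degree_minpoly hn hK y hQ (fun c hc => hns' c (by
    rw [hyv] at hc
    calc Φ A = Q.1 * ((Q⁻¹).1 * Φ A * Q.1) * (Q⁻¹).1 := by
          rw [← mul_assoc, ← mul_assoc, hQQ, one_mul, mul_assoc, hQQ, mul_one]
      _ = c • 1 := by rw [hc, Matrix.mul_smul, Matrix.smul_mul, mul_one, hQQ]))
  have hyP : Polynomial.aeval (y : Matrix (Fin n) (Fin n) F) P = 0 := by
    let c : Matrix (Fin n) (Fin n) F ≃ₐ[F] Matrix (Fin n) (Fin n) F :=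
      AlgEquiv.ofAlgHom
        { toFun := fun M => (Q⁻¹).1 * M * Q.1
          map_one' := by rw [mul_one, hQQ']
          map_mul' := fun a b => by
            rw [show (Q⁻¹).1 * a * Q.1 * ((Q⁻¹).1 * b * Q.1) = (Q⁻¹).1 * a * (Q.1 * (Q⁻¹).1) * b * Q.1 by
              simp only [mul_assoc], hQQ, mul_one, ← mul_assoc]
          map_zero' := by simp
          map_add' := fun a b => by simp [mul_add, add_mul]
          commutes' := fun r => by rw [← Algebra.commutes r (Q⁻¹).1, mul_assoc, hQQ', mul_one] }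
        { toFun := fun M => Q.1 * M * (Q⁻¹).1
          map_one' := by rw [mul_one, hQQ]
          map_mul' := fun a b => by
            rw [show Q.1 * a * (Q⁻¹).1 * (Q.1 * b * (Q⁻¹).1) = Q.1 * a * ((Q⁻¹).1 * Q.1) * b * (Q⁻¹).1 by
              simp only [mul_assoc], hQQ', mul_one, ← mul_assoc]
          map_zero' := by simp
          map_add' := fun a b => by simp [mul_add, add_mul]
          commutes' := fun r => by rw [← Algebra.commutes r Q.1, mul_assoc, hQQ, mul_one] }
        (AlgHom.ext fun M => by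
          show (Q⁻¹).1 * (Q.1 * M * (Q⁻¹).1) * Q.1 = M
          rw [← mul_assoc, ← mul_assoc, hQQ', one_mul, mul_assoc, hQQ', mul_one])
        (AlgHom.ext fun M => by
          show Q.1 * ((Q⁻¹).1 * M * Q.1) * (Q⁻¹).1 = M
          rw [← mul_assoc, ← mul_assoc, hQQ, one_mul, mul_assoc, hQQ, mul_one])
    rw [hyv, show (Q⁻¹).1 * Φ A * Q.1 = c (Φ A) from rfl, Polynomial.aeval_algHom_apply, Polynomial.aeval_algHom_apply, hP,
      map_zero, map_zero]
  have := Polynomial.natDegree_le_of_dvd (minpoly.dvd F _ hyP) hP0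
  omega

end Cfsg.Agent.SingerNormalizerDerange
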