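import Mathlib
import Cfsg.Prelude.Def_Classical
import Cfsg.Prelude.Def_ClassicalGeometry
import Cfsg.Agent.Lib.Classical.IsometryTransport

/-! The symmetric group of degree four as the special orthogonal group in dimension three over three elements. -/

set_option autoImplicit false

namespace Cfsg.Agent.Classical.SO3Three

open Matrix

local notation "Z" => ZMod 3

/-- Four singular vectors with sum zero. -/
def vec (a : Fin 4) : Unit ⊕ (Fin 1 ⊕ Fin 1) → Z := fun i =>
  match i with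
  | .inl _ => ![0, 0, 1, 2] a
  | .inr (.inl _) => ![1, 0, 1, 1] a
  | .inr (.inr _) => ![0, 2, 2, 2] a

/-- The signed image of a permutation. -/
def mat (σ : Equiv.Perm (Fin 4)) : Matrix (Unit ⊕ (Fin 1 ⊕ Fin 1)) (Unit ⊕ (Fin 1 ⊕ Fin 1)) Z :=
  Matrix.of fun i j => ((Equiv.Perm.sign σ : ℤ) : Z) *
    match j with
    | .inl _ => vec (σ 2) i - vec (σ 0) i - vec (σ 1) i
    | .inr (.inl _) => vec (σ 0) i
    | .inr (.inr _) => - vec (σ 1) i

theorem mat_mul : ∀ σ τ : Equiv.Perm (Fin 4), mat (σ * τ) = mat σ * mat τ := by decide +kernel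

theorem mat_one : mat 1 = 1 := by decide +kernel

theorem mat_form : ∀ (σ : Equiv.Perm (Fin 4)) (v : Unit ⊕ (Fin 1 ⊕ Fin 1) → Z),
    Cfsg.quadFormOdd 1 Z (mat σ *ᵥ v) = Cfsg.quadFormOdd 1 Z v := by decide +kernel

theorem mat_det : ∀ σ : Equiv.Perm (Fin 4), (mat σ).det = 1 := by decide +kernel

theorem mat_inj : ∀ σ : Equiv.Perm (Fin 4), mat σ = 1 → σ = 1 := by decide +kernel

/-- The representation. -/
def matHom : Equiv.Perm (Fin 4) →* Matrix (Unit ⊕ (Fin 1 ⊕ Fin 1)) (Unit ⊕ (Fin 1 ⊕ Fin 1)) Z where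
  toFun := mat
  map_one' := mat_one
  map_mul' := mat_mul

/-- The representation by isometries. -/
def isoHom : Equiv.Perm (Fin 4) →* Cfsg.isometryGroup Z (Cfsg.quadFormOdd 1 Z) :=
  matHom.toHomUnits.codRestrict _ fun σ u _ => mat_form σ u

theorem isoHom_special (σ : Equiv.Perm (Fin 4)) : isoHom σ ∈ Cfsg.specialIsometryGroup Z (Cfsg.quadFormOdd 1 Z) := by
  refine MonoidHom.mem_ker.2 (Units.ext ?_)
  exact mat_det σ

theorem isoHom_injective : Function.Injective isoHom := by
  rw [injective_iff_map_eq_one]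
  intro σ h
  exact mat_inj σ (congrArg Units.val (congrArg Subtype.val h))

end Cfsg.Agent.Classical.SO3Three
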