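import Mathlib

/-! Counting products of given pairwise coprime polynomials of equal degree. -/

set_option autoImplicit false

namespace Cfsg.Agent.SelfDualCount

open Polynomial UniqueFactorizationMonoid

variable {F : Type*} [Field F]

/-- Products of members of `U` and powers of `X - 1` of degree `n`. -/
def prodsOf (U : Finset F[X]) (n : ℕ) : Set F[X] :=
  {P | ∃ (N : Multiset F[X]) (k : ℕ), (∀ u ∈ N, u ∈ U) ∧ P = N.prod * (X - Polynomial.C 1) ^ k ∧ P.natDegree = n}

open Classical in
theorem ncard_prodsOf {D n : ℕ} (hD : 0 < D) (U : Finset F[X]) (hU : ∀ u ∈ U, u.Monic ∧ u.natDegree = D)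
    (rep : U → F[X]) (hrep : ∀ u : U, (rep u).Monic ∧ Irreducible (rep u) ∧ rep u ≠ X - Polynomial.C 1)
    (hcount : ∀ (u v : U), multiplicity (rep u) v.1 = if u = v then 1 else 0) :
    (prodsOf U n).ncard = Nat.choose (n / D + U.card) U.card := by
  classical
  set m := n / D
  let w : Option U → F[X] := fun o => o.elim ((X - Polynomial.C 1) ^ D) fun u => u.1
  let φ : Sym (Option U) m → F[X] := fun s =>
    ((s : Multiset (Option U)).map w).prod * (X - Polynomial.C 1) ^ (n - D * m)
  have hwm : ∀ o, (w o).Monic ∧ (w o).natDegree = D := by
    rintro (_ | ⟨u, hu⟩)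
    · exact ⟨(monic_X_sub_C 1).pow D, by simp [w, -map_one]⟩
    · exact hU u hu
  have hprodm : ∀ M : Multiset (Option U), (M.map w).prod.Monic :=
    fun M => monic_multiset_prod_of_monic _ _ fun o _ => (hwm o).1
  have hmul : ∀ (u : U) (M : Multiset (Option U)) (k : ℕ),
      multiplicity (rep u) ((M.map w).prod * (X - Polynomial.C 1) ^ k) = M.count (some u) := by
    intro u M k
    have hp := (hrep u).2.1.prime
    have hfm : ∀ {P : F[X]}, P ≠ 0 → FiniteMultiplicity (rep u) P := fun hP =>
      FiniteMultiplicity.of_prime_left hp hP
    have hX : ∀ j : ℕ, multiplicity (rep u) ((X - Polynomial.C 1 : F[X]) ^ j) = 0 := fun j =>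
      multiplicity_eq_zero.2 fun h => (hrep u).2.2 (Polynomial.eq_of_monic_of_associated (hrep u).1 (monic_X_sub_C 1)
        ((hrep u).2.1.associated_of_dvd (irreducible_X_sub_C 1) (hp.dvd_of_dvd_pow h)))
    rw [multiplicity_mul hp (hfm ((hprodm M).mul ((monic_X_sub_C 1).pow k)).ne_zero), hX, add_zero]
    induction M using Multiset.induction with
    | empty => simpa using multiplicity_of_one_right (hrep u).2.1.not_isUnit
    | cons o M ih =>
      rw [Multiset.map_cons, Multiset.prod_cons, multiplicity_mul hp (hfm ((hwm o).1.mul (hprodm M)).ne_zero), ih,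
        Multiset.count_cons, add_comm]
      congr 1
      rcases o with _ | v
      · simpa [w, -map_one] using hX D
      · simp [w, hcount, Option.some_inj]
  have hinj : Function.Injective φ := by
    intro s s' h
    have hsome : ∀ u : U, (s : Multiset (Option U)).count (some u) = (s' : Multiset (Option U)).count (some u) :=
      fun u => by rw [← hmul u _ (n - D * m), ← hmul u _ (n - D * m)]; exact congrArg _ h
    refine Sym.coe_injective (Multiset.ext.2 fun o => ?_)
    rcases o with _ | u
    · have hs : ∀ x : Sym (Option U) m, (x : Multiset (Option U)).count none +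
          ∑ u : U, (x : Multiset (Option U)).count (some u) = m := fun x => by
        have := Multiset.toFinset_sum_count_eq (x : Multiset (Option U))
        rw [Sym.card_coe, Finset.sum_subset (Finset.subset_univ _) (fun o _ ho =>
          Multiset.count_eq_zero.2 fun h => ho (Multiset.mem_toFinset.2 h)), Fintype.sum_option] at this
        exact this
      have h1 := hs s
      have h2 := hs s'
      rw [Finset.sum_congr rfl fun u _ => hsome u] at h1
      omega
    · exact hsome u
  have hdeg : ∀ (M : Multiset F[X]) (k : ℕ), (∀ u ∈ M, u ∈ U) →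
      (M.prod * (X - Polynomial.C 1) ^ k).natDegree = D * Multiset.card M + k := by
    intro M k hM
    have hm : M.prod.Monic := by
      simpa using monic_multiset_prod_of_monic M id fun u hu => (hU u (hM u hu)).1
    rw [hm.natDegree_mul ((monic_X_sub_C 1).pow _), natDegree_multiset_prod_of_monic _
      (fun u hu => (hU u (hM u hu)).1), Multiset.map_congr rfl (fun u hu => (hU u (hM u hu)).2)]
    simp [-map_one, mul_comm]
  have hle : D * m ≤ n := Nat.mul_div_le n D
  have hrange : Set.range φ = prodsOf U n := by
    ext P
    constructor
    · rintro ⟨s, rfl⟩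
      set M : Multiset (Option U) := (s : Multiset (Option U)) with hM
      have key : ∀ M : Multiset (Option U), ∃ (N : Multiset F[X]) (j : ℕ), (∀ u ∈ N, u ∈ U) ∧
          Multiset.card N + j = Multiset.card M ∧ (M.map w).prod = N.prod * (X - Polynomial.C 1) ^ (D * j) := by
        intro M
        induction M using Multiset.induction with
        | empty => exact ⟨0, 0, by simp, rfl, by simp⟩
        | cons o M ih =>
          obtain ⟨N, j, hN, hc, he⟩ := ih
          rcases o with _ | ⟨u, hu⟩
          · refine ⟨N, j + 1, hN, by rw [Multiset.card_cons]; omega, ?_⟩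
            rw [Multiset.map_cons, Multiset.prod_cons, he, Nat.mul_succ, pow_add]
            show (X - Polynomial.C 1) ^ D * _ = _
            ring
          · refine ⟨u ::ₘ N, j, fun x hx => ?_, by rw [Multiset.card_cons, Multiset.card_cons]; omega, ?_⟩
            · rcases Multiset.mem_cons.1 hx with rfl | hx
              exacts [hu, hN x hx]
            · rw [Multiset.map_cons, Multiset.prod_cons, he, Multiset.prod_cons]
              show u * _ = _
              ring
      obtain ⟨N, j, hN, hc, he⟩ := key M
      rw [hM, Sym.card_coe] at hc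
      refine ⟨N, D * j + (n - D * m), hN, ?_, ?_⟩
      · show (M.map w).prod * _ = _
        rw [he, mul_assoc, pow_add]
      · show ((M.map w).prod * _).natDegree = n
        rw [he, mul_assoc, ← pow_add, hdeg N _ hN]
        have : D * Multiset.card N + D * j = D * m := by rw [← Nat.mul_add, hc]
        omega
    · rintro ⟨N, k, hN, rfl, hPd⟩
      rw [hdeg N k hN] at hPd
      have hcard : Multiset.card N ≤ m := by
        rw [show m = n / D from rfl, Nat.le_div_iff_mul_le hD, mul_comm]
        omega
      set S : Multiset (Option U) := N.attach.map (fun u => some ⟨u.1, hN u.1 u.2⟩) +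
        Multiset.replicate (m - Multiset.card N) none
      have hS : Multiset.card S = m := by
        rw [Multiset.card_add, Multiset.card_map, Multiset.card_attach, Multiset.card_replicate]; omega
      refine ⟨Sym.mk S hS, ?_⟩
      show (S.map w).prod * _ = _
      rw [Multiset.map_add, Multiset.map_map, Multiset.map_replicate, Multiset.prod_add, Multiset.prod_replicate]
      rw [show N.attach.map (w ∘ fun u => some ⟨u.1, hN u.1 u.2⟩) = N from Multiset.attach_map_val N]
      show N.prod * ((X - Polynomial.C 1) ^ D) ^ (m - Multiset.card N) * (X - Polynomial.C 1) ^ (n - D * m) = _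
      rw [mul_assoc, ← pow_mul, ← pow_add]
      congr 2
      have h3 : D * Multiset.card N ≤ D * m := Nat.mul_le_mul_left D hcard
      rw [Nat.mul_sub]
      omega
  rw [← hrange, ← Nat.card_coe_set_eq, Nat.card_range_of_injective hinj, Nat.card_eq_fintype_card,
    Sym.card_sym_eq_choose, Fintype.card_option, Fintype.card_coe, Nat.add_right_comm, Nat.add_sub_cancel,
    add_comm U.card m, Nat.choose_symm_add]

end Cfsg.Agent.SelfDualCount
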