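import Cfsg.Agent.Lib.Classical.SelfReciprocalFactors

/-! Combinatorics of the divisors of self-reciprocal products of factors of `X ^ r - 1`. -/

set_option autoImplicit false

namespace Cfsg.Agent.SelfRecipDivisors

open Polynomial Cfsg.Agent.SelfReciprocalFactors Cfsg.Agent.UnitaryDetCentralizer

theorem exists_pairs {α : Type*} [DecidableEq α] (T : Finset α) :
    ∀ N : Multiset α, (∀ u ∈ N, u ∈ T) → ∃ M S : Multiset α, N = M + M + S ∧ S.Nodup ∧ S.card ≤ T.card ∧
      (∀ u ∈ M, u ∈ T) ∧ (∀ u ∈ S, u ∈ T) := by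
  intro N
  induction N using Multiset.induction with
  | empty => exact fun _ => ⟨0, 0, by simp, Multiset.nodup_zero, by simp, by simp, by simp⟩
  | cons u N ih =>
    intro hN
    obtain ⟨M, S, rfl, hS, -, hM, hST⟩ := ih fun v hv => hN v (Multiset.mem_cons_of_mem hv)
    have hu := hN u (Multiset.mem_cons_self _ _)
    by_cases huS : u ∈ S
    · refine ⟨u ::ₘ M, S.erase u, ?_, hS.erase u, ?_, ?_, fun v hv => hST v (Multiset.mem_of_mem_erase hv)⟩
      · conv_lhs => rw [← Multiset.cons_erase huS]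
        simp only [← Multiset.singleton_add]
        abel
      · exact Finset.card_le_card (s := ⟨S.erase u, hS.erase u⟩) fun v hv => hST v (Multiset.mem_of_mem_erase hv)
      · simpa using ⟨hu, hM⟩
    · refine ⟨M, u ::ₘ S, by simp, Multiset.nodup_cons.2 ⟨huS, hS⟩, ?_, hM, ?_⟩
      · exact Finset.card_le_card (s := ⟨u ::ₘ S, Multiset.nodup_cons.2 ⟨huS, hS⟩⟩) fun v hv => by
          rcases Multiset.mem_cons.1 hv with rfl | hv
          exacts [hu, hST v hv]
      · simpa using ⟨hu, hST⟩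

variable {F : Type*} [Field F] [Fintype F] {r i t : ℕ}

theorem basic_eval_one (h : Ctx F r i t) {u : F[X]} (hu : u ∈ basics F r i) : u.eval 1 ≠ 0 := by
  obtain ⟨f, hf, rfl⟩ := mem_basics.1 hu
  intro h1
  rcases eq_or_eq_of_dvd_basic h hf (monic_X_sub_C 1) (irreducible_X_sub_C 1) (dvd_iff_isRoot.2 h1) with e | e
  · exact X_sub_one_notMem h (e ▸ hf)
  · exact X_sub_one_notMem h (e ▸ (rdual_mem h hf).1)

theorem basic_monic (h : Ctx F r i t) {N : Multiset F[X]} (hN : ∀ u ∈ N, u ∈ basics F r i) :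
    N.prod.Monic ∧ N.prod.natDegree = basicDeg i * N.card ∧ N.prod.eval 1 ≠ 0 := by
  induction N using Multiset.induction with
  | empty => simp
  | cons u N ih =>
    obtain ⟨h1, h2, h3⟩ := ih fun v hv => hN v (Multiset.mem_cons_of_mem hv)
    have hu := hN u (Multiset.mem_cons_self _ _)
    have he := basic_eval_one h hu
    obtain ⟨f, hf, rfl⟩ := mem_basics.1 hu
    obtain ⟨hm, hd, -⟩ := basic_data h hf
    rw [Multiset.prod_cons]
    refine ⟨hm.mul h1, ?_, by rw [eval_mul]; exact mul_ne_zero he h3⟩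
    rw [hm.natDegree_mul h1, hd, h2, Multiset.card_cons]
    ring

/-- Shape of a self-reciprocal polynomial of even degree. -/
theorem shape (h : Ctx F r i t) {n : ℕ} {P : F[X]} (hP : P ∈ selfRecip F r (2 * n)) :
    ∃ (N : Multiset F[X]) (j : ℕ), (∀ u ∈ N, u ∈ basics F r i) ∧
      P = N.prod * (X - Polynomial.C 1) ^ (2 * j) ∧ basicDeg i * N.card + 2 * j = 2 * n := by
  rw [selfRecip_eq h] at hP
  obtain ⟨N, k, hN, rfl, hd⟩ := hP
  obtain ⟨h1, h2, -⟩ := basic_monic h hN
  rw [h1.natDegree_mul ((monic_X_sub_C 1).pow k), h2, natDegree_pow, natDegree_X_sub_C, mul_one] at hd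
  obtain ⟨c, hc⟩ := even_basicDeg i
  have hk : 2 * (c * N.card) + k = 2 * n := by rw [← hd, hc]; ring
  refine ⟨N, n - c * N.card, hN, by rw [show 2 * (n - c * N.card) = k by omega], ?_⟩
  rw [hc]; ring_nf; ring_nf at hk; omega

theorem mem_selfRecip (h : Ctx F r i t) {N : Multiset F[X]} (hN : ∀ u ∈ N, u ∈ basics F r i) (k : ℕ) :
    N.prod * (X - Polynomial.C 1) ^ k ∈ selfRecip F r (basicDeg i * N.card + k) := by
  rw [selfRecip_eq h]
  refine ⟨N, k, hN, rfl, ?_⟩
  obtain ⟨h1, h2, -⟩ := basic_monic h hN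
  rw [h1.natDegree_mul ((monic_X_sub_C 1).pow k), h2, natDegree_pow, natDegree_X_sub_C, mul_one]

/-- A monic polynomial all of whose monic irreducible factors have degree `i`. -/
theorem dvd_natDegree {K : Type*} [Field K] {D : K[X]} (hD : D.Monic)
    (h : ∀ g : K[X], g.Monic → Irreducible g → g ∣ D → i ∣ g.natDegree) : i ∣ D.natDegree := by
  induction hd : D.natDegree using Nat.strong_induction_on generalizing D with
  | _ d ih =>
  rcases Nat.eq_zero_or_pos d with rfl | hpos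
  · exact dvd_zero _
  obtain ⟨g, hgm, hgi, D', rfl⟩ := Polynomial.exists_monic_irreducible_factor D
    (fun hu => by rw [natDegree_eq_zero_of_isUnit hu] at hd; omega)
  have hD' : D'.Monic := hgm.of_mul_monic_left hD
  have hgd := hgi.natDegree_pos
  rw [hgm.natDegree_mul hD'] at hd
  rw [← hd]
  exact dvd_add (h g hgm hgi (dvd_mul_right _ _))
    (ih _ (by omega) hD' (fun g' a b c => h g' a b (c.trans (dvd_mul_left _ _))) rfl)

/-- The degrees of the `D` with `D · rdual D` dividing a given polynomial. -/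
theorem degree_split (h : Ctx F r i t) {n : ℕ} {R : F[X]} {j : ℕ}
    (hP : R * (X - Polynomial.C 1) ^ (2 * j) ∈ selfRecip F r n) (hR : R.eval 1 ≠ 0) {D : F[X]} (hD : D.Monic)
    (hdvd : D * rdual D ∣ R * (X - Polynomial.C 1) ^ (2 * j)) :
    ∃ k l : ℕ, D.natDegree = i * k + l ∧ l ≤ j ∧
      (k ≠ 0 → ∃ f ∈ factorSet F r, f * rdual f ∣ R * (X - Polynomial.C 1) ^ (2 * j)) := by
  classical
  obtain ⟨hPm, -, -, hPf⟩ := hP
  obtain ⟨D₁, hD₁, hnd⟩ := exists_eq_pow_rootMultiplicity_mul_and_not_dvd D hD.ne_zero 1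
  set l := D.rootMultiplicity 1
  have hD₁m : D₁.Monic := ((monic_X_sub_C 1).pow l).of_mul_monic_left (hD₁ ▸ hD)
  have hfac : ∀ g : F[X], g.Monic → Irreducible g → g ∣ D₁ → g ∈ factorSet F r := by
    intro g hgm hgi hgd
    have hgP : g ∣ R * (X - Polynomial.C 1) ^ (2 * j) :=
      (hgd.trans ((Dvd.intro_left _ hD₁.symm).trans (dvd_mul_right D (rdual D)))).trans hdvd
    refine ((dvd_X_pow_iff h hgm hgi).1 (hPf g hgm hgi hgP)).resolve_left fun e => hnd (e ▸ hgd)
  obtain ⟨k, hk⟩ := dvd_natDegree (i := i) hD₁m fun g a b c => (mem_data h (hfac g a b c)).2.2.1 ▸ dvd_rfl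
  refine ⟨k, l, ?_, ?_, fun hk0 => ?_⟩
  · rw [hD₁, ((monic_X_sub_C 1).pow l).natDegree_mul hD₁m, natDegree_pow, natDegree_X_sub_C, mul_one, hk, add_comm]
  · have h2 : (X - Polynomial.C (1 : F)) ^ (2 * l) ∣ R * (X - Polynomial.C 1) ^ (2 * j) := by
      refine Dvd.dvd.trans ?_ hdvd
      conv_rhs => rw [hD₁, rdual_mul, rdual_X_sub_one_pow]
      rw [two_mul, pow_add]
      exact mul_dvd_mul (dvd_mul_right _ _) (dvd_mul_right _ _)
    have hR0 : R ≠ 0 := fun e => hR (by rw [e, eval_zero])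
    have h3 := (le_rootMultiplicity_iff hPm.ne_zero).2 h2
    rw [rootMultiplicity_mul_X_sub_C_pow hR0,
      rootMultiplicity_eq_zero (fun e => hR e), zero_add] at h3
    omega
  · have hpos : 0 < D₁.natDegree := hk ▸ Nat.mul_pos (i_pos h) (Nat.pos_of_ne_zero hk0)
    obtain ⟨g, hgm, hgi, hgd⟩ := Polynomial.exists_monic_irreducible_factor D₁
      (fun hu => by rw [natDegree_eq_zero_of_isUnit hu] at hpos; omega)
    refine ⟨g, hfac g hgm hgi hgd, Dvd.dvd.trans ?_ hdvd⟩
    obtain ⟨w, hw⟩ : g ∣ D := hgd.trans (Dvd.intro_left _ hD₁.symm)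
    refine mul_dvd_mul ⟨w, hw⟩ ?_
    rw [hw, rdual_mul]
    exact dvd_mul_right _ _

/-- A product of distinct self-reciprocal factors has no `f · rdual f`. -/
theorem no_pair (h : Ctx F r i t) (he : Even i) (S : Finset F[X]) (hS : S ⊆ basics F r i) (j : ℕ) {f : F[X]}
    (hf : f ∈ factorSet F r) : ¬ f * rdual f ∣ S.val.prod * (X - Polynomial.C 1) ^ j := by
  classical
  obtain ⟨hfm, hfi, -, -⟩ := mem_data h hf
  rw [(rdual_mem h hf).2.2 he]
  intro hd
  have hb : ∀ u ∈ S, u ∈ factorSet F r := fun u hu => by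
    obtain ⟨g, hg, rfl⟩ := mem_basics.1 (hS hu)
    rwa [basic, if_pos he]
  have hX : ¬ f ∣ (X - Polynomial.C (1 : F)) ^ j := fun hd' => X_sub_one_notMem h
    (Polynomial.eq_of_monic_of_associated hfm (monic_X_sub_C 1)
      (hfi.associated_of_dvd (irreducible_X_sub_C 1) (hfi.prime.dvd_of_dvd_pow hd')) ▸ hf)
  have key : ∀ M : Multiset F[X], (∀ u ∈ M, u ∈ factorSet F r) → f ∣ M.prod → f ∈ M := fun M hM hfM => by
    obtain ⟨u, hu, hfu⟩ := hfi.prime.exists_mem_multiset_dvd hfM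
    rwa [Polynomial.eq_of_monic_of_associated hfm (mem_data h (hM u hu)).1
      (hfi.associated_of_dvd (mem_data h (hM u hu)).2.1 hfu)]
  have hfS : f ∣ S.val.prod := (hfi.prime.dvd_or_dvd ((dvd_mul_right f f).trans hd)).resolve_right hX
  have hmem := key S.val hb hfS
  rw [← Multiset.cons_erase hmem, Multiset.prod_cons, mul_assoc, mul_dvd_mul_iff_left hfi.ne_zero] at hd
  exact S.nodup.notMem_erase
    (key _ (fun u hu => hb u (Multiset.mem_of_mem_erase hu)) ((hfi.prime.dvd_or_dvd hd).resolve_right hX))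

end Cfsg.Agent.SelfRecipDivisors
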