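import Cfsg.Agent.Lib.Classical.SympIsoDerange

/-! Closure argument: which `(P, m)` a family of realisations with invariant isotropic spaces contains. -/

set_option autoImplicit false

namespace Cfsg.Agent.SelfRecipRealize

open Polynomial Cfsg.Agent.SelfReciprocalFactors Cfsg.Agent.SelfRecipDivisors
  Cfsg.Agent.UnitaryDetCentralizer Cfsg.Agent.SympIsoDerange

variable {F : Type*} [Field F] [Fintype F]

/-- What is needed of a family of realisations. -/
structure Closed (R : F[X] → ℕ → Prop) (r i : ℕ) : Prop where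
  one : R 1 0
  mul : ∀ {P Q : F[X]} {m k : ℕ}, R P m → R Q k → R (P * Q) (m + k)
  pair : ∀ {f : F[X]}, f.Monic → f ∣ X ^ r - 1 → f.coeff 0 ≠ 0 →
    R (f * rdual f) f.natDegree ∧ R (f * rdual f) 0
  self : Even i → ∀ f ∈ factorSet F r, R f 0

variable {R : F[X] → ℕ → Prop} {r i t : ℕ}

theorem Closed.one_pow (hR : Closed R r i) : ∀ j l : ℕ, l ≤ j → R ((X - Polynomial.C 1) ^ (2 * j)) l := by
  have h1 := hR.pair (f := X - Polynomial.C 1) (monic_X_sub_C 1) (by rw [dvd_iff_isRoot]; simp) (by simp)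
  rw [rdual_X_sub_one, natDegree_X_sub_C, ← sq] at h1
  intro j
  induction j with
  | zero =>
    intro l hl
    rw [Nat.le_zero.1 hl, mul_zero, pow_zero]
    exact hR.one
  | succ j ih =>
    intro l hl
    rw [mul_add, mul_one, pow_add]
    rcases Nat.lt_or_ge j l with h | h
    · rw [show l = j + 1 by omega]
      exact hR.mul (ih j le_rfl) h1.1
    · rw [← Nat.add_zero l]
      exact hR.mul (ih l h) h1.2

theorem Closed.prod (hR : Closed R r i) {δ : ℕ} : ∀ (N : Multiset F[X]), (∀ u ∈ N, R u 0 ∧ R u δ) →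
    ∀ e ≤ N.card, R N.prod (δ * e) := by
  intro N
  induction N using Multiset.induction with
  | empty =>
    intro _ e he
    rw [show e = 0 by simpa using he, mul_zero, Multiset.prod_zero]
    exact hR.one
  | cons u N ih =>
    intro hN e he
    have ih' := ih fun v hv => hN v (Multiset.mem_cons_of_mem hv)
    rw [Multiset.prod_cons]
    rcases e with _ | e
    · rw [mul_zero]
      simpa using hR.mul (hN u (Multiset.mem_cons_self _ _)).1 (by simpa using ih' 0 (Nat.zero_le _))
    · rw [show δ * (e + 1) = δ + δ * e by ring]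
      exact hR.mul (hN u (Multiset.mem_cons_self _ _)).2 (ih' e (by rw [Multiset.card_cons] at he; omega))

/-- The dimensions realised by a product of basic polynomials and a power of `X - 1`. -/
theorem Closed.split (hR : Closed R r i) (h : Ctx F r i t) (N : Multiset F[X]) (hN : ∀ u ∈ N, u ∈ basics F r i) :
    ∃ K, (Odd i → K = N.card) ∧ (Even i → N.card ≤ 2 * K + t ∧ 2 * K ≤ N.card) ∧
      ∀ e ≤ K, ∀ j l, l ≤ j → R (N.prod * (X - Polynomial.C 1) ^ (2 * j)) (i * e + l) := by
  classical
  have hpair : ∀ f ∈ factorSet F r, R (f * rdual f) i ∧ R (f * rdual f) 0 := fun f hf => by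
    have := hR.pair (mem_data h hf).1 (dvd_pow_sub_one h hf) (coeff_zero_ne h (dvd_pow_sub_one h hf))
    rwa [(mem_data h hf).2.2.1] at this
  rcases Nat.even_or_odd i with he | ho
  · obtain ⟨M, S, rfl, -, hSc, hM, hS⟩ := exists_pairs (basics F r i) N hN
    rw [card_basics h, if_pos he] at hSc
    refine ⟨M.card, fun ho => absurd he (Nat.not_even_iff_odd.2 ho),
      fun _ => by simp only [Multiset.card_add]; omega, fun e he1 j l hl => ?_⟩
    have hreal : ∀ u ∈ basics F r i, R u 0 ∧ R (u * u) i ∧ R (u * u) 0 := fun u hu => by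
      obtain ⟨f, hf, rfl⟩ := mem_basics.1 hu
      rw [basic, if_pos he]
      have h' := hpair f hf
      rw [(rdual_mem h hf).2.2 he] at h'
      exact ⟨hR.self he f hf, h'⟩
    rw [Multiset.prod_add, Multiset.prod_add, show M.prod * M.prod = (M.map fun u => u * u).prod by
      rw [Multiset.prod_map_mul, Multiset.map_id']]
    have hS0 := hR.prod (δ := 0) S (fun v hv => ⟨(hreal v (hS v hv)).1, (hreal v (hS v hv)).1⟩) 0 (Nat.zero_le _)
    have hM0 := hR.prod (δ := i) (M.map fun u => u * u) (fun v hv => by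
      obtain ⟨u, hu, rfl⟩ := Multiset.mem_map.1 hv
      exact ⟨(hreal u (hM u hu)).2.2, (hreal u (hM u hu)).2.1⟩) e (by rwa [Multiset.card_map])
    rw [show i * e + l = i * e + 0 + l from rfl]
    exact hR.mul (hR.mul hM0 (by simpa using hS0)) (hR.one_pow j l hl)
  · refine ⟨N.card, fun _ => rfl, fun he => absurd he (Nat.not_even_iff_odd.2 ho), fun e he1 j l hl => ?_⟩
    refine hR.mul (hR.prod N (fun u hu => ?_) e he1) (hR.one_pow j l hl)
    obtain ⟨f, hf, rfl⟩ := mem_basics.1 (hN u hu)
    rw [basic, if_neg (Nat.not_even_iff_odd.2 ho)]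
    exact ⟨(hpair f hf).2, (hpair f hf).1⟩

/-- The condition gives a suitable split of `m`. -/
theorem exists_el {d m K A j : ℕ} (hi : 0 < i) (hmd : m ≤ d) (hc : Cond i t d m)
    (hA : basicDeg i * A + 2 * j = 2 * d) (ho : Odd i → K = A) (he : Even i → A ≤ 2 * K + t ∧ 2 * K ≤ A) :
    ∃ e l, e ≤ K ∧ l ≤ j ∧ i * e + l = m := by
  rcases Nat.even_or_odd i with hev | hod
  · obtain ⟨hh, hhe⟩ := hev
    have hie : i = 2 * hh := by omega
    obtain ⟨h1, h2⟩ := hc.2 hh hie
    obtain ⟨hK1, hK2⟩ := he ⟨hh, hhe⟩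
    have hD : basicDeg i = i := if_pos ⟨hh, hhe⟩
    rw [hD, hie, mul_assoc] at hA
    have hd : hh * A + j = d := by omega
    have hae := arith_even (t := t) hie (by omega) h1 h2
    have hdh : d % hh ≤ j := by
      rw [← hd, add_comm, Nat.add_mul_mod_self_left]
      exact Nat.mod_le _ _
    have hst : hh * A ≤ hh * (2 * K) + hh * t := by rw [← Nat.mul_add]; exact Nat.mul_le_mul_left _ hK1
    by_cases hle : K ≤ m / i
    · have := (Nat.mul_le_mul_left i hle).trans (Nat.mul_div_le m i)
      have e2 : i * K = hh * (2 * K) := by rw [hie]; ring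
      exact ⟨K, m - i * K, le_rfl, by omega, by omega⟩
    · have := Nat.div_add_mod m i
      exact ⟨m / i, m % i, by omega, by omega, this⟩
  · have hD : basicDeg i = 2 * i := if_neg (Nat.not_even_iff_odd.2 hod)
    rw [hD, mul_assoc] at hA
    have hd : i * A + j = d := by omega
    obtain rfl := ho hod
    have hdh : d % i ≤ j := by
      rw [← hd, add_comm, Nat.add_mul_mod_self_left]
      exact Nat.mod_le _ _
    by_cases hle : K ≤ m / i
    · have := (Nat.mul_le_mul_left i hle).trans (Nat.mul_div_le m i)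
      exact ⟨K, m - i * K, le_rfl, by omega, by omega⟩
    · have := Nat.div_add_mod m i
      have := hc.1 hod
      exact ⟨m / i, m % i, by omega, by omega, ‹i * (m / i) + m % i = m›⟩

theorem eval_one_rdual {K : Type*} [Field K] {D : K[X]} (h0 : D.coeff 0 ≠ 0) (h : D.eval 1 ≠ 0) :
    (rdual D).eval 1 ≠ 0 := by
  letI : Invertible (1 : K) := invertibleOne
  have h1 := Polynomial.eval₂_reverse_eq_zero_iff (i := RingHom.id K) (x := (1 : K)) D
  rw [rdual, cdual, eval_mul, eval_C, Polynomial.map_id]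
  refine mul_ne_zero (by simpa using h0) fun e => h ?_
  simp only [invOf_one] at h1
  exact h1.1 e

/-- An extra `X - 1` adds no divisor of the form `D · rdual D`. -/
theorem dvd_cancel {K : Type*} [Field K] {D R : K[X]} {j : ℕ} (hD : D.Monic) (hR : R.eval 1 ≠ 0)
    (h0 : D.coeff 0 ≠ 0)
    (h : D * rdual D ∣ R * (X - Polynomial.C 1) ^ (2 * j) * (X - Polynomial.C 1)) :
    D * rdual D ∣ R * (X - Polynomial.C 1) ^ (2 * j) := by
  classical
  obtain ⟨D₁, hD₁, hnd⟩ := exists_eq_pow_rootMultiplicity_mul_and_not_dvd D hD.ne_zero 1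
  set l := D.rootMultiplicity 1
  have h01 : D₁.coeff 0 ≠ 0 := fun e => h0 (by rw [hD₁, mul_coeff_zero, e, mul_zero])
  have h1 : (D₁ * rdual D₁).eval 1 ≠ 0 := by
    rw [eval_mul]
    have he : D₁.eval 1 ≠ 0 := fun e => hnd (dvd_iff_isRoot.2 e)
    exact mul_ne_zero he (eval_one_rdual h01 he)
  have hE : D * rdual D = D₁ * rdual D₁ * (X - Polynomial.C 1) ^ (2 * l) := by
    conv_lhs => rw [hD₁]
    rw [rdual_mul, rdual_X_sub_one_pow, two_mul, pow_add]
    ring
  rw [hE, mul_assoc R, ← pow_succ] at h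
  rw [hE]
  have hl : 2 * l ≤ 2 * j := by
    have hne : R * (X - Polynomial.C 1) ^ (2 * j + 1) ≠ 0 :=
      mul_ne_zero (fun e => hR (by rw [e, eval_zero])) (pow_ne_zero _ (X_sub_C_ne_zero 1))
    have h3 := (le_rootMultiplicity_iff hne).2 ((dvd_mul_left _ _).trans h)
    rw [rootMultiplicity_mul_X_sub_C_pow (fun e => hR (by rw [e, eval_zero])),
      rootMultiplicity_eq_zero (fun e => hR e), zero_add] at h3
    omega
  refine mul_dvd_mul ?_ (pow_dvd_pow _ hl)
  refine IsCoprime.dvd_of_dvd_mul_right ?_ ((dvd_mul_right _ _).trans h)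
  refine IsCoprime.pow_right ?_
  exact ((irreducible_X_sub_C (1 : K)).coprime_iff_not_dvd.2 fun hd => h1 (dvd_iff_isRoot.1 hd)).symm

end Cfsg.Agent.SelfRecipRealize
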