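import Cfsg.Agent.Lib.Classical.UnitPrimeOrderClasses

/-! Self-reciprocal products of the irreducible factors of `X ^ r - 1` over a finite field, `r` an odd prime. -/

set_option autoImplicit false

namespace Cfsg.Agent.SelfReciprocalFactors

open Polynomial UniqueFactorizationMonoid Cfsg.Agent.UnitaryDetCentralizer

variable {F : Type*} [Field F]

/-- The monic reciprocal polynomial. -/
noncomputable abbrev rdual (P : F[X]) : F[X] := cdual (RingHom.id F) P

/-- The non-trivial irreducible factors of `X ^ r - 1`. -/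
noncomputable def factorSet (F : Type*) [Field F] (r : ℕ) : Finset F[X] := by
  classical exact (normalizedFactors (cyclotomic r F)).toFinset

theorem rdual_root {E : Type*} [Field E] [Algebra F E] {z : E} (hz : z ≠ 0) {f : F[X]} (hf : aeval z f = 0) :
    aeval z⁻¹ (rdual f) = 0 := by
  haveI : Invertible z := invertibleOfNonzero hz
  rw [rdual, cdual, map_mul, Polynomial.aeval_def, Polynomial.aeval_def, Polynomial.map_id, ← invOf_eq_inv,
    (eval₂_reverse_eq_zero_iff (algebraMap F E) z f).2 hf, mul_zero]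

theorem rdual_one : rdual (1 : F[X]) = 1 := by
  simp [rdual, cdual, show (1 : F[X]).reverse = 1 from by rw [← map_one Polynomial.C, reverse_C]]

theorem rdual_mul (P Q : F[X]) : rdual (P * Q) = rdual P * rdual Q := cdual_mul _ P Q

theorem rdual_X_sub_one : rdual (X - Polynomial.C 1 : F[X]) = X - Polynomial.C 1 :=
  UnitPrimeOrderClasses.cdual_X_sub_one _

theorem rdual_X_sub_one_pow (k : ℕ) :
    rdual ((X - Polynomial.C 1 : F[X]) ^ k) = (X - Polynomial.C 1) ^ k := by
  induction k with
  | zero => rw [pow_zero, rdual_one]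
  | succ k ih => rw [pow_succ, rdual_mul, ih, rdual_X_sub_one]

/-- The data attached to an odd prime `r` prime to the characteristic. -/
structure Ctx (F : Type*) [Field F] [Fintype F] (r i t : ℕ) : Prop where
  prime : r.Prime
  odd : r ≠ 2
  ne : (r : F) ≠ 0
  hi : i = orderOf (Fintype.card F : ZMod r)
  ht : t * i = r - 1

variable [Fintype F] {r i t : ℕ}

theorem orderOf_card (h : Ctx F r i t) :
    ∃ (p e : ℕ) (hp : p.Prime) (hpr : p.Coprime r), CharP F p ∧ Fintype.card F = p ^ e ∧
      orderOf (ZMod.unitOfCoprime _ (hpr.pow_left e)) = i := by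
  obtain ⟨p, hp⟩ := CharP.exists F
  haveI := hp
  haveI : Fact p.Prime := ⟨CharP.char_is_prime F p⟩
  obtain ⟨e, -, he⟩ := FiniteField.card F p
  have hpr : p.Coprime r := (Nat.coprime_primes Fact.out h.prime).2 fun e' => h.ne (e' ▸ CharP.cast_eq_zero F p)
  exact ⟨p, e, Fact.out, hpr, hp, he, by rw [h.hi, he, ← orderOf_units, ZMod.coe_unitOfCoprime]⟩

theorem i_pos (h : Ctx F r i t) : 0 < i := by
  obtain ⟨p, e, -, hpr, -, -, hord⟩ := orderOf_card h
  exact hord ▸ orderOf_pos _

theorem mem_data (h : Ctx F r i t) {f : F[X]} (hf : f ∈ factorSet F r) :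
    f.Monic ∧ Irreducible f ∧ f.natDegree = i ∧ f ∣ cyclotomic r F := by
  classical
  obtain ⟨p, e, hp, hpr, hch, he, hord⟩ := orderOf_card h
  haveI := hch
  haveI := Fact.mk hp
  rw [factorSet, Multiset.mem_toFinset] at hf
  refine ⟨?_, irreducible_of_normalized_factor f hf, ?_, dvd_of_mem_normalizedFactors hf⟩
  · rw [← normalize_normalized_factor f hf]; exact monic_normalize (irreducible_of_normalized_factor f hf).ne_zero
  · rw [natDegree_of_mem_normalizedFactors_cyclotomic he hpr hf, hord]

theorem card_factorSet (h : Ctx F r i t) : (factorSet F r).card = t := by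
  classical
  obtain ⟨p, e, hp, hpr, hch, he, hord⟩ := orderOf_card h
  haveI := hch
  haveI := Fact.mk hp
  rw [factorSet, normalizedFactors_cyclotomic_card he hpr, hord, Nat.totient_prime h.prime, ← h.ht,
    Nat.mul_div_cancel _ (i_pos h)]

theorem dvd_X_pow_iff (h : Ctx F r i t) {f : F[X]} (hf : f.Monic) (hirr : Irreducible f) :
    f ∣ X ^ r - 1 ↔ f = X - Polynomial.C 1 ∨ f ∈ factorSet F r := by
  classical
  haveI : Fact r.Prime := ⟨h.prime⟩
  rw [← cyclotomic_prime_mul_X_sub_one F r, ← map_one Polynomial.C]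
  constructor
  · intro hd
    rcases (hirr.prime).dvd_or_dvd hd with hd | hd
    · right
      obtain ⟨f', hf', hff'⟩ := exists_mem_normalizedFactors_of_dvd (cyclotomic_ne_zero r F) hirr hd
      rw [factorSet, Multiset.mem_toFinset, Associated.eq_of_normalized hff' (hf.normalize_eq_self)
        (normalize_normalized_factor f' hf')]
      exact hf'
    · exact Or.inl (Polynomial.eq_of_monic_of_associated hf (monic_X_sub_C 1)
        (hirr.associated_of_dvd (irreducible_X_sub_C 1) hd))
  · rintro (rfl | hm)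
    · exact dvd_mul_left _ _
    · exact (mem_data h hm).2.2.2.mul_right _

theorem X_sub_one_notMem (h : Ctx F r i t) : (X - Polynomial.C 1 : F[X]) ∉ factorSet F r := fun hm => by
  haveI : Fact r.Prime := ⟨h.prime⟩
  obtain ⟨w, hw⟩ := (mem_data h hm).2.2.2
  have he1 := congrArg (eval 1) hw
  rw [eval_one_cyclotomic_prime, eval_mul, eval_sub, eval_X, eval_C, sub_self, zero_mul] at he1
  exact h.ne he1

theorem dvd_pow_sub_one (h : Ctx F r i t) {f : F[X]} (hf : f ∈ factorSet F r) : f ∣ X ^ r - 1 :=
  (dvd_X_pow_iff h (mem_data h hf).1 (mem_data h hf).2.1).2 (Or.inr hf)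

theorem coeff_zero_ne (h : Ctx F r i t) {f : F[X]} (hf : f ∣ X ^ r - 1) : f.coeff 0 ≠ 0 := fun h0 => by
  obtain ⟨w, hw⟩ := hf
  have h2 := congrArg (fun P => Polynomial.coeff P 0) hw
  simp [mul_coeff_zero, h0, coeff_X_pow, h.prime.ne_zero.symm] at h2

theorem rdual_rdual (h : Ctx F r i t) {f : F[X]} (hf : f ∈ factorSet F r) : rdual (rdual f) = f :=
  cdual_cdual _ (fun _ => rfl) (mem_data h hf).1 (coeff_zero_ne h (dvd_pow_sub_one h hf))

/-- The root of a factor is a non-trivial `r`-th root of one. -/
theorem orderOf_root (h : Ctx F r i t) {f : F[X]} [Fact (Irreducible f)] (hf : f ∈ factorSet F r) :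
    orderOf (AdjoinRoot.root f) = r := by
  obtain ⟨hfm, hfi, -, -⟩ := mem_data h hf
  obtain ⟨w, hw⟩ := dvd_pow_sub_one h hf
  have hzr : AdjoinRoot.root f ^ r = 1 := by
    have := congrArg (AdjoinRoot.mk f) hw
    rw [map_mul, AdjoinRoot.mk_self, zero_mul, map_sub, map_pow, AdjoinRoot.mk_X, map_one] at this
    exact sub_eq_zero.1 this
  refine (h.prime.eq_one_or_self_of_dvd _ (orderOf_dvd_of_pow_eq_one hzr)).resolve_left fun e => ?_
  have hmin : minpoly F (AdjoinRoot.root f) = f := by
    rw [AdjoinRoot.minpoly_root hfi.ne_zero, hfm.leadingCoeff, inv_one, map_one, mul_one]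
  rw [orderOf_eq_one_iff.1 e, minpoly.one] at hmin
  exact X_sub_one_notMem h (by rw [map_one, hmin]; exact hf)

/-- Reciprocals of factors are factors, equal to them iff `i` is even. -/
theorem rdual_mem (h : Ctx F r i t) {f : F[X]} (hf : f ∈ factorSet F r) :
    rdual f ∈ factorSet F r ∧ (rdual f = f ↔ Even i) := by
  classical
  haveI : Fact r.Prime := ⟨h.prime⟩
  obtain ⟨p, e, hp, hpr, hch, he, hord⟩ := orderOf_card h
  obtain ⟨hfm, hfi, hfd, hfc⟩ := mem_data h hf
  haveI := Fact.mk hfi
  haveI := hfm.finite_adjoinRoot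
  haveI : Finite (AdjoinRoot f) := Module.finite_of_finite F
  set c : ZMod r := (Fintype.card F : ZMod r) with hc
  set z := AdjoinRoot.root f with hz
  have hzo : orderOf z = r := orderOf_root h hf
  have hzr : z ^ r = 1 := by rw [← hzo]; exact pow_orderOf_eq_one z
  have hz0 : z ≠ 0 := fun h' => by rw [h', zero_pow h.prime.ne_zero] at hzr; exact zero_ne_one hzr
  have hzz : IsOfFinOrder z := isOfFinOrder_iff_pow_eq_one.2 ⟨r, h.prime.pos, hzr⟩
  have hroot : aeval z f = 0 := AdjoinRoot.eval₂_root f
  have h0 := coeff_zero_ne h (dvd_pow_sub_one h hf)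
  have hwroot : aeval z⁻¹ (rdual f) = 0 := rdual_root hz0 hroot
  have hτm : (rdual f).Monic := cdual_monic _ h0
  have hτi : Irreducible (rdual f) := irreducible_cdual _ (fun _ => rfl) hfm h0 hfi
  have hτw : minpoly F z⁻¹ = rdual f := (minpoly.eq_of_irreducible_of_monic hτi hwroot hτm).symm
  have hdvd : rdual f ∣ X ^ r - 1 := by
    rw [← hτw]; exact minpoly.dvd F _ (by simp [hzr])
  refine ⟨((dvd_X_pow_iff h hτm hτi).1 hdvd).resolve_left fun he' => X_sub_one_notMem h (by
    have h2 := rdual_rdual h hf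
    rw [he', rdual_X_sub_one] at h2
    rw [h2]; exact hf), ?_⟩
  have hpow : ∀ j : ℕ, z⁻¹ = z ^ (Fintype.card F) ^ j ↔ c ^ j = -1 := fun j => by
    rw [show (z⁻¹ = z ^ (Fintype.card F) ^ j ↔ z * z ^ (Fintype.card F) ^ j = 1) from
      ⟨fun h' => by rw [← h']; exact mul_inv_cancel₀ hz0, fun h' => (eq_inv_of_mul_eq_one_right h').symm⟩,
      ← pow_succ', ← orderOf_dvd_iff_pow_eq_one, hzo, ← ZMod.natCast_eq_zero_iff, Nat.cast_succ, Nat.cast_pow,
      add_eq_zero_iff_eq_neg]
  have hconj : ∀ j : ℕ, aeval (z ^ (Fintype.card F) ^ j) f = 0 := fun j => by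
    induction j with
    | zero => rw [pow_zero, pow_one]; exact hroot
    | succ j ih =>
      rw [pow_succ, pow_mul, show (z ^ Fintype.card F ^ j) ^ Fintype.card F =
        FiniteField.frobeniusAlgHom F (AdjoinRoot f) (z ^ Fintype.card F ^ j) from rfl,
        Polynomial.aeval_algHom_apply, ih, map_zero]
  have hci : c ^ i = 1 := h.hi ▸ pow_orderOf_eq_one c
  constructor
  · intro hfix
    rw [hfix] at hwroot
    set R : Finset (AdjoinRoot f) := (Finset.range i).image fun j => z ^ (Fintype.card F) ^ j
    have hRcard : R.card = i := by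
      rw [Finset.card_image_of_injOn, Finset.card_range]
      intro a ha a' ha' heq
      simp only [Finset.coe_range, Set.mem_Iio] at ha ha'
      rw [hzz.pow_eq_pow_iff_modEq, hzo, ← ZMod.natCast_eq_natCast_iff, he] at heq
      simp only [Nat.cast_pow] at heq
      rw [← Nat.cast_pow, ← ZMod.coe_unitOfCoprime _ (hpr.pow_left e)] at heq
      refine pow_injOn_Iio_orderOf (G := (ZMod r)ˣ) (x := ZMod.unitOfCoprime _ (hpr.pow_left e))
        (by rwa [Set.mem_Iio, hord]) (by rwa [Set.mem_Iio, hord]) ?_
      exact Units.ext (by rw [Units.val_pow_eq_pow_val, Units.val_pow_eq_pow_val]; exact heq)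
    have hroots : R ⊆ (f.map (algebraMap F (AdjoinRoot f))).roots.toFinset := by
      intro x hx
      obtain ⟨j, -, rfl⟩ := Finset.mem_image.1 hx
      rw [Multiset.mem_toFinset, mem_roots (map_monic_ne_zero hfm), IsRoot.def, eval_map, ← Polynomial.aeval_def]
      exact hconj j
    have hle : (f.map (algebraMap F (AdjoinRoot f))).roots.toFinset.card ≤ i :=
      (Multiset.toFinset_card_le _).trans ((card_roots' _).trans (by rw [natDegree_map, hfd]))
    have heq := Finset.eq_of_subset_of_card_le hroots (by rw [hRcard]; exact hle)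
    have hw : z⁻¹ ∈ R := by
      rw [heq, Multiset.mem_toFinset, mem_roots (map_monic_ne_zero hfm), IsRoot.def, eval_map, ← Polynomial.aeval_def]
      exact hwroot
    obtain ⟨j, -, hj⟩ := Finset.mem_image.1 hw
    by_contra hodd
    rw [Nat.not_even_iff_odd] at hodd
    have h1 : (c ^ j) ^ i = (-1 : ZMod r) ^ i := by rw [(hpow j).1 hj.symm]
    rw [hodd.neg_one_pow, ← pow_mul, mul_comm, pow_mul, hci, one_pow] at h1
    have h20 : ((2 : ℕ) : ZMod r) = 0 := by push_cast; linear_combination h1
    exact h.odd ((Nat.prime_dvd_prime_iff_eq h.prime Nat.prime_two).1 ((ZMod.natCast_eq_zero_iff _ _).1 h20))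
  · rintro ⟨l, hl⟩
    have h1 : c ^ l ≠ 1 := fun h' => by
      have hd := orderOf_dvd_of_pow_eq_one h'
      rw [← h.hi] at hd
      have := i_pos h
      have := Nat.le_of_dvd (by omega) hd
      omega
    have h2 : c ^ l = -1 := by
      refine (mul_self_eq_one_iff.1 ?_).resolve_left h1
      rw [← pow_add, ← hl, hci]
    have hfw : aeval z⁻¹ f = 0 := by rw [(hpow l).2 h2]; exact hconj l
    rw [← hτw]
    exact (minpoly.eq_of_irreducible_of_monic hfi hfw hfm).symm

/-- The basic self-reciprocal polynomial of a factor. -/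
noncomputable def basic (i : ℕ) (f : F[X]) : F[X] := if Even i then f else f * rdual f

/-- The degree of the basic polynomials. -/
def basicDeg (i : ℕ) : ℕ := if Even i then i else 2 * i

theorem basicDeg_pos (h : Ctx F r i t) : 0 < basicDeg i := by
  have := i_pos h
  unfold basicDeg
  split_ifs <;> omega

theorem even_basicDeg (i : ℕ) : Even (basicDeg i) := by
  unfold basicDeg
  split_ifs with h
  · exact h
  · exact even_two_mul i

theorem basic_data (h : Ctx F r i t) {f : F[X]} (hf : f ∈ factorSet F r) :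
    (basic i f).Monic ∧ (basic i f).natDegree = basicDeg i ∧ rdual (basic i f) = basic i f := by
  obtain ⟨hm, -, hd, -⟩ := mem_data h hf
  obtain ⟨hτ, hiff⟩ := rdual_mem h hf
  unfold basic basicDeg
  split_ifs with he
  · exact ⟨hm, hd, hiff.2 he⟩
  · refine ⟨hm.mul (mem_data h hτ).1, ?_, ?_⟩
    · rw [hm.natDegree_mul (mem_data h hτ).1, hd, (mem_data h hτ).2.2.1, two_mul]
    · rw [rdual_mul, rdual_rdual h hf, mul_comm]

theorem eq_or_eq_of_dvd_basic (h : Ctx F r i t) {f g : F[X]} (hf : f ∈ factorSet F r) (hg : g.Monic)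
    (hgi : Irreducible g) (hd : g ∣ basic i f) : g = f ∨ g = rdual f := by
  unfold basic at hd
  split_ifs at hd
  · exact Or.inl (Polynomial.eq_of_monic_of_associated hg (mem_data h hf).1
      (hgi.associated_of_dvd (mem_data h hf).2.1 hd))
  · rcases hgi.prime.dvd_or_dvd hd with h1 | h1
    · exact Or.inl (Polynomial.eq_of_monic_of_associated hg (mem_data h hf).1
        (hgi.associated_of_dvd (mem_data h hf).2.1 h1))
    · exact Or.inr (Polynomial.eq_of_monic_of_associated hg (mem_data h (rdual_mem h hf).1).1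
        (hgi.associated_of_dvd (mem_data h (rdual_mem h hf).1).2.1 h1))

theorem basic_rdual (h : Ctx F r i t) {f : F[X]} (hf : f ∈ factorSet F r) : basic i (rdual f) = basic i f := by
  unfold basic
  split_ifs with he
  · exact (rdual_mem h hf).2.2 he
  · rw [rdual_rdual h hf, mul_comm]

/-- The basic self-reciprocal polynomials. -/
noncomputable def basics (F : Type*) [Field F] (r i : ℕ) : Finset F[X] := by
  classical exact (factorSet F r).image (basic i)

theorem mem_basics {u : F[X]} : u ∈ basics F r i ↔ ∃ f ∈ factorSet F r, basic i f = u := by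
  classical
  simp [basics]

theorem card_basics (h : Ctx F r i t) : (basics F r i).card = if Even i then t else t / 2 := by
  classical
  by_cases he : Even i
  · rw [if_pos he, ← card_factorSet h, basics]
    refine Finset.card_image_of_injOn fun f hf g hg hfg => ?_
    simpa [basic, if_pos he] using hfg
  · rw [if_neg he, ← card_factorSet h, basics, Finset.card_eq_sum_card_image (basic i) (factorSet F r)]
    rw [Finset.sum_const_nat (m := 2) fun u hu => ?_, Nat.mul_div_cancel _ two_pos]
    obtain ⟨f, hf, rfl⟩ := Finset.mem_image.1 hu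
    have hne : rdual f ≠ f := fun h' => he ((rdual_mem h hf).2.1 h')
    rw [show ((factorSet F r).filter fun g => basic i g = basic i f) = {f, rdual f} from ?_,
      Finset.card_pair hne.symm]
    ext g
    simp only [Finset.mem_filter, Finset.mem_insert, Finset.mem_singleton]
    constructor
    · rintro ⟨hg, hgf⟩
      refine eq_or_eq_of_dvd_basic h hf (mem_data h hg).1 (mem_data h hg).2.1 ?_
      rw [← hgf, basic, if_neg he]
      exact dvd_mul_right _ _
    · rintro (rfl | rfl)
      · exact ⟨hf, rfl⟩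
      · exact ⟨(rdual_mem h hf).1, basic_rdual h hf⟩

/-- Self-reciprocal monic polynomials of degree `n` all whose factors divide `X ^ r - 1`. -/
def selfRecip (F : Type*) [Field F] (r n : ℕ) : Set F[X] :=
  {P | P.Monic ∧ P.natDegree = n ∧ rdual P = P ∧ ∀ f : F[X], f.Monic → Irreducible f → f ∣ P → f ∣ X ^ r - 1}

theorem selfRecip_eq (h : Ctx F r i t) (n : ℕ) :
    selfRecip F r n = SelfDualCount.prodsOf (basics F r i) n := by
  classical
  ext P
  constructor
  · rintro ⟨hP, hPd, hPs, hPf⟩
    have key : ∀ d, ∀ Q : F[X], Q.natDegree = d → Q.Monic → rdual Q = Q →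
        (∀ f : F[X], f.Monic → Irreducible f → f ∣ Q → f ∣ X ^ r - 1) →
        ∃ (N : Multiset F[X]) (k : ℕ), (∀ u ∈ N, u ∈ basics F r i) ∧ Q = N.prod * (X - Polynomial.C 1) ^ k := by
      intro d
      induction d using Nat.strong_induction_on with
      | _ d ih =>
      intro Q hd hQ hQs hQf
      rcases Nat.eq_zero_or_pos d with rfl | hpos
      · exact ⟨0, 0, by simp, by rw [hQ.natDegree_eq_zero.1 hd]; simp⟩
      obtain ⟨f, hfm, hfi, Q', hQ'⟩ := Polynomial.exists_monic_irreducible_factor Q
        (fun hu => by rw [Polynomial.natDegree_eq_zero_of_isUnit hu] at hd; omega)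
      have step : ∀ u : F[X], u.Monic → 0 < u.natDegree → rdual u = u → u ∣ Q →
          ∃ (N : Multiset F[X]) (k : ℕ), (∀ v ∈ N, v ∈ basics F r i) ∧
            Q = u * (N.prod * (X - Polynomial.C 1) ^ k) := by
        intro u hu hud hus ⟨Q₁, hQ₁⟩
        have hQ₁m : Q₁.Monic := hu.of_mul_monic_left (hQ₁ ▸ hQ)
        obtain ⟨N, k, hN, hNk⟩ := ih Q₁.natDegree (by rw [← hd, hQ₁, hu.natDegree_mul hQ₁m]; omega) Q₁ rfl hQ₁m
          (by
            refine mul_left_cancel₀ hu.ne_zero ?_
            calc u * rdual Q₁ = rdual u * rdual Q₁ := by rw [hus]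
              _ = rdual (u * Q₁) := (rdual_mul u Q₁).symm
              _ = u * Q₁ := by rw [← hQ₁, hQs])
          (fun f' h1 h2 h3 => hQf f' h1 h2 (h3.trans (hQ₁ ▸ dvd_mul_left Q₁ u)))
        exact ⟨N, k, hN, by rw [hQ₁, hNk]⟩
      rcases (dvd_X_pow_iff h hfm hfi).1 (hQf f hfm hfi (hQ' ▸ dvd_mul_right f Q')) with rfl | hfT
      · obtain ⟨N, k, hN, hQN⟩ := step _ (monic_X_sub_C 1) (by rw [natDegree_X_sub_C]; exact one_pos)
          rdual_X_sub_one (hQ' ▸ dvd_mul_right _ Q')
        exact ⟨N, k + 1, hN, by rw [hQN]; ring⟩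
      · have hdiv : basic i f ∣ Q := by
          unfold basic
          split_ifs with he
          · rw [hQ']; exact dvd_mul_right _ _
          · refine IsCoprime.mul_dvd (hfi.coprime_iff_not_dvd.2 fun hd' => he ?_) (hQ' ▸ dvd_mul_right _ _) ?_
            · exact (rdual_mem h hfT).2.1 (Polynomial.eq_of_monic_of_associated hfm
                (mem_data h (rdual_mem h hfT).1).1
                (hfi.associated_of_dvd (mem_data h (rdual_mem h hfT).1).2.1 hd')).symm
            · rw [← hQs, hQ', rdual_mul]; exact dvd_mul_right _ _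
        obtain ⟨hum, hud, hus⟩ := basic_data h hfT
        obtain ⟨N, k, hN, hQN⟩ := step _ hum (by rw [hud]; exact basicDeg_pos h) hus hdiv
        refine ⟨basic i f ::ₘ N, k, fun v hv => ?_, by rw [hQN, Multiset.prod_cons, mul_assoc]⟩
        rcases Multiset.mem_cons.1 hv with rfl | hv
        exacts [mem_basics.2 ⟨f, hfT, rfl⟩, hN v hv]
    obtain ⟨N, k, hN, hNk⟩ := key _ P rfl hP hPs hPf
    exact ⟨N, k, hN, hNk, hPd⟩
  · rintro ⟨N, k, hN, rfl, hPd⟩
    have hNm : N.prod.Monic := by
      simpa using monic_multiset_prod_of_monic N id fun u hu => by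
        obtain ⟨f, hf, rfl⟩ := mem_basics.1 (hN u hu)
        exact (basic_data h hf).1
    refine ⟨hNm.mul ((monic_X_sub_C 1).pow k), hPd, ?_, fun g hg hgi hd => ?_⟩
    · rw [rdual_mul, rdual_X_sub_one_pow]
      congr 1
      clear hPd hNm
      induction N using Multiset.induction with
      | empty => rw [Multiset.prod_zero, rdual_one]
      | cons u N ih =>
        obtain ⟨f, hf, hfu⟩ := mem_basics.1 (hN u (Multiset.mem_cons_self u N))
        rw [Multiset.prod_cons, rdual_mul, ih fun v hv => hN v (Multiset.mem_cons_of_mem hv), ← hfu,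
          (basic_data h hf).2.2]
    · refine (dvd_X_pow_iff h hg hgi).2 ?_
      rcases hgi.prime.dvd_or_dvd hd with hd | hd
      · obtain ⟨u, hu, hgu⟩ := (hgi.prime).exists_mem_multiset_dvd hd
        obtain ⟨f, hf, rfl⟩ := mem_basics.1 (hN u hu)
        rcases eq_or_eq_of_dvd_basic h hf hg hgi hgu with rfl | rfl
        exacts [Or.inr hf, Or.inr (rdual_mem h hf).1]
      · exact Or.inl (Polynomial.eq_of_monic_of_associated hg (monic_X_sub_C 1)
          (hgi.associated_of_dvd (irreducible_X_sub_C 1) (hgi.prime.dvd_of_dvd_pow hd)))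

/-- The number of self-reciprocal polynomials. -/
theorem ncard_selfRecip (h : Ctx F r i t) (n : ℕ) :
    (selfRecip F r n).ncard =
      if Even i then Nat.choose (n / i + t) t else Nat.choose (n / (2 * i) + t / 2) (t / 2) := by
  classical
  have hrepex : ∀ u : basics F r i, ∃ f ∈ factorSet F r, basic i f = u.1 := fun u => mem_basics.1 u.2
  choose rep hrepT hrepu using hrepex
  rw [selfRecip_eq h, SelfDualCount.ncard_prodsOf (D := basicDeg i) (basicDeg_pos h) (basics F r i)
    (fun u hu => by obtain ⟨f, hf, rfl⟩ := mem_basics.1 hu; exact ⟨(basic_data h hf).1, (basic_data h hf).2.1⟩) rep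
    (fun u => ⟨(mem_data h (hrepT u)).1, (mem_data h (hrepT u)).2.1, fun he => X_sub_one_notMem h (he ▸ hrepT u)⟩)
    (fun u v => by
      have hp := (mem_data h (hrepT u)).2.1.prime
      split_ifs with huv
      · subst huv
        rw [← hrepu u, basic]
        split_ifs with he
        · exact multiplicity_self
        · rw [multiplicity_mul hp (FiniteMultiplicity.of_prime_left hp (mul_ne_zero (mem_data h (hrepT u)).2.1.ne_zero
              (mem_data h (rdual_mem h (hrepT u)).1).2.1.ne_zero)), multiplicity_self,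
            multiplicity_eq_zero.2 fun hd => he ((rdual_mem h (hrepT u)).2.1 (Polynomial.eq_of_monic_of_associated
              (mem_data h (rdual_mem h (hrepT u)).1).1 (mem_data h (hrepT u)).1
              ((mem_data h (hrepT u)).2.1.associated_of_dvd (mem_data h (rdual_mem h (hrepT u)).1).2.1 hd).symm))]
      · refine multiplicity_eq_zero.2 fun hd => huv ?_
        rw [← hrepu v] at hd
        apply Subtype.ext
        rw [← hrepu u, ← hrepu v]
        rcases eq_or_eq_of_dvd_basic h (hrepT v) (mem_data h (hrepT u)).1 (mem_data h (hrepT u)).2.1 hd with e | e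
        · rw [e]
        · rw [e, basic_rdual h (hrepT v)]), card_basics h, basicDeg]
  split_ifs <;> rfl

end Cfsg.Agent.SelfReciprocalFactors
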