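import Mathlib

/-!
A square matrix over a field is similar to its transpose: a symmetric invertible intertwiner is assembled from
the cyclic summands of the module of the matrix.
-/

set_option autoImplicit false

namespace Cfsg.Agent.Classical.SimilarTranspose

open Polynomial Matrix

variable {F : Type*} [Field F]

/-- A functional on a proper cyclic quotient with no nonzero ideal in its kernel. -/
theorem exists_functional (q : F[X]) (hq : q ≠ 0) :
    ∃ φ : (F[X] ⧸ Ideal.span ({q} : Set F[X])) →ₗ[F] F, ∀ u, (∀ v, φ (u * v) = 0) → u = 0 := by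
  classical
  set q' := q * C q.leadingCoeff⁻¹ with hq'
  have hm : q'.Monic := monic_mul_leadingCoeff_inv hq
  have hsp : Ideal.span ({q} : Set F[X]) = Ideal.span {q'} := by
    rw [hq']
    exact (Ideal.span_singleton_mul_right_unit
      (isUnit_C.2 (inv_ne_zero (leadingCoeff_ne_zero.2 hq)).isUnit) q).symm
  set d := q'.natDegree with hd
  let f : F[X] →ₗ[F] F := (lcoeff F (d - 1)).comp (modByMonicHom q')
  have hker : (Ideal.span ({q} : Set F[X])).restrictScalars F ≤ LinearMap.ker f := by
    intro x hx
    rw [Submodule.restrictScalars_mem, hsp, Ideal.mem_span_singleton] at hx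
    simp [f, (modByMonic_eq_zero_iff_dvd hm).2 hx]
  refine ⟨(Submodule.liftQ _ f hker).comp (Submodule.Quotient.restrictScalarsEquiv F (Ideal.span ({q} : Set F[X]))).symm.toLinearMap,
    fun u hu => ?_⟩
  obtain ⟨p, rfl⟩ := Ideal.Quotient.mk_surjective u
  set r := p %ₘ q' with hr
  by_contra hne
  have hr0 : r ≠ 0 := fun h => hne (by
    rw [Ideal.Quotient.eq_zero_iff_mem, hsp, Ideal.mem_span_singleton]
    exact (modByMonic_eq_zero_iff_dvd hm).1 h)
  have hdeg : r.natDegree < d := by
    refine natDegree_modByMonic_lt p hm fun h1 => hr0 ?_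
    rw [hr, h1, modByMonic_one]
  have h := hu (Ideal.Quotient.mk _ (X ^ (d - 1 - r.natDegree)))
  rw [← map_mul] at h
  change f (p * X ^ (d - 1 - r.natDegree)) = 0 at h
  have hmod : (p * X ^ (d - 1 - r.natDegree)) %ₘ q' = r * X ^ (d - 1 - r.natDegree) := by
    rw [modByMonic_eq_of_dvd_sub hm (p₂ := r * X ^ (d - 1 - r.natDegree))
      (by rw [← sub_mul]; exact Dvd.dvd.mul_right (by rw [hr, modByMonic_eq_sub_mul_div, sub_sub_cancel]; exact dvd_mul_right _ _) _)]
    rw [(modByMonic_eq_self_iff hm).2]
    rw [degree_mul, degree_X_pow, degree_eq_natDegree hr0, degree_eq_natDegree hm.ne_zero]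
    exact_mod_cast (show r.natDegree + (d - 1 - r.natDegree) < d by omega)
  simp only [f, LinearMap.comp_apply, modByMonicHom_apply, lcoeff_apply, hmod] at h
  have h2 : (r * X ^ (d - 1 - r.natDegree)).coeff (r.natDegree + (d - 1 - r.natDegree)) = r.leadingCoeff :=
    coeff_mul_X_pow r _ _
  rw [show r.natDegree + (d - 1 - r.natDegree) = d - 1 by omega, h] at h2
  exact leadingCoeff_ne_zero.2 hr0 h2.symm

universe u

/-- A symmetric invertible matrix intertwining a matrix and its transpose. -/
theorem exists_symm_intertwiner {F : Type u} [Field F] {ι : Type} [Fintype ι] [DecidableEq ι] (A : Matrix ι ι F) :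
    ∃ S : Matrix ι ι F, IsUnit S ∧ Sᵀ = S ∧ S * A = Aᵀ * S := by
  classical
  set T : (ι → F) →ₗ[F] (ι → F) := Matrix.toLin' A with hT
  haveI : Module.Finite F[X] (Module.AEval' T) := inferInstance
  have htor : Module.IsTorsion F[X] (Module.AEval' T) := by
    intro x
    refine ⟨⟨T.charpoly, mem_nonZeroDivisors_of_ne_zero T.charpoly_monic.ne_zero⟩, ?_⟩
    obtain ⟨v, rfl⟩ := (Module.AEval'.of T).surjective x
    show T.charpoly • Module.AEval'.of T v = 0
    rw [show T.charpoly • Module.AEval'.of T v = Module.AEval'.of T (aeval T T.charpoly • v) from rfl,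
      LinearMap.aeval_self_charpoly, zero_smul, map_zero]
  obtain ⟨I, hI, p, hp, e, ⟨E⟩⟩ := Module.equiv_directSum_of_isTorsion htor
  have hq : ∀ i, p i ^ e i ≠ 0 := fun i => pow_ne_zero _ (hp i).ne_zero
  choose φ hφ using fun i => exists_functional (p i ^ e i) (hq i)
  let c : (i : I) → (ι → F) →ₗ[F] (F[X] ⧸ Ideal.span ({p i ^ e i} : Set F[X])) := fun i =>
    ((DirectSum.component F[X] I (fun i => F[X] ⧸ Ideal.span ({p i ^ e i} : Set F[X])) i).comp E.toLinearMap
      ).restrictScalars F ∘ₗ (Module.AEval'.of T).toLinearMap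
  let B : (ι → F) → (ι → F) → F := fun x y => ∑ i, φ i (c i x * c i y)
  have hBA : ∀ x y, B (A *ᵥ x) y = B x (A *ᵥ y) := by
    intro x y
    have hX : ∀ i z, c i (A *ᵥ z) = Ideal.Quotient.mk _ X * c i z := by
      intro i z
      have h : Module.AEval'.of T (A *ᵥ z) = (X : F[X]) • Module.AEval'.of T z := by
        rw [Module.AEval'.X_smul_of, hT, Matrix.toLin'_apply]
      show DirectSum.component F[X] I _ i (E (Module.AEval'.of T (A *ᵥ z))) = _
      rw [h, map_smul, map_smul]
      rfl
    refine Finset.sum_congr rfl fun i _ => ?_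
    rw [hX, hX]
    ring_nf
  have hBs : ∀ x y, B x y = B y x := fun x y => Finset.sum_congr rfl fun i _ => by rw [mul_comm]
  let S : Matrix ι ι F := Matrix.of fun a b => B (Pi.single a 1) (Pi.single b 1)
  have hS : ∀ x y, x ⬝ᵥ (S *ᵥ y) = B x y := by
    intro x y
    let Bl : LinearMap.BilinForm F (ι → F) := LinearMap.mk₂ F B
      (fun a b c => by simp [B, add_mul, Finset.sum_add_distrib])
      (fun r a b => by simp [B, Finset.mul_sum, smul_mul_assoc, mul_smul_comm])
      (fun a b c => by simp [B, mul_add, Finset.sum_add_distrib])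
      (fun r a b => by simp [B, Finset.mul_sum, smul_mul_assoc, mul_smul_comm])
    have h : S = LinearMap.BilinForm.toMatrix' Bl := by
      ext a b
      simp [S, Bl, LinearMap.BilinForm.toMatrix'_apply]
    rw [h, ← Matrix.toBilin'_apply', Matrix.toBilin'_toMatrix']
    rfl
  refine ⟨S, ?_, ?_, ?_⟩
  · rw [Matrix.isUnit_iff_isUnit_det, isUnit_iff_ne_zero]
    intro hdet
    obtain ⟨y, hy0, hy⟩ := Matrix.exists_mulVec_eq_zero_iff.2 hdet
    apply hy0
    have hz : ∀ x, B x y = 0 := fun x => by rw [← hS, hy, dotProduct_zero]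
    suffices hc : ∀ i, c i y = 0 by
      have : E (Module.AEval'.of T y) = 0 := DirectSum.ext_component F[X] fun i => by rw [map_zero]; exact hc i
      simpa using this
    intro i
    refine hφ i _ fun v => ?_
    obtain ⟨x, hx⟩ : ∃ x, E (Module.AEval'.of T x) = DirectSum.lof F[X] I _ i v :=
      ⟨(Module.AEval'.of T).symm (E.symm (DirectSum.lof F[X] I _ i v)), by simp⟩
    have h := hz x
    simp only [B] at h
    rw [Finset.sum_eq_single i] at h
    · rw [mul_comm]
      have hci : c i x = v := by
        show DirectSum.component F[X] I _ i (E (Module.AEval'.of T x)) = v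
        rw [hx]; simp
      rwa [hci] at h
    · intro j _ hji
      have hcj : c j x = 0 := by
        show DirectSum.component F[X] I _ j (E (Module.AEval'.of T x)) = 0
        rw [hx, DirectSum.component.of, dif_neg (Ne.symm hji)]
      rw [hcj, zero_mul, map_zero]
    · simp
  · ext a b
    exact hBs _ _
  · refine Matrix.ext_of_mulVec_single fun b => funext fun a => ?_
    have h := hBA (Pi.single a 1) (Pi.single b 1)
    rw [← hS, ← hS, Matrix.mulVec_mulVec] at h
    rw [← single_one_dotProduct a ((S * A) *ᵥ _), ← h, ← single_one_dotProduct a ((Aᵀ * S) *ᵥ _),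
      ← Matrix.mulVec_mulVec, Matrix.dotProduct_mulVec _ Aᵀ, Matrix.vecMul_transpose]

theorem isConj_transpose {ι : Type} [Fintype ι] [DecidableEq ι] (A : Matrix ι ι F) : IsConj A Aᵀ := by
  obtain ⟨S, hS, -, h⟩ := exists_symm_intertwiner A
  exact ⟨hS.unit, h⟩

end Cfsg.Agent.Classical.SimilarTranspose
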