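import Mathlib
import Cfsg.Prelude.Def_Classical

/-! An orthogonal group acting on its singular vectors. -/

set_option autoImplicit false

namespace Cfsg.Agent.Classical.SingularPerm

open Matrix

variable {ι : Type} [Fintype ι] [DecidableEq ι] {F : Type*} [Field F] (Q : (ι → F) → F)

/-- The nonzero singular vectors. -/
abbrev Sing : Type _ := {v : ι → F // v ≠ 0 ∧ Q v = 0}

theorem isom_apply (g : Cfsg.isometryGroup F Q) (v : ι → F) :
    Q ((g : Matrix.GeneralLinearGroup ι F).val *ᵥ v) = Q v := g.2 v v

theorem mulVec_inj (g : Matrix.GeneralLinearGroup ι F) : Function.Injective fun v => g.val *ᵥ v := fun u v h => by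
  have h' := congrArg (fun w => (g⁻¹).val *ᵥ w) h
  simpa [Matrix.mulVec_mulVec, ← Units.val_mul] using h'

/-- The map of the singular vectors given by an isometry. -/
def move (g : Cfsg.isometryGroup F Q) (v : Sing Q) : Sing Q :=
  ⟨(g : Matrix.GeneralLinearGroup ι F).val *ᵥ v.1, fun h => v.2.1
    (mulVec_inj (g : Matrix.GeneralLinearGroup ι F) (show _ *ᵥ v.1 = _ *ᵥ 0 by rw [h, Matrix.mulVec_zero])),
    (isom_apply Q g v.1).trans v.2.2⟩

/-- The action on the nonzero singular vectors. -/
def toPerm : Cfsg.isometryGroup F Q →* Equiv.Perm (Sing Q) where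
  toFun g :=
    { toFun := move Q g
      invFun := move Q g⁻¹
      left_inv := fun v => Subtype.ext (by simp [move, Matrix.mulVec_mulVec, ← Units.val_mul])
      right_inv := fun v => Subtype.ext (by simp [move, Matrix.mulVec_mulVec, ← Units.val_mul]) }
  map_one' := by ext v; simp [move]
  map_mul' g h := by ext v; simp [move, Matrix.mulVec_mulVec]

/-- Faithfulness when the singular vectors span. -/
theorem toPerm_injective (hspan : Submodule.span F (Set.range fun v : Sing Q => v.1) = ⊤) :
    Function.Injective (toPerm Q) := by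
  intro g h e
  have key : ∀ v : ι → F, (g : Matrix.GeneralLinearGroup ι F).val *ᵥ v = (h : Matrix.GeneralLinearGroup ι F).val *ᵥ v :=
    fun v => by
    have heq : Set.EqOn (g : Matrix.GeneralLinearGroup ι F).val.mulVecLin
        (h : Matrix.GeneralLinearGroup ι F).val.mulVecLin (Set.range fun v : Sing Q => v.1) := by
      rintro _ ⟨s, rfl⟩
      exact congrArg Subtype.val (congrArg (fun p : Equiv.Perm (Sing Q) => p s) e)
    exact LinearMap.eqOn_span heq (show v ∈ Submodule.span F (Set.range fun v : Sing Q => v.1) by rw [hspan]; trivial)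
  exact Subtype.ext (Units.ext (Matrix.ext_of_mulVec_single fun i => key _))

end Cfsg.Agent.Classical.SingularPerm
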