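import Mathlib
import Cfsg.Agent.S5944

/-!
The subgroups of index six in the symmetric group of degree six.
-/

set_option autoImplicit false

namespace Cfsg.Agent.Classical.SixSub

open Equiv

local notation "S6" => Equiv.Perm (Fin 6)

/-- The five-cycle. -/
def cyc : Equiv.Perm (Fin 6) :=
  Equiv.swap 0 1 * Equiv.swap 1 2 * Equiv.swap 2 3 * Equiv.swap 3 4

/-- Normalising the five-cycle inside a point stabiliser. -/
def InN (g : Equiv.Perm (Fin 6)) : Prop :=
  g 5 = 5 ∧ (g * cyc * g⁻¹ = cyc ∨ g * cyc * g⁻¹ = cyc * cyc ∨ g * cyc * g⁻¹ = cyc * cyc * cyc ∨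
    g * cyc * g⁻¹ = cyc * cyc * cyc * cyc)

instance (g : Equiv.Perm (Fin 6)) : Decidable (InN g) := by unfold InN; infer_instance

/-- An element exchanging two points in the transitive subgroup. -/
def g0 : Equiv.Perm (Fin 6) := Equiv.swap 0 5 * Equiv.swap 2 3

/-- The five triple transpositions. -/
def pentad : List (Equiv.Perm (Fin 6)) :=
  [Equiv.swap 0 1 * Equiv.swap 2 4 * Equiv.swap 3 5, Equiv.swap 0 2 * Equiv.swap 1 5 * Equiv.swap 3 4,
   Equiv.swap 0 3 * Equiv.swap 1 2 * Equiv.swap 4 5, Equiv.swap 0 4 * Equiv.swap 1 3 * Equiv.swap 2 5,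
   Equiv.swap 0 5 * Equiv.swap 1 4 * Equiv.swap 2 3]

theorem card_inN : Fintype.card {g : S6 // InN g} = 20 := by decide +kernel

theorem cyc_five : cyc 5 = 5 ∧ cyc ^ 5 = 1 ∧ orderOf cyc ≠ 1 := by
  refine ⟨by decide +kernel, by decide +kernel, fun h => ?_⟩
  rw [orderOf_eq_one_iff] at h
  revert h; decide +kernel

theorem swap_not_inN : ¬ InN (Equiv.swap 0 5 * (cyc * Equiv.swap 0 5 * cyc⁻¹) * Equiv.swap 0 5) ∧
    (Equiv.swap 0 5 * (cyc * Equiv.swap 0 5 * cyc⁻¹) * Equiv.swap 0 5 : S6) 5 = 5 := by decide +kernel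

theorem candidates : ∀ g : S6, g 5 = 0 → (∀ n : S6, InN n → (g * n * g) 5 = 5 → InN (g * n * g)) →
    InN (g0⁻¹ * g) ∨ InN ((Equiv.swap 0 5 : S6)⁻¹ * g) := by decide +kernel

theorem card_exotic : Fintype.card {g : S6 // ∀ t ∈ pentad, g * t * g⁻¹ ∈ pentad} = 120 := by decide +kernel

theorem exotic_moves : ∀ a : Fin 6, ∃ g : S6, (∀ t ∈ pentad, g * t * g⁻¹ ∈ pentad) ∧ g a ≠ a := by decide +kernel

/-- A transitive subgroup of index six. -/
def exotic : Subgroup (Equiv.Perm (Fin 6)) where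
  carrier := {g | ∀ t ∈ pentad, g * t * g⁻¹ ∈ pentad}
  one_mem' := fun t ht => by simpa using ht
  mul_mem' := fun {g h} hg hh t ht => by
    rw [show g * h * t * (g * h)⁻¹ = g * (h * t * h⁻¹) * g⁻¹ by group]
    exact hg _ (hh t ht)
  inv_mem' := fun {g} hg t ht => by
    classical
    let f : {t // t ∈ pentad} → {t // t ∈ pentad} := fun t => ⟨g * t.1 * g⁻¹, hg _ t.2⟩
    have hf : Function.Injective f := fun a b h => Subtype.ext (by simpa [f] using h)
    obtain ⟨s, hs⟩ := (Finite.injective_iff_surjective.mp hf) ⟨t, ht⟩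
    have hs' : g * s.1 * g⁻¹ = t := congrArg Subtype.val hs
    rw [← hs', show g⁻¹ * (g * s.1 * g⁻¹) * g⁻¹⁻¹ = s.1 by group]
    exact s.2

theorem card_perm_six : Nat.card S6 = 720 := by
  rw [Nat.card_perm, Nat.card_eq_fintype_card, Fintype.card_fin]; rfl

theorem index_six_iff {H : Subgroup S6} : H.index = 6 ↔ Nat.card H = 120 := by
  have h := Subgroup.card_mul_index H
  rw [card_perm_six] at h
  constructor
  · intro e; rw [e] at h; omega
  · intro e; rw [e] at h; omega

theorem index_exotic : exotic.index = 6 :=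
  index_six_iff.mpr ((Nat.card_eq_fintype_card (α := {g : S6 // ∀ t ∈ pentad, g * t * g⁻¹ ∈ pentad})).trans card_exotic)

theorem exotic_no_fix (a : Fin 6) : exotic ≠ MulAction.stabilizer S6 a := by
  intro h
  obtain ⟨g, hg, hga⟩ := exotic_moves a
  exact hga (h ▸ hg : g ∈ MulAction.stabilizer S6 a)

theorem index_stab (a : Fin 6) : (MulAction.stabilizer S6 a).index = 6 := by
  rw [MulAction.index_stabilizer_of_transitive, Nat.card_eq_fintype_card, Fintype.card_fin]

/-- The conjugate of a subgroup. -/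
def cm (g : Equiv.Perm (Fin 6)) (H : Subgroup (Equiv.Perm (Fin 6))) : Subgroup (Equiv.Perm (Fin 6)) :=
  H.map (MulAut.conj g).toMonoidHom

theorem mem_cm {g x : S6} {H : Subgroup S6} : x ∈ cm g H ↔ g⁻¹ * x * g ∈ H := by
  rw [cm, Subgroup.mem_map]
  constructor
  · rintro ⟨y, hy, rfl⟩
    simpa [mul_assoc] using hy
  · intro h
    exact ⟨_, h, by simp [mul_assoc]⟩

theorem cm_cm (g h : S6) (H : Subgroup S6) : cm g (cm h H) = cm (g * h) H := by
  ext x
  simp only [mem_cm, _root_.mul_inv_rev, mul_assoc]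

theorem cm_one (H : Subgroup S6) : cm 1 H = H := by
  ext x; simp [mem_cm]

theorem index_cm (g : S6) (H : Subgroup S6) : (cm g H).index = H.index :=
  Subgroup.index_map_equiv H (MulAut.conj g)

theorem cm_stab (g : S6) (a : Fin 6) : cm g (MulAction.stabilizer S6 a) = MulAction.stabilizer S6 (g a) := by
  ext x
  simp only [mem_cm, MulAction.mem_stabilizer_iff, Equiv.Perm.smul_def, Equiv.Perm.mul_apply, Equiv.Perm.inv_eq_iff_eq]

theorem exists_conj_cyc {H : Subgroup S6} (hH : H.index = 6) : ∃ g : S6, cyc ∈ cm g H := by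
  haveI : Fact (Nat.Prime 5) := ⟨by norm_num⟩
  obtain ⟨x, hx⟩ := exists_prime_orderOf_dvd_card' (G := H) 5 (by rw [index_six_iff.mp hH]; norm_num)
  have hx' : orderOf (x : S6) = 5 := by rw [Subgroup.orderOf_coe, hx]
  have hc : orderOf cyc = 5 := orderOf_eq_prime cyc_five.2.1 (fun e => cyc_five.2.2 (orderOf_eq_one_iff.mpr e))
  have hct : ∀ y : S6, orderOf y = 5 → y.cycleType = {5} := by
    intro y hy
    obtain ⟨n, hn⟩ := Equiv.Perm.cycleType_prime_order (hy.symm ▸ (by norm_num : Nat.Prime 5))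
    rw [hy] at hn
    have h := Equiv.Perm.sum_cycleType y
    have hle : y.support.card ≤ 6 := (Finset.card_le_univ _).trans (by simp)
    rw [hn, Multiset.sum_replicate, smul_eq_mul] at h
    have : n = 0 := by omega
    subst this
    exact hn
  obtain ⟨g, hg⟩ := isConj_iff.mp (Equiv.Perm.isConj_of_cycleType_eq ((hct _ hx').trans (hct _ hc).symm))
  exact ⟨g, mem_cm.mpr (by rw [← hg]; simp [mul_assoc])⟩

theorem eq_stab_or_transitive {H : Subgroup S6} (hH : H.index = 6) (hc : cyc ∈ H) :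
    H = MulAction.stabilizer S6 (5 : Fin 6) ∨ ((∀ g : S6, InN g → g ∈ H) ∧ (∀ g ∈ H, g 5 = 5 → InN g) ∧
      ∀ a : Fin 6, ∃ g ∈ H, g 5 = a) := by
  classical
  by_cases hfix : ∀ g ∈ H, g 5 = 5
  · exact Or.inl (Subgroup.eq_of_le_of_card_ge (fun g hg => hfix g hg)
      (by rw [index_six_iff.mp hH, index_six_iff.mp (index_stab 5)]))
  right
  push Not at hfix
  obtain ⟨g, hg, hg5⟩ := hfix
  have hall : ∀ a : Fin 6, ∃ g ∈ H, g 5 = a := by
    intro a
    by_cases ha : a = 5
    · exact ⟨1, H.one_mem, ha.symm⟩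
    · have key : ∀ u v : Fin 6, u ≠ 5 → v ≠ 5 → ∃ k : Fin 5, (cyc ^ (k : ℕ)) u = v := by decide +kernel
      obtain ⟨k, hk⟩ := key (g 5) a hg5 ha
      exact ⟨cyc ^ (k : ℕ) * g, H.mul_mem (H.pow_mem hc _) hg, by rw [Equiv.Perm.mul_apply, hk]⟩
  haveI : MulAction.IsPretransitive H (Fin 6) :=
    (MulAction.isPretransitive_iff_base (5 : Fin 6)).2 fun a => by
      obtain ⟨g, hg, e⟩ := hall a
      exact ⟨⟨g, hg⟩, e⟩
  set A := MulAction.stabilizer H (5 : Fin 6) with hA
  have hAc : Nat.card A = 20 := by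
    have h := Subgroup.card_mul_index A
    rw [hA, MulAction.index_stabilizer_of_transitive, index_six_iff.mp hH, Nat.card_eq_fintype_card (α := Fin 6),
      Fintype.card_fin] at h
    rw [hA]; omega
  haveI : Fact (Nat.Prime 5) := ⟨by norm_num⟩
  have hcA : (⟨cyc, hc⟩ : H) ∈ A := cyc_five.1
  -- the Sylow subgroup of order five is normal
  obtain ⟨P⟩ : Nonempty (Sylow 5 A) := inferInstance
  have hP1 : Nat.card (Sylow 5 A) = 1 := by
    have h1 := Sylow.card_dvd_index P
    have h2 := card_sylow_modEq_one 5 A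
    have hPc : Nat.card P = 5 := by
      rw [P.card_eq_multiplicity, hAc, show (20 : ℕ) = 5 * 4 from rfl, Nat.factorization_mul (by norm_num) (by norm_num),
        Finsupp.add_apply, Nat.Prime.factorization_self (by norm_num), Nat.factorization_eq_zero_of_not_dvd (by norm_num)]
      rfl
    have hidx : (P : Subgroup A).index = 4 := by
      have h := Subgroup.card_mul_index (P : Subgroup A)
      rw [hPc, hAc] at h
      omega
    rw [hidx] at h1
    have := Nat.le_of_dvd (by norm_num) h1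
    unfold Nat.ModEq at h2
    omega
  haveI : Subsingleton (Sylow 5 A) := (Nat.card_eq_one_iff_unique.mp hP1).1
  have hAN : ∀ a : A, InN ((a : H) : S6) := by
    intro a
    refine ⟨a.2, ?_⟩
    set c : A := ⟨⟨cyc, hc⟩, hcA⟩
    have ho : orderOf c = 5 := by
      rw [← Subgroup.orderOf_coe, ← Subgroup.orderOf_coe]
      exact orderOf_eq_prime cyc_five.2.1 (fun e => cyc_five.2.2 (orderOf_eq_one_iff.mpr e))
    have hzc : Nat.card (Subgroup.zpowers c) = 5 := by rw [Nat.card_zpowers, ho]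
    have hz : IsPGroup 5 (Subgroup.zpowers c) := IsPGroup.of_card (n := 1) (by rw [hzc, pow_one])
    obtain ⟨Q, hQ⟩ := hz.exists_le_sylow
    have hQe : Subgroup.zpowers c = Q := by
      refine Subgroup.eq_of_le_of_card_ge hQ ?_
      rw [hzc, Q.card_eq_multiplicity, hAc, show (20 : ℕ) = 5 * 4 from rfl, Nat.factorization_mul (by norm_num) (by norm_num),
        Finsupp.add_apply, Nat.Prime.factorization_self (by norm_num), Nat.factorization_eq_zero_of_not_dvd (by norm_num)]
      rfl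
    haveI : (Q : Subgroup A).Normal := Sylow.normal_of_subsingleton Q
    have hmem : a * c * a⁻¹ ∈ Subgroup.zpowers c := by
      rw [hQe]; exact Subgroup.Normal.conj_mem inferInstance c (hQ (Subgroup.mem_zpowers c)) a
    obtain ⟨k, hk, he⟩ : ∃ k : ℕ, k < 5 ∧ c ^ k = a * c * a⁻¹ := by
      obtain ⟨k, hk⟩ := (mem_powers_iff_mem_zpowers).mpr hmem
      exact ⟨k % 5, Nat.mod_lt _ (by norm_num), by rw [← ho, pow_mod_orderOf]; exact hk⟩
    have he' : cyc ^ k = ((a : H) : S6) * cyc * ((a : H) : S6)⁻¹ :=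
      congrArg (fun z : A => ((z : H) : S6)) he
    interval_cases k
    · exfalso
      have : cyc = 1 := by
        have h := he'
        rw [pow_zero, eq_comm, mul_inv_eq_one] at h
        exact mul_left_cancel (h.trans (mul_one _).symm)
      exact cyc_five.2.2 (orderOf_eq_one_iff.mpr this)
    · exact Or.inl (by rw [← he', pow_one])
    · exact Or.inr (Or.inl (by rw [← he', pow_two]))
    · exact Or.inr (Or.inr (Or.inl (by rw [← he', pow_succ, pow_two])))
    · exact Or.inr (Or.inr (Or.inr (by rw [← he', pow_succ, pow_succ, pow_two])))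
  let f : A → {g : S6 // InN g} := fun a => ⟨((a : H) : S6), hAN a⟩
  haveI : Fintype A := Fintype.ofFinite _
  have hf : Function.Injective f := fun a b h =>
    Subtype.ext (Subtype.ext (congrArg (fun z : {g : S6 // InN g} => z.1) h))
  have hfb := (Fintype.bijective_iff_injective_and_card (f := f)).mpr
    ⟨hf, by rw [← Nat.card_eq_fintype_card, hAc, card_inN]⟩
  refine ⟨fun g hg => ?_, fun g hg h5 => hAN ⟨⟨g, hg⟩, h5⟩, hall⟩
  obtain ⟨a, ha⟩ := hfb.2 ⟨g, hg⟩
  rw [show g = ((a : H) : S6) from (congrArg Subtype.val ha).symm]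
  exact (a : H).2

theorem g0_mem {H : Subgroup S6} (hN : ∀ g : S6, InN g → g ∈ H) (hH5 : ∀ g ∈ H, g 5 = 5 → InN g)
    (hall : ∀ a : Fin 6, ∃ g ∈ H, g 5 = a) : g0 ∈ H := by
  obtain ⟨g, hg, hg5⟩ := hall 0
  rcases candidates g hg5 (fun n hn h => hH5 _ (H.mul_mem (H.mul_mem hg (hN n hn)) hg) h) with h | h
  · rw [show g0 = g * (g0⁻¹ * g)⁻¹ by group]
    exact H.mul_mem hg (H.inv_mem (hN _ h))
  · exfalso
    have hs : Equiv.swap 0 5 ∈ H := by
      rw [show (Equiv.swap 0 5 : S6) = g * ((Equiv.swap 0 5 : S6)⁻¹ * g)⁻¹ by group]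
      exact H.mul_mem hg (H.inv_mem (hN _ h))
    have hc : cyc ∈ H := hN _ (by decide +kernel)
    exact swap_not_inN.1 (hH5 _ (H.mul_mem (H.mul_mem hs (H.mul_mem (H.mul_mem hc hs) (H.inv_mem hc))) hs)
      swap_not_inN.2)

theorem transitive_unique {H K : Subgroup S6} (hH : H.index = 6) (hK : K.index = 6) (hcH : cyc ∈ H) (hcK : cyc ∈ K)
    (hH' : H ≠ MulAction.stabilizer S6 (5 : Fin 6)) (hK' : K ≠ MulAction.stabilizer S6 (5 : Fin 6)) : H = K := by
  obtain ⟨a1, a2, a3⟩ := (eq_stab_or_transitive hH hcH).resolve_left hH'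
  obtain ⟨b1, b2, b3⟩ := (eq_stab_or_transitive hK hcK).resolve_left hK'
  have hI0 : g0 ∈ H ⊓ K := ⟨g0_mem a1 a2 a3, g0_mem b1 b2 b3⟩
  have hIc : cyc ∈ H ⊓ K := ⟨hcH, hcK⟩
  set I := H ⊓ K
  have key : ∀ a : Fin 6, a ≠ 5 → ∃ k : Fin 5, (cyc ^ (k : ℕ) * g0) 5 = a := by decide +kernel
  haveI : MulAction.IsPretransitive I (Fin 6) :=
    (MulAction.isPretransitive_iff_base (5 : Fin 6)).2 fun a => by
      by_cases ha : a = 5
      · exact ⟨1, ha.symm⟩
      · obtain ⟨k, hk⟩ := key a ha
        exact ⟨⟨_, I.mul_mem (I.pow_mem hIc k) hI0⟩, hk⟩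
  have hA : 20 ≤ Nat.card (MulAction.stabilizer I (5 : Fin 6)) := by
    rw [← card_inN, ← Nat.card_eq_fintype_card]
    refine Nat.card_le_card_of_injective (fun g => ⟨⟨g.1, a1 _ g.2, b1 _ g.2⟩, g.2.1⟩) fun u v h => ?_
    exact Subtype.ext (congrArg (fun z : MulAction.stabilizer I (5 : Fin 6) => ((z : I) : S6)) h)
  have h := Subgroup.card_mul_index (MulAction.stabilizer I (5 : Fin 6))
  rw [MulAction.index_stabilizer_of_transitive, Nat.card_eq_fintype_card (α := Fin 6), Fintype.card_fin] at h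
  have h1 : I = H := Subgroup.eq_of_le_of_card_ge inf_le_left (by rw [index_six_iff.mp hH]; omega)
  have h2 : I = K := Subgroup.eq_of_le_of_card_ge inf_le_right (by rw [index_six_iff.mp hK]; omega)
  exact h1.symm.trans h2

/-- The classification. -/
theorem classify6 {H : Subgroup S6} (hH : H.index = 6) :
    (∃ a : Fin 6, H = MulAction.stabilizer S6 a) ∨ ∃ g, H = cm g exotic := by
  obtain ⟨g, hg⟩ := exists_conj_cyc hH
  obtain ⟨k, hk⟩ := exists_conj_cyc index_exotic
  have hg' : (cm g H).index = 6 := (index_cm g H).trans hH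
  have hk' : (cm k exotic).index = 6 := (index_cm k _).trans index_exotic
  have hback : H = cm g⁻¹ (cm g H) := by rw [cm_cm, inv_mul_cancel, cm_one]
  by_cases h : cm g H = MulAction.stabilizer S6 (5 : Fin 6)
  · exact Or.inl ⟨g⁻¹ 5, by rw [hback, h, cm_stab]⟩
  · refine Or.inr ⟨g⁻¹ * k, ?_⟩
    rw [hback, transitive_unique hg' hk' hg hk h fun e => ?_, cm_cm]
    refine exotic_no_fix (k⁻¹ 5) ?_
    rw [← cm_stab, ← e, cm_cm, inv_mul_cancel, cm_one]

theorem conj_stab_ne_exotic (g : S6) (a : Fin 6) : cm g (MulAction.stabilizer S6 a) ≠ exotic := by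
  rw [cm_stab]; exact (exotic_no_fix _).symm

theorem exotic_moved : ∃ h : S6, (∀ t ∈ pentad, h * t * h⁻¹ ∈ pentad) ∧
    ¬ ∀ t ∈ pentad, ((Equiv.swap 0 1 * Equiv.swap 1 2) * h * (Equiv.swap 0 1 * Equiv.swap 1 2)⁻¹) * t *
      ((Equiv.swap 0 1 * Equiv.swap 1 2) * h * (Equiv.swap 0 1 * Equiv.swap 1 2)⁻¹)⁻¹ ∈ pentad := by decide +kernel

theorem eq_self_of_normal_le {H : Subgroup S6} (hH : H.index = 6) {g : S6} (hg : cm g H = H) : g ∈ H := by
  by_contra hgH
  rcases classify6 hH with ⟨a, rfl⟩ | ⟨k, rfl⟩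
  · rw [cm_stab] at hg
    have : ∀ u v : Fin 6, u ≠ v → MulAction.stabilizer S6 u ≠ MulAction.stabilizer S6 v := by
      intro u v huv e
      have key : ∀ u v : Fin 6, ∃ w, w ≠ u ∧ w ≠ v := by decide
      obtain ⟨w, hw1, hw2⟩ := key u v
      have hm : Equiv.swap v w ∈ MulAction.stabilizer S6 u :=
        MulAction.mem_stabilizer_iff.mpr (Equiv.swap_apply_of_ne_of_ne huv hw1.symm)
      rw [e, MulAction.mem_stabilizer_iff, Equiv.Perm.smul_def, Equiv.swap_apply_left] at hm
      exact hw2 hm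
    exact hgH (by_contra fun hne => this _ _ (fun e => hne e) hg)
  · -- the normaliser of the transitive subgroup
    set L := Subgroup.normalizer ((cm k exotic : Subgroup S6) : Set S6) with hL
    have hgL : g ∈ L := by
      rw [hL, Subgroup.mem_normalizer_iff]
      intro x
      constructor
      · intro hx; rw [← hg, mem_cm]; simpa [mul_assoc] using hx
      · intro hx; rw [← hg, mem_cm] at hx; simpa [mul_assoc] using hx
    have hle : cm k exotic ≤ L := Subgroup.le_normalizer
    have hd := Subgroup.index_dvd_of_le hle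
    rw [index_cm, index_exotic] at hd
    have hLc := Subgroup.card_mul_index L
    rw [card_perm_six] at hLc
    have hLle : L.index ≤ 6 := Nat.le_of_dvd (by norm_num) hd
    have hL6 : L.index ≠ 6 := fun e => hgH (by
      rw [Subgroup.eq_of_le_of_card_ge hle (by rw [index_six_iff.mp e, index_six_iff.mp ((index_cm k _).trans index_exotic)])]
      exact hgL)
    have hA : alternatingGroup (Fin 6) ≤ L := by
      by_cases h1 : L = ⊤
      · rw [h1]; exact le_top
      by_cases h2 : L = alternatingGroup (Fin 6)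
      · rw [h2]
      have := Cfsg.Agent.S5944.result 6 (by norm_num) L h1 h2
      omega
    obtain ⟨h, hh, hne⟩ := exotic_moved
    have hm : k * (Equiv.swap 0 1 * Equiv.swap 1 2) * k⁻¹ ∈ alternatingGroup (Fin 6) := by
      rw [Equiv.Perm.mem_alternatingGroup, map_mul, map_mul, map_inv, map_mul, Equiv.Perm.sign_swap (by decide),
        Equiv.Perm.sign_swap (by decide)]
      simp
    have h3 := ((Subgroup.mem_normalizer_iff.mp (hA hm)) (k * h * k⁻¹)).mp (mem_cm.mpr (by rw [show k⁻¹ * (k * h * k⁻¹) * k = h by group]; exact hh))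
    rw [mem_cm] at h3
    refine hne ?_
    show (Equiv.swap 0 1 * Equiv.swap 1 2) * h * (Equiv.swap 0 1 * Equiv.swap 1 2)⁻¹ ∈ exotic
    rwa [show k⁻¹ * (k * (Equiv.swap 0 1 * Equiv.swap 1 2) * k⁻¹ * (k * h * k⁻¹) *
      (k * (Equiv.swap 0 1 * Equiv.swap 1 2) * k⁻¹)⁻¹) * k =
        (Equiv.swap 0 1 * Equiv.swap 1 2) * h * (Equiv.swap 0 1 * Equiv.swap 1 2)⁻¹ by group] at h3

/-- A point stabiliser on six points. -/
theorem nonempty_stab {α : Type*} [Fintype α] [DecidableEq α] (h6 : Fintype.card α = 6) (a : α) :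
    Nonempty (MulAction.stabilizer (Equiv.Perm α) a ≃* Equiv.Perm (Fin 5)) := by
  classical
  have hsub : Fintype.card {x : α // x ≠ a} = 5 := by
    rw [Fintype.card_subtype_compl, Fintype.card_subtype_eq, h6]
  let ψ : Equiv.Perm {x : α // x ≠ a} →* Equiv.Perm α := Equiv.Perm.ofSubtype
  have hle : ψ.range ≤ MulAction.stabilizer (Equiv.Perm α) a := by
    rintro _ ⟨g, rfl⟩
    exact MulAction.mem_stabilizer_iff.mpr (Equiv.Perm.ofSubtype_apply_of_not_mem g (fun h => h rfl))
  have hinj : Function.Injective ψ := Equiv.Perm.ofSubtype_injective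
  have hc : Nat.card (MulAction.stabilizer (Equiv.Perm α) a) ≤ Nat.card ψ.range := by
    have h := Subgroup.card_mul_index (MulAction.stabilizer (Equiv.Perm α) a)
    rw [MulAction.index_stabilizer_of_transitive, Nat.card_perm, Nat.card_eq_fintype_card (α := α), h6,
      show Nat.factorial 6 = 720 from rfl] at h
    rw [← Nat.card_congr (MonoidHom.ofInjective hinj).toEquiv, Nat.card_perm, Nat.card_eq_fintype_card (α := {x : α // x ≠ a}),
      hsub, show Nat.factorial 5 = 120 from rfl]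
    omega
  exact ⟨((MulEquiv.subgroupCongr (Subgroup.eq_of_le_of_card_ge hle hc)).symm.trans (MonoidHom.ofInjective hinj).symm).trans
    (Equiv.permCongrHom ((Fintype.equivFinOfCardEq hsub)))⟩

theorem normalCore_bot {H : Subgroup S6} (hH : H.index = 6) : H.normalCore = ⊥ := by
  by_contra hne
  set K := H.normalCore
  have hKH : K ≤ H := H.normalCore_le
  have hK : ∀ g : S6, g ∈ K → ∀ x : S6, x * g * x⁻¹ ∈ K := fun g hg x => (H.normalCore_normal).conj_mem g hg x
  obtain ⟨g, hg, hg1⟩ : ∃ g ∈ K, g ≠ 1 := by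
    by_contra hc
    push Not at hc
    exact hne ((Subgroup.eq_bot_iff_forall _).mpr hc)
  haveI := alternatingGroup.isSimpleGroup (α := Fin 6) (by simp)
  haveI : (K.subgroupOf (alternatingGroup (Fin 6))).Normal := Subgroup.Normal.subgroupOf H.normalCore_normal _
  rcases IsSimpleGroup.eq_bot_or_eq_top_of_normal (K.subgroupOf (alternatingGroup (Fin 6))) inferInstance with h | h
  · rw [Subgroup.subgroupOf_eq_bot] at h
    have hA : (alternatingGroup (Fin 6)).Normal := inferInstance
    have hcomm : ∀ a : S6, a ∈ alternatingGroup (Fin 6) → g * a = a * g := fun a ha =>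
      (Subgroup.commute_of_normal_of_disjoint _ _ H.normalCore_normal hA h g a hg ha).eq
    obtain ⟨a, ha⟩ : ∃ a, g a ≠ a := by
      by_contra hc
      push Not at hc
      exact hg1 (Equiv.ext hc)
    have key : ∀ a b : Fin 6, a ≠ b → ∃ c d : Fin 6, c ≠ a ∧ d ≠ a ∧ c ≠ b ∧ d ≠ b ∧ c ≠ d := by decide
    obtain ⟨c, d, h1, h2, h3, h4, h5⟩ := key a (g a) (Ne.symm ha)
    have hm : Equiv.swap (g a) c * Equiv.swap (g a) d ∈ alternatingGroup (Fin 6) := by
      rw [Equiv.Perm.mem_alternatingGroup, map_mul, Equiv.Perm.sign_swap h3.symm, Equiv.Perm.sign_swap h4.symm]; decide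
    have e := congrArg (fun p : S6 => p a) (hcomm _ hm)
    simp only [Equiv.Perm.mul_apply] at e
    rw [Equiv.swap_apply_of_ne_of_ne (Ne.symm ha) h2.symm, Equiv.swap_apply_of_ne_of_ne (Ne.symm ha) h1.symm,
      Equiv.swap_apply_left, Equiv.swap_apply_of_ne_of_ne h4 h5.symm] at e
    exact h4 e.symm
  · have hle : alternatingGroup (Fin 6) ≤ H := (Subgroup.subgroupOf_eq_top.mp h).trans hKH
    have h1 := Subgroup.card_le_of_le hle
    have h2 := two_mul_nat_card_alternatingGroup (α := Fin 6)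
    rw [card_perm_six] at h2
    rw [index_six_iff.mp hH] at h1
    omega

/-- Every subgroup of index six is a symmetric group of degree five. -/
theorem nonempty_iso {H : Subgroup S6} (hH : H.index = 6) : Nonempty (H ≃* Equiv.Perm (Fin 5)) := by
  classical
  haveI : Fintype (S6 ⧸ H) := Fintype.ofFinite _
  have hQ : Fintype.card (S6 ⧸ H) = 6 := by rw [← Nat.card_eq_fintype_card, ← Subgroup.index_eq_card, hH]
  set θ := MulAction.toPermHom S6 (S6 ⧸ H)
  have hinj : Function.Injective θ := by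
    rw [← MonoidHom.ker_eq_bot_iff, ← Subgroup.normalCore_eq_ker, normalCore_bot hH]
  set q : S6 ⧸ H := ((1 : S6) : S6 ⧸ H)
  have hle : H.map θ ≤ MulAction.stabilizer (Equiv.Perm (S6 ⧸ H)) q := by
    rintro _ ⟨h, hh, rfl⟩
    refine MulAction.mem_stabilizer_iff.mpr ?_
    show ((h * 1 : S6) : S6 ⧸ H) = q
    rw [mul_one]
    exact QuotientGroup.eq.mpr (by rw [mul_one]; exact H.inv_mem hh)
  obtain ⟨i⟩ := nonempty_stab hQ q
  have hc : Nat.card (MulAction.stabilizer (Equiv.Perm (S6 ⧸ H)) q) = 120 := by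
    rw [Nat.card_congr i.toEquiv, Nat.card_perm, Nat.card_eq_fintype_card, Fintype.card_fin]; rfl
  have he := Subgroup.eq_of_le_of_card_ge hle
    (by rw [hc, Subgroup.card_map_of_injective hinj, index_six_iff.mp hH])
  exact ⟨((Subgroup.equivMapOfInjective H θ hinj).trans (MulEquiv.subgroupCongr he)).trans i⟩

theorem stab_injective : Function.Injective fun a : Fin 6 => MulAction.stabilizer S6 a := by
  intro u v e
  by_contra huv
  have key : ∀ u v : Fin 6, ∃ w, w ≠ u ∧ w ≠ v := by decide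
  obtain ⟨w, hw1, hw2⟩ := key u v
  have hm : Equiv.swap v w ∈ MulAction.stabilizer S6 u :=
    MulAction.mem_stabilizer_iff.mpr (Equiv.swap_apply_of_ne_of_ne huv hw1.symm)
  simp only at e
  rw [e, MulAction.mem_stabilizer_iff, Equiv.Perm.smul_def, Equiv.swap_apply_left] at hm
  exact hw2 hm

/-- There are twelve subgroups of index six. -/
theorem count : Nat.card {H : Subgroup S6 // H.index = 6} = 12 := by
  classical
  let f : Fin 6 ⊕ (S6 ⧸ exotic) → {H : Subgroup S6 // H.index = 6} := Sum.elim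
    (fun a => ⟨MulAction.stabilizer S6 a, index_stab a⟩)
    (fun q => ⟨cm q.out exotic, (index_cm _ _).trans index_exotic⟩)
  have hf : Function.Bijective f := by
    constructor
    · rintro (a | q) (b | r) e
      · exact congrArg Sum.inl (stab_injective (congrArg Subtype.val e))
      · exfalso
        have h : MulAction.stabilizer S6 a = cm r.out exotic := congrArg Subtype.val e
        exact conj_stab_ne_exotic r.out⁻¹ a (by rw [h, cm_cm, inv_mul_cancel, cm_one])
      · exfalso
        have h : cm q.out exotic = MulAction.stabilizer S6 b := congrArg Subtype.val e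
        exact conj_stab_ne_exotic q.out⁻¹ b (by rw [← h, cm_cm, inv_mul_cancel, cm_one])
      · have h : cm q.out exotic = cm r.out exotic := congrArg Subtype.val e
        refine congrArg Sum.inr ?_
        rw [← QuotientGroup.out_eq' q, ← QuotientGroup.out_eq' r, QuotientGroup.eq]
        exact eq_self_of_normal_le index_exotic (by rw [← cm_cm, ← h, cm_cm, inv_mul_cancel, cm_one])
    · rintro ⟨H, hH⟩
      rcases classify6 hH with ⟨a, rfl⟩ | ⟨g, rfl⟩
      · exact ⟨Sum.inl a, rfl⟩
      · refine ⟨Sum.inr (g : S6 ⧸ exotic), Subtype.ext ?_⟩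
        show cm (Quotient.out (g : S6 ⧸ exotic)) exotic = cm g exotic
        obtain ⟨h, hh⟩ := QuotientGroup.mk_out_eq_mul exotic g
        rw [hh, ← cm_cm]
        congr 1
        ext x
        rw [mem_cm]
        exact ⟨fun hx => by simpa [mul_assoc] using exotic.mul_mem (exotic.mul_mem h.2 hx) (exotic.inv_mem h.2),
          fun hx => exotic.mul_mem (exotic.mul_mem (exotic.inv_mem h.2) hx) h.2⟩
  rw [← Nat.card_eq_of_bijective f hf, Nat.card_sum, ← Subgroup.index_eq_card, index_exotic, Nat.card_eq_fintype_card,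
    Fintype.card_fin]

end Cfsg.Agent.Classical.SixSub
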