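import Mathlib

/-!
Soluble primitive linear groups over finite modules: abelian normal subgroups act fixed point freely,
a maximal normal subgroup of class at most two contains its centraliser, and the 3/4 bound for fixed spaces.
-/

set_option autoImplicit false

namespace Cfsg.Agent.Classical.SolubleLinear

section Monoid

lemma exists_pow_idem {M : Type*} [Monoid M] [Finite M] (x : M) :
    ∃ m : ℕ, 0 < m ∧ IsIdempotentElem (x ^ m) := by
  obtain ⟨i, j, hij, hne⟩ : ∃ i j : ℕ, i < j ∧ x ^ i = x ^ j := by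
    obtain ⟨a, b, hne, hab⟩ := Finite.exists_ne_map_eq_of_infinite (fun k : ℕ => x ^ k)
    rcases lt_or_gt_of_ne hne with h | h
    · exact ⟨a, b, h, hab⟩
    · exact ⟨b, a, h, hab.symm⟩
  obtain ⟨d, hd, rfl⟩ : ∃ d, 0 < d ∧ j = i + d := ⟨j - i, by omega, by omega⟩
  have step : ∀ k, i ≤ k → ∀ t : ℕ, x ^ (k + t * d) = x ^ k := by
    intro k hk t
    induction t with
    | zero => simp
    | succ t ih =>
      obtain ⟨r, hr⟩ : ∃ r, k + t * d = i + r := ⟨k + t * d - i, by omega⟩
      calc x ^ (k + (t + 1) * d) = x ^ ((i + d) + r) := by congr 1; rw [Nat.succ_mul]; omega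
        _ = x ^ (i + r) := by rw [pow_add, ← hne, ← pow_add]
        _ = x ^ k := by rw [← hr, ih]
  refine ⟨(i + 1) * d, Nat.mul_pos (by omega) hd, ?_⟩
  unfold IsIdempotentElem
  rw [← pow_add]
  apply step
  calc i ≤ (i + 1) * 1 := by omega
    _ ≤ (i + 1) * d := Nat.mul_le_mul_left _ hd

end Monoid

section Rep

variable {F V Γ : Type*} [Field F] [AddCommGroup V] [Module F V] [Group Γ]
variable (ρ : Γ →* Module.End F V)

/-- No system of imprimitivity with two or more blocks of equal dimension. -/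
def Primitive : Prop :=
  ∀ (t : ℕ) (D : Fin t → Submodule F V), 2 ≤ t → iSupIndep D → iSup D = ⊤ →
    (∀ i, D i ≠ ⊥) → (∀ i j, Module.finrank F (D i) = Module.finrank F (D j)) →
    (∀ x, ∃ σ : Equiv.Perm (Fin t), ∀ i, (D i).map (ρ x) = D (σ i)) → False

/-- Irreducible. -/
def Irred : Prop := ∀ W : Submodule F V, (∀ x, W.map (ρ x) ≤ W) → W = ⊥ ∨ W = ⊤

lemma rho_inv_apply (x : Γ) (v : V) : ρ x⁻¹ (ρ x v) = v := by
  rw [← Module.End.mul_apply, ← map_mul, inv_mul_cancel, map_one, Module.End.one_apply]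

lemma rho_apply_inv (x : Γ) (v : V) : ρ x (ρ x⁻¹ v) = v := by
  simpa using rho_inv_apply ρ x⁻¹ v

lemma rho_injective (x : Γ) : Function.Injective (ρ x) :=
  Function.LeftInverse.injective (rho_inv_apply ρ x)

/-- Conjugation of an endomorphism by `ρ x`. -/
def cj (x : Γ) (r : Module.End F V) : Module.End F V := ρ x * r * ρ x⁻¹

lemma cj_mul (x : Γ) (r s : Module.End F V) : cj ρ x (r * s) = cj ρ x r * cj ρ x s := by
  have h : ρ x⁻¹ * ρ x = 1 := by rw [← map_mul, inv_mul_cancel, map_one]
  simp only [cj, mul_assoc]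
  rw [← mul_assoc (ρ x⁻¹) (ρ x), h, one_mul]

lemma cj_cj (x : Γ) (r : Module.End F V) : cj ρ x⁻¹ (cj ρ x r) = r := by
  have h : ρ x⁻¹ * ρ x = 1 := by rw [← map_mul, inv_mul_cancel, map_one]
  simp only [cj, inv_inv, mul_assoc]
  rw [h, mul_one, ← mul_assoc, h, one_mul]

lemma cj_rho (x a : Γ) : cj ρ x (ρ a) = ρ (x * a * x⁻¹) := by simp [cj]

lemma cj_zero (x : Γ) : cj ρ x 0 = 0 := by simp [cj]

lemma cj_apply (x : Γ) (r : Module.End F V) (v : V) : cj ρ x r (ρ x v) = ρ x (r v) := by
  simp [cj, Module.End.mul_apply, rho_inv_apply]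

lemma map_range_eq (x : Γ) (r : Module.End F V) :
    (LinearMap.range r).map (ρ x) = LinearMap.range (cj ρ x r) := by
  ext v
  constructor
  · rintro ⟨w, ⟨u, rfl⟩, rfl⟩
    exact ⟨ρ x u, cj_apply ρ x r u⟩
  · rintro ⟨u, rfl⟩
    exact ⟨r (ρ x⁻¹ u), ⟨_, rfl⟩, by rw [← cj_apply ρ x r, rho_apply_inv]⟩

lemma cj_mem {A : Subgroup Γ} (hA : A.Normal) (x : Γ) {r : Module.End F V}
    (hr : r ∈ Subring.closure (ρ '' (A : Set Γ))) : cj ρ x r ∈ Subring.closure (ρ '' (A : Set Γ)) := by
  induction hr using Subring.closure_induction with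
  | mem y hy =>
    obtain ⟨a, ha, rfl⟩ := hy
    rw [cj_rho]
    exact Subring.subset_closure ⟨_, hA.conj_mem a ha x, rfl⟩
  | zero => rw [cj_zero]; exact Subring.zero_mem _
  | one => simp only [cj, mul_one, ← map_mul, mul_inv_cancel, map_one]; exact Subring.one_mem _
  | add y z _ _ h1 h2 => simp only [cj, mul_add, add_mul] at *; exact Subring.add_mem _ h1 h2
  | neg y _ h => simp only [cj, mul_neg, neg_mul] at *; exact Subring.neg_mem _ h
  | mul y z _ _ h1 h2 => rw [cj_mul]; exact Subring.mul_mem _ h1 h2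

lemma closure_comm {A : Subgroup Γ} (hc : ∀ a ∈ A, ∀ b ∈ A, Commute a b)
    {r s : Module.End F V} (hr : r ∈ Subring.closure (ρ '' (A : Set Γ)))
    (hs : s ∈ Subring.closure (ρ '' (A : Set Γ))) : Commute r s := by
  have h1 : ∀ y ∈ Subring.closure (ρ '' (A : Set Γ)), ∀ a ∈ A, Commute y (ρ a) := by
    intro y hy a ha
    induction hy using Subring.closure_induction with
    | mem z hz => obtain ⟨b, hb, rfl⟩ := hz; exact (hc b hb a ha).map ρ
    | zero => exact Commute.zero_left _
    | one => exact Commute.one_left _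
    | add y z _ _ h1 h2 => exact h1.add_left h2
    | neg y _ h => exact h.neg_left
    | mul y z _ _ h1 h2 => exact h1.mul_left h2
  induction hs using Subring.closure_induction with
  | mem z hz => obtain ⟨b, hb, rfl⟩ := hz; exact h1 r hr b hb
  | zero => exact Commute.zero_right _
  | one => exact Commute.one_right _
  | add y z _ _ h1 h2 => exact h1.add_right h2
  | neg y _ h => exact h.neg_right
  | mul y z _ _ h1 h2 => exact h1.mul_right h2

variable [Finite V]

lemma finite_end : Finite (Module.End F V) :=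
  Finite.of_injective (fun r : Module.End F V => (r : V → V)) DFunLike.coe_injective

lemma nilpotent_eq_zero (hirr : Irred ρ) [Nontrivial V] {A : Subgroup Γ} (hA : A.Normal)
    (hc : ∀ a ∈ A, ∀ b ∈ A, Commute a b) {r : Module.End F V}
    (hr : r ∈ Subring.closure (ρ '' (A : Set Γ))) (hn : IsNilpotent r) : r = 0 := by
  classical
  have : Finite (Module.End F V) := finite_end
  set R := Subring.closure (ρ '' (A : Set Γ))
  let N : Set (Module.End F V) := {s | s ∈ R ∧ IsNilpotent s}
  let W : Submodule F V := ⨅ s ∈ N, LinearMap.ker s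
  have hW : ∀ x, W.map (ρ x) ≤ W := by
    rintro x _ ⟨v, hv, rfl⟩
    simp only [W, Submodule.mem_iInf, SetLike.mem_coe, LinearMap.mem_ker] at hv ⊢
    intro s hs
    have hs' : cj ρ x⁻¹ s ∈ N := by
      refine ⟨cj_mem ρ hA _ hs.1, ?_⟩
      obtain ⟨k, hk⟩ := hs.2
      refine ⟨k, ?_⟩
      have hp : ∀ j, (cj ρ x⁻¹ s) ^ j = cj ρ x⁻¹ (s ^ j) := by
        intro j
        induction j with
        | zero => simp [cj, ← map_mul]
        | succ j ih => rw [pow_succ, ih, pow_succ, cj_mul]
      rw [hp, hk, cj_zero]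
    have h2 := hv _ hs'
    have h3 := cj_apply ρ x⁻¹ s (ρ x v)
    rw [rho_inv_apply] at h3
    rw [h3] at h2
    exact rho_injective ρ x⁻¹ (by simpa using h2)
  have key : ∀ S : Finset (Module.End F V), (∀ s ∈ S, s ∈ N) → ∃ v : V, v ≠ 0 ∧ ∀ s ∈ S, s v = 0 := by
    intro S
    induction S using Finset.induction_on with
    | empty =>
      intro _
      obtain ⟨v, hv⟩ := exists_ne (0 : V)
      exact ⟨v, hv, by simp⟩
    | insert s S _ ih =>
      intro hS
      obtain ⟨v, hv, hvS⟩ := ih fun t ht => hS t (Finset.mem_insert_of_mem ht)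
      have hsN := hS s (Finset.mem_insert_self _ _)
      obtain ⟨k, hk⟩ := hsN.2
      have hex : ∃ j, (s ^ j) v = 0 := ⟨k, by simp [hk]⟩
      obtain ⟨j, hj⟩ : ∃ j, Nat.find hex = j + 1 := by
        refine ⟨Nat.find hex - 1, ?_⟩
        have : Nat.find hex ≠ 0 := by
          intro h0
          have := Nat.find_spec hex
          rw [h0] at this
          exact hv (by simpa using this)
        omega
      refine ⟨(s ^ j) v, Nat.find_min hex (by omega), ?_⟩
      intro t ht
      rcases Finset.mem_insert.1 ht with rfl | ht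
      · have := Nat.find_spec hex
        rw [hj, pow_succ', Module.End.mul_apply] at this
        exact this
      · have hcm : Commute t (s ^ j) :=
          (closure_comm ρ hc (hS t (Finset.mem_insert_of_mem ht)).1 hsN.1).pow_right j
        rw [← Module.End.mul_apply, hcm.eq, Module.End.mul_apply, hvS t ht, map_zero]
  rcases hirr W hW with h | h
  · obtain ⟨v, hv, hv'⟩ := key (Set.toFinite N).toFinset (by simp)
    refine absurd ?_ hv
    have : v ∈ W := by
      simp only [W, Submodule.mem_iInf, LinearMap.mem_ker]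
      exact fun s hs => hv' s (by simpa using hs)
    simpa [h] using this
  · ext v
    have : v ∈ W := by simp [h]
    simp only [W, Submodule.mem_iInf, LinearMap.mem_ker] at this
    simpa using this r ⟨hr, hn⟩

/-- In an irreducible primitive linear group an abelian normal subgroup spans a ring with trivial idempotents. -/
lemma idem_trivial (hirr : Irred ρ) (hprim : Primitive ρ) {A : Subgroup Γ} (hA : A.Normal)
    (hc : ∀ a ∈ A, ∀ b ∈ A, Commute a b) {e : Module.End F V}
    (he : e ∈ Subring.closure (ρ '' (A : Set Γ))) (hid : IsIdempotentElem e) : e = 0 ∨ e = 1 := by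
  classical
  have : Finite (Module.End F V) := finite_end
  have : Fintype (Module.End F V) := Fintype.ofFinite _
  set R := Subring.closure (ρ '' (A : Set Γ))
  let P : Finset (Module.End F V) :=
    Finset.univ.filter fun f => f ∈ R ∧ IsIdempotentElem f ∧ f ≠ 0
  let E : Finset (Module.End F V) := P.filter fun f => ∀ g ∈ P, g * f = g → g = f
  have memP : ∀ {f}, f ∈ P ↔ f ∈ R ∧ IsIdempotentElem f ∧ f ≠ 0 := by simp [P]
  have below : ∀ f ∈ P, ∃ g ∈ E, g * f = g := by
    intro f hf
    let S := P.filter fun g => g * f = g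
    have hS : S.Nonempty := ⟨f, Finset.mem_filter.2 ⟨hf, (memP.1 hf).2.1⟩⟩
    obtain ⟨g, hg, hmin⟩ := S.exists_min_image (fun g => Nat.card (LinearMap.range g)) hS
    obtain ⟨hgP, hgf⟩ := Finset.mem_filter.1 hg
    refine ⟨g, Finset.mem_filter.2 ⟨hgP, ?_⟩, hgf⟩
    intro k hk hkg
    obtain ⟨hkR, hki, -⟩ := memP.1 hk
    obtain ⟨hgR, hgi, -⟩ := memP.1 hgP
    have hkS : k ∈ S := Finset.mem_filter.2 ⟨hk, by rw [← hkg, mul_assoc, hgf]⟩
    have hle : LinearMap.range k ≤ LinearMap.range g := by
      rintro _ ⟨v, rfl⟩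
      refine ⟨k v, ?_⟩
      rw [← Module.End.mul_apply, ← (closure_comm ρ hc hkR hgR).eq, hkg]
    have heq : LinearMap.range k = LinearMap.range g := by
      apply SetLike.coe_injective
      refine Set.eq_of_subset_of_ncard_le hle ?_ (Set.toFinite _)
      simpa [← Nat.card_coe_set_eq] using hmin k hkS
    ext v
    have h1 : g v ∈ LinearMap.range k := heq ▸ ⟨v, rfl⟩
    obtain ⟨w, hw⟩ := h1
    calc k v = (k * g) v := by rw [hkg]
      _ = k (g v) := rfl
      _ = (k * k) w := by rw [← hw]; rfl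
      _ = g v := by rw [hki.eq, hw]
  have memE : ∀ {f}, f ∈ E ↔ f ∈ P ∧ ∀ g ∈ P, g * f = g → g = f := by simp [E]
  have orth : ∀ f ∈ E, ∀ g ∈ E, f ≠ g → f * g = 0 := by
    intro f hf g hg hne
    obtain ⟨hfP, hfm⟩ := memE.1 hf
    obtain ⟨hgP, hgm⟩ := memE.1 hg
    obtain ⟨hfR, hfi, -⟩ := memP.1 hfP
    obtain ⟨hgR, hgi, -⟩ := memP.1 hgP
    by_contra h0
    have hcm := closure_comm ρ hc hfR hgR
    have hP : f * g ∈ P := memP.2 ⟨R.mul_mem hfR hgR, hfi.mul_of_commute hcm hgi, h0⟩
    have e1 : f * g * f = f * g := by rw [mul_assoc, ← hcm.eq, ← mul_assoc, hfi.eq]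
    have e2 : f * g * g = f * g := by rw [mul_assoc, hgi.eq]
    exact hne ((hfm _ hP e1).symm.trans (hgm _ hP e2))
  have absorb : ∀ f ∈ E, f * (∑ g ∈ E, g) = f := by
    intro f hf
    rw [Finset.mul_sum, Finset.sum_eq_single f (fun g hg hne => orth f hf g hg (Ne.symm hne))
      (fun h => absurd hf h)]
    exact (memP.1 (memE.1 hf).1).2.1.eq
  have hsum : ∑ g ∈ E, g = 1 := by
    by_contra hne
    have hsR : ∑ g ∈ E, g ∈ R := R.sum_mem fun g hg => (memP.1 (memE.1 hg).1).1
    have hsi : IsIdempotentElem (∑ g ∈ E, g) := by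
      unfold IsIdempotentElem
      rw [Finset.sum_mul]
      exact Finset.sum_congr rfl absorb
    have h1s : 1 - ∑ g ∈ E, g ∈ P :=
      memP.2 ⟨R.sub_mem R.one_mem hsR, hsi.one_sub, sub_ne_zero.2 (Ne.symm hne)⟩
    obtain ⟨g, hg, hgs⟩ := below _ h1s
    rw [mul_sub, mul_one, absorb g hg, sub_self] at hgs
    exact (memP.1 (memE.1 hg).1).2.2 hgs.symm
  by_contra hcon
  obtain ⟨he0, he1⟩ := not_or.1 hcon
  have hEcard : 2 ≤ E.card := by
    by_contra hlt
    obtain ⟨g, hg, hge⟩ := below e (memP.2 ⟨he, hid, he0⟩)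
    have hE1 : E = {g} :=
      (Finset.eq_of_subset_of_card_le (Finset.singleton_subset_iff.2 hg) (by simp; omega)).symm
    rw [hE1, Finset.sum_singleton] at hsum
    rw [hsum, one_mul] at hge
    exact he1 hge
  have cjE : ∀ x, ∀ f ∈ E, cj ρ x f ∈ E := by
    have cjP : ∀ x, ∀ f ∈ P, cj ρ x f ∈ P := by
      intro x f hf
      obtain ⟨h1, h2, h3⟩ := memP.1 hf
      refine memP.2 ⟨cj_mem ρ hA x h1, ?_, ?_⟩
      · unfold IsIdempotentElem; rw [← cj_mul, h2.eq]
      · intro h; apply h3; rw [← cj_cj ρ x f, h, cj_zero]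
    intro x f hf
    obtain ⟨hfP, hfm⟩ := memE.1 hf
    refine memE.2 ⟨cjP x f hfP, fun g hg hgf => ?_⟩
    have h1 : cj ρ x⁻¹ g * f = cj ρ x⁻¹ g := by
      have := congrArg (cj ρ x⁻¹) hgf
      rwa [cj_mul, cj_cj] at this
    have h2 := congrArg (cj ρ x) (hfm _ (cjP x⁻¹ g hg) h1)
    have h3 := cj_cj ρ x⁻¹ g
    rw [inv_inv] at h3
    rwa [h3] at h2
  let en : Fin E.card ≃ E := E.equivFin.symm
  let D : Fin E.card → Submodule F V := fun i => LinearMap.range (en i : Module.End F V)
  have hidem : ∀ i, ∀ v ∈ D i, (en i : Module.End F V) v = v := by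
    rintro i _ ⟨w, rfl⟩
    rw [← Module.End.mul_apply, (memP.1 (memE.1 (en i).2).1).2.1.eq]
  have hind : iSupIndep D := by
    intro i
    have hle : (⨆ (j) (_ : j ≠ i), D j) ≤ LinearMap.ker (en i : Module.End F V) := by
      refine iSup₂_le fun j hj => ?_
      rintro _ ⟨w, rfl⟩
      rw [LinearMap.mem_ker, ← Module.End.mul_apply, orth _ (en i).2 _ (en j).2
        (fun h => hj (en.injective (Subtype.ext h)).symm), LinearMap.zero_apply]
    rw [Submodule.disjoint_def]
    intro v hv hv'
    rw [← hidem i v hv]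
    exact LinearMap.mem_ker.1 (hle hv')
  have htop : iSup D = ⊤ := by
    rw [eq_top_iff]
    intro v _
    have hv : v = ∑ g ∈ E, g v := by rw [← LinearMap.sum_apply, hsum, Module.End.one_apply]
    rw [hv]
    refine Submodule.sum_mem _ fun g hg => ?_
    refine Submodule.mem_iSup_of_mem (en.symm ⟨g, hg⟩) ?_
    simp only [D, Equiv.apply_symm_apply]
    exact ⟨v, rfl⟩
  have hmove : ∀ x i, (D i).map (ρ x) = LinearMap.range (cj ρ x (en i : Module.End F V)) :=
    fun x i => map_range_eq ρ x _
  have hne : ∀ i, D i ≠ ⊥ := fun i h =>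
    (memP.1 (memE.1 (en i).2).1).2.2 (LinearMap.range_eq_bot.1 h)
  have htrans : ∀ i j, ∃ x, cj ρ x (en i : Module.End F V) = (en j : Module.End F V) := by
    intro i j
    let W : Submodule F V := ⨆ x, LinearMap.range (cj ρ x (en i : Module.End F V))
    have hW : ∀ y, W.map (ρ y) ≤ W := by
      intro y
      rw [Submodule.map_iSup]
      refine iSup_le fun x => ?_
      rw [map_range_eq]
      refine le_iSup_of_le (y * x) (le_of_eq ?_)
      simp only [cj, map_mul, mul_inv_rev, mul_assoc]
    rcases hirr W hW with h | h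
    · refine absurd ?_ (hne i)
      rw [eq_bot_iff, ← h]
      refine le_iSup_of_le 1 (le_of_eq ?_)
      simp [D, cj]
    · by_contra hno
      push_neg at hno
      apply (memP.1 (memE.1 (en j).2).1).2.2
      have hker : W ≤ LinearMap.ker (en j : Module.End F V) := by
        refine iSup_le fun x => ?_
        rintro _ ⟨w, rfl⟩
        rw [LinearMap.mem_ker, ← Module.End.mul_apply, orth _ (en j).2 _ (cjE x _ (en i).2)
          (Ne.symm (hno x)), LinearMap.zero_apply]
      rw [h, top_le_iff] at hker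
      exact LinearMap.ker_eq_top.1 hker
  refine hprim E.card D hEcard hind htop hne ?_ ?_
  · intro i j
    obtain ⟨x, hx⟩ := htrans i j
    have h1 := hmove x i
    rw [hx] at h1
    calc Module.finrank F (D i) = Module.finrank F ((D i).map (ρ x)) :=
          (Submodule.equivMapOfInjective (ρ x) (rho_injective ρ x) (D i)).finrank_eq
      _ = Module.finrank F (D j) := by rw [h1]
  · intro x
    let f : Fin E.card → Fin E.card := fun i => en.symm ⟨cj ρ x (en i), cjE x _ (en i).2⟩
    have hf : Function.Injective f := by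
      intro i j h
      have h' := congrArg Subtype.val (en.symm.injective h)
      apply en.injective
      apply Subtype.ext
      simp only at h'
      rw [← cj_cj ρ x (en i : Module.End F V), h', cj_cj]
    refine ⟨Equiv.ofBijective f (Finite.injective_iff_bijective.1 hf), fun i => ?_⟩
    rw [hmove]
    simp [D, f, Equiv.ofBijective_apply]

/-- The fixed space of `ρ x`. -/
abbrev fix (x : Γ) : Submodule F V := LinearMap.ker (ρ x - 1)

lemma mem_fix {x : Γ} {v : V} : v ∈ fix ρ x ↔ ρ x v = v := by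
  simp [fix, sub_eq_zero]

/-- In an irreducible primitive linear group abelian normal subgroups act fixed point freely. -/
lemma fix_eq_bot (hirr : Irred ρ) (hprim : Primitive ρ) (hinj : Function.Injective ρ)
    {A : Subgroup Γ} (hA : A.Normal) (hc : ∀ a ∈ A, ∀ b ∈ A, Commute a b)
    {a : Γ} (ha : a ∈ A) (ha1 : a ≠ 1) : fix ρ a = ⊥ := by
  rcases subsingleton_or_nontrivial V with hV | hV
  · exact Subsingleton.elim _ _
  have : Finite (Module.End F V) := finite_end
  set R := Subring.closure (ρ '' (A : Set Γ))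
  set x : Module.End F V := ρ a - 1 with hx
  have hxR : x ∈ R := R.sub_mem (Subring.subset_closure ⟨a, ha, rfl⟩) R.one_mem
  obtain ⟨m, hm, hid⟩ := exists_pow_idem x
  rcases idem_trivial ρ hirr hprim hA hc (R.pow_mem hxR m) hid with h | h
  · have := nilpotent_eq_zero ρ hirr hA hc hxR ⟨m, h⟩
    rw [hx, sub_eq_zero, ← map_one ρ] at this
    exact absurd (hinj this) ha1
  · rw [eq_bot_iff]
    intro v hv
    have hv' : x v = 0 := hv
    obtain ⟨k, rfl⟩ : ∃ k, m = k + 1 := ⟨m - 1, by omega⟩
    rw [pow_succ] at h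
    have := congrArg (fun r : Module.End F V => r v) h
    simp only [Module.End.mul_apply, hv', map_zero, Module.End.one_apply] at this
    simpa using this.symm

/-- The fixed space of a commutator is at least twice that of an entry minus the dimension. -/
lemma two_mul_fix_le (g e : Γ) :
    2 * Module.finrank F (fix ρ g) ≤
      Module.finrank F (fix ρ (g * e * g⁻¹ * e⁻¹)) + Module.finrank F V := by
  have hle : fix ρ g ⊓ (fix ρ g).map (ρ e) ≤ fix ρ (g * e * g⁻¹ * e⁻¹) := by
    rintro v ⟨hv, w, hw, rfl⟩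
    simp only [SetLike.mem_coe, mem_fix] at hv hw ⊢
    have hw' : ρ g⁻¹ w = w := by
      conv_lhs => rw [← hw]
      exact rho_inv_apply ρ g w
    simp only [map_mul, Module.End.mul_apply, rho_inv_apply, hw', hv]
  have h1 := Submodule.finrank_sup_add_finrank_inf_eq (fix ρ g) ((fix ρ g).map (ρ e))
  have h2 := Submodule.finrank_le (fix ρ g ⊔ (fix ρ g).map (ρ e))
  have h3 : Module.finrank F ((fix ρ g).map (ρ e)) = Module.finrank F (fix ρ g) :=
    (Submodule.equivMapOfInjective (ρ e) (rho_injective ρ e) _).finrank_eq.symm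
  have h4 := Submodule.finrank_mono hle
  omega

end Rep

section Group

variable {Γ : Type*} [Group Γ] [Finite Γ]

/-- A normal subgroup whose commutators centralise it. -/
def ClassTwo (N : Subgroup Γ) : Prop :=
  N.Normal ∧ ∀ a ∈ N, ∀ b ∈ N, ∀ c ∈ N, Commute (a * b * a⁻¹ * b⁻¹) c

/-- A finite soluble group has a normal subgroup of class at most two containing its centraliser. -/
lemma exists_classTwo_centralizer_le [Group.IsSolvable Γ] :
    ∃ N : Subgroup Γ, ClassTwo N ∧ Subgroup.centralizer (N : Set Γ) ≤ N := by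
  classical
  have h0 : ClassTwo (⊥ : Subgroup Γ) := ⟨inferInstance, fun a ha b hb c hc => by
    rw [Subgroup.mem_bot] at ha hb hc; subst ha; subst hb; subst hc; simp⟩
  obtain ⟨N, hN, hmax⟩ := (Set.toFinite {N : Subgroup Γ | ClassTwo N}).exists_maximal ⟨⊥, h0⟩
  refine ⟨N, hN, ?_⟩
  have := hN.1
  set C := Subgroup.centralizer (N : Set Γ) with hC
  by_contra hCN
  have : C.Normal := inferInstance
  have : Group.IsSolvable C := inferInstance
  obtain ⟨m, hm⟩ := (Group.isSolvable_def C).1 inferInstance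
  let L : ℕ → Subgroup Γ := fun k => (derivedSeries C k).map C.subtype
  have hex : ∃ k, L k ≤ N := ⟨m, by simp [L, hm]⟩
  have hne : Nat.find hex ≠ 0 := by
    intro h
    have := Nat.find_spec hex
    rw [h] at this
    exact hCN (by simpa [L, ← MonoidHom.range_eq_map] using this)
  obtain ⟨k, hk⟩ : ∃ k, Nat.find hex = k + 1 := ⟨Nat.find hex - 1, by omega⟩
  have hk1 : L (k + 1) ≤ N := hk ▸ Nat.find_spec hex
  have hk0 : ¬ L k ≤ N := Nat.find_min hex (by omega)
  have hLC : L k ≤ C := Subgroup.map_subtype_le _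
  have hLn : (L k).Normal := inferInstanceAs (((derivedSeries C k).map C.subtype).Normal)
  set M := N ⊔ L k with hM
  -- the commutators of `M` lie in `Z`
  have hcN : ∀ a ∈ C, ∀ b ∈ N, Commute a b := fun a ha b hb =>
    ((Subgroup.mem_centralizer_iff.1 ha) b hb).symm
  let Z : Subgroup Γ := N ⊓ C
  have : Z.Normal := Subgroup.normal_inf_normal N C
  have hgen : ∀ a ∈ (N : Set Γ) ∪ L k, ∀ b ∈ (N : Set Γ) ∪ L k,
      Commute (QuotientGroup.mk' Z a) (QuotientGroup.mk' Z b) := by
    intro a ha b hb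
    have key : a * b * a⁻¹ * b⁻¹ ∈ Z →
        Commute (QuotientGroup.mk' Z a) (QuotientGroup.mk' Z b) := by
      intro h
      have h' : QuotientGroup.mk' Z (a * b * a⁻¹ * b⁻¹) = 1 := (QuotientGroup.eq_one_iff _).2 h
      simp only [map_mul, map_inv] at h'
      exact commutatorElement_eq_one_iff_commute.1 h'
    rcases ha with ha | ha <;> rcases hb with hb | hb
    · refine key ⟨N.mul_mem (N.mul_mem (N.mul_mem ha hb) (N.inv_mem ha)) (N.inv_mem hb), ?_⟩
      exact Subgroup.mem_centralizer_iff.2 fun c hc => (hN.2 a ha b hb c hc).eq.symm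
    · exact ((hcN b (hLC hb) a ha).symm).map _
    · exact (hcN a (hLC ha) b hb).map _
    · refine key ⟨hk1 ?_, C.mul_mem (C.mul_mem (C.mul_mem (hLC ha) (hLC hb)) (C.inv_mem (hLC ha)))
        (C.inv_mem (hLC hb))⟩
      have : ⁅L k, L k⁆ = L (k + 1) := by
        simp only [L, derivedSeries_succ, Subgroup.map_commutator]
      rw [← this]
      exact Subgroup.commutator_mem_commutator ha hb
  have hMcl : M = Subgroup.closure ((N : Set Γ) ∪ L k) := by
    rw [Subgroup.closure_union, Subgroup.closure_eq, Subgroup.closure_eq]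
  have hquot : ∀ a ∈ M, ∀ b ∈ M, Commute (QuotientGroup.mk' Z a) (QuotientGroup.mk' Z b) := by
    rw [hMcl]
    intro a ha b hb
    induction ha using Subgroup.closure_induction with
    | mem a ha =>
      induction hb using Subgroup.closure_induction with
      | mem b hb => exact hgen a ha b hb
      | one => rw [map_one]; exact Commute.one_right _
      | mul b c _ _ h1 h2 => rw [map_mul]; exact h1.mul_right h2
      | inv b _ h => rw [map_inv]; exact h.inv_right
    | one => rw [map_one]; exact Commute.one_left _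
    | mul b c _ _ h1 h2 => rw [map_mul]; exact h1.mul_left h2
    | inv b _ h => rw [map_inv]; exact h.inv_left
  have hM2 : ClassTwo M := by
    refine ⟨Subgroup.sup_normal N (L k), fun a ha b hb c hc => ?_⟩
    have hz : a * b * a⁻¹ * b⁻¹ ∈ Z := by
      refine (QuotientGroup.eq_one_iff (N := Z) _).1 ?_
      have := hquot a ha b hb
      rw [← commutatorElement_eq_one_iff_commute] at this
      simpa [commutatorElement_def] using this
    rw [hMcl] at hc
    induction hc using Subgroup.closure_induction with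
    | mem c hc =>
      rcases hc with hc | hc
      · exact hcN _ hz.2 c hc
      · exact (hcN c (hLC hc) _ hz.1).symm
    | one => exact Commute.one_right _
    | mul b c _ _ h1 h2 => exact h1.mul_right h2
    | inv b _ h => exact h.inv_right
  exact hk0 (le_sup_right.trans (hmax hM2 le_sup_left))

end Group

section Bound

variable {F V Γ : Type*} [Field F] [AddCommGroup V] [Module F V] [Finite V] [Group Γ] [Finite Γ]
  [Group.IsSolvable Γ]

/-- In a soluble irreducible primitive linear group a nontrivial element fixes at most 3/4 of the space. -/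
theorem four_mul_fix_le (ρ : Γ →* Module.End F V) (hirr : Irred ρ) (hprim : Primitive ρ)
    (hinj : Function.Injective ρ) {g : Γ} (hg1 : g ≠ 1) :
    4 * Module.finrank F (fix ρ g) ≤ 3 * Module.finrank F V := by
  obtain ⟨N, hN, hCN⟩ := exists_classTwo_centralizer_le (Γ := Γ)
  have := hN.1
  set C := Subgroup.centralizer (N : Set Γ) with hC
  have hcN : ∀ a ∈ C, ∀ b ∈ N, Commute a b := fun a ha b hb =>
    ((Subgroup.mem_centralizer_iff.1 ha) b hb).symm
  have hZ : ∀ z ∈ N ⊓ C, 0 < Module.finrank F (fix ρ z) → z = 1 := by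
    intro z hz hpos
    by_contra h1
    rw [fix_eq_bot ρ hirr hprim hinj (Subgroup.normal_inf_normal N C)
      (fun a ha b hb => hcN a ha.2 b hb.1) hz h1] at hpos
    simp at hpos
  by_contra hlt
  push_neg at hlt
  have hgC : g ∈ C := by
    refine Subgroup.mem_centralizer_iff.2 fun e he => ?_
    set h := g * e * g⁻¹ * e⁻¹ with hh
    have hhN : h ∈ N := N.mul_mem (hN.1.conj_mem e he g) (N.inv_mem he)
    have hfh := two_mul_fix_le ρ g e
    rw [← hh] at hfh
    have hhC : h ∈ C := by
      refine Subgroup.mem_centralizer_iff.2 fun e' he' => ?_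
      have hf2 := two_mul_fix_le ρ h e'
      have : h * e' * h⁻¹ * e'⁻¹ = 1 := hZ _
        ⟨N.mul_mem (N.mul_mem (N.mul_mem hhN he') (N.inv_mem hhN)) (N.inv_mem he'),
          Subgroup.mem_centralizer_iff.2 fun c hc => (hN.2 h hhN e' he' c hc).eq.symm⟩ (by omega)
      exact (mul_inv_eq_iff_eq_mul.1 (mul_inv_eq_one.1 this)).symm
    have := hZ h ⟨hhN, hhC⟩ (by omega)
    exact (mul_inv_eq_iff_eq_mul.1 (mul_inv_eq_one.1 this)).symm
  exact hg1 (hZ g ⟨hCN hgC, hgC⟩ (by omega))

end Bound

end Cfsg.Agent.Classical.SolubleLinear
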