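import Mathlib
import Cfsg.Prelude.Def_Classical
import Cfsg.Agent.Lib.Classical.SympBlocks

/-!
`PSp₄(q)`, `q ≥ 3`: every non-identity element is a product of two conjugates of a fixed semisimple element of a
Levi subgroup `GL₂`, by the decomposition with a prescribed diagonal block.
-/

set_option autoImplicit false
set_option linter.unusedSectionVars false

namespace Cfsg.Agent.Classical.SpFourSquare

open Matrix

variable {F : Type*} [Field F]

local notation "M2" => Matrix (Fin 2) (Fin 2) F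
local notation "M4" => Matrix (Fin 2 ⊕ Fin 2) (Fin 2 ⊕ Fin 2) F
local notation "S4" => Matrix.symplecticGroup (Fin 2) F

/-- The trace and determinant of the class, with no root of the quadratic. -/
structure Para (t d : F) : Prop where
  noRoot : ∀ a, a * (t - a) ≠ d
  t0 : t ≠ 0
  d1 : d ≠ 1

theorem Para.d0 {t d : F} (h : Para t d) : d ≠ 0 := fun e => h.noRoot 0 (by rw [zero_mul, e])

theorem exists_para [Fintype F] (h3 : 3 ≤ Fintype.card F) : ∃ t d : F, Para t d := by
  classical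
  obtain ⟨d, hd⟩ : ∃ d : F, d ∉ ({0, 1} : Finset F) := by
    by_contra hcon
    push Not at hcon
    have := Finset.card_le_card (fun a _ => hcon a : (Finset.univ : Finset F) ⊆ {0, 1})
    rw [Finset.card_univ] at this
    exact absurd (this.trans Finset.card_le_two) (by omega)
  simp only [Finset.mem_insert, Finset.mem_singleton, not_or] at hd
  by_contra hcon
  push Not at hcon
  set S : Finset F := Finset.univ.erase 0
  let f : F → F := fun a => a + d * a⁻¹
  have hsub : S ⊆ S.image f := by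
    intro t ht
    have ht0 : t ≠ 0 := (Finset.mem_erase.1 ht).1
    obtain ⟨a, ha⟩ : ∃ a, a * (t - a) = d := by
      by_contra hno
      push Not at hno
      exact hcon t d ⟨hno, ht0, hd.2⟩
    have ha0 : a ≠ 0 := fun e => hd.1 (by rw [← ha, e, zero_mul])
    refine Finset.mem_image.2 ⟨a, Finset.mem_erase.2 ⟨ha0, Finset.mem_univ a⟩, ?_⟩
    show a + d * a⁻¹ = t
    rw [← ha]
    field_simp
    ring
  have hinj := Finset.card_image_iff.1 (le_antisymm Finset.card_image_le (Finset.card_le_card hsub))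
  refine hd.2 (hinj (x₁ := d) (x₂ := 1) ?_ ?_ ?_)
  · exact Finset.mem_erase.2 ⟨hd.1, Finset.mem_univ d⟩
  · exact Finset.mem_erase.2 ⟨one_ne_zero, Finset.mem_univ _⟩
  · show d + d * d⁻¹ = 1 + d * 1⁻¹
    rw [mul_inv_cancel₀ hd.1, inv_one, mul_one, add_comm]

/-- Membership in the class of the companion matrix. -/
def Good (t d : F) (X : M2) : Prop := X 0 0 + X 1 1 = t ∧ X 0 0 * X 1 1 - X 0 1 * X 1 0 = d

/-- The companion matrix. -/
def comp (t d : F) : M2 := !![0, -d; 1, t]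

theorem comp_good (t d : F) : Good t d (comp t d) := ⟨by simp [comp], by simp [comp]⟩

theorem Good.det {t d : F} {X : M2} (h : Good t d X) : X.det = d := by rw [Matrix.det_fin_two]; exact h.2

theorem Good.isUnit {t d : F} {X : M2} (hp : Para t d) (h : Good t d X) : IsUnit X.det :=
  isUnit_iff_ne_zero.2 (by rw [h.det]; exact hp.d0)

theorem Good.transpose {t d : F} {X : M2} (h : Good t d X) : Good t d Xᵀ :=
  ⟨h.1, by simp only [Matrix.transpose_apply]; linear_combination h.2⟩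

theorem Good.c0 {t d : F} {X : M2} (hp : Para t d) (h : Good t d X) : X 1 0 ≠ 0 := fun e =>
  hp.noRoot (X 0 0) (by
    have h2 := h.2
    rw [e, mul_zero, sub_zero] at h2
    rw [← h2, ← h.1]; ring)

/-- Elements of the class are similar to the companion matrix. -/
theorem Good.similar {t d : F} {X : M2} (hp : Para t d) (h : Good t d X) :
    ∃ P : GL (Fin 2) F, X = (P : M2) * comp t d * ((P⁻¹ : GL (Fin 2) F) : M2) := by
  have hc := h.c0 hp
  let P : GL (Fin 2) F := GeneralLinearGroup.mkOfDetNeZero !![1, X 0 0; 0, X 1 0]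
    (by rw [Matrix.det_fin_two]; simpa using hc)
  refine ⟨P, ?_⟩
  have key : X * (P : M2) = (P : M2) * comp t d := by
    show X * !![1, X 0 0; 0, X 1 0] = !![1, X 0 0; 0, X 1 0] * comp t d
    ext i j
    fin_cases i <;> fin_cases j <;> simp [Matrix.mul_apply, Fin.sum_univ_two, comp]
    · linear_combination (-1 : F) * h.2 + X 0 0 * h.1
    · linear_combination X 1 0 * h.1
  rw [← key, mul_assoc, ← Units.val_mul, mul_inv_cancel, Units.val_one, mul_one]

/-- The allowed diagonal block. -/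
def Blk (d : F) (A : M2) : Prop :=
  A.det = d * d ∧ (A = d • 1 ∨ (A 0 0 + A 1 1 ≠ 2 * d ∧ (A 0 1 ≠ 0 ∨ A 1 0 ≠ 0)))

theorem isSquare_or [Fintype F] {τ D r : F} (hΔ : 4 * D - τ * τ ≠ 0) :
    ∃ x y : F, x * x + τ * x * y + D * y * y = r := by
  classical
  by_cases h2 : (2 : F) = 0
  · haveI := CharTwo.of_one_ne_zero_of_two_eq_zero (one_ne_zero (α := F)) h2
    obtain ⟨s, hs⟩ := FiniteField.isSquare_of_char_two (F := F) (ringChar.eq F 2) r
    exact ⟨s, 0, by rw [hs]; ring⟩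
  have hodd : Fintype.card F % 2 = 1 := FiniteField.odd_card_of_char_ne_two fun e => h2 (by
    haveI := (ringChar.eq_iff (R := F) (p := 2)).1 e
    exact CharTwo.two_eq_zero)
  set κ := (4 * D - τ * τ) * (4 : F)⁻¹ with hκ
  have h4 : (4 : F) ≠ 0 := by rw [show (4 : F) = 2 * 2 by norm_num]; exact mul_ne_zero h2 h2
  have hκ0 : κ ≠ 0 := mul_ne_zero hΔ (inv_ne_zero h4)
  obtain ⟨a, b, hab⟩ := FiniteField.exists_root_sum_quadratic
    (f := (Polynomial.X ^ 2 : Polynomial F)) (g := Polynomial.C κ * Polynomial.X ^ 2 - Polynomial.C r)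
    (Polynomial.degree_X_pow 2) (by
      rw [Polynomial.degree_sub_eq_left_of_degree_lt]
      · exact Polynomial.degree_C_mul_X_pow 2 hκ0
      · rw [Polynomial.degree_C_mul_X_pow 2 hκ0]
        exact Polynomial.degree_C_le.trans_lt (by norm_num)) hodd
  simp only [Polynomial.eval_pow, Polynomial.eval_X, Polynomial.eval_sub, Polynomial.eval_mul,
    Polynomial.eval_C] at hab
  refine ⟨a - τ * b * (2 : F)⁻¹, b, ?_⟩
  rw [hκ] at hab
  field_simp at hab ⊢
  linear_combination hab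

theorem conj_good {t d : F} (P : GL (Fin 2) F) {X : M2} (h : Good t d X) :
    Good t d ((P : M2) * X * ((P⁻¹ : GL (Fin 2) F) : M2)) := by
  refine ⟨?_, ?_⟩
  · rw [← Matrix.trace_fin_two, Matrix.trace_mul_cycle, ← Units.val_mul, inv_mul_cancel, Units.val_one,
      one_mul, Matrix.trace_fin_two]
    exact h.1
  · rw [← Matrix.det_fin_two, Matrix.det_units_conj]
    exact h.det

/-- Every allowed block is a product of two elements of the class. -/
theorem blk_prod [Fintype F] {t d : F} (hp : Para t d) {A : M2} (hA : Blk d A) :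
    ∃ X Y : M2, Good t d X ∧ Good t d Y ∧ A = X * Y := by
  have hd := hp.d0
  have hdet := hA.1
  rw [Matrix.det_fin_two] at hdet
  by_cases hs : A = d • 1
  · refine ⟨comp t d, !![t, d; -1, 0], comp_good t d, ⟨by simp, by simp⟩, ?_⟩
    rw [hs]
    ext i j
    fin_cases i <;> fin_cases j <;> simp [comp, Matrix.mul_apply, Fin.sum_univ_two]
  obtain ⟨hτ, hoff⟩ := hA.2.resolve_left hs
  set τ := A 0 0 + A 1 1 with hτd
  -- a solution for the companion form
  obtain ⟨a, c, hac⟩ : ∃ a c : F, a * a + τ * a * c + d * d * c * c - t * a - t * d * c + d = 0 := by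
    by_cases hm : τ = -(2 * d)
    · have h2d : 2 * d ≠ 0 := fun e => hτ (by rw [hm, e, neg_zero])
      refine ⟨d * (d * (2 * d * t)⁻¹), d * (2 * d * t)⁻¹, ?_⟩
      rw [hm]
      have h2 : (2 : F) ≠ 0 := left_ne_zero_of_mul h2d
      field_simp [hp.t0]
      ring
    · have hΔ : 4 * (d * d) - τ * τ ≠ 0 := fun e => by
        have : (τ - 2 * d) * (τ + 2 * d) = 0 := by linear_combination -e
        rcases mul_eq_zero.1 this with h | h
        · exact hτ (sub_eq_zero.1 h)
        · exact hm (eq_neg_of_add_eq_zero_left h)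
      set Δ := 4 * (d * d) - τ * τ with hΔd
      set a₀ := (2 * t * (d * d) - τ * t * d) * Δ⁻¹ with ha₀
      set c₀ := (2 * t * d - τ * t) * Δ⁻¹ with hc₀
      have e1 : 2 * a₀ + τ * c₀ - t = 0 := by
        have := mul_inv_cancel₀ hΔ
        rw [ha₀, hc₀]
        linear_combination (t * Δ⁻¹) * hΔd.symm + t * this
      have e2 : τ * a₀ + 2 * (d * d) * c₀ - t * d = 0 := by
        have := mul_inv_cancel₀ hΔ
        rw [ha₀, hc₀]
        linear_combination (t * d * Δ⁻¹) * hΔd.symm + t * d * this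
      obtain ⟨x, y, hxy⟩ := isSquare_or (τ := τ) (D := d * d)
        (r := -(a₀ * a₀ + τ * a₀ * c₀ + d * d * c₀ * c₀ - t * a₀ - t * d * c₀ + d)) hΔ
      exact ⟨a₀ + x, c₀ + y, by linear_combination hxy + x * e1 + y * e2⟩
  -- a cyclic vector
  obtain ⟨v, hv⟩ : ∃ v : Fin 2 → F, v 0 * (A *ᵥ v) 1 - v 1 * (A *ᵥ v) 0 ≠ 0 := by
    rcases hoff with h | h
    · exact ⟨![0, 1], by simpa [Matrix.mulVec, dotProduct, Fin.sum_univ_two] using h⟩
    · exact ⟨![1, 0], by simpa [Matrix.mulVec, dotProduct, Fin.sum_univ_two] using h⟩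
  let P : GL (Fin 2) F := GeneralLinearGroup.mkOfDetNeZero !![v 0, (A *ᵥ v) 0; v 1, (A *ᵥ v) 1]
    (by rw [Matrix.det_fin_two]; simpa [mul_comm] using hv)
  have hAP : A * (P : M2) = (P : M2) * !![0, -(d * d); 1, τ] := by
    show A * !![v 0, (A *ᵥ v) 0; v 1, (A *ᵥ v) 1] = !![v 0, (A *ᵥ v) 0; v 1, (A *ᵥ v) 1] * !![0, -(d * d); 1, τ]
    ext i j
    fin_cases i <;> fin_cases j <;>
      simp [Matrix.mul_apply, Fin.sum_univ_two, Matrix.mulVec, dotProduct, hτd, ← hdet] <;> ring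
  set b := c * (d * d) + a * τ - t * d with hb
  set X₀ : M2 := !![a, b; c, t - a] with hX₀
  set Y₀ : M2 := d⁻¹ • (!![t - a, -b; -c, a] * !![0, -(d * d); 1, τ]) with hY₀
  have hX : Good t d X₀ := ⟨by simp [hX₀], by simp [hX₀, hb]; linear_combination -hac⟩
  have hY : Good t d Y₀ := by
    refine ⟨?_, ?_⟩ <;> simp [hY₀, Matrix.mul_apply, Fin.sum_univ_two] <;> field_simp
    · rw [hb]; ring
    · rw [hb]; linear_combination (-(d * d)) * hac
  have hprod : X₀ * Y₀ = !![0, -(d * d); 1, τ] := by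
    rw [hY₀, Matrix.mul_smul, ← mul_assoc, show X₀ * !![t - a, -b; -c, a] = d • (1 : M2) from ?_,
      Matrix.smul_mul, one_mul, smul_smul, inv_mul_cancel₀ hd, one_smul]
    ext i j
    fin_cases i <;> fin_cases j <;> simp [hX₀, Matrix.mul_apply, Fin.sum_univ_two, hb] <;>
      first | linear_combination (0 : F) | linear_combination -hac
  refine ⟨(P : M2) * X₀ * ((P⁻¹ : GL (Fin 2) F) : M2), (P : M2) * Y₀ * ((P⁻¹ : GL (Fin 2) F) : M2), ?_, ?_, ?_⟩
  · exact conj_good P hX
  · exact conj_good P hY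
  · rw [show (P : M2) * X₀ * ((P⁻¹ : GL (Fin 2) F) : M2) * ((P : M2) * Y₀ * ((P⁻¹ : GL (Fin 2) F) : M2)) =
      (P : M2) * (X₀ * (((P⁻¹ : GL (Fin 2) F) : M2) * (P : M2)) * Y₀) * ((P⁻¹ : GL (Fin 2) F) : M2) by
      simp only [mul_assoc], ← Units.val_mul, inv_mul_cancel, Units.val_one, mul_one, hprod, ← hAP, mul_assoc,
      ← Units.val_mul, mul_inv_cancel, Units.val_one, mul_one]

/-- Only zero is a symmetric matrix fixed by an element of the class. -/
theorem fixed_zero {t d : F} (hp : Para t d) {N S : M2} (hN : Good t d N) (hS : Sᵀ = S) (h : N * S * Nᵀ = S) :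
    S = 0 := by
  have hu : IsUnit N.det := hN.isUnit hp
  by_cases hS0 : S.det = 0
  · obtain ⟨w, hw0, hw⟩ := Matrix.exists_mulVec_eq_zero_iff.2 hS0
    have hw' : S *ᵥ (Nᵀ *ᵥ w) = 0 := by
      have h1 := congrArg (fun M => M *ᵥ w) h
      simp only [← Matrix.mulVec_mulVec, hw] at h1
      exact Matrix.eq_zero_of_mulVec_eq_zero (by rw [hN.det]; exact hp.d0) h1
    set w' := Nᵀ *ᵥ w with hw'd
    have hind : w 0 * w' 1 - w 1 * w' 0 ≠ 0 := fun e => by
      -- otherwise `w` spans an invariant line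
      obtain ⟨μ, hμ⟩ : ∃ μ, w' = μ • w := by
        by_cases h0 : w 0 = 0
        · have h1 : w 1 ≠ 0 := fun e1 => hw0 (funext fun i => by fin_cases i <;> assumption)
          refine ⟨w' 1 / w 1, funext fun i => ?_⟩
          fin_cases i
          · simp only [h0, zero_mul, zero_sub, neg_eq_zero, mul_eq_zero, h1, false_or] at e
            simp [h0, e]
          · simp [h1]
        · refine ⟨w' 0 / w 0, funext fun i => ?_⟩
          fin_cases i
          · simp [h0]
          · simp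
            field_simp
            linear_combination e
      have hdet : (Nᵀ - μ • (1 : M2)).det = 0 := Matrix.exists_mulVec_eq_zero_iff.1
        ⟨w, hw0, by rw [Matrix.sub_mulVec, Matrix.smul_mulVec, Matrix.one_mulVec, ← hμ, ← hw'd, sub_self]⟩
      refine hp.noRoot μ ?_
      rw [Matrix.det_fin_two] at hdet
      simp at hdet
      linear_combination -hdet + μ * (-1 : F) * hN.1 + hN.2
    ext i j
    have e1 := congrFun hw i
    have e2 := congrFun hw' i
    simp [Matrix.mulVec, dotProduct, Fin.sum_univ_two] at e1 e2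
    have a0 : S i 0 * (w 0 * w' 1 - w 1 * w' 0) = 0 := by linear_combination w' 1 * e1 - w 1 * e2
    have a1 : S i 1 * (w 0 * w' 1 - w 1 * w' 0) = 0 := by linear_combination w 0 * e2 - w' 0 * e1
    fin_cases j
    · simpa using (mul_eq_zero.1 a0).resolve_right hind
    · simpa using (mul_eq_zero.1 a1).resolve_right hind
  · exfalso
    have h1 := congrArg Matrix.det h
    rw [Matrix.det_mul, Matrix.det_mul, Matrix.det_transpose, hN.det] at h1
    have hdd : d * d = 1 := mul_right_cancel₀ hS0 (by linear_combination h1)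
    have hdm : d = -1 := ((mul_self_eq_one_iff (a := d)).1 hdd).resolve_left hp.d1
    obtain ⟨hu', -⟩ : IsUnit S.det ∧ True := ⟨isUnit_iff_ne_zero.2 hS0, trivial⟩
    have h2 : Nᵀ = S⁻¹ * N⁻¹ * S := by
      calc Nᵀ = S⁻¹ * N⁻¹ * (N * S * Nᵀ) := by
            rw [mul_assoc N, mul_assoc S⁻¹, Matrix.nonsing_inv_mul_cancel_left _ _ hu,
              Matrix.nonsing_inv_mul_cancel_left _ _ hu']
        _ = _ := by rw [h]
    have h3 := congrArg Matrix.trace h2
    rw [Matrix.trace_mul_cycle, Matrix.mul_nonsing_inv _ hu', one_mul, Matrix.trace_transpose,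
      Matrix.inv_def, Matrix.trace_smul, Matrix.adjugate_fin_two, Matrix.trace_fin_two, Matrix.trace_fin_two,
      hN.det, hdm, Ring.inverse_eq_inv'] at h3
    simp at h3
    have h4 : (2 : F) * t = 0 := by linear_combination h3 - 2 * hN.1
    rcases mul_eq_zero.1 h4 with h2' | ht
    · exact hp.d1 (by rw [hdm]; linear_combination -h2')
    · exact hp.t0 ht

section Group

/-- The Levi element. -/
def lev (X : GL (Fin 2) F) : S4 := sympLevi 2 X

theorem lev_coe (X : GL (Fin 2) F) :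
    (lev X : M4) = fromBlocks (X : M2) 0 0 ((X⁻¹ : GL (Fin 2) F) : M2)ᵀ := rfl

/-- Lower unipotent elements. -/
def low (S : {S : M2 // Sᵀ = S}) : S4 :=
  ⟨fromBlocks 1 0 S.1 1, SymplecticGroup.fromBlocks_mem_iff.2 (by simp [S.2])⟩

/-- Upper unipotent elements. -/
def upp (S : {S : M2 // Sᵀ = S}) : S4 :=
  ⟨fromBlocks 1 S.1 0 1, SymplecticGroup.fromBlocks_mem_iff.2 (by simp [S.2])⟩

theorem low_coe (S : {S : M2 // Sᵀ = S}) : (low S : M4) = fromBlocks 1 0 S.1 1 := rfl

theorem upp_coe (S : {S : M2 // Sᵀ = S}) : (upp S : M4) = fromBlocks 1 S.1 0 1 := rfl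

variable [Fintype F] {t d : F}

/-- A lower unipotent times an element of the class is conjugate to that element. -/
theorem low_lev (hp : Para t d) {X : GL (Fin 2) F} (hX : Good t d (X : M2)) (T : {S : M2 // Sᵀ = S}) :
    ∃ u : S4, low T * lev X = u * lev X * u⁻¹ := by
  set Y : M2 := ((X⁻¹ : GL (Fin 2) F) : M2)ᵀ with hY
  have hYX : (X : M2)ᵀ * Y = 1 := by
    rw [hY, ← Matrix.transpose_mul, ← Units.val_mul, inv_mul_cancel, Units.val_one, Matrix.transpose_one]
  let f : {S : M2 // Sᵀ = S} → {S : M2 // Sᵀ = S} := fun S =>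
    ⟨S.1 - Y * S.1 * Yᵀ, by
      rw [Matrix.transpose_sub, Matrix.transpose_mul, Matrix.transpose_mul, Matrix.transpose_transpose, S.2,
        mul_assoc]⟩
  have hinj : Function.Injective f := by
    intro S S' h
    have h1 : S.1 - Y * S.1 * Yᵀ = S'.1 - Y * S'.1 * Yᵀ := congrArg Subtype.val h
    have h2 : Y * (S.1 - S'.1) * Yᵀ = S.1 - S'.1 := by
      rw [mul_sub, sub_mul]
      calc _ = (S.1 - S'.1) - ((S.1 - Y * S.1 * Yᵀ) - (S'.1 - Y * S'.1 * Yᵀ)) := by abel
        _ = _ := by rw [h1, sub_self, sub_zero]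
    have hYX' : Yᵀ * (X : M2) = 1 := by
      have := congrArg Matrix.transpose hYX
      rwa [Matrix.transpose_mul, Matrix.transpose_one, Matrix.transpose_transpose] at this
    refine Subtype.ext (sub_eq_zero.1 (fixed_zero hp hX.transpose (by rw [Matrix.transpose_sub, S.2, S'.2]) ?_))
    calc (X : M2)ᵀ * (S.1 - S'.1) * (X : M2)ᵀᵀ = (X : M2)ᵀ * (Y * (S.1 - S'.1) * Yᵀ) * (X : M2) := by
          rw [h2, Matrix.transpose_transpose]
      _ = ((X : M2)ᵀ * Y) * (S.1 - S'.1) * (Yᵀ * (X : M2)) := by simp only [mul_assoc]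
      _ = _ := by rw [hYX, hYX', one_mul, mul_one]
  obtain ⟨S, hS⟩ := Finite.injective_iff_surjective.1 hinj T
  refine ⟨low S, eq_mul_inv_of_mul_eq (Subtype.ext ?_)⟩
  show (low T : M4) * (lev X : M4) * (low S : M4) = (low S : M4) * (lev X : M4)
  have hS' : T.1 = S.1 - Y * S.1 * Yᵀ := (congrArg Subtype.val hS).symm
  have hYX2 : Yᵀ * (X : M2) = 1 := by
    rw [hY, Matrix.transpose_transpose, ← Units.val_mul, inv_mul_cancel, Units.val_one]
  simp only [lev_coe, low_coe, ← hY, fromBlocks_multiply, mul_zero, zero_mul, add_zero, zero_add, one_mul, mul_one,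
    fromBlocks_inj, true_and, and_true]
  rw [hS', sub_mul, mul_assoc _ Yᵀ, hYX2, mul_one]
  abel

/-- An element of the class times an upper unipotent is conjugate to that element. -/
theorem lev_upp (hp : Para t d) {X : GL (Fin 2) F} (hX : Good t d (X : M2)) (T : {S : M2 // Sᵀ = S}) :
    ∃ u : S4, lev X * upp T = u * lev X * u⁻¹ := by
  set Y : M2 := ((X⁻¹ : GL (Fin 2) F) : M2) with hY
  have hXY : (X : M2) * Y = 1 := by rw [hY, ← Units.val_mul, mul_inv_cancel, Units.val_one]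
  let f : {S : M2 // Sᵀ = S} → {S : M2 // Sᵀ = S} := fun S =>
    ⟨Y * S.1 * Yᵀ - S.1, by
      rw [Matrix.transpose_sub, Matrix.transpose_mul, Matrix.transpose_mul, Matrix.transpose_transpose, S.2,
        mul_assoc]⟩
  have hYX' : Yᵀ * (X : M2)ᵀ = 1 := by rw [← Matrix.transpose_mul, hXY, Matrix.transpose_one]
  have hinj : Function.Injective f := by
    intro S S' h
    have h1 : Y * S.1 * Yᵀ - S.1 = Y * S'.1 * Yᵀ - S'.1 := congrArg Subtype.val h
    have h2 : Y * (S.1 - S'.1) * Yᵀ = S.1 - S'.1 := by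
      rw [mul_sub, sub_mul]
      calc _ = (S.1 - S'.1) + ((Y * S.1 * Yᵀ - S.1) - (Y * S'.1 * Yᵀ - S'.1)) := by abel
        _ = _ := by rw [h1, sub_self, add_zero]
    refine Subtype.ext (sub_eq_zero.1 (fixed_zero hp hX (by rw [Matrix.transpose_sub, S.2, S'.2]) ?_))
    calc (X : M2) * (S.1 - S'.1) * (X : M2)ᵀ = (X : M2) * (Y * (S.1 - S'.1) * Yᵀ) * (X : M2)ᵀ := by rw [h2]
      _ = ((X : M2) * Y) * (S.1 - S'.1) * (Yᵀ * (X : M2)ᵀ) := by simp only [mul_assoc]
      _ = _ := by rw [hXY, hYX', one_mul, mul_one]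
  obtain ⟨S, hS⟩ := Finite.injective_iff_surjective.1 hinj T
  refine ⟨upp S, eq_mul_inv_of_mul_eq (Subtype.ext ?_)⟩
  show (lev X : M4) * (upp T : M4) * (upp S : M4) = (upp S : M4) * (lev X : M4)
  have hS' : T.1 = Y * S.1 * Yᵀ - S.1 := (congrArg Subtype.val hS).symm
  simp only [lev_coe, upp_coe, ← hY, fromBlocks_multiply, mul_zero, zero_mul, add_zero, zero_add, one_mul, mul_one,
    fromBlocks_inj, true_and, and_true]
  rw [hS', mul_sub, ← mul_assoc (X : M2) (Y * S.1) Yᵀ, ← mul_assoc (X : M2) Y S.1, hXY, one_mul]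
  abel

/-- The two unipotent factors and the block. -/
theorem decomp (g : S4) (hA : IsUnit (g : M4).toBlocks₁₁.det) (A : GL (Fin 2) F)
    (hAv : (A : M2) = (g : M4).toBlocks₁₁) : ∃ T T' : {S : M2 // Sᵀ = S}, g = low T * lev A * upp T' := by
  set a := (g : M4).toBlocks₁₁
  set b := (g : M4).toBlocks₁₂
  set c := (g : M4).toBlocks₂₁
  set e := (g : M4).toBlocks₂₂
  have hg : (g : M4) = fromBlocks a b c e := (fromBlocks_toBlocks _).symm
  obtain ⟨h1, -, -⟩ := SymplecticGroup.fromBlocks_mem_iff.1 (hg ▸ g.2)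
  have hT : (c * ((A⁻¹ : GL (Fin 2) F) : M2))ᵀ = c * ((A⁻¹ : GL (Fin 2) F) : M2) := by
    rw [← hAv] at h1
    have hi : ((A⁻¹ : GL (Fin 2) F) : M2)ᵀ * (A : M2)ᵀ = 1 := by
      rw [← Matrix.transpose_mul, ← Units.val_mul, mul_inv_cancel, Units.val_one, Matrix.transpose_one]
    calc _ = ((A⁻¹ : GL (Fin 2) F) : M2)ᵀ * (cᵀ * (A : M2)) * ((A⁻¹ : GL (Fin 2) F) : M2) := by
          rw [Matrix.transpose_mul, mul_assoc, mul_assoc cᵀ, ← Units.val_mul, mul_inv_cancel, Units.val_one,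
            mul_one]
      _ = _ := by rw [← h1, ← mul_assoc, hi, one_mul]
  let T : {S : M2 // Sᵀ = S} := ⟨_, hT⟩
  set h : S4 := (low T * lev A)⁻¹ * g with hh
  have hmul : (low T : M4) * (lev A : M4) * (h : M4) = (g : M4) := by
    rw [← Submonoid.coe_mul, ← Submonoid.coe_mul, hh, mul_inv_cancel_left]
  obtain ⟨a', b', c', e', he⟩ : ∃ a' b' c' e', (h : M4) = fromBlocks a' b' c' e' :=
    ⟨_, _, _, _, (fromBlocks_toBlocks _).symm⟩
  rw [he, hg, low_coe, lev_coe] at hmul
  simp only [fromBlocks_multiply, mul_zero, zero_mul, add_zero, zero_add, one_mul, fromBlocks_inj] at hmul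
  obtain ⟨m1, -, m3, -⟩ := hmul
  have hA1 : ((A⁻¹ : GL (Fin 2) F) : M2) * (A : M2) = 1 := by
    rw [← Units.val_mul, inv_mul_cancel, Units.val_one]
  have ha' : a' = 1 := by rw [← one_mul a', ← hA1, mul_assoc, m1, ← hAv, hA1]
  have hc' : c' = 0 := by
    rw [ha', mul_one, show T.1 * (A : M2) = c by
      show c * _ * (A : M2) = c
      rw [mul_assoc, hA1, mul_one], add_eq_left] at m3
    calc c' = (A : M2)ᵀ * (((A⁻¹ : GL (Fin 2) F) : M2)ᵀ * c') := by
          rw [← mul_assoc, ← Matrix.transpose_mul, hA1, Matrix.transpose_one, one_mul]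
      _ = 0 := by rw [m3, mul_zero]
  obtain ⟨-, h2, h3⟩ := SymplecticGroup.fromBlocks_mem_iff.1 (he ▸ h.2)
  rw [ha', hc', Matrix.transpose_zero, zero_mul, sub_zero, Matrix.transpose_one, one_mul] at h3
  rw [h3, mul_one, Matrix.transpose_one, one_mul] at h2
  refine ⟨T, ⟨b', h2⟩, ?_⟩
  rw [show upp ⟨b', h2⟩ = h from Subtype.ext (by rw [upp_coe, he, ha', hc', h3]), hh, mul_inv_cancel_left]

theorem blk_step {A C : M2} (h3 : 3 ≤ Fintype.card F) (hd : d ≠ 0) (hC : C 0 0 ≠ 0) (hC01 : C 0 1 = 0)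
    (hcol : C 1 1 = 0 → A 0 1 = 0 → A 1 1 ≠ 0) : ∃ S : M2, Sᵀ = S ∧ Blk d (A + S * C) := by
  classical
  set γ := C 0 0
  set δ := C 1 0
  set ε := C 1 1
  -- the block for given parameters
  have hblk : ∀ (x β w y s k u : F), A 0 0 + s * γ + k * δ = x → A 0 1 + k * ε = β → A 1 0 + k * γ + u * δ = w →
      A 1 1 + u * ε = y → x * y - β * w = d * d → ((x = d ∧ y = d ∧ β = 0 ∧ w = 0) ∨
        (x + y ≠ 2 * d ∧ (β ≠ 0 ∨ w ≠ 0))) → ∃ S : M2, Sᵀ = S ∧ Blk d (A + S * C) := by
    intro x β w y s k u hx hβ hw hy hdet hor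
    have e00 : (A + !![s, k; k, u] * C) 0 0 = x := by
      rw [← hx]; simp [Matrix.vecMul, dotProduct, Fin.sum_univ_two, γ, δ]; ring
    have e01 : (A + !![s, k; k, u] * C) 0 1 = β := by
      rw [← hβ]; simp [Matrix.vecMul, dotProduct, Fin.sum_univ_two, hC01, ε]
    have e10 : (A + !![s, k; k, u] * C) 1 0 = w := by
      rw [← hw]; simp [Matrix.vecMul, dotProduct, Fin.sum_univ_two, γ, δ]; ring
    have e11 : (A + !![s, k; k, u] * C) 1 1 = y := by
      rw [← hy]; simp [Matrix.vecMul, dotProduct, Fin.sum_univ_two, hC01, ε]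
    refine ⟨!![s, k; k, u], by ext i j; fin_cases i <;> fin_cases j <;> rfl, ?_, ?_⟩
    · rw [Matrix.det_fin_two, e00, e01, e10, e11, hdet]
    · rcases hor with ⟨rfl, rfl, rfl, rfl⟩ | ⟨h1, h2⟩
      · left
        ext i j
        fin_cases i <;> fin_cases j <;> simp_all
      · right
        rw [e00, e01, e10, e11]
        exact ⟨h1, h2⟩
  have hs : ∀ x k : F, A 0 0 + ((x - A 0 0 - k * δ) * γ⁻¹) * γ + k * δ = x := fun x k => by
    rw [inv_mul_cancel_right₀ hC]; ring
  by_cases hε : ε = 0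
  · by_cases hb : A 0 1 = 0
    · have he := hcol hε hb
      set e := A 1 1
      have hk : ∀ w, A 1 0 + ((w - A 1 0) * γ⁻¹) * γ + 0 * δ = w := fun w => by
        rw [inv_mul_cancel_right₀ hC]; ring
      by_cases hed : e = d
      · exact hblk d 0 0 d _ _ 0 (hs d _) (by rw [hb, hε, mul_zero, add_zero]) (hk 0)
          (by rw [zero_mul, add_zero]; exact hed) (by ring) (Or.inl ⟨rfl, rfl, rfl, rfl⟩)
      · refine hblk (d * d * e⁻¹) 0 1 e _ _ 0 (hs _ _) (by rw [hb, hε, mul_zero, add_zero]) (hk 1)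
          (by rw [zero_mul, add_zero]) (by rw [zero_mul, sub_zero, inv_mul_cancel_right₀ he])
          (Or.inr ⟨fun h => hed ?_, Or.inr one_ne_zero⟩)
        have h' : (e - d) * (e - d) = 0 := by
          field_simp at h
          linear_combination h
        exact sub_eq_zero.1 (mul_self_eq_zero.1 h')
    · set b := A 0 1
      set e := A 1 1
      set x := if e = 2 * d then 1 else (0 : F) with hxd
      refine hblk x b ((x * e - d * d) * b⁻¹) e _ (((x * e - d * d) * b⁻¹ - A 1 0) * γ⁻¹) 0 (hs x _)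
        (by rw [hε, mul_zero, add_zero]) (by rw [inv_mul_cancel_right₀ hC]; ring)
        (by rw [zero_mul, add_zero]) (by field_simp; ring) (Or.inr ⟨?_, Or.inl hb⟩)
      by_cases h : e = 2 * d
      · rw [hxd, if_pos h, h]; exact fun h' => one_ne_zero (add_eq_right.1 h')
      · rw [hxd, if_neg h, zero_add]; exact h
  · set u := (d - A 1 1) * ε⁻¹ with hu
    have hy : A 1 1 + u * ε = d := by rw [hu, inv_mul_cancel_right₀ hε]; ring
    set g := γ * ε⁻¹ with hg
    set w₀ := A 1 0 - A 0 1 * g + u * δ with hw₀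
    have hk : ∀ β, A 0 1 + ((β - A 0 1) * ε⁻¹) * ε = β := fun β => by rw [inv_mul_cancel_right₀ hε]; ring
    have hw : ∀ β, A 1 0 + ((β - A 0 1) * ε⁻¹) * γ + u * δ = w₀ + g * β := fun β => by rw [hw₀, hg]; ring
    by_cases h0 : w₀ = 0
    · exact hblk d 0 0 d _ _ u (hs d _) (hk 0) (by rw [hw, h0]; ring) hy (by ring) (Or.inl ⟨rfl, rfl, rfl, rfl⟩)
    · obtain ⟨β, hβ⟩ : ∃ β : F, β ∉ ({0, -w₀ * g⁻¹} : Finset F) := by
        classical
        by_contra hcon
        push Not at hcon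
        have := Finset.card_le_card (fun a _ => hcon a : (Finset.univ : Finset F) ⊆ {0, -w₀ * g⁻¹})
        rw [Finset.card_univ] at this
        exact absurd (this.trans Finset.card_le_two) (by omega)
      simp only [Finset.mem_insert, Finset.mem_singleton, not_or] at hβ
      refine hblk ((d * d + β * (w₀ + g * β)) * d⁻¹) β (w₀ + g * β) d _ _ u (hs _ _) (hk β) (hw β) hy
        (by rw [inv_mul_cancel_right₀ hd]; ring) (Or.inr ⟨fun h => ?_, Or.inl hβ.1⟩)
      field_simp at h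
      have h' : β * (w₀ + g * β) = 0 := by linear_combination h
      have hg0 : g ≠ 0 := mul_ne_zero hC (inv_ne_zero hε)
      refine hβ.2 ?_
      have := (mul_eq_zero.1 h').resolve_left hβ.1
      field_simp
      linear_combination this

theorem toBlocks_upp_conj (g : S4) (S : {S : M2 // Sᵀ = S}) :
    ((upp S * g * (upp S)⁻¹ : S4) : M4).toBlocks₁₁ = (g : M4).toBlocks₁₁ + S.1 * (g : M4).toBlocks₂₁ := by
  have hi : (upp S)⁻¹ = upp ⟨-S.1, by rw [Matrix.transpose_neg, S.2]⟩ := inv_eq_of_mul_eq_one_right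
    (Subtype.ext (by simp [upp_coe, fromBlocks_multiply, fromBlocks_one]))
  rw [hi, Submonoid.coe_mul, Submonoid.coe_mul, upp_coe, upp_coe]
  conv_lhs => rw [← fromBlocks_toBlocks (g : M4)]
  simp [fromBlocks_multiply]

theorem lev_conj (g : S4) (P : GL (Fin 2) F) :
    ((lev P * g * (lev P)⁻¹ : S4) : M4).toBlocks₁₁ =
      (P : M2) * (g : M4).toBlocks₁₁ * ((P⁻¹ : GL (Fin 2) F) : M2) ∧
    ((lev P * g * (lev P)⁻¹ : S4) : M4).toBlocks₂₁ =
      ((P⁻¹ : GL (Fin 2) F) : M2)ᵀ * (g : M4).toBlocks₂₁ * ((P⁻¹ : GL (Fin 2) F) : M2) := by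
  rw [show (lev P)⁻¹ = lev P⁻¹ from (map_inv (sympLevi 2) P).symm, Submonoid.coe_mul, Submonoid.coe_mul, lev_coe,
    lev_coe]
  conv_lhs => rw [← fromBlocks_toBlocks (g : M4)]
  conv_rhs => rw [← fromBlocks_toBlocks (g : M4)]
  simp [fromBlocks_multiply]

/-- A conjugate with a good block. -/
theorem exists_blk (h3 : 3 ≤ Fintype.card F) (hd : d ≠ 0) {g : S4} (hC : (g : M4).toBlocks₂₁ ≠ 0) :
    ∃ z : S4, Blk d ((z * g * z⁻¹ : S4) : M4).toBlocks₁₁ := by
  set C := (g : M4).toBlocks₂₁ with hCd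
  set A := (g : M4).toBlocks₁₁ with hAd
  by_cases halt : C 0 0 = 0 ∧ C 1 1 = 0 ∧ C 0 1 + C 1 0 = 0
  · obtain ⟨h00, h11, h01⟩ := halt
    set c := C 0 1 with hc
    have h10 : C 1 0 = -c := eq_neg_of_add_eq_zero_right h01
    have hc0 : c ≠ 0 := fun e => hC (by
      ext i j; fin_cases i <;> fin_cases j <;> simp [h00, h11, h10, ← hc, e])
    have key : ∀ s k u : F, ∃ z : S4, ((z * g * z⁻¹ : S4) : M4).toBlocks₁₁ =
        !![A 0 0 - k * c, A 0 1 + s * c; A 1 0 - u * c, A 1 1 + k * c] := fun s k u => by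
      refine ⟨upp ⟨!![s, k; k, u], by ext i j; fin_cases i <;> fin_cases j <;> rfl⟩, ?_⟩
      rw [toBlocks_upp_conj, ← hCd, ← hAd]
      ext i j
      fin_cases i <;> fin_cases j <;> simp [Matrix.mul_apply, Matrix.vecMul, dotProduct, Fin.sum_univ_two, h00, h11, h10, ← hc] <;> ring
    by_cases hτ : A 0 0 + A 1 1 = 2 * d
    · obtain ⟨z, hz⟩ := key (-A 0 1 * c⁻¹) ((A 0 0 - d) * c⁻¹) (A 1 0 * c⁻¹)
      refine ⟨z, ?_⟩
      rw [hz, inv_mul_cancel_right₀ hc0, inv_mul_cancel_right₀ hc0, inv_mul_cancel_right₀ hc0,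
        show A 1 1 + (A 0 0 - d) = d by linear_combination hτ]
      refine ⟨by simp [Matrix.det_fin_two], Or.inl ?_⟩
      ext i j
      fin_cases i <;> fin_cases j <;> simp
    · obtain ⟨z, hz⟩ := key ((1 - A 0 1) * c⁻¹) 0 ((A 1 0 - (A 0 0 * A 1 1 - d * d)) * c⁻¹)
      refine ⟨z, ?_⟩
      rw [hz, inv_mul_cancel_right₀ hc0, inv_mul_cancel_right₀ hc0]
      exact ⟨by simp [Matrix.det_fin_two], Or.inr ⟨by simpa using hτ, Or.inl (by simp)⟩⟩
  -- a basis with a non-zero diagonal entry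
  obtain ⟨P₁, hP₁⟩ : ∃ P : GL (Fin 2) F,
      (((P⁻¹ : GL (Fin 2) F) : M2)ᵀ * C * ((P⁻¹ : GL (Fin 2) F) : M2)) 0 0 ≠ 0 := by
    have mk : ∀ (M : M2) (h : M.det ≠ 0), (Mᵀ * C * M) 0 0 ≠ 0 → ∃ P : GL (Fin 2) F,
        (((P⁻¹ : GL (Fin 2) F) : M2)ᵀ * C * ((P⁻¹ : GL (Fin 2) F) : M2)) 0 0 ≠ 0 := fun M h hne =>
      ⟨(GeneralLinearGroup.mkOfDetNeZero M h)⁻¹, by rw [inv_inv]; exact hne⟩
    by_cases h00 : C 0 0 = 0
    · by_cases h11 : C 1 1 = 0
      · refine mk !![1, 0; 1, 1] (by simp [Matrix.det_fin_two]) ?_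
        simp [Matrix.mul_apply, Fin.sum_univ_two, h00, h11]
        exact fun e => halt ⟨h00, h11, by linear_combination e⟩
      · exact mk !![0, 1; 1, 0] (by simp [Matrix.det_fin_two]) (by simpa [Matrix.mul_apply, Fin.sum_univ_two])
    · exact mk 1 (by simp) (by simpa)
  set g₁ := lev P₁ * g * (lev P₁)⁻¹ with hg₁
  set C₁ := (g₁ : M4).toBlocks₂₁ with hC₁
  have hC₁00 : C₁ 0 0 ≠ 0 := by rw [hC₁, hg₁, (lev_conj g P₁).2]; exact hP₁
  set M : M2 := !![1, -(C₁ 0 1 * (C₁ 0 0)⁻¹); 0, 1] with hM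
  let P₂ : GL (Fin 2) F := (GeneralLinearGroup.mkOfDetNeZero M (by simp [hM, Matrix.det_fin_two]))⁻¹
  set g₂ := lev P₂ * g₁ * (lev P₂)⁻¹ with hg₂
  have hC₂ : (g₂ : M4).toBlocks₂₁ = Mᵀ * C₁ * M := by
    rw [hg₂, (lev_conj g₁ P₂).2, inv_inv]
    rfl
  have h00 : (g₂ : M4).toBlocks₂₁ 0 0 ≠ 0 := by
    rw [hC₂]; simpa [hM, Matrix.mul_apply, Fin.sum_univ_two] using hC₁00
  have h01 : (g₂ : M4).toBlocks₂₁ 0 1 = 0 := by
    rw [hC₂]; simp [hM, Matrix.mul_apply, Fin.sum_univ_two]; field_simp; ring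
  obtain ⟨S, hS, hSb⟩ := blk_step (A := (g₂ : M4).toBlocks₁₁) (d := d) h3 hd h00 h01 fun h11 hb he => by
    have hu := SymplecticGroup.symplectic_det g₂.2
    refine hu.ne_zero (Matrix.det_eq_zero_of_column_eq_zero (Sum.inl 1) fun i => ?_)
    rcases i with i | i <;> fin_cases i
    · exact hb
    · exact he
    · exact h01
    · exact h11
  refine ⟨upp ⟨S, hS⟩ * lev P₂ * lev P₁, ?_⟩
  rw [show upp ⟨S, hS⟩ * lev P₂ * lev P₁ * g * (upp ⟨S, hS⟩ * lev P₂ * lev P₁)⁻¹ =
    upp ⟨S, hS⟩ * g₂ * (upp ⟨S, hS⟩)⁻¹ by rw [hg₂, hg₁]; group, toBlocks_upp_conj]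
  exact hSb

/-- A non-central element moves the Lagrangian after conjugation. -/
theorem exists_corner {g : S4} (hg : g ∉ Subgroup.center S4) :
    ∃ z : S4, ((z * g * z⁻¹ : S4) : M4).toBlocks₂₁ ≠ 0 := by
  by_contra hcon
  push Not at hcon
  set A := (g : M4).toBlocks₁₁ with hAd
  set B := (g : M4).toBlocks₁₂ with hBd
  set D := (g : M4).toBlocks₂₂ with hDd
  have hC : (g : M4).toBlocks₂₁ = 0 := by simpa using hcon 1
  have hgb : (g : M4) = fromBlocks A B 0 D := by rw [← hC]; exact (fromBlocks_toBlocks _).symm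
  have hB : B = 0 := by
    have h := hcon (SymplecticGroup.symJ (Fin 2) F)
    rw [Submonoid.coe_mul, Submonoid.coe_mul, hgb, SymplecticGroup.coe_J, SymplecticGroup.coe_inv,
      SymplecticGroup.coe_J] at h
    simpa [J, fromBlocks_multiply, fromBlocks_neg, fromBlocks_transpose] using h
  obtain ⟨-, -, hAD⟩ := SymplecticGroup.fromBlocks_mem_iff.1 (hgb ▸ g.2)
  rw [Matrix.transpose_zero, zero_mul, sub_zero] at hAD
  have hS : ∀ S : M2, Sᵀ = S → Aᵀ * S * A = S := fun S hS => by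
    have h := hcon (low ⟨S, hS⟩)
    have hi : (low ⟨S, hS⟩)⁻¹ = low ⟨-S, by rw [Matrix.transpose_neg, hS]⟩ := inv_eq_of_mul_eq_one_right
      (Subtype.ext (by simp [low_coe, fromBlocks_multiply, fromBlocks_one]))
    rw [hi, Submonoid.coe_mul, Submonoid.coe_mul, hgb, hB, low_coe, low_coe] at h
    simp [fromBlocks_multiply] at h
    calc Aᵀ * S * A = Aᵀ * (S * A + -(D * S)) + Aᵀ * D * S := by
          rw [mul_add, mul_neg, ← mul_assoc, ← mul_assoc, neg_add_cancel_right]
      _ = S := by rw [h, mul_zero, zero_add, hAD, one_mul]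
  have e1 := hS !![1, 0; 0, 0] (by ext i j; fin_cases i <;> fin_cases j <;> rfl)
  have e2 := hS !![0, 0; 0, 1] (by ext i j; fin_cases i <;> fin_cases j <;> rfl)
  have e3 := hS !![0, 1; 1, 0] (by ext i j; fin_cases i <;> fin_cases j <;> rfl)
  have f1 := congrFun (congrFun e1 1) 1
  have f1' := congrFun (congrFun e1 0) 0
  have f2 := congrFun (congrFun e2 0) 0
  have f3 := congrFun (congrFun e3 0) 1
  simp [Matrix.mul_apply, Fin.sum_univ_two] at f1 f1' f2 f3
  have ha01 : A 0 1 = 0 := by simpa using f1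
  have ha10 : A 1 0 = 0 := by simpa using f2
  rw [ha01, ha10] at f3
  simp at f3
  have ha11 : A 1 1 = A 0 0 := by linear_combination A 0 0 * f3 - A 1 1 * f1'
  have hA : A = A 0 0 • 1 := by ext i j; fin_cases i <;> fin_cases j <;> simp [ha01, ha10, ha11]
  have hD : D = A 0 0 • 1 := by
    rw [hA, Matrix.transpose_smul, Matrix.transpose_one, Matrix.smul_mul, one_mul] at hAD
    have : A 0 0 • (A 0 0 • D) = A 0 0 • 1 := by rw [hAD]
    rwa [smul_smul, f1', one_smul] at this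
  refine hg (Subgroup.mem_center_iff.2 fun h => Subtype.ext ?_)
  show (h : M4) * (g : M4) = (g : M4) * (h : M4)
  rw [hgb, hB, hA, hD, show fromBlocks (A 0 0 • (1 : M2)) 0 0 (A 0 0 • (1 : M2)) = A 0 0 • (1 : M4) by
    rw [← fromBlocks_one, fromBlocks_smul, smul_zero], Matrix.mul_smul, Matrix.smul_mul, mul_one, one_mul]

/-- The semisimple element. -/
noncomputable def base (hp : Para t d) : GL (Fin 2) F :=
  GeneralLinearGroup.mkOfDetNeZero (comp t d) (by rw [(comp_good t d).det]; exact hp.d0)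

/-- Non-central elements are products of two conjugates of the Levi element. -/
theorem product_two (h3 : 3 ≤ Fintype.card F) (hp : Para t d) {g : S4} (hg : g ∉ Subgroup.center S4) :
    ∃ u v : S4, g = (u * lev (base hp) * u⁻¹) * (v * lev (base hp) * v⁻¹) := by
  obtain ⟨z₁, hz₁⟩ := exists_corner hg
  obtain ⟨z₂, hz₂⟩ := exists_blk (d := d) h3 hp.d0 hz₁
  set z := z₂ * z₁ with hz
  have hg' : z * g * z⁻¹ = z₂ * (z₁ * g * z₁⁻¹) * z₂⁻¹ := by rw [hz]; group
  rw [← hg'] at hz₂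
  obtain ⟨X, Y, hX, hY, hXY⟩ := blk_prod hp hz₂
  let X' : GL (Fin 2) F := GeneralLinearGroup.mkOfDetNeZero X (by rw [hX.det]; exact hp.d0)
  let Y' : GL (Fin 2) F := GeneralLinearGroup.mkOfDetNeZero Y (by rw [hY.det]; exact hp.d0)
  obtain ⟨T, T', hT⟩ := decomp (z * g * z⁻¹) (by
    rw [hz₂.1]; exact isUnit_iff_ne_zero.2 (mul_ne_zero hp.d0 hp.d0)) (X' * Y') (by
    rw [Units.val_mul]; exact hXY.symm)
  obtain ⟨a, ha⟩ := low_lev hp (X := X') hX T
  obtain ⟨b, hb⟩ := lev_upp hp (X := Y') hY T'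
  obtain ⟨P, hP⟩ := hX.similar hp
  obtain ⟨R, hR⟩ := hY.similar hp
  have hX' : lev X' = lev P * lev (base hp) * (lev P)⁻¹ := by
    rw [show X' = P * base hp * P⁻¹ from Units.ext hP]
    simp only [lev, map_mul, map_inv]
  have hY' : lev Y' = lev R * lev (base hp) * (lev R)⁻¹ := by
    rw [show Y' = R * base hp * R⁻¹ from Units.ext hR]
    simp only [lev, map_mul, map_inv]
  refine ⟨z⁻¹ * a * lev P, z⁻¹ * b * lev R, ?_⟩
  rw [show lev (X' * Y') = lev X' * lev Y' from map_mul _ _ _,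
    show low T * (lev X' * lev Y') * upp T' = low T * lev X' * (lev Y' * upp T') by group, ha, hb, hX', hY'] at hT
  calc g = z⁻¹ * (z * g * z⁻¹) * z := by group
    _ = _ := by rw [hT]; group

/-- The element has order prime to the characteristic. -/
theorem not_dvd_order (p : ℕ) [Fact p.Prime] [CharP F p] (hp : Para t d) : ¬ p ∣ orderOf (lev (base hp)) := by
  set f : Polynomial F := Polynomial.X ^ 2 - Polynomial.C t * Polynomial.X + Polynomial.C d with hf
  have hdeg : f.natDegree = 2 := by rw [hf]; compute_degree!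
  have hirr : Irreducible f := Polynomial.irreducible_of_degree_le_three_of_not_isRoot (by rw [hdeg]; decide)
    fun a h => hp.noRoot a (by
      simp [hf] at h
      linear_combination h.symm)
  haveI : Fact (Irreducible f) := ⟨hirr⟩
  have hroot : Polynomial.aeval (comp t d) f = 0 := by
    rw [hf]
    simp [pow_two, Algebra.algebraMap_eq_smul_one]
    ext i j
    fin_cases i <;> fin_cases j <;> simp [comp, Matrix.mul_apply, Fin.sum_univ_two] <;> ring
  let φ : AdjoinRoot f →ₐ[F] M2 := Ideal.Quotient.liftₐ (Ideal.span {f}) (Polynomial.aeval (comp t d)) fun a ha => by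
    obtain ⟨c, rfl⟩ := Ideal.mem_span_singleton'.1 ha
    rw [map_mul, hroot, mul_zero]
  have hφ : φ (AdjoinRoot.root f) = comp t d := Polynomial.aeval_X (comp t d)
  haveI : Module.Finite F (AdjoinRoot f) := (AdjoinRoot.powerBasis hirr.ne_zero).finite
  haveI : Finite (AdjoinRoot f) := Module.finite_of_finite F
  have hcard : Nat.card (AdjoinRoot f) = Fintype.card F ^ 2 := by
    rw [Module.natCard_eq_pow_finrank (K := F), Nat.card_eq_fintype_card, (AdjoinRoot.powerBasis hirr.ne_zero).finrank,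
      AdjoinRoot.powerBasis_dim, hdeg]
  letI : Fintype (AdjoinRoot f) := Fintype.ofFinite _
  have hr0 : AdjoinRoot.root f ≠ 0 := fun e => hp.d0 (by
    have h1 := hφ
    rw [e, map_zero] at h1
    have := congrArg Matrix.det h1
    rw [(comp_good t d).det, Matrix.det_zero] at this
    exact this.symm)
  have hpow : base hp ^ (Fintype.card F ^ 2 - 1) = 1 := Units.ext (by
    rw [Units.val_pow_eq_pow_val, Units.val_one, ← hcard, Nat.card_eq_fintype_card]
    show comp t d ^ _ = 1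
    rw [← hφ, ← map_pow,
      FiniteField.pow_card_sub_one_eq_one _ hr0, map_one])
  intro hdvd
  have h1 : orderOf (lev (base hp)) ∣ Fintype.card F ^ 2 - 1 :=
    orderOf_dvd_of_pow_eq_one (by rw [lev, ← map_pow, hpow, map_one])
  have h2 : p ∣ Fintype.card F := (CharP.cast_eq_zero_iff F p _).1 (FiniteField.cast_card_eq_zero F)
  have h3 : p ∣ Fintype.card F ^ 2 := dvd_pow h2 (by norm_num)
  have h4 := Nat.dvd_sub h3 (hdvd.trans h1)
  rw [Nat.sub_sub_self (Nat.one_le_pow _ _ Fintype.card_pos), Nat.dvd_one] at h4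
  exact (Fact.out : p.Prime).ne_one h4

/-- Every non-identity element of `PSp₄(q)` is a product of two conjugates of one semisimple element. -/
theorem psp_four (p : ℕ) [Fact p.Prime] [CharP F p] (h3 : 3 ≤ Fintype.card F) :
    ∃ x : PSp 2 F, ¬ p ∣ orderOf x ∧
      ∀ g : PSp 2 F, g ≠ 1 → ∃ u v : PSp 2 F, g = (u * x * u⁻¹) * (v * x * v⁻¹) := by
  obtain ⟨t, d, hp⟩ := exists_para h3
  set π := QuotientGroup.mk' (Subgroup.center S4)
  refine ⟨π (lev (base hp)), fun h => not_dvd_order p hp (h.trans (orderOf_map_dvd π _)), fun g hg => ?_⟩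
  obtain ⟨g, rfl⟩ := QuotientGroup.mk'_surjective (Subgroup.center S4) g
  obtain ⟨u, v, huv⟩ := product_two h3 hp (g := g) fun h => hg ((QuotientGroup.eq_one_iff g).2 h)
  exact ⟨π u, π v, by simp only [← map_inv, ← map_mul]; rw [← huv]⟩

end Group

end Cfsg.Agent.Classical.SpFourSquare
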