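import Cfsg.Agent.Lib.Classical.SpectraPair

/-!
Orders of elements of `Ω⁺` of dimension eight without fixed vectors.
-/

set_option autoImplicit false
set_option linter.unusedSectionVars false
set_option quotPrecheck false

namespace Cfsg.Agent.Classical.Spectra

open Matrix Module Cfsg Cfsg.Agent.Classical.OrthAut

variable {F : Type*} [Field F] [Fintype F] {ι : Type} [Fintype ι] [DecidableEq ι]
  {Q : QuadraticForm F (ι → F)}

/-- The list of orders. -/
def InList (p q n : ℕ) : Prop :=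
  n ∣ Nat.lcm (q ^ 2 + 1) (q ^ 2 - 1) ∨ n ∣ Nat.lcm (q ^ 3 - 1) (q + 1) ∨ n ∣ Nat.lcm (q ^ 3 + 1) (q - 1) ∨
  n ∣ p * (q ^ 2 - 1) ∨ n ∣ p * Nat.lcm (q ^ 2 + 1) (q - 1) ∨ n ∣ p * Nat.lcm (q ^ 2 + 1) (q + 1) ∨
  (p = 3 ∧ (n ∣ 9 * (q - 1) ∨ n ∣ 9 * (q + 1))) ∨ (p = 5 ∧ n ∣ 50)

theorem det_fromBlocks_sub {m n : Type} [Fintype m] [DecidableEq m] [Fintype n] [DecidableEq n]
    (A : Matrix m m F) (B : Matrix n n F) :
    (Matrix.fromBlocks A 0 0 B - 1).det = (A - 1).det * (B - 1).det := by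
  rw [show Matrix.fromBlocks A 0 0 B - 1 = Matrix.fromBlocks (A - 1) 0 0 (B - 1) by
    rw [← Matrix.fromBlocks_one, sub_eq_add_neg, Matrix.fromBlocks_neg, Matrix.fromBlocks_add]
    simp [sub_eq_add_neg]]
  exact Matrix.det_fromBlocks_zero₁₂ _ _ _

/-- The order of a negated unipotent isometry. -/
theorem pow_minus_unipotent (p : ℕ) [Fact p.Prime] [CharP F p] (g : isometryGroup F ⇑Q) (c : ℕ) {m : ℕ}
    (hm : (ogVal g + 1) ^ m = 0) (hc : m ≤ p ^ c) : g ^ (p ^ c * 2) = 1 := by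
  rcases isEmpty_or_nonempty ι with hι | hι
  · exact ogVal_ext (Subsingleton.elim _ _)
  refine ogVal_ext ?_
  rw [PrimeGraphBC.ogVal_pow, ogVal_one, mul_comm, pow_mul, orderOf_unipotent p,
    show ogVal g ^ 2 - 1 = (ogVal g + 1) * (ogVal g - 1) by noncomm_ring,
    ((Commute.refl (ogVal g)).sub_right (Commute.one_right _)).add_left
      ((Commute.one_left _).sub_right (Commute.one_left _)) |>.mul_pow,
    pow_eq_zero_of_le hc hm, Matrix.zero_mul]

theorem inList_bound (p : ℕ) [Fact p.Prime] [CharP F p] (h2 : (2 : F) ≠ 0)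
    (hQ : (QuadraticMap.polarBilin Q).Nondegenerate) (hn : Fintype.card ι = 8) (hs : sd Q = 1)
    {w : isometryGroup F ⇑Q} (hw : w ∈ Omega F ⇑Q) (h1 : (ogVal w - 1).det ≠ 0) :
    InList p (Fintype.card F) (orderOf w) := by
  classical
  set q := Fintype.card F with hq
  have hp : p.Prime := Fact.out
  have hp3 : 3 ≤ p := by
    have := hp.two_le
    rcases Nat.lt_or_ge p 3 with h | h
    · exfalso; exact h2 (by
        obtain rfl : p = 2 := by omega
        exact_mod_cast CharP.cast_eq_zero F 2)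
    · exact h
  have hqm : q % 2 = 1 := FiniteField.odd_card_of_char_ne_two fun h => h2 (by
    haveI := ringChar.of_eq h; exact CharTwo.two_eq_zero)
  have hq2 : 2 ≤ q := Fintype.one_lt_card
  obtain ⟨a, b, Q₁, Q₂, hQ₁, hQ₂, hab, D, g₁, g₂, hD, hg₁, hg₂⟩ :=
    exists_fitting hQ w (c := (-1 : F)) (by ring)
  rw [neg_one_smul, sub_neg_eq_add] at hg₁ hg₂
  rw [hn] at hab
  obtain ⟨hwd, hws⟩ := omega_parts h2 hQ hw
  rw [← hD, det_og, det_pair] at hwd
  rw [← hD, spin_og h2 (nondegenerate_sumQ hQ₁ hQ₂) hQ D, spin_pair h2 hQ₁ hQ₂] at hws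
  have h1' : (ogVal g₁ - 1).det * (ogVal g₂ - 1).det ≠ 0 := by
    rw [← det_fromBlocks_sub, ← pair_val]
    intro h0
    obtain ⟨v, hv, hv0⟩ := Matrix.exists_mulVec_eq_zero_iff.2 h0
    rw [Matrix.sub_mulVec, Matrix.one_mulVec, sub_eq_zero] at hv0
    refine h1 (Matrix.exists_mulVec_eq_zero_iff.1 ⟨D.M *ᵥ v, fun h => hv ?_, ?_⟩)
    · have := congrArg (D.N *ᵥ ·) h
      simpa [Matrix.mulVec_mulVec, D.NM] using this
    · rw [Matrix.sub_mulVec, Matrix.one_mulVec, ← hD, sub_eq_zero]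
      refine Eq.trans ?_ (congrArg (D.M *ᵥ ·) hv0)
      exact D.gl_apply _ v
  have hg₂1 : (ogVal g₂ - 1).det ≠ 0 := right_ne_zero_of_mul h1'
  have hbe : Even b := by
    rw [← Nat.not_odd_iff_even]
    intro hodd
    have hd2 : (ogVal g₂).det ^ 2 = 1 := by
      obtain ⟨hM, hG⟩ := PrimeGraphBC.gram_facts hQ₂
      have h := congrArg Matrix.det (hG g₂)
      rw [Matrix.det_mul, Matrix.det_mul, Matrix.det_transpose] at h
      exact mul_right_cancel₀ hM (by linear_combination h)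
    rcases sq_eq_one_iff.1 hd2 with e | e
    · exact hg₂1 (det_sub_one_eq_zero h2 hQ₂ g₂ (by simpa using hodd) e)
    · have hn' : (ogVal (negOne Q₂ * g₂)).det = 1 := by
        rw [ogVal_mul, Matrix.det_mul, ogVal_negOne, Matrix.det_neg, Matrix.det_one, e, Fintype.card_fin,
          hodd.neg_one_pow]
        ring
      have h := det_sub_one_eq_zero h2 hQ₂ (negOne Q₂ * g₂) (by simpa using hodd) hn'
      rw [ogVal_mul, ogVal_negOne, neg_one_mul, show -ogVal g₂ - 1 = -(ogVal g₂ + 1) by abel, Matrix.det_neg] at h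
      exact hg₂ ((mul_eq_zero.1 h).resolve_left (pow_ne_zero _ (neg_ne_zero.2 one_ne_zero)))
  have hae : Even a := by
    have h8 : Even (a + b) := by rw [hab]; decide
    exact (Nat.even_add.1 h8).2 hbe
  have hg₁' : a ≠ 0 → (ogVal g₁ + 1) ^ (a - 1) = 0 := fun ha => by
    have h := pow_pred_eq_zero h2 hQ₁ g₁ (c := (-1 : F)) (by ring) (Fintype.card_fin a) hae
      (by rw [neg_one_smul, sub_neg_eq_add, hg₁]) ha
    rwa [neg_one_smul, sub_neg_eq_add] at h
  have hg₁c : ∀ c, a - 1 ≤ p ^ c → g₁ ^ (p ^ c * 2) = 1 := fun c hc => by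
    rcases eq_or_ne a 0 with rfl | ha
    · exact ogVal_ext (Subsingleton.elim _ _)
    · exact pow_minus_unipotent p g₁ c (hg₁' ha) hc
  obtain ⟨K, hKf, hKa, hKc, hKp⟩ : ∃ (K : Type _) (_ : Field K) (_ : Algebra F K) (_ : IsAlgClosed K), CharP K p :=
    ⟨AlgebraicClosure F, inferInstance, inferInstance, inferInstance,
      charP_of_injective_algebraMap (algebraMap F (AlgebraicClosure F)).injective p⟩
  set R := eigRoots K (ogVal g₂)
  have hR : Stable F R := stable_eigRoots hQ₂ g₂ hg₂1 hg₂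
  have hcard : Multiset.card R = b := by rw [card_eigRoots, Fintype.card_fin]
  have hcnt : ∀ x ∈ R, 2 * R.count x ≤ b := fun x hx => by
    obtain ⟨e, s, C, -, hC, -⟩ := exists_cls' hR hx
    have h := hC.le_card
    have : 1 * R.count x ≤ e * R.count x := Nat.mul_le_mul_right _ hC.pos
    rw [hcard, mul_assoc] at h
    omega
  have hord : orderOf w = Nat.lcm (orderOf g₁) (orderOf g₂) := by
    rw [← hD, MulEquiv.orderOf_eq, orderOf_pair]
  have bound : ∀ (c₁ c M : ℕ), a - 1 ≤ p ^ c₁ → c₁ ≤ c → 2 ∣ M → M ≠ 0 → (∀ x ∈ R, x ^ M = 1) →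
      (∀ x ∈ R, R.count x ≤ p ^ c) → orderOf w ∣ p ^ c * M := fun c₁ c M h3 h4 h5 h6 h7 h8 => by
    rw [hord]
    exact Nat.lcm_dvd ((orderOf_dvd_of_pow_eq_one (hg₁c c₁ h3)).trans (Nat.mul_dvd_mul (pow_dvd_pow p h4) h5))
      (orderOf_dvd_of_pow_eq_one (pow_of_roots p g₂ h6 h7 h8))
  have hone : ∀ M, (M = q ^ 2 - 1 ∨ M = Nat.lcm (q ^ 2 + 1) (q - 1) ∨ M = Nat.lcm (q ^ 2 + 1) (q + 1)) →
      2 ∣ M ∧ M ≠ 0 ∧ (orderOf w ∣ p ^ 1 * M → InList p q (orderOf w)) := by
    have h22 : q ^ 2 % 2 = 1 := by rw [Nat.pow_mod, hqm]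
    rintro M (rfl | rfl | rfl) <;> refine ⟨?_, ?_, fun h => ?_⟩
    · omega
    · have : 2 * 2 ≤ q ^ 2 := by rw [sq]; exact Nat.mul_le_mul hq2 hq2
      omega
    · exact Or.inr (Or.inr (Or.inr (Or.inl (by rwa [pow_one] at h))))
    · exact (show 2 ∣ q ^ 2 + 1 by omega).trans (Nat.dvd_lcm_left _ _)
    · exact Nat.lcm_ne_zero (by omega) (by omega)
    · exact Or.inr (Or.inr (Or.inr (Or.inr (Or.inl (by rwa [pow_one] at h)))))
    · exact (show 2 ∣ q ^ 2 + 1 by omega).trans (Nat.dvd_lcm_left _ _)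
    · exact Nat.lcm_ne_zero (by omega) (by omega)
    · exact Or.inr (Or.inr (Or.inr (Or.inr (Or.inr (Or.inl (by rwa [pow_one] at h))))))
  have htwo : ∀ M, (M = q - 1 ∨ M = q + 1) → 2 ∣ M ∧ M ≠ 0 ∧
      (p = 3 → orderOf w ∣ p ^ 2 * M → InList p q (orderOf w)) ∧
      (orderOf w ∣ p ^ 1 * M → InList p q (orderOf w)) := by
    have hsq : q ^ 2 - 1 = (q + 1) * (q - 1) := by simpa using Nat.sq_sub_sq q 1
    rintro M (rfl | rfl) <;> refine ⟨by omega, by omega, fun e h => ?_, fun h => ?_⟩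
    · exact Or.inr (Or.inr (Or.inr (Or.inr (Or.inr (Or.inr (Or.inl ⟨e, Or.inl (by subst e; exact h)⟩))))))
    · exact Or.inr (Or.inr (Or.inr (Or.inl (h.trans (by rw [pow_one, hsq]; exact Nat.mul_dvd_mul_left _ (dvd_mul_left _ _))))))
    · exact Or.inr (Or.inr (Or.inr (Or.inr (Or.inr (Or.inr (Or.inl ⟨e, Or.inr (by subst e; exact h)⟩))))))
    · exact Or.inr (Or.inr (Or.inr (Or.inl (h.trans (by rw [pow_one, hsq]; exact Nat.mul_dvd_mul_left _ (dvd_mul_right _ _))))))
  obtain ⟨i, hi⟩ := hae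
  obtain ⟨j, hj⟩ := hbe
  rcases (by omega : a ≤ 2 ∨ a = 4 ∨ a = 6 ∨ a = 8) with ha | ha | ha | ha
  · by_cases hrep : ∃ x ∈ R, 2 ≤ R.count x
    · by_cases hbig : ∃ x ∈ R, p < R.count x
      · obtain ⟨x, hx, hm⟩ := hbig
        have := hcnt x hx
        obtain ⟨M, hM, hroot⟩ := roots_two hR (by omega) (Or.inr ⟨x, hx, by omega⟩)
        obtain ⟨m1, m2, m3, -⟩ := htwo M hM
        have hp3' : p = 3 := by omega
        exact m3 hp3' (bound 0 2 M (by rw [pow_zero]; omega) (by norm_num) m1 m2 hroot fun y hy => by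
          have := hcnt y hy
          rw [hp3']
          omega)
      · push Not at hbig
        obtain ⟨M, hM, hroot⟩ := roots_one hR (by omega) (Or.inr hrep)
        obtain ⟨m1, m2, m3⟩ := hone M hM
        exact m3 (bound 0 1 M (by rw [pow_zero]; omega) (by norm_num) m1 m2 hroot fun y hy => by
          rw [pow_one]; exact hbig y hy)
    · push Not at hrep
      have hc0 : ∀ x ∈ R, R.count x ≤ p ^ 0 := fun x hx => by have := hrep x hx; rw [pow_zero]; omega
      have hT : ∀ M, 2 ∣ M → M ≠ 0 → (∀ x ∈ R, x ^ M = 1) → orderOf w ∣ M := fun M m1 m2 m3 => by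
        simpa using bound 0 0 M (by rw [pow_zero]; omega) le_rfl m1 m2 m3 hc0
      have h22 : q ^ 2 % 2 = 1 := by rw [Nat.pow_mod, hqm]
      have h23 : q ^ 3 % 2 = 1 := by rw [Nat.pow_mod, hqm]
      have hp2 : 2 * 2 ≤ q ^ 2 := by rw [sq]; exact Nat.mul_le_mul hq2 hq2
      have hp3q : q ≤ q ^ 3 := Nat.le_self_pow (by norm_num) q
      rcases roots_zero hR (by omega) with ⟨M, hM, hroot⟩ | ⟨x, s, C, hx, hC, hCR, hCt, hCf⟩
      · rcases hM with rfl | rfl | rfl
        · exact Or.inl (hT _ ((show 2 ∣ q ^ 2 + 1 by omega).trans (Nat.dvd_lcm_left _ _))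
            (Nat.lcm_ne_zero (by omega) (by omega)) hroot)
        · exact Or.inr (Or.inl (hT _ ((show 2 ∣ q + 1 by omega).trans (Nat.dvd_lcm_right _ _))
            (Nat.lcm_ne_zero (by omega) (by omega)) hroot))
        · exact Or.inr (Or.inr (Or.inl (hT _ ((show 2 ∣ q - 1 by omega).trans (Nat.dvd_lcm_right _ _))
            (Nat.lcm_ne_zero (by omega) (by omega)) hroot)))
      · have hC8 : C.card = 8 := hC.card
        have hb8 : b = 8 := by rw [← hcard, ← hCR, ← Finset.card_def, hC8]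
        obtain rfl : a = 0 := by omega
        have hg₁1 : g₁ = 1 := ogVal_ext (Subsingleton.elim _ _)
        have hs₂ : sd Q₂ = 1 := by
          have h := dd_iso (nondegenerate_sumQ hQ₁ hQ₂) D
          have e := sqSign_congr (dd_ne_zero (nondegenerate_sumQ hQ₁ hQ₂)) (dd_ne_zero hQ) h
          rw [← sd, ← sd, hs, sd_sumQ hQ₁ hQ₂, sd, dd, Matrix.det_isEmpty, sqSign_of_isSquare IsSquare.one,
            one_mul] at e
          exact e
        rw [hg₁1, ogVal_one, Matrix.det_one, one_mul] at hwd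
        rw [hg₁1, ← spinHom_apply hQ₁, map_one, one_mul] at hws
        obtain ⟨hx0, hx1, hxm⟩ := hR.ne x hx
        cases s
        · obtain ⟨hdis, hCe, hOc, hxq⟩ := hCf rfl
          set O := (Finset.range 4).image fun i => x ^ q ^ i with hO
          have hO' : O.image (fun y => y⁻¹) = (Finset.range 4).image fun i => (x ^ q ^ i)⁻¹ := by
            rw [hO, Finset.image_image]; rfl
          have hroot := pair_orbit g₂ h2 hQ₂ (by rw [Fintype.card_fin, hb8]) hws (O := O)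
            (by
              show R = _
              rw [← hCR, hCe, hO', ← Finset.disjUnion_eq_union _ _ hdis]
              rfl)
            (by rw [hO']; exact hdis) hO hOc hxq hx0
          refine Or.inl (hT _ ((show 2 ∣ q ^ 2 + 1 by omega).trans (Nat.dvd_lcm_left _ _))
            (Nat.lcm_ne_zero (by omega) (by omega)) fun y hy => orderOf_dvd_iff_pow_eq_one.1 ?_)
          refine (orderOf_dvd_of_pow_eq_one (hroot y hy)).trans ?_
          have hg2 : Nat.gcd (q ^ 2 + 1) (q ^ 2 - 1) = 2 := by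
            refine Nat.dvd_antisymm ?_ (Nat.dvd_gcd (by omega) (by omega))
            have hd := Nat.dvd_sub (Nat.gcd_dvd_left (q ^ 2 + 1) (q ^ 2 - 1)) (Nat.gcd_dvd_right (q ^ 2 + 1) (q ^ 2 - 1))
            rwa [show q ^ 2 + 1 - (q ^ 2 - 1) = 2 by omega] at hd
          rw [Nat.lcm, hg2, show (q ^ 2 + 1) * (q ^ 2 - 1) = q ^ 4 - 1 by
            rw [show q ^ 4 = (q ^ 2) ^ 2 by ring]
            simpa using (Nat.sq_sub_sq (q ^ 2) 1).symm]
        · exact (not_minus_orbit h2 hQ₂ g₂ (by rw [Fintype.card_fin, hb8]) hwd hs₂ hg₂1 hg₂ hCR (hCt rfl) hC8 hx0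
            (by
              have hxC : x ∈ C := by rw [← Finset.mem_val, hCR]; exact hx
              simpa [cExp] using hC.exp x hxC)
            (fun h => (sq_eq_one_iff.1 h).elim hx1 hxm)).elim
  · obtain ⟨M, hM, hroot⟩ := roots_one hR (by omega) (Or.inl (by omega))
    obtain ⟨m1, m2, m3⟩ := hone M hM
    exact m3 (bound 1 1 M (by rw [pow_one]; omega) le_rfl m1 m2 hroot fun y hy => by
      have := hcnt y hy; rw [pow_one]; omega)
  · obtain ⟨M, hM, hroot⟩ := roots_two hR (by omega) (Or.inl (by omega))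
    obtain ⟨m1, m2, m3, m4⟩ := htwo M hM
    by_cases h : p = 3
    · exact m3 h (bound 2 2 M (by rw [h]; omega) le_rfl m1 m2 hroot fun y hy => by
        have := hcnt y hy; have : 1 ≤ p ^ 2 := Nat.one_le_pow _ _ (by omega); omega)
    · have : p ≠ 4 := by rintro rfl; norm_num at hp
      exact m4 (bound 1 1 M (by rw [pow_one]; omega) le_rfl m1 m2 hroot fun y hy => by
        have := hcnt y hy; rw [pow_one]; omega)
  · have hR0 : ∀ x ∈ R, False := fun x hx => by
      have := hcnt x hx; have := Multiset.count_pos.2 hx; omega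
    by_cases h5 : p = 5
    · refine Or.inr (Or.inr (Or.inr (Or.inr (Or.inr (Or.inr (Or.inr ⟨h5, ?_⟩))))))
      have := bound 2 2 2 (by rw [h5]; omega) le_rfl dvd_rfl (by norm_num) (fun x hx => (hR0 x hx).elim)
        (fun x hx => (hR0 x hx).elim)
      subst h5
      exact this
    · obtain ⟨m1, m2, m3, m4⟩ := htwo (q - 1) (Or.inl rfl)
      by_cases h3 : p = 3
      · exact m3 h3 (bound 2 2 _ (by rw [h3]; omega) le_rfl m1 m2 (fun x hx => (hR0 x hx).elim)
          (fun x hx => (hR0 x hx).elim))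
      · have : p ≠ 4 := by rintro rfl; norm_num at hp
        have : p ≠ 6 := by rintro rfl; norm_num at hp
        exact m4 (bound 1 1 _ (by rw [pow_one]; omega) le_rfl m1 m2 (fun x hx => (hR0 x hx).elim)
          (fun x hx => (hR0 x hx).elim))

end Cfsg.Agent.Classical.Spectra
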