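import Cfsg.Agent.Lib.Classical.PrimeGraphBCOrth
import Cfsg.Agent.Lib.Classical.PrimeGraphBCBase
import Cfsg.Agent.Lib.Classical.OrthGOQuot

/-!
Orthogonal decompositions with respect to an isometry, the invariants of an orthogonal sum, and the orders of
elements of a split extension of a module.
-/

set_option autoImplicit false
set_option linter.unusedSectionVars false
set_option quotPrecheck false

namespace Cfsg.Agent.Classical.Spectra

open Matrix Module Cfsg Cfsg.Agent.Classical.OrthAut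

variable {F : Type*} [Field F] {ι κ : Type} [Fintype ι] [DecidableEq ι] [Fintype κ] [DecidableEq κ]
  {Q : QuadraticForm F (ι → F)} {R : QuadraticForm F (κ → F)}

/-! ### Discriminants -/

/-- The determinant of the polar matrix. -/
noncomputable def dd (Q : QuadraticForm F (ι → F)) : F := (PrimeGraphBC.gram Q).det

theorem dd_eq_gramDet (Q : QuadraticForm F (ι → F)) :
    dd Q = gramDet (QuadraticMap.polarBilin Q) (Pi.basisFun F ι) := by
  rw [dd, gramDet]
  congr 1

theorem gram_apply (Q : QuadraticForm F (ι → F)) (i j : ι) :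
    PrimeGraphBC.gram Q i j = QuadraticMap.polar ⇑Q (Pi.single i 1) (Pi.single j 1) := by
  simp [PrimeGraphBC.gram, LinearMap.BilinForm.toMatrix'_apply]

theorem dd_sumQ (Q : QuadraticForm F (ι → F)) (R : QuadraticForm F (κ → F)) :
    dd (sumQ Q R) = dd Q * dd R := by
  have h : PrimeGraphBC.gram (sumQ Q R) =
      Matrix.fromBlocks (PrimeGraphBC.gram Q) 0 0 (PrimeGraphBC.gram R) := by
    have e1 : ∀ i : ι, ((Pi.single (Sum.inl i) 1 : ι ⊕ κ → F) ∘ Sum.inl = Pi.single i 1) ∧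
        ((Pi.single (Sum.inl i) 1 : ι ⊕ κ → F) ∘ Sum.inr = 0) := fun i =>
      ⟨funext fun j => by simp [Pi.single_apply], funext fun j => by simp [Pi.single_apply]⟩
    have e2 : ∀ i : κ, ((Pi.single (Sum.inr i) 1 : ι ⊕ κ → F) ∘ Sum.inr = Pi.single i 1) ∧
        ((Pi.single (Sum.inr i) 1 : ι ⊕ κ → F) ∘ Sum.inl = 0) := fun i =>
      ⟨funext fun j => by simp [Pi.single_apply], funext fun j => by simp [Pi.single_apply]⟩
    ext i j
    rcases i with i | i <;> rcases j with j | j <;>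
      simp [gram_apply, polar_sumQ, e1, e2]
  rw [dd, h, Matrix.det_fromBlocks_zero₁₂, dd, dd]

variable [Fintype F]

theorem dd_qMat (h2 : (2 : F) ≠ 0) {M : Matrix ι ι F} (hs : Mᵀ = M) : dd (PrimeGraphBC.qMat M) = M.det := by
  rw [dd, PrimeGraphBC.gram, PrimeGraphBC.polarBilin_qMat h2 hs, LinearMap.BilinForm.toMatrix'_toBilin']

theorem dd_ne_zero (hQ : (QuadraticMap.polarBilin Q).Nondegenerate) : dd Q ≠ 0 :=
  (PrimeGraphBC.gram_facts hQ).1

theorem nd_diag (h2 : (2 : F) ≠ 0) {w : ι → F} (hw : ∀ i, w i ≠ 0) :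
    (QuadraticMap.polarBilin (PrimeGraphBC.qMat (Matrix.diagonal w))).Nondegenerate :=
  PrimeGraphBC.nondegenerate_qMat h2 (Matrix.diagonal_transpose _)
    (by rw [Matrix.det_diagonal]; exact Finset.prod_ne_zero_iff.2 fun i _ => hw i)

theorem dd_diag (h2 : (2 : F) ≠ 0) (w : ι → F) :
    dd (PrimeGraphBC.qMat (Matrix.diagonal w)) = ∏ i, w i := by
  rw [dd_qMat h2 (Matrix.diagonal_transpose _), Matrix.det_diagonal]

/-- Forms of the same dimension and square class of discriminant are isometric. -/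
theorem exists_iso (h2 : (2 : F) ≠ 0) (hQ : (QuadraticMap.polarBilin Q).Nondegenerate)
    (hR : (QuadraticMap.polarBilin R).Nondegenerate) (hc : Fintype.card ι = Fintype.card κ)
    (hd : IsSquare (dd Q * dd R)) : Nonempty (IsoData Q R) := by
  rw [dd_eq_gramDet, dd_eq_gramDet] at hd
  obtain ⟨L, hL⟩ := (isometric_iff_disc h2 hQ hR (Pi.basisFun F ι) (Pi.basisFun F κ) hc).2 hd
  exact nonempty_isoData hL

theorem dd_iso (hQ : (QuadraticMap.polarBilin Q).Nondegenerate) (D : IsoData Q R) :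
    IsSquare (dd Q * dd R) := by
  let e : (ι → F) ≃ₗ[F] (κ → F) := LinearEquiv.ofLinear (Matrix.toLin' D.M) (Matrix.toLin' D.N)
    (by rw [← Matrix.toLin'_mul, D.MN, Matrix.toLin'_one]) (by rw [← Matrix.toLin'_mul, D.NM, Matrix.toLin'_one])
  have he : ∀ v, R (e v) = Q v := fun v => by
    show R (Matrix.toLin' D.M v) = Q v
    rw [Matrix.toLin'_apply, D.quad]
  obtain ⟨t, -, ht⟩ := gramDet_change (QuadraticMap.polarBilin R) ((Pi.basisFun F ι).map e) (Pi.basisFun F κ)
  rw [gramDet_isometry e he] at ht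
  rw [dd_eq_gramDet, dd_eq_gramDet, ht]
  exact ⟨gramDet (QuadraticMap.polarBilin Q) (Pi.basisFun F ι) * t, by ring⟩

/-! ### Spinor norms -/

theorem spin_embR (h2 : (2 : F) ≠ 0) (hQ : (QuadraticMap.polarBilin Q).Nondegenerate)
    (hR : (QuadraticMap.polarBilin R).Nondegenerate) (g : isometryGroup F ⇑R) :
    spin (embR Q R g) = spin g := by
  have hS := nondegenerate_sumQ hQ hR
  have he : ∀ v : κ → F, sumQ Q R (Sum.elim 0 v) = R v := fun v => by rw [sumQ_apply]; simp
  have hg : g ∈ reflGroup R := by rw [reflGroup_eq_top_gen hR (genQ_odd hR h2)]; trivial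
  refine (Subgroup.closure_le (MonoidHom.eqLocus ((spinHom hS).comp (embR Q R)) (spinHom hR))).2 ?_ hg
  rintro _ ⟨v, hv, rfl⟩
  show spin (embR Q R (refl hv)) = spin (refl hv)
  have hr : embR Q R (refl hv) = refl (Q := sumQ Q R) (v := Sum.elim 0 v) (by rwa [he]) := by
    refine ogVal_ext (Matrix.ext_iff_mulVec.2 fun x => ?_)
    rw [embR_val, refl_apply, he, polar_sumQ, Matrix.fromBlocks_mulVec]
    simp only [Sum.elim_comp_inl, Sum.elim_comp_inr, Matrix.zero_mulVec, add_zero, zero_add,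
      Matrix.one_mulVec, QuadraticMap.polar_zero_left, refl_apply]
    funext i
    rcases i with i | i <;> simp
  rw [hr, spin_refl hS, spin_refl hR, he]

theorem spin_og (h2 : (2 : F) ≠ 0) (hQ : (QuadraticMap.polarBilin Q).Nondegenerate)
    (hR : (QuadraticMap.polarBilin R).Nondegenerate) (D : IsoData Q R) (g : isometryGroup F ⇑Q) :
    spin (D.og g) = spin g := by
  have hg : g ∈ reflGroup Q := by rw [reflGroup_eq_top_gen hQ (genQ_odd hQ h2)]; trivial
  refine (Subgroup.closure_le (MonoidHom.eqLocus ((spinHom hR).comp D.og.toMonoidHom) (spinHom hQ))).2 ?_ hg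
  rintro _ ⟨v, hv, rfl⟩
  show spin (D.og (refl hv)) = spin (refl hv)
  rw [D.og_refl (fun {w} hw => by rwa [D.quad]) hv, spin_refl hR, spin_refl hQ, D.quad]

theorem det_og (D : IsoData Q R) (g : isometryGroup F ⇑Q) : (ogVal (D.og g)).det = (ogVal g).det := by
  show (D.M * ogVal g * D.N).det = _
  exact Matrix.det_conj_of_mul_eq_one D.MN D.NM

theorem det_embR (g : isometryGroup F ⇑R) : (ogVal (embR Q R g)).det = (ogVal g).det := by
  rw [embR_val, Matrix.det_fromBlocks_zero₁₂, Matrix.det_one, one_mul]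

/-- The element of a sum with given components. -/
noncomputable def pair (g : isometryGroup F ⇑Q) (k : isometryGroup F ⇑R) : isometryGroup F ⇑(sumQ Q R) :=
  embL Q R g * embR Q R k

theorem pair_val (g : isometryGroup F ⇑Q) (k : isometryGroup F ⇑R) :
    ogVal (pair g k) = Matrix.fromBlocks (ogVal g) 0 0 (ogVal k) := by
  rw [pair, ogVal_mul, embL_val, embR_val, Matrix.fromBlocks_multiply]; simp

theorem pair_pow (g : isometryGroup F ⇑Q) (k : isometryGroup F ⇑R) (n : ℕ) :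
    pair g k ^ n = pair (g ^ n) (k ^ n) := by
  rw [pair, (PrimeGraphBC.embL_embR_commute g k).mul_pow, ← map_pow, ← map_pow, pair]

theorem pair_eq_one {g : isometryGroup F ⇑Q} {k : isometryGroup F ⇑R} : pair g k = 1 ↔ g = 1 ∧ k = 1 := by
  refine ⟨fun h => ?_, fun ⟨h1, h2⟩ => by rw [h1, h2, pair, map_one, map_one, one_mul]⟩
  have h1 := congrArg ogVal h
  rw [pair_val, ogVal_one, ← Matrix.fromBlocks_one, Matrix.fromBlocks_inj] at h1
  exact ⟨ogVal_ext (h1.1.trans ogVal_one.symm), ogVal_ext (h1.2.2.2.trans ogVal_one.symm)⟩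

theorem orderOf_pair (g : isometryGroup F ⇑Q) (k : isometryGroup F ⇑R) :
    orderOf (pair g k) = Nat.lcm (orderOf g) (orderOf k) := by
  refine Nat.dvd_antisymm ?_ (Nat.lcm_dvd ?_ ?_)
  · refine orderOf_dvd_of_pow_eq_one ?_
    rw [pair_pow, pair_eq_one]
    exact ⟨orderOf_dvd_iff_pow_eq_one.1 (Nat.dvd_lcm_left _ _), orderOf_dvd_iff_pow_eq_one.1 (Nat.dvd_lcm_right _ _)⟩
  · have h := pow_orderOf_eq_one (pair g k)
    rw [pair_pow, pair_eq_one] at h
    exact orderOf_dvd_of_pow_eq_one h.1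
  · have h := pow_orderOf_eq_one (pair g k)
    rw [pair_pow, pair_eq_one] at h
    exact orderOf_dvd_of_pow_eq_one h.2

theorem det_pair (g : isometryGroup F ⇑Q) (k : isometryGroup F ⇑R) :
    (ogVal (pair g k)).det = (ogVal g).det * (ogVal k).det := by
  rw [pair_val, Matrix.det_fromBlocks_zero₁₂]

theorem spin_pair (h2 : (2 : F) ≠ 0) (hQ : (QuadraticMap.polarBilin Q).Nondegenerate)
    (hR : (QuadraticMap.polarBilin R).Nondegenerate) (g : isometryGroup F ⇑Q) (k : isometryGroup F ⇑R) :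
    spin (pair g k) = spin g * spin k := by
  rw [pair, spin_mul (nondegenerate_sumQ hQ hR), PrimeGraphBC.spin_embL h2 hQ hR, spin_embR h2 hQ hR]

/-! ### Splitting along an invariant decomposition -/

/-- An isometry respecting an orthogonal decomposition is a pair. -/
theorem exists_split (hQ : (QuadraticMap.polarBilin Q).Nondegenerate) (g : isometryGroup F ⇑Q)
    {U W : Submodule F (ι → F)} (hc : IsCompl U W)
    (ho : ∀ u ∈ U, ∀ w ∈ W, QuadraticMap.polar ⇑Q u w = 0)
    (hU : ∀ u ∈ U, ogVal g *ᵥ u ∈ U) (hW : ∀ w ∈ W, ogVal g *ᵥ w ∈ W) :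
    ∃ (a b : ℕ) (Q₁ : QuadraticForm F (Fin a → F)) (Q₂ : QuadraticForm F (Fin b → F)),
      (QuadraticMap.polarBilin Q₁).Nondegenerate ∧ (QuadraticMap.polarBilin Q₂).Nondegenerate ∧
      a = finrank F U ∧ b = finrank F W ∧
      ∃ (D : IsoData (sumQ Q₁ Q₂) Q) (g₁ : isometryGroup F ⇑Q₁) (g₂ : isometryGroup F ⇑Q₂),
        D.og (pair g₁ g₂) = g ∧ (∀ x, D.M *ᵥ Sum.elim x 0 ∈ U) ∧ (∀ y, D.M *ᵥ Sum.elim 0 y ∈ W) := by
  classical
  set a := finrank F U with ha
  set b := finrank F W with hb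
  let eU : (Fin a → F) ≃ₗ[F] U := (Module.finBasis F U).equivFun.symm
  let eW : (Fin b → F) ≃ₗ[F] W := (Module.finBasis F W).equivFun.symm
  let e : (Fin a ⊕ Fin b → F) ≃ₗ[F] (ι → F) :=
    ((LinearEquiv.sumArrowLequivProdArrow (Fin a) (Fin b) F F).trans (eU.prodCongr eW)).trans
      (Submodule.prodEquivOfIsCompl U W hc)
  have he : ∀ v, e v = (eU (v ∘ Sum.inl) : ι → F) + (eW (v ∘ Sum.inr) : ι → F) := fun v => rfl
  set Q₁ : QuadraticForm F (Fin a → F) := Q.comp (U.subtype ∘ₗ eU.toLinearMap) with hQ₁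
  set Q₂ : QuadraticForm F (Fin b → F) := Q.comp (W.subtype ∘ₗ eW.toLinearMap) with hQ₂
  have hquad : ∀ v, Q (e v) = sumQ Q₁ Q₂ v := fun v => by
    rw [he, QuadraticMap.map_add (⇑Q), ho _ (eU _).2 _ (eW _).2, add_zero, sumQ_apply]
    rfl
  obtain ⟨D, hD⟩ : ∃ D : IsoData (sumQ Q₁ Q₂) Q, ∀ v, D.M *ᵥ v = e v :=
    ⟨{ M := LinearMap.toMatrix' e.toLinearMap
       N := LinearMap.toMatrix' e.symm.toLinearMap
       MN := by rw [← LinearMap.toMatrix'_comp, LinearEquiv.comp_coe, LinearEquiv.symm_trans_self]; exact LinearMap.toMatrix'_id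
       NM := by rw [← LinearMap.toMatrix'_comp, LinearEquiv.comp_coe, LinearEquiv.self_trans_symm]; exact LinearMap.toMatrix'_id
       quad := fun v => by rw [LinearMap.toMatrix'_mulVec]; exact hquad v },
      fun v => LinearMap.toMatrix'_mulVec _ _⟩
  have hU' : ∀ x, D.M *ᵥ Sum.elim x 0 = (eU x : ι → F) := fun x => by
    rw [hD, he, Sum.elim_comp_inl, Sum.elim_comp_inr, map_zero, Submodule.coe_zero, add_zero]
  have hW' : ∀ y, D.M *ᵥ Sum.elim 0 y = (eW y : ι → F) := fun y => by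
    rw [hD, he, Sum.elim_comp_inl, Sum.elim_comp_inr, map_zero, Submodule.coe_zero, zero_add]
  set h := D.og.symm g with hhdef
  have hh : D.og h = g := D.og.apply_symm_apply g
  have happ : ∀ v, D.M *ᵥ (ogVal h *ᵥ v) = ogVal g *ᵥ (D.M *ᵥ v) := fun v => by
    rw [← hh]; exact (D.gl_apply _ v).symm
  -- the blocks of `h`
  have hl : ∀ x, (ogVal h *ᵥ Sum.elim x 0) ∘ Sum.inr = 0 := fun x => by
    have h1 : e (ogVal h *ᵥ Sum.elim x 0) ∈ U := by rw [← hD, happ, hU']; exact hU _ (eU x).2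
    rw [he] at h1
    have h2 := (Submodule.add_mem_iff_right U (eU _).2).1 h1
    have h3 : (eW ((ogVal h *ᵥ Sum.elim x 0) ∘ Sum.inr) : ι → F) = 0 :=
      Submodule.disjoint_def.1 hc.disjoint _ h2 (eW _).2
    exact eW.map_eq_zero_iff.1 (Subtype.ext h3)
  have hr : ∀ y, (ogVal h *ᵥ Sum.elim 0 y) ∘ Sum.inl = 0 := fun y => by
    have h1 : e (ogVal h *ᵥ Sum.elim 0 y) ∈ W := by rw [← hD, happ, hW']; exact hW _ (eW y).2
    rw [he] at h1
    have h2 := (Submodule.add_mem_iff_left W (eW _).2).1 h1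
    have h3 : (eU ((ogVal h *ᵥ Sum.elim 0 y) ∘ Sum.inl) : ι → F) = 0 :=
      Submodule.disjoint_def.1 hc.disjoint _ (eU _).2 h2
    exact eU.map_eq_zero_iff.1 (Subtype.ext h3)
  set A := (ogVal h).toBlocks₁₁
  set C := (ogVal h).toBlocks₂₂
  have hblk : ogVal h = Matrix.fromBlocks A 0 0 C := by
    rw [← Matrix.fromBlocks_toBlocks (ogVal h)]
    congr 1
    · ext i j
      have := congrFun (hr (Pi.single j 1)) i
      rw [Function.comp_apply, Sum.elim_zero_single, Matrix.mulVec_single_one] at this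
      simpa [Matrix.toBlocks₁₂] using this
    · ext i j
      have := congrFun (hl (Pi.single j 1)) i
      rw [Function.comp_apply, Sum.elim_single_zero, Matrix.mulVec_single_one] at this
      simpa [Matrix.toBlocks₂₁] using this
  have hnd : (QuadraticMap.polarBilin Q₁).Nondegenerate ∧ (QuadraticMap.polarBilin Q₂).Nondegenerate := by
    have hS : ∀ v, (∀ z, QuadraticMap.polar ⇑(sumQ Q₁ Q₂) v z = 0) → v = 0 := fun v hv => by
      have h1 : D.M *ᵥ v = 0 := eq_zero_of_polar hQ fun z => by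
        obtain ⟨z, rfl⟩ := D.surj z
        rw [D.polar, hv]
      have h2 := congrArg (D.N *ᵥ ·) h1
      simpa [Matrix.mulVec_mulVec, D.NM] using h2
    constructor <;> refine nondegenerate_of_separatingLeft _ fun x hx => ?_
    · have h1 := hS (Sum.elim x 0) fun z => by
        rw [polar_sumQ, Sum.elim_comp_inl, Sum.elim_comp_inr, QuadraticMap.polar_zero_left, add_zero]
        exact hx _
      funext i; exact congrFun h1 (Sum.inl i)
    · have h1 := hS (Sum.elim 0 x) fun z => by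
        rw [polar_sumQ, Sum.elim_comp_inl, Sum.elim_comp_inr, QuadraticMap.polar_zero_left, zero_add]
        exact hx _
      funext i; exact congrFun h1 (Sum.inr i)
  have hdet : A.det * C.det ≠ 0 := by
    rw [← Matrix.det_fromBlocks_zero₁₂ A 0 C, ← hblk]
    exact Matrix.GeneralLinearGroup.det_ne_zero (h : GL (Fin a ⊕ Fin b) F)
  have hA : ∀ x, Q₁ (A *ᵥ x) = Q₁ x := fun x => by
    have h1 := ogVal_quad h (Sum.elim x 0)
    rw [hblk, Matrix.fromBlocks_mulVec, sumQ_apply, sumQ_apply] at h1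
    simpa using h1
  have hC : ∀ x, Q₂ (C *ᵥ x) = Q₂ x := fun x => by
    have h1 := ogVal_quad h (Sum.elim 0 x)
    rw [hblk, Matrix.fromBlocks_mulVec, sumQ_apply, sumQ_apply] at h1
    simpa using h1
  refine ⟨a, b, Q₁, Q₂, hnd.1, hnd.2, rfl, rfl, D, mkIsometry A (left_ne_zero_of_mul hdet) hA,
    mkIsometry C (right_ne_zero_of_mul hdet) hC, ?_, fun x => by rw [hU']; exact (eU x).2,
    fun y => by rw [hW']; exact (eW y).2⟩
  rw [← hh]
  congr 1
  refine ogVal_ext ?_
  rw [pair_val, hblk]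
  rfl

theorem isometry_transpose (hQ : (QuadraticMap.polarBilin Q).Nondegenerate) (g : isometryGroup F ⇑Q) :
    (ogVal g).det ≠ 0 ∧ PrimeGraphBC.gram Q * ogVal g⁻¹ = (ogVal g)ᵀ * PrimeGraphBC.gram Q := by
  obtain ⟨-, hG⟩ := PrimeGraphBC.gram_facts hQ
  have h : ogVal g * ogVal g⁻¹ = 1 := by rw [← ogVal_mul, mul_inv_cancel, ogVal_one]
  refine ⟨Matrix.GeneralLinearGroup.det_ne_zero (g : GL ι F), ?_⟩
  conv_lhs => rw [← hG g]
  rw [Matrix.mul_assoc, h, Matrix.mul_one]

/-- The adjoint of `g - c`. -/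
theorem polar_sub_smul (g : isometryGroup F ⇑Q) {c : F} (hc : c * c = 1) (x y : ι → F) :
    QuadraticMap.polar ⇑Q ((ogVal g - c • 1) *ᵥ x) y =
      QuadraticMap.polar ⇑Q x ((-c) • (ogVal g⁻¹ *ᵥ ((ogVal g - c • 1) *ᵥ y))) := by
  have h : ogVal g⁻¹ * ogVal g = 1 := by rw [← ogVal_mul, inv_mul_cancel, ogVal_one]
  have h' : ogVal g * ogVal g⁻¹ = 1 := by rw [← ogVal_mul, mul_inv_cancel, ogVal_one]
  have e : QuadraticMap.polar ⇑Q (ogVal g *ᵥ x) y = QuadraticMap.polar ⇑Q x (ogVal g⁻¹ *ᵥ y) := by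
    conv_lhs => rw [← Matrix.one_mulVec y, ← h', ← Matrix.mulVec_mulVec]
    exact isometry_polar (ogVal_quad g) _ _
  rw [Matrix.sub_mulVec, Matrix.sub_mulVec, QuadraticMap.polar_sub_left, e, Matrix.smul_mulVec,
    Matrix.one_mulVec, Matrix.smul_mulVec, Matrix.one_mulVec, QuadraticMap.polar_smul_left,
    Matrix.mulVec_sub, Matrix.mulVec_smul, Matrix.mulVec_mulVec, h, Matrix.one_mulVec,
    QuadraticMap.polar_smul_right, QuadraticMap.polar_sub_right, QuadraticMap.polar_smul_right]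
  simp only [smul_eq_mul]
  linear_combination (-(QuadraticMap.polar ⇑Q x (ogVal g⁻¹ *ᵥ y))) * hc

theorem polar_pow (g : isometryGroup F ⇑Q) {c : F} (hc : c * c = 1) :
    ∀ (k : ℕ) (x y : ι → F), QuadraticMap.polar ⇑Q ((ogVal g - c • 1) ^ k *ᵥ x) y =
      QuadraticMap.polar ⇑Q x ((-c) ^ k • ((ogVal g⁻¹) ^ k *ᵥ ((ogVal g - c • 1) ^ k *ᵥ y))) := by
  have hcm : Commute (ogVal g⁻¹) (ogVal g - c • 1) := by
    refine Commute.sub_right ?_ (Commute.smul_right (Commute.one_right _) c)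
    show ogVal g⁻¹ * ogVal g = ogVal g * ogVal g⁻¹
    rw [← ogVal_mul, ← ogVal_mul, inv_mul_cancel, mul_inv_cancel]
  intro k
  induction k with
  | zero => intro x y; simp
  | succ k ih =>
    intro x y
    rw [pow_succ', ← Matrix.mulVec_mulVec, polar_sub_smul g hc, ih, pow_succ', Matrix.mulVec_smul,
      Matrix.mulVec_smul, smul_smul, Matrix.mulVec_mulVec, Matrix.mulVec_mulVec, Matrix.mulVec_mulVec,
      Matrix.mulVec_mulVec]
    congr 2
    · ring
    · rw [pow_succ (ogVal g⁻¹)]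
      congr 1
      simp only [mul_assoc]
      congr 1
      rw [← mul_assoc, (hcm.symm.pow_left k).eq, mul_assoc, (Commute.self_pow _ k).eq]

/-- The Fitting decomposition at an eigenvalue `±1` is orthogonal. -/
theorem exists_fitting (hQ : (QuadraticMap.polarBilin Q).Nondegenerate) (g : isometryGroup F ⇑Q) {c : F}
    (hc : c * c = 1) :
    ∃ (a b : ℕ) (Q₁ : QuadraticForm F (Fin a → F)) (Q₂ : QuadraticForm F (Fin b → F)),
      (QuadraticMap.polarBilin Q₁).Nondegenerate ∧ (QuadraticMap.polarBilin Q₂).Nondegenerate ∧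
      a + b = Fintype.card ι ∧
      ∃ (D : IsoData (sumQ Q₁ Q₂) Q) (g₁ : isometryGroup F ⇑Q₁) (g₂ : isometryGroup F ⇑Q₂),
        D.og (pair g₁ g₂) = g ∧ (ogVal g₁ - c • 1) ^ a = 0 ∧ (ogVal g₂ - c • 1).det ≠ 0 := by
  classical
  set T := ogVal g - c • 1 with hT
  obtain ⟨N, hN⟩ := Filter.eventually_atTop.1 (LinearMap.eventually_isCompl_ker_pow_range_pow (Matrix.toLin' T))
  set k := max N 1 with hk
  have hc' := hN k (le_max_left _ _)
  rw [← Matrix.toLin'_pow] at hc'
  set U := LinearMap.ker (Matrix.toLin' (T ^ k))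
  set W := LinearMap.range (Matrix.toLin' (T ^ k))
  have hmemU : ∀ x, x ∈ U ↔ T ^ k *ᵥ x = 0 := fun x => by rw [LinearMap.mem_ker, Matrix.toLin'_apply]
  have hgT : Commute (ogVal g) (T ^ k) :=
    (Commute.sub_right (Commute.refl _) (Commute.smul_right (Commute.one_right _) c)).pow_right k
  obtain ⟨a, b, Q₁, Q₂, hQ₁, hQ₂, ha, hb, D, g₁, g₂, hD, hl, hr⟩ := exists_split hQ g hc'
    (fun u hu w hw => by
      obtain ⟨z, rfl⟩ := hw
      rw [Matrix.toLin'_apply, QuadraticMap.polar_comm, polar_pow g hc, (hmemU u).1 hu, Matrix.mulVec_zero,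
        smul_zero, QuadraticMap.polar_zero_right])
    (fun u hu => (hmemU _).2 (by
      rw [Matrix.mulVec_mulVec, ← hgT.eq, ← Matrix.mulVec_mulVec, (hmemU u).1 hu, Matrix.mulVec_zero]))
    (fun w hw => by
      obtain ⟨z, rfl⟩ := hw
      exact ⟨ogVal g *ᵥ z, by rw [Matrix.toLin'_apply, Matrix.toLin'_apply, Matrix.mulVec_mulVec,
        Matrix.mulVec_mulVec, hgT.eq]⟩)
  have hMT : ∀ v, D.M *ᵥ (Matrix.fromBlocks (ogVal g₁ - c • 1) 0 0 (ogVal g₂ - c • 1) *ᵥ v) =
      T *ᵥ (D.M *ᵥ v) := fun v => by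
    have h1 : Matrix.fromBlocks (ogVal g₁ - c • 1) 0 0 (ogVal g₂ - c • 1) = ogVal (pair g₁ g₂) - c • 1 := by
      rw [pair_val, ← Matrix.fromBlocks_one, Matrix.fromBlocks_smul, sub_eq_add_neg _ (Matrix.fromBlocks _ _ _ _),
        Matrix.fromBlocks_neg, Matrix.fromBlocks_add]
      simp [sub_eq_add_neg]
    rw [h1, hT, Matrix.sub_mulVec, Matrix.sub_mulVec, Matrix.mulVec_sub, Matrix.smul_mulVec, Matrix.smul_mulVec,
      Matrix.one_mulVec, Matrix.one_mulVec, Matrix.mulVec_smul, ← hD]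
    congr 1
    exact (D.gl_apply _ v).symm
  refine ⟨a, b, Q₁, Q₂, hQ₁, hQ₂, ?_, D, g₁, g₂, hD, ?_, ?_⟩
  · rw [ha, hb, Submodule.finrank_add_eq_of_isCompl hc', Module.finrank_pi]
  · have h1 : (ogVal g₁ - c • 1) ^ k = 0 := by
      refine Matrix.ext_iff_mulVec.2 fun x => ?_
      have h2 : ∀ (j : ℕ) (x : Fin a → F), D.M *ᵥ Sum.elim ((ogVal g₁ - c • 1) ^ j *ᵥ x) 0 =
          T ^ j *ᵥ (D.M *ᵥ Sum.elim x 0) := by
        intro j
        induction j with
        | zero => intro x; simp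
        | succ j ih =>
          intro x
          rw [pow_succ', pow_succ', ← Matrix.mulVec_mulVec, ← Matrix.mulVec_mulVec, ← ih, ← hMT]
          congr 1
          rw [Matrix.fromBlocks_mulVec]
          simp
      have h3 := h2 k x
      rw [(hmemU _).1 (hl x)] at h3
      have h4 := congrArg (D.N *ᵥ ·) h3
      simp only [Matrix.mulVec_mulVec, D.NM, Matrix.one_mulVec, Matrix.mulVec_zero] at h4
      rw [Matrix.zero_mulVec]
      funext i
      exact congrFun h4 (Sum.inl i)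
    have h2 : IsNilpotent (ogVal g₁ - c • 1) := ⟨k, h1⟩
    have h3 := Matrix.isNilpotent_charpoly_sub_pow_of_isNilpotent h2
    have h4 := Matrix.aeval_self_charpoly (ogVal g₁ - c • 1)
    rw [sub_eq_zero.1 (isNilpotent_iff_eq_zero.1 h3), map_pow, Polynomial.aeval_X, Fintype.card_fin] at h4
    exact h4
  · intro h0
    obtain ⟨y, hy, hy0⟩ := Matrix.exists_mulVec_eq_zero_iff.2 h0
    have h1 : T *ᵥ (D.M *ᵥ Sum.elim 0 y) = 0 := by
      rw [← hMT, Matrix.fromBlocks_mulVec]
      simp [hy0]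
    have h2 : D.M *ᵥ Sum.elim 0 y ∈ U := by
      rw [hmemU]
      obtain ⟨j, hj⟩ : ∃ j, k = j + 1 := ⟨k - 1, by omega⟩
      rw [hj, pow_succ, ← Matrix.mulVec_mulVec, h1, Matrix.mulVec_zero]
    have h3 := congrArg (D.N *ᵥ ·) (Submodule.disjoint_def.1 hc'.disjoint _ h2 (hr y))
    simp only [Matrix.mulVec_mulVec, D.NM, Matrix.one_mulVec, Matrix.mulVec_zero] at h3
    exact hy (funext fun i => congrFun h3 (Sum.inr i))

/-- An isometry of odd dimension and determinant one fixes a vector. -/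
theorem det_sub_one_eq_zero (h2 : (2 : F) ≠ 0) (hQ : (QuadraticMap.polarBilin Q).Nondegenerate)
    (g : isometryGroup F ⇑Q) (hodd : Odd (Fintype.card ι)) (hd : (ogVal g).det = 1) :
    (ogVal g - 1).det = 0 := by
  obtain ⟨hM, hG⟩ := PrimeGraphBC.gram_facts hQ
  set G := ogVal g
  set M := PrimeGraphBC.gram Q
  have e : (G - 1)ᵀ * M * G = -(M * (G - 1)) := by
    rw [Matrix.transpose_sub, Matrix.transpose_one, Matrix.sub_mul, Matrix.sub_mul, hG g, Matrix.one_mul,
      Matrix.mul_sub, Matrix.mul_one, neg_sub]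
  have h := congrArg Matrix.det e
  rw [Matrix.det_mul, Matrix.det_mul, Matrix.det_transpose, hd, mul_one, Matrix.det_neg, hodd.neg_one_pow,
    Matrix.det_mul] at h
  have h3 : 2 * (M.det * (G - 1).det) = 0 := by linear_combination h
  exact ((mul_eq_zero.1 ((mul_eq_zero.1 h3).resolve_left h2)).resolve_left hM)

/-- In even dimension a unipotent (or minus unipotent) isometry has no Jordan block of full length. -/
theorem pow_pred_eq_zero (h2 : (2 : F) ≠ 0) (hQ : (QuadraticMap.polarBilin Q).Nondegenerate)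
    (g : isometryGroup F ⇑Q) {c : F} (hc : c * c = 1) {n : ℕ} (hn : Fintype.card ι = n) (he : Even n)
    (h0 : (ogVal g - c • 1) ^ n = 0) (hn0 : n ≠ 0) : (ogVal g - c • 1) ^ (n - 1) = 0 := by
  classical
  set T := ogVal g - c • 1 with hT
  by_contra hne
  obtain ⟨m, hm⟩ : ∃ m, n = m + 1 := ⟨n - 1, by omega⟩
  rw [hm, Nat.add_sub_cancel] at hne
  rw [hm] at h0
  have hGT : ogVal g * T ^ m = c • T ^ m := by
    have h1 : T * T ^ m = 0 := by rw [← pow_succ', h0]
    rwa [hT, Matrix.sub_mul, Matrix.smul_mul, Matrix.one_mul, sub_eq_zero] at h1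
  have hG' : ogVal g⁻¹ * T ^ m = c • T ^ m := by
    have h1 := congrArg (fun X => c • (ogVal g⁻¹ * X)) hGT
    simp only [← mul_assoc, Matrix.mul_smul, smul_smul, hc, one_smul] at h1
    rw [← ogVal_mul, inv_mul_cancel, ogVal_one, Matrix.one_mul] at h1
    exact h1.symm
  have hsign : ∀ x y, QuadraticMap.polar ⇑Q (T ^ m *ᵥ x) y = -QuadraticMap.polar ⇑Q x (T ^ m *ᵥ y) := fun x y => by
    have hk : ∀ k : ℕ, (ogVal g⁻¹) ^ k * T ^ m = c ^ k • T ^ m := by
      intro k
      induction k with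
      | zero => simp
      | succ k ih => rw [pow_succ', mul_assoc, ih, Matrix.mul_smul, hG', smul_smul, pow_succ]
    rw [polar_pow g hc, Matrix.mulVec_mulVec, hk, Matrix.smul_mulVec, smul_smul, ← mul_pow,
      show -c * c = -1 by linear_combination -hc,
      Odd.neg_one_pow (by rcases Nat.even_or_odd m with h | h
                          · exact absurd (hm ▸ he) (Nat.not_even_iff_odd.2 h.add_one)
                          · exact h),
      neg_one_smul, QuadraticMap.polar_neg_right]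
  -- the image of `T ^ m` is one line
  obtain ⟨x₀, hx₀⟩ : ∃ x₀, T ^ m *ᵥ x₀ ≠ 0 := by
    by_contra h; push Not at h
    exact hne (Matrix.ext_iff_mulVec.2 fun x => by rw [h, Matrix.zero_mulVec])
  set v : Fin n → (ι → F) := fun i => T ^ (i : ℕ) *ᵥ x₀
  have hind : LinearIndependent F v := by
    rw [Fintype.linearIndependent_iff]
    intro f hf
    by_contra hz
    push Not at hz
    obtain ⟨i₀, hi₀, hmin⟩ := Finset.exists_min_image (Finset.univ.filter fun i => f i ≠ 0) (fun i => (i : ℕ))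
      (by obtain ⟨i, hi⟩ := hz; exact ⟨i, by simp [hi]⟩)
    simp only [Finset.mem_filter, Finset.mem_univ, true_and] at hi₀ hmin
    have h1 := congrArg (T ^ (m - (i₀ : ℕ)) *ᵥ ·) hf
    simp only [Matrix.mulVec_sum, Matrix.mulVec_zero, Matrix.mulVec_smul, v, Matrix.mulVec_mulVec, ← pow_add] at h1
    rw [Finset.sum_eq_single i₀ (fun j _ hj => by
      rcases eq_or_ne (f j) 0 with h | h
      · rw [h, zero_smul]
      · have h3 := hmin j h
        have h4 : (j : ℕ) ≠ i₀ := fun e => hj (Fin.ext e)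
        have := i₀.2
        rw [show T ^ (m - (i₀ : ℕ) + (j : ℕ)) = 0 from pow_eq_zero_of_le (by omega) h0, Matrix.zero_mulVec,
          smul_zero]) (by simp), Nat.sub_add_cancel (by have := i₀.2; omega)] at h1
    exact hx₀ ((smul_eq_zero.1 h1).resolve_left hi₀)
  have hspan : Submodule.span F (Set.range v) = ⊤ :=
    hind.span_eq_top_of_card_eq_finrank' (by rw [Fintype.card_fin, Module.finrank_pi, hn])
  set e := T ^ m *ᵥ x₀
  have hline : ∀ x, ∃ t : F, T ^ m *ᵥ x = t • e := fun x => by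
    have hx : x ∈ Submodule.span F (Set.range v) := by rw [hspan]; trivial
    induction hx using Submodule.span_induction with
    | mem x hx =>
      obtain ⟨i, rfl⟩ := hx
      rcases Nat.eq_zero_or_pos (i : ℕ) with h | h
      · exact ⟨1, by rw [one_smul]; simp [v, e, h]⟩
      · refine ⟨0, ?_⟩
        rw [zero_smul]
        show T ^ m *ᵥ (T ^ (i : ℕ) *ᵥ x₀) = 0
        rw [Matrix.mulVec_mulVec, ← pow_add, show T ^ (m + (i : ℕ)) = 0 from pow_eq_zero_of_le (by omega) h0,
          Matrix.zero_mulVec]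
    | zero => exact ⟨0, by simp⟩
    | add x y _ _ hx hy =>
      obtain ⟨s, hs⟩ := hx; obtain ⟨t, ht⟩ := hy
      exact ⟨s + t, by rw [Matrix.mulVec_add, hs, ht, add_smul]⟩
    | smul r x _ hx =>
      obtain ⟨s, hs⟩ := hx
      exact ⟨r * s, by rw [Matrix.mulVec_smul, hs, smul_smul]⟩
  obtain ⟨y₀, hy₀⟩ : ∃ y₀, QuadraticMap.polar ⇑Q e y₀ ≠ 0 := by
    by_contra h; push Not at h
    exact hx₀ (eq_zero_of_polar hQ h)
  obtain ⟨t, ht⟩ := hline y₀
  have hzz : ∀ x, QuadraticMap.polar ⇑Q x (T ^ m *ᵥ x) = 0 := fun x => by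
    have h1 := hsign x x
    rw [QuadraticMap.polar_comm] at h1
    exact (mul_eq_zero.1 (by linear_combination h1 :
      (2 : F) * QuadraticMap.polar ⇑Q x (T ^ m *ᵥ x) = 0)).resolve_left h2
  rcases eq_or_ne t 0 with rfl | ht0
  · rw [zero_smul] at ht
    have h1 := hsign x₀ y₀
    rw [ht, QuadraticMap.polar_zero_right, neg_zero] at h1
    exact hy₀ h1
  · have h1 := hzz y₀
    rw [ht, QuadraticMap.polar_smul_right, smul_eq_mul, mul_eq_zero, QuadraticMap.polar_comm] at h1
    exact hy₀ (h1.resolve_left ht0)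

end Cfsg.Agent.Classical.Spectra
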