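import Cfsg.Agent.Lib.Classical.SpectraBound

/-!
`Ω₉` and the split extension of the natural module by `Ω⁻₈` have the same element orders.
-/

set_option autoImplicit false
set_option linter.unusedSectionVars false
set_option quotPrecheck false

namespace Cfsg.Agent.Classical.Spectra

open Matrix Module Cfsg Cfsg.Agent.Classical.OrthAut

variable {F : Type*} [Field F] [Fintype F] {ι κ : Type} [Fintype ι] [DecidableEq ι] [Fintype κ] [DecidableEq κ]
  {Q : QuadraticForm F (ι → F)} {R : QuadraticForm F (κ → F)}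

/-- The natural action of `Ω` on the module, as in the split extension. -/
noncomputable def actHom (Q : QuadraticForm F (ι → F)) :
    ↥(Omega F ⇑Q) →* MulAut (Multiplicative (ι → F)) :=
  (MulAutMultiplicative (ι → F)).symm.toMonoidHom.comp
    ((DistribMulAction.toAddAut (LinearMap.GeneralLinearGroup F (ι → F)) (ι → F)).comp
      (Matrix.GeneralLinearGroup.toLin.toMonoidHom.comp
        ((isometryGroup F ⇑Q).subtype.comp (Omega F ⇑Q).subtype)))

/-- The matrices of the action. -/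
def actMat (Q : QuadraticForm F (ι → F)) : ↥(Omega F ⇑Q) →* Matrix ι ι F :=
  (Units.coeHom (Matrix ι ι F)).comp ((isometryGroup F ⇑Q).subtype.comp (Omega F ⇑Q).subtype)

theorem actHom_apply (h : ↥(Omega F ⇑Q)) (v : ι → F) :
    actHom Q h (Multiplicative.ofAdd v) = Multiplicative.ofAdd (actMat Q h *ᵥ v) := rfl

theorem mem_range_of_dvd {G : Type*} [Group G] [Finite G] {n : ℕ} (x : G) (h : n ∣ orderOf x) :
    n ∈ Set.range (orderOf : G → ℕ) :=
  ⟨x ^ (orderOf x / n), orderOf_pow_orderOf_div (orderOf_pos x).ne' h⟩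

/-- A block diagonal sum. -/
theorem sum_fromBlocks {m n : Type} [Fintype m] [DecidableEq m] [Fintype n] [DecidableEq n]
    (A : ℕ → Matrix m m F) (C : ℕ → Matrix n n F) (d : ℕ) :
    ∑ i ∈ Finset.range d, Matrix.fromBlocks (A i) 0 0 (C i) =
      Matrix.fromBlocks (∑ i ∈ Finset.range d, A i) 0 0 (∑ i ∈ Finset.range d, C i) := by
  induction d with
  | zero => simp
  | succ d ih =>
    rw [Finset.sum_range_succ, Finset.sum_range_succ, Finset.sum_range_succ, ih, Matrix.fromBlocks_add, add_zero,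
      add_zero]

theorem og_geom_sum {T : QuadraticForm F (κ → F)} (D : IsoData T Q) (g : isometryGroup F ⇑T) (d : ℕ) :
    ∑ i ∈ Finset.range d, ogVal (D.og g) ^ i = D.M * (∑ i ∈ Finset.range d, ogVal g ^ i) * D.N := by
  have h : ∀ i, ogVal (D.og g) ^ i = D.M * ogVal g ^ i * D.N := fun i => by
    rw [← PrimeGraphBC.ogVal_pow, ← map_pow, ← PrimeGraphBC.ogVal_pow]
    rfl
  simp only [h, Matrix.mul_sum, Matrix.sum_mul]

variable (p : ℕ) [Fact p.Prime] [CharP F p]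

theorem unipotent_pow (g : isometryGroup F ⇑Q) {m c : ℕ} (h : (ogVal g - 1) ^ m = 0) (hc : m ≤ p ^ c) :
    g ^ p ^ c = 1 := by
  rcases isEmpty_or_nonempty ι with hι | hι
  · exact ogVal_ext (Subsingleton.elim _ _)
  refine ogVal_ext ?_
  rw [PrimeGraphBC.ogVal_pow, ogVal_one, orderOf_unipotent p]
  exact pow_eq_zero_of_le hc h

/-- The Fitting decomposition at eigenvalue one inside `Ω`. -/
theorem omega_fitting (h2 : (2 : F) ≠ 0) (hQ : (QuadraticMap.polarBilin Q).Nondegenerate)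
    {g : isometryGroup F ⇑Q} (hg : g ∈ Omega F ⇑Q) :
    ∃ (a b : ℕ) (Q₁ : QuadraticForm F (Fin a → F)) (Q₂ : QuadraticForm F (Fin b → F)),
      (QuadraticMap.polarBilin Q₁).Nondegenerate ∧ (QuadraticMap.polarBilin Q₂).Nondegenerate ∧
      a + b = Fintype.card ι ∧ Even b ∧
      ∃ (D : IsoData (sumQ Q₁ Q₂) Q) (g₁ : isometryGroup F ⇑Q₁) (g₂ : isometryGroup F ⇑Q₂) (β : ℕ),
        D.og (pair g₁ g₂) = g ∧ (ogVal g₁ - 1) ^ a = 0 ∧ (ogVal g₂ - 1).det ≠ 0 ∧
        g₂ ∈ Omega F ⇑Q₂ ∧ orderOf g₁ = p ^ β ∧ orderOf g = Nat.lcm (p ^ β) (orderOf g₂) := by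
  have hp : p.Prime := Fact.out
  have hpodd : Odd p := hp.odd_of_ne_two (by
    rintro rfl
    exact h2 (by exact_mod_cast CharP.cast_eq_zero F 2))
  obtain ⟨a, b, Q₁, Q₂, hQ₁, hQ₂, hab, D, g₁, g₂, hD, hu, hd⟩ := exists_fitting hQ g (c := (1 : F)) (one_mul 1)
  rw [one_smul] at hu hd
  have h1 : g₁ ^ p ^ a = 1 := unipotent_pow p g₁ hu (Nat.lt_pow_self hp.one_lt).le
  have hg₁ := PrimeGraphBC.odd_mem_omega h2 hQ₁ hpodd.pow h1
  obtain ⟨hd₁, hs₁⟩ := omega_parts h2 hQ₁ hg₁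
  obtain ⟨hgd, hgs⟩ := omega_parts h2 hQ hg
  rw [← hD, det_og, det_pair, hd₁, one_mul] at hgd
  rw [← hD, spin_og h2 (nondegenerate_sumQ hQ₁ hQ₂) hQ D, spin_pair h2 hQ₁ hQ₂, hs₁, one_mul] at hgs
  obtain ⟨β, -, hβ⟩ := (Nat.dvd_prime_pow hp).1 (orderOf_dvd_of_pow_eq_one h1)
  have hbe : Even b := by
    rcases Nat.even_or_odd b with h | h
    · exact h
    · exact absurd (det_sub_one_eq_zero h2 hQ₂ g₂ (by simpa using h) hgd) hd
  refine ⟨a, b, Q₁, Q₂, hQ₁, hQ₂, hab, hbe, D, g₁, g₂, β, hD, hu, hd,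
    PrimeGraphBC.mem_omega_of_det h2 hQ₂ hgd hgs, hβ, ?_⟩
  rw [← hD, MulEquiv.orderOf_eq, orderOf_pair, hβ]

/-- An element order of `Ω₉` divides one of the extension. -/
theorem good_of_nine (h2 : (2 : F) ≠ 0) (hQ : (QuadraticMap.polarBilin Q).Nondegenerate)
    (hn : Fintype.card ι = 8) (hs : sd Q = -1) (hR : (QuadraticMap.polarBilin R).Nondegenerate)
    (hm : Fintype.card κ = 9) {g : isometryGroup F ⇑R} (hg : g ∈ Omega F ⇑R) : Good p Q (orderOf g) := by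
  have hp : p.Prime := Fact.out
  have hpodd : Odd p := hp.odd_of_ne_two (by
    rintro rfl
    exact h2 (by exact_mod_cast CharP.cast_eq_zero F 2))
  obtain ⟨a, b, Q₁, Q₂, hQ₁, hQ₂, hab, hbe, D, g₁, g₂, β, -, hu, hd, hg₂, hβ, ho⟩ := omega_fitting p h2 hR hg
  rw [hm] at hab
  rw [ho]
  have ha : Odd a := by
    rcases Nat.even_or_odd a with h | h
    · exact absurd (hab ▸ h.add hbe) (by decide)
    · exact h
  obtain rfl | ⟨γ, rfl⟩ : β = 0 ∨ ∃ γ, β = γ + 1 := (Nat.eq_zero_or_pos β).imp id fun h => ⟨β - 1, by omega⟩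
  · rw [pow_zero, Nat.lcm_one_left]
    rcases Nat.lt_or_ge b 8 with hb | hb
    · exact good_part h2 p hQ hQ₂ (by rw [Fintype.card_fin, hn]; omega) hg₂
    obtain rfl : b = 8 := by
      have := ha.pos
      omega
    rcases Int.units_eq_one_or (sd Q₂) with hs₂ | hs₂
    · obtain ⟨l1, l2, l3, l4, l5, l6, l7, l8⟩ := good_list p h2 hQ hn hs
      rcases inList_bound p h2 hQ₂ (by simp) hs₂ hg₂ hd with
        h | h | h | h | h | h | ⟨h3, h | h⟩ | ⟨h5, h⟩
      exacts [l1.mono h, l2.mono h, l3.mono h, l4.mono h, l5.mono h, l6.mono h, (l7 h3).1.mono h,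
        (l7 h3).2.mono h, (l8 h5).mono h]
    · obtain ⟨D'⟩ := exists_iso_sd h2 hQ₂ hQ (by simp [hn]) (hs₂.trans hs.symm)
      exact Good.iso ⟨g₂, hg₂, Or.inl dvd_rfl⟩ D'
  · have hga : p ^ γ < a := by
      by_contra hc
      have h1 := orderOf_dvd_of_pow_eq_one (unipotent_pow p g₁ hu (not_lt.1 hc))
      rw [hβ, Nat.pow_dvd_pow_iff_le_right hp.one_lt] at h1
      omega
    have hγ : p ^ γ % 2 = 1 := Nat.odd_iff.1 hpodd.pow
    have ha2 := Nat.odd_iff.1 ha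
    have hpos : 0 < p ^ γ := pow_pos hp.pos _
    by_cases hdvd : p ^ (γ + 1) ∣ orderOf g₂
    · rw [Nat.lcm_eq_right hdvd]
      exact good_part h2 p hQ hQ₂ (by rw [Fintype.card_fin, hn]; omega) hg₂
    · exact good_regular h2 p γ hQ hQ₂ (by rw [Fintype.card_fin, hn]; omega) hg₂ hdvd

/-- The orders above an element of `Ω⁻₈` with a non-trivial norm vector occur in `Ω₉`. -/
theorem nine_of_eight (h2 : (2 : F) ≠ 0) (hodd : Odd (Fintype.card F))
    (hQ : (QuadraticMap.polarBilin Q).Nondegenerate) (hn : Fintype.card ι = 8) {h : isometryGroup F ⇑Q}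
    (hh : h ∈ Omega F ⇑Q) (hv : ∑ i ∈ Finset.range (orderOf h), ogVal h ^ i ≠ 0) :
    ∃ y : POmega F (quadFormOdd 4 F), p * orderOf h ∣ orderOf y := by
  classical
  have hp : p.Prime := Fact.out
  have hpodd : Odd p := hp.odd_of_ne_two (by
    rintro rfl
    exact h2 (by exact_mod_cast CharP.cast_eq_zero F 2))
  obtain ⟨a, b, Q₁, Q₂, hQ₁, hQ₂, hab, hbe, D, g₁, g₂, β, hD, hu, hd, hg₂, hβ, ho⟩ := omega_fitting p h2 hQ hh
  rw [hn] at hab
  set d := orderOf h with hdd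
  obtain ⟨α, m, hm, hdm⟩ := Nat.exists_eq_pow_mul_and_not_dvd (orderOf_pos h).ne' p hp.ne_one
  rw [← hdd] at hdm
  have hcop : ∀ k, Nat.Coprime (p ^ k) m := fun k => ((hp.coprime_iff_not_dvd).2 hm).pow_left k
  have hβα : p ^ β ∣ p ^ α :=
    (hcop β).dvd_of_dvd_mul_right (hdm ▸ ho ▸ Nat.dvd_lcm_left _ _)
  have hle : p ^ α + 1 ≤ a := by
    by_contra hc
    have hkey : a ≤ p ^ α - 1 := by
      have hpe : p ^ α % 2 = 1 := Nat.odd_iff.1 hpodd.pow
      obtain ⟨c, hc'⟩ := hbe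
      omega
    refine hv ?_
    have e1 : ∑ i ∈ Finset.range d, ogVal g₁ ^ i = 0 := by
      rw [hdm, geom_sum_unipotent p m (pow_eq_zero_of_le (by omega) hu), pow_eq_zero_of_le hkey hu, smul_zero]
    have e2 : ∑ i ∈ Finset.range d, ogVal g₂ ^ i = 0 := by
      have h1 : g₂ ^ d = 1 := orderOf_dvd_iff_pow_eq_one.1 (ho ▸ Nat.dvd_lcm_right _ _)
      have h3 := mul_geom_sum (ogVal g₂) d
      rw [← PrimeGraphBC.ogVal_pow, h1, ogVal_one, sub_self] at h3
      exact (((Matrix.isUnit_iff_isUnit_det _).2 hd.isUnit).mul_right_eq_zero).1 h3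
    rw [← hD, og_geom_sum D]
    have e3 : ∀ i, ogVal (pair g₁ g₂) ^ i = Matrix.fromBlocks (ogVal g₁ ^ i) 0 0 (ogVal g₂ ^ i) := fun i => by
      rw [← PrimeGraphBC.ogVal_pow, pair_pow, pair_val, PrimeGraphBC.ogVal_pow, PrimeGraphBC.ogVal_pow]
    simp only [e3]
    rw [sum_fromBlocks, e1, e2, Matrix.fromBlocks_zero, Matrix.mul_zero, Matrix.zero_mul]
  obtain ⟨R₀, u, hR₀, huΩ, hud, hus, hu0, hu1⟩ := exists_regular (F := F) p h2 (k := p ^ α + 2)
    (hpodd.pow.add_even even_two)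
  have hU := nd_diag (F := F) h2 (w := fun _ : Fin (a - (p ^ α + 1)) => (1 : F)) (fun _ => one_ne_zero)
  set U := PrimeGraphBC.qMat (Matrix.diagonal fun _ : Fin (a - (p ^ α + 1)) => (1 : F))
  have hn1 := nondegenerate_sumQ hR₀ hU
  have hx : pair (Q := R₀) (R := U) u 1 ∈ Omega F ⇑(sumQ R₀ U) := mem_omega_pair h2 hR₀ hU
    (by rw [hud, ogVal_one, Matrix.det_one, one_mul])
    (by rw [hus, ← spinHom_apply hU, map_one, one_mul])
  have hk : pair (pair (Q := R₀) (R := U) u 1) g₂ ∈ Omega F ⇑(sumQ (sumQ R₀ U) Q₂) :=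
    mem_omega_pair h2 hn1 hQ₂
      (by rw [(omega_parts h2 hn1 hx).1, (omega_parts h2 hQ₂ hg₂).1, one_mul])
      (by rw [(omega_parts h2 hn1 hx).2, (omega_parts h2 hQ₂ hg₂).2, one_mul])
  obtain ⟨y, hy⟩ := PrimeGraphBC.to_pomega h2 hodd (nondegenerate_sumQ hn1 hQ₂) (n := 4) (by norm_num)
    (by simp; omega) hk
  refine ⟨y, ?_⟩
  rw [hy, orderOf_pair, orderOf_pair, orderOf_one, Nat.lcm_one_right]
  haveI : Nonempty (Fin (p ^ α + 2)) := ⟨⟨0, by omega⟩⟩
  have hup : p ^ (α + 1) ∣ orderOf u := by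
    obtain ⟨γ, -, hγ⟩ := (Nat.dvd_prime_pow hp).1
      (orderOf_dvd_of_pow_eq_one (unipotent_pow p u hu0 (Nat.lt_pow_self hp.one_lt).le))
    rw [hγ]
    refine pow_dvd_pow p (Nat.succ_le_of_lt ?_)
    by_contra hc
    have h1 : u ^ p ^ α = 1 := orderOf_dvd_iff_pow_eq_one.1 (hγ ▸ pow_dvd_pow p (not_lt.1 hc))
    have h3 := congrArg ogVal h1
    rw [PrimeGraphBC.ogVal_pow, ogVal_one, orderOf_unipotent p] at h3
    exact hu1 (pow_eq_zero_of_le (by omega) h3)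
  rw [hdm, ← mul_assoc, ← pow_succ']
  refine (hcop (α + 1)).mul_dvd_of_dvd_of_dvd (hup.trans (Nat.dvd_lcm_left _ _)) ?_
  refine dvd_trans ?_ (Nat.dvd_lcm_right _ _)
  have h1 : m ∣ p ^ α * orderOf g₂ := by
    have h3 : m ∣ d := hdm ▸ dvd_mul_left _ _
    rw [ho] at h3
    exact h3.trans ((Nat.lcm_dvd_mul _ _).trans (Nat.mul_dvd_mul_right hβα _))
  exact (hcop α).symm.dvd_of_dvd_mul_left h1

include p in
/-- The spectra agree. -/
theorem range_eq (h2 : (2 : F) ≠ 0) (hodd : Odd (Fintype.card F))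
    (hQ : (QuadraticMap.polarBilin Q).Nondegenerate) (hn : Fintype.card ι = 8) (hs : sd Q = -1) :
    Set.range (orderOf : POmega F (quadFormOdd 4 F) → ℕ) =
      Set.range (orderOf : Multiplicative (ι → F) ⋊[actHom Q] ↥(Omega F ⇑Q) → ℕ) := by
  classical
  haveI : Finite (Multiplicative (ι → F) ⋊[actHom Q] ↥(Omega F ⇑Q)) :=
    Finite.of_equiv _ SemidirectProduct.equivProd.symm
  refine Set.Subset.antisymm ?_ ?_
  · rintro _ ⟨y, rfl⟩
    obtain ⟨g, hg, ho⟩ := PrimeGraphBC.of_pomega hodd (show 3 ≤ 4 by norm_num) y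
    rw [← ho]
    obtain ⟨h, hh, hN | ⟨hN, v, hv⟩⟩ := good_of_nine p h2 hQ hn hs (nondegenerate_qfOdd 4 h2) (by simp) hg
    · refine mem_range_of_dvd (SemidirectProduct.inr (φ := actHom Q) ⟨h, hh⟩) ?_
      rw [orderOf_injective _ SemidirectProduct.inr_injective, Subgroup.orderOf_mk h hh]
      exact hN
    · refine mem_range_of_dvd
        (⟨Multiplicative.ofAdd v, ⟨h, hh⟩⟩ : Multiplicative (ι → F) ⋊[actHom Q] ↥(Omega F ⇑Q)) ?_
      refine hN.trans ?_
      rw [← Subgroup.orderOf_mk h hh]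
      exact (orderOf_mk (actMat Q) (actHom Q) actHom_apply p v _).2.2.2 (orderOf_pos _).ne'
        (by rw [Subgroup.orderOf_mk h hh]; exact hv)
  · rintro _ ⟨⟨l, ⟨h, hh⟩⟩, rfl⟩
    obtain ⟨v, rfl⟩ : ∃ v, Multiplicative.ofAdd v = l := ⟨Multiplicative.toAdd l, rfl⟩
    obtain ⟨h1, -, h3, -⟩ := orderOf_mk (actMat Q) (actHom Q) actHom_apply p v ⟨h, hh⟩
    rw [Subgroup.orderOf_mk h hh] at h1 h3
    by_cases hv : ∑ i ∈ Finset.range (orderOf h), ogVal h ^ i = 0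
    · have hU := nd_diag (F := F) h2 (w := fun _ : Fin 1 => (1 : F)) (fun _ => one_ne_zero)
      obtain ⟨hk, hko⟩ := omega_one_left h2 hU hQ hh
      obtain ⟨y, hy⟩ := PrimeGraphBC.to_pomega h2 hodd (nondegenerate_sumQ hU hQ) (n := 4) (by norm_num)
        (by simp [hn]) hk
      refine mem_range_of_dvd y ?_
      rw [hy, hko]
      refine h3 ?_
      show (∑ i ∈ Finset.range (orderOf h), ogVal h ^ i) *ᵥ v = 0
      rw [hv, Matrix.zero_mulVec]
    · obtain ⟨y, hy⟩ := nine_of_eight p h2 hodd hQ hn hh hv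
      exact mem_range_of_dvd y (h1.trans hy)

end Cfsg.Agent.Classical.Spectra
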