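import Cfsg.Agent.Lib.Classical.SpectraTop

/-!
Two orbits of four eigenvalues: the isometry is `diag (A, A⁻ᵀ)` and its spinor norm is the class of `det A`.
-/

set_option autoImplicit false
set_option linter.unusedSectionVars false
set_option quotPrecheck false

namespace Cfsg.Agent.Classical.Spectra

open Matrix Polynomial Module Cfsg Cfsg.Agent.Classical.OrthAut

variable {F : Type*} [Field F] [Fintype F] {ι : Type} [Fintype ι] [DecidableEq ι]
  {Q : QuadraticForm F (ι → F)} {K : Type*} [Field K] [Algebra F K] [IsAlgClosed K] [DecidableEq K]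

theorem mem_range_of_frob {c : K} (hc : c ^ Fintype.card F = c) : ∃ a : F, algebraMap F K a = c := by
  classical
  by_contra hne
  push Not at hne
  set S := Finset.univ.image (algebraMap F K)
  have hP : (X ^ Fintype.card F - X : K[X]) ≠ 0 := FiniteField.X_pow_card_sub_X_ne_zero K Fintype.one_lt_card
  have hsub : insert c S ⊆ (X ^ Fintype.card F - X : K[X]).roots.toFinset := by
    intro y hy
    rw [Multiset.mem_toFinset, mem_roots hP]
    rcases Finset.mem_insert.1 hy with rfl | hy
    · simp [hc]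
    · obtain ⟨a, -, rfl⟩ := Finset.mem_image.1 hy
      simp [← map_pow, FiniteField.pow_card]
  have h1 := (Finset.card_le_card hsub).trans ((Multiset.toFinset_card_le _).trans (card_roots' _))
  rw [FiniteField.X_pow_card_sub_X_natDegree_eq K Fintype.one_lt_card, Finset.card_insert_of_notMem (by
    simp only [S, Finset.mem_image, Finset.mem_univ, true_and, not_exists]; exact hne),
    Finset.card_image_of_injective _ (algebraMap F K).injective, Finset.card_univ] at h1
  omega

theorem exists_lift_orbit {O : Finset K} (hO : ∀ y ∈ O, y ^ Fintype.card F ∈ O) :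
    ∃ f : F[X], f.Monic ∧ f.map (algebraMap F K) = ∏ y ∈ O, (X - C y) := by
  classical
  set φ : K →+* K := (FiniteField.frobeniusAlgHom F K).toRingHom
  set P := ∏ y ∈ O, (X - C y)
  have hfix : P.map φ = P := by
    have himg : O.image φ = O := Finset.eq_of_subset_of_card_le
      (fun z hz => by obtain ⟨y, hy, rfl⟩ := Finset.mem_image.1 hz; exact hO y hy)
      (by rw [Finset.card_image_of_injective _ φ.injective])
    rw [Polynomial.map_prod]
    simp only [Polynomial.map_sub, Polynomial.map_X, Polynomial.map_C]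
    conv_rhs => rw [show P = ∏ y ∈ O.image φ, (X - C y) by rw [himg]]
    rw [Finset.prod_image fun a _ b _ h => φ.injective h]
  have hlift : P ∈ Polynomial.lifts (algebraMap F K) := (Polynomial.lifts_iff_coeff_lifts _).2 fun n => by
    have h := congrArg (fun p => Polynomial.coeff p n) hfix
    rw [Polynomial.coeff_map] at h
    obtain ⟨a, ha⟩ := mem_range_of_frob (F := F) (show (P.coeff n) ^ Fintype.card F = P.coeff n from h)
    exact ⟨a, ha⟩
  obtain ⟨f, hf, -, hfm⟩ := lifts_and_natDegree_eq_and_monic hlift (monic_prod_of_monic _ _ fun y _ => monic_X_sub_C y)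
  exact ⟨f, hfm, hf⟩

variable (g : isometryGroup F ⇑Q)

theorem polar_aeval (f : F[X]) (x y : ι → F) :
    QuadraticMap.polar ⇑Q (aeval (ogVal g) f *ᵥ x) y = QuadraticMap.polar ⇑Q x (aeval (ogVal g⁻¹) f *ᵥ y) := by
  induction f using Polynomial.induction_on' generalizing x y with
  | add p q hp hq =>
    rw [map_add, map_add, Matrix.add_mulVec, Matrix.add_mulVec, QuadraticMap.polar_add_left,
      QuadraticMap.polar_add_right, hp, hq]
  | monomial n a =>
    rw [aeval_monomial, aeval_monomial, ← Algebra.smul_def, ← Algebra.smul_def, Matrix.smul_mulVec,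
      Matrix.smul_mulVec, QuadraticMap.polar_smul_left, QuadraticMap.polar_smul_right]
    congr 1
    induction n generalizing x y with
    | zero => simp
    | succ n ih =>
      rw [pow_succ, pow_succ', ← Matrix.mulVec_mulVec, ← Matrix.mulVec_mulVec, ih]
      conv_lhs => rw [← Matrix.one_mulVec (ogVal g⁻¹ ^ n *ᵥ y), ← ogVal_one (Q := Q), ← mul_inv_cancel g,
        ogVal_mul, ← Matrix.mulVec_mulVec]
      exact isometry_polar (ogVal_quad g) _ _

theorem aeval_reverse (f : F[X]) :
    aeval (ogVal g⁻¹) f * ogVal g ^ f.natDegree = aeval (ogVal g) f.reverse := by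
  have hHG : ogVal g⁻¹ * ogVal g = 1 := by rw [← ogVal_mul, inv_mul_cancel, ogVal_one]
  rw [aeval_eq_sum_range, aeval_eq_sum_range' (p := f.reverse) (n := f.natDegree + 1)
      (lt_of_le_of_lt (reverse_natDegree_le f) (Nat.lt_succ_self _)), Finset.sum_mul,
    ← Finset.sum_range_reflect (fun i => f.reverse.coeff i • ogVal g ^ i) (f.natDegree + 1)]
  refine Finset.sum_congr rfl fun i hi => ?_
  have hi' : i ≤ f.natDegree := Nat.lt_succ_iff.1 (Finset.mem_range.1 hi)
  rw [Nat.add_sub_cancel, coeff_reverse, revAt_le (Nat.sub_le _ _), Nat.sub_sub_self hi', smul_mul_assoc]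
  congr 1
  conv_lhs => rw [show f.natDegree = i + (f.natDegree - i) by omega, pow_add, ← Matrix.mul_assoc]
  have h1 : ogVal g⁻¹ ^ i * ogVal g ^ i = 1 := by
    rw [← (show Commute (ogVal g⁻¹) (ogVal g) by
      show _ = _
      rw [← ogVal_mul, ← ogVal_mul, inv_mul_cancel, mul_inv_cancel]).mul_pow, hHG, one_pow]
  rw [h1, Matrix.one_mul]

theorem isUnit_pow_ogVal (n : ℕ) : IsUnit (ogVal g ^ n) :=
  ((Matrix.isUnit_iff_isUnit_det _).2
    (Ne.isUnit (Matrix.GeneralLinearGroup.det_ne_zero (g : GL ι F)))).pow n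

/-- The spinor norm when the space is the sum of two totally singular eigenspaces. -/
theorem pair_orbit (h2 : (2 : F) ≠ 0) (hQ : (QuadraticMap.polarBilin Q).Nondegenerate) (hn : Fintype.card ι = 8)
    (hs : spin g = 1) {x : K} {O : Finset K}
    (hR : eigRoots K (ogVal g) = O.val + (O.image fun y => y⁻¹).val) (hdis : Disjoint O (O.image fun y => y⁻¹))
    (hO : O = (Finset.range 4).image fun i => x ^ Fintype.card F ^ i) (hO4 : O.card = 4)
    (hx : x ^ Fintype.card F ^ 4 = x) (hx0 : x ≠ 0) :
    ∀ y ∈ eigRoots K (ogVal g), y ^ ((Fintype.card F ^ 4 - 1) / 2) = 1 := by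
  classical
  set q := Fintype.card F with hq
  set G := ogVal g
  have hclosed : ∀ y ∈ O, y ^ q ∈ O := by
    rw [hO]
    intro y hy
    obtain ⟨i, hi, rfl⟩ := Finset.mem_image.1 hy
    rw [← pow_mul, ← pow_succ]
    rcases (by simp at hi; omega : i + 1 < 4 ∨ i + 1 = 4) with h | h
    · exact Finset.mem_image.2 ⟨i + 1, Finset.mem_range.2 h, rfl⟩
    · exact Finset.mem_image.2 ⟨0, Finset.mem_range.2 (by norm_num), by rw [h, hx, pow_zero, pow_one]⟩
  obtain ⟨f, hfm, hf⟩ := exists_lift_orbit hclosed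
  have hfd : f.natDegree = 4 := by
    rw [← natDegree_map (algebraMap F K), hf, natDegree_prod_of_monic _ _ fun y _ => monic_X_sub_C y]
    simp [hO4]
  set r := f.reverse
  have hO0 : ∀ y ∈ O, y ≠ 0 := by
    rw [hO]; intro y hy; obtain ⟨i, -, rfl⟩ := Finset.mem_image.1 hy; exact pow_ne_zero _ hx0
  have hfroot : ∀ z : K, aeval z f = 0 ↔ z ∈ O := fun z => by
    rw [aeval_def, ← eval_map, hf, eval_prod, Finset.prod_eq_zero_iff]
    simp [sub_eq_zero]
  have hrroot : ∀ z : K, z ≠ 0 → (aeval z r = 0 ↔ z⁻¹ ∈ O) := fun z hz => by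
    letI := invertibleOfNonzero (inv_ne_zero hz)
    have h := eval₂_reverse_mul_pow (algebraMap F K) z⁻¹ f
    rw [invOf_eq_inv, inv_inv, ← aeval_def, ← aeval_def] at h
    rw [← hfroot, ← h, mul_eq_zero, or_iff_left (pow_ne_zero _ (inv_ne_zero hz))]
  have hcop : IsCoprime f r := by
    rw [← isCoprime_map (algebraMap F K)]
    rw [← EuclideanDomain.gcd_isUnit_iff, isUnit_iff_degree_eq_zero]
    by_contra hne
    obtain ⟨z, hz⟩ := IsAlgClosed.exists_root _ hne
    have h1 := eval_eq_zero_of_dvd_of_eval_eq_zero (EuclideanDomain.gcd_dvd_left _ _) hz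
    have h3 := eval_eq_zero_of_dvd_of_eval_eq_zero (EuclideanDomain.gcd_dvd_right _ _) hz
    rw [eval_map, ← aeval_def] at h1 h3
    have hzO := (hfroot z).1 h1
    have hz' := (hrroot z (hO0 z hzO)).1 h3
    exact Finset.disjoint_left.1 hdis hzO (Finset.mem_image.2 ⟨_, hz', inv_inv z⟩)
  have hnd : (eigRoots K G).Nodup := by
    rw [hR, Multiset.nodup_add]
    exact ⟨O.nodup, Finset.nodup _, Finset.disjoint_val.2 hdis⟩
  have hfr0 : (f * r).map (algebraMap F K) ≠ 0 :=
    (Polynomial.map_ne_zero_iff (algebraMap F K).injective).2 (mul_ne_zero hfm.ne_zero (fun h => hfm.ne_zero (reverse_eq_zero.1 h)))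
  have hdvd : G.charpoly ∣ f * r := by
    rw [← Polynomial.map_dvd_map' (algebraMap F K), ← Matrix.charpoly_map,
      (IsAlgClosed.splits _).eq_prod_roots_of_monic (Matrix.charpoly_monic _)]
    refine dvd_trans (Multiset.prod_dvd_prod_of_le (Multiset.map_le_map ?_)) (prod_multiset_X_sub_C_dvd _)
    refine (Multiset.le_iff_subset hnd).2 fun z hz => (mem_roots hfr0).2 ?_
    change z ∈ eigRoots K G at hz
    rw [hR, Multiset.mem_add] at hz
    rw [IsRoot, eval_map, ← aeval_def, map_mul, mul_eq_zero]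
    rcases hz with h | h
    · exact Or.inl ((hfroot z).2 h)
    · obtain ⟨y, hy, rfl⟩ := Finset.mem_image.1 h
      exact Or.inr ((hrroot _ (inv_ne_zero (hO0 y hy))).2 (by rwa [inv_inv]))
  have hfr : aeval G (f * r) = 0 := by
    obtain ⟨c, hc⟩ := hdvd
    rw [hc, map_mul, Matrix.aeval_self_charpoly, Matrix.zero_mul]
  obtain ⟨a, b, hab⟩ := hcop
  have hab' : ∀ v, aeval G (a * f) *ᵥ v + aeval G (b * r) *ᵥ v = v := fun v => by
    rw [← Matrix.add_mulVec, ← map_add, hab, map_one, Matrix.one_mulVec]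
  set U := LinearMap.ker (Matrix.mulVecLin (aeval G f))
  set W := LinearMap.ker (Matrix.mulVecLin (aeval G r))
  have memU : ∀ v, v ∈ U ↔ aeval G f *ᵥ v = 0 := fun v => Iff.rfl
  have memW : ∀ v, v ∈ W ↔ aeval G r *ᵥ v = 0 := fun v => Iff.rfl
  have hrev := aeval_reverse g f
  rw [hfd] at hrev
  have hrevGH : aeval (ogVal g⁻¹) r * G ^ 4 = aeval G f ∧ aeval (ogVal g⁻¹) f * G ^ 4 = aeval G r := by
    refine ⟨?_, hrev⟩
    have h := congrArg (fun X => X * aeval G f) hrev
    have h' := aeval_reverse g⁻¹ f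
    rw [inv_inv, hfd] at h'
    -- `r (g⁻¹) = f (g) g⁻⁴`
    rw [← h', Matrix.mul_assoc]
    have h1 : ogVal g⁻¹ ^ 4 * G ^ 4 = 1 := by
      rw [← PrimeGraphBC.ogVal_pow, ← PrimeGraphBC.ogVal_pow, ← ogVal_mul, inv_pow, inv_mul_cancel, ogVal_one]
    rw [h1, Matrix.mul_one]
  have hunit : IsUnit (G ^ 4) := isUnit_pow_ogVal g 4
  have hcomm : ∀ P : F[X], Commute (aeval (ogVal g⁻¹) P) (G ^ 4) := fun P => by
    have h : Commute (ogVal g⁻¹) G := by
      show _ = _
      rw [← ogVal_mul, ← ogVal_mul, inv_mul_cancel, mul_inv_cancel]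
    refine Commute.pow_right ?_ 4
    induction P using Polynomial.induction_on' with
    | add p q hp hq => rw [map_add]; exact hp.add_left hq
    | monomial n a => rw [aeval_monomial]; exact (Algebra.commutes a G |> fun e => (show Commute _ _ from e)).mul_left (h.pow_left n)
  have killU : ∀ v ∈ U, aeval (ogVal g⁻¹) r *ᵥ v = 0 := fun v hv => by
    obtain ⟨u, hu⟩ := hunit
    have h1 : G ^ 4 *ᵥ (aeval (ogVal g⁻¹) r *ᵥ v) = 0 := by
      rw [Matrix.mulVec_mulVec, ← (hcomm r).eq, hrevGH.1]; exact (memU v).1 hv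
    have h3 := congrArg (((u⁻¹ : (Matrix ι ι F)ˣ) : Matrix ι ι F) *ᵥ ·) h1
    simp only [Matrix.mulVec_mulVec, Matrix.mulVec_zero, ← hu, ← Matrix.mul_assoc, Units.inv_mul,
      Matrix.one_mul] at h3
    exact h3
  have killW : ∀ v ∈ W, aeval (ogVal g⁻¹) f *ᵥ v = 0 := fun v hv => by
    obtain ⟨u, hu⟩ := hunit
    have h1 : G ^ 4 *ᵥ (aeval (ogVal g⁻¹) f *ᵥ v) = 0 := by
      rw [Matrix.mulVec_mulVec, ← (hcomm f).eq, hrevGH.2]; exact (memW v).1 hv
    have h3 := congrArg (((u⁻¹ : (Matrix ι ι F)ˣ) : Matrix ι ι F) *ᵥ ·) h1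
    simp only [Matrix.mulVec_mulVec, Matrix.mulVec_zero, ← hu, ← Matrix.mul_assoc, Units.inv_mul,
      Matrix.one_mul] at h3
    exact h3
  have tsU : ∀ u ∈ U, ∀ v ∈ U, QuadraticMap.polar ⇑Q u v = 0 := fun u hu v hv => by
    have h := hab' u
    rw [map_mul, ← Matrix.mulVec_mulVec, (memU u).1 hu, Matrix.mulVec_zero, zero_add,
      mul_comm b r, map_mul, ← Matrix.mulVec_mulVec] at h
    rw [← h, polar_aeval, killU v hv, QuadraticMap.polar_zero_right]
  have tsW : ∀ u ∈ W, ∀ v ∈ W, QuadraticMap.polar ⇑Q u v = 0 := fun u hu v hv => by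
    have h := hab' u
    rw [map_mul _ b, ← Matrix.mulVec_mulVec, (memW u).1 hu, Matrix.mulVec_zero, add_zero,
      mul_comm a f, map_mul, ← Matrix.mulVec_mulVec] at h
    rw [← h, polar_aeval, killW v hv, QuadraticMap.polar_zero_right]
  have hcompl : IsCompl U W := by
    refine ⟨Submodule.disjoint_def.2 fun v hu hw => ?_, codisjoint_iff.2 (eq_top_iff.2 fun v _ => ?_)⟩
    · have h := hab' v
      rw [map_mul, map_mul, ← Matrix.mulVec_mulVec, ← Matrix.mulVec_mulVec, (memU v).1 hu, (memW v).1 hw,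
        Matrix.mulVec_zero, Matrix.mulVec_zero, add_zero] at h
      exact h.symm
    · rw [← hab' v, add_comm]
      refine Submodule.add_mem_sup ?_ ?_
      · rw [memU, Matrix.mulVec_mulVec, ← map_mul, show f * (b * r) = b * (f * r) by ring, map_mul, hfr,
          Matrix.mul_zero, Matrix.zero_mulVec]
      · rw [memW, Matrix.mulVec_mulVec, ← map_mul, show r * (a * f) = a * (f * r) by ring, map_mul, hfr,
          Matrix.mul_zero, Matrix.zero_mulVec]
  have half : ∀ {S T : Submodule F (ι → F)}, IsCompl S T → (∀ u ∈ S, ∀ v ∈ S, QuadraticMap.polar ⇑Q u v = 0) →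
      ∀ w ∈ S, (∀ v ∈ T, QuadraticMap.polar ⇑Q w v = 0) → w = 0 := fun {S T} hc hts w hw h =>
    eq_zero_of_polar hQ fun z => by
      obtain ⟨a, ha, b, hb, rfl⟩ := Submodule.mem_sup.1 (show z ∈ S ⊔ T by rw [hc.sup_eq_top]; trivial)
      rw [QuadraticMap.polar_add_right, hts w hw a ha, h b hb, add_zero]
  let dW : W →ₗ[F] (U →ₗ[F] F) := ((QuadraticMap.polarBilin Q).compl₁₂ W.subtype U.subtype)
  let dU : U →ₗ[F] (W →ₗ[F] F) := ((QuadraticMap.polarBilin Q).compl₁₂ U.subtype W.subtype)
  have hdW : Function.Injective dW := (injective_iff_map_eq_zero dW).2 fun w hw =>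
    Subtype.ext (half hcompl.symm tsW w w.2 fun v hv => LinearMap.congr_fun hw ⟨v, hv⟩)
  have hdU : Function.Injective dU := (injective_iff_map_eq_zero dU).2 fun u hu =>
    Subtype.ext (half hcompl tsU u u.2 fun v hv => LinearMap.congr_fun hu ⟨v, hv⟩)
  have hdim : finrank F U = 4 ∧ finrank F W = 4 := by
    have e1 := LinearMap.finrank_le_finrank_of_injective hdW
    have e2 := LinearMap.finrank_le_finrank_of_injective hdU
    rw [Module.finrank_linearMap, Module.finrank_self, mul_one] at e1 e2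
    have e3 := Submodule.finrank_add_eq_of_isCompl hcompl
    rw [Module.finrank_pi, hn] at e3
    omega
  let bU : Module.Basis (Fin 4) F U := Module.finBasisOfFinrankEq F U hdim.1
  let dl : W →ₗ[F] (Fin 4 → F) := LinearMap.pi fun i => ((QuadraticMap.polarBilin Q) (bU i : ι → F)).comp W.subtype
  have hdl : ∀ (w : W) i, dl w i = QuadraticMap.polar ⇑Q (bU i : ι → F) w := fun w i => rfl
  have hdli : Function.Injective dl := (injective_iff_map_eq_zero dl).2 fun w hw => hdW (by
    refine LinearMap.ext fun u => ?_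
    rw [map_zero, ← bU.sum_repr u, map_sum, map_sum]
    refine Finset.sum_congr rfl fun i _ => ?_
    rw [map_smul, map_smul]
    congr 1
    show QuadraticMap.polar ⇑Q (w : ι → F) (bU i) = 0
    rw [QuadraticMap.polar_comm, ← hdl, hw]; rfl)
  let eW : (Fin 4 → F) ≃ₗ[F] W := (LinearEquiv.ofBijective dl ⟨hdli,
    (LinearMap.injective_iff_surjective_of_finrank_eq_finrank (by rw [hdim.2, Module.finrank_pi, Fintype.card_fin])).1 hdli⟩).symm
  have heW : ∀ c i, QuadraticMap.polar ⇑Q (bU i : ι → F) (eW c) = c i := fun c i => by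
    rw [← hdl]
    exact congrFun ((LinearEquiv.ofBijective dl _).apply_symm_apply c) i
  let L : (Fin 4 ⊕ Fin 4 → F) ≃ₗ[F] (ι → F) :=
    ((LinearEquiv.sumArrowLequivProdArrow (Fin 4) (Fin 4) F F).trans (bU.equivFun.symm.prodCongr eW)).trans
      (Submodule.prodEquivOfIsCompl U W hcompl)
  have hL : ∀ v, L v = (bU.equivFun.symm (v ∘ Sum.inl) : ι → F) + (eW (v ∘ Sum.inr) : ι → F) := fun v => rfl
  have hsing : ∀ u, QuadraticMap.polar ⇑Q u u = 0 → Q u = 0 := fun u h => by
    rw [polar_self2] at h; exact (mul_eq_zero.1 h).resolve_left h2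
  have hquad : ∀ v, Q (L v) = qfPlus 4 F v := fun v => by
    rw [hL, QuadraticMap.map_add (⇑Q), hsing _ (tsU _ (bU.equivFun.symm _).2 _ (bU.equivFun.symm _).2),
      hsing _ (tsW _ (eW _).2 _ (eW _).2), zero_add, zero_add, qfPlus_apply, quadFormPlus,
      Module.Basis.equivFun_symm_apply, Submodule.coe_sum]
    rw [← QuadraticMap.polarBilin_apply_apply, map_sum, LinearMap.sum_apply]
    refine Finset.sum_congr rfl fun i _ => ?_
    rw [Submodule.coe_smul, map_smul, LinearMap.smul_apply, QuadraticMap.polarBilin_apply_apply, heW]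
    rfl
  obtain ⟨D, hD⟩ : ∃ D : IsoData (qfPlus 4 F) Q, ∀ v, D.M *ᵥ v = L v :=
    ⟨{ M := LinearMap.toMatrix' L.toLinearMap
       N := LinearMap.toMatrix' L.symm.toLinearMap
       MN := by rw [← LinearMap.toMatrix'_comp, LinearEquiv.comp_coe, LinearEquiv.symm_trans_self]; exact LinearMap.toMatrix'_id
       NM := by rw [← LinearMap.toMatrix'_comp, LinearEquiv.comp_coe, LinearEquiv.self_trans_symm]; exact LinearMap.toMatrix'_id
       quad := fun v => by rw [LinearMap.toMatrix'_mulVec]; exact hquad v },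
      fun v => LinearMap.toMatrix'_mulVec _ _⟩
  set h := D.og.symm g with hhd
  have hh : D.og h = g := D.og.apply_symm_apply g
  have happ : ∀ v, L (ogVal h *ᵥ v) = G *ᵥ L v := fun v => by
    rw [← hD, ← hD]
    show _ = ogVal g *ᵥ _
    rw [← hh]
    exact (D.gl_apply _ v).symm
  have hGc : ∀ P : F[X], aeval G P * G = G * aeval G P := fun P => by
    have := congrArg (aeval G) (mul_comm P X)
    rwa [map_mul, map_mul, aeval_X] at this
  have hGU : ∀ v ∈ U, G *ᵥ v ∈ U := fun v hv => by
    rw [memU, Matrix.mulVec_mulVec, hGc, ← Matrix.mulVec_mulVec, (memU v).1 hv, Matrix.mulVec_zero]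
  have hGW : ∀ v ∈ W, G *ᵥ v ∈ W := fun v hv => by
    rw [memW, Matrix.mulVec_mulVec, hGc, ← Matrix.mulVec_mulVec, (memW v).1 hv, Matrix.mulVec_zero]
  have hl : ∀ y, (ogVal h *ᵥ Sum.elim y 0) ∘ Sum.inr = 0 := fun y => by
    have h1 : L (ogVal h *ᵥ Sum.elim y 0) ∈ U := by
      rw [happ]; refine hGU _ ?_
      rw [hL, Sum.elim_comp_inl, Sum.elim_comp_inr, map_zero, Submodule.coe_zero, add_zero]
      exact (bU.equivFun.symm y).2
    rw [hL] at h1
    have h3 := Submodule.disjoint_def.1 hcompl.disjoint _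
      ((Submodule.add_mem_iff_right U (bU.equivFun.symm _).2).1 h1) (eW _).2
    exact eW.map_eq_zero_iff.1 (Subtype.ext h3)
  have hr' : ∀ y, (ogVal h *ᵥ Sum.elim 0 y) ∘ Sum.inl = 0 := fun y => by
    have h1 : L (ogVal h *ᵥ Sum.elim 0 y) ∈ W := by
      rw [happ]; refine hGW _ ?_
      rw [hL, Sum.elim_comp_inl, Sum.elim_comp_inr, map_zero, Submodule.coe_zero, zero_add]
      exact (eW y).2
    rw [hL] at h1
    have h3 := Submodule.disjoint_def.1 hcompl.disjoint _ (bU.equivFun.symm _).2
      ((Submodule.add_mem_iff_left W (eW _).2).1 h1)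
    exact bU.equivFun.symm.map_eq_zero_iff.1 (Subtype.ext h3)
  set A := (ogVal h).toBlocks₁₁
  set B := (ogVal h).toBlocks₂₂
  have hblk : ogVal h = Matrix.fromBlocks A 0 0 B := by
    rw [← Matrix.fromBlocks_toBlocks (ogVal h)]
    congr 1
    · ext i j
      have := congrFun (hr' (Pi.single j 1)) i
      rw [Function.comp_apply, Sum.elim_zero_single, Matrix.mulVec_single_one] at this
      simpa [Matrix.toBlocks₁₂] using this
    · ext i j
      have := congrFun (hl (Pi.single j 1)) i
      rw [Function.comp_apply, Sum.elim_single_zero, Matrix.mulVec_single_one] at this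
      simpa [Matrix.toBlocks₂₁] using this
  have hAB : Aᵀ * B = 1 := by
    refine Matrix.toBilin'.injective (LinearMap.ext fun u => LinearMap.ext fun v => ?_)
    have h1 := ogVal_quad h (Sum.elim u v)
    rw [hblk, Matrix.fromBlocks_mulVec, qfPlus_apply, qfPlus_apply] at h1
    simp only [quadFormPlus, Sum.elim_inl, Sum.elim_inr, Sum.elim_comp_inl, Sum.elim_comp_inr, Matrix.zero_mulVec,
      add_zero, zero_add] at h1
    rw [Matrix.toBilin'_apply', Matrix.toBilin'_apply', Matrix.one_mulVec, ← Matrix.mulVec_mulVec,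
      Matrix.dotProduct_mulVec, Matrix.vecMul_transpose]
    exact h1
  have hAd : A.det ≠ 0 := fun h0 => by
    have := congrArg Matrix.det hAB
    rw [Matrix.det_mul, Matrix.det_transpose, h0, zero_mul, Matrix.det_one] at this
    exact zero_ne_one this
  set A' := Matrix.GeneralLinearGroup.mkOfDetNeZero A hAd
  have hlev : leviPlus 4 A' = h := ogVal_ext (by
    rw [leviPlus_val, hblk]
    have hB : (A⁻¹)ᵀ = B := by rw [Matrix.transpose_nonsing_inv]; exact Matrix.inv_eq_right_inv hAB
    rw [show ((A' : GL (Fin 4) F) : Matrix (Fin 4) (Fin 4) F) = A from rfl, hB])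
  have hsq : IsSquare A.det := by
    have h1 := spin_og h2 (nondegenerate_qfPlus 4) hQ D h
    rw [hh, hs, ← hlev, spin_leviPlus (genQ_odd (nondegenerate_qfPlus 4) h2)] at h1
    by_contra hns
    rw [show ((A' : GL (Fin 4) F) : Matrix (Fin 4) (Fin 4) F) = A from rfl, sqSign_of_not hns] at h1
    exact absurd h1 (by decide)
  have hfA : aeval A f = 0 := by
    refine Matrix.ext_iff_mulVec.2 fun y => ?_
    have hk : ∀ (k : ℕ) (y : Fin 4 → F), L (Sum.elim (A ^ k *ᵥ y) 0) = G ^ k *ᵥ L (Sum.elim y 0) := by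
      intro k
      induction k with
      | zero => intro y; simp
      | succ k ih =>
        intro y
        rw [pow_succ', pow_succ', ← Matrix.mulVec_mulVec, ← Matrix.mulVec_mulVec, ← ih, ← happ, hblk,
          Matrix.fromBlocks_mulVec]
        simp
    have hP : ∀ (P : F[X]) (y : Fin 4 → F), L (Sum.elim (aeval A P *ᵥ y) 0) = aeval G P *ᵥ L (Sum.elim y 0) := by
      intro P
      induction P using Polynomial.induction_on' with
      | add p q hp hq =>
        intro y
        rw [map_add, map_add, Matrix.add_mulVec, Matrix.add_mulVec, ← hp, ← hq, ← map_add]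
        congr 1
        funext i; rcases i with i | i <;> simp
      | monomial n a =>
        intro y
        rw [aeval_monomial, aeval_monomial, ← Algebra.smul_def, ← Algebra.smul_def, Matrix.smul_mulVec,
          Matrix.smul_mulVec, ← hk, ← map_smul]
        congr 1
        funext i; rcases i with i | i <;> simp
    have hmem : L (Sum.elim y 0) ∈ U := by
      rw [hL, Sum.elim_comp_inl, Sum.elim_comp_inr, map_zero, Submodule.coe_zero, add_zero]
      exact (bU.equivFun.symm y).2
    have h1 := hP f y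
    rw [(memU _).1 hmem, LinearEquiv.map_eq_zero_iff] at h1
    rw [Matrix.zero_mulVec]
    funext i
    exact congrFun h1 (Sum.inl i)
  have hAroots : eigRoots K A = O.val := by
    have hsub : ∀ z ∈ eigRoots K A, z ∈ O := fun z hz => by
      rw [mem_eigRoots_iff] at hz
      have h1 := spectrum.subset_polynomial_aeval (A.map (algebraMap F K)) (f.map (algebraMap F K)) ⟨z, hz, rfl⟩
      have h3 : aeval (A.map (algebraMap F K)) (f.map (algebraMap F K)) = 0 := by
        rw [aeval_map_algebraMap]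
        have h4 : (aeval ((Algebra.ofId F K).mapMatrix A) f) = (Algebra.ofId F K).mapMatrix (aeval A f) :=
          aeval_algHom_apply _ _ _
        rw [hfA, map_zero] at h4
        exact h4
      rw [h3, spectrum.zero_eq, Set.mem_singleton_iff] at h1
      change eval z (f.map (algebraMap F K)) = 0 at h1
      rw [eval_map, ← aeval_def] at h1
      exact (hfroot z).1 h1
    have hle : eigRoots K A ≤ eigRoots K G := by
      have hc : G.charpoly = (ogVal h).charpoly := by
        have e : Matrix.toLin' G = L.conj (Matrix.toLin' (ogVal h)) := LinearMap.ext fun v => by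
          obtain ⟨v, rfl⟩ := L.surjective v
          rw [LinearEquiv.conj_apply_apply, LinearEquiv.symm_apply_apply, Matrix.toLin'_apply, Matrix.toLin'_apply,
            happ]
        have e1 := congrArg LinearMap.charpoly e
        rw [LinearEquiv.charpoly_conj, ← Matrix.toLin_eq_toLin', Matrix.charpoly_toLin, ← Matrix.toLin_eq_toLin',
          Matrix.charpoly_toLin] at e1
        exact e1
      rw [hblk, Matrix.charpoly_fromBlocks_zero₁₂] at hc
      show (A.map (algebraMap F K)).charpoly.roots ≤ (G.map (algebraMap F K)).charpoly.roots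
      refine roots.le_of_dvd (Matrix.charpoly_monic _).ne_zero ?_
      rw [Matrix.charpoly_map, Matrix.charpoly_map, hc, Polynomial.map_mul]
      exact dvd_mul_right _ _
    refine Multiset.eq_of_le_of_card_le ((Multiset.le_iff_subset (Multiset.nodup_of_le hle hnd)).2 hsub) ?_
    rw [← Finset.card_def, hO4, card_eigRoots, Fintype.card_fin]
  have hI : Set.InjOn (fun i => x ^ q ^ i) (Finset.range 4 : Set ℕ) :=
    Finset.injOn_of_card_image_eq (by rw [← hO, hO4, Finset.card_range])
  have hdet : algebraMap F K A.det = x ^ ∑ i ∈ Finset.range 4, q ^ i := by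
    rw [PrimeGraphBC.det_eq_prod_eigRoots, hAroots, ← Multiset.map_id O.val, ← Finset.prod_eq_multiset_prod, hO,
      Finset.prod_image hI, ← Finset.prod_pow_eq_pow_sum]
    rfl
  rw [FiniteField.isSquare_iff (fun e => h2 (by haveI := ringChar.of_eq e; exact CharTwo.two_eq_zero)) hAd] at hsq
  have h4 := congrArg (algebraMap F K) hsq
  rw [map_pow, hdet, map_one, ← pow_mul, ← hq] at h4
  obtain ⟨m, hm⟩ : Odd q := Nat.odd_iff.2 (FiniteField.odd_card_of_char_ne_two fun e => h2 (by
    haveI := ringChar.of_eq e; exact CharTwo.two_eq_zero))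
  have hexp : (∑ i ∈ Finset.range 4, q ^ i) * (q / 2) = (q ^ 4 - 1) / 2 := by
    rw [show q / 2 = m by omega]
    have hgeom : (∑ i ∈ Finset.range 4, q ^ i) * m * 2 + 1 = q ^ 4 := by
      rw [hm]; simp only [Finset.sum_range_succ, Finset.sum_range_zero]; ring
    omega
  rw [hexp] at h4
  intro y hy
  rw [hR, Multiset.mem_add] at hy
  have hO' : ∀ z ∈ O, z ^ ((q ^ 4 - 1) / 2) = 1 := by
    rw [hO]
    intro z hz
    obtain ⟨i, -, rfl⟩ := Finset.mem_image.1 hz
    rw [← pow_mul, mul_comm, pow_mul, h4, one_pow]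
  rcases hy with hy | hy
  · exact hO' y hy
  · obtain ⟨z, hz, rfl⟩ := Finset.mem_image.1 hy
    rw [inv_pow, hO' z hz, inv_one]

end Cfsg.Agent.Classical.Spectra
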