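import Cfsg.Agent.Lib.Classical.SpectraSemi

/-!
The eigenvalues of an isometry without eigenvalue `±1` in dimension at most eight.
-/

set_option autoImplicit false
set_option linter.unusedSectionVars false
set_option quotPrecheck false

namespace Cfsg.Agent.Classical.Spectra

open Matrix Polynomial

variable {F : Type*} [Field F] [Fintype F]
variable {K : Type*} [Field K] [Algebra F K]

/-- The exponent of a class: `q ^ e - 1` for a pair of orbits, `q ^ e + 1` for one. -/
def cExp (q e : ℕ) (sf : Bool) : ℕ := if sf then q ^ e + 1 else q ^ e - 1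

/-- Multisets stable under Frobenius and inversion, without `0, 1, -1`. -/
structure Stable (F : Type*) [Field F] [Fintype F] {K : Type*} [Field K] [Algebra F K] [DecidableEq K]
    (R : Multiset K) : Prop where
  frob : ∀ x, R.count (x ^ Fintype.card F) = R.count x
  inv : ∀ x, R.count x⁻¹ = R.count x
  ne : ∀ x ∈ R, x ≠ 0 ∧ x ≠ 1 ∧ x ≠ -1

/-- A class of eigenvalues. -/
structure Cls [DecidableEq K] (R : Multiset K) (e : ℕ) (sf : Bool) (C : Finset K) (m : ℕ) : Prop where
  pos : 1 ≤ e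
  card : C.card = 2 * e
  mpos : 1 ≤ m
  count : ∀ y ∈ C, R.count y = m
  frob : ∀ y, y ∈ C ↔ y ^ Fintype.card F ∈ C
  inv : ∀ y ∈ C, y⁻¹ ∈ C
  exp : ∀ y ∈ C, y ^ cExp (Fintype.card F) e sf = 1

theorem pow_pow_add (x : K) (q i j : ℕ) : x ^ q ^ (i + j) = (x ^ q ^ i) ^ q ^ j := by
  rw [pow_add, pow_mul]

theorem card_pow_injective (i : ℕ) : Function.Injective fun x : K => x ^ Fintype.card F ^ i := by
  induction i with
  | zero => intro x y h; simpa using h
  | succ i ih =>
    intro x y h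
    refine ih ((FiniteField.frobeniusAlgHom F K).toRingHom.injective ?_)
    simpa [pow_succ, pow_mul] using h

variable [DecidableEq K] {R : Multiset K}

theorem exists_cls (hR : Stable F R) {x : K} (hx : x ∈ R) :
    ∃ (e : ℕ) (sf : Bool) (C : Finset K),
      x ∈ C ∧ Cls (F := F) R e sf C (R.count x) ∧ (sf = true → ∃ x₀ : K, x₀ = x ∧
        C = (Finset.range (2 * e)).image fun i => x₀ ^ Fintype.card F ^ i) ∧
      (sf = false → Disjoint ((Finset.range e).image fun i => x ^ Fintype.card F ^ i)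
          ((Finset.range e).image fun i => (x ^ Fintype.card F ^ i)⁻¹) ∧
        C = ((Finset.range e).image fun i => x ^ Fintype.card F ^ i) ∪
          ((Finset.range e).image fun i => (x ^ Fintype.card F ^ i)⁻¹) ∧
        ((Finset.range e).image fun i => x ^ Fintype.card F ^ i).card = e ∧
        x ^ Fintype.card F ^ e = x) := by
  classical
  set q := Fintype.card F with hq
  obtain ⟨hx0, hx1, hxm⟩ := hR.ne x hx
  have hinj := card_pow_injective (F := F) (K := K)
  have hcnt : ∀ i, R.count (x ^ q ^ i) = R.count x := fun i => by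
    induction i with
    | zero => simp
    | succ i ih => rw [pow_succ, pow_mul, hR.frob, ih]
  have hmem : ∀ i, x ^ q ^ i ∈ R := fun i => by
    rw [← Multiset.count_pos, hcnt]; exact Multiset.count_pos.2 hx
  have hex : ∃ k, 1 ≤ k ∧ x ^ q ^ k = x := by
    obtain ⟨i, hi, j, hj, hne, he⟩ := Finset.exists_ne_map_eq_of_card_lt_of_maps_to
      (s := Finset.range (R.toFinset.card + 1)) (t := R.toFinset) (f := fun i => x ^ q ^ i)
      (by simp) (fun i _ => Multiset.mem_toFinset.2 (hmem i))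
    rcases Nat.lt_or_gt_of_ne hne with h | h
    · exact ⟨j - i, by omega, hinj i (by
        show (x ^ q ^ (j - i)) ^ q ^ i = x ^ q ^ i
        rw [← pow_pow_add, Nat.sub_add_cancel h.le]; exact he.symm)⟩
    · exact ⟨i - j, by omega, hinj j (by
        show (x ^ q ^ (i - j)) ^ q ^ j = x ^ q ^ j
        rw [← pow_pow_add, Nat.sub_add_cancel h.le]; exact he)⟩
  set k := Nat.find hex
  obtain ⟨hk1, hk⟩ := Nat.find_spec hex
  have hmin : ∀ i, 1 ≤ i → i < k → x ^ q ^ i ≠ x := fun i hi hik h => Nat.find_min hex hik ⟨hi, h⟩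
  have hper : ∀ n i, x ^ q ^ (i + n * k) = x ^ q ^ i := by
    intro n
    induction n with
    | zero => intro i; simp
    | succ n ih =>
      intro i
      rw [Nat.succ_mul, ← Nat.add_assoc, add_comm (i + n * k) k, pow_pow_add, hk, ih]
  have hmod : ∀ i, x ^ q ^ i = x ^ q ^ (i % k) := fun i => by
    conv_lhs => rw [← Nat.mod_add_div i k, mul_comm k (i / k), hper]
  have hI : Set.InjOn (fun i => x ^ q ^ i) (Finset.range k : Set ℕ) := by
    intro i hi j hj h
    simp only [Finset.coe_range, Set.mem_Iio] at hi hj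
    by_contra hne
    rcases Nat.lt_or_gt_of_ne hne with hl | hl
    · refine hmin (j - i) (by omega) (by omega) (hinj i ?_)
      show (x ^ q ^ (j - i)) ^ q ^ i = x ^ q ^ i
      rw [← pow_pow_add, Nat.sub_add_cancel hl.le]; exact h.symm
    · refine hmin (i - j) (by omega) (by omega) (hinj j ?_)
      show (x ^ q ^ (i - j)) ^ q ^ j = x ^ q ^ j
      rw [← pow_pow_add, Nat.sub_add_cancel hl.le]; exact h
  set O := (Finset.range k).image fun i => x ^ q ^ i with hO
  have hOc : O.card = k := by rw [hO, Finset.card_image_of_injOn hI, Finset.card_range]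
  have hOm : ∀ i, x ^ q ^ i ∈ O := fun i =>
    Finset.mem_image.2 ⟨i % k, Finset.mem_range.2 (Nat.mod_lt _ hk1), (hmod i).symm⟩
  have hOf : ∀ y, y ∈ O ↔ y ^ q ∈ O := fun y => by
    refine ⟨fun h => ?_, fun h => ?_⟩
    · obtain ⟨i, -, rfl⟩ := Finset.mem_image.1 h
      rw [← pow_mul, ← pow_succ]; exact hOm _
    · obtain ⟨i, -, hi⟩ := Finset.mem_image.1 h
      have h2 : (x ^ q ^ (i + (k - 1))) ^ q = x ^ q ^ i := by
        rw [← pow_mul, ← pow_succ, show i + (k - 1) + 1 = i + 1 * k by omega, hper]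
      rw [← (show x ^ q ^ (i + (k - 1)) = y from hinj 1 (by simpa using h2.trans hi))]
      exact hOm _
  have hm1 : 1 ≤ R.count x := Multiset.count_pos.2 hx
  by_cases hself : ∃ i, i < k ∧ x ^ q ^ i = x⁻¹
  · obtain ⟨i, hik, hi⟩ := hself
    have hi0 : 1 ≤ i := by
      rcases Nat.eq_zero_or_pos i with h | h
      · rw [h, pow_zero, pow_one] at hi
        have h2 : (x - 1) * (x + 1) = 0 := by
          have h3 : x * x = 1 := by nth_rewrite 2 [hi]; exact mul_inv_cancel₀ hx0
          linear_combination h3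
        rcases mul_eq_zero.1 h2 with h3 | h3
        · exact absurd (sub_eq_zero.1 h3) hx1
        · exact absurd (eq_neg_of_add_eq_zero_left h3) hxm
      · exact h
    have h2i : x ^ q ^ (i + i) = x := by rw [pow_pow_add, hi, inv_pow, hi, inv_inv]
    have hk2 : k = 2 * i := by
      rcases Nat.lt_or_ge (i + i) k with h | h
      · exact absurd h2i (hmin _ (by omega) h)
      · rcases eq_or_lt_of_le h with h | h
        · omega
        · exfalso
          refine hmin (i + i - k) (by omega) (by omega) ?_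
          have h4 := hper 1 (i + i - k)
          rw [one_mul, Nat.sub_add_cancel (by omega), h2i] at h4
          exact h4.symm
    have hinvy : ∀ j, x ^ q ^ (j + i) = (x ^ q ^ j)⁻¹ := fun j => by
      rw [add_comm, pow_pow_add, hi, inv_pow]
    refine ⟨i, true, O, by simpa using hOm 0, ⟨hi0, by rw [hOc, hk2], hm1, ?_, hOf, ?_, ?_⟩,
      fun _ => ⟨x, rfl, by rw [hO, hk2]⟩, fun h => by simp at h⟩
    · intro y hy; obtain ⟨j, -, rfl⟩ := Finset.mem_image.1 hy; exact hcnt j
    · intro y hy; obtain ⟨j, -, rfl⟩ := Finset.mem_image.1 hy; rw [← hinvy]; exact hOm _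
    · intro y hy
      obtain ⟨j, -, rfl⟩ := Finset.mem_image.1 hy
      rw [cExp, if_pos rfl, pow_succ, ← pow_pow_add, hinvy]
      exact inv_mul_cancel₀ (pow_ne_zero _ hx0)
  · push Not at hself
    set O' := (Finset.range k).image fun i => (x ^ q ^ i)⁻¹ with hO'
    have hdis : Disjoint O O' := by
      rw [Finset.disjoint_left]
      intro y hy hy'
      obtain ⟨i, -, hi⟩ := Finset.mem_image.1 hy
      obtain ⟨j, -, hj⟩ := Finset.mem_image.1 hy'
      -- move the exponent of the inverse to zero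
      have hle : j ≤ j * k := Nat.le_mul_of_pos_right j hk1
      refine hself ((i + (j * k - j)) % k) (Nat.mod_lt _ hk1) ?_
      rw [← hmod, pow_pow_add, hi, ← hj, inv_pow, ← pow_pow_add, Nat.add_sub_cancel' hle]
      have := hper j 0
      rw [zero_add, pow_zero, pow_one] at this
      rw [this]
    refine ⟨k, false, O ∪ O', Finset.mem_union_left _ (by simpa using hOm 0),
      ⟨hk1, ?_, hm1, ?_, ?_, ?_, ?_⟩, fun h => by simp at h,
      fun _ => ⟨hdis, rfl, hOc, hk⟩⟩
    · rw [Finset.card_union_of_disjoint hdis, hOc, hO',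
        Finset.card_image_of_injOn (fun i hi j hj h => hI hi hj (inv_injective h)), Finset.card_range, two_mul]
    · intro y hy
      rcases Finset.mem_union.1 hy with h | h <;> obtain ⟨j, -, rfl⟩ := Finset.mem_image.1 h
      · exact hcnt j
      · rw [hR.inv]; exact hcnt j
    · intro y
      have hmemO' : ∀ z, z ∈ O' ↔ z⁻¹ ∈ O := fun z => by
        constructor
        · intro h; obtain ⟨j, hj, rfl⟩ := Finset.mem_image.1 h; rw [inv_inv]; exact hOm j
        · intro h
          obtain ⟨j, hj, hjz⟩ := Finset.mem_image.1 h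
          exact Finset.mem_image.2 ⟨j, hj, by rw [hjz, inv_inv]⟩
      rw [Finset.mem_union, Finset.mem_union, hmemO', hmemO', ← inv_pow, hOf y, hOf y⁻¹]
    · intro y hy
      rcases Finset.mem_union.1 hy with h | h <;> obtain ⟨j, hj, rfl⟩ := Finset.mem_image.1 h
      · exact Finset.mem_union_right _ (Finset.mem_image.2 ⟨j, hj, rfl⟩)
      · rw [inv_inv]; exact Finset.mem_union_left _ (hOm j)
    · have h1 : x ^ (q ^ k - 1) = 1 := mul_right_cancel₀ hx0 (by
        rw [← pow_succ, Nat.sub_add_cancel (Nat.one_le_pow _ _ Fintype.card_pos), hk, one_mul])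
      intro y hy
      rw [cExp, if_neg (by simp)]
      rcases Finset.mem_union.1 hy with h | h <;> obtain ⟨j, -, rfl⟩ := Finset.mem_image.1 h
      · rw [← pow_mul, mul_comm, pow_mul, h1, one_pow]
      · rw [inv_pow, ← pow_mul, mul_comm, pow_mul, h1, one_pow, inv_one]

namespace Cls

variable {e e' : ℕ} {s s' : Bool} {C C' : Finset K} {m m' : ℕ}

theorem sum_count (h : Cls (F := F) R e s C m) : ∑ y ∈ C, R.count y = 2 * e * m := by
  rw [Finset.sum_congr rfl h.count, Finset.sum_const, h.card, smul_eq_mul]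

theorem le_card (h : Cls (F := F) R e s C m) : 2 * e * m ≤ Multiset.card R := by
  rw [← h.sum_count, ← Multiset.toFinset_sum_count_eq R]
  refine Finset.sum_le_sum_of_subset fun y hy => Multiset.mem_toFinset.2 (Multiset.count_pos.1 ?_)
  rw [h.count y hy]; exact h.mpos

theorem add_le_card (h : Cls (F := F) R e s C m) (h' : Cls (F := F) R e' s' C' m') (hd : Disjoint C C') :
    2 * e * m + 2 * e' * m' ≤ Multiset.card R := by
  rw [← h.sum_count, ← h'.sum_count, ← Finset.sum_union hd, ← Multiset.toFinset_sum_count_eq R]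
  refine Finset.sum_le_sum_of_subset fun y hy => Multiset.mem_toFinset.2 (Multiset.count_pos.1 ?_)
  rcases Finset.mem_union.1 hy with hy | hy
  · rw [h.count y hy]; exact h.mpos
  · rw [h'.count y hy]; exact h'.mpos

theorem add_add_le_card {e'' : ℕ} {s'' : Bool} {C'' : Finset K} {m'' : ℕ} (h : Cls (F := F) R e s C m)
    (h' : Cls (F := F) R e' s' C' m') (h'' : Cls (F := F) R e'' s'' C'' m'') (hd : Disjoint C C')
    (hd' : Disjoint (C ∪ C') C'') : 2 * e * m + 2 * e' * m' + 2 * e'' * m'' ≤ Multiset.card R := by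
  rw [← h.sum_count, ← h'.sum_count, ← h''.sum_count, ← Finset.sum_union hd, ← Finset.sum_union hd',
    ← Multiset.toFinset_sum_count_eq R]
  refine Finset.sum_le_sum_of_subset fun y hy => Multiset.mem_toFinset.2 (Multiset.count_pos.1 ?_)
  rcases Finset.mem_union.1 hy with hy | hy
  · rcases Finset.mem_union.1 hy with hy | hy
    · rw [h.count y hy]; exact h.mpos
    · rw [h'.count y hy]; exact h'.mpos
  · rw [h''.count y hy]; exact h''.mpos

/-- The class of a point outside a class is disjoint from it. -/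
theorem disjoint_of_not_mem (h : Cls (F := F) R e s C m) {y : K} (hy : y ∉ C)
    (h' : Cls (F := F) R e' s' C' m') (hC' : ∀ z ∈ C', ∃ i, z = y ^ Fintype.card F ^ i ∨ z = (y ^ Fintype.card F ^ i)⁻¹) :
    Disjoint C C' := by
  have key : ∀ i, y ^ Fintype.card F ^ i ∉ C := fun i => by
    induction i with
    | zero => simpa using hy
    | succ i ih => rw [pow_succ, pow_mul]; exact fun h1 => ih ((h.frob _).2 h1)
  rw [Finset.disjoint_right]
  intro z hz hzC
  obtain ⟨i, rfl | rfl⟩ := hC' z hz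
  · exact key i hzC
  · exact key i (by simpa using h.inv _ hzC)

end Cls

/-- A class with a point through which it is described. -/
theorem exists_cls' (hR : Stable F R) {x : K} (hx : x ∈ R) :
    ∃ (e : ℕ) (sf : Bool) (C : Finset K), x ∈ C ∧ Cls (F := F) R e sf C (R.count x) ∧
      ∀ z ∈ C, ∃ i, z = x ^ Fintype.card F ^ i ∨ z = (x ^ Fintype.card F ^ i)⁻¹ := by
  obtain ⟨e, s, C, hxC, hC, ht, hf⟩ := exists_cls hR hx
  refine ⟨e, s, C, hxC, hC, fun z hz => ?_⟩
  cases s
  · obtain ⟨-, hCe, -⟩ := hf rfl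
    rw [hCe, Finset.mem_union, Finset.mem_image, Finset.mem_image] at hz
    rcases hz with ⟨i, -, rfl⟩ | ⟨i, -, rfl⟩
    exacts [⟨i, Or.inl rfl⟩, ⟨i, Or.inr rfl⟩]
  · obtain ⟨x₀, rfl, hCe⟩ := ht rfl
    rw [hCe, Finset.mem_image] at hz
    obtain ⟨i, -, rfl⟩ := hz
    exact ⟨i, Or.inl rfl⟩

theorem cExp_dvd_two {q e : ℕ} (hq : 1 ≤ q) {s : Bool} (he : e = 1 ∨ (e = 2 ∧ s = false)) :
    cExp q e s ∣ q ^ 2 - 1 := by
  have h : q ^ 2 - 1 = (q + 1) * (q - 1) := by simpa using Nat.sq_sub_sq q 1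
  rcases he with rfl | ⟨rfl, rfl⟩
  · cases s <;> simp [cExp, h]
  · simp [cExp]

/-- Small dimension or a repeated root of high multiplicity. -/
theorem roots_two (hR : Stable F R) (hb : Multiset.card R ≤ 8)
    (h : Multiset.card R ≤ 2 ∨ ∃ x ∈ R, 4 ≤ R.count x) :
    ∃ M, (M = Fintype.card F - 1 ∨ M = Fintype.card F + 1) ∧ ∀ x ∈ R, x ^ M = 1 := by
  classical
  rcases Multiset.empty_or_exists_mem R with hne | ⟨x₀, hx₀⟩
  · exact ⟨_, Or.inl rfl, fun x hx => absurd hx (by rw [hne]; simp)⟩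
  obtain ⟨x, hx, hm⟩ : ∃ x ∈ R, Multiset.card R ≤ 2 ∨ 4 ≤ R.count x := by
    rcases h with h | ⟨x, hx, hm⟩
    exacts [⟨x₀, hx₀, Or.inl h⟩, ⟨x, hx, Or.inr hm⟩]
  obtain ⟨e, s, C, hxC, hC, -⟩ := exists_cls' hR hx
  have h1 := hC.le_card
  have h2 := hC.pos
  have h3 := hC.mpos
  have hem : Multiset.card R ≤ 2 * e * R.count x ∧ e = 1 := by
    rcases hm with hm | hm
    · have : e * 1 ≤ e * R.count x := Nat.mul_le_mul_left _ h3
      have : 1 * R.count x ≤ e * R.count x := Nat.mul_le_mul_right _ h2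
      rw [mul_assoc] at h1 ⊢
      omega
    · have : e * 4 ≤ e * R.count x := Nat.mul_le_mul_left _ hm
      rw [mul_assoc] at h1 ⊢
      omega
  refine ⟨cExp (Fintype.card F) e s, ?_, fun y hy => hC.exp y ?_⟩
  · cases s <;> simp [cExp, hem.2]
  · by_contra hyC
    obtain ⟨e', s', C', -, hC', hd⟩ := exists_cls' hR hy
    have h4 := hC.add_le_card hC' (hC.disjoint_of_not_mem hyC hC' hd)
    have : 1 ≤ e' * R.count y := Nat.one_le_iff_ne_zero.2 (by
      have := hC'.pos; have := hC'.mpos; positivity)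
    rw [mul_assoc 2 e'] at h4
    omega

/-- A repeated root, or dimension at most four. -/
theorem roots_one (hR : Stable F R) (hb : Multiset.card R ≤ 8)
    (h : Multiset.card R ≤ 4 ∨ ∃ x ∈ R, 2 ≤ R.count x) :
    ∃ M, (M = Fintype.card F ^ 2 - 1 ∨ M = Nat.lcm (Fintype.card F ^ 2 + 1) (Fintype.card F - 1) ∨
      M = Nat.lcm (Fintype.card F ^ 2 + 1) (Fintype.card F + 1)) ∧ ∀ x ∈ R, x ^ M = 1 := by
  classical
  set q := Fintype.card F
  by_cases hbig : ∃ (x : K) (C : Finset K), x ∈ R ∧ x ∈ C ∧ Cls (F := F) R 2 true C (R.count x)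
  · obtain ⟨x, C, hx, hxC, hC⟩ := hbig
    have h1 := hC.le_card
    have h3 := hC.mpos
    by_cases hout : ∀ y ∈ R, y ∈ C
    · refine ⟨_, Or.inr (Or.inl rfl), fun y hy => orderOf_dvd_iff_pow_eq_one.1 ?_⟩
      exact (orderOf_dvd_of_pow_eq_one (hC.exp y (hout y hy))).trans (by simp [cExp, q, Nat.dvd_lcm_left])
    push Not at hout
    obtain ⟨y₀, hy₀, hy₀C⟩ := hout
    obtain ⟨e₀, s₀, C₀, hy₀C₀, hC₀, hd₀⟩ := exists_cls' hR hy₀
    have hdis₀ := hC.disjoint_of_not_mem hy₀C hC₀ hd₀
    have h4 := hC.add_le_card hC₀ hdis₀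
    have hpos₀ : 1 ≤ e₀ * R.count y₀ := Nat.one_le_iff_ne_zero.2 (by
      have := hC₀.pos; have := hC₀.mpos; positivity)
    rw [mul_assoc 2 e₀] at h4
    -- a repeated root lies outside the first class
    obtain ⟨z, hz, hzm⟩ : ∃ z ∈ R, 2 ≤ R.count z := h.resolve_left (by omega)
    obtain ⟨e₁, s₁, C₁, hzC₁, hC₁, hd₁⟩ := exists_cls' hR hz
    have hzC : z ∉ C := fun hzC => by have := hC.count z hzC; omega
    have hdis₁ := hC.disjoint_of_not_mem hzC hC₁ hd₁
    have h5 := hC.add_le_card hC₁ hdis₁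
    rw [mul_assoc 2 e₁] at h5
    have h6 : e₁ * 2 ≤ e₁ * R.count z := Nat.mul_le_mul_left _ hzm
    have he₁ : e₁ = 1 := by have := hC₁.pos; omega
    refine ⟨Nat.lcm (q ^ 2 + 1) (cExp q e₁ s₁), ?_, fun y hy => ?_⟩
    · cases s₁ <;> simp [cExp, he₁]
    · by_cases hyC : y ∈ C
      · exact orderOf_dvd_iff_pow_eq_one.1 ((orderOf_dvd_of_pow_eq_one (hC.exp y hyC)).trans
          (by simp [cExp, q, Nat.dvd_lcm_left]))
      by_cases hyC₁ : y ∈ C₁
      · exact orderOf_dvd_iff_pow_eq_one.1 ((orderOf_dvd_of_pow_eq_one (hC₁.exp y hyC₁)).trans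
          (Nat.dvd_lcm_right _ _))
      exfalso
      obtain ⟨e₂, s₂, C₂, -, hC₂, hd₂⟩ := exists_cls' hR hy
      have h7 := hC.add_add_le_card hC₁ hC₂ hdis₁ (Finset.disjoint_union_left.2
        ⟨hC.disjoint_of_not_mem hyC hC₂ hd₂, hC₁.disjoint_of_not_mem hyC₁ hC₂ hd₂⟩)
      have : 1 ≤ e₂ * R.count y := Nat.one_le_iff_ne_zero.2 (by
        have := hC₂.pos; have := hC₂.mpos; positivity)
      rw [mul_assoc 2 e₁, mul_assoc 2 e₂] at h7
      omega
  · refine ⟨_, Or.inl rfl, fun y hy => ?_⟩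
    obtain ⟨e, s, C, hyC, hC, hd⟩ := exists_cls' hR hy
    have h1 := hC.le_card
    have he1 := hC.pos
    have hm1 : e * 1 ≤ e * R.count y := Nat.mul_le_mul_left _ hC.mpos
    rw [mul_assoc] at h1
    have he : e ≤ 2 := by
      rcases h with h | ⟨z, hz, hzm⟩
      · omega
      · by_cases hzC : z ∈ C
        · have := hC.count z hzC
          have : e * 2 ≤ e * R.count y := Nat.mul_le_mul_left _ (by omega)
          omega
        · obtain ⟨e₁, s₁, C₁, -, hC₁, hd₁⟩ := exists_cls' hR hz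
          have h4 := hC.add_le_card hC₁ (hC.disjoint_of_not_mem hzC hC₁ hd₁)
          have : e₁ * 2 ≤ e₁ * R.count z := Nat.mul_le_mul_left _ hzm
          have := hC₁.pos
          rw [mul_assoc 2 e, mul_assoc 2 e₁] at h4
          omega
    refine orderOf_dvd_iff_pow_eq_one.1 ((orderOf_dvd_of_pow_eq_one (hC.exp y hyC)).trans (cExp_dvd_two Fintype.card_pos ?_))
    rcases (by omega : e = 1 ∨ e = 2) with rfl | rfl
    · exact Or.inl rfl
    · refine Or.inr ⟨rfl, ?_⟩
      cases s
      · rfl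
      · exact absurd ⟨y, C, hy, hyC, hC⟩ hbig

/-- The general case. -/
theorem roots_zero (hR : Stable F R) (hb : Multiset.card R ≤ 8) :
    (∃ M, (M = Nat.lcm (Fintype.card F ^ 2 + 1) (Fintype.card F ^ 2 - 1) ∨
        M = Nat.lcm (Fintype.card F ^ 3 - 1) (Fintype.card F + 1) ∨
        M = Nat.lcm (Fintype.card F ^ 3 + 1) (Fintype.card F - 1)) ∧ ∀ x ∈ R, x ^ M = 1) ∨
    ∃ x, ∃ (s : Bool) (C : Finset K), x ∈ R ∧ Cls (F := F) R 4 s C 1 ∧ C.val = R ∧
      (s = true → C = (Finset.range 8).image fun i => x ^ Fintype.card F ^ i) ∧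
      (s = false → Disjoint ((Finset.range 4).image fun i => x ^ Fintype.card F ^ i)
          ((Finset.range 4).image fun i => (x ^ Fintype.card F ^ i)⁻¹) ∧
        C = ((Finset.range 4).image fun i => x ^ Fintype.card F ^ i) ∪
          ((Finset.range 4).image fun i => (x ^ Fintype.card F ^ i)⁻¹) ∧
        ((Finset.range 4).image fun i => x ^ Fintype.card F ^ i).card = 4 ∧
        x ^ Fintype.card F ^ 4 = x) := by
  classical
  set q := Fintype.card F
  by_cases h4 : ∃ (x : K) (e : ℕ) (s : Bool) (C : Finset K), x ∈ R ∧ 4 ≤ e ∧ x ∈ C ∧ Cls (F := F) R e s C (R.count x) ∧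
      (s = true → ∃ x₀ : K, x₀ = x ∧ C = (Finset.range (2 * e)).image fun i => x₀ ^ q ^ i) ∧
      (s = false → Disjoint ((Finset.range e).image fun i => x ^ q ^ i)
          ((Finset.range e).image fun i => (x ^ q ^ i)⁻¹) ∧
        C = ((Finset.range e).image fun i => x ^ q ^ i) ∪ ((Finset.range e).image fun i => (x ^ q ^ i)⁻¹) ∧
        ((Finset.range e).image fun i => x ^ q ^ i).card = e ∧ x ^ q ^ e = x)
  · right
    obtain ⟨x, e, s, C, hx, he, hxC, hC, ht, hf⟩ := h4
    have h1 := hC.le_card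
    have : e * 1 ≤ e * R.count x := Nat.mul_le_mul_left _ hC.mpos
    rw [mul_assoc] at h1
    obtain rfl : e = 4 := by omega
    have hm : R.count x = 1 := by have := hC.mpos; omega
    rw [hm] at hC
    have hle : C.val ≤ R := (Multiset.le_iff_subset C.nodup).2 fun y hy => Multiset.count_pos.1 (by
      rw [hC.count y hy]; exact one_pos)
    refine ⟨x, s, C, hx, hC, Multiset.eq_of_le_of_card_le hle ?_, fun h => ?_, hf⟩
    · rw [← Finset.card_def, hC.card]; omega
    · obtain ⟨x₀, rfl, h'⟩ := ht h; exact h'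
  left
  push Not at h4
  by_cases h3 : ∃ (x : K) (s : Bool) (C : Finset K), x ∈ R ∧ Cls (F := F) R 3 s C (R.count x)
  · obtain ⟨x, s, C, hx, hC⟩ := h3
    have hm := hC.mpos
    refine ⟨if s then Nat.lcm (q ^ 3 + 1) (q - 1) else Nat.lcm (q ^ 3 - 1) (q + 1),
      by cases s <;> simp, fun y hy => orderOf_dvd_iff_pow_eq_one.1 ?_⟩
    by_cases hyC : y ∈ C
    · refine (orderOf_dvd_of_pow_eq_one (hC.exp y hyC)).trans ?_
      cases s <;> simp [cExp, q, Nat.dvd_lcm_left]
    · obtain ⟨e', s', C', hyC', hC', hd⟩ := exists_cls' hR hy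
      have h5 := hC.add_le_card hC' (hC.disjoint_of_not_mem hyC hC' hd)
      have : e' * 1 ≤ e' * R.count y := Nat.mul_le_mul_left _ hC'.mpos
      have := hC'.pos
      rw [mul_assoc 2 e'] at h5
      obtain rfl : e' = 1 := by omega
      refine (orderOf_dvd_of_pow_eq_one (hC'.exp y hyC')).trans ?_
      have hA : q + 1 ∣ q ^ 3 + 1 := by simpa using (show Odd 3 by decide).nat_add_dvd_pow_add_pow q 1
      have hB : q - 1 ∣ q ^ 3 - 1 := by simpa using Nat.sub_dvd_pow_sub_pow q 1 3
      cases s <;> cases s' <;> simp only [cExp, pow_one, if_true, Bool.false_eq_true, if_false]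
      · exact hB.trans (Nat.dvd_lcm_left _ _)
      · exact Nat.dvd_lcm_right _ _
      · exact Nat.dvd_lcm_right _ _
      · exact hA.trans (Nat.dvd_lcm_left _ _)
  refine ⟨_, Or.inl rfl, fun y hy => orderOf_dvd_iff_pow_eq_one.1 ?_⟩
  obtain ⟨e, s, C, hyC, hC, ht, hf⟩ := exists_cls hR hy
  have he1 := hC.pos
  have he : e ≤ 2 := by
    by_contra hne
    push Not at hne
    rcases (by omega : e = 3 ∨ 4 ≤ e) with rfl | he4
    · exact h3 ⟨y, s, C, hy, hC⟩
    · cases s
      · obtain ⟨a1, a2, a3, a4⟩ := hf rfl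
        exact (h4 y e false C hy he4 hyC hC (fun h => by simp at h)).2 a1 a2 a3 a4
      · obtain ⟨x₀, rfl, hCe⟩ := ht rfl
        exact absurd hCe (by
          intro h'
          have := h4 x₀ e true C hy he4 hyC hC (fun _ => ⟨x₀, rfl, h'⟩)
          simp at this)
  refine (orderOf_dvd_of_pow_eq_one (hC.exp y hyC)).trans ?_
  rcases (by omega : e = 1 ∨ e = 2) with rfl | rfl
  · exact (cExp_dvd_two Fintype.card_pos (Or.inl rfl)).trans (Nat.dvd_lcm_right _ _)
  · cases s
    · exact (cExp_dvd_two Fintype.card_pos (Or.inr ⟨rfl, rfl⟩)).trans (Nat.dvd_lcm_right _ _)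
    · simp [cExp, q, Nat.dvd_lcm_left]

end Cfsg.Agent.Classical.Spectra
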