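import Cfsg.Agent.Lib.Classical.SpectraForms
import Cfsg.Agent.Lib.Classical.PrimeGraphBC

/-!
Orders in a split extension of a module, and regular unipotent isometries in odd dimension.
-/

set_option autoImplicit false
set_option linter.unusedSectionVars false
set_option quotPrecheck false

namespace Cfsg.Agent.Classical.Spectra

open Matrix Module Cfsg Cfsg.Agent.Classical.OrthAut

variable {F : Type*} [Field F]

/-! ### Split extensions -/

section Semi

variable {ι : Type} [Fintype ι] [DecidableEq ι] {H : Type*} [Group H] (ρ : H →* Matrix ι ι F)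
  (φ : H →* MulAut (Multiplicative (ι → F)))
  (hφ : ∀ h v, φ h (Multiplicative.ofAdd v) = Multiplicative.ofAdd (ρ h *ᵥ v))
include hφ

theorem pow_parts (v : ι → F) (h : H) :
    ∀ n : ℕ, ((⟨Multiplicative.ofAdd v, h⟩ : Multiplicative (ι → F) ⋊[φ] H) ^ n).right = h ^ n ∧
      Multiplicative.toAdd ((⟨Multiplicative.ofAdd v, h⟩ : Multiplicative (ι → F) ⋊[φ] H) ^ n).left =
        (∑ i ∈ Finset.range n, ρ h ^ i) *ᵥ v := by
  intro n
  induction n with
  | zero => simp
  | succ n ih =>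
    rw [pow_succ, SemidirectProduct.mul_right, SemidirectProduct.mul_left, ih.1, toAdd_mul, ih.2, hφ, toAdd_ofAdd,
      Finset.sum_range_succ, Matrix.add_mulVec, map_pow]
    exact ⟨(pow_succ h n).symm, rfl⟩

/-- The orders above an element of the complement. -/
theorem orderOf_mk (p : ℕ) [Fact p.Prime] [CharP F p] (v : ι → F) (h : H) :
    orderOf (⟨Multiplicative.ofAdd v, h⟩ : Multiplicative (ι → F) ⋊[φ] H) ∣ p * orderOf h ∧
      orderOf h ∣ orderOf (⟨Multiplicative.ofAdd v, h⟩ : Multiplicative (ι → F) ⋊[φ] H) ∧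
      ((∑ i ∈ Finset.range (orderOf h), ρ h ^ i) *ᵥ v = 0 →
        orderOf (⟨Multiplicative.ofAdd v, h⟩ : Multiplicative (ι → F) ⋊[φ] H) ∣ orderOf h) ∧
      (orderOf h ≠ 0 → (∑ i ∈ Finset.range (orderOf h), ρ h ^ i) *ᵥ v ≠ 0 →
        p * orderOf h ∣ orderOf (⟨Multiplicative.ofAdd v, h⟩ : Multiplicative (ι → F) ⋊[φ] H)) := by
  set x : Multiplicative (ι → F) ⋊[φ] H := ⟨Multiplicative.ofAdd v, h⟩
  set d := orderOf h
  set w := (∑ i ∈ Finset.range d, ρ h ^ i) *ᵥ v
  have hd : x ^ d = SemidirectProduct.inl (Multiplicative.ofAdd w) := by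
    refine SemidirectProduct.ext ?_ ?_
    · rw [SemidirectProduct.left_inl]
      exact Multiplicative.toAdd.injective (pow_parts ρ φ hφ v h d).2
    · rw [SemidirectProduct.right_inl, (pow_parts ρ φ hφ v h d).1]
      exact pow_orderOf_eq_one h
  have hp : (Multiplicative.ofAdd w) ^ p = 1 := by
    refine Multiplicative.toAdd.injective ?_
    rw [toAdd_pow, toAdd_ofAdd, toAdd_one, ← Nat.cast_smul_eq_nsmul F, CharP.cast_eq_zero F p, zero_smul]
  have h1 : orderOf x ∣ p * d := orderOf_dvd_of_pow_eq_one (by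
    rw [mul_comm, pow_mul, hd, ← map_pow, hp, map_one])
  have h2 : d ∣ orderOf x := orderOf_dvd_of_pow_eq_one (by
    rw [← (pow_parts ρ φ hφ v h _).1, pow_orderOf_eq_one, SemidirectProduct.one_right])
  refine ⟨h1, h2, fun h0 => orderOf_dvd_of_pow_eq_one ?_, fun hd0 hw => ?_⟩
  · rw [hd, show w = 0 from h0, ofAdd_zero, map_one]
  obtain ⟨e, he⟩ := h2
  rw [he] at h1 ⊢
  rw [mul_comm p d] at h1
  have h3 : e ∣ p := (Nat.mul_dvd_mul_iff_left (Nat.pos_of_ne_zero hd0)).1 h1
  rcases (Nat.dvd_prime Fact.out).1 h3 with rfl | rfl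
  · rw [mul_one] at he
    refine absurd ?_ hw
    have h4 := pow_orderOf_eq_one x
    rw [he, hd, ← map_one (SemidirectProduct.inl (φ := φ))] at h4
    exact Multiplicative.ofAdd.injective (SemidirectProduct.inl_injective h4)
  · rw [mul_comm]

end Semi

/-! ### Sums of powers of a unipotent element -/

theorem geom_sum_prime_pow (p : ℕ) [Fact p.Prime] [CharP F p] (a : ℕ) :
    ∑ i ∈ Finset.range (p ^ a), (Polynomial.X : Polynomial F) ^ i = (Polynomial.X - 1) ^ (p ^ a - 1) := by
  have h1 : (Polynomial.X - 1 : Polynomial F) ≠ 0 := by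
    simpa using Polynomial.X_sub_C_ne_zero (1 : F)
  refine mul_right_cancel₀ h1 ?_
  rw [geom_sum_mul, ← pow_succ, Nat.sub_add_cancel (Nat.one_le_pow _ _ (Fact.out : p.Prime).pos),
    sub_pow_char_pow, one_pow]

variable {ι : Type} [Fintype ι] [DecidableEq ι]

theorem geom_sum_unipotent (p : ℕ) [Fact p.Prime] [CharP F p] {U : Matrix ι ι F} {a : ℕ} (m : ℕ)
    (h : (U - 1) ^ p ^ a = 0) :
    ∑ i ∈ Finset.range (p ^ a * m), U ^ i = (m : F) • (U - 1) ^ (p ^ a - 1) := by
  rcases isEmpty_or_nonempty ι with hι | hι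
  · exact Subsingleton.elim _ _
  have h1 : U ^ p ^ a = 1 := by
    have h2 := sub_pow_char_pow_of_commute p (n := a) (Commute.one_right U)
    rw [h, one_pow] at h2
    exact sub_eq_zero.1 h2.symm
  have h3 : ∑ i ∈ Finset.range (p ^ a), U ^ i = (U - 1) ^ (p ^ a - 1) := by
    have h4 := congrArg (Polynomial.aeval U) (geom_sum_prime_pow (F := F) p a)
    simpa using h4
  induction m with
  | zero => simp
  | succ m ih =>
    rw [Nat.mul_succ, Finset.sum_range_add, ih]
    have h5 : ∀ i, U ^ (p ^ a * m + i) = U ^ i := fun i => by rw [pow_add, pow_mul, h1, one_pow, one_mul]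
    simp only [h5, h3, Nat.cast_succ, add_smul, one_smul]

theorem orderOf_unipotent (p : ℕ) [Fact p.Prime] [CharP F p] [Nonempty ι] {U : Matrix ι ι F} (a : ℕ) :
    U ^ p ^ a = 1 ↔ (U - 1) ^ p ^ a = 0 := by
  rw [sub_pow_char_pow_of_commute p (n := a) (Commute.one_right U), one_pow, sub_eq_zero]

/-! ### Regular unipotent isometries -/

/-- The skew shift. -/
def shift (F : Type*) [Field F] (k : ℕ) : Matrix (Fin k) (Fin k) F :=
  Matrix.of fun i j => if (i : ℕ) = (j : ℕ) + 1 then 1 else 0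

/-- The symmetric form of the skew shift. -/
def antiForm (F : Type*) [Field F] (k : ℕ) : Matrix (Fin k) (Fin k) F :=
  Matrix.of fun i j => if (i : ℕ) + (j : ℕ) + 1 = k then (-1) ^ (i : ℕ) else 0

theorem antiForm_transpose {k : ℕ} (hk : Odd k) : (antiForm F k)ᵀ = antiForm F k := by
  ext i j
  simp only [antiForm, Matrix.transpose_apply, Matrix.of_apply, add_comm (j : ℕ)]
  split_ifs with h
  · obtain ⟨c, hc⟩ := hk
    have h1 : ((-1 : F) ^ (i : ℕ)) * (-1) ^ (j : ℕ) = 1 := by
      rw [← pow_add, show (i : ℕ) + j = 2 * c by omega, pow_mul, neg_one_sq, one_pow]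
    have h2 : ((-1 : F) ^ (i : ℕ)) * (-1) ^ (i : ℕ) = 1 := by rw [← mul_pow]; simp
    linear_combination ((-1 : F) ^ (i : ℕ)) * h1 - ((-1 : F) ^ (j : ℕ)) * h2
  · rfl

theorem antiForm_skew {k : ℕ} :
    (shift F k)ᵀ * antiForm F k = -(antiForm F k * shift F k) := by
  ext i j
  rw [Matrix.neg_apply, Matrix.mul_apply, Matrix.mul_apply]
  simp only [Matrix.transpose_apply, shift, antiForm, Matrix.of_apply, ite_mul, one_mul, zero_mul, mul_ite, mul_one,
    mul_zero]
  rw [← Finset.sum_neg_distrib]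
  by_cases hij : (i : ℕ) + (j : ℕ) + 2 = k
  · rw [Finset.sum_eq_single ⟨(i : ℕ) + 1, by omega⟩ (fun x _ hx => by
        split_ifs <;> first | rfl | exact absurd (Fin.ext (by simp only; omega)) hx) (by simp),
      Finset.sum_eq_single ⟨(j : ℕ) + 1, by omega⟩ (fun x _ hx => by
        split_ifs <;> first | exact neg_zero | exact absurd (Fin.ext (by simp only; omega)) hx) (by simp)]
    simp only [if_true]
    rw [if_pos (by omega), if_pos (by omega)]
    simp [pow_succ]
  · rw [Finset.sum_eq_zero fun x _ => ?_, Finset.sum_eq_zero fun x _ => ?_]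
    · split_ifs <;> first | exact neg_zero | omega
    · split_ifs <;> first | rfl | omega

theorem shift_pow_zero {k : ℕ} [NeZero k] : ∀ n : ℕ, n < k →
    ∃ i : Fin k, (i : ℕ) = n ∧ (shift F k) ^ n *ᵥ Pi.single 0 1 = Pi.single i 1 := by
  intro n
  induction n with
  | zero => intro _; exact ⟨0, by simp, by rw [pow_zero, Matrix.one_mulVec]⟩
  | succ n ih =>
    intro hn
    obtain ⟨i, hi, h⟩ := ih (by omega)
    refine ⟨⟨n + 1, hn⟩, rfl, ?_⟩
    rw [pow_succ', ← Matrix.mulVec_mulVec, h, Matrix.mulVec_single_one]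
    funext x
    simp [shift, Pi.single_apply, Fin.ext_iff, hi]

theorem shift_nilpotent {k : ℕ} : (shift F k) ^ k = 0 := by
  have h : ∀ (n : ℕ) (i j : Fin k), (i : ℕ) < (j : ℕ) + n → ((shift F k) ^ n) i j = 0 := by
    intro n
    induction n with
    | zero => intro i j h; rw [pow_zero, Matrix.one_apply_ne]; exact fun e => by subst e; omega
    | succ n ih =>
      intro i j h
      rw [pow_succ, Matrix.mul_apply]
      refine Finset.sum_eq_zero fun x _ => ?_
      simp only [shift, Matrix.of_apply, mul_ite, mul_one, mul_zero]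
      split_ifs with hx
      · exact ih i x (by omega)
      · rfl
  ext i j
  exact h k i j (by omega)

variable [Fintype F]

/-- A regular unipotent isometry in every odd dimension. -/
theorem exists_regular (p : ℕ) [Fact p.Prime] [CharP F p] (h2 : (2 : F) ≠ 0) {k : ℕ} (hk : Odd k) :
    ∃ (R : QuadraticForm F (Fin k → F)) (u : isometryGroup F ⇑R), (QuadraticMap.polarBilin R).Nondegenerate ∧
      u ∈ Omega F ⇑R ∧ (ogVal u).det = 1 ∧ spin u = 1 ∧ (ogVal u - 1) ^ k = 0 ∧ (ogVal u - 1) ^ (k - 1) ≠ 0 := by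
  classical
  haveI : NeZero k := ⟨hk.pos.ne'⟩
  set N := shift F k
  set M := antiForm F k
  have hs : Mᵀ = M := antiForm_transpose hk
  have hd : M.det ≠ 0 := by
    intro h0
    obtain ⟨v, hv, hv0⟩ := Matrix.exists_mulVec_eq_zero_iff.2 h0
    refine hv (funext fun x => ?_)
    have h1 := congrFun hv0 ⟨k - 1 - (x : ℕ), by omega⟩
    simp only [Matrix.mulVec, dotProduct, M, antiForm, Matrix.of_apply, ite_mul, zero_mul] at h1
    rw [Finset.sum_eq_single x (fun y _ hy => if_neg fun h => hy (Fin.ext (by omega))) (by simp),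
      if_pos (by omega), Pi.zero_apply, mul_eq_zero] at h1
    exact h1.resolve_left (pow_ne_zero _ (neg_ne_zero.2 one_ne_zero))
  have hN : IsNilpotent N := ⟨k, shift_nilpotent⟩
  obtain ⟨w, hw⟩ : IsUnit (1 + N) := hN.isUnit_one_add
  set W : Matrix (Fin k) (Fin k) F := ((w⁻¹ : (Matrix (Fin k) (Fin k) F)ˣ) : Matrix (Fin k) (Fin k) F)
  have hW1 : W * (1 + N) = 1 := by rw [← hw]; exact w.inv_mul
  have hW2 : (1 + N) * W = 1 := by rw [← hw]; exact w.mul_inv
  have hcW : Commute N W := by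
    have h : Commute N (1 + N) := (Commute.one_right N).add_right (Commute.refl N)
    rw [← hw] at h
    exact h.units_inv_right
  set G := (1 - N) * W
  have hG : Gᵀ * M * G = M := by
    have e1 : (1 - N)ᵀ * M = M * (1 + N) := by
      rw [Matrix.transpose_sub, Matrix.transpose_one, Matrix.sub_mul, antiForm_skew, Matrix.one_mul, Matrix.mul_add,
        Matrix.mul_one, sub_neg_eq_add]
    have e2 : (1 + N)ᵀ * M = M * (1 - N) := by
      rw [Matrix.transpose_add, Matrix.transpose_one, Matrix.add_mul, antiForm_skew, Matrix.one_mul, Matrix.mul_sub,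
        Matrix.mul_one, sub_eq_add_neg]
    have e3 : Wᵀ * (1 + N)ᵀ = 1 := by rw [← Matrix.transpose_mul, hW2, Matrix.transpose_one]
    have hc1 : (1 + N) * (1 - N) = (1 - N) * (1 + N) := by noncomm_ring
    calc Gᵀ * M * G = Wᵀ * ((1 - N)ᵀ * M) * ((1 - N) * W) := by
          show ((1 - N) * W)ᵀ * M * ((1 - N) * W) = _
          rw [Matrix.transpose_mul]; simp only [Matrix.mul_assoc]
      _ = Wᵀ * (M * ((1 + N) * (1 - N))) * W := by rw [e1]; simp only [Matrix.mul_assoc]
      _ = Wᵀ * ((M * (1 - N)) * ((1 + N) * W)) := by rw [hc1]; simp only [Matrix.mul_assoc]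
      _ = M := by rw [hW2, Matrix.mul_one, ← e2, ← Matrix.mul_assoc, e3, Matrix.one_mul]
  set u := PrimeGraphBC.isoOf hd G hG
  have hu1 : ogVal u - 1 = (-2 : F) • (N * W) := by
    rw [PrimeGraphBC.ogVal_isoOf]
    calc G - 1 = (1 - N) * W - (1 + N) * W := by rw [hW2]
      _ = _ := by rw [← Matrix.sub_mul, show (1 : Matrix (Fin k) (Fin k) F) - N - (1 + N) = (-2 : F) • N from by
            rw [neg_smul, two_smul]; abel, Matrix.smul_mul]
  have hpow : ∀ n, (ogVal u - 1) ^ n = ((-2 : F) ^ n) • (N ^ n * W ^ n) := fun n => by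
    rw [hu1, smul_pow, hcW.mul_pow]
  have hk0 : (ogVal u - 1) ^ k = 0 := by rw [hpow, shift_nilpotent, Matrix.zero_mul, smul_zero]
  have hk1 : (ogVal u - 1) ^ (k - 1) ≠ 0 := by
    intro h
    rw [hpow, smul_eq_zero] at h
    have h1 := h.resolve_left (pow_ne_zero _ (neg_ne_zero.2 h2))
    have h3 : N ^ (k - 1) = 0 := by
      have h4 : W ^ (k - 1) * (1 + N) ^ (k - 1) = 1 := by
        rw [← Commute.mul_pow (show W * (1 + N) = (1 + N) * W by rw [hW1, hW2]), hW1, one_pow]
      rw [← Matrix.mul_one (N ^ (k - 1)), ← h4, ← Matrix.mul_assoc, h1, Matrix.zero_mul]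
    obtain ⟨i, -, hi⟩ := shift_pow_zero (F := F) (k := k) (k - 1) (by have := hk.pos; omega)
    rw [show shift F k = N from rfl, h3, Matrix.zero_mulVec] at hi
    simpa using congrFun hi i
  have hR : (QuadraticMap.polarBilin (PrimeGraphBC.qMat M)).Nondegenerate := PrimeGraphBC.nondegenerate_qMat h2 hs hd
  have hp : u ^ p ^ k = 1 := by
    refine ogVal_ext ?_
    rw [PrimeGraphBC.ogVal_pow, ogVal_one, orderOf_unipotent p]
    exact pow_eq_zero_of_le (Nat.lt_pow_self (Fact.out : p.Prime).one_lt).le hk0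
  have hp2 : Odd (p ^ k) := ((Fact.out : p.Prime).odd_of_ne_two (by
    rintro rfl
    exact h2 (by exact_mod_cast CharP.cast_eq_zero F 2))).pow
  have hmem := PrimeGraphBC.odd_mem_omega h2 hR hp2 hp
  exact ⟨_, u, hR, hmem, PrimeGraphBC.det_of_mem_omega h2 hR hmem,
    ((mem_omega_gen hR (genQ_odd hR h2) u).1 hmem).2, hk0, hk1⟩

end Cfsg.Agent.Classical.Spectra
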