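import Cfsg.Agent.Lib.Classical.SpectraTori

/-!
Large element orders in the split extension of the natural module by `Ω` of minus type in dimension eight.
-/

set_option autoImplicit false
set_option linter.unusedSectionVars false
set_option quotPrecheck false

namespace Cfsg.Agent.Classical.Spectra

open Matrix Module Cfsg Cfsg.Agent.Classical.OrthAut

variable {F : Type*} [Field F] [Fintype F]

/-- The class of the discriminant. -/
noncomputable def sd {ι : Type} [Fintype ι] [DecidableEq ι] (Q : QuadraticForm F (ι → F)) : ℤˣ := sqSign (dd Q)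

variable {ι κ : Type} [Fintype ι] [DecidableEq ι] [Fintype κ] [DecidableEq κ]
  {Q : QuadraticForm F (ι → F)} {R : QuadraticForm F (κ → F)}

theorem sd_sumQ (hQ : (QuadraticMap.polarBilin Q).Nondegenerate) (hR : (QuadraticMap.polarBilin R).Nondegenerate) :
    sd (sumQ Q R) = sd Q * sd R := by
  rw [sd, sd, sd, dd_sumQ, sqSign_mul (dd_ne_zero hQ) (dd_ne_zero hR)]

theorem exists_iso_sd (h2 : (2 : F) ≠ 0) (hQ : (QuadraticMap.polarBilin Q).Nondegenerate)
    (hR : (QuadraticMap.polarBilin R).Nondegenerate) (hc : Fintype.card ι = Fintype.card κ) (hd : sd Q = sd R) :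
    Nonempty (IsoData Q R) := by
  refine exists_iso h2 hQ hR hc ?_
  obtain ⟨s, hs⟩ := isSquare_div_of_sqSign hd
  have := dd_ne_zero hR
  exact ⟨s * dd R, by field_simp at hs; linear_combination (dd R) * hs⟩

/-- A form of any dimension and class. -/
theorem exists_filler (h2 : (2 : F) ≠ 0) {r : ℕ} (hr : 1 ≤ r) (s : ℤˣ) :
    ∃ U : QuadraticForm F (Fin r → F), (QuadraticMap.polarBilin U).Nondegenerate ∧ sd U = s := by
  classical
  obtain ⟨c, hc, hcs⟩ : ∃ c : F, c ≠ 0 ∧ sqSign c = s := by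
    rcases Int.units_eq_one_or s with rfl | rfl
    · exact ⟨1, one_ne_zero, sqSign_of_isSquare IsSquare.one⟩
    · obtain ⟨ε, hε⟩ := FiniteField.exists_nonsquare (F := F)
        (fun hc => h2 (by haveI := ringChar.of_eq hc; exact CharTwo.two_eq_zero))
      exact ⟨ε, fun h => hε (h ▸ IsSquare.zero), sqSign_of_not hε⟩
  let w : Fin r → F := fun i => if i = ⟨0, hr⟩ then c else 1
  have hw : ∀ i, w i ≠ 0 := fun i => by simp only [w]; split_ifs; exacts [hc, one_ne_zero]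
  refine ⟨_, nd_diag h2 hw, ?_⟩
  rw [sd, dd_diag h2]
  simpa [w] using hcs

theorem mem_omega_pair (h2 : (2 : F) ≠ 0) (hQ : (QuadraticMap.polarBilin Q).Nondegenerate)
    (hR : (QuadraticMap.polarBilin R).Nondegenerate) {g : isometryGroup F ⇑Q} {k : isometryGroup F ⇑R}
    (hd : (ogVal g).det * (ogVal k).det = 1) (hs : spin g * spin k = 1) : pair g k ∈ Omega F ⇑(sumQ Q R) :=
  PrimeGraphBC.mem_omega_of_det h2 (nondegenerate_sumQ hQ hR) (by rw [det_pair, hd])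
    (by rw [spin_pair h2 hQ hR, hs])

theorem omega_parts (h2 : (2 : F) ≠ 0) (hQ : (QuadraticMap.polarBilin Q).Nondegenerate) {g : isometryGroup F ⇑Q}
    (hg : g ∈ Omega F ⇑Q) : (ogVal g).det = 1 ∧ spin g = 1 :=
  ⟨PrimeGraphBC.det_of_mem_omega h2 hQ hg, ((mem_omega_gen hQ (genQ_odd hQ h2) g).1 hg).2⟩

theorem omega_one_left (h2 : (2 : F) ≠ 0) (hQ : (QuadraticMap.polarBilin Q).Nondegenerate)
    (hR : (QuadraticMap.polarBilin R).Nondegenerate) {k : isometryGroup F ⇑R} (hk : k ∈ Omega F ⇑R) :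
    pair (1 : isometryGroup F ⇑Q) k ∈ Omega F ⇑(sumQ Q R) ∧
      orderOf (pair (1 : isometryGroup F ⇑Q) k) = orderOf k := by
  refine ⟨mem_omega_pair h2 hQ hR ?_ ?_, by rw [orderOf_pair, orderOf_one, Nat.lcm_one_left]⟩
  · rw [ogVal_one, Matrix.det_one, one_mul, (omega_parts h2 hR hk).1]
  · rw [← spinHom_apply hQ, map_one, one_mul, (omega_parts h2 hR hk).2]

/-! ### Orders in the extension -/

/-- An order dividing one in the split extension. -/
def Good (p : ℕ) (Q : QuadraticForm F (ι → F)) (N : ℕ) : Prop :=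
  ∃ h ∈ Omega F ⇑Q, N ∣ orderOf h ∨
    (N ∣ p * orderOf h ∧ ∃ v : ι → F, (∑ i ∈ Finset.range (orderOf h), ogVal h ^ i) *ᵥ v ≠ 0)

theorem Good.mono {p N M : ℕ} (h : Good p Q N) (hd : M ∣ N) : Good p Q M := by
  obtain ⟨g, hg, h1 | ⟨h1, h2⟩⟩ := h
  · exact ⟨g, hg, Or.inl (hd.trans h1)⟩
  · exact ⟨g, hg, Or.inr ⟨hd.trans h1, h2⟩⟩

theorem Good.iso {p N : ℕ} (h : Good p Q N) (D : IsoData Q R) : Good p R N := by
  obtain ⟨g, hg, hN⟩ := h
  refine ⟨D.og g, by rw [← D.og_map_omega]; exact Subgroup.mem_map_of_mem _ hg, ?_⟩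
  rw [MulEquiv.orderOf_eq]
  refine hN.imp id fun ⟨h1, v, hv⟩ => ⟨h1, D.M *ᵥ v, fun h0 => hv ?_⟩
  have hpow : ∀ i, ogVal (D.og g) ^ i *ᵥ (D.M *ᵥ v) = D.M *ᵥ (ogVal g ^ i *ᵥ v) := fun i => by
    induction i with
    | zero => simp
    | succ i ih =>
      rw [pow_succ', pow_succ', ← Matrix.mulVec_mulVec, ← Matrix.mulVec_mulVec, ih]
      exact D.gl_apply _ _
  rw [Matrix.sum_mulVec] at h0 ⊢
  simp only [hpow, ← Matrix.mulVec_sum] at h0
  have := congrArg (D.N *ᵥ ·) h0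
  simpa [Matrix.mulVec_mulVec, D.NM] using this

section Parts

variable (h2 : (2 : F) ≠ 0)
include h2

variable {m : ℕ} {W : QuadraticForm F (Fin m → F)} {T : QuadraticForm F (ι → F)}

/-- An element of a smaller `Ω`. -/
theorem good_part (p : ℕ) (hT : (QuadraticMap.polarBilin T).Nondegenerate)
    (hW : (QuadraticMap.polarBilin R).Nondegenerate) (hc : Fintype.card κ < Fintype.card ι)
    {w : isometryGroup F ⇑R} (hw : w ∈ Omega F ⇑R) : Good p T (orderOf w) := by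
  obtain ⟨U, hU, hUs⟩ := exists_filler (F := F) h2 (r := Fintype.card ι - Fintype.card κ) (by omega) (sd T * sd R)
  obtain ⟨D⟩ := exists_iso_sd h2 (nondegenerate_sumQ hU hW) hT (by simp; omega)
    (by rw [sd_sumQ hU hW, hUs, mul_assoc, Int.units_mul_self, mul_one])
  obtain ⟨h1, h3⟩ := omega_one_left h2 hU hW hw
  exact (show Good p (sumQ U R) (orderOf w) from ⟨_, h1, Or.inl (by rw [h3])⟩).iso D

/-- A regular unipotent block of dimension `p ^ a` next to an element of `Ω`. -/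
theorem good_regular (p : ℕ) [Fact p.Prime] [CharP F p] (a : ℕ) (hT : (QuadraticMap.polarBilin T).Nondegenerate)
    (hR : (QuadraticMap.polarBilin R).Nondegenerate) (hc : p ^ a + Fintype.card κ < Fintype.card ι)
    {w : isometryGroup F ⇑R} (hw : w ∈ Omega F ⇑R) (hnd : ¬ p ^ (a + 1) ∣ orderOf w) :
    Good p T (Nat.lcm (p ^ (a + 1)) (orderOf w)) := by
  classical
  have hp : p.Prime := Fact.out
  have hpodd : Odd p := hp.odd_of_ne_two (by
    rintro rfl
    exact h2 (by exact_mod_cast CharP.cast_eq_zero F 2))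
  obtain ⟨R₀, u, hR₀, hu, hud, hus, hu0, hu1⟩ := exists_regular (F := F) p h2 (k := p ^ a) hpodd.pow
  haveI : Nonempty (Fin (p ^ a)) := ⟨⟨0, pow_pos hp.pos a⟩⟩
  obtain ⟨U, hU, hUs⟩ := exists_filler (F := F) h2 (r := Fintype.card ι - (p ^ a + Fintype.card κ)) (by omega)
    (sd T * sd R * sd R₀)
  have hn1 := nondegenerate_sumQ hR₀ hU
  have hn2 := nondegenerate_sumQ hn1 hR
  obtain ⟨D⟩ := exists_iso_sd h2 hn2 hT (by simp; omega)
    (by
      rw [sd_sumQ hn1 hR, sd_sumQ hR₀ hU, hUs]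
      rcases Int.units_eq_one_or (sd R₀) with e | e <;> rcases Int.units_eq_one_or (sd R) with e' | e' <;>
        rw [e, e'] <;> simp)
  set x := pair (Q := R₀) (R := U) u 1
  have hx : x ∈ Omega F ⇑(sumQ R₀ U) := mem_omega_pair h2 hR₀ hU
    (by rw [hud, ogVal_one, Matrix.det_one, one_mul])
    (by rw [hus, ← spinHom_apply hU, map_one, one_mul])
  set h := pair x w
  have hh : h ∈ Omega F ⇑(sumQ (sumQ R₀ U) R) := mem_omega_pair h2 hn1 hR
    (by rw [(omega_parts h2 hn1 hx).1, (omega_parts h2 hR hw).1, one_mul])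
    (by rw [(omega_parts h2 hn1 hx).2, (omega_parts h2 hR hw).2, one_mul])
  have hua : u ^ p ^ a = 1 := ogVal_ext (by
    rw [PrimeGraphBC.ogVal_pow, ogVal_one, orderOf_unipotent p, hu0])
  have huo : orderOf u = p ^ a := by
    refine Nat.dvd_antisymm (orderOf_dvd_of_pow_eq_one hua) ?_
    rcases a with _ | a
    · simp
    rw [orderOf_eq_prime_pow (fun h => hu1 ?_) hua]
    have h3 := congrArg ogVal h
    rw [PrimeGraphBC.ogVal_pow, ogVal_one, orderOf_unipotent p] at h3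
    refine pow_eq_zero_of_le ?_ h3
    have := Nat.pow_lt_pow_right hp.one_lt (show a < a + 1 by omega)
    omega
  set d := orderOf h
  have hd : d = Nat.lcm (p ^ a) (orderOf w) := by
    show orderOf (pair (pair u 1) w) = _
    rw [orderOf_pair, orderOf_pair, huo, orderOf_one, Nat.lcm_one_right]
  obtain ⟨m, hm⟩ : p ^ a ∣ d := hd ▸ Nat.dvd_lcm_left _ _
  have hpm : ¬ p ∣ m := by
    intro h
    have h3 : p ^ (a + 1) ∣ Nat.lcm (p ^ a) (orderOf w) := by
      rw [← hd, hm, pow_succ]; exact Nat.mul_dvd_mul_left _ h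
    rcases Nat.eq_zero_or_pos (orderOf w) with h0 | h0
    · exact hnd (h0 ▸ dvd_zero _)
    rw [hp.pow_dvd_iff_le_factorization (Nat.lcm_ne_zero (pow_ne_zero _ hp.ne_zero) h0.ne'),
      Nat.factorization_lcm (pow_ne_zero _ hp.ne_zero) h0.ne', Finsupp.sup_apply, hp.factorization_pow,
      Finsupp.single_eq_same, le_sup_iff] at h3
    rcases h3 with h3 | h3
    · omega
    · exact hnd ((hp.pow_dvd_iff_le_factorization h0.ne').2 h3)
  obtain ⟨x₀, hx₀⟩ : ∃ x₀, (ogVal u - 1) ^ (p ^ a - 1) *ᵥ x₀ ≠ 0 := by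
    by_contra hc'; push Not at hc'
    exact hu1 (Matrix.ext_iff_mulVec.2 fun y => by rw [hc', Matrix.zero_mulVec])
  have hv : (∑ i ∈ Finset.range d, ogVal h ^ i) *ᵥ Sum.elim (Sum.elim x₀ 0) 0 ≠ 0 := by
    have hpow : ∀ i, ogVal h ^ i *ᵥ Sum.elim (Sum.elim x₀ 0) 0 = Sum.elim (Sum.elim (ogVal u ^ i *ᵥ x₀) 0) 0 := by
      intro i
      rw [← PrimeGraphBC.ogVal_pow, pair_pow, pair_val, pair_pow, pair_val, Matrix.fromBlocks_mulVec]
      simp [Matrix.fromBlocks_mulVec, PrimeGraphBC.ogVal_pow]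
    intro h0
    rw [Matrix.sum_mulVec] at h0
    simp only [hpow] at h0
    have h3 : (∑ i ∈ Finset.range d, ogVal u ^ i) *ᵥ x₀ = 0 := by
      funext j
      have h4 := congrFun h0 (Sum.inl (Sum.inl j))
      simpa [Finset.sum_apply, Matrix.sum_mulVec] using h4
    rw [hm, geom_sum_unipotent p m hu0, Matrix.smul_mulVec] at h3
    refine hx₀ ((smul_eq_zero.1 h3).resolve_left fun h5 => hpm ?_)
    exact (CharP.cast_eq_zero_iff F p m).1 h5
  refine Good.iso (Q := sumQ (sumQ R₀ U) R) ⟨h, hh, Or.inr ⟨?_, _, hv⟩⟩ D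
  refine Nat.lcm_dvd ?_ (dvd_mul_of_dvd_right (show orderOf w ∣ d from hd ▸ Nat.dvd_lcm_right _ _) p)
  rw [pow_succ']
  exact Nat.mul_dvd_mul_left p ⟨m, hm⟩

/-- Correcting the spinor norm by two more dimensions. -/
theorem adjust (hR : (QuadraticMap.polarBilin R).Nondegenerate) {g : isometryGroup F ⇑R}
    (hd : (ogVal g).det = 1) :
    ∃ (S : QuadraticForm F (κ ⊕ Fin 2 → F)), (QuadraticMap.polarBilin S).Nondegenerate ∧
      ∃ h ∈ Omega F ⇑S, orderOf g ∣ orderOf h ∧ orderOf h ∣ Nat.lcm (orderOf g) 2 := by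
  obtain ⟨Z, hZ, hZs⟩ := exists_filler (F := F) h2 (r := 2) (by norm_num) (spin g)
  refine ⟨sumQ R Z, nondegenerate_sumQ hR hZ, pair g (negOne Z), mem_omega_pair h2 hR hZ ?_ ?_, ?_, ?_⟩
  · rw [hd, det_negOne_even (by simp), one_mul]
  · rw [spin_negOne h2 hZ (by simp), ← sd, hZs, Int.units_mul_self]
  · rw [orderOf_pair]; exact Nat.dvd_lcm_left _ _
  · rw [orderOf_pair]
    refine Nat.lcm_dvd (Nat.dvd_lcm_left _ _) (dvd_trans ?_ (Nat.dvd_lcm_right _ _))
    refine orderOf_dvd_of_pow_eq_one (ogVal_ext ?_)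
    rw [PrimeGraphBC.ogVal_pow, ogVal_negOne, ogVal_one, neg_one_sq]

/-- Two elements, one of spinor norm `-1` with order twice an odd number. -/
theorem exists_pair_omega (hQ : (QuadraticMap.polarBilin Q).Nondegenerate)
    (hR : (QuadraticMap.polarBilin R).Nondegenerate) {g : isometryGroup F ⇑Q} {k : isometryGroup F ⇑R}
    (hgd : (ogVal g).det = 1) (hkd : (ogVal k).det = 1) (hgs : spin g = -1) {N : ℕ} (hg : orderOf g = 2 * N)
    (hN : Odd N) (hk : 2 ∣ orderOf k) :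
    ∃ h ∈ Omega F ⇑(sumQ Q R), orderOf h = Nat.lcm (orderOf g) (orderOf k) := by
  rcases Int.units_eq_one_or (spin k) with e | e
  · refine ⟨pair (g ^ 2) k, mem_omega_pair h2 hQ hR ?_ ?_, ?_⟩
    · rw [PrimeGraphBC.ogVal_pow, Matrix.det_pow, hgd, hkd, one_pow, one_mul]
    · rw [← spinHom_apply hQ, map_pow, spinHom_apply, Int.units_sq, e, one_mul]
    · rw [orderOf_pair, orderOf_pow' g (by norm_num : 2 ≠ 0), hg, Nat.gcd_eq_right ⟨N, rfl⟩,
        Nat.mul_div_cancel_left _ (by norm_num : 0 < 2)]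
      refine Nat.dvd_antisymm (Nat.lcm_dvd ((dvd_mul_left N 2).trans (Nat.dvd_lcm_left _ _))
        (Nat.dvd_lcm_right _ _)) (Nat.lcm_dvd ?_ (Nat.dvd_lcm_right _ _))
      exact Nat.Coprime.mul_dvd_of_dvd_of_dvd (Nat.coprime_two_left.2 hN) (hk.trans (Nat.dvd_lcm_right _ _))
        (Nat.dvd_lcm_left _ _)
  · exact ⟨pair g k, mem_omega_pair h2 hQ hR (by rw [hgd, hkd, one_mul]) (by rw [hgs, e]; decide),
      orderOf_pair g k⟩

end Parts

/-! ### The list -/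

theorem not_dvd_pow_pm {p q e : ℕ} (hp : p.Prime) (hpq : p ∣ q) (he : 1 ≤ e) :
    ¬ p ∣ q ^ e + 1 ∧ (1 ≤ q → ¬ p ∣ q ^ e - 1) := by
  have h : p ∣ q ^ e := dvd_pow hpq (by omega)
  refine ⟨fun h1 => hp.not_dvd_one ((Nat.dvd_add_right h).1 h1), fun hq h1 => hp.not_dvd_one ?_⟩
  have h3 : q ^ e = q ^ e - 1 + 1 := (Nat.sub_add_cancel (Nat.one_le_pow _ _ hq)).symm
  rw [h3] at h
  exact (Nat.dvd_add_right h1).1 h

theorem good_list (p : ℕ) [Fact p.Prime] [CharP F p] (h2 : (2 : F) ≠ 0) {T : QuadraticForm F (ι → F)}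
    (hT : (QuadraticMap.polarBilin T).Nondegenerate) (hc : Fintype.card ι = 8) (hs : sd T = -1) :
    Good p T (Nat.lcm (Fintype.card F ^ 2 + 1) (Fintype.card F ^ 2 - 1)) ∧
    Good p T (Nat.lcm (Fintype.card F ^ 3 - 1) (Fintype.card F + 1)) ∧
    Good p T (Nat.lcm (Fintype.card F ^ 3 + 1) (Fintype.card F - 1)) ∧
    Good p T (p * (Fintype.card F ^ 2 - 1)) ∧
    Good p T (p * Nat.lcm (Fintype.card F ^ 2 + 1) (Fintype.card F - 1)) ∧
    Good p T (p * Nat.lcm (Fintype.card F ^ 2 + 1) (Fintype.card F + 1)) ∧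
    (p = 3 → Good p T (9 * (Fintype.card F - 1)) ∧ Good p T (9 * (Fintype.card F + 1))) ∧
    (p = 5 → Good p T 50) := by
  classical
  have hp : p.Prime := Fact.out
  set q := Fintype.card F with hqdef
  have hqodd : Odd q := Nat.odd_iff.2 (FiniteField.odd_card_of_char_ne_two fun hc => h2 (by
    haveI := ringChar.of_eq hc; exact CharTwo.two_eq_zero))
  have hpq : p ∣ q := by
    obtain ⟨n, -, hn⟩ := FiniteField.card F p
    rw [hqdef, hn]; exact dvd_pow_self p n.ne_zero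
  have hq1 : 2 ≤ q := Fintype.one_lt_card
  have hp3 : 3 ≤ p := by
    have := hp.two_le
    rcases Nat.lt_or_ge p 3 with h | h
    · exfalso; exact h2 (by
        obtain rfl : p = 2 := by omega
        exact_mod_cast CharP.cast_eq_zero F 2)
    · exact h
  have hqm := Nat.odd_iff.1 hqodd
  have hmod : (q % 4 = 1 ∧ q ^ 2 % 4 = 1 ∧ q ^ 3 % 4 = 1 ∧ sqSign (-1 : F) = 1) ∨
      (q % 4 = 3 ∧ q ^ 2 % 4 = 1 ∧ q ^ 3 % 4 = 3 ∧ sqSign (-1 : F) = -1) := by
    have hiff := FiniteField.isSquare_neg_one_iff (F := F)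
    rcases (by omega : q % 4 = 1 ∨ q % 4 = 3) with h | h
    · exact Or.inl ⟨h, by rw [Nat.pow_mod, h], by rw [Nat.pow_mod, h],
        sqSign_of_isSquare (hiff.2 (by rw [← hqdef]; omega))⟩
    · exact Or.inr ⟨h, by rw [Nat.pow_mod, h], by rw [Nat.pow_mod, h],
        sqSign_of_not fun hsq => hiff.1 hsq (by rw [← hqdef]; omega)⟩
  have hneg : sqSign ((-1 : F) ^ 2) = 1 := sqSign_of_isSquare (by simp)
  have hneg3 : sqSign ((-1 : F) ^ 3) = sqSign (-1 : F) := by norm_num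
  have h10 : (-1 : F) ≠ 0 := neg_ne_zero.2 one_ne_zero
  have hminus : ∀ e, 1 ≤ e → ∃ (R : QuadraticForm F (Fin (2 * e) → F)) (g : isometryGroup F ⇑R),
      (QuadraticMap.polarBilin R).Nondegenerate ∧ sd R = -sqSign ((-1 : F) ^ e) ∧ (ogVal g).det = 1 ∧
      orderOf g = q ^ e + 1 ∧ (Odd ((q ^ e + 1) / 2) → spin g = sd R) := fun e he => by
    obtain ⟨R, g, hR, hd, hg, ho, hsp⟩ := exists_minus (F := F) p h2 he
    refine ⟨R, g, hR, ?_, hg, ho, hsp⟩
    have h1 := sqSign_of_not hd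
    rw [sqSign_mul (pow_ne_zero _ h10) (dd_ne_zero hR)] at h1
    rw [sd]
    rcases Int.units_eq_one_or (sqSign ((-1 : F) ^ e)) with h | h <;> rw [h] at h1 ⊢ <;>
      simpa [neg_eq_iff_eq_neg] using h1
  have hplus : ∀ e, 1 ≤ e → ∃ (R : QuadraticForm F (Fin (2 * e) → F)) (g : isometryGroup F ⇑R),
      (QuadraticMap.polarBilin R).Nondegenerate ∧ sd R = sqSign ((-1 : F) ^ e) ∧ (ogVal g).det = 1 ∧
      orderOf g = q ^ e - 1 ∧ (Odd ((q ^ e - 1) / 2) → spin g = sd R) := fun e he => by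
    obtain ⟨R, g, hR, hd, hg, ho, hsp⟩ := exists_plus (F := F) p h2 he
    refine ⟨R, g, hR, ?_, hg, ho, hsp⟩
    have h1 := sqSign_of_isSquare hd
    rw [sqSign_mul (pow_ne_zero _ h10) (dd_ne_zero hR)] at h1
    rw [sd]
    exact (eq_inv_of_mul_eq_one_right h1).trans (Int.units_inv_eq_self _)
  obtain ⟨Y1, y1, hY1, hY1s, hy1d, hy1o, hy1p⟩ := hminus 1 le_rfl
  obtain ⟨Y2, y2, hY2, hY2s, hy2d, hy2o, hy2p⟩ := hminus 2 (by norm_num)
  obtain ⟨Y3, y3, hY3, hY3s, hy3d, hy3o, hy3p⟩ := hminus 3 (by norm_num)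
  obtain ⟨X1, x1, hX1, hX1s, hx1d, hx1o, hx1p⟩ := hplus 1 le_rfl
  obtain ⟨X2, x2, hX2, hX2s, hx2d, hx2o, hx2p⟩ := hplus 2 (by norm_num)
  obtain ⟨X3, x3, hX3, hX3s, hx3d, hx3o, hx3p⟩ := hplus 3 (by norm_num)
  rw [hneg] at hY2s hX2s
  rw [hneg3] at hY3s hX3s
  rw [pow_one] at hY1s hX1s hy1o hy1p hx1o hx1p
  -- two tori filling the space
  have hpairT : ∀ {κ₁ κ₂ : Type} [Fintype κ₁] [DecidableEq κ₁] [Fintype κ₂] [DecidableEq κ₂]
      {A : QuadraticForm F (κ₁ → F)} {B : QuadraticForm F (κ₂ → F)} {g : isometryGroup F ⇑A}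
      {k : isometryGroup F ⇑B} (N : ℕ), (QuadraticMap.polarBilin A).Nondegenerate →
      (QuadraticMap.polarBilin B).Nondegenerate → Fintype.card κ₁ + Fintype.card κ₂ = 8 → sd A * sd B = -1 →
      (ogVal g).det = 1 → (ogVal k).det = 1 → spin g = -1 → orderOf g = 2 * N → Odd N → 2 ∣ orderOf k →
      Good p T (Nat.lcm (orderOf g) (orderOf k)) := by
    intro κ₁ κ₂ _ _ _ _ A B g k N hA hB hcard hsd hgd hkd hgs hg hN hk
    obtain ⟨h, hh, ho⟩ := exists_pair_omega h2 hA hB hgd hkd hgs hg hN hk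
    obtain ⟨D⟩ := exists_iso_sd h2 (nondegenerate_sumQ hA hB) hT (by simp; omega)
      (by rw [sd_sumQ hA hB, hsd, hs])
    exact (show Good p (sumQ A B) _ from ⟨h, hh, Or.inl (by rw [ho])⟩).iso D
  have hnp : ∀ {N : ℕ}, ¬ p ∣ N → ∀ {M : ℕ}, M ∣ Nat.lcm N 2 → ¬ p ∣ M := fun hN M hM h => by
    rcases hp.dvd_mul.1 ((h.trans hM).trans (Nat.lcm_dvd_mul _ _)) with h' | h'
    · exact hN h'
    · exact absurd (Nat.le_of_dvd two_pos h') (by omega)
  have hcop : ∀ {N : ℕ}, ¬ p ∣ N → ∀ k, Nat.Coprime (p ^ k) N := fun hN k =>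
    ((hp.coprime_iff_not_dvd).2 hN).pow_left k
  -- a regular unipotent block next to an element
  have hreg : ∀ {κ₁ : Type} [Fintype κ₁] [DecidableEq κ₁] {A : QuadraticForm F (κ₁ → F)}
      {w : isometryGroup F ⇑A} (a M : ℕ), (QuadraticMap.polarBilin A).Nondegenerate → w ∈ Omega F ⇑A →
      p ^ a + Fintype.card κ₁ < 8 → M ∣ orderOf w → ¬ p ∣ orderOf w → Good p T (p ^ (a + 1) * M) := by
    intro κ₁ _ _ A w a M hA hw hcard hM hpw
    refine (good_regular h2 p a hT hA (by omega) hw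
      fun h => hpw ((dvd_pow_self p (Nat.succ_ne_zero a)).trans h)).mono ?_
    rw [(hcop hpw (a + 1)).lcm_eq_mul]
    exact Nat.mul_dvd_mul_left _ hM
  obtain ⟨hq2a, hq2b⟩ := not_dvd_pow_pm hp hpq (show 1 ≤ 2 by norm_num)
  obtain ⟨hq1a, hq1b⟩ := not_dvd_pow_pm hp hpq (show 1 ≤ 1 from le_rfl)
  rw [pow_one] at hq1a hq1b
  have h22 : q ^ 2 % 4 = 1 := by omega
  have hy2s : spin y2 = -1 := by rw [hy2p (Nat.odd_iff.2 (by omega)), hY2s]
  have hE2 : 2 ∣ q ^ 2 - 1 := by omega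
  refine ⟨?_, ?_, ?_, ?_, ?_, ?_, fun hp3' => ⟨?_, ?_⟩, fun hp5 => ?_⟩
  · rw [← hy2o, ← hx2o]
    exact hpairT ((q ^ 2 + 1) / 2) hY2 hX2 (by simp) (by rw [hY2s, hX2s, mul_one]) hy2d hx2d hy2s
      (by rw [hy2o]; omega) (Nat.odd_iff.2 (by omega)) (hx2o ▸ hE2)
  · rw [← hx3o, ← hy1o]
    rcases hmod with ⟨m1, -, m3, hsm⟩ | ⟨m1, -, m3, hsm⟩
    · rw [Nat.lcm_comm]
      exact hpairT ((q + 1) / 2) hY1 hX3 (by simp) (by rw [hY1s, hX3s, hsm]; decide) hy1d hx3d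
        (by rw [hy1p (Nat.odd_iff.2 (by omega)), hY1s, hsm]) (by rw [hy1o]; omega) (Nat.odd_iff.2 (by omega))
        (by rw [hx3o]; omega)
    · exact hpairT ((q ^ 3 - 1) / 2) hX3 hY1 (by simp) (by rw [hY1s, hX3s, hsm]; decide) hx3d hy1d
        (by rw [hx3p (Nat.odd_iff.2 (by omega)), hX3s, hsm]) (by rw [hx3o]; omega) (Nat.odd_iff.2 (by omega))
        (by rw [hy1o]; omega)
  · rw [← hy3o, ← hx1o]
    rcases hmod with ⟨m1, -, m3, hsm⟩ | ⟨m1, -, m3, hsm⟩
    · exact hpairT ((q ^ 3 + 1) / 2) hY3 hX1 (by simp) (by rw [hY3s, hX1s, hsm]; decide) hy3d hx1d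
        (by rw [hy3p (Nat.odd_iff.2 (by omega)), hY3s, hsm]) (by rw [hy3o]; omega) (Nat.odd_iff.2 (by omega))
        (by rw [hx1o]; omega)
    · rw [Nat.lcm_comm]
      exact hpairT ((q - 1) / 2) hX1 hY3 (by simp) (by rw [hY3s, hX1s, hsm]; decide) hx1d hy3d
        (by rw [hx1p (Nat.odd_iff.2 (by omega)), hX1s, hsm]) (by rw [hx1o]; omega) (Nat.odd_iff.2 (by omega))
        (by rw [hy3o]; omega)
  · obtain ⟨S, hS, h, hh, hdv, hdv'⟩ := adjust h2 hX2 hx2d
    rw [hx2o] at hdv hdv'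
    simpa using hreg 0 (q ^ 2 - 1) hS hh (by simp) hdv (hnp (hq2b (by omega)) hdv')
  · obtain ⟨h, hh, ho⟩ := exists_pair_omega h2 hY2 hX1 hy2d hx1d hy2s (N := (q ^ 2 + 1) / 2)
      (by rw [hy2o]; omega) (Nat.odd_iff.2 (by omega)) (by rw [hx1o]; omega)
    rw [hy2o, hx1o] at ho
    simpa using hreg 0 _ (nondegenerate_sumQ hY2 hX1) hh (by simp) (by rw [ho]) (fun hd => by
      rcases hp.dvd_mul.1 ((ho ▸ hd).trans (Nat.lcm_dvd_mul _ _)) with h' | h'
      exacts [hq2a h', hq1b (by omega) h'])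
  · obtain ⟨h, hh, ho⟩ := exists_pair_omega h2 hY2 hY1 hy2d hy1d hy2s (N := (q ^ 2 + 1) / 2)
      (by rw [hy2o]; omega) (Nat.odd_iff.2 (by omega)) (by rw [hy1o]; omega)
    rw [hy2o, hy1o] at ho
    simpa using hreg 0 _ (nondegenerate_sumQ hY2 hY1) hh (by simp) (by rw [ho]) (fun hd => by
      rcases hp.dvd_mul.1 ((ho ▸ hd).trans (Nat.lcm_dvd_mul _ _)) with h' | h'
      exacts [hq2a h', hq1a h'])
  · obtain ⟨S, hS, h, hh, hdv, hdv'⟩ := adjust h2 hX1 hx1d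
    rw [hx1o] at hdv hdv'
    have := hreg 1 (q - 1) hS hh (by simp; omega) hdv (hnp (hq1b (by omega)) hdv')
    rwa [hp3', show 3 ^ (1 + 1) = 9 by norm_num, ← hp3'] at this
  · obtain ⟨S, hS, h, hh, hdv, hdv'⟩ := adjust h2 hY1 hy1d
    rw [hy1o] at hdv hdv'
    have := hreg 1 (q + 1) hS hh (by simp; omega) hdv (hnp hq1a hdv')
    rwa [hp3', show 3 ^ (1 + 1) = 9 by norm_num, ← hp3'] at this
  · obtain ⟨Z, hZ, hZs⟩ := exists_filler (F := F) h2 (r := 2) (by norm_num) 1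
    have hzo : orderOf (negOne Z) = 2 := by
      haveI := Fact.mk Nat.prime_two
      refine orderOf_eq_prime (ogVal_ext ?_) fun h => ?_
      · rw [PrimeGraphBC.ogVal_pow, ogVal_negOne, ogVal_one, neg_one_sq]
      · have h1 := congrFun (congrFun (congrArg ogVal h) 0) 0
        rw [ogVal_negOne, ogVal_one, Matrix.neg_apply, Matrix.one_apply_eq] at h1
        exact h2 (by linear_combination -h1)
    have := hreg 1 2 hZ (PrimeGraphBC.mem_omega_of_det h2 hZ (det_negOne_even (by simp))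
      (by rw [spin_negOne h2 hZ (by simp), ← sd, hZs])) (by simp; omega) (by rw [hzo]) (by
        rw [hzo]; intro h; have := Nat.le_of_dvd two_pos h; omega)
    rwa [hp5, show 5 ^ (1 + 1) * 2 = 50 by norm_num, ← hp5] at this

end Cfsg.Agent.Classical.Spectra
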