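import Cfsg.Agent.Lib.Classical.SpectraTargets
import Cfsg.Agent.Lib.Classical.SpectraRoots
import Cfsg.Agent.Lib.Classical.OrthGenModels

/-!
The eigenvalue multiset of an isometry, and the irreducible cases in plus type of dimension eight.
-/

set_option autoImplicit false
set_option linter.unusedSectionVars false
set_option quotPrecheck false

namespace Cfsg.Agent.Classical.Spectra

open Matrix Polynomial Module Cfsg Cfsg.Agent.Classical.OrthAut

variable {F : Type*} [Field F] [Fintype F] {ι : Type} [Fintype ι] [DecidableEq ι]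
  {Q : QuadraticForm F (ι → F)} {K : Type*} [Field K] [Algebra F K] [IsAlgClosed K] [DecidableEq K]

theorem eigRoots_map_frob (G : Matrix ι ι F) :
    (eigRoots K G).map (fun x => x ^ Fintype.card F) = eigRoots K G := by
  set φ : K →+* K := (FiniteField.frobeniusAlgHom F K).toRingHom
  have h := (IsAlgClosed.splits ((G.map (algebraMap F K)).charpoly)).roots_map φ
  have h1 : ((G.map (algebraMap F K)).charpoly).map φ = (G.map (algebraMap F K)).charpoly := by
    rw [Matrix.charpoly_map, Polynomial.map_map]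
    congr 1
    exact RingHom.ext fun c => (FiniteField.frobeniusAlgHom F K).commutes c
  rw [h1] at h
  conv_rhs => rw [eigRoots, h]
  rfl

theorem roots_inv_charpoly {k : Type*} [Field k] [IsAlgClosed k] (A : Matrix ι ι k) (hA : A.det ≠ 0) :
    (A⁻¹).charpoly.roots = A.charpoly.roots.map fun x => x⁻¹ := by
  classical
  have hz : ∀ a ∈ A.charpoly.roots, a ≠ 0 := fun a ha h0 => hA (by
    rw [Matrix.det_eq_prod_roots_charpoly, Multiset.prod_eq_zero]
    exact h0 ▸ ha)
  have hrev : ∀ S : Multiset k, (∀ a ∈ S, a ≠ 0) →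
      ∃ c : k, c ≠ 0 ∧ (S.map fun a => X - C a).prod.reverse =
        C c * ((S.map fun x => x⁻¹).map fun a => X - C a).prod := by
    intro S
    induction S using Multiset.induction with
    | empty => intro _; exact ⟨1, one_ne_zero, by simp [Polynomial.reverse]⟩
    | cons a S ih =>
      intro hS
      obtain ⟨c, hc, he⟩ := ih fun x hx => hS x (Multiset.mem_cons_of_mem hx)
      have ha := hS a (Multiset.mem_cons_self a S)
      refine ⟨-a * c, mul_ne_zero (neg_ne_zero.2 ha) hc, ?_⟩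
      have h1 : (X - C a : k[X]).reverse = C (-a) * (X - C a⁻¹) := by
        rw [Polynomial.reverse, natDegree_X_sub_C, reflect_sub, reflect_C]
        rw [show (X : k[X]) = X ^ 1 from (pow_one _).symm, reflect_monomial]
        simp only [revAt_le (le_refl 1), Nat.sub_self, pow_zero, pow_one]
        rw [mul_sub, ← C_mul, neg_mul, mul_inv_cancel₀ ha, map_neg, map_neg, map_one]
        ring
      simp only [Multiset.map_cons, Multiset.prod_cons]
      rw [reverse_mul_of_domain, h1, he, C_mul]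
      ring
  obtain ⟨c, hc, he⟩ := hrev _ hz
  rw [← (IsAlgClosed.splits _).eq_prod_roots_of_monic A.charpoly_monic, Matrix.reverse_charpoly] at he
  rw [Matrix.charpoly_inv A ((Matrix.isUnit_iff_isUnit_det A).2 (Ne.isUnit hA)), Ring.inverse_eq_inv', he,
    show ((-1 : k[X]) ^ Fintype.card ι) = C ((-1 : k) ^ Fintype.card ι) by simp,
    ← mul_assoc, ← C_mul, ← C_mul,
    roots_C_mul _ (mul_ne_zero (mul_ne_zero (pow_ne_zero _ (neg_ne_zero.2 one_ne_zero)) (inv_ne_zero hA)) hc),
    roots_multiset_prod_X_sub_C]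

theorem eigRoots_map_inv (hQ : (QuadraticMap.polarBilin Q).Nondegenerate) (g : isometryGroup F ⇑Q) :
    (eigRoots K (ogVal g)).map (fun x => x⁻¹) = eigRoots K (ogVal g) := by
  obtain ⟨hM, -⟩ := PrimeGraphBC.gram_facts hQ
  obtain ⟨hd, hMH⟩ := isometry_transpose hQ g
  set AK := (ogVal g).map (algebraMap F K)
  set MK := (PrimeGraphBC.gram Q).map (algebraMap F K)
  have hdK : AK.det ≠ 0 := by
    show ((algebraMap F K).mapMatrix (ogVal g)).det ≠ 0
    rw [← RingHom.map_det]; exact (_root_.map_ne_zero _).mpr hd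
  have hMK : IsUnit MK := by
    rw [Matrix.isUnit_iff_isUnit_det]
    refine Ne.isUnit ?_
    show ((algebraMap F K).mapMatrix (PrimeGraphBC.gram Q)).det ≠ 0
    rw [← RingHom.map_det]; exact (_root_.map_ne_zero _).mpr hM
  have hH : AK⁻¹ = (ogVal g⁻¹).map (algebraMap F K) := by
    refine Matrix.inv_eq_right_inv ?_
    rw [← Matrix.map_mul, ← ogVal_mul, mul_inv_cancel, ogVal_one]
    simp
  have e : MK * AK⁻¹ = AKᵀ * MK := by
    rw [hH, ← Matrix.map_mul, hMH, Matrix.map_mul, Matrix.transpose_map]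
  obtain ⟨u, hu⟩ := hMK
  have e2 : AK⁻¹ = ((u⁻¹ : (Matrix ι ι K)ˣ) : Matrix ι ι K) * AKᵀ * u := by
    rw [Matrix.mul_assoc, hu, ← e, ← Matrix.mul_assoc, ← hu, Units.inv_mul, Matrix.one_mul]
  rw [eigRoots, ← roots_inv_charpoly AK hdK, e2, Matrix.coe_units_inv, Matrix.charpoly_units_conj',
    Matrix.charpoly_transpose]

theorem stable_eigRoots (hQ : (QuadraticMap.polarBilin Q).Nondegenerate) (g : isometryGroup F ⇑Q)
    (h1 : (ogVal g - 1).det ≠ 0) (hm1 : (ogVal g + 1).det ≠ 0) : Stable F (eigRoots K (ogVal g)) := by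
  have hinj : Function.Injective fun x : K => x ^ Fintype.card F := by
    simpa using card_pow_injective (F := F) (K := K) 1
  refine ⟨fun x => ?_, fun x => ?_, fun x hx => ⟨?_, ?_, ?_⟩⟩
  · conv_lhs => rw [← eigRoots_map_frob (ogVal g)]
    exact Multiset.count_map_eq_count' _ _ hinj _
  · conv_lhs => rw [← eigRoots_map_inv hQ g]
    exact Multiset.count_map_eq_count' _ _ inv_injective _
  · rintro rfl
    have h3 := PrimeGraphBC.det_eq_prod_eigRoots (K := K) (ogVal g)
    rw [Multiset.prod_eq_zero hx, map_eq_zero] at h3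
    exact (isometry_transpose hQ g).1 h3
  · rintro rfl
    have h3 := PrimeGraphBC.det_scalar_sub (K := K) (ogVal g) 1
    rw [Multiset.prod_eq_zero (Multiset.mem_map.2 ⟨1, hx, by simp⟩), map_eq_zero, map_one] at h3
    refine h1 ?_
    rw [← neg_sub, Matrix.det_neg, h3, mul_zero]
  · rintro rfl
    have h3 := PrimeGraphBC.det_scalar_sub (K := K) (ogVal g) (-1)
    rw [Multiset.prod_eq_zero (Multiset.mem_map.2 ⟨-1, hx, by simp⟩), map_eq_zero, map_neg, map_one] at h3
    refine hm1 ?_
    rw [show ogVal g + 1 = -(-1 - ogVal g) by abel, Matrix.det_neg, h3, mul_zero]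

theorem pow_of_roots (p : ℕ) [Fact p.Prime] [CharP F p] [CharP K p] (g : isometryGroup F ⇑Q) {c M : ℕ}
    (hM : M ≠ 0) (hroot : ∀ x ∈ eigRoots K (ogVal g), x ^ M = 1)
    (hmult : ∀ x ∈ eigRoots K (ogVal g), (eigRoots K (ogVal g)).count x ≤ p ^ c) : g ^ (p ^ c * M) = 1 := by
  refine ogVal_ext ?_
  rw [PrimeGraphBC.ogVal_pow, ogVal_one]
  exact pow_eq_one_of_eigRoots (K := K) p (ogVal g) hM hroot hmult

variable (h2 : (2 : F) ≠ 0) (hQ : (QuadraticMap.polarBilin Q).Nondegenerate) (g : isometryGroup F ⇑Q)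
include h2 hQ

theorem isSquare_det_pm {n : ℕ} (hn : Fintype.card ι = n) (he : Even n) (hd : (ogVal g).det = 1)
    (h1 : (ogVal g - 1).det ≠ 0) (hm1 : (ogVal g + 1).det ≠ 0) :
    IsSquare (dd Q * ((ogVal g - 1).det * (ogVal g + 1).det)) := by
  classical
  obtain ⟨hMd, hG⟩ := PrimeGraphBC.gram_facts hQ
  obtain ⟨-, hMH⟩ := isometry_transpose hQ g
  set G := ogVal g
  set H := ogVal g⁻¹
  set M := PrimeGraphBC.gram Q
  have hHG : H * G = 1 := by rw [← ogVal_mul, inv_mul_cancel, ogVal_one]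
  have hHd : H.det = 1 := by
    have h := congrArg Matrix.det hHG
    rwa [Matrix.det_mul, hd, mul_one, Matrix.det_one] at h
  have hGH : G * H = 1 := by rw [← ogVal_mul, mul_inv_cancel, ogVal_one]
  have hMs : Mᵀ = M := by
    ext i j
    rw [Matrix.transpose_apply]
    show PrimeGraphBC.gram Q j i = PrimeGraphBC.gram Q i j
    rw [gram_apply, gram_apply, QuadraticMap.polar_comm]
  have hK : (M * (G - H))ᵀ = -(M * (G - H)) := by
    have e1 : Hᵀ * M = M * G := by
      have e := congrArg (fun X => Hᵀ * X * G) hMH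
      simp only [← Matrix.mul_assoc] at e
      rw [← Matrix.transpose_mul, hGH, Matrix.transpose_one, Matrix.one_mul, Matrix.mul_assoc (Hᵀ * M),
        hHG, Matrix.mul_one] at e
      exact e
    rw [Matrix.transpose_mul, Matrix.transpose_sub, hMs, Matrix.sub_mul, ← hMH, e1, Matrix.mul_sub, neg_sub]
  let e := Fintype.equivFinOfCardEq hn
  set K' := (M * (G - H)).submatrix e.symm e.symm
  have hdet : K'.det = dd Q * ((G - 1).det * (G + 1).det) := by
    rw [Matrix.det_submatrix_equiv_self, Matrix.det_mul, dd,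
      show G - H = H * ((G - 1) * (G + 1)) by
        rw [show (G - 1) * (G + 1) = G * G - 1 by noncomm_ring, Matrix.mul_sub, ← Matrix.mul_assoc, hHG,
          Matrix.one_mul, Matrix.mul_one],
      Matrix.det_mul, hHd, one_mul, Matrix.det_mul]
  rw [← hdet]
  refine PrimeGraphBC.isSquare_det_of_alternating (fun v => ?_) (by
    rw [hdet]; exact mul_ne_zero hMd (mul_ne_zero h1 hm1))
  have h : v ⬝ᵥ (K' *ᵥ v) = -(v ⬝ᵥ (K' *ᵥ v)) := by
    conv_lhs => rw [Matrix.dotProduct_mulVec, ← Matrix.mulVec_transpose, Matrix.transpose_submatrix, hK,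
      dotProduct_comm]
    rw [show (-(M * (G - H))).submatrix e.symm e.symm = -K' from rfl, Matrix.neg_mulVec, dotProduct_neg]
  exact (mul_eq_zero.1 (show (2 : F) * (v ⬝ᵥ (K' *ᵥ v)) = 0 by linear_combination h)).resolve_left h2

/-- An eight-fold orbit of eigenvalues forces minus type. -/
theorem not_minus_orbit (hn : Fintype.card ι = 8) (hd : (ogVal g).det = 1) (hs : sd Q = 1)
    (h1 : (ogVal g - 1).det ≠ 0) (hm1 : (ogVal g + 1).det ≠ 0) {C : Finset K} {x : K}
    (hR : C.val = eigRoots K (ogVal g)) (hC : C = (Finset.range 8).image fun i => x ^ Fintype.card F ^ i)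
    (hcard : C.card = 8) (hx0 : x ≠ 0) (hxe : x ^ (Fintype.card F ^ 4 + 1) = 1) (hx : x ^ 2 ≠ 1) : False := by
  classical
  set q := Fintype.card F
  have hsq := isSquare_det_pm h2 hQ g hn (by decide) hd h1 hm1
  have hddsq : IsSquare (dd Q) := by
    by_contra h
    rw [sd, sqSign_of_not h] at hs
    exact absurd hs (by decide)
  obtain ⟨t, ht⟩ := hsq
  obtain ⟨r, hr⟩ := hddsq
  have hdd := dd_ne_zero hQ
  have hc : IsSquare ((ogVal g - 1).det * (ogVal g + 1).det) := ⟨t / r, by
    have hr0 : r ≠ 0 := fun h => hdd (by rw [hr, h, mul_zero])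
    rw [hr] at ht
    field_simp
    linear_combination ht⟩
  have hq : 1 ≤ q := Fintype.card_pos
  have hI : Set.InjOn (fun i => x ^ q ^ i) (Finset.range 8 : Set ℕ) :=
    Finset.injOn_of_card_image_eq (by rw [← hC, hcard, Finset.card_range])
  have e1 : ∀ c : F, algebraMap F K (Matrix.scalar ι c - ogVal g).det =
      ∏ i ∈ Finset.range 8, (algebraMap F K c - x ^ q ^ i) := fun c => by
    rw [PrimeGraphBC.det_scalar_sub, ← hR, ← Finset.prod_eq_multiset_prod, hC, Finset.prod_image hI]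
  have e2 : ∏ i ∈ Finset.range 8, x ^ q ^ i = 1 := by
    have h := PrimeGraphBC.det_eq_prod_eigRoots (K := K) (ogVal g)
    rw [hd, map_one, ← hR, ← Multiset.map_id C.val, ← Finset.prod_eq_multiset_prod, hC, Finset.prod_image hI] at h
    exact h.symm
  set δ := x - x⁻¹
  have hδ0 : δ ≠ 0 := fun h => hx (by
    rw [sq]; rw [sub_eq_zero] at h; nth_rewrite 1 [h]; exact inv_mul_cancel₀ hx0)
  have hδp : ∀ i, δ ^ q ^ i = x ^ q ^ i - (x ^ q ^ i)⁻¹ := fun i => by
    induction i with
    | zero => simp [δ]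
    | succ i ih =>
      rw [pow_succ, pow_mul, ih, pow_mul]
      show FiniteField.frobeniusAlgHom F K (x ^ q ^ i - (x ^ q ^ i)⁻¹) = _
      rw [map_sub, map_inv₀]
      rfl
  have e3 : algebraMap F K ((ogVal g - 1).det * (ogVal g + 1).det) = δ ^ ∑ i ∈ Finset.range 8, q ^ i := by
    have ha : (ogVal g - 1).det = (Matrix.scalar ι (1 : F) - ogVal g).det := by
      rw [← neg_sub, Matrix.det_neg, hn, map_one, show ((-1 : F) ^ 8) = 1 by norm_num, one_mul]
    have hb : (ogVal g + 1).det = (Matrix.scalar ι (-1 : F) - ogVal g).det := by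
      rw [show ogVal g + 1 = -(-1 - ogVal g) by abel, Matrix.det_neg, hn, map_neg, map_one,
        show ((-1 : F) ^ 8) = 1 by norm_num, one_mul]
    rw [ha, hb, map_mul, e1, e1, map_neg, map_one, ← Finset.prod_pow_eq_pow_sum, ← Finset.prod_mul_distrib,
      show (∏ i ∈ Finset.range 8, δ ^ q ^ i) = (∏ i ∈ Finset.range 8, δ ^ q ^ i) * ∏ i ∈ Finset.range 8, x ^ q ^ i by
        rw [e2, mul_one],
      ← Finset.prod_mul_distrib]
    refine Finset.prod_congr rfl fun i _ => ?_
    rw [hδp]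
    field_simp [pow_ne_zero _ hx0]
    ring
  have hc0 : (ogVal g - 1).det * (ogVal g + 1).det ≠ 0 := mul_ne_zero h1 hm1
  rw [FiniteField.isSquare_iff (fun h => h2 (by haveI := ringChar.of_eq h; exact CharTwo.two_eq_zero)) hc0] at hc
  have h4 := congrArg (algebraMap F K) hc
  rw [map_pow, e3, map_one, ← pow_mul] at h4
  obtain ⟨m, hm⟩ : Odd q := Nat.odd_iff.2 (FiniteField.odd_card_of_char_ne_two fun h => h2 (by
    haveI := ringChar.of_eq h; exact CharTwo.two_eq_zero))
  obtain ⟨s, hs'⟩ : ∃ s, q ^ 4 = 4 * s + 1 := ⟨q ^ 4 / 4, by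
    have : q ^ 4 % 4 = 1 := by
      rw [Nat.pow_mod]
      rcases (by omega : q % 4 = 1 ∨ q % 4 = 3) with h | h <;> rw [h]
    omega⟩
  have hexp : (∑ i ∈ Finset.range 8, q ^ i) * (q / 2) = 4 * s * (2 * s + 1) := by
    refine Nat.eq_of_mul_eq_mul_left (show 0 < 2 by norm_num) ?_
    have hgeom : (∑ i ∈ Finset.range 8, q ^ i) * (2 * m) + 1 = q ^ 8 := by
      rw [hm]; simp only [Finset.sum_range_succ, Finset.sum_range_zero]; ring
    rw [show q / 2 = m by omega]
    have h8 : q ^ 8 = (4 * s + 1) * (4 * s + 1) := by rw [← hs', ← pow_add]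
    nlinarith
  have hδ4 : δ ^ (4 * s) = -1 := by
    refine mul_right_cancel₀ hδ0 ?_
    have hxi : x ^ q ^ 4 = x⁻¹ := eq_inv_of_mul_eq_one_left (by rw [← pow_succ]; exact hxe)
    rw [← pow_succ, ← hs', hδp, hxi, inv_inv]
    ring
  rw [hexp, pow_mul, hδ4, Odd.neg_one_pow ⟨s, rfl⟩] at h4
  have h6 : (2 : K) ≠ 0 := by
    rw [← map_ofNat (algebraMap F K) 2]
    exact (_root_.map_ne_zero _).2 h2
  exact h6 (by linear_combination -h4)

end Cfsg.Agent.Classical.Spectra
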