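import Cfsg.Agent.Lib.Classical.SpectraSemi
import Cfsg.Agent.Lib.Classical.SympBlocks

/-!
Cyclic tori in orthogonal groups, given by an algebra with an involution, and the spinor norm of `-1`.
-/

set_option autoImplicit false
set_option linter.unusedSectionVars false
set_option quotPrecheck false

namespace Cfsg.Agent.Classical.Spectra

open Matrix Module Cfsg Cfsg.Agent.Classical.OrthAut

variable {F : Type*} [Field F] [Fintype F]

/-! ### The spinor norm of `-1` -/

section Neg

variable {ι κ : Type} [Fintype ι] [DecidableEq ι] [Fintype κ] [DecidableEq κ]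
  {Q : QuadraticForm F (ι → F)} {R : QuadraticForm F (κ → F)}

theorem sqSign_congr {x y : F} (hx : x ≠ 0) (hy : y ≠ 0) (h : IsSquare (x * y)) : sqSign x = sqSign y := by
  have h1 := sqSign_mul hx hy
  rw [sqSign_of_isSquare h] at h1
  rcases Int.units_eq_one_or (sqSign x) with e | e <;> rcases Int.units_eq_one_or (sqSign y) with e' | e' <;>
    simp [e, e'] at h1 ⊢

theorem og_negOne (D : IsoData Q R) : D.og (negOne Q) = negOne R := by
  refine ogVal_ext ?_
  show D.M * ogVal (negOne Q) * D.N = ogVal (negOne R)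
  rw [ogVal_negOne, ogVal_negOne, Matrix.mul_neg, Matrix.mul_one, Matrix.neg_mul, D.MN]

theorem spin_negOne_diag (h2 : (2 : F) ≠ 0) {w : ι → F} (hw : ∀ i, w i ≠ 0) (he : Even (Fintype.card ι)) :
    spin (negOne (PrimeGraphBC.qMat (Matrix.diagonal w))) = sqSign (∏ i, w i) := by
  classical
  set Q₀ := PrimeGraphBC.qMat (Matrix.diagonal w)
  have hQ : (QuadraticMap.polarBilin Q₀).Nondegenerate := nd_diag h2 hw
  have hpol : ∀ i x, QuadraticMap.polar ⇑Q₀ (Pi.single i 1) x = w i * x i := fun i x => by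
    rw [← QuadraticMap.polarBilin_apply_apply,
      PrimeGraphBC.polarBilin_qMat h2 (Matrix.diagonal_transpose _), Matrix.toBilin'_apply', single_dotProduct,
      one_mul, Matrix.mulVec_diagonal]
  have hval : ∀ i, Q₀ (Pi.single i 1) = w i / 2 := fun i => by
    have h := hpol i (Pi.single i 1)
    rw [polar_self2, Pi.single_eq_same, mul_one] at h
    rw [eq_div_iff h2, mul_comm]; exact h
  have hne : ∀ i, Q₀ (Pi.single i 1) ≠ 0 := fun i => by rw [hval]; exact div_ne_zero (hw i) h2
  have key : ∀ s : Finset ι, ∃ g : isometryGroup F ⇑Q₀,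
      ogVal g = Matrix.diagonal (fun i => if i ∈ s then (-1 : F) else 1) ∧
        spin g = sqSign (∏ i ∈ s, w i / 2) := by
    intro s
    induction s using Finset.induction with
    | empty =>
      refine ⟨1, by simp [ogVal_one], ?_⟩
      rw [Finset.prod_empty, sqSign_of_isSquare IsSquare.one, ← spinHom_apply hQ, map_one]
    | insert a s ha ih =>
      obtain ⟨g, hg, hgs⟩ := ih
      refine ⟨refl (hne a) * g, ?_, ?_⟩
      · have hr : ogVal (refl (hne a)) = Matrix.diagonal (fun i => if i = a then (-1 : F) else 1) := by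
          refine Matrix.ext_iff_mulVec.2 fun x => ?_
          rw [refl_apply, hpol, hval]
          funext i
          rw [Matrix.mulVec_diagonal, Pi.sub_apply, Pi.smul_apply, Pi.single_apply]
          split_ifs with h
          · subst h
            field_simp [hw i]
            ring
          · simp
        rw [ogVal_mul, hr, hg, Matrix.diagonal_mul_diagonal]
        congr 1
        funext i
        rcases eq_or_ne i a with rfl | h <;> simp [*]
      · rw [spin_mul hQ, spin_refl hQ, hgs, hval, Finset.prod_insert ha,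
          sqSign_mul (div_ne_zero (hw a) h2) (Finset.prod_ne_zero_iff.2 fun i _ => div_ne_zero (hw i) h2)]
  obtain ⟨g, hg, hgs⟩ := key Finset.univ
  have hgn : g = negOne Q₀ := ogVal_ext (by
    rw [hg, ogVal_negOne, ← Matrix.diagonal_one, Matrix.diagonal_neg]; simp)
  rw [← hgn, hgs]
  obtain ⟨k, hk⟩ := he
  refine sqSign_congr (Finset.prod_ne_zero_iff.2 fun i _ => div_ne_zero (hw i) h2)
    (Finset.prod_ne_zero_iff.2 fun i _ => hw i) ⟨(∏ i, w i) / 2 ^ k, ?_⟩
  rw [Finset.prod_div_distrib, Finset.prod_const, Finset.card_univ, hk, pow_add]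
  field_simp

/-- In even dimension the spinor norm of `-1` is the discriminant. -/
theorem spin_negOne (h2 : (2 : F) ≠ 0) (hQ : (QuadraticMap.polarBilin Q).Nondegenerate)
    (he : Even (Fintype.card ι)) : spin (negOne Q) = sqSign (dd Q) := by
  classical
  rcases isEmpty_or_nonempty ι with hι | ⟨⟨i₀⟩⟩
  · have h1 : negOne Q = 1 := ogVal_ext (Subsingleton.elim _ _)
    have h3 : dd Q = 1 := by rw [dd, Matrix.det_isEmpty]
    rw [h1, h3, sqSign_of_isSquare IsSquare.one, ← spinHom_apply hQ, map_one]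
  set w : ι → F := fun i => if i = i₀ then dd Q else 1 with hwd
  have hw : ∀ i, w i ≠ 0 := fun i => by
    simp only [w]; split_ifs
    exacts [dd_ne_zero hQ, one_ne_zero]
  have hp : ∏ i, w i = dd Q := by simp [w]
  obtain ⟨D⟩ := exists_iso (R := Q) h2 (nd_diag h2 hw) hQ rfl (by rw [dd_diag h2, hp]; exact IsSquare.mul_self _)
  rw [← og_negOne D, spin_og h2 (nd_diag h2 hw) hQ D, spin_negOne_diag h2 hw he, hp]

theorem det_negOne_even (he : Even (Fintype.card ι)) : (ogVal (negOne Q)).det = 1 := by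
  rw [ogVal_negOne, Matrix.det_neg, Matrix.det_one, mul_one, he.neg_one_pow]

end Neg

/-! ### Tori from algebras with involution -/

/-- Multiplication by a norm-one unit as an isometry of the twisted trace form. -/
theorem exists_torus {A : Type*} [CommRing A] [Algebra F A] [Module.Free F A] [Module.Finite F A] {n : ℕ}
    (hn : finrank F A = n) (h2 : (2 : F) ≠ 0) (σ : A ≃ₐ[F] A) (hσ : ∀ x, σ (σ x) = x)
    (hnd : ∀ x, (∀ y, Algebra.trace F A (x * y) = 0) → x = 0) {a : A} (ha : a * σ a = 1)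
    {δ : A} (hδ : σ δ = -δ) (hδu : IsUnit δ) :
    ∃ (R : QuadraticForm F (Fin n → F)) (g : isometryGroup F ⇑R),
      (QuadraticMap.polarBilin R).Nondegenerate ∧ (ogVal g).det = Algebra.norm F a ∧
      (∀ k, g ^ k = 1 ↔ a ^ k = 1) ∧ (∀ k, a ^ k = -1 → g ^ k = negOne R) ∧
      IsSquare (dd R * Algebra.norm F δ) := by
  classical
  let b := Module.finBasisOfFinrankEq F A hn
  let e : A ≃ₗ[F] (Fin n → F) := b.equivFun
  let β : LinearMap.BilinForm F A := LinearMap.mk₂ F (fun x y => Algebra.trace F A (x * σ y))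
    (fun x x' y => by rw [add_mul, map_add]) (fun c x y => by rw [smul_mul_assoc, map_smul])
    (fun x y y' => by rw [map_add, mul_add, map_add]) (fun c x y => by rw [map_smul, mul_smul_comm, map_smul])
  have hβ : ∀ x y, β x y = Algebra.trace F A (x * σ y) := fun x y => rfl
  set M : Matrix (Fin n) (Fin n) F :=
    LinearMap.BilinForm.toMatrix' (β.compl₁₂ e.symm.toLinearMap e.symm.toLinearMap) with hMdef
  have hM : ∀ u v, u ⬝ᵥ (M *ᵥ v) = β (e.symm u) (e.symm v) := fun u v => by
    rw [hMdef, ← Matrix.toBilin'_apply', Matrix.toBilin'_toMatrix']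
    rfl
  have hsym : ∀ x y, β x y = β y x := fun x y => by
    rw [hβ, hβ, ← Algebra.trace_eq_of_algEquiv σ (y * σ x), map_mul σ, hσ, mul_comm]
  have hMs : Mᵀ = M := by
    refine Matrix.ext fun i j => ?_
    have h := hM (Pi.single j 1) (Pi.single i 1)
    rw [hsym, ← hM, single_dotProduct, single_dotProduct, Matrix.mulVec_single_one, Matrix.mulVec_single_one] at h
    simpa using h
  have hMd : M.det ≠ 0 := by
    intro h0
    obtain ⟨v, hv, hv0⟩ := Matrix.exists_mulVec_eq_zero_iff.2 h0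
    refine hv ((LinearEquiv.map_eq_zero_iff e.symm).1 ?_)
    have h1 : σ (e.symm v) = 0 := hnd _ fun y => by
      rw [mul_comm, ← hβ, ← e.symm_apply_apply y, ← hM, hv0, dotProduct_zero]
    exact σ.injective (h1.trans (map_zero σ).symm)
  have hL : ∀ (c : A) (v : Fin n → F), e.symm (Algebra.leftMulMatrix b c *ᵥ v) = c * e.symm v := fun c v => by
    have h := Algebra.leftMulMatrix_mulVec_repr b c (e.symm v)
    rw [show (⇑(b.repr (e.symm v)) : Fin n → F) = v from e.apply_symm_apply v] at h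
    rw [h]
    exact e.symm_apply_apply _
  set G := Algebra.leftMulMatrix b a
  have hG : Gᵀ * M * G = M := by
    refine Matrix.toBilin'.injective (LinearMap.ext fun u => LinearMap.ext fun v => ?_)
    rw [Matrix.toBilin'_apply', Matrix.toBilin'_apply', ← Matrix.mulVec_mulVec, ← Matrix.mulVec_mulVec,
      Matrix.dotProduct_mulVec u, Matrix.vecMul_transpose, hM, hM, hL, hL, hβ, hβ, map_mul σ]
    congr 1
    linear_combination (e.symm u * σ (e.symm v)) * ha
  set g := PrimeGraphBC.isoOf hMd G hG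
  have hgk : ∀ k, ogVal (g ^ k) = Algebra.leftMulMatrix b (a ^ k) := fun k => by
    rw [PrimeGraphBC.ogVal_pow, PrimeGraphBC.ogVal_isoOf, map_pow]
  refine ⟨_, g, PrimeGraphBC.nondegenerate_qMat h2 hMs hMd, ?_, fun k => ⟨fun h => ?_, fun h => ?_⟩, fun k h => ?_, ?_⟩
  · rw [PrimeGraphBC.ogVal_isoOf, Algebra.norm_eq_matrix_det b]
  · refine Algebra.leftMulMatrix_injective b ?_
    rw [← hgk, h, ogVal_one, map_one]
  · refine ogVal_ext ?_
    rw [hgk, h, map_one, ogVal_one]
  · refine ogVal_ext ?_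
    rw [hgk, h, map_neg, map_one, ogVal_negOne]
  · rw [dd_qMat h2 hMs, Algebra.norm_eq_matrix_det b, ← Matrix.det_mul]
    refine PrimeGraphBC.isSquare_det_of_alternating (fun v => ?_) ?_
    · rw [← Matrix.mulVec_mulVec, hM, hL, hβ]
      set x := e.symm v
      have h1 := Algebra.trace_eq_of_algEquiv σ (x * σ (δ * x))
      rw [map_mul σ, hσ, show σ x * (δ * x) = -(x * σ (δ * x)) by rw [map_mul σ, hδ]; ring, map_neg] at h1
      exact (mul_eq_zero.1 (by linear_combination -h1 :
        (2 : F) * Algebra.trace F A (x * σ (δ * x)) = 0)).resolve_left h2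
    · rw [Matrix.det_mul]
      exact mul_ne_zero hMd ((hδu.map (Algebra.leftMulMatrix b)).map Matrix.detMonoidHom).ne_zero

theorem half_parity {q : ℕ} (hq : Odd q) (e : ℕ) : (q ^ e - 1) / 2 % 2 = e * ((q - 1) / 2) % 2 := by
  obtain ⟨m, rfl⟩ := hq
  induction e with
  | zero => simp
  | succ e ih =>
    obtain ⟨t, ht⟩ : ∃ t, (2 * m + 1) ^ e = 2 * t + 1 := (show Odd (2 * m + 1) from ⟨m, rfl⟩).pow
    rw [ht] at ih
    rw [pow_succ, ht, show (2 * t + 1) * (2 * m + 1) - 1 = 2 * (2 * (t * m) + t + m) by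
      rw [show (2 * t + 1) * (2 * m + 1) = 2 * (2 * (t * m) + t + m) + 1 by ring, Nat.add_sub_cancel]]
    simp only [Nat.mul_div_cancel_left _ (show 0 < 2 by norm_num), Nat.add_sub_cancel] at ih ⊢
    rw [Nat.add_mul, one_mul]
    omega

variable {p : ℕ} [Fact p.Prime] [CharP F p]

/-- An element of order `q ^ e + 1` in the minus orthogonal group of dimension `2 e`. -/
theorem exists_minus (p : ℕ) [Fact p.Prime] [CharP F p] (h2 : (2 : F) ≠ 0) {e : ℕ} (he : 1 ≤ e) :
    ∃ (R : QuadraticForm F (Fin (2 * e) → F)) (g : isometryGroup F ⇑R),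
      (QuadraticMap.polarBilin R).Nondegenerate ∧ ¬ IsSquare ((-1) ^ e * dd R) ∧ (ogVal g).det = 1 ∧
      orderOf g = Fintype.card F ^ e + 1 ∧
      (Odd ((Fintype.card F ^ e + 1) / 2) → spin g = sqSign (dd R)) := by
  classical
  haveI : NeZero (2 * e) := ⟨by omega⟩
  set q := Fintype.card F with hqdef
  have hqodd : Odd q := Nat.odd_iff.2 (FiniteField.odd_card_of_char_ne_two fun hc => h2 (by
    haveI := ringChar.of_eq hc; exact CharTwo.two_eq_zero))
  let K := FiniteField.Extension F p (2 * e)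
  have hK : Module.finrank F K = 2 * e := FiniteField.finrank_extension F p (2 * e)
  letI : Fintype K := Fintype.ofFinite K
  have hKc : Fintype.card K = q ^ (2 * e) := by
    rw [← Nat.card_eq_fintype_card, Module.natCard_eq_pow_finrank (K := F), Nat.card_eq_fintype_card, hK]
  let s : K ≃ₐ[F] K := AlgEquiv.ofBijective ((FiniteField.frobeniusAlgHom F K) ^ e)
    (Finite.injective_iff_bijective.1 (RingHom.injective _))
  have hs : ∀ x, s x = x ^ q ^ e := by
    intro x
    show ((FiniteField.frobeniusAlgHom F K) ^ e) x = _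
    rw [AlgHom.coe_pow, FiniteField.coe_frobeniusAlgHom, pow_iterate]
  have hss : ∀ x, s (s x) = x := fun x => by
    rw [hs, hs, ← pow_mul, ← pow_add, ← two_mul, ← hKc, FiniteField.pow_card]
  obtain ⟨γ, hγ⟩ := IsCyclic.exists_generator (α := Kˣ)
  have hog : orderOf γ = q ^ (2 * e) - 1 := by
    rw [orderOf_eq_card_of_forall_mem_zpowers hγ, Nat.card_units, Nat.card_eq_fintype_card, hKc]
  obtain ⟨m, hm⟩ : ∃ m, q ^ e = 2 * m + 1 := hqodd.pow
  have hq1 : 2 ≤ q := Fintype.one_lt_card
  have hqe : q ≤ q ^ e := Nat.le_self_pow (by omega) q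
  have hfac : q ^ (2 * e) - 1 = (q ^ e + 1) * (q ^ e - 1) := by
    rw [← Nat.sq_sub_sq, one_pow, ← pow_mul, mul_comm]
  set a : K := ((γ ^ (q ^ e - 1) : Kˣ) : K)
  have hoa : orderOf a = q ^ e + 1 := by
    rw [orderOf_units, orderOf_pow, hog, hfac, Nat.gcd_mul_left_left, Nat.mul_div_cancel _ (by omega)]
  have ha : a * s a = 1 := by rw [hs, ← pow_succ', ← hoa, pow_orderOf_eq_one]
  set δ : K := a - a ^ q ^ e
  have hsa : s a = a ^ q ^ e := hs a
  have hδ0 : δ ≠ 0 := fun h => by
    rw [sub_eq_zero] at h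
    have h1 : a ^ 2 = 1 := by rw [sq]; nth_rewrite 2 [h]; rw [← hsa]; exact ha
    have := Nat.le_of_dvd (by norm_num) (orderOf_dvd_of_pow_eq_one h1)
    rw [hoa] at this
    omega
  have hδd : δ = a - s a := by rw [hsa]
  have hδs : s δ = -δ := by rw [hδd, map_sub, hss]; ring
  obtain ⟨R, g, hR, hdet, hord, hneg, hsq⟩ := exists_torus hK h2 s hss
    (fun x hx => (traceForm_nondegenerate F K).1 x fun y => by rw [Algebra.traceForm_apply]; exact hx y) ha
    (δ := δ) hδs (Ne.isUnit hδ0)
  have hexp : (q ^ (2 * e) - 1) / (q - 1) * ((q - 1) / 2) = (q ^ e + 1) * m := by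
    obtain ⟨r, hr⟩ := hqodd
    have h1 : q - 1 ∣ q ^ (2 * e) - 1 := by simpa using Nat.sub_dvd_pow_sub_pow q 1 (2 * e)
    rw [← Nat.mul_div_assoc _ (by omega : 2 ∣ q - 1), Nat.div_mul_cancel h1, hfac, hm, Nat.add_sub_cancel,
      mul_left_comm, Nat.mul_div_cancel_left _ (by norm_num)]
  have hnorm : ∀ x : K, algebraMap F K (Algebra.norm F x) = x ^ ((q ^ (2 * e) - 1) / (q - 1)) := fun x => by
    rw [FiniteField.algebraMap_norm_eq_pow, Nat.card_eq_fintype_card, Nat.card_eq_fintype_card, hKc]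
  have hdet1 : Algebra.norm F a = 1 := by
    refine (algebraMap F K).injective ?_
    rw [hnorm, map_one]
    refine orderOf_dvd_iff_pow_eq_one.1 ?_
    rw [hoa, hfac, mul_comm, Nat.mul_div_right_comm (by simpa using Nat.sub_dvd_pow_sub_pow q 1 e)]
    exact Dvd.intro_left _ rfl
  refine ⟨R, g, hR, fun hsq' => ?_, by rw [hdet, hdet1], ?_, fun hodd => ?_⟩
  · have hN0 : Algebra.norm F δ ≠ 0 := Algebra.norm_ne_zero_iff.2 hδ0
    have hn1 : ((-1 : F) ^ e) ≠ 0 := pow_ne_zero _ (neg_ne_zero.2 one_ne_zero)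
    have h3 : IsSquare ((-1) ^ e * Algebra.norm F δ) := by
      obtain ⟨t, ht⟩ := hsq'
      obtain ⟨u, hu⟩ := hsq
      have hd0 := dd_ne_zero hR
      refine ⟨t * u / dd R, ?_⟩
      field_simp
      linear_combination (dd R * Algebra.norm F δ) * ht + t * t * hu
    rw [FiniteField.isSquare_iff (fun hc => h2 (by haveI := ringChar.of_eq hc; exact CharTwo.two_eq_zero))
      (mul_ne_zero hn1 hN0)] at h3
    have hhalf : q / 2 = (q - 1) / 2 := by obtain ⟨r, hr⟩ := hqodd; omega
    have h4 := congrArg (algebraMap F K) h3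
    rw [map_one, mul_pow, map_mul, map_pow (algebraMap F K) (Algebra.norm F δ), hnorm, hhalf, ← pow_mul δ, hexp,
      map_pow, map_pow, map_neg, map_one, ← pow_mul (-1 : K)] at h4
    have hδq : δ ^ (q ^ e - 1) = -1 := by
      refine mul_right_cancel₀ hδ0 ?_
      rw [← pow_succ, Nat.sub_add_cancel (by omega), ← hs, hδs, neg_one_mul]
    have hδm : δ ^ ((q ^ e + 1) * m) = (-1) ^ (m + 1) := by
      rw [← hδq, ← pow_mul, hm, Nat.add_sub_cancel]
      congr 1
      ring
    rw [hδm, ← pow_add] at h4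
    have h5 : Odd (e * ((q - 1) / 2) + (m + 1)) := by
      have := half_parity hqodd e
      rw [hm, Nat.add_sub_cancel, Nat.mul_div_cancel_left _ (by norm_num)] at this
      rw [Nat.odd_iff]; omega
    rw [h5.neg_one_pow] at h4
    have h6 : (2 : K) ≠ 0 := by
      rw [← map_ofNat (algebraMap F K) 2]
      exact (map_ne_zero _).2 h2
    exact h6 (by linear_combination -h4)
  · rw [← hoa]
    exact Nat.dvd_antisymm (orderOf_dvd_of_pow_eq_one ((hord _).2 (pow_orderOf_eq_one a)))
      (orderOf_dvd_of_pow_eq_one ((hord _).1 (pow_orderOf_eq_one g)))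
  · have h1 : a ^ ((q ^ e + 1) / 2) = -1 := by
      have h4 : (a ^ ((q ^ e + 1) / 2)) ^ 2 = 1 := by
        rw [← pow_mul, Nat.div_mul_cancel ⟨m + 1, by omega⟩, ← hoa, pow_orderOf_eq_one]
      refine (sq_eq_one_iff.1 h4).resolve_left fun h5 => ?_
      have := Nat.le_of_dvd (by omega) (orderOf_dvd_of_pow_eq_one h5)
      rw [hoa] at this
      omega
    rw [← spin_negOne h2 hR (by simp), ← hneg _ h1, ← spinHom_apply hR, ← spinHom_apply hR, map_pow]
    obtain ⟨r, hr⟩ := hodd
    rw [hr, pow_succ, pow_mul, Int.units_sq, one_pow, one_mul]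

/-- An element of order `q ^ e - 1` in the plus orthogonal group of dimension `2 e`. -/
theorem exists_plus (p : ℕ) [Fact p.Prime] [CharP F p] (h2 : (2 : F) ≠ 0) {e : ℕ} (he : 1 ≤ e) :
    ∃ (R : QuadraticForm F (Fin (2 * e) → F)) (g : isometryGroup F ⇑R),
      (QuadraticMap.polarBilin R).Nondegenerate ∧ IsSquare ((-1) ^ e * dd R) ∧ (ogVal g).det = 1 ∧
      orderOf g = Fintype.card F ^ e - 1 ∧
      (Odd ((Fintype.card F ^ e - 1) / 2) → spin g = sqSign (dd R)) := by
  classical
  haveI : NeZero e := ⟨by omega⟩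
  set q := Fintype.card F with hqdef
  have hqodd : Odd q := Nat.odd_iff.2 (FiniteField.odd_card_of_char_ne_two fun hc => h2 (by
    haveI := ringChar.of_eq hc; exact CharTwo.two_eq_zero))
  let K := FiniteField.Extension F p e
  have hK : Module.finrank F K = e := FiniteField.finrank_extension F p e
  letI : Fintype K := Fintype.ofFinite K
  have hKc : Fintype.card K = q ^ e := by
    rw [← Nat.card_eq_fintype_card, Module.natCard_eq_pow_finrank (K := F), Nat.card_eq_fintype_card, hK]
  obtain ⟨γ, hγ⟩ := IsCyclic.exists_generator (α := Kˣ)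
  have hog : orderOf γ = q ^ e - 1 := by
    rw [orderOf_eq_card_of_forall_mem_zpowers hγ, Nat.card_units, Nat.card_eq_fintype_card, hKc]
  obtain ⟨m, hm⟩ : ∃ m, q ^ e = 2 * m + 1 := hqodd.pow
  have hqe : 2 ≤ q ^ e := (Fintype.one_lt_card (α := F)).trans_le (Nat.le_self_pow (by omega) q)
  let s : (K × K) ≃ₐ[F] (K × K) := AlgEquiv.ofAlgHom ((AlgHom.snd F K K).prod (AlgHom.fst F K K))
    ((AlgHom.snd F K K).prod (AlgHom.fst F K K)) (AlgHom.ext fun x => rfl) (AlgHom.ext fun x => rfl)
  set a : K × K := ((γ : K), ((γ⁻¹ : Kˣ) : K))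
  have ha : a * s a = 1 := Prod.ext (γ.mul_inv) (γ.inv_mul)
  obtain ⟨R, g, hR, hdet, hord, hneg, hsq⟩ := exists_torus (A := K × K)
    (n := 2 * e) (by rw [Module.finrank_prod, hK, two_mul]) h2 s (fun x => rfl)
    (fun x hx => Prod.ext
      ((traceForm_nondegenerate F K).1 x.1 fun y => by
        have := hx (y, 0)
        simpa [Algebra.trace_prod_apply, Algebra.traceForm_apply] using this)
      ((traceForm_nondegenerate F K).1 x.2 fun y => by
        have := hx (0, y)
        simpa [Algebra.trace_prod_apply, Algebra.traceForm_apply] using this)) ha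
    (δ := ((1 : K), (-1 : K))) (Prod.ext (show (-1 : K) = -1 from rfl) (neg_neg (1 : K)).symm)
    (isUnit_iff_exists_inv.2 ⟨((1 : K), (-1 : K)), Prod.ext (one_mul 1) (by show (-1 : K) * -1 = 1; rw [neg_mul_neg, one_mul])⟩)
  have hnorm : ∀ x : K × K, Algebra.norm F x = Algebra.norm F x.1 * Algebra.norm F x.2 := fun x => by
    rw [Algebra.norm_apply, Algebra.norm_apply, Algebra.norm_apply, ← LinearMap.det_prodMap]
    rfl
  have hpow : ∀ k, a ^ k = 1 ↔ γ ^ k = 1 := fun k => by
    refine ⟨fun h => Units.ext (by rw [Units.val_pow_eq_pow_val]; exact congrArg Prod.fst h), fun h => ?_⟩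
    refine Prod.ext ?_ ?_
    · show (γ : K) ^ k = 1
      rw [← Units.val_pow_eq_pow_val, h, Units.val_one]
    · show ((γ⁻¹ : Kˣ) : K) ^ k = 1
      rw [← Units.val_pow_eq_pow_val, inv_pow, h, inv_one, Units.val_one]
  refine ⟨R, g, hR, ?_, ?_, ?_, fun hodd => ?_⟩
  · rw [hnorm, map_one, one_mul, show (-1 : K) = algebraMap F K (-1) by rw [map_neg, map_one],
      Algebra.norm_algebraMap, hK, mul_comm] at hsq
    exact hsq
  · rw [hdet, hnorm, ← map_mul, Units.mul_inv, map_one]
  · rw [← hog]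
    exact Nat.dvd_antisymm (orderOf_dvd_of_pow_eq_one ((hord _).2 ((hpow _).2 (pow_orderOf_eq_one γ))))
      (orderOf_dvd_of_pow_eq_one ((hpow _).1 ((hord _).1 (pow_orderOf_eq_one g))))
  · have h1 : (γ : K) ^ ((q ^ e - 1) / 2) = -1 := by
      have h4 : ((γ : K) ^ ((q ^ e - 1) / 2)) ^ 2 = 1 := by
        rw [← pow_mul, Nat.div_mul_cancel ⟨m, by omega⟩, ← Units.val_pow_eq_pow_val, ← hog, pow_orderOf_eq_one,
          Units.val_one]
      refine (sq_eq_one_iff.1 h4).resolve_left fun h5 => ?_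
      have h6 : γ ^ ((q ^ e - 1) / 2) = 1 := Units.ext (by rw [Units.val_pow_eq_pow_val]; exact h5)
      have := Nat.le_of_dvd (by obtain ⟨r, hr⟩ := hodd; omega) (orderOf_dvd_of_pow_eq_one h6)
      rw [hog] at this
      omega
    have h2' : ((γ⁻¹ : Kˣ) : K) ^ ((q ^ e - 1) / 2) = -1 := by
      rw [Units.val_inv_eq_inv_val, inv_pow, h1, inv_neg, inv_one]
    rw [← spin_negOne h2 hR (by simp), ← hneg _ (Prod.ext h1 h2'), ← spinHom_apply hR, ← spinHom_apply hR, map_pow]
    obtain ⟨r, hr⟩ := hodd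
    rw [hr, pow_succ, pow_mul, Int.units_sq, one_pow, one_mul]

end Cfsg.Agent.Classical.Spectra
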