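import Cfsg.Agent.Lib.Classical.MaxLinearSubspace
import Mathlib

/-!
Subspace stabilisers in the full general linear group: maximality, uniqueness of the invariant subspace, the
duality between complementary dimensions and the order of the standard one.
-/

set_option autoImplicit false
set_option linter.unusedSectionVars false

namespace Cfsg.Agent.Classical.StdParabolic

open Matrix Module MaxTv

variable {F : Type*} [Field F]

section
variable {ι : Type} [Fintype ι] [DecidableEq ι]

/-- The only proper nonzero subspace fixed by a subspace stabiliser is the subspace itself. -/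
theorem eq_of_stab_le {W U : Submodule F (ι → F)} (hU0 : U ≠ ⊥) (hU1 : U ≠ ⊤) (hW0 : W ≠ ⊥) (hW1 : W ≠ ⊤)
    (h : Geo.subspaceStabilizer W ≤ Geo.subspaceStabilizer U) : U = W := by
  have hmove : ∀ v φ : ι → F, φ ⬝ᵥ v = 0 → (v ∈ W ∨ ∀ x ∈ W, φ ⬝ᵥ x = 0) → ∀ x ∈ U, x + (φ ⬝ᵥ x) • v ∈ U := by
    intro v φ hφ hor x hx
    obtain ⟨g, hg⟩ := exists_tv hφ
    have hgW : g ∈ Geo.subspaceStabilizer W := (mem_subspaceStabilizer_iff W g).2 fun y hy => by
      rw [hg]
      rcases hor with hv | hW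
      · exact W.add_mem hy (W.smul_mem _ hv)
      · rw [hW y hy, zero_smul, add_zero]; exact hy
    have := (mem_subspaceStabilizer_iff U g).1 (h hgW) x hx
    rwa [hg] at this
  have hmem : ∀ v ∈ W, ∀ x ∈ U, x ∉ (F ∙ v) → v ∈ U := by
    intro v hv x hx hxv
    obtain ⟨φ, h1, h2⟩ := exists_dot_one hxv
    have h3 := hmove v φ (h2 v (Submodule.mem_span_singleton_self v)) (Or.inl hv) x hx
    rw [h1, one_smul] at h3
    exact (Submodule.add_mem_iff_right U hx).1 h3
  obtain ⟨x, hx, hx0⟩ := Submodule.exists_mem_ne_zero_of_ne_bot hU0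
  have hWU : W ≤ U := by
    intro v hv
    by_cases hxv : x ∈ (F ∙ v)
    · obtain ⟨c, rfl⟩ := Submodule.mem_span_singleton.1 hxv
      have hc : c ≠ 0 := fun h => hx0 (by rw [h, zero_smul])
      exact (Submodule.smul_mem_iff U hc).1 hx
    · exact hmem v hv x hx hxv
  refine le_antisymm (fun y hy => ?_) hWU
  by_contra hyW
  refine hU1 (eq_top_iff.2 fun z _ => ?_)
  by_cases hzy : z ∈ W ⊔ (F ∙ y)
  · exact sup_le hWU ((Submodule.span_singleton_le_iff_mem y U).2 hy) hzy
  obtain ⟨φ, h1, h2⟩ := exists_dot_one (S := W ⊔ (F ∙ z)) (u := y) (by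
    intro h
    obtain ⟨a, ha, b, hb, hab⟩ := Submodule.mem_sup.1 h
    obtain ⟨c, rfl⟩ := Submodule.mem_span_singleton.1 hb
    have hc : c ≠ 0 := fun h0 => hyW (by rw [← hab, h0, zero_smul, add_zero]; exact ha)
    refine hzy ?_
    rw [← inv_smul_smul₀ hc z, show c • z = y - a from eq_sub_of_add_eq' hab]
    exact Submodule.smul_mem _ _ (Submodule.sub_mem _ (Submodule.mem_sup_right (Submodule.mem_span_singleton_self y))
      (Submodule.mem_sup_left ha)))
  have h3 := hmove z φ (h2 z (Submodule.mem_sup_right (Submodule.mem_span_singleton_self z)))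
    (Or.inr fun w hw => h2 w (Submodule.mem_sup_left hw)) y hy
  rw [h1, one_smul] at h3
  exact (Submodule.add_mem_iff_right U hy).1 h3

/-- Subspace stabilisers are maximal in the general linear group. -/
theorem isCoatom_stab {W : Submodule F (ι → F)} (hW0 : W ≠ ⊥) (hW1 : W ≠ ⊤) :
    IsCoatom (Geo.subspaceStabilizer W) := by
  have hmax := linear_subspace_maximal W hW0 hW1
  -- every determinant occurs
  have hdet : ∀ g : GL ι F, ∃ d ∈ Geo.subspaceStabilizer W, g * d ∈ Geo.specialLinear ι F := by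
    intro g
    obtain ⟨u, hu, hu0⟩ := Submodule.exists_mem_ne_zero_of_ne_bot hW0
    obtain ⟨j, hj⟩ := Function.ne_iff.1 hu0
    set c := ((g : Matrix ι ι F).det)⁻¹
    have hdg : (g : Matrix ι ι F).det ≠ 0 := (Matrix.isUnit_iff_isUnit_det _ |>.1 g.isUnit).ne_zero
    let φ : ι → F := Pi.single j (u j)⁻¹
    let D : Matrix ι ι F := 1 + Matrix.replicateCol Unit ((c - 1) • u) * Matrix.replicateRow Unit φ
    have hD : D.det = c := by
      rw [Matrix.det_one_add_replicateCol_mul_replicateRow, dotProduct_smul, single_dotProduct,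
        inv_mul_cancel₀ hj, smul_eq_mul, mul_one, add_sub_cancel]
    refine ⟨Matrix.GeneralLinearGroup.mk'' D (by rw [hD]; exact (inv_ne_zero hdg).isUnit),
      (mem_subspaceStabilizer_iff W _).2 fun x hx => ?_, ?_⟩
    · show D *ᵥ x ∈ W
      rw [Matrix.add_mulVec, Matrix.one_mulVec, ← Matrix.mulVec_mulVec]
      refine W.add_mem hx ?_
      have : Matrix.replicateCol Unit ((c - 1) • u) *ᵥ (Matrix.replicateRow Unit φ *ᵥ x) =
          ((φ ⬝ᵥ x) * (c - 1)) • u := by
        funext a
        simp [Matrix.mulVec, dotProduct, mul_comm]; ring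
      rw [this]
      exact W.smul_mem _ hu
    · refine MonoidHom.mem_ker.2 (Units.ext ?_)
      rw [Matrix.GeneralLinearGroup.val_det_apply, Units.val_mul]
      show ((g : Matrix ι ι F) * D).det = 1
      rw [Matrix.det_mul, hD, mul_inv_cancel₀ hdg]
  refine ⟨fun htop => hW0 ?_, fun M hM => ?_⟩
  · exfalso
    exact (not_le_of_gt hmax.1) (le_inf (htop ▸ le_top) le_rfl)
  · rcases hmax.2 (M ⊓ Geo.specialLinear ι F) (inf_le_inf_right _ hM.le) inf_le_right with h | h
    · exfalso
      refine hM.not_ge fun g hg => ?_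
      obtain ⟨d, hd, hgd⟩ := hdet g
      have : g * d ∈ Geo.subspaceStabilizer W :=
        ((h ▸ (⟨M.mul_mem hg (hM.le hd), hgd⟩ : g * d ∈ M ⊓ Geo.specialLinear ι F)) :
          g * d ∈ Geo.subspaceStabilizer W ⊓ Geo.specialLinear ι F).1
      exact (Subgroup.mul_mem_cancel_right _ hd).1 this
    · refine eq_top_iff.2 fun g _ => ?_
      obtain ⟨d, hd, hgd⟩ := hdet g
      exact (Subgroup.mul_mem_cancel_right _ (hM.le hd)).1 (h.ge hgd).1

end

/-- The span of the first basis vectors. -/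
def stdSub (F : Type*) [Field F] (n k : ℕ) : Submodule F (Fin n → F) where
  carrier := {v | ∀ i : Fin n, k ≤ (i : ℕ) → v i = 0}
  zero_mem' := fun _ _ => rfl
  add_mem' := fun ha hb i hi => by simp [ha i hi, hb i hi]
  smul_mem' := fun c v hv i hi => by simp [hv i hi]

theorem stabilizing_eq (n k : ℕ) :
    stabilizing (glToMat (Fin n) F) {v : Fin n → F | ∀ i : Fin n, k ≤ (i : ℕ) → v i = 0} =
      Geo.subspaceStabilizer (stdSub F n k) := rfl

theorem stdSub_ne_bot {n k : ℕ} (hk : 0 < k) (hn : k ≤ n) : stdSub F n k ≠ ⊥ := fun h => by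
  have hm : (Pi.single ⟨0, by omega⟩ 1 : Fin n → F) ∈ stdSub F n k := fun i hi =>
    Pi.single_eq_of_ne (fun e => by subst e; simp at hi; omega) _
  rw [h, Submodule.mem_bot] at hm
  simp at hm

theorem stdSub_ne_top {n k : ℕ} (hn : k < n) : stdSub F n k ≠ ⊤ := fun h => by
  have hm : (Pi.single ⟨k, hn⟩ 1 : Fin n → F) ∈ stdSub F n k := h ▸ trivial
  simpa using hm ⟨k, hn⟩ le_rfl

theorem finrank_stdSub {n k : ℕ} (hk : k ≤ n) : finrank F (stdSub F n k) = k := by
  let e : stdSub F n k ≃ₗ[F] (Fin k → F) :=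
    { toFun := fun v i => (v : Fin n → F) (Fin.castLE hk i)
      map_add' := fun _ _ => rfl
      map_smul' := fun _ _ => rfl
      invFun := fun w => ⟨fun i => if h : (i : ℕ) < k then w ⟨i, h⟩ else 0, fun i hi => by simp [Nat.not_lt.2 hi]⟩
      left_inv := fun v => by
        ext i
        by_cases h : (i : ℕ) < k
        · simp [h]
        · simp [h, v.2 i (Nat.le_of_not_lt h)]
      right_inv := fun w => by funext i; simp }
  rw [e.finrank_eq, Module.finrank_fin_fun]

/-- Inverse transpose followed by reversal of the coordinates. -/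
def dualMap (n : ℕ) : GL (Fin n) F →* GL (Fin n) F where
  toFun g :=
    { val := (((g⁻¹ : GL (Fin n) F) : Matrix (Fin n) (Fin n) F))ᵀ.submatrix Fin.revPerm Fin.revPerm
      inv := ((g : Matrix (Fin n) (Fin n) F))ᵀ.submatrix Fin.revPerm Fin.revPerm
      val_inv := by
        rw [Matrix.submatrix_mul_equiv, ← Matrix.transpose_mul, Units.mul_inv, Matrix.transpose_one,
          Matrix.submatrix_one_equiv]
      inv_val := by
        rw [Matrix.submatrix_mul_equiv, ← Matrix.transpose_mul, Units.inv_mul, Matrix.transpose_one,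
          Matrix.submatrix_one_equiv] }
  map_one' := Units.ext (by simp)
  map_mul' g h := Units.ext (by
    show (((g * h)⁻¹ : GL (Fin n) F) : Matrix (Fin n) (Fin n) F)ᵀ.submatrix _ _ = _
    rw [_root_.mul_inv_rev, Units.val_mul, Matrix.transpose_mul, ← Matrix.submatrix_mul_equiv (e₂ := Fin.revPerm)]
    rfl)

theorem dualMap_dualMap {n : ℕ} (g : GL (Fin n) F) : dualMap n (dualMap n g) = g := Units.ext (by
  show (((g : Matrix (Fin n) (Fin n) F))ᵀ.submatrix Fin.revPerm Fin.revPerm)ᵀ.submatrix Fin.revPerm Fin.revPerm = _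
  ext i j
  simp [Fin.rev_rev])

theorem dualMap_mem {n k : ℕ} (hk : k ≤ n) {g : GL (Fin n) F} (hg : g ∈ Geo.subspaceStabilizer (stdSub F n k)) :
    dualMap n g ∈ Geo.subspaceStabilizer (stdSub F n (n - k)) := by
  have hzero : ∀ i j : Fin n, k ≤ (i : ℕ) → (j : ℕ) < k → ((g⁻¹ : GL (Fin n) F) : Matrix (Fin n) (Fin n) F) i j = 0 := by
    intro i j hi hj
    have h := (mem_subspaceStabilizer_iff _ _).1 ((Geo.subspaceStabilizer (stdSub F n k)).inv_mem hg)
      (Pi.single j 1) (fun l hl => Pi.single_eq_of_ne (fun e => by subst e; omega) _) i hi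
    simpa using h
  refine (mem_subspaceStabilizer_iff _ _).2 fun x hx i hi => ?_
  show ∑ j, _ * x j = 0
  refine Finset.sum_eq_zero fun j _ => ?_
  by_cases hj : n - k ≤ (j : ℕ)
  · rw [hx j hj, mul_zero]
  · show ((g⁻¹ : GL (Fin n) F) : Matrix (Fin n) (Fin n) F) (Fin.rev j) (Fin.rev i) * _ = 0
    rw [hzero _ _ (by rw [Fin.val_rev]; omega) (by rw [Fin.val_rev]; omega), zero_mul]

/-- Complementary dimensions give isomorphic stabilisers. -/
theorem stab_dual_equiv {n k : ℕ} (hk : k ≤ n) :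
    Nonempty (Geo.subspaceStabilizer (stdSub F n k) ≃* Geo.subspaceStabilizer (stdSub F n (n - k))) :=
  ⟨{ toFun := fun g => ⟨dualMap n g, dualMap_mem hk g.2⟩
     invFun := fun g => ⟨dualMap n g, by
       have := dualMap_mem (Nat.sub_le n k) g.2
       rwa [show n - (n - k) = k by omega] at this⟩
     left_inv := fun g => Subtype.ext (dualMap_dualMap _)
     right_inv := fun g => Subtype.ext (dualMap_dualMap _)
     map_mul' := fun g h => Subtype.ext (map_mul (dualMap n) _ _) }⟩

theorem stab_not_conj {n k l : ℕ} (hk0 : 0 < k) (hk : k < n) (hl0 : 0 < l) (hl : l < n) (hkl : k ≠ l)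
    (g : GL (Fin n) F) :
    (Geo.subspaceStabilizer (stdSub F n k)).map (MulAut.conj g).toMonoidHom ≠
      Geo.subspaceStabilizer (stdSub F n l) := by
  intro h
  set W := stdSub F n k
  set W' : Submodule F (Fin n → F) := W.map (Matrix.toLin' (g : Matrix (Fin n) (Fin n) F)) with hW'
  have hinj : Function.Injective (Matrix.toLin' (g : Matrix (Fin n) (Fin n) F)) := gl_mulVec_injective g
  have hd : finrank F W' = k := by
    rw [hW', ← (Submodule.equivMapOfInjective _ hinj W).finrank_eq, finrank_stdSub hk.le]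
  have hle : Geo.subspaceStabilizer (stdSub F n l) ≤ Geo.subspaceStabilizer W' := by
    rw [← h]
    rintro _ ⟨x, hx, rfl⟩
    refine (mem_subspaceStabilizer_iff W' _).2 fun y hy => ?_
    obtain ⟨w, hw, rfl⟩ := hy
    refine ⟨(x : Matrix (Fin n) (Fin n) F) *ᵥ w, (mem_subspaceStabilizer_iff W x).1 hx w hw, ?_⟩
    simp [Matrix.mulVec_mulVec, Matrix.mul_assoc]
  have := eq_of_stab_le (U := W') (fun e => by rw [e, finrank_bot] at hd; omega)
    (fun e => by rw [e, finrank_top, Module.finrank_fin_fun] at hd; omega)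
    (stdSub_ne_bot hl0 hl.le) (stdSub_ne_top hl) hle
  rw [this, finrank_stdSub hl.le] at hd
  exact hkl hd.symm

/-- The order of a maximal parabolic subgroup. -/
theorem card_stab [Fintype F] {q : ℕ} (hF : Fintype.card F = q) {n k : ℕ} (hk : k ≤ n) :
    Nat.card (Geo.subspaceStabilizer (stdSub F n k)) = q ^ (k * (n - k)) * (∏ i : Fin k, (q ^ k - q ^ (i : ℕ))) *
      ∏ i : Fin (n - k), (q ^ (n - k) - q ^ (i : ℕ)) := by
  classical
  obtain ⟨m, rfl⟩ : ∃ m, n = k + m := ⟨n - k, by omega⟩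
  rw [Nat.add_sub_cancel_left]
  let E : Fin k ⊕ Fin m ≃ Fin (k + m) := finSumFinEquiv
  let R : Matrix (Fin k ⊕ Fin m) (Fin k ⊕ Fin m) F ≃ₐ[F] Matrix (Fin (k + m)) (Fin (k + m)) F :=
    Matrix.reindexAlgEquiv F F E
  have hlow : ∀ g : GL (Fin (k + m)) F, g ∈ Geo.subspaceStabilizer (stdSub F (k + m) k) ↔
      (R.symm (g : Matrix (Fin (k + m)) (Fin (k + m)) F)).toBlocks₂₁ = 0 := by
    intro g
    rw [mem_subspaceStabilizer_iff]
    constructor
    · intro h
      ext i j
      have := h (Pi.single (E (Sum.inl j)) 1)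
        (fun l hl => Pi.single_eq_of_ne (fun e => by subst e; simp [E] at hl; omega) _) (E (Sum.inr i)) (by simp [E])
      simpa [R, Matrix.toBlocks₂₁] using this
    · intro h x hx i hi
      show ∑ j, _ * x j = 0
      refine Finset.sum_eq_zero fun j _ => ?_
      obtain ⟨i', rfl⟩ := E.surjective i
      obtain ⟨j', rfl⟩ := E.surjective j
      rcases i' with i' | i'
      · exact absurd hi (by simp [E])
      rcases j' with j' | j'
      · have := congrFun (congrFun h i') j'
        simp [R, Matrix.toBlocks₂₁] at this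
        simp [this]
      · rw [hx _ (by simp [E]), mul_zero]
  let Φ : GL (Fin k) F × GL (Fin m) F × Matrix (Fin k) (Fin m) F → Geo.subspaceStabilizer (stdSub F (k + m) k) :=
    fun p => ⟨(Units.map (R : Matrix (Fin k ⊕ Fin m) (Fin k ⊕ Fin m) F ≃ₐ[F] _).toMonoidHom
      ((Matrix.isUnit_fromBlocks_zero₂₁ (B := p.2.2)).2 ⟨p.1.isUnit, p.2.1.isUnit⟩).unit), (hlow _).2 (by
        show (R.symm (R _)).toBlocks₂₁ = 0
        rw [AlgEquiv.symm_apply_apply, IsUnit.unit_spec, Matrix.toBlocks_fromBlocks₂₁])⟩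
  have hΦ : Function.Bijective Φ := by
    constructor
    · rintro ⟨A, D, C⟩ ⟨A', D', C'⟩ h
      have h1 : R (Matrix.fromBlocks (A : Matrix (Fin k) (Fin k) F) C 0 D) =
          R (Matrix.fromBlocks (A' : Matrix (Fin k) (Fin k) F) C' 0 D') :=
        congrArg Units.val (congrArg Subtype.val h)
      obtain ⟨hA, hC, -, hD⟩ := Matrix.fromBlocks_inj.1 (R.injective h1)
      simp [Units.ext hA, Units.ext hD, hC]
    · rintro ⟨g, hg⟩
      have h0 := (hlow g).1 hg
      set M := R.symm (g : Matrix (Fin (k + m)) (Fin (k + m)) F) with hM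
      have hu : IsUnit (Matrix.fromBlocks M.toBlocks₁₁ M.toBlocks₁₂ 0 M.toBlocks₂₂) := by
        rw [← h0, Matrix.fromBlocks_toBlocks, hM]
        exact g.isUnit.map R.symm
      obtain ⟨hA, hD⟩ := Matrix.isUnit_fromBlocks_zero₂₁.1 hu
      refine ⟨(hA.unit, hD.unit, M.toBlocks₁₂), Subtype.ext (Units.ext ?_)⟩
      show R (Matrix.fromBlocks M.toBlocks₁₁ M.toBlocks₁₂ 0 M.toBlocks₂₂) = _
      rw [← h0, Matrix.fromBlocks_toBlocks, hM, AlgEquiv.apply_symm_apply]
  rw [← Nat.card_eq_of_bijective Φ hΦ, Nat.card_prod, Nat.card_prod, Matrix.card_GL_field, Matrix.card_GL_field, hF]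
  simp only [Nat.card_eq_fintype_card, Matrix, Fintype.card_fun, Fintype.card_fin, hF]
  rw [← pow_mul, mul_comm m k]
  ring

end Cfsg.Agent.Classical.StdParabolic
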