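import Cfsg.Agent.Lib.Char.Basic
import Cfsg.Prelude.Def_Characters

/-!
The Steinberg character of a group acting on a finite set of chambers: the functions with vanishing
sum over every panel form an irreducible representation, regular on the group fixing a chamber and
simply transitive on its opposite chambers.
-/

set_option autoImplicit false
set_option linter.unusedSectionVars false

namespace Cfsg.Agent.Classical.StChambers

open Module

universe u v

/-- Functions with vanishing sum over every panel. -/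
def space {X : Type v} {I : Type} (R : I → X → X → Prop) : Submodule ℂ (X → ℂ) where
  carrier := {f | ∀ (i : I) (x : X) (s : Finset X), (∀ y, y ∈ s ↔ R i x y) → ∑ y ∈ s, f y = 0}
  add_mem' := fun {a b} ha hb i x s hs => by simp [Finset.sum_add_distrib, ha i x s hs, hb i x s hs]
  zero_mem' := fun i x s _ => by simp
  smul_mem' := fun c f hf i x s hs => by simp [← Finset.mul_sum, hf i x s hs]

/-- The abstract data. -/
structure Data {G : Type u} [Group G] {X : Type v} {I : Type} {L : Type*} [LinearOrder L]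
    (φ : G →* Equiv.Perm X) (R : I → X → X → Prop) (p : ℕ) (c₀ y₀ : X) (U : Subgroup G) (lvl : X → L) : Prop where
  inv : ∀ g i x y, R i x y → R i (φ g x) (φ g y)
  down : ∀ y, (∀ u ∈ U, φ u y₀ ≠ y) → ∃ i, R i y y ∧ ∀ z, R i y z → z ≠ y → lvl y < lvl z
  free : ∀ u ∈ U, φ u y₀ = y₀ → u = 1
  isP : IsPGroup p U
  fix : ∀ u ∈ U, φ u c₀ = c₀
  stab : ∀ g, (∀ u ∈ U, φ u (φ g c₀) = φ g c₀) → (∃ k : ℕ, g ^ p ^ k = 1) → g ∈ U
  orbit : ∃ g, ∀ f ∈ space R, f y₀ ≠ 0 → f (φ g c₀) ≠ 0
  apartment : ∃ e : X → ℂ, e y₀ ≠ 0 ∧ (∀ u ∈ U, u ≠ 1 → e (φ u y₀) = 0) ∧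
    ∀ (i : I) (x : X) (s : Finset X), (∀ y, y ∈ s ↔ R i x y) → ∑ y ∈ s, e y = 0

variable {G : Type u} [Group G] [Finite G] {X : Type v} [Fintype X] {I : Type} {L : Type*} [LinearOrder L]
  {φ : G →* Equiv.Perm X} {R : I → X → X → Prop} {p : ℕ} [Fact p.Prime] {c₀ y₀ : X} {U : Subgroup G}
  {lvl : X → L}

namespace Data

variable (D : Data φ R p c₀ y₀ U lvl)
include D

theorem comp_mem (g : G) {f : X → ℂ} (hf : f ∈ space R) : (f ∘ φ g) ∈ space R := fun i x s hs => by
  classical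
  have h := hf i (φ g x) (s.map (φ g).toEmbedding) fun y => by
    obtain ⟨z, rfl⟩ := (φ g).surjective y
    simp only [Finset.mem_map, Equiv.coe_toEmbedding, EmbeddingLike.apply_eq_iff_eq, exists_eq_right, hs]
    refine ⟨D.inv g i x z, fun h => ?_⟩
    have h' := D.inv g⁻¹ i _ _ h
    simpa [map_inv] using h'
  rw [Finset.sum_map] at h
  exact h

theorem ext_top {f : X → ℂ} (hf : f ∈ space R) (h : ∀ u ∈ U, f (φ u y₀) = 0) : f = 0 := by
  classical
  by_contra hne
  have hs : (Finset.univ.filter fun y => f y ≠ 0).Nonempty := by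
    obtain ⟨y, hy⟩ := Function.ne_iff.1 hne
    exact ⟨y, Finset.mem_filter.2 ⟨Finset.mem_univ _, hy⟩⟩
  obtain ⟨y, hy, hmax⟩ := Finset.exists_max_image _ lvl hs
  rw [Finset.mem_filter] at hy
  obtain ⟨i, hii, hi⟩ := D.down y fun u hu e => hy.2 (e ▸ h u hu)
  have hsum := hf i y (Finset.univ.filter (R i y)) (fun z => by simp)
  rw [Finset.sum_eq_single y (fun z hz hzy => by_contra fun hfz =>
    absurd (hmax z (Finset.mem_filter.2 ⟨Finset.mem_univ _, hfz⟩))
      (not_le.2 (hi z (Finset.mem_filter.1 hz).2 hzy)))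
    (fun hn => absurd (Finset.mem_filter.2 ⟨Finset.mem_univ _, hii⟩) hn)] at hsum
  exact hy.2 hsum

/-- Restriction to the opposite chambers. -/
noncomputable def topEquiv : space R ≃ₗ[ℂ] (U → ℂ) :=
  LinearEquiv.ofBijective
    ({ toFun := fun f u => (f : X → ℂ) (φ u y₀)
       map_add' := fun _ _ => rfl
       map_smul' := fun _ _ => rfl } : space R →ₗ[ℂ] (U → ℂ))
    ⟨fun (f g : space R) h => by
      refine sub_eq_zero.1 (Subtype.ext (D.ext_top (f - g).2 fun u hu => ?_))
      show (f : X → ℂ) _ - (g : X → ℂ) _ = 0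
      exact sub_eq_zero.2 (congrFun h ⟨u, hu⟩),
    fun a => by
      classical
      haveI := Fintype.ofFinite U
      obtain ⟨e, he, he', hes⟩ := D.apartment
      refine ⟨∑ u : U, (a u / e y₀) • (⟨e ∘ φ (u : G)⁻¹, D.comp_mem _ hes⟩ : space R), funext fun w => ?_⟩
      show ((∑ u : U, (a u / e y₀) • (⟨e ∘ φ (u : G)⁻¹, D.comp_mem _ hes⟩ : space R) : space R) : X → ℂ)
        (φ (w : G) y₀) = a w
      rw [AddSubmonoidClass.coe_finset_sum, Finset.sum_apply, Finset.sum_eq_single w]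
      · simp [he]
      · intro u _ huw
        have h0 : ((u : G)⁻¹ * w : G) ≠ 1 := fun h => huw (Subtype.ext (inv_mul_eq_one.1 h))
        simpa [← Equiv.Perm.mul_apply, ← map_inv, ← map_mul] using
          Or.inr (he' _ (U.mul_mem (inv_mem u.2) w.2) h0)
      · simp⟩

theorem topEquiv_apply (f : space R) (u : U) : D.topEquiv f u = (f : X → ℂ) (φ u y₀) := rfl

/-- The representation on the space. -/
def rep : Representation ℂ G (space R) where
  toFun g :=
    { toFun := fun f => ⟨(f : X → ℂ) ∘ φ g⁻¹, D.comp_mem _ f.2⟩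
      map_add' := fun _ _ => rfl
      map_smul' := fun _ _ => rfl }
  map_one' := LinearMap.ext fun f => Subtype.ext (funext fun x => by simp)
  map_mul' a b := LinearMap.ext fun f => Subtype.ext (funext fun x => by simp [Equiv.Perm.mul_apply])

theorem rep_apply (g : G) (f : space R) (x : X) : (D.rep g f : X → ℂ) x = (f : X → ℂ) (φ g⁻¹ x) := rfl

theorem finrank_space : finrank ℂ (space R) = Nat.card U := by
  haveI := Fintype.ofFinite U
  rw [D.topEquiv.finrank_eq, Module.finrank_pi, Nat.card_eq_fintype_card]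

theorem character_zero {u : G} (hu : u ∈ U) (h1 : u ≠ 1) : D.rep.character u = 0 := by
  classical
  haveI := Fintype.ofFinite U
  rw [Representation.character, ← LinearMap.trace_conj' (D.rep u) D.topEquiv,
    LinearMap.trace_eq_matrix_trace ℂ (Pi.basisFun ℂ U), Matrix.trace]
  refine Finset.sum_eq_zero fun w _ => ?_
  rw [Matrix.diag_apply, LinearMap.toMatrix_apply, LinearEquiv.conj_apply_apply, Pi.basisFun_repr,
    D.topEquiv_apply, D.rep_apply]
  have e : φ u⁻¹ (φ (w : G) y₀) = φ ((⟨u⁻¹ * w, U.mul_mem (inv_mem hu) w.2⟩ : U) : G) y₀ := by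
    rw [← Equiv.Perm.mul_apply, ← map_mul]
  rw [e, ← D.topEquiv_apply, LinearEquiv.apply_symm_apply, Pi.basisFun_apply, Pi.single_apply, if_neg]
  intro h
  exact h1 (inv_eq_one.1 (mul_eq_right.1 (congrArg Subtype.val h)))

/-- Averaging over the group fixing the chamber. -/
theorem exists_fixed {N : Subrepresentation D.rep} (hN : N ≠ ⊥) :
    ∃ f : space R, f ∈ N ∧ f ≠ 0 ∧ ∀ u : U, D.rep (u : G) f = f := by
  classical
  haveI := Fintype.ofFinite U
  obtain ⟨g₀, hg₀⟩ := D.orbit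
  obtain ⟨v, hv, hv0⟩ : ∃ v ∈ N.toSubmodule, v ≠ 0 := Submodule.exists_mem_ne_zero_of_ne_bot fun h =>
    hN (Subrepresentation.toSubmodule_injective h)
  obtain ⟨w, hw⟩ : ∃ w : U, (v : X → ℂ) (φ w y₀) ≠ 0 := by
    by_contra h
    push Not at h
    exact hv0 (Subtype.ext (D.ext_top v.2 fun u hu => h ⟨u, hu⟩))
  set v' := D.rep ((w : G) * g₀)⁻¹ v
  have hv' : (v' : X → ℂ) c₀ ≠ 0 := by
    rw [rep_apply, inv_inv, map_mul, Equiv.Perm.mul_apply]
    exact hg₀ _ (D.comp_mem (w : G) v.2) hw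
  refine ⟨∑ u : U, D.rep (u : G) v', (Submodule.sum_mem N.toSubmodule fun u _ => N.apply_mem_toSubmodule _
    (N.apply_mem_toSubmodule _ hv) :), fun h => ?_, fun u => ?_⟩
  · have h' := congrArg (fun f : space R => (f : X → ℂ) c₀) h
    simp only [AddSubmonoidClass.coe_finset_sum, Finset.sum_apply, rep_apply, ZeroMemClass.coe_zero,
      Pi.zero_apply] at h'
    rw [Finset.sum_congr rfl (fun u _ => by rw [D.fix _ (inv_mem u.2)]), Finset.sum_const, nsmul_eq_mul] at h'
    exact mul_ne_zero (Nat.cast_ne_zero.2 (Finset.card_univ (α := U) ▸ Fintype.card_ne_zero)) hv' h'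
  · rw [map_sum]
    refine Fintype.sum_equiv (Equiv.mulLeft u) _ _ fun x => ?_
    rw [Equiv.coe_mulLeft, Subgroup.coe_mul, map_mul]
    rfl

theorem fixed_unique {f f' : space R} (hf : ∀ u : U, D.rep (u : G) f = f)
    (hf' : ∀ u : U, D.rep (u : G) f' = f') (h0 : f ≠ 0) : ∃ c : ℂ, f' = c • f := by
  have key : ∀ {g : space R}, (∀ u : U, D.rep (u : G) g = g) → ∀ u ∈ U,
      (g : X → ℂ) (φ u y₀) = (g : X → ℂ) y₀ := fun {g} hg u hu => by
    conv_lhs => rw [← hg ⟨u, hu⟩]
    rw [rep_apply, ← Equiv.Perm.mul_apply, ← map_mul, inv_mul_cancel, map_one]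
    rfl
  have hy : (f : X → ℂ) y₀ ≠ 0 := fun h =>
    h0 (Subtype.ext (D.ext_top f.2 fun u hu => (key hf u hu).trans h))
  refine ⟨(f' : X → ℂ) y₀ / (f : X → ℂ) y₀, sub_eq_zero.1 (Subtype.ext (D.ext_top (Subtype.prop _) fun u hu => ?_))⟩
  show (f' : X → ℂ) _ - _ * (f : X → ℂ) _ = 0
  rw [key hf u hu, key hf' u hu, div_mul_cancel₀ _ hy, sub_self]

theorem irreducible : D.rep.IsIrreducible := by
  haveI : NeZero (Nat.card G : ℂ) := ⟨Nat.cast_ne_zero.2 Nat.card_pos.ne'⟩
  haveI : Nontrivial (space R) := Module.nontrivial_of_finrank_pos (R := ℂ) (by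
    rw [D.finrank_space]; exact Nat.card_pos)
  haveI : Nontrivial (Subrepresentation D.rep) := ⟨⟨⊥, ⊤, fun h =>
    bot_ne_top (α := Submodule ℂ (space R)) (congrArg Subrepresentation.toSubmodule h)⟩⟩
  refine ⟨fun N => or_iff_not_imp_left.2 fun hN => ?_⟩
  obtain ⟨T, hT⟩ := exists_isCompl N
  by_contra hN1
  have hT0 : T ≠ ⊥ := fun h => hN1 (by have := hT.sup_eq_top; rwa [h, sup_bot_eq] at this)
  obtain ⟨f, hf, hf0, hfx⟩ := D.exists_fixed hN
  obtain ⟨f', hf', hf0', hfx'⟩ := D.exists_fixed hT0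
  obtain ⟨c, rfl⟩ := D.fixed_unique hfx hfx' hf0
  have h : c • f ∈ (N ⊓ T).toSubmodule := ⟨Submodule.smul_mem _ c hf, hf'⟩
  rw [hT.inf_eq_bot] at h
  exact hf0' h

theorem sylow_eq (P : Sylow p G) (hP : U ≤ P) : U = P := by
  refine le_antisymm hP fun g hg => ?_
  by_contra hgU
  haveI : Group.IsNilpotent P := IsPGroup.isNilpotent P.2
  have hlt : U.subgroupOf P < ⊤ := lt_top_iff_ne_top.2 fun h => hgU (Subgroup.subgroupOf_eq_top.1 h hg)
  obtain ⟨x, hx, hxU⟩ := SetLike.exists_of_lt (Group.normalizerCondition_of_isNilpotent _ hlt)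
  refine hxU (D.stab x (fun u hu => ?_) ?_)
  · have hu' : (⟨u, hP hu⟩ : P) ∈ U.subgroupOf P := hu
    have h := (Subgroup.mem_normalizer_iff''.1 hx ⟨u, hP hu⟩).1 hu'
    rw [Subgroup.mem_subgroupOf] at h
    have h' := D.fix _ h
    simp only [Subgroup.coe_mul, Subgroup.coe_inv, map_mul, map_inv, Equiv.Perm.mul_apply] at h'
    have := congrArg (φ (x : G)) h'
    simpa using this
  · obtain ⟨k, hk⟩ := P.2 x
    exact ⟨k, by simpa using congrArg Subtype.val hk⟩

theorem main : ∃ χ : G → ℂ, IsIrrCharacter G χ ∧ ∀ P : Sylow p G, χ 1 = Nat.card P ∧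
    ∀ x : G, x ∈ P → x ≠ 1 → χ x = 0 := by
  haveI := D.irreducible
  refine ⟨D.rep.character, Char.isIrrCharacter_character _, fun P => ?_⟩
  obtain ⟨Q, hQ⟩ := D.isP.exists_le_sylow
  have hUQ := D.sylow_eq Q hQ
  obtain ⟨g, hg⟩ := MulAction.exists_smul_eq G Q P
  refine ⟨?_, fun x hx hx1 => ?_⟩
  · rw [Representation.char_one, D.finrank_space, hUQ]
    exact congrArg Nat.cast (Nat.card_congr (Q.equiv P).toEquiv)
  · have hmem : g⁻¹ * x * g ∈ U := by
      rw [← hg, ← SetLike.mem_coe, Sylow.coe_smul, Set.mem_smul_set_iff_inv_smul_mem] at hx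
      rw [hUQ]
      have h' : g⁻¹ * (x * g) ∈ Q := by simpa [MulAut.smul_def, MulAut.conj_apply, mul_assoc] using hx
      rw [mul_assoc]
      exact h'
    have h0 := D.character_zero hmem fun h => hx1 (by
      have := congrArg (fun z => g * z * g⁻¹) h
      simpa [mul_assoc] using this)
    have e : D.rep.character (g⁻¹ * x * g) = D.rep.character x := by
      simpa using D.rep.char_conj x g⁻¹
    rw [← e, h0]

end Data

end Cfsg.Agent.Classical.StChambers
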