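import Cfsg.Agent.Lib.Classical.ParabolicCosets
import Cfsg.Agent.Lib.Classical.InvariantMobius

/-!
The alternating sum of flag permutation characters for the partition into ones is, up to sign, the
Möbius function of the lattice of invariant subspaces.
-/

set_option autoImplicit false
set_option linter.unusedSectionVars false

namespace Cfsg.Agent.Classical.StFlags

open Module Cfsg Cfsg.Agent.InvMobius Matrix
open Cfsg.Agent.Classical.ParCoset (psum)

universe u

section Chains

variable {F : Type u} [Field F] [Fintype F] {V : Type u} [AddCommGroup V] [Module F V] [FiniteDimensional F V]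
  (e : Module.End F V)

/-- Chains of invariant subspaces above `U` with given dimension steps. -/
def Fl {m : ℕ} (U : Submodule F V) (μ : Fin m → ℕ) : Type u :=
  {W : Fin m → Submodule F V // Monotone W ∧
    ∀ j, Inv e (W j) ∧ U ≤ W j ∧ finrank F (W j) = finrank F U + psum' μ j}
where
  /-- Partial sums. -/
  psum' {m : ℕ} (μ : Fin m → ℕ) (j : Fin m) : ℕ := ∑ k, if k ≤ j then μ k else 0

theorem psum'_eq {n : ℕ} (μ : Fin n → ℕ) (j : Fin n) : Fl.psum' μ j = psum μ j := by
  rw [Fl.psum', psum, Finset.sum_filter]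

theorem psum'_zero {m : ℕ} (a : ℕ) (μ : Fin m → ℕ) : Fl.psum' (Fin.cons a μ) 0 = a := by
  rw [Fl.psum', Fin.sum_univ_succ]
  simp [Fin.succ_ne_zero]

theorem psum'_succ {m : ℕ} (a : ℕ) (μ : Fin m → ℕ) (j : Fin m) :
    Fl.psum' (Fin.cons a μ) j.succ = a + Fl.psum' μ j := by
  rw [Fl.psum', Fin.sum_univ_succ, Fl.psum']
  simp

instance {m : ℕ} (U : Submodule F V) (μ : Fin m → ℕ) : Finite (Fl e U μ) := by
  haveI : Finite V := Module.finite_of_finite F
  haveI : Finite (Submodule F V) := Finite.of_injective (fun W => (W : Set V)) SetLike.coe_injective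
  exact Subtype.finite

open _root_.Classical in
/-- The invariant subspaces one step above `U`. -/
noncomputable def steps (U : Submodule F V) (a : ℕ) : Finset (Submodule F V) :=
  (invs e).filter fun W => U ≤ W ∧ finrank F W = finrank F U + a

theorem mem_steps {U W : Submodule F V} {a : ℕ} :
    W ∈ steps e U a ↔ Inv e W ∧ U ≤ W ∧ finrank F W = finrank F U + a := by
  simp [steps, mem_invs]

/-- Splitting off the first step. -/
def consEquiv {m : ℕ} (U : Submodule F V) (a : ℕ) (μ : Fin m → ℕ) :
    Fl e U (Fin.cons a μ) ≃ Σ W : {W // W ∈ steps e U a}, Fl e W.1 μ where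
  toFun C := ⟨⟨C.1 0, by
      have h := C.2.2 0
      rw [psum'_zero] at h
      exact (mem_steps e).2 h⟩,
    ⟨fun j => C.1 j.succ, fun i j hij => C.2.1 (Fin.succ_le_succ_iff.2 hij), fun j => by
      obtain ⟨h1, -, h3⟩ := C.2.2 j.succ
      have h0 := (C.2.2 0).2.2
      rw [psum'_succ] at h3
      rw [psum'_zero] at h0
      exact ⟨h1, C.2.1 (Fin.zero_le _), by rw [h3, h0]; omega⟩⟩⟩
  invFun p := ⟨Fin.cons p.1.1 p.2.1, by
      intro i j hij
      cases i using Fin.cases with
      | zero =>
        cases j using Fin.cases with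
        | zero => exact le_rfl
        | succ j => simpa using (p.2.2.2 j).2.1
      | succ i =>
        cases j using Fin.cases with
        | zero => exact absurd hij (not_le.2 (Fin.succ_pos i))
        | succ j => simpa using p.2.2.1 (Fin.succ_le_succ_iff.1 hij), fun j => by
      obtain ⟨h1, h2, h3⟩ := (mem_steps e).1 p.1.2
      cases j using Fin.cases with
      | zero => rw [psum'_zero]; exact ⟨h1, h2, h3⟩
      | succ j =>
        obtain ⟨g1, g2, g3⟩ := p.2.2.2 j
        rw [psum'_succ, Fin.cons_succ]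
        exact ⟨g1, h2.trans g2, by rw [g3, h3]; omega⟩⟩
  left_inv C := Subtype.ext (Fin.cons_self_tail C.1)
  right_inv p := rfl

/-- The number of chains. -/
noncomputable def cnt {m : ℕ} (U : Submodule F V) (μ : Fin m → ℕ) : ℤ := Nat.card (Fl e U μ)

theorem cnt_cons {m : ℕ} (U : Submodule F V) (a : ℕ) (μ : Fin m → ℕ) :
    cnt e U (Fin.cons a μ) = ∑ W ∈ steps e U a, cnt e W μ := by
  classical
  rw [cnt, Nat.card_congr (consEquiv e U a μ), Nat.card_sigma, Nat.cast_sum, ← Finset.sum_attach (steps e U a)]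
  exact Finset.sum_congr (by ext; simp) fun _ _ => rfl

theorem cnt_cons_zero {m : ℕ} {U : Submodule F V} (hU : Inv e U) (μ : Fin m → ℕ) :
    cnt e U (Fin.cons 0 μ) = cnt e U μ := by
  rw [cnt_cons]
  have : steps e U 0 = {U} := by
    ext W
    rw [mem_steps, Finset.mem_singleton]
    exact ⟨fun h => (Submodule.eq_of_le_of_finrank_eq h.2.1 (by rw [h.2.2, add_zero])).symm,
      fun h => by subst h; exact ⟨hU, le_rfl, rfl⟩⟩
  rw [this, Finset.sum_singleton]

theorem cnt_nil (U : Submodule F V) (μ : Fin 0 → ℕ) : cnt e U μ = 1 := by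
  haveI : Unique (Fl e U μ) :=
    ⟨⟨⟨Fin.elim0, fun i => i.elim0, fun i => i.elim0⟩⟩, fun C => Subtype.ext (funext fun i => i.elim0)⟩
  rw [cnt, Nat.card_unique, Nat.cast_one]

/-- The parts attached to a permutation. -/
def part {m : ℕ} (s : ℕ) (κ : Equiv.Perm (Fin (m + 1))) (i : Fin (m + 1)) : ℕ :=
  1 + i.val - (κ i).val + if (κ i).val = 0 then s else 0

/-- The alternating sum. -/
noncomputable def alt (m s : ℕ) (U : Submodule F V) : ℤ :=
  ∑ κ : Equiv.Perm (Fin (m + 1)), if ∀ i : Fin (m + 1), (κ i).val ≤ 1 + i.val then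
    ((Equiv.Perm.sign κ : ℤˣ) : ℤ) * cnt e U (part s κ) else 0

theorem alt_succ (m s : ℕ) {U : Submodule F V} (hU : Inv e U) :
    alt e (m + 1) s U = (∑ W ∈ steps e U (1 + s), alt e m 0 W) - alt e m (s + 1) U := by
  classical
  have hval : ∀ (p : Fin (m + 2)) (σ : Equiv.Perm (Fin (m + 1))) (i : Fin (m + 1)), p.val ≤ 1 →
      (Equiv.Perm.decomposeFin.symm (p, σ) i.succ).val = if p.val = 1 ∧ (σ i).val = 0 then 0 else (σ i).val + 1 := by
    intro p σ i hp
    rw [Equiv.Perm.decomposeFin_symm_apply_succ, Equiv.swap_apply_def, if_neg (Fin.succ_ne_zero _)]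
    by_cases h : (σ i).succ = p
    · have h' := congrArg Fin.val h
      rw [Fin.val_succ] at h'
      rw [if_pos h, if_pos ⟨by omega, by omega⟩]
      rfl
    · rw [if_neg h, if_neg, Fin.val_succ]
      rintro ⟨h1, h2⟩
      exact h (Fin.ext (by rw [Fin.val_succ]; omega))
  rw [alt, ← Equiv.sum_comp Equiv.Perm.decomposeFin.symm, Fintype.sum_prod_type, Fin.sum_univ_succ, Fin.sum_univ_succ,
    Finset.sum_eq_zero (f := fun p : Fin m => _) (fun p _ => Finset.sum_eq_zero fun σ _ => if_neg fun h => by
      have := h 0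
      rw [Equiv.Perm.decomposeFin_symm_apply_zero] at this
      simp at this), add_zero, sub_eq_add_neg]
  congr 1
  · simp only [alt]
    rw [Finset.sum_comm]
    refine Finset.sum_congr rfl fun σ _ => ?_
    have hcond : (∀ i : Fin (m + 2), (Equiv.Perm.decomposeFin.symm ((0 : Fin (m + 2)), σ) i).val ≤ 1 + i.val) ↔
        ∀ i : Fin (m + 1), (σ i).val ≤ 1 + i.val := by
      rw [Fin.forall_fin_succ]
      simp only [Equiv.Perm.decomposeFin_symm_apply_zero, hval (0 : Fin (m + 2)) σ _ (by simp), Fin.val_zero,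
        zero_ne_one, false_and, if_false, Fin.val_succ]
      simp only [zero_le, true_and]
      exact forall_congr' fun i => by omega
    have hpart : part s (Equiv.Perm.decomposeFin.symm ((0 : Fin (m + 2)), σ)) = Fin.cons (1 + s) (part 0 σ) := by
      funext i
      cases i using Fin.cases with
      | zero => simp [part, Equiv.Perm.decomposeFin_symm_apply_zero]
      | succ i =>
        simp only [part, hval (0 : Fin (m + 2)) σ i (by simp), Fin.val_zero, zero_ne_one, false_and, if_false,
          Fin.val_succ, Fin.cons_succ]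
        split_ifs <;> first | contradiction | omega
    simp only [hcond]
    split_ifs with h
    · rw [hpart, cnt_cons, Finset.mul_sum, Equiv.Perm.decomposeFin.symm_sign, if_pos rfl, one_mul]
    · simp
  · rw [alt, ← Finset.sum_neg_distrib]
    refine Finset.sum_congr rfl fun σ _ => ?_
    have hcond : (∀ i : Fin (m + 2), (Equiv.Perm.decomposeFin.symm ((0 : Fin (m + 1)).succ, σ) i).val ≤ 1 + i.val) ↔
        ∀ i : Fin (m + 1), (σ i).val ≤ 1 + i.val := by
      rw [Fin.forall_fin_succ]
      simp only [Equiv.Perm.decomposeFin_symm_apply_zero, hval ((0 : Fin (m + 1)).succ) σ _ (by simp), Fin.val_succ,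
        Fin.val_zero, zero_add, le_refl, true_and, add_zero]
      refine forall_congr' fun i => ?_
      split_ifs <;> omega
    have hpart : part s (Equiv.Perm.decomposeFin.symm ((0 : Fin (m + 1)).succ, σ)) = Fin.cons 0 (part (s + 1) σ) := by
      funext i
      cases i using Fin.cases with
      | zero => simp [part, Equiv.Perm.decomposeFin_symm_apply_zero]
      | succ i =>
        simp only [part, hval ((0 : Fin (m + 1)).succ) σ i (by simp), Fin.val_succ, Fin.val_zero, zero_add, true_and,
          Fin.cons_succ]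
        split_ifs <;> first | contradiction | omega
    simp only [hcond]
    split_ifs with h
    · rw [hpart, cnt_cons_zero e hU, Equiv.Perm.decomposeFin.symm_sign, if_neg (Fin.succ_ne_zero _)]
      push_cast
      ring
    · simp

open _root_.Classical in
theorem alt_eq : ∀ (m s : ℕ) (U : Submodule F V), Inv e U → finrank F U + (m + 1) + s = finrank F V →
    alt e m s U = (-1) ^ m * ∑ W ∈ (invs e).filter (fun W => U ≤ W ∧ finrank F U + s < finrank F W), mu e W := by
  intro m
  induction m with
  | zero =>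
    intro s U hU hd
    have hs : (invs e).filter (fun W => U ≤ W ∧ finrank F U + s < finrank F W) = {⊤} := by
      ext W
      simp only [Finset.mem_filter, mem_invs, Finset.mem_singleton]
      refine ⟨fun h => Submodule.eq_top_of_finrank_eq ?_, fun h => ?_⟩
      · have := Submodule.finrank_le W; omega
      · subst h; rw [finrank_top]; exact ⟨inv_top e, le_top, by omega⟩
    haveI : Subsingleton (Fin (0 + 1)) := ⟨fun a b => Fin.ext (by omega)⟩
    haveI : Unique (Equiv.Perm (Fin (0 + 1))) := ⟨⟨1⟩, fun a => Equiv.ext fun i => Subsingleton.elim _ _⟩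
    rw [hs, Finset.sum_singleton, mu_top, alt, Fintype.sum_unique]
    have hp : ∀ κ : Equiv.Perm (Fin (0 + 1)), part s κ = Fin.cons (1 + s) Fin.elim0 := fun κ => by
      funext i
      obtain rfl : i = 0 := Subsingleton.elim i 0
      simp [part]
    rw [if_pos (fun i => by omega), hp, cnt_cons]
    have hst : steps e U (1 + s) = {⊤} := by
      ext W
      rw [mem_steps, Finset.mem_singleton]
      refine ⟨fun h => Submodule.eq_top_of_finrank_eq (by omega), fun h => ?_⟩
      subst h; rw [finrank_top]; exact ⟨inv_top e, le_top, by omega⟩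
    rw [hst, Finset.sum_singleton, cnt_nil]
    have h1 : ∀ κ : Equiv.Perm (Fin (0 + 1)), Equiv.Perm.sign κ = 1 := fun κ => by
      rw [show κ = 1 from Equiv.ext fun i => Subsingleton.elim _ _, map_one]
    simp [h1]
  | succ m ih =>
    intro s U hU hd
    rw [alt_succ e m s hU, ih (s + 1) U hU (by omega)]
    have hrec : ∀ W ∈ steps e U (1 + s), alt e m 0 W = -((-1) ^ m * mu e W) := by
      intro W hW
      rw [mem_steps] at hW
      rw [ih 0 W hW.1 (by omega), mu_eq e (fun h => by subst h; rw [finrank_top] at hW; omega), mul_neg, neg_neg]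
      congr 1
      refine Finset.sum_congr (Finset.filter_congr fun X _ => ?_) fun _ _ => rfl
      rw [add_zero]
      exact ⟨fun h => lt_of_le_of_ne h.1 fun hh => absurd h.2 (by rw [hh]; exact lt_irrefl _),
        fun h => ⟨h.le, Submodule.finrank_lt_finrank_of_lt h⟩⟩
    rw [Finset.sum_congr rfl hrec, Finset.sum_neg_distrib, ← Finset.mul_sum]
    have hsplit : (invs e).filter (fun W => U ≤ W ∧ finrank F U + s < finrank F W) =
        steps e U (1 + s) ∪ (invs e).filter (fun W => U ≤ W ∧ finrank F U + (s + 1) < finrank F W) := by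
      ext W
      simp only [Finset.mem_filter, mem_invs, Finset.mem_union, mem_steps]
      constructor
      · rintro ⟨h1, h2, h3⟩
        rcases eq_or_lt_of_le (Nat.succ_le_of_lt h3) with h | h
        · exact Or.inl ⟨h1, h2, by omega⟩
        · exact Or.inr ⟨h1, h2, by omega⟩
      · rintro (⟨h1, h2, h3⟩ | ⟨h1, h2, h3⟩) <;> exact ⟨h1, h2, by omega⟩
    rw [hsplit, Finset.sum_union, pow_succ]
    · ring
    · rw [Finset.disjoint_left]
      intro W hW hW'
      rw [mem_steps] at hW
      simp only [Finset.mem_filter] at hW'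
      omega

end Chains

section Cosets

variable {F : Type u} [Field F] [Fintype F] {n : ℕ}

local notation "M" x => (Units.val x : Matrix (Fin n) (Fin n) F)

/-- The standard flag. -/
def std (μ : Fin n → ℕ) (j : Fin n) : Submodule F (Fin n → F) where
  carrier := {v | ∀ i : Fin n, psum μ j ≤ i.val → v i = 0}
  add_mem' := fun ha hb i hi => by simp [ha i hi, hb i hi]
  zero_mem' := fun i _ => rfl
  smul_mem' := fun c _ hv i hi => by simp [hv i hi]

theorem finrank_std {μ : Fin n → ℕ} (hμ : ∑ k, μ k = n) (j : Fin n) :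
    finrank F (std (F := F) μ j) = psum μ j := by
  classical
  have hle : psum μ j ≤ n := by
    calc psum μ j ≤ ∑ k, μ k := Finset.sum_le_sum_of_subset (Finset.subset_univ _)
      _ = n := hμ
  let φ : std (F := F) μ j ≃ₗ[F] (Fin (psum μ j) → F) :=
    { toFun := fun v i => v.1 ⟨i.val, lt_of_lt_of_le i.2 hle⟩
      map_add' := fun _ _ => rfl
      map_smul' := fun _ _ => rfl
      invFun := fun w => ⟨fun i => if h : i.val < psum μ j then w ⟨i.val, h⟩ else 0, fun i hi => dif_neg (not_lt.2 hi)⟩
      left_inv := fun v => Subtype.ext (funext fun i => by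
        show (if h : i.val < psum μ j then v.1 i else 0) = v.1 i
        split_ifs with h
        · rfl
        · exact (v.2 i (not_lt.1 h)).symm)
      right_inv := fun w => funext fun i => dif_pos i.2 }
  rw [φ.finrank_eq, finrank_fin_fun]

theorem mem_parabolic_iff (μ : Fin n → ℕ) (g : GL (Fin n) F) :
    g ∈ parabolicGL n F μ ↔ ∀ j, ∀ v ∈ std (F := F) μ j, (M g) *ᵥ v ∈ std (F := F) μ j := by
  classical
  constructor
  · intro hg j v hv i hi
    show ∑ k, (M g) i k * v k = 0
    refine Finset.sum_eq_zero fun k _ => ?_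
    rcases lt_or_ge k.val (psum μ j) with hk | hk
    · have h1 : compLabel μ k ≤ j.val := (ParCoset.compLabel_le_iff μ k j).2 hk
      have h2 : ¬ compLabel μ i ≤ j.val := fun h => absurd ((ParCoset.compLabel_le_iff μ i j).1 h) (not_lt.2 hi)
      show (M g) i k * v k = 0
      rw [hg (show compLabel μ k < compLabel μ i by omega), zero_mul]
    · show (M g) i k * v k = 0
      rw [hv k hk, mul_zero]
  · intro h i k hik
    have hlt : compLabel μ k < n := lt_of_lt_of_le hik (Finset.card_le_univ _ |>.trans (by simp))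
    have hk : k.val < psum μ ⟨_, hlt⟩ := (ParCoset.compLabel_le_iff μ k ⟨_, hlt⟩).1 le_rfl
    have hi : psum μ ⟨_, hlt⟩ ≤ i.val := not_lt.1 fun h' => absurd ((ParCoset.compLabel_le_iff μ i ⟨_, hlt⟩).2 h') (by simp; omega)
    have := h ⟨_, hlt⟩ (Pi.single k 1) (fun i' hi' => Pi.single_eq_of_ne (by rintro rfl; omega) _) i hi
    simpa using this

theorem finrank_map_inj {A : Matrix (Fin n) (Fin n) F} (hA : Function.Injective A.mulVec)
    (U : Submodule F (Fin n → F)) : finrank F (U.map (Matrix.toLin' A)) = finrank F U :=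
  ((Submodule.equivMapOfInjective (Matrix.toLin' A) hA U).finrank_eq).symm

theorem exists_adapted {μ : Fin n → ℕ} (hμ : ∑ k, μ k = n) (W : Fin n → Submodule F (Fin n → F)) (hW : Monotone W)
    (hd : ∀ j, finrank F (W j) = psum μ j) :
    ∃ g : GL (Fin n) F, ∀ j, (std (F := F) μ j).map (Matrix.toLin' (M g)) = W j := by
  classical
  have hex : ∀ k, k ≤ n → ∃ v : Fin k → (Fin n → F), LinearIndependent F v ∧
      ∀ i : Fin k, ∀ hi : i.val < n, v i ∈ W (ParCoset.lab hμ ⟨i.val, hi⟩) := by
    intro k
    induction k with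
    | zero => exact fun _ => ⟨Fin.elim0, linearIndependent_empty_type, fun i => i.elim0⟩
    | succ k ih =>
      intro hk
      obtain ⟨v, hv, hvW⟩ := ih (by omega)
      have hkk : k < psum μ (ParCoset.lab hμ ⟨k, hk⟩) := (ParCoset.compLabel_le_iff μ ⟨k, hk⟩ _).1 le_rfl
      obtain ⟨w, hw, hwn⟩ : ∃ w ∈ W (ParCoset.lab hμ ⟨k, hk⟩), w ∉ Submodule.span F (Set.range v) := by
        by_contra hc
        push Not at hc
        have h1 := Submodule.finrank_mono (show W _ ≤ Submodule.span F (Set.range v) from hc)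
        rw [hd, finrank_span_eq_card hv, Fintype.card_fin] at h1
        omega
      refine ⟨Fin.snoc v w, linearIndependent_finSnoc.2 ⟨hv, hwn⟩, fun i hi => ?_⟩
      cases i using Fin.lastCases with
      | last => simpa using hw
      | cast i => simpa using hvW i (lt_of_lt_of_le i.2 (by omega))
  obtain ⟨v, hv, hvW⟩ := hex n le_rfl
  let A : Matrix (Fin n) (Fin n) F := (Matrix.of v)ᵀ
  have hA : IsUnit A := by
    rw [Matrix.isUnit_transpose]
    exact Matrix.linearIndependent_rows_iff_isUnit.1 hv
  obtain ⟨g, hg⟩ := hA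
  refine ⟨g, fun j => ?_⟩
  refine Submodule.eq_of_le_of_finrank_eq ?_ ?_
  · rintro _ ⟨x, hx, rfl⟩
    rw [Matrix.toLin'_apply, hg, show A *ᵥ x = ∑ i, x i • v i by
      funext r; simp [A, Matrix.mulVec, dotProduct, Finset.sum_apply, mul_comm]]
    refine Submodule.sum_mem _ fun i _ => ?_
    rcases lt_or_ge i.val (psum μ j) with h | h
    · exact Submodule.smul_mem _ _ (hW (show ParCoset.lab hμ i ≤ j from (ParCoset.compLabel_le_iff μ i j).2 h) (hvW i i.2))
    · rw [hx i h, zero_smul]; exact zero_mem _
  · rw [finrank_map_inj (Matrix.mulVec_injective_iff_isUnit.2 g.isUnit), finrank_std hμ, hd]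

theorem card_fixed {μ : Fin n → ℕ} (hμ : ∑ k, μ k = n) (x : GL (Fin n) F) :
    (Nat.card (MulAction.fixedBy (GL (Fin n) F ⧸ parabolicGL n F μ) x) : ℤ) =
      cnt (Matrix.toLin' (M x)) ⊥ μ := by
  classical
  let L : GL (Fin n) F → (Fin n → F) →ₗ[F] (Fin n → F) := fun g => Matrix.toLin' (M g)
  have hL : ∀ g h v, L (g * h) v = L g (L h v) := fun g h v => by simp [L, Matrix.mulVec_mulVec]
  have hLi : ∀ g v, L g⁻¹ (L g v) = v := fun g v => by rw [← hL, inv_mul_cancel]; simp [L]
  let img : GL (Fin n) F → Fin n → Submodule F (Fin n → F) := fun g j => (std (F := F) μ j).map (L g)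
  have himg : ∀ g h, img g = img h ↔ g⁻¹ * h ∈ parabolicGL n F μ := by
    intro g h
    rw [mem_parabolic_iff]
    constructor
    · intro e j v hv
      have : L h v ∈ img g j := e ▸ Submodule.mem_map_of_mem hv
      obtain ⟨w, hw, hwv⟩ := this
      have h2 : L (g⁻¹ * h) v = w := by rw [hL, ← hwv, hLi]
      simp only [L, Matrix.toLin'_apply] at h2
      exact h2 ▸ hw
    · intro hp
      funext j
      refine (Submodule.eq_of_le_of_finrank_eq ?_ ?_).symm
      · rintro _ ⟨v, hv, rfl⟩
        refine ⟨L (g⁻¹ * h) v, hp j v hv, ?_⟩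
        rw [← hL, mul_inv_cancel_left]
      · simp only [img]
        rw [finrank_map_inj (Matrix.mulVec_injective_iff_isUnit.2 (Units.isUnit g)),
          finrank_map_inj (Matrix.mulVec_injective_iff_isUnit.2 (Units.isUnit h))]
  have hdim : ∀ g j, finrank F (img g j) = psum μ j := fun g j => by
    simp only [img]
    rw [finrank_map_inj (Matrix.mulVec_injective_iff_isUnit.2 (Units.isUnit g)), finrank_std hμ]
  have hmono : ∀ g, Monotone (img g) := fun g i j hij => Submodule.map_mono fun v hv k hk =>
    hv k ((ParCoset.psum_mono μ hij).trans hk)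
  have hfix : ∀ g : GL (Fin n) F, (g : GL (Fin n) F ⧸ parabolicGL n F μ) ∈ MulAction.fixedBy _ x ↔
      ∀ j, Inv (L x) (img g j) := by
    intro g
    rw [MulAction.mem_fixedBy, MulAction.Quotient.smul_mk, QuotientGroup.eq, smul_eq_mul, ← himg]
    constructor
    · intro e j v hv
      obtain ⟨w, hw, rfl⟩ := hv
      rw [← hL, ← e]
      exact Submodule.mem_map_of_mem hw
    · intro hi
      funext j
      refine Submodule.eq_of_le_of_finrank_eq ?_ (by rw [hdim, hdim])
      rintro _ ⟨v, hv, rfl⟩
      rw [hL]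
      exact hi j _ (Submodule.mem_map_of_mem hv)
  rw [cnt]
  congr 1
  let flag : MulAction.fixedBy (GL (Fin n) F ⧸ parabolicGL n F μ) x → Fl (L x) ⊥ μ := fun c =>
    ⟨img c.1.out, hmono _, fun j => ⟨(hfix _).1 (by rw [QuotientGroup.out_eq']; exact c.2) j, bot_le,
      by rw [hdim, finrank_bot, zero_add, psum'_eq]⟩⟩
  refine Nat.card_eq_of_bijective flag ⟨fun c c' h => ?_, fun C => ?_⟩
  · have := (himg _ _).1 (congrArg Subtype.val h)
    refine Subtype.ext ?_
    rw [← QuotientGroup.out_eq' c.1, ← QuotientGroup.out_eq' c'.1]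
    exact QuotientGroup.eq.2 this
  · obtain ⟨g, hg⟩ := exists_adapted hμ C.1 C.2.1 fun j => by
      rw [(C.2.2 j).2.2, finrank_bot, zero_add, psum'_eq]
    have hgi : img g = C.1 := funext hg
    refine ⟨⟨(g : GL (Fin n) F ⧸ parabolicGL n F μ), (hfix g).2 fun j => by rw [hgi]; exact (C.2.2 j).1⟩, Subtype.ext ?_⟩
    show img (g : GL (Fin n) F ⧸ parabolicGL n F μ).out = C.1
    rw [← hgi]
    exact (himg _ _).2 (QuotientGroup.eq.1 (QuotientGroup.out_eq' _))

/-- The value of the alternating sum is the Möbius function. -/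
theorem steinberg_eq_mu (x : GL (Fin n) F) :
    unipotentCharacterGL n F (fun _ => 1) x = (-1 : ℂ) ^ n * ((mu (Matrix.toLin' (M x)) ⊥ : ℤ) : ℂ) := by
  classical
  obtain rfl | ⟨m, rfl⟩ : n = 0 ∨ ∃ m, n = m + 1 := by rcases n with - | m <;> simp
  · haveI : Unique (Submodule F (Fin 0 → F)) := ⟨⟨⊥⟩, fun a => Subsingleton.elim _ _⟩
    rw [unipotentCharacterGL, Fintype.sum_unique, if_pos (fun i => i.elim0),
      show mu (Matrix.toLin' (x : Matrix (Fin 0) (Fin 0) F)) ⊥ = 1 by
        rw [show (⊥ : Submodule F (Fin 0 → F)) = ⊤ from Subsingleton.elim _ _, mu_top]]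
    have h := card_fixed (F := F) (μ := fun i : Fin 0 => 1 + i.val - ((default : Equiv.Perm (Fin 0)) i).val) (by simp) x
    rw [cnt_nil] at h
    simp only [fixedPointCharacter]
    rw [show Nat.card (MulAction.fixedBy (GL (Fin 0) F ⧸ parabolicGL 0 F fun i => 1 + i.val - ((default : Equiv.Perm (Fin 0)) i).val) x) = 1 by exact_mod_cast h]
    simp [Subsingleton.elim (default : Equiv.Perm (Fin 0)) 1]
  · set e : Module.End F (Fin (m + 1) → F) := Matrix.toLin' (x : Matrix (Fin (m + 1)) (Fin (m + 1)) F)
    have hχ : unipotentCharacterGL (m + 1) F (fun _ => 1) x = ((alt e m 0 ⊥ : ℤ) : ℂ) := by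
      rw [unipotentCharacterGL, alt, Int.cast_sum]
      refine Finset.sum_congr rfl fun κ _ => ?_
      split_ifs with h
      · have hsum : ∑ i, (1 + i.val - (κ i).val) = m + 1 := by
          have h1 : ∑ i, (1 + i.val - (κ i).val) + ∑ i, (κ i).val = ∑ i : Fin (m + 1), 1 + ∑ i : Fin (m + 1), i.val := by
            rw [← Finset.sum_add_distrib, ← Finset.sum_add_distrib]
            exact Finset.sum_congr rfl fun i _ => Nat.sub_add_cancel (h i)
          rw [Equiv.sum_comp κ (fun i : Fin (m + 1) => i.val)] at h1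
          simp at h1 ⊢
          omega
        have hp : part 0 κ = fun i : Fin (m + 1) => 1 + i.val - (κ i).val := funext fun i => by simp [part]
        rw [hp, Int.cast_mul, ← card_fixed hsum x, Int.cast_natCast]
        rfl
      · simp
    rw [hχ, alt_eq e m 0 ⊥ (inv_bot e) (by rw [finrank_bot, finrank_fin_fun]; omega)]
    have hne : (⊥ : Submodule F (Fin (m + 1) → F)) ≠ ⊤ := bot_ne_top
    rw [mu_eq e hne, show (invs e).filter (fun W => (⊥ : Submodule F (Fin (m + 1) → F)) < W) =
        (invs e).filter (fun W : Submodule F (Fin (m + 1) → F) => ⊥ ≤ W ∧ finrank F ↥(⊥ : Submodule F (Fin (m + 1) → F)) + 0 < finrank F W) from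
      Finset.filter_congr fun W _ => by
        rw [finrank_bot, add_zero]
        simp [bot_lt_iff_ne_bot, Nat.pos_iff_ne_zero]]
    push_cast
    rw [pow_succ]
    ring

end Cosets

end Cfsg.Agent.Classical.StFlags
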