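import Mathlib

/-!
A space with a reflexive form, a quadratic companion and a hyperbolic frame with anisotropic middle:
coordinates, heights of singular vectors, singular flags, and the step up inside a panel.
-/

set_option autoImplicit false
set_option linter.unusedSectionVars false

namespace Cfsg.Agent.Classical.StPolar

open Module

universe u v

/-- The data of the frame. -/
structure Frame (K : Type u) [Field K] (V : Type v) [AddCommGroup V] [Module K V] (m : ℕ) where
  /-- the twist -/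
  σ : K →+* K
  /-- the form -/
  B : V → V → K
  /-- the quadratic companion -/
  q : V → K
  /-- the trace of the companion -/
  t : K → K
  /-- the sign of the form -/
  eps : K
  add_left : ∀ u v w, B (u + v) w = B u w + B v w
  smul_left : ∀ (c : K) u w, B (c • u) w = c * B u w
  swap : ∀ u v, B v u = eps * σ (B u v)
  eps_norm : eps * σ eps = 1
  t_zero : t 0 = 0
  q_add : ∀ u v, q (u + v) = q u + q v + t (B u v)
  q_smul : ∀ (c : K) v, q v = 0 → q (c • v) = 0
  self : ∀ v, q v = 0 → B v v = 0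
  /-- the first half -/
  e : Fin m → V
  /-- the second half -/
  f : Fin m → V
  ef : ∀ i j, B (e i) (f j) = if i = j then 1 else 0
  ee : ∀ i j, B (e i) (e j) = 0
  ff : ∀ i j, B (f i) (f j) = 0
  qe : ∀ i, q (e i) = 0
  qf : ∀ i, q (f i) = 0
  aniso : ∀ w, (∀ i, B w (f i) = 0) → (∀ i, B w (e i) = 0) → q w = 0 → w = 0

variable {K : Type u} [Field K] {V : Type v} [AddCommGroup V] [Module K V] {m : ℕ} (D : Frame K V m)

namespace Frame

theorem eps_ne : D.eps ≠ 0 := fun h => by simpa [h] using D.eps_norm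

theorem refl {u v : V} (h : D.B u v = 0) : D.B v u = 0 := by rw [D.swap, h, map_zero, mul_zero]

theorem add_right (u v w : V) : D.B u (v + w) = D.B u v + D.B u w := by
  rw [D.swap (v + w) u, D.add_left, map_add, mul_add, ← D.swap, ← D.swap]

theorem smul_right (c : K) (u w : V) : D.B u (c • w) = D.σ c * D.B u w := by
  rw [D.swap (c • w) u, D.smul_left, map_mul, mul_left_comm, ← D.swap]

/-- The form in the first variable. -/
def Bl (w : V) : V →ₗ[K] K where
  toFun u := D.B u w
  map_add' u v := D.add_left u v w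
  map_smul' c u := D.smul_left c u w

/-- The form in the second variable. -/
def Br (u : V) : V →ₛₗ[D.σ] K where
  toFun v := D.B u v
  map_add' v w := D.add_right u v w
  map_smul' c w := D.smul_right c u w

theorem B_zero_left (w : V) : D.B 0 w = 0 := map_zero (D.Bl w)
theorem B_zero_right (u : V) : D.B u 0 = 0 := map_zero (D.Br u)
theorem B_sum_left {ι : Type*} (s : Finset ι) (g : ι → V) (w : V) :
    D.B (∑ i ∈ s, g i) w = ∑ i ∈ s, D.B (g i) w := map_sum (D.Bl w) g s
theorem B_sum_right {ι : Type*} (s : Finset ι) (g : ι → V) (u : V) :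
    D.B u (∑ i ∈ s, g i) = ∑ i ∈ s, D.B u (g i) := map_sum (D.Br u) g s
theorem B_sub_left (u v w : V) : D.B (u - v) w = D.B u w - D.B v w := map_sub (D.Bl w) u v
theorem B_sub_right (u v w : V) : D.B u (v - w) = D.B u v - D.B u w := map_sub (D.Br u) v w

theorem q_zero : D.q 0 = 0 := by
  have h := D.q_add 0 0
  rw [add_zero, D.B_zero_left, D.t_zero, add_zero] at h
  exact left_eq_add.1 h

theorem q_orth_add {u v : V} (hu : D.q u = 0) (hv : D.q v = 0) (h : D.B u v = 0) : D.q (u + v) = 0 := by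
  rw [D.q_add, hu, hv, h, D.t_zero, add_zero, add_zero]

/-- Totally singular. -/
def TS (U : Submodule K V) : Prop := (∀ v ∈ U, D.q v = 0) ∧ ∀ u ∈ U, ∀ v ∈ U, D.B u v = 0

theorem TS.orth {D : Frame K V m} {U : Submodule K V} (h : D.TS U) {u v : V} (hu : u ∈ U) (hv : v ∈ U) :
    D.B u v = 0 :=
  h.2 u hu v hv

theorem q_sum {ι : Type*} (s : Finset ι) (g : ι → V) (hq : ∀ i, D.q (g i) = 0)
    (hB : ∀ i j, D.B (g i) (g j) = 0) (c : ι → K) : D.q (∑ i ∈ s, c i • g i) = 0 := by
  classical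
  induction s using Finset.induction_on with
  | empty => rw [Finset.sum_empty]; exact D.q_zero
  | insert a s ha ih =>
    rw [Finset.sum_insert ha]
    refine D.q_orth_add (D.q_smul _ _ (hq a)) ih ?_
    rw [D.B_sum_right]
    exact Finset.sum_eq_zero fun j _ => by rw [D.smul_left, D.smul_right, hB, mul_zero, mul_zero]

theorem ts_span {ι : Type*} [Fintype ι] (g : ι → V) (hq : ∀ i, D.q (g i) = 0)
    (hB : ∀ i j, D.B (g i) (g j) = 0) : D.TS (Submodule.span K (Set.range g)) := by
  refine ⟨fun v hv => ?_, fun u hu v hv => ?_⟩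
  · obtain ⟨c, rfl⟩ := (Submodule.mem_span_range_iff_exists_fun K).1 hv
    exact D.q_sum _ g hq hB c
  · obtain ⟨a, rfl⟩ := (Submodule.mem_span_range_iff_exists_fun K).1 hu
    obtain ⟨c, rfl⟩ := (Submodule.mem_span_range_iff_exists_fun K).1 hv
    simp [D.B_sum_left, D.B_sum_right, D.smul_left, D.smul_right, hB]

/-! ### Coordinates -/

theorem fe (i j : Fin m) : D.B (D.f i) (D.e j) = if i = j then D.eps else 0 := by
  rw [D.swap (D.e j) (D.f i), D.ef]
  by_cases h : i = j <;> simp [h, eq_comm]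

/-- The first coordinates. -/
def A (i : Fin m) : V →ₗ[K] K := D.Bl (D.f i)

/-- The second coordinates. -/
def C (i : Fin m) : V →ₗ[K] K := D.eps⁻¹ • D.Bl (D.e i)

theorem A_def (i : Fin m) (v : V) : D.A i v = D.B v (D.f i) := rfl
theorem C_def (i : Fin m) (v : V) : D.C i v = D.eps⁻¹ * D.B v (D.e i) := rfl

@[simp] theorem A_e (i j : Fin m) : D.A i (D.e j) = if j = i then 1 else 0 := D.ef j i
@[simp] theorem A_f (i j : Fin m) : D.A i (D.f j) = 0 := D.ff j i
@[simp] theorem C_e (i j : Fin m) : D.C i (D.e j) = 0 := by rw [C_def, D.ee, mul_zero]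
@[simp] theorem C_f (i j : Fin m) : D.C i (D.f j) = if j = i then 1 else 0 := by
  rw [C_def, D.fe]
  split_ifs <;> simp [D.eps_ne]

theorem B_f (u : V) (i : Fin m) : D.B u (D.f i) = D.A i u := rfl
theorem B_e (u : V) (i : Fin m) : D.B u (D.e i) = D.eps * D.C i u := by
  rw [C_def, mul_inv_cancel_left₀ D.eps_ne]

theorem e_B (v : V) (i : Fin m) : D.B (D.e i) v = D.σ (D.C i v) := by
  rw [D.swap v (D.e i), B_e, map_mul, ← mul_assoc, D.eps_norm, one_mul]

theorem f_B (v : V) (i : Fin m) : D.B (D.f i) v = D.eps * D.σ (D.A i v) := D.swap v (D.f i)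

/-- The middle part. -/
def pr : V →ₗ[K] V :=
  LinearMap.id - ∑ i, (D.A i).smulRight (D.e i) - ∑ i, (D.C i).smulRight (D.f i)

theorem pr_apply (v : V) : D.pr v = v - ∑ i, D.A i v • D.e i - ∑ i, D.C i v • D.f i := by
  simp [pr, LinearMap.sub_apply, LinearMap.sum_apply]

theorem decomp (v : V) : v = ∑ i, D.A i v • D.e i + ∑ i, D.C i v • D.f i + D.pr v := by
  rw [pr_apply]; abel

@[simp] theorem A_pr (j : Fin m) (v : V) : D.A j (D.pr v) = 0 := by
  simp [pr_apply, map_sub, map_sum, eq_comm, Finset.sum_ite_eq']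

@[simp] theorem C_pr (j : Fin m) (v : V) : D.C j (D.pr v) = 0 := by
  simp [pr_apply, map_sub, map_sum, eq_comm, Finset.sum_ite_eq']

@[simp] theorem pr_e (i : Fin m) : D.pr (D.e i) = 0 := by
  simp [pr_apply, ite_smul, Finset.sum_ite_eq, Finset.sum_ite_eq']

@[simp] theorem pr_f (i : Fin m) : D.pr (D.f i) = 0 := by
  simp [pr_apply, ite_smul, Finset.sum_ite_eq, Finset.sum_ite_eq']

@[simp] theorem pr_pr (v : V) : D.pr (D.pr v) = D.pr v := by
  rw [pr_apply]; simp

/-- A singular vector without second coordinates is a combination of the first half. -/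
theorem eq_sum_e {v : V} (hv : D.q v = 0) (hC : ∀ i, D.C i v = 0) : v = ∑ i, D.A i v • D.e i := by
  have he : D.pr v = v + ∑ i, (-D.A i v) • D.e i := by
    rw [pr_apply, Finset.sum_eq_zero (f := fun i => D.C i v • D.f i) fun i _ => by rw [hC i, zero_smul]]
    simp [sub_eq_add_neg]
  have hw : D.q (D.pr v) = 0 := by
    rw [he]
    refine D.q_orth_add hv (D.q_sum _ D.e D.qe D.ee _) ?_
    rw [D.B_sum_right]
    exact Finset.sum_eq_zero fun i _ => by rw [D.smul_right, B_e, hC, mul_zero, mul_zero]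
  have h0 : D.pr v = 0 := D.aniso _ (fun i => D.A_pr i v) (fun i => by rw [B_e, C_pr, mul_zero]) hw
  conv_lhs => rw [D.decomp v, h0, add_zero]
  simp [hC]

/-! ### Heights -/

/-- The coordinate at a position: first `e`'s, then the `f`'s backwards. -/
def co (k : ℕ) : V →ₗ[K] K :=
  if h : k < m then D.A ⟨k, h⟩ else if h' : k < 2 * m then D.C ⟨2 * m - 1 - k, by omega⟩ else 0

theorem co_A (i : Fin m) : D.co i = D.A i := by simp [co]

theorem co_C (i : Fin m) : D.co (2 * m - 1 - i) = D.C i := by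
  have := i.2
  rw [co, dif_neg (by omega), dif_pos (by omega)]
  exact congrArg D.C (Fin.ext (show 2 * m - 1 - (2 * m - 1 - (i : ℕ)) = i by omega))

theorem co_of_le {k : ℕ} (hk : 2 * m ≤ k) : D.co k = 0 := by
  rw [co, dif_neg (by omega), dif_neg (by omega)]

/-- The height of a vector. -/
def Ht (v : V) (k : ℕ) : Prop := D.co k v ≠ 0 ∧ ∀ j, k < j → D.co j v = 0

theorem Ht.lt {D : Frame K V m} {v : V} {k : ℕ} (h : D.Ht v k) : k < 2 * m := by
  by_contra hk
  exact h.1 (by rw [D.co_of_le (by omega)]; rfl)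

theorem Ht.unique {D : Frame K V m} {v : V} {k l : ℕ} (h : D.Ht v k) (h' : D.Ht v l) : k = l := by
  rcases Nat.lt_trichotomy k l with hl | hl | hl
  · exact absurd (h.2 l hl) h'.1
  · exact hl
  · exact absurd (h'.2 k hl) h.1

theorem exists_ht {v : V} (hv : D.q v = 0) (h0 : v ≠ 0) : ∃ k, D.Ht v k := by
  classical
  have hne : ((Finset.range (2 * m)).filter fun k => D.co k v ≠ 0).Nonempty := by
    by_contra h
    rw [Finset.not_nonempty_iff_eq_empty, Finset.filter_eq_empty_iff] at h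
    push Not at h
    have hA : ∀ i, D.A i v = 0 := fun i => by rw [← co_A]; exact h (Finset.mem_range.2 (by omega))
    have hC : ∀ i, D.C i v = 0 := fun i => by rw [← co_C]; exact h (Finset.mem_range.2 (by omega))
    exact h0 (by rw [D.eq_sum_e hv hC]; simp [hA])
  refine ⟨_, (Finset.mem_filter.1 (Finset.max'_mem _ hne)).2, fun j hj => ?_⟩
  by_contra hjv
  have hj2 : j < 2 * m := by
    by_contra hj2
    exact hjv (by rw [D.co_of_le (by omega)]; rfl)
  exact absurd (Finset.le_max' _ j (Finset.mem_filter.2 ⟨Finset.mem_range.2 hj2, hjv⟩)) (not_le.2 hj)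

theorem Ht.C_zero {D : Frame K V m} {v : V} {k : ℕ} (h : D.Ht v k) {i : Fin m}
    (hi : k < 2 * m - 1 - (i : ℕ)) : D.C i v = 0 := by rw [← co_C]; exact h.2 _ hi

theorem Ht.A_zero {D : Frame K V m} {v : V} {k : ℕ} (h : D.Ht v k) {i : Fin m} (hi : k < (i : ℕ)) :
    D.A i v = 0 := by rw [← co_A]; exact h.2 _ hi

theorem Ht.C_all {D : Frame K V m} {v : V} {k : ℕ} (h : D.Ht v k) (hk : k < m) (i : Fin m) : D.C i v = 0 :=
  h.C_zero (by have := i.2; omega)

/-- Opposite heights pair non-trivially. -/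
theorem pairing {u v : V} {k : ℕ} (hu : D.q u = 0) (hk : k < m) (h : D.Ht u k)
    (h' : D.Ht v (2 * m - 1 - k)) : D.B u v ≠ 0 := by
  have hue := D.eq_sum_e hu (h.C_all hk)
  rw [hue, D.B_sum_left, Finset.sum_eq_single ⟨k, hk⟩, D.smul_left, e_B]
  · refine mul_ne_zero ?_ ((map_ne_zero D.σ).2 ?_)
    · rw [← co_A]; exact h.1
    · rw [← co_C]; exact h'.1
  · intro i _ hi
    rw [D.smul_left]
    rcases Nat.lt_or_gt_of_ne (fun e : (i : ℕ) = k => hi (Fin.ext e)) with hl | hl
    · rw [e_B, h'.C_zero (by omega), map_zero, mul_zero]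
    · rw [h.A_zero hl, zero_mul]
  · simp

theorem not_opp {U : Submodule K V} (hU : D.TS U) {u v : V} (hu : u ∈ U) (hv : v ∈ U) {k l : ℕ}
    (h : D.Ht u k) (h' : D.Ht v l) : k + l ≠ 2 * m - 1 := by
  intro he
  have := h.lt
  have := h'.lt
  rcases Nat.lt_or_ge k m with hk | hk
  · exact D.pairing (hU.1 u hu) hk h (by rwa [show 2 * m - 1 - k = l by omega]) (hU.orth hu hv)
  · exact D.pairing (hU.1 v hv) (by omega) h' (by rwa [show 2 * m - 1 - l = k by omega]) (hU.orth hv hu)

theorem finrank_le [FiniteDimensional K V] {U : Submodule K V} (hU : D.TS U) : finrank K U ≤ m := by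
  classical
  let side : Fin m → ℕ := fun i => if ∃ v ∈ U, D.Ht v i then (i : ℕ) else 2 * m - 1 - i
  let L : U →ₗ[K] (Fin m → K) := LinearMap.pi fun i => (D.co (side i)).comp U.subtype
  have hL : Function.Injective L := (injective_iff_map_eq_zero L).2 fun v hv => by
    by_contra h0
    obtain ⟨k, hk⟩ := D.exists_ht (hU.1 v v.2) fun h => h0 (Subtype.ext h)
    have hk2 := hk.lt
    rcases Nat.lt_or_ge k m with hkm | hkm
    · refine hk.1 ?_
      have h := congrFun hv ⟨k, hkm⟩
      simpa [L, side, show ∃ w ∈ U, D.Ht w k from ⟨v, v.2, hk⟩] using h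
    · refine hk.1 ?_
      have hne : ¬ ∃ w ∈ U, D.Ht w (2 * m - 1 - k) := fun ⟨w, hw, hwk⟩ =>
        D.not_opp hU v.2 hw hk hwk (by omega)
      have h := congrFun hv ⟨2 * m - 1 - k, by omega⟩
      simpa [L, side, hne, show 2 * m - 1 - (2 * m - 1 - k) = k by omega] using h
  simpa using LinearMap.finrank_le_finrank_of_injective hL

end Frame

/-! ### Flags -/

/-- Full singular flags. -/
@[ext]
structure Flag (D : Frame K V m) where
  /-- the subspaces -/
  sp : Fin (m + 1) → Submodule K V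
  rank : ∀ k, finrank K (sp k) = k
  mono : Monotone sp
  ts : D.TS (sp (Fin.last m))

namespace Flag

variable {D}

theorem ts' (y : Flag D) (k : Fin (m + 1)) : D.TS (y.sp k) :=
  ⟨fun v hv => y.ts.1 v (y.mono (Fin.le_last k) hv),
    fun u hu v hv => y.ts.2 u (y.mono (Fin.le_last k) hu) v (y.mono (Fin.le_last k) hv)⟩

theorem sp_zero [FiniteDimensional K V] (y : Flag D) : y.sp 0 = ⊥ :=
  Submodule.finrank_eq_zero.1 (by simp [y.rank 0])

instance [Finite V] : Finite (Flag D) := by
  haveI : Finite (Submodule K V) := Finite.of_injective (fun W => (W : Set V)) SetLike.coe_injective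
  exact Finite.of_injective Flag.sp fun a b h => Flag.ext h

/-- The flag of an independent pairwise orthogonal family of singular vectors. -/
def mk' (g : Fin m → V) (hg : LinearIndependent K g) (hq : ∀ i, D.q (g i) = 0)
    (hB : ∀ i j, D.B (g i) (g j) = 0) : Flag D where
  sp k := Submodule.span K (g '' {j | (j : ℕ) < k})
  rank k := by
    classical
    rw [Set.image_eq_range]
    refine (finrank_span_eq_card (hg.comp _ Subtype.val_injective)).trans ?_
    show Fintype.card {j : Fin m // (j : ℕ) < k} = k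
    rw [Fintype.card_congr (β := Fin k)
      ⟨fun j => ⟨j.1, j.2⟩, fun j => ⟨⟨j, by omega⟩, j.2⟩, fun j => rfl, fun j => rfl⟩, Fintype.card_fin]
  mono k l hkl := Submodule.span_mono (Set.image_mono fun j (hj : (j : ℕ) < k) =>
    show (j : ℕ) < l from lt_of_lt_of_le hj hkl)
  ts := ⟨fun v hv => (D.ts_span g hq hB).1 v (Submodule.span_mono (Set.image_subset_range _ _) hv),
    fun u hu v hv => (D.ts_span g hq hB).2 u (Submodule.span_mono (Set.image_subset_range _ _) hu) v
      (Submodule.span_mono (Set.image_subset_range _ _) hv)⟩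

theorem mem_mk' {g : Fin m → V} {hg : LinearIndependent K g} {hq : ∀ i, D.q (g i) = 0}
    {hB : ∀ i j, D.B (g i) (g j) = 0} (i : Fin m) : g i ∈ (mk' g hg hq hB).sp i.succ :=
  Submodule.subset_span (Set.mem_image_of_mem g (show (i : ℕ) < (i.succ : ℕ) by simp))

variable [FiniteDimensional K V] (y : Flag D)

theorem exists_new (i : Fin m) : ∃ v, v ∈ y.sp i.succ ∧ v ∉ y.sp i.castSucc := by
  by_contra h
  push Not at h
  have := Submodule.finrank_mono (show y.sp i.succ ≤ y.sp i.castSucc from h)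
  simp [y.rank] at this

theorem eq_sup {i : Fin m} {v : V} (hv : v ∈ y.sp i.succ) (hv' : v ∉ y.sp i.castSucc) :
    y.sp i.succ = y.sp i.castSucc ⊔ Submodule.span K {v} := by
  refine (Submodule.eq_of_le_of_finrank_le (sup_le (y.mono (Fin.castSucc_le_succ i))
    ((Submodule.span_singleton_le_iff_mem v _).2 hv)) ?_).symm
  rw [y.rank, Fin.val_succ]
  have hlt : y.sp i.castSucc < y.sp i.castSucc ⊔ Submodule.span K {v} :=
    lt_of_le_of_ne le_sup_left fun h => hv' (h ▸ Submodule.mem_sup_right (Submodule.mem_span_singleton_self v))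
  have := Submodule.finrank_lt_finrank_of_lt hlt
  rw [y.rank, Fin.val_castSucc] at this
  omega

/-- The least height of a new vector at a step. -/
noncomputable def pv (i : Fin m) : ℕ :=
  sInf {k | ∃ v, v ∈ y.sp i.succ ∧ v ∉ y.sp i.castSucc ∧ D.Ht v k}

theorem pv_spec (i : Fin m) : ∃ v, v ∈ y.sp i.succ ∧ v ∉ y.sp i.castSucc ∧ D.Ht v (y.pv i) := by
  obtain ⟨v, hv, hv'⟩ := y.exists_new i
  obtain ⟨k, hk⟩ := D.exists_ht ((y.ts' _).1 v hv) fun h => hv' (h ▸ zero_mem _)
  exact Nat.sInf_mem (s := {k | ∃ v, v ∈ y.sp i.succ ∧ v ∉ y.sp i.castSucc ∧ D.Ht v k}) ⟨k, v, hv, hv', hk⟩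

theorem pv_le {i : Fin m} {v : V} {k : ℕ} (hv : v ∈ y.sp i.succ) (hv' : v ∉ y.sp i.castSucc)
    (h : D.Ht v k) : y.pv i ≤ k := Nat.sInf_le ⟨v, hv, hv', h⟩

theorem pv_lt (i : Fin m) : y.pv i < 2 * m := (y.pv_spec i).elim fun _ h => h.2.2.lt

theorem pv_ne {i j : Fin m} (h : j < i) : y.pv j ≠ y.pv i := by
  intro he
  obtain ⟨u, hu, hu', huk⟩ := y.pv_spec i
  obtain ⟨v, hv, -, hvk⟩ := y.pv_spec j
  rw [he] at hvk
  have hv2 : v ∈ y.sp i.castSucc := y.mono (show j.succ ≤ i.castSucc from h) hv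
  set c := D.co (y.pv i) u / D.co (y.pv i) v
  set w := u - c • v
  have hw : w ∈ y.sp i.succ :=
    sub_mem hu (Submodule.smul_mem _ _ (y.mono (Fin.castSucc_le_succ i) hv2))
  have hw' : w ∉ y.sp i.castSucc := fun h' => hu' (by
    simpa [w] using add_mem h' (Submodule.smul_mem _ c hv2))
  obtain ⟨k, hk⟩ := D.exists_ht ((y.ts' _).1 w hw) fun h0 => hw' (h0 ▸ zero_mem _)
  have hlow : ∀ l, y.pv i ≤ l → D.co l w = 0 := fun l hl => by
    rcases Nat.lt_or_eq_of_le hl with hl | rfl
    · simp [w, map_sub, huk.2 l hl, hvk.2 l hl]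
    · simp [w, c, map_sub, div_mul_cancel₀ _ hvk.1]
  have : k < y.pv i := not_le.1 fun hl => hk.1 (hlow k hl)
  have := y.pv_le hw hw' hk
  omega

theorem pv_injective : Function.Injective y.pv := fun i j h => by
  rcases lt_trichotomy i j with hl | hl | hl
  · exact absurd h (y.pv_ne hl)
  · exact hl
  · exact absurd h.symm (y.pv_ne hl)

/-- The flags agree except at one step. -/
def Pan (i : Fin m) (y z : Flag D) : Prop := ∀ k, k ≠ i.succ → y.sp k = z.sp k

theorem Pan.pv_eq {i j : Fin m} {y z : Flag D} (h : Pan i y z) (hj : j < i) : y.pv j = z.pv j := by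
  have hj' : (j : ℕ) < i := hj
  rw [pv, pv, h j.succ (by simp [Fin.ext_iff]; omega), h j.castSucc (by simp [Fin.ext_iff]; omega)]

theorem Pan.new_mem {i : Fin m} {y z : Flag D} (h : Pan i y z) (hne : z ≠ y) {v : V}
    (hv : v ∈ z.sp i.succ) (hv' : v ∉ z.sp i.castSucc) : v ∉ y.sp i.succ := fun hy => by
  have hc : y.sp i.castSucc = z.sp i.castSucc := h _ (by simp [Fin.ext_iff])
  refine hne (Flag.ext (funext fun k => ?_))
  by_cases hk : k = i.succ
  · subst hk
    rw [z.eq_sup hv hv', y.eq_sup hy (hc ▸ hv'), hc]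
  · exact (h k hk).symm

/-- The opposite flags. -/
def IsTop : Prop := ∀ i : Fin m, y.pv i = 2 * m - 1 - i

/-- Position order of flags. -/
noncomputable def lvl : Lex (Fin m → ℕ) := toLex y.pv

theorem lvl_lt {i : Fin m} {y z : Flag D} (h : Pan i y z) (hi : y.pv i < z.pv i) : y.lvl < z.lvl :=
  ⟨i, fun j hj => h.pv_eq hj, hi⟩

theorem exists_up (hy : ¬ y.IsTop) : ∃ i, ∀ z, Pan i y z → z ≠ y → y.lvl < z.lvl := by
  by_contra hcon
  push Not at hcon
  have hasc : ∀ i i' : Fin m, (i' : ℕ) = i + 1 → y.pv i' < y.pv i := by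
    intro i i' hi'
    refine lt_of_le_of_ne (not_lt.1 fun hlt => ?_) fun h => by
      have := y.pv_injective h; omega
    obtain ⟨z, hz, hne, hle⟩ := hcon i
    refine hle (lvl_lt hz (lt_of_lt_of_le hlt ?_))
    obtain ⟨v, hv, hv', hk⟩ := z.pv_spec i
    have e1 : i.succ = i'.castSucc := Fin.ext (by simp [hi'])
    refine y.pv_le ?_ (e1 ▸ hz.new_mem hne hv hv') hk
    rw [hz i'.succ (by simp [Fin.ext_iff]; omega)]
    have hle' : i.succ ≤ i'.succ := by rw [Fin.le_def, Fin.val_succ, Fin.val_succ]; omega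
    exact (z.mono hle' : z.sp i.succ ≤ z.sp i'.succ) hv
  have hlast : ∀ i : Fin m, (i : ℕ) + 1 = m → m ≤ y.pv i := by
    intro i hi
    by_contra hlt
    push Not at hlt
    obtain ⟨z, hz, hne, hle⟩ := hcon i
    refine hle (lvl_lt hz (lt_of_lt_of_le hlt ?_))
    by_contra hzi
    push Not at hzi
    obtain ⟨v, hv, hv', hvk⟩ := z.pv_spec i
    obtain ⟨u, hu, hu', huk⟩ := y.pv_spec i
    have hlastsucc : i.succ = Fin.last m := Fin.ext (by simp [hi])
    have hvy := hz.new_mem hne hv hv'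
    have hc : y.sp i.castSucc = z.sp i.castSucc := hz _ (by simp [Fin.ext_iff])
    have hue := D.eq_sum_e ((y.ts' _).1 u hu) (huk.C_all hlt)
    have hve := D.eq_sum_e ((z.ts' _).1 v hv) (hvk.C_all hzi)
    have huv : D.B u v = 0 := by
      rw [hue, hve, D.B_sum_left]
      refine Finset.sum_eq_zero fun a _ => ?_
      rw [D.smul_left, D.B_sum_right, Finset.sum_eq_zero, mul_zero]
      exact fun b _ => by rw [D.smul_right, D.ee, mul_zero]
    have horth : ∀ x ∈ y.sp i.succ, D.B x v = 0 := by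
      intro x hx
      rw [y.eq_sup hu hu'] at hx
      obtain ⟨a, ha, b, hb, rfl⟩ := Submodule.mem_sup.1 hx
      obtain ⟨c, rfl⟩ := Submodule.mem_span_singleton.1 hb
      rw [D.add_left, D.smul_left, huv, mul_zero, add_zero]
      exact (z.ts' _).orth (z.mono (Fin.castSucc_le_succ i) (hc ▸ ha)) hv
    have hts : D.TS (y.sp i.succ ⊔ Submodule.span K {v}) := by
      refine ⟨fun x hx => ?_, fun x hx x' hx' => ?_⟩
      swap
      · obtain ⟨a, ha, b, hb, rfl⟩ := Submodule.mem_sup.1 hx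
        obtain ⟨a', ha', b', hb', rfl⟩ := Submodule.mem_sup.1 hx'
        obtain ⟨c, rfl⟩ := Submodule.mem_span_singleton.1 hb
        obtain ⟨c', rfl⟩ := Submodule.mem_span_singleton.1 hb'
        simp [D.add_left, D.add_right, D.smul_left, D.smul_right, (y.ts' _).orth ha ha', horth a ha,
          D.refl (horth a' ha'), (z.ts' _).orth hv hv]
      obtain ⟨a, ha, b, hb, rfl⟩ := Submodule.mem_sup.1 hx
      obtain ⟨c, rfl⟩ := Submodule.mem_span_singleton.1 hb
      exact D.q_orth_add ((y.ts' _).1 a ha) (D.q_smul c v ((z.ts' _).1 v hv))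
        (by rw [D.smul_right, horth a ha, mul_zero])
    have hlt' : y.sp i.succ < y.sp i.succ ⊔ Submodule.span K {v} :=
      lt_of_le_of_ne le_sup_left fun h => hvy (h ▸ Submodule.mem_sup_right (Submodule.mem_span_singleton_self v))
    have h1 := Submodule.finrank_lt_finrank_of_lt hlt'
    have h2 := D.finrank_le hts
    rw [y.rank] at h1
    simp only [Fin.val_succ] at h1
    omega
  refine hy fun i => le_antisymm ?_ ?_
  · obtain ⟨n, hn⟩ := i
    induction n with
    | zero => have := y.pv_lt ⟨0, hn⟩; simp; omega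
    | succ n ih => have := hasc ⟨n, by omega⟩ ⟨n + 1, hn⟩ rfl; have := ih (by omega); simp at this ⊢; omega
  · have key : ∀ d (i : Fin m), (i : ℕ) + d + 1 = m → m + d ≤ y.pv i := by
      intro d
      induction d with
      | zero => exact fun i hi => by simpa using hlast i (by omega)
      | succ d ih =>
        intro i hi
        have := hasc i ⟨i + 1, by omega⟩ rfl
        have := ih ⟨i + 1, by omega⟩ (by simp; omega)
        omega
    have := key (m - 1 - i) i (by omega)
    omega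

theorem isTop_of {g : Fin m → V} (hmem : ∀ i, g i ∈ y.sp i.succ) (hlt : ∀ i j, j < i → D.C j (g i) = 0)
    (hdiag : ∀ i, D.C i (g i) ≠ 0) : y.IsTop := by
  have hnew : ∀ i, g i ∉ y.sp i.castSucc ∧ ∀ x ∈ y.sp i.succ, x ≠ 0 → ∃ l, l ≤ i ∧ D.C l x ≠ 0 := by
    intro i
    obtain ⟨n, hn⟩ := i
    induction n with
    | zero =>
      have h0 : g ⟨0, hn⟩ ∉ y.sp (Fin.castSucc ⟨0, hn⟩) := fun h => hdiag ⟨0, hn⟩ (by
        rw [show Fin.castSucc (⟨0, hn⟩ : Fin m) = 0 from rfl, y.sp_zero, Submodule.mem_bot] at h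
        rw [h, map_zero])
      refine ⟨h0, fun x hx hx0 => ⟨⟨0, hn⟩, le_rfl, ?_⟩⟩
      rw [y.eq_sup (hmem _) h0, show Fin.castSucc (⟨0, hn⟩ : Fin m) = 0 from rfl, y.sp_zero, bot_sup_eq,
        Submodule.mem_span_singleton] at hx
      obtain ⟨c, rfl⟩ := hx
      rw [map_smul, smul_eq_mul]
      exact mul_ne_zero (fun h => hx0 (by rw [h, zero_smul])) (hdiag _)
    | succ n ih =>
      have hprev : Fin.castSucc (⟨n + 1, hn⟩ : Fin m) = Fin.succ ⟨n, by omega⟩ := rfl
      have h0 : g ⟨n + 1, hn⟩ ∉ y.sp (Fin.castSucc ⟨n + 1, hn⟩) := fun h => by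
        rw [hprev] at h
        obtain ⟨l, hl, hlv⟩ := (ih (by omega)).2 _ h fun h0 => hdiag ⟨n + 1, hn⟩ (by rw [h0, map_zero])
        exact hlv (hlt _ _ (Nat.lt_succ_of_le hl))
      refine ⟨h0, fun x hx hx0 => ?_⟩
      rw [y.eq_sup (hmem _) h0, hprev] at hx
      obtain ⟨a, ha, b, hb, rfl⟩ := Submodule.mem_sup.1 hx
      obtain ⟨c, rfl⟩ := Submodule.mem_span_singleton.1 hb
      by_cases ha0 : a = 0
      · refine ⟨⟨n + 1, hn⟩, le_rfl, ?_⟩
        rw [ha0, zero_add, map_smul, smul_eq_mul]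
        exact mul_ne_zero (fun h => hx0 (by rw [ha0, h, zero_smul, add_zero])) (hdiag _)
      · obtain ⟨l, hl, hlv⟩ := (ih (by omega)).2 a ha ha0
        exact ⟨l, le_trans hl (by simp [Fin.le_def]), by
          rwa [map_add, map_smul, hlt _ _ (Nat.lt_succ_of_le hl), smul_zero, add_zero]⟩
  intro i
  refine le_antisymm (y.pv_le (hmem i) (hnew i).1 ⟨by rw [Frame.co_C]; exact hdiag i, fun j hj => ?_⟩) ?_
  · rcases Nat.lt_or_ge j (2 * m) with hj2 | hj2
    · have := i.2
      have e : D.co j = D.C ⟨2 * m - 1 - j, by omega⟩ := by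
        rw [← D.co_C]; exact congrArg D.co (by have := i.2; show j = 2 * m - 1 - (2 * m - 1 - j); omega)
      rw [e]; exact hlt _ _ (by show 2 * m - 1 - j < (i : ℕ); omega)
    · rw [D.co_of_le hj2]; rfl
  · obtain ⟨v, hv, hv', hk⟩ := y.pv_spec i
    obtain ⟨l, hl, hlv⟩ := (hnew i).2 v hv fun h => hv' (h ▸ zero_mem _)
    have hl' : (l : ℕ) ≤ i := hl
    by_contra hlt'
    exact hlv (hk.C_zero (by omega))

theorem IsTop.exists_vectors {y : Flag D} (hy : y.IsTop) : ∃ g : Fin m → V, ∀ i,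
    g i ∈ y.sp i.succ ∧ g i ∉ y.sp i.castSucc ∧ D.C i (g i) = 1 ∧ ∀ j, j < i → D.C j (g i) = 0 := by
  have : ∀ i, ∃ g, g ∈ y.sp i.succ ∧ g ∉ y.sp i.castSucc ∧ D.C i g = 1 ∧ ∀ j, j < i → D.C j g = 0 := by
    intro i
    obtain ⟨v, hv, hv', hk⟩ := y.pv_spec i
    rw [hy i] at hk
    have hne : D.C i v ≠ 0 := by rw [← Frame.co_C]; exact hk.1
    refine ⟨(D.C i v)⁻¹ • v, Submodule.smul_mem _ _ hv, fun h => hv' ?_, ?_, fun j hj => ?_⟩
    · simpa [hne] using Submodule.smul_mem _ (D.C i v) h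
    · simp [hne]
    · rw [map_smul, hk.C_zero (i := j) (by have : (j : ℕ) < i := hj; have := i.2; omega), smul_zero]
  exact ⟨fun i => (this i).choose, fun i => (this i).choose_spec⟩

end Flag

end Cfsg.Agent.Classical.StPolar
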