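import Mathlib
import Cfsg.Agent.Lib.Classical.SLGroup

/-!
Steinberg's two generators of the special linear groups.
-/

set_option autoImplicit false

namespace Cfsg.Agent.Classical.SteinbergGen

open Matrix Fin.NatCast

variable {K : Type*} [Field K] {n : ℕ}

local notation "N" => Fin (n + 1)

/-- The subgroup contains a whole transvection group. -/
def HasRoot (G : Subgroup (Matrix.SpecialLinearGroup (Fin (n + 1)) K)) (i j : Fin (n + 1)) : Prop :=
  ∀ t : Matrix.SpecialLinearGroup (Fin (n + 1)) K, ∀ c : K,
    (t : Matrix (Fin (n + 1)) (Fin (n + 1)) K) = Matrix.transvection i j c → t ∈ G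

/-- The monomial matrix of the long cycle. -/
def cyc (ε : Fin (n + 1) → K) : Matrix (Fin (n + 1)) (Fin (n + 1)) K :=
  Matrix.of fun i j => if j = i + 1 then ε i else 0

theorem cyc_mul_single (ε : N → K) (a b : N) (c : K) :
    cyc ε * Matrix.single (a + 1) (b + 1) c = Matrix.single a (b + 1) (ε a * c) := by
  ext i l
  rw [Matrix.mul_apply, Finset.sum_eq_single (a + 1)]
  · by_cases hi : i = a <;> by_cases hl : l = b + 1 <;>
      simp [cyc, Matrix.single, hi, hl, eq_comm]
    all_goals (split <;> simp_all)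
  · intro x _ hx
    simp [Matrix.single, Ne.symm hx]
  · simp

theorem single_mul_cyc (ε : N → K) (a b : N) (c : K) :
    Matrix.single a b c * cyc ε = Matrix.single a (b + 1) (c * ε b) := by
  ext i l
  rw [Matrix.mul_apply, Finset.sum_eq_single b]
  · by_cases hi : i = a <;> by_cases hl : l = b + 1 <;>
      simp [cyc, Matrix.single, hi, hl, eq_comm]
  · intro x _ hx
    simp [Matrix.single, Ne.symm hx]
  · simp

theorem eq_top {G : Subgroup (Matrix.SpecialLinearGroup (Fin (n + 1)) K)} (hn : 1 ≤ n)
    {w : Matrix.SpecialLinearGroup (Fin (n + 1)) K} {ε : N → K}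
    (hw : (w : Matrix N N K) = cyc ε) (hε : ∀ i, ε i ≠ 0) (hwG : w ∈ G) (h01 : HasRoot G 0 1) : G = ⊤ := by
  have hstep : ∀ a b : N, a ≠ b → HasRoot G (a + 1) (b + 1) → HasRoot G a b := by
    intro a b hab h t c ht
    obtain ⟨u, hu⟩ : ∃ u : Matrix.SpecialLinearGroup N K,
        (u : Matrix N N K) = Matrix.transvection (a + 1) (b + 1) ((ε a)⁻¹ * (c * ε b)) :=
      ⟨Matrix.SpecialLinearGroup.transvection (fun e => hab (add_right_cancel e)) _, rfl⟩
    have e : w * u = t * w := by
      refine Subtype.ext ?_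
      rw [Matrix.SpecialLinearGroup.coe_mul, Matrix.SpecialLinearGroup.coe_mul, hw, hu, ht, Matrix.transvection,
        Matrix.transvection, mul_add, add_mul, mul_one, one_mul, cyc_mul_single, single_mul_cyc,
        mul_inv_cancel_left₀ (hε a)]
    rw [show t = w * u * w⁻¹ by rw [e, mul_inv_cancel_right]]
    exact G.mul_mem (G.mul_mem hwG (h u _ hu)) (G.inv_mem hwG)
  have hne : ∀ i : N, ∀ d : ℕ, 0 < d → d ≤ n → i ≠ i + (d : N) := by
    intro i d hd0 hdn e
    rw [eq_comm, add_eq_left, Fin.natCast_eq_zero] at e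
    have := Nat.le_of_dvd hd0 e
    omega
  have hadj' : ∀ m : ℕ, HasRoot G (-(m : N)) (-(m : N) + 1) := by
    intro m
    induction m with
    | zero => simpa using h01
    | succ m ih =>
      refine hstep _ _ ?_ ?_
      · have := hne (-((m + 1 : ℕ) : N)) 1 one_pos hn
        rwa [Nat.cast_one] at this
      · rw [show -((m + 1 : ℕ) : N) + 1 = -(m : N) by push_cast; abel]
        exact ih
  have hadj : ∀ i : N, HasRoot G i (i + 1) := by
    intro i
    have := hadj' (-i).val
    rwa [Fin.cast_val_eq_self, neg_neg] at this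
  have hall : ∀ d : ℕ, 1 ≤ d → d ≤ n → ∀ i : N, HasRoot G i (i + (d : N)) := by
    intro d hd
    induction d, hd using Nat.le_induction with
    | base => intro _ i; simpa using hadj i
    | succ d hd ih =>
      intro hdn i t c ht
      set j : N := i + (d : N) with hj
      set l : N := i + ((d + 1 : ℕ) : N) with hl
      have hl' : l = j + 1 := by rw [hl, hj]; push_cast; abel
      have hij : i ≠ j := hne i d (by omega) (by omega)
      have hil : i ≠ l := hne i (d + 1) (by omega) hdn
      have hjl : j ≠ l := by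
        rw [hl']; have := hne j 1 one_pos hn; rwa [Nat.cast_one] at this
      obtain ⟨u, hu⟩ : ∃ u : Matrix.SpecialLinearGroup N K, (u : Matrix N N K) = Matrix.transvection i j c :=
        ⟨Matrix.SpecialLinearGroup.transvection hij _, rfl⟩
      obtain ⟨v, hv⟩ : ∃ v : Matrix.SpecialLinearGroup N K, (v : Matrix N N K) = Matrix.transvection j l 1 :=
        ⟨Matrix.SpecialLinearGroup.transvection hjl _, rfl⟩
      have e : u * v = t * (v * u) := by
        refine Subtype.ext ?_
        simp only [Matrix.SpecialLinearGroup.coe_mul, hu, hv, ht, Matrix.transvection, mul_add, add_mul, mul_one,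
          one_mul, Matrix.single_mul_single_same, Matrix.single_mul_single_of_ne, ne_eq, hij, hjl, hil, hij.symm,
          hjl.symm, hil.symm, not_false_iff, add_zero, zero_add, mul_zero, zero_mul]
        abel
      have hvG : v ∈ G := hadj j v 1 (by rw [← hl']; exact hv)
      have huG : u ∈ G := ih (by omega) i u c hu
      rw [show t = u * v * (v * u)⁻¹ by rw [e, mul_inv_cancel_right]]
      exact G.mul_mem (G.mul_mem huG hvG) (G.inv_mem (G.mul_mem hvG huG))
  rw [eq_top_iff, ← Classical.SL_closure_transvections, Subgroup.closure_le]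
  rintro _ ⟨⟨i, j, hij, c⟩, rfl⟩
  have hd : (j - i).val ≠ 0 := fun h => hij (sub_eq_zero.mp (Fin.ext h : j - i = 0)).symm
  have h := hall (j - i).val (Nat.pos_of_ne_zero hd) (Nat.le_of_lt_succ (j - i).isLt) i
  rw [Fin.cast_val_eq_self, add_sub_cancel] at h
  exact h _ c rfl

theorem eq_cyc (hn : 1 ≤ n) : (Matrix.of fun i j : N => if j.val = i.val + 1 then (1 : K) else
    if i.val = n ∧ j.val = 0 then (-1) ^ n else 0) =
      cyc (fun i => if i.val = n then (-1) ^ n else 1) := by
  ext i j
  have hi := i.isLt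
  have hj := j.isLt
  simp only [cyc, Matrix.of_apply]
  rcases eq_or_ne i.val n with h | h
  · have h1 : i + 1 = 0 := Fin.ext (by
      rw [Fin.val_add, Fin.val_one', Nat.mod_eq_of_lt (show 1 < n + 1 by omega), h, Nat.mod_self]; rfl)
    rw [h1, if_neg (by omega : ¬ j.val = i.val + 1), if_pos h]
    by_cases hj0 : j.val = 0
    · rw [if_pos ⟨h, hj0⟩, if_pos (Fin.ext hj0)]
    · rw [if_neg (fun e => hj0 e.2), if_neg (fun e => hj0 (congrArg Fin.val e))]
  · have h1 : (i + 1).val = i.val + 1 := by
      rw [Fin.val_add, Fin.val_one', Nat.mod_eq_of_lt (show 1 < n + 1 by omega), Nat.mod_eq_of_lt (by omega)]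
    rw [if_neg h]
    by_cases hji : j.val = i.val + 1
    · rw [if_pos hji, if_pos (Fin.ext (hji.trans h1.symm))]
    · rw [if_neg hji, if_neg (fun e => h e.1), if_neg (fun e => hji ((congrArg Fin.val e).trans h1))]

theorem sign_ne (i : N) : (if i.val = n then (-1 : K) ^ n else 1) ≠ 0 := by
  split
  · exact pow_ne_zero _ (neg_ne_zero.mpr one_ne_zero)
  · exact one_ne_zero

variable [Fintype K]

theorem addSubgroup_eq_top (hK : 3 < Fintype.card K) (A : AddSubgroup K) {a : K} (ha : a ≠ 0) (haA : a ∈ A)
    (hA : ∀ u : Kˣ, ∀ x ∈ A, (u : K) ^ 2 * x ∈ A) : ∀ c : K, c ∈ A := by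
  classical
  -- the multipliers of `A`
  let R : Subfield K :=
    { carrier := {r | ∀ x ∈ A, r * x ∈ A}
      mul_mem' := fun {r s} hr hs x hx => by rw [mul_assoc]; exact hr _ (hs x hx)
      one_mem' := fun x hx => by rwa [one_mul]
      add_mem' := fun {r s} hr hs x hx => by rw [add_mul]; exact A.add_mem (hr x hx) (hs x hx)
      zero_mem' := fun x hx => by rw [zero_mul]; exact A.zero_mem
      neg_mem' := fun {r} hr x hx => by rw [neg_mul]; exact A.neg_mem (hr x hx)
      inv_mem' := fun r hr x hx => by
        rcases eq_or_ne r 0 with rfl | h0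
        · rw [_root_.inv_zero, zero_mul]; exact A.zero_mem
        · let f : A → A := fun y => ⟨r * y.1, hr _ y.2⟩
          have hf : Function.Injective f := fun y z h => Subtype.ext (mul_left_cancel₀ h0 (congrArg Subtype.val h))
          obtain ⟨y, hy⟩ := (Finite.injective_iff_surjective.mp hf) ⟨x, hx⟩
          rw [← show r * y.1 = x from congrArg Subtype.val hy, inv_mul_cancel_left₀ h0]
          exact y.2 }
  have hsq : ∀ x : K, x ^ 2 ∈ R := fun x y hy => by
    rcases eq_or_ne x 0 with rfl | hx
    · rw [zero_pow two_ne_zero, zero_mul]; exact A.zero_mem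
    · exact hA (Units.mk0 x hx) y hy
  intro c₀
  obtain ⟨c, rfl⟩ : ∃ c, c * a = c₀ := ⟨c₀ / a, div_mul_cancel₀ c₀ ha⟩
  have hc : c ∈ R := by
    by_cases h2 : (2 : K) = 0
    · haveI : CharP K 2 := (CharP.charP_iff_prime_eq_zero Nat.prime_two).2 (by exact_mod_cast h2)
      obtain ⟨s, hs⟩ := FiniteField.isSquare_of_char_two (ringChar.eq K 2) c
      rw [hs, ← pow_two]; exact hsq s
    · have hR2 : (2 : K) ∈ R := by rw [← one_add_one_eq_two]; exact R.add_mem R.one_mem R.one_mem
      have e : c = ((c + 1) ^ 2 - c ^ 2 - 1) / 2 := by field_simp; ring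
      rw [e]
      exact R.div_mem (R.sub_mem (R.sub_mem (hsq _) (hsq _)) R.one_mem) hR2
  exact hc a haA

omit [Fintype K] in
/-- The offsets lying in a subgroup along the first root. -/
def rootAdd (G : Subgroup (Matrix.SpecialLinearGroup (Fin (n + 1)) K)) (h01 : (0 : Fin (n + 1)) ≠ 1) : AddSubgroup K where
  carrier := {c | Matrix.SpecialLinearGroup.transvection h01 c ∈ G}
  add_mem' {a b} ha hb := by
    show Matrix.SpecialLinearGroup.transvection h01 (a + b) ∈ G
    rw [show Matrix.SpecialLinearGroup.transvection h01 (a + b) =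
      Matrix.SpecialLinearGroup.transvection h01 a * Matrix.SpecialLinearGroup.transvection h01 b from
        Subtype.ext (Matrix.transvection_mul_transvection_same 0 1 h01 a b).symm]
    exact G.mul_mem ha hb
  zero_mem' := by
    show Matrix.SpecialLinearGroup.transvection h01 (0 : K) ∈ G
    rw [Matrix.SpecialLinearGroup.transvection_coeff_zero]; exact G.one_mem
  neg_mem' {a} ha := by
    show Matrix.SpecialLinearGroup.transvection h01 (-a) ∈ G
    rw [show Matrix.SpecialLinearGroup.transvection h01 (-a) = (Matrix.SpecialLinearGroup.transvection h01 a)⁻¹ from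
      eq_inv_of_mul_eq_one_left (Subtype.ext (by
        rw [Matrix.SpecialLinearGroup.coe_mul]
        show Matrix.transvection 0 1 (-a) * Matrix.transvection 0 1 a = 1
        rw [Matrix.transvection_mul_transvection_same 0 1 h01, neg_add_cancel, Matrix.transvection_zero]))]
    exact G.inv_mem ha

omit [Fintype K] in
theorem hasRoot_of_rootAdd {G : Subgroup (Matrix.SpecialLinearGroup (Fin (n + 1)) K)} {h01 : (0 : Fin (n + 1)) ≠ 1}
    (h : ∀ c, c ∈ rootAdd G h01) : HasRoot G 0 1 := fun t c ht => by
  rw [show t = Matrix.SpecialLinearGroup.transvection h01 c from Subtype.ext ht]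
  exact h c

omit [Fintype K] in
theorem diag_move {D : Matrix.SpecialLinearGroup (Fin (n + 1)) K} {d : N → K}
    (hD : (D : Matrix N N K) = Matrix.diagonal d) (h01 : (0 : Fin (n + 1)) ≠ 1) (a b : K)
    (hab : d 0 * a = b * d 1) :
    D * Matrix.SpecialLinearGroup.transvection h01 a = Matrix.SpecialLinearGroup.transvection h01 b * D := by
  refine Subtype.ext ?_
  rw [Matrix.SpecialLinearGroup.coe_mul, Matrix.SpecialLinearGroup.coe_mul, hD]
  show Matrix.diagonal d * Matrix.transvection 0 1 a = Matrix.transvection 0 1 b * Matrix.diagonal d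
  ext i j
  simp only [Matrix.diagonal_mul, Matrix.mul_diagonal, Matrix.transvection, Matrix.add_apply]
  by_cases hi : i = 0 <;> by_cases hj : j = 1
  · subst hi hj; simp [Matrix.one_apply, h01, hab]
  all_goals
    have hn : ¬ ((0 : N) = i ∧ (1 : N) = j) := fun e => by
      obtain ⟨e1, e2⟩ := e
      first | exact hi e1.symm | exact hj e2.symm
    rw [Matrix.single_apply_of_ne 0 1 a i j hn, Matrix.single_apply_of_ne 0 1 b i j hn, add_zero,
      Matrix.one_apply]
    split
    · next e => rw [e]; ring
    · ring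

end Cfsg.Agent.Classical.SteinbergGen
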