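import Cfsg.Agent.Lib.Classical.SteinbergOrth
import Cfsg.Agent.Lib.Classical.OrthGenTrans
import Cfsg.Agent.Lib.Classical.OrthPOmegaCard
import Cfsg.Agent.Lib.Classical.QuadModels

/-!
The Steinberg character of the split even-dimensional orthogonal groups: the flags of the polar space have
two-element panels at the top step, and the extreme chambers are only determined up to such a panel.
-/

set_option autoImplicit false
set_option linter.unusedSectionVars false
set_option quotPrecheck false

namespace Cfsg.Agent.Classical.StPolar.Frame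

universe u v

variable {K : Type u} [Field K] {V : Type v} [AddCommGroup V] [Module K V] {m : ℕ} (D : Frame K V m)

/-- The first half with its last vector exchanged. -/
def altVec (i : Fin m) : V := if (i : ℕ) + 1 = m then D.f i else D.e i

theorem altVec_B (i j : Fin m) : D.B (D.altVec i) (D.altVec j) = 0 := by
  simp only [altVec]
  split_ifs with h1 h2 h2
  · exact D.ff i j
  · rw [D.fe, if_neg (fun e : i = j => h2 (e ▸ h1))]
  · rw [D.ef, if_neg (fun e : i = j => h1 (e ▸ h2))]
  · exact D.ee i j

theorem altVec_q (i : Fin m) : D.q (D.altVec i) = 0 := by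
  simp only [altVec]; split_ifs
  exacts [D.qf i, D.qe i]

theorem altVec_li : LinearIndependent K D.altVec := Fintype.linearIndependent_iff.2 fun c hc i => by
  by_cases h : (i : ℕ) + 1 = m
  · have h1 := congrArg (D.C i) hc
    rw [map_sum, map_zero, Finset.sum_eq_single i] at h1
    · simpa [altVec, h] using h1
    · intro j _ hj
      simp only [altVec, map_smul]
      split_ifs <;> simp [hj]
    · simp
  · have h1 := congrArg (D.A i) hc
    rw [map_sum, map_zero, Finset.sum_eq_single i] at h1
    · simpa [altVec, h] using h1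
    · intro j _ hj
      simp only [altVec, map_smul]
      split_ifs <;> simp [hj]
    · simp

/-- The neighbour of the standard flag in its top panel. -/
def alt : Flag D := Flag.mk' D.altVec D.altVec_li D.altVec_q D.altVec_B

theorem alt_sp {k : Fin (m + 1)} (hk : (k : ℕ) < m) : D.alt.sp k = D.base.sp k := by
  show Submodule.span K (D.altVec '' _) = Submodule.span K (D.e '' _)
  exact congrArg _ (Set.image_congr fun (l : Fin m) (hl : (l : ℕ) < k) =>
    show D.altVec l = D.e l from if_neg (by omega))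

theorem f_mem_alt (hm : 1 ≤ m) : D.f ⟨m - 1, by omega⟩ ∈ D.alt.sp (Fin.last m) :=
  Submodule.subset_span ⟨⟨m - 1, by omega⟩, show m - 1 < m by omega, if_pos (show m - 1 + 1 = m by omega)⟩

theorem f_not_mem_base (hm : 1 ≤ m) : D.f ⟨m - 1, by omega⟩ ∉ D.base.sp (Fin.last m) := fun h => by
  rw [D.base_sp] at h
  have := h.2.2 ⟨m - 1, by omega⟩ (by simp; omega)
  simp at this

theorem alt_ne_base (hm : 1 ≤ m) : D.alt.sp (Fin.last m) ≠ D.base.sp (Fin.last m) := fun h =>
  D.f_not_mem_base hm (h ▸ D.f_mem_alt hm)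

/-- When the middle is zero a flag standard below the top is standard or its neighbour. -/
theorem last_two [FiniteDimensional K V] (hm : 1 ≤ m) (hW : ∀ v, D.pr v = 0)
    (hcross : ∀ u, (∀ l : Fin m, (l : ℕ) + 1 < m → D.C l u = 0) → D.q u = 0 →
      D.A ⟨m - 1, by omega⟩ u = 0 ∨ D.C ⟨m - 1, by omega⟩ u = 0)
    {y : Flag D} (hy : ∀ k : Fin (m + 1), (k : ℕ) < m → y.sp k = D.base.sp k) : y = D.base ∨ y = D.alt := by
  classical
  set i : Fin m := ⟨m - 1, by omega⟩ with hi
  have hlast : i.succ = Fin.last m := Fin.ext (by simp [i]; omega)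
  obtain ⟨u, hu, hu'⟩ := y.exists_new i
  have hsup := y.eq_sup hu hu'
  have hprev : y.sp i.castSucc = D.base.sp i.castSucc := hy _ (by simp [i]; omega)
  have hC : ∀ l : Fin m, (l : ℕ) + 1 < m → D.C l u = 0 := fun l hl => by
    have hel : D.e l ∈ y.sp i.castSucc := by
      rw [hprev, D.base_sp]; exact D.e_mem (by simp [i]; omega)
    have h := (y.ts' i.succ).orth hu (y.mono (Fin.castSucc_le_succ i) hel)
    rw [D.B_e, mul_eq_zero] at h
    exact h.resolve_left D.eps_ne
  have ext : ∀ z : Flag D, (∀ k : Fin (m + 1), (k : ℕ) < m → z.sp k = D.base.sp k) →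
      D.base.sp i.castSucc ≤ z.sp (Fin.last m) → u ∈ z.sp (Fin.last m) → y = z := fun z hz h1 h2 => by
    refine Flag.ext (funext fun k => ?_)
    rcases (Nat.le_of_lt_succ k.2).lt_or_eq with hk | hk
    · rw [hy k hk, hz k hk]
    obtain rfl : k = Fin.last m := Fin.ext hk
    refine Submodule.eq_of_le_of_finrank_eq ?_ ((y.rank _).trans (z.rank _).symm)
    rw [← hlast, hsup, hlast, hprev]
    exact sup_le h1 ((Submodule.span_singleton_le_iff_mem u _).2 h2)
  by_cases hci : D.C i u = 0
  · left
    refine ext D.base (fun _ _ => rfl) (D.base.mono (Fin.le_last _)) ?_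
    have hall : ∀ l, D.C l u = 0 := fun l => by
      rcases (show (l : ℕ) + 1 ≤ m from l.2).lt_or_eq with h | h
      · exact hC l h
      · rwa [show l = i from Fin.ext (by simp [i]; omega)]
    rw [D.base_sp]
    exact ⟨fun _ => hW u, fun l hl => absurd l.2 (by simp at hl; omega), fun l _ => hall l⟩
  · right
    have hA := (hcross u hC ((y.ts' _).1 u hu)).resolve_right hci
    refine ext D.alt (fun k hk => D.alt_sp hk) ?_ ?_
    · rw [← D.alt_sp (by simp [i]; omega)]; exact D.alt.mono (Fin.le_last _)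
    rw [D.decomp u, hW, add_zero]
    have hmem : ∀ l, D.altVec l ∈ D.alt.sp (Fin.last m) := fun l =>
      Submodule.subset_span ⟨l, l.2, rfl⟩
    refine add_mem (Submodule.sum_mem _ fun l _ => ?_) (Submodule.sum_mem _ fun l _ => ?_)
    · rcases (show (l : ℕ) + 1 ≤ m from l.2).lt_or_eq with h | h
      · have := hmem l
        rw [altVec, if_neg h.ne] at this
        exact Submodule.smul_mem _ _ this
      · rw [show l = i from Fin.ext (by simp [i]; omega)]
        rw [show D.A i u = 0 from hA, zero_smul]; exact zero_mem _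
    · rcases (show (l : ℕ) + 1 ≤ m from l.2).lt_or_eq with h | h
      · rw [hC l h, zero_smul]; exact zero_mem _
      · have := hmem l
        rw [altVec, if_pos h] at this
        exact Submodule.smul_mem _ _ this

/-- A function with vanishing panel sums changes sign in the top panel. -/
theorem space_alt [FiniteDimensional K V] [Finite V] (hm : 1 ≤ m) (hW : ∀ v, D.pr v = 0)
    (hcross : ∀ u, (∀ l : Fin m, (l : ℕ) + 1 < m → D.C l u = 0) → D.q u = 0 →
      D.A ⟨m - 1, by omega⟩ u = 0 ∨ D.C ⟨m - 1, by omega⟩ u = 0)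
    {f : Flag D → ℂ} (hf : f ∈ StChambers.space (fun (i : Fin m) (y z : Flag D) => Flag.Pan i y z)) :
    f D.base + f D.alt = 0 := by
  classical
  have h := hf ⟨m - 1, by omega⟩ D.base {D.base, D.alt} fun z => ?_
  · rwa [Finset.sum_pair (fun e => D.alt_ne_base hm (by rw [← e]))] at h
  have hne : ∀ k : Fin (m + 1), k ≠ (⟨m - 1, by omega⟩ : Fin m).succ ↔ (k : ℕ) < m := fun k => by
    rw [Ne, Fin.ext_iff]; simp; omega
  rw [Finset.mem_insert, Finset.mem_singleton]
  refine ⟨?_, fun hz => ?_⟩
  · rintro (rfl | rfl) k hk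
    · rfl
    · exact (D.alt_sp ((hne k).1 hk)).symm
  · exact D.last_two hm hW hcross fun k hk => (hz k ((hne k).2 hk)).symm

end Cfsg.Agent.Classical.StPolar.Frame

namespace Cfsg.Agent.Classical.StHyper

open Cfsg Matrix StPolar StOrth Cfsg.Agent.Classical.OrthAut Module

variable {F : Type*} [Field F] {m : ℕ}

local notation "ιm" => (Fin m ⊕ Fin m)
local notation "Qp" => qfPlus m F
local notation "OG" => isometryGroup F ⇑(qfPlus m F)

theorem polarP (u v : ιm → F) : QuadraticMap.polar ⇑Qp u v =
    ∑ i, (u (Sum.inl i) * v (Sum.inr i) + v (Sum.inl i) * u (Sum.inr i)) := polar_qfPlus m u v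

theorem hyp_qfPlus : HypData Qp (fun i => Pi.single (Sum.inl i) (1 : F))
    (fun i => Pi.single (Sum.inr i) (1 : F)) := by
  refine ⟨fun i j => ?_, fun i j => ?_, fun i j => ?_, fun i => ?_, fun i => ?_, fun w h1 h2 _ => ?_⟩
  · rw [polarP]; simp [Pi.single_apply, eq_comm]
  · rw [polarP]; simp [Pi.single_apply]
  · rw [polarP]; simp [Pi.single_apply]
  · simp [qfPlus_apply, quadFormPlus, Pi.single_apply]
  · simp [qfPlus_apply, quadFormPlus, Pi.single_apply]
  · funext x
    rcases x with i | i
    · have h := h1 i; rw [polarP] at h; simpa [Pi.single_apply] using h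
    · have h := h2 i; rw [polarP] at h; simpa [Pi.single_apply] using h

/-- The frame. -/
noncomputable def fr (m : ℕ) (F : Type*) [Field F] : Frame F (Fin m ⊕ Fin m → F) m :=
  StOrth.frame (hyp_qfPlus (F := F) (m := m))

theorem fr_A (v : ιm → F) (i : Fin m) : (fr m F).A i v = v (Sum.inl i) := by
  show QuadraticMap.polar ⇑Qp v (Pi.single (Sum.inr i) 1) = _
  rw [polarP]; simp [Pi.single_apply]

theorem fr_C (v : ιm → F) (i : Fin m) : (fr m F).C i v = v (Sum.inr i) := by
  rw [Frame.C_def]
  show (1 : F)⁻¹ * QuadraticMap.polar ⇑Qp v (Pi.single (Sum.inl i) 1) = _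
  rw [polarP]; simp [Pi.single_apply]

theorem fr_pr (v : ιm → F) : (fr m F).pr v = 0 := by
  funext x
  rcases x with i | i
  · exact (fr_A ((fr m F).pr v) i).symm.trans ((fr m F).A_pr i v)
  · exact (fr_C ((fr m F).pr v) i).symm.trans ((fr m F).C_pr i v)

theorem cross_aux (hm : 1 ≤ m) (u : ιm → F) (g : Fin m → ℕ → F)
    (hg : ∀ l, u (Sum.inl l) * u (Sum.inr l) = g l 0 * g l 1)
    (h : ∀ l : Fin m, (l : ℕ) + 1 < m → g l 1 = 0) (hq : Qp u = 0) :
    g ⟨m - 1, by omega⟩ 0 = 0 ∨ g ⟨m - 1, by omega⟩ 1 = 0 := by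
  refine mul_eq_zero.1 ?_
  rw [qfPlus_apply, quadFormPlus, Finset.sum_eq_single (⟨m - 1, by omega⟩ : Fin m), hg] at hq
  · exact hq
  · intro l _ hl
    rw [hg, h l (by have : (l : ℕ) ≠ m - 1 := fun e => hl (Fin.ext e); omega), mul_zero]
  · simp

theorem cross (hm : 1 ≤ m) (u : ιm → F) (h : ∀ l : Fin m, (l : ℕ) + 1 < m → (fr m F).C l u = 0)
    (hq : (fr m F).q u = 0) :
    (fr m F).A ⟨m - 1, by omega⟩ u = 0 ∨ (fr m F).C ⟨m - 1, by omega⟩ u = 0 := by
  rw [fr_A, fr_C]
  exact cross_aux hm u (fun l k => if k = 0 then u (Sum.inl l) else u (Sum.inr l)) (fun l => by simp)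
    (fun l hl => by simpa [fr_C] using h l hl) hq

theorem cross_flip (hm : 1 ≤ m) (u : ιm → F) (h : ∀ l : Fin m, (l : ℕ) + 1 < m → (fr m F).flip.C l u = 0)
    (hq : (fr m F).flip.q u = 0) :
    (fr m F).flip.A ⟨m - 1, by omega⟩ u = 0 ∨ (fr m F).flip.C ⟨m - 1, by omega⟩ u = 0 := by
  have e : (fr m F).eps = 1 := rfl
  have hC : ∀ l, (fr m F).flip.C l u = u (Sum.inl l) := fun l => by
    rw [Frame.flip_C, fr_A, e, inv_one, one_mul]
  have hA : ∀ l, (fr m F).flip.A l u = u (Sum.inr l) := fun l => by
    show (fr m F).B u ((fr m F).eps • (fr m F).e l) = _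
    rw [e, one_smul, Frame.B_e, e, one_mul, fr_C]
  rw [hA, hC]
  exact cross_aux hm u (fun l k => if k = 0 then u (Sum.inr l) else u (Sum.inl l)) (fun l => by simp [mul_comm])
    (fun l hl => by simpa [hC] using h l hl) hq

variable [Fintype F]

theorem half_top : Half Qp ((fr m F).base.sp (Fin.last m)) :=
  ⟨fun v hv => (fr m F).base.ts.1 v hv, by rw [StPolar.Flag.rank]; simp; omega⟩

/-- The products of the first transpositions `e_l ↔ f_l`. -/
theorem exists_swaps (hG : GenQ F ιm) (hn : (QuadraticMap.polarBilin Qp).Nondegenerate) {j : ℕ} (hj : j ≤ m) :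
    ∃ g : OG, (∀ l : Fin m, ogLin g ((fr m F).e l) = if (l : ℕ) < j then (fr m F).f l else (fr m F).e l) ∧
      invHom hn hG g = (((-1 : ℤˣ), sqSign (-1 : F))) ^ j := by
  induction j with
  | zero => exact ⟨1, fun l => by simp, by simp⟩
  | succ j ih =>
    obtain ⟨g, hg, hgi⟩ := ih (by omega)
    set i : Fin m := ⟨j, hj⟩
    set v := (fr m F).e i - (fr m F).f i with hv
    have hQv : Qp v = -1 := by
      show Qp (Pi.single (Sum.inl i) 1 - Pi.single (Sum.inr i) 1) = -1
      simp [qfPlus_apply, quadFormPlus, Pi.single_apply]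
    have hv0 : Qp v ≠ 0 := by rw [hQv]; exact neg_ne_zero.2 one_ne_zero
    refine ⟨OrthAut.refl hv0 * g, fun l => ?_, by rw [map_mul, hgi, invHom_refl, hQv, pow_succ']⟩
    rw [ogLin_apply, ogVal_mul, ← Matrix.mulVec_mulVec, ← ogLin_apply g, hg, refl_apply, hQv]
    have hBe : (fr m F).B v ((fr m F).e l) = if l = i then -1 else 0 := by
      rw [hv, Frame.B_sub_left, Frame.ee, Frame.fe, show (fr m F).eps = 1 from rfl]
      by_cases h : i = l <;> simp [h, eq_comm, Ne.symm] <;> exact Ne.symm h
    have hBf : (fr m F).B v ((fr m F).f l) = if l = i then 1 else 0 := by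
      rw [hv, Frame.B_sub_left, Frame.ff, Frame.ef, sub_zero]
      by_cases h : i = l <;> simp [h, eq_comm, Ne.symm] <;> exact Ne.symm h
    change _ - ((-1 : F)⁻¹ * (fr m F).B v _) • v = _
    by_cases h1 : (l : ℕ) < j
    · rw [if_pos h1, hBf, if_neg (fun e : l = i => by subst e; simp [i] at h1), mul_zero, zero_smul, sub_zero,
        if_pos (by omega)]
    · rw [if_neg h1, hBe]
      by_cases h2 : l = i
      · subst h2
        rw [if_pos rfl, if_pos (by simp [i]), inv_mul_cancel₀ (neg_ne_zero.2 one_ne_zero), one_smul, hv,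
          sub_sub_cancel]
      · rw [if_neg h2, mul_zero, zero_smul, sub_zero,
          if_neg (by have : (l : ℕ) ≠ j := fun e => h2 (Fin.ext e); omega)]

theorem exists_char (p : ℕ) [Fact p.Prime] [CharP F p] (hm : 1 ≤ m) (hG : GenQ F ιm)
    (hcenter : ∀ z ∈ Subgroup.center (Omega F ⇑Qp), ∃ c : F, ∀ v, ogVal (z : OG) *ᵥ v = c • v) :
    ∃ χ : POmega F (quadFormPlus m F) → ℂ, IsIrrCharacter (POmega F (quadFormPlus m F)) χ ∧
      ∀ P : Sylow p (POmega F (quadFormPlus m F)), χ 1 = Nat.card P ∧
        ∀ x : POmega F (quadFormPlus m F), x ∈ P → x ≠ 1 → χ x = 0 := by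
  classical
  rw [← coe_qfPlus]
  have hn : (QuadraticMap.polarBilin Qp).Nondegenerate := nondegenerate_qfPlus m
  set D := fr m F with hD
  haveI : Finite OG := Finite.of_injective (fun g : OG => ogVal g) fun _ _ => ogVal_ext
  haveI : Nontrivial (ιm → F) := ⟨⟨Pi.single (Sum.inl ⟨0, hm⟩) 1, 0, fun h0 => one_ne_zero (α := F) (by
    simpa using congrFun h0 (Sum.inl ⟨0, hm⟩))⟩⟩
  set ρ := (ogLin : OG →* _).comp (Omega F ⇑Qp).subtype with hρd
  have hρ : ∀ s : Omega F ⇑Qp, D.Isom (ρ s) :=
    fun s => ⟨fun x y => isometry_polar (ogVal_quad (s : OG)) x y, fun x => ogVal_quad (s : OG) x⟩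
  have M : Core D ρ (QuotientGroup.mk' (Subgroup.center (Omega F ⇑Qp))) p := by
    refine ⟨hm, QuotientGroup.mk'_surjective _, fun a b hab => Subtype.ext (ogLin_injective hab), hρ,
      fun s hs => ?_, fun T hT hL => ?_, fun s _ _ v hA hC => ?_⟩
    · obtain ⟨c, hc⟩ := hcenter s ((QuotientGroup.eq_one_iff s).1 hs)
      refine Equiv.ext fun y => StPolar.Flag.ext (funext fun k => ?_)
      show (y.sp k).map (ρ s).toLinearMap = y.sp k
      refine Submodule.eq_of_le_of_finrank_eq ?_ (LinearEquiv.finrank_map_eq _ _)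
      rintro _ ⟨v, hv, rfl⟩
      show ogVal (s : OG) *ᵥ v ∈ y.sp k
      rw [hc]
      exact Submodule.smul_mem _ _ hv
    · obtain ⟨g, hg⟩ := exists_og (Q := qfPlus m F) (T := T) fun v => hT.2 v
      refine ⟨⟨g, ?_⟩, hg⟩
      obtain ⟨k, hk⟩ := hL.pow_eq_one p
      have hgk : ∃ k : ℕ, g ^ p ^ k = 1 := ⟨k, ogLin_injective (by
        rw [map_pow, map_one, hg]
        refine LinearEquiv.toLinearMap_injective ?_
        rw [LinearEquiv.coe_toLinearMap_one, ← Module.End.one_eq_id, ← hk]
        clear hk
        induction p ^ k with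
        | zero => simp [Module.End.one_eq_id]
        | succ n ih => rw [pow_succ, pow_succ, ← ih]; rfl)⟩
      by_cases h2 : (2 : F) = 0
      swap
      · exact mem_omega_of_pow hn h2 hgk
      refine (mem_omega_gen hn hG g).2 ⟨dick_of_fixes_half hn hG half_top ?_, spin_two hn h2 g⟩
      refine Submodule.eq_of_le_of_finrank_eq ?_ (finrank_imageSubmodule _ _)
      intro x hx
      obtain ⟨v, hv, rfl⟩ := mem_imageSubmodule.1 hx
      change v ∈ D.base.sp (Fin.last m) at hv
      show ogLin g v ∈ D.base.sp (Fin.last m)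
      rw [D.base_sp] at hv ⊢
      rw [hg]
      exact hL.map_mem hv
    · rw [show v = 0 from (D.decomp v).trans (by
        rw [Finset.sum_eq_zero fun i _ => by rw [hA i, zero_smul],
          Finset.sum_eq_zero fun i _ => by rw [hC i, zero_smul], add_zero, zero_add]
        exact fr_pr v)]
      simp
  refine Core.main M (fun s hfix hp => ?_) ?_
  · set y := act ρ M.isom s D.base with hy
    have hP : ∀ P : Pair D, y.map P.equiv (D.pair_isom P) = y := fun P => by
      obtain ⟨u, hu, hmem⟩ := pair_of_real ρ M.real P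
      refine Eq.trans ?_ (hfix u hmem)
      exact StPolar.Flag.ext (funext fun k => by show (y.sp k).map _ = (y.sp k).map _; rw [hu])
    have hbelow : ∀ k : Fin (m + 1), (k : ℕ) < m → y.sp k = D.base.sp k := fun k hk =>
      (D.fixed_below (m - 1) (fun h => absurd h (by omega)) hP k (by omega) k.2).trans (D.base_sp k).symm
    rcases D.last_two hm fr_pr (cross hm) hbelow with h | h
    · exact mem_unip_of_stab ρ M.isom M.mid h hp
    exfalso
    have e1 : imageSubmodule (ogVal (s : OG)) (D.base.sp (Fin.last m)) = D.alt.sp (Fin.last m) := by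
      have e : (act ρ M.isom s D.base).sp (Fin.last m) = D.alt.sp (Fin.last m) := by rw [← hy, h]
      rw [← e]
      ext x
      rw [mem_imageSubmodule]
      exact Iff.rfl
    have hcap : finrank F ↥(D.base.sp (Fin.last m) ⊓ D.alt.sp (Fin.last m)) = m - 1 := by
      refine le_antisymm ?_ ?_
      · have hlt : D.base.sp (Fin.last m) ⊓ D.alt.sp (Fin.last m) < D.base.sp (Fin.last m) :=
          lt_of_le_of_ne inf_le_left fun e => D.alt_ne_base hm
            (Submodule.eq_of_le_of_finrank_eq (inf_eq_left.1 e) ((StPolar.Flag.rank _ _).trans (StPolar.Flag.rank _ _).symm)).symm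
        have := Submodule.finrank_lt_finrank_of_lt hlt
        rw [StPolar.Flag.rank, Fin.val_last] at this
        omega
      · set k : Fin (m + 1) := ⟨m - 1, by omega⟩
        have hle : D.base.sp k ≤ D.base.sp (Fin.last m) ⊓ D.alt.sp (Fin.last m) :=
          le_inf (D.base.mono (Fin.le_last _))
            (by rw [← D.alt_sp (show (k : ℕ) < m by simp [k]; omega)]; exact D.alt.mono (Fin.le_last _))
        have := Submodule.finrank_mono hle
        rwa [StPolar.Flag.rank] at this
    have hd : dick (s : OG) = 1 := ((mem_omega_gen hn hG (s : OG)).1 s.2).1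
    have h' := pSign_image_gen hn hG (U := D.base.sp (Fin.last m)) (W := D.base.sp (Fin.last m))
      half_top half_top (s : OG)
    rw [e1, pSign_self, mul_one, hd, pSign, hcap, StPolar.Flag.rank, Fin.val_last,
      show m + (m - 1) = 2 * (m - 1) + 1 by omega, pow_succ, pow_mul, Int.units_sq, one_pow, one_mul] at h'
    exact absurd h' (by decide)
  · obtain ⟨g, hg, hgi⟩ := exists_swaps hG hn (j := 2 * (m / 2)) (by omega)
    have hgO : g ∈ Omega F ⇑Qp := by
      rw [omega_eq_ker hn hG, MonoidHom.mem_ker, hgi, pow_mul,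
        show ((-1 : ℤˣ), sqSign (-1 : F)) ^ 2 = 1 from Prod.ext (Int.units_sq _) (Int.units_sq _), one_pow]
    refine ⟨⟨g, hgO⟩, fun f hf h0 => ?_⟩
    have himg : ∀ (w : Fin m → ιm → F) (z : StPolar.Flag D), (∀ k, z.sp k = Submodule.span F (w '' {l | (l : ℕ) < k})) →
        (∀ l, ogLin g (D.e l) = w l) → act ρ M.isom ⟨g, hgO⟩ D.base = z := fun w z hz hw =>
      StPolar.Flag.ext (funext fun k => by
        show (Submodule.span F (D.e '' _)).map (ogLin g).toLinearMap = _
        rw [hz, Submodule.map_span, Set.image_image]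
        exact congrArg _ (Set.image_congr fun l _ => hw l))
    by_cases hev : m % 2 = 0
    · rwa [himg D.f D.opp (fun _ => rfl) fun l => by rw [hg, if_pos (by have := l.2; omega)]]
    · let t : StPolar.Flag D := ⟨D.flip.alt.sp, D.flip.alt.rank, D.flip.alt.mono, ⟨D.flip.alt.ts.1, D.flip.alt.ts.2⟩⟩
      rw [himg D.flip.altVec t (fun _ => rfl) fun l => by
        rw [hg]
        show _ = if (l : ℕ) + 1 = m then D.eps • D.e l else D.f l
        rw [show D.eps = 1 from rfl, one_smul]
        by_cases h1 : (l : ℕ) + 1 = m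
        · rw [if_pos h1, if_neg (by omega)]
        · rw [if_neg h1, if_pos (by have := l.2; omega)]]
      intro ht
      -- transport the two-element panel of the flipped frame
      let back : StPolar.Flag D.flip → StPolar.Flag D := fun y => ⟨y.sp, y.rank, y.mono, ⟨y.ts.1, y.ts.2⟩⟩
      let to' : StPolar.Flag D → StPolar.Flag D.flip := fun y => ⟨y.sp, y.rank, y.mono, ⟨y.ts.1, y.ts.2⟩⟩
      have hsum : f (back D.flip.base) + f (back D.flip.alt) = 0 := by
        refine D.flip.space_alt hm (fun v => ?_) (cross_flip hm) (f := fun y => f (back y)) ?_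
        · funext x
          rcases x with i | i
          · refine (fr_A (D.flip.pr v) i).symm.trans ?_
            have h' : D.A i (D.flip.pr v) = 0 := by
              have := D.flip.C_pr i v
              rw [Frame.flip_C, mul_eq_zero] at this
              exact this.resolve_left (inv_ne_zero D.eps_ne)
            exact h'
          · refine (fr_C (D.flip.pr v) i).symm.trans ?_
            have h' := D.flip.A_pr i v
            change D.B (D.flip.pr v) (D.eps • D.e i) = 0 at h'
            rw [show D.eps = 1 from rfl, one_smul, D.B_e, show D.eps = 1 from rfl, one_mul] at h'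
            exact h'
        · intro i x s hs
          have h' := hf i (back x) (s.map ⟨back, fun a b e => by
              exact StPolar.Flag.ext (congrArg StPolar.Flag.sp e :)⟩) fun y => ?_
          · rw [Finset.sum_map] at h'; exact h'
          · rw [Finset.mem_map]
            constructor
            · rintro ⟨z, hz, rfl⟩; exact (hs z).1 hz
            · intro hy; exact ⟨to' y, (hs _).2 hy, rfl⟩
      have e2 : back D.flip.base = D.opp := StPolar.Flag.ext rfl
      rw [e2] at hsum
      exact h0 (by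
        have : f (back D.flip.alt) = 0 := ht
        rwa [this, add_zero] at hsum)

/-- Witt index at least three. -/
theorem exists_char_big (p : ℕ) [Fact p.Prime] [CharP F p] (hm : 3 ≤ m) :
    ∃ χ : POmega F (quadFormPlus m F) → ℂ, IsIrrCharacter (POmega F (quadFormPlus m F)) χ ∧
      ∀ P : Sylow p (POmega F (quadFormPlus m F)), χ 1 = Nat.card P ∧
        ∀ x : POmega F (quadFormPlus m F), x ∈ P → x ≠ 1 → χ x = 0 := by
  refine exists_char p (by omega) (Or.inr (by simp; omega)) fun z hz => ?_
  rcases center_omega_scalar (nondegenerate_qfPlus (F := F) m) (tri_qfPlus hm) (by simp; omega) hz with e | e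
  · exact ⟨1, fun v => by rw [show ogVal (z : OG) = 1 from e, Matrix.one_mulVec, one_smul]⟩
  · exact ⟨-1, fun v => by rw [show ogVal (z : OG) = -1 from e, Matrix.neg_mulVec, Matrix.one_mulVec, neg_one_smul]⟩

end Cfsg.Agent.Classical.StHyper
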