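import Cfsg.Agent.Lib.Classical.SteinbergHyper
import Cfsg.Agent.Lib.Classical.PSLSteinberg
import Cfsg.Agent.Lib.Fus.OmegaFourPlus
import Cfsg.Agent.Lib.Char.Quotient

/-!
The Steinberg characters of `PΩ⁺₂` and `PΩ⁺₄`.
-/

set_option autoImplicit false
set_option linter.unusedSectionVars false

namespace Cfsg.Agent.Classical.StHyperSmall

open Cfsg Matrix Cfsg.Agent.Classical.OrthAut
open scoped commutatorElement

universe u v

theorem isIrr_pair {A : Type u} {B : Type v} [Group A] [Group B] [Finite A] [Finite B]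
    {φ : A → ℂ} {ψ : B → ℂ} (hφ : IsIrrCharacter A φ) (hψ : IsIrrCharacter B ψ) :
    IsIrrCharacter (A × B) (fun p => φ p.1 * ψ p.2) := by
  classical
  letI := Fintype.ofFinite A
  letI := Fintype.ofFinite B
  open Cfsg.Agent.Char in
  refine IsChar.irr_of_norm_one
    (IsChar.mul (IsChar.comp (MonoidHom.fst A B) (IsIrr.isCharacter hφ))
      (IsChar.comp (MonoidHom.snd A B) (IsIrr.isCharacter hψ))) ?_
  have h1 := Cfsg.Agent.Char.classInner_self_irr hφ
  have h2 := Cfsg.Agent.Char.classInner_self_irr hψ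
  rw [classInner] at h1 h2 ⊢
  rw [Fintype.sum_prod_type, Nat.card_prod, Nat.cast_mul, _root_.mul_inv]
  open scoped ComplexConjugate in
  calc _ = ((Nat.card A : ℂ)⁻¹ * ∑ a, φ a * conj (φ a)) * ((Nat.card B : ℂ)⁻¹ * ∑ b, ψ b * conj (ψ b)) := by
        rw [mul_mul_mul_comm, Finset.sum_mul_sum]
        congr 1
        refine Finset.sum_congr rfl fun a _ => Finset.sum_congr rfl fun b _ => ?_
        rw [map_mul]; ring
    _ = 1 := by rw [h1, h2, one_mul]

/-- Pulling a Steinberg-like character back along a surjection with kernel of order prime to `p`. -/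
theorem pull_back {G : Type u} {H : Type v} [Group G] [Group H] [Finite G] {p : ℕ} [Fact p.Prime]
    (φ : G →* H) (hφ : Function.Surjective φ) (hker : ¬ p ∣ Nat.card φ.ker)
    (h : ∃ χ : H → ℂ, IsIrrCharacter H χ ∧ ∀ P : Sylow p H, χ 1 = Nat.card P ∧ ∀ x : H, x ∈ P → x ≠ 1 → χ x = 0) :
    ∃ χ : G → ℂ, IsIrrCharacter G χ ∧ ∀ P : Sylow p G, χ 1 = Nat.card P ∧
      ∀ x : G, x ∈ P → x ≠ 1 → χ x = 0 := by
  obtain ⟨χ, hχ, hP⟩ := h
  haveI : Finite H := Finite.of_surjective φ hφ
  refine ⟨fun g => χ (φ g), Cfsg.Agent.Char.IsIrr.comp_surjective φ hφ hχ, fun P => ⟨?_, fun x hx hx1 => ?_⟩⟩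
  · obtain ⟨Q⟩ : Nonempty (Sylow p H) := inferInstance
    show χ (φ 1) = _
    rw [map_one, (hP Q).1, Sylow.card_eq_multiplicity, Sylow.card_eq_multiplicity,
      show Nat.card G = Nat.card φ.ker * Nat.card H by
        rw [← Subgroup.card_mul_index φ.ker, Subgroup.index_ker, MonoidHom.range_eq_top.2 hφ, Subgroup.card_top],
      Nat.factorization_mul Nat.card_pos.ne' Nat.card_pos.ne', Finsupp.add_apply,
      Nat.factorization_eq_zero_of_not_dvd hker, zero_add]
  · obtain ⟨Q, hQ⟩ := (P.isPGroup'.map φ).exists_le_sylow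
    refine (hP Q).2 (φ x) (hQ (Subgroup.mem_map_of_mem _ hx)) fun h => hker ?_
    obtain ⟨k, hk⟩ := P.isPGroup' ⟨x, hx⟩
    have hk' : x ^ p ^ k = 1 := congrArg Subtype.val hk
    obtain ⟨l, -, hl⟩ := (Nat.dvd_prime_pow (Fact.out : p.Prime)).1 (orderOf_dvd_of_pow_eq_one hk')
    have hl0 : l ≠ 0 := fun e => hx1 (orderOf_eq_one_iff.1 (by rw [hl, e, pow_zero]))
    have h1 : orderOf (⟨x, MonoidHom.mem_ker.2 h⟩ : φ.ker) = p ^ l := by rw [Subgroup.orderOf_mk, hl]
    exact (dvd_pow_self p hl0).trans (h1 ▸ orderOf_dvd_natCard _)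

variable {F : Type*} [Field F]

theorem exists_char_one [Finite F] (p : ℕ) :
    ∃ χ : POmega F (quadFormPlus 1 F) → ℂ, IsIrrCharacter (POmega F (quadFormPlus 1 F)) χ ∧
      ∀ P : Sylow p (POmega F (quadFormPlus 1 F)), χ 1 = Nat.card P ∧
        ∀ x : POmega F (quadFormPlus 1 F), x ∈ P → x ≠ 1 → χ x = 0 := by
  classical
  set Q := quadFormPlus 1 F
  -- every isometry is monomial, so the commutators are diagonal
  let val : isometryGroup F Q → Matrix (Fin 1 ⊕ Fin 1) (Fin 1 ⊕ Fin 1) F := fun g => (g : GL (Fin 1 ⊕ Fin 1) F)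
  have hmul : ∀ g h, val (g * h) = val g * val h := fun g h => rfl
  have hinv : ∀ g, val g * val g⁻¹ = 1 := fun g => by rw [← hmul, mul_inv_cancel]; rfl
  have key : ∀ g, (val g (Sum.inr 0) (Sum.inl 0) = 0 ∧ val g (Sum.inl 0) (Sum.inr 0) = 0) ∨
      (val g (Sum.inl 0) (Sum.inl 0) = 0 ∧ val g (Sum.inr 0) (Sum.inr 0) = 0) := by
    intro g
    have h1 := g.2 (Pi.single (Sum.inl 0) 1) (Pi.single (Sum.inl 0) 1)
    have h2 := g.2 (Pi.single (Sum.inr 0) 1) (Pi.single (Sum.inr 0) 1)
    have h3 := g.2 (Pi.single (Sum.inl 0) 1 + Pi.single (Sum.inr 0) 1) (Pi.single (Sum.inl 0) 1 + Pi.single (Sum.inr 0) 1)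
    simp [Q, quadFormPlus, Matrix.mulVec_add, Pi.single_apply] at h1 h2 h3
    simp only [val]
    rcases h1 with h1 | h1 <;> rcases h2 with h2 | h2 <;> simp [h1, h2] at h3 ⊢
  let diag : Matrix (Fin 1 ⊕ Fin 1) (Fin 1 ⊕ Fin 1) F → Prop := fun M =>
    M (Sum.inr 0) (Sum.inl 0) = 0 ∧ M (Sum.inl 0) (Sum.inr 0) = 0
  let anti : Matrix (Fin 1 ⊕ Fin 1) (Fin 1 ⊕ Fin 1) F → Prop := fun M =>
    M (Sum.inl 0) (Sum.inl 0) = 0 ∧ M (Sum.inr 0) (Sum.inr 0) = 0
  let S : Subgroup (isometryGroup F Q) :=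
    { carrier := {g | diag (val g)}
      one_mem' := by
        show diag (1 : Matrix (Fin 1 ⊕ Fin 1) (Fin 1 ⊕ Fin 1) F)
        simp [diag]
      mul_mem' := fun {a b} ha hb => by
        show diag (val (a * b))
        rw [hmul]
        simp [diag, Matrix.mul_apply, Fintype.sum_sum_type, ha.1, ha.2, hb.1, hb.2]
      inv_mem' := fun {a} ha => by
        have e1 := congrFun (congrFun (hinv a) (Sum.inl 0)) (Sum.inr 0)
        have e2 := congrFun (congrFun (hinv a) (Sum.inr 0)) (Sum.inl 0)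
        have e3 := congrFun (congrFun (hinv a) (Sum.inl 0)) (Sum.inl 0)
        have e4 := congrFun (congrFun (hinv a) (Sum.inr 0)) (Sum.inr 0)
        simp [Matrix.mul_apply, Fintype.sum_sum_type, ha.1, ha.2] at e1 e2 e3 e4
        refine ⟨e2.resolve_left fun h => ?_, e1.resolve_left fun h => ?_⟩
        · simp [h] at e4
        · simp [h] at e3 }
  have hle : Omega F Q ≤ S := by
    rw [Omega, commutator_def, Subgroup.commutator_le]
    intro g _ h _
    show diag (val ⁅g, h⁆)
    have cases' : ∀ k, (diag (val k) ∧ diag (val k⁻¹)) ∨ (anti (val k) ∧ anti (val k⁻¹)) := fun k => by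
      rcases key k with hk | hk
      · exact Or.inl ⟨hk, S.inv_mem (x := k) hk⟩
      · rcases key k⁻¹ with hk' | hk'
        · have := S.inv_mem (x := k⁻¹) hk'
          rw [inv_inv] at this
          exact Or.inl ⟨this, hk'⟩
        · exact Or.inr ⟨hk, hk'⟩
    rw [commutatorElement_def, hmul, hmul, hmul]
    rcases cases' g with ⟨⟨g1, g2⟩, g3, g4⟩ | ⟨⟨g1, g2⟩, g3, g4⟩ <;>
      rcases cases' h with ⟨⟨h1, h2⟩, h3, h4⟩ | ⟨⟨h1, h2⟩, h3, h4⟩ <;>
      simp [diag, Matrix.mul_apply, Fintype.sum_sum_type, g1, g2, g3, g4, h1, h2, h3, h4]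
  have hcomm : ∀ x y : Omega F Q, y * x = x * y := fun x y => by
    refine Subtype.ext (Subtype.ext (Units.ext (Matrix.ext fun i j => ?_)))
    have hx := hle x.2
    have hy := hle y.2
    show (val (y : isometryGroup F Q) * val (x : isometryGroup F Q)) i j =
      (val (x : isometryGroup F Q) * val (y : isometryGroup F Q)) i j
    rcases i with i | i <;> rcases j with j | j <;> rw [Subsingleton.elim i 0, Subsingleton.elim j 0] <;>
      simp [Matrix.mul_apply, Fintype.sum_sum_type, hx.1, hx.2, hy.1, hy.2, mul_comm]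
  haveI : Subsingleton (POmega F Q) :=
    QuotientGroup.subsingleton_iff.2 (eq_top_iff.2 fun x _ => Subgroup.mem_center_iff.2 fun y => hcomm x y)
  refine ⟨fun _ => 1, Cfsg.Agent.Char.isIrr_one, fun P => ⟨?_, fun x _ hx => absurd (Subsingleton.elim x 1) hx⟩⟩
  rw [Nat.card_unique, Nat.cast_one]

theorem exists_char_two_big [Fintype F] (p : ℕ) [Fact p.Prime] [CharP F p] (hq : 3 ≤ Fintype.card F) :
    ∃ χ : POmega F (quadFormPlus 2 F) → ℂ, IsIrrCharacter (POmega F (quadFormPlus 2 F)) χ ∧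
      ∀ P : Sylow p (POmega F (quadFormPlus 2 F)), χ 1 = Nat.card P ∧
        ∀ x : POmega F (quadFormPlus 2 F), x ∈ P → x ≠ 1 → χ x = 0 := by
  classical
  obtain ⟨e⟩ := Cfsg.Agent.Fus.OmegaFourPlus.nonempty_pOmega_four_plus (F := F) hq
  haveI : Finite (POmega F (quadFormPlus 2 F)) := Finite.of_equiv _ e.toEquiv.symm
  refine pull_back e.toMonoidHom e.surjective ?_ ?_
  · rw [(MonoidHom.ker_eq_bot_iff _).2 e.injective, Subgroup.card_bot]
    exact (Fact.out : p.Prime).not_dvd_one
  obtain ⟨χ, hχ, hP⟩ := Cfsg.Agent.Classical.PSLSteinberg.exists_char (F := F) (p := p) (n := 2) (by omega)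
  obtain ⟨Q⟩ : Nonempty (Sylow p (Matrix.ProjectiveSpecialLinearGroup (Fin 2) F)) := inferInstance
  have hv : ∀ y : Matrix.ProjectiveSpecialLinearGroup (Fin 2) F, (∃ k : ℕ, y ^ p ^ k = 1) → y ≠ 1 → χ y = 0 := fun y hy hy1 => by
    obtain ⟨k, hk⟩ := hy
    obtain ⟨R, hR⟩ := (show IsPGroup p (Subgroup.zpowers y) from fun z => by
      obtain ⟨n, hn⟩ := Subgroup.mem_zpowers_iff.1 z.2
      exact ⟨k, Subtype.ext (by
        rw [SubmonoidClass.coe_pow, ← hn, ← zpow_natCast, ← _root_.zpow_mul, mul_comm, _root_.zpow_mul, zpow_natCast, hk,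
          _root_.one_zpow]; rfl)⟩).exists_le_sylow
    exact (hP R).2 y (hR (Subgroup.mem_zpowers y)) hy1
  refine ⟨fun x => χ x.1 * χ x.2, isIrr_pair hχ hχ, fun R => ⟨?_, fun x hx hx1 => ?_⟩⟩
  · show χ 1 * χ 1 = _
    rw [(hP Q).1, Sylow.card_eq_multiplicity, Sylow.card_eq_multiplicity, Nat.card_prod,
      Nat.factorization_mul Nat.card_pos.ne' Nat.card_pos.ne', Finsupp.add_apply, pow_add, Nat.cast_mul]
  · obtain ⟨k, hk⟩ := R.isPGroup' ⟨x, hx⟩
    have hk' : x ^ p ^ k = 1 := congrArg Subtype.val hk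
    show χ x.1 * χ x.2 = 0
    by_cases h1 : x.1 = 1
    · rw [hv x.2 ⟨k, congrArg Prod.snd hk'⟩ fun h => hx1 (Prod.ext h1 h), mul_zero]
    · rw [hv x.1 ⟨k, congrArg Prod.fst hk'⟩ h1, zero_mul]

open Cfsg.Agent.Fus.OmegaFourPlus in
theorem exists_char_two_two [Fintype F] (p : ℕ) [Fact p.Prime] [CharP F p] (hq : Fintype.card F = 2) :
    ∃ χ : POmega F (quadFormPlus 2 F) → ℂ, IsIrrCharacter (POmega F (quadFormPlus 2 F)) χ ∧
      ∀ P : Sylow p (POmega F (quadFormPlus 2 F)), χ 1 = Nat.card P ∧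
        ∀ x : POmega F (quadFormPlus 2 F), x ∈ P → x ≠ 1 → χ x = 0 := by
  classical
  have hp2 : p = 2 := by
    obtain ⟨n, hp, hn⟩ := FiniteField.card F p
    exact ((Nat.prime_dvd_prime_iff_eq hp Nat.prime_two).1 (by rw [← hq, hn]; exact dvd_pow_self p n.ne_zero))
  subst hp2
  have hu : ∀ c : F, c ≠ 0 → c = 1 := fun c hc => by
    have := FiniteField.pow_card_sub_one_eq_one c hc
    rwa [hq, pow_one] at this
  set G2 := GL (Fin 2) F
  have hdet : ∀ g : G2, g.val.det = 1 := fun g => hu _ (Matrix.GeneralLinearGroup.det g).ne_zero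
  set O := isometryGroup F (quadFormPlus 2 F)
  haveI : Finite O := Finite.of_injective (fun g : O => ((g : GL (Fin 2 ⊕ Fin 2) F) : Matrix (Fin 2 ⊕ Fin 2) (Fin 2 ⊕ Fin 2) F))
    fun a b h => Subtype.ext (Units.ext h)
  let act : G2 × G2 →* O := (actHom F).comp ((MonoidHom.id _).codRestrict (eqDet F)
    fun x => (hdet x.1).trans (hdet x.2).symm)
  have hact : Function.Injective act := (injective_iff_map_eq_one act).2 fun x hx => by
    obtain ⟨c, h1, h2⟩ := (act_eq_iff _).1 hx
    have h1 : x.1.val = Matrix.scalar (Fin 2) c := h1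
    have h2 : x.2.val = Matrix.scalar (Fin 2) c := h2
    have hc : c = 1 := hu c fun h0 => by
      have := hdet x.1; rw [h1, h0] at this; simp at this
    subst hc
    exact Prod.ext (Units.ext (h1.trans (map_one _))) (Units.ext (h2.trans (map_one _)))
  have hG2 : Nat.card G2 = 6 := by
    show Nat.card (GL (Fin 2) F) = 6
    rw [Matrix.card_GL_field, Fin.prod_univ_two, hq]
    rfl
  -- the image has index two
  have hidx : act.range.index = 2 := by
    have hR : Nat.card act.range = 36 := by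
      rw [Nat.card_congr (MonoidHom.ofInjective hact).symm.toEquiv, Nat.card_prod, hG2]
    have hO : Nat.card O = 72 := by
      refine Nat.cast_inj (R := ℤ).1 ?_
      rw [Classical.natCard_isometryGroup' (f := quadFormPlus 2 F) _ (Classical.coe_qfPlus 2),
        Classical.order_qfPlus 1]
      simp [hq]
    have := act.range.card_mul_index
    rw [hR, hO] at this
    omega
  have hnorm : act.range.Normal := Subgroup.normal_of_index_eq_two hidx
  have hle : Omega F (quadFormPlus 2 F) ≤ act.range := by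
    rw [Omega, ← Subgroup.Normal.quotient_commutative_iff_commutator_le]
    haveI : Fact (Nat.Prime 2) := ⟨Nat.prime_two⟩
    haveI : IsCyclic (O ⧸ act.range) := isCyclic_of_prime_card (p := 2) (by rw [← Subgroup.index_eq_card, hidx])
    exact IsCyclic.isMulCommutative
  set e := MonoidHom.ofInjective hact
  let pre : Omega F (quadFormPlus 2 F) →* G2 × G2 :=
    e.symm.toMonoidHom.comp (Subgroup.inclusion hle)
  have hpre : ∀ x, act (pre x) = (x : O) := fun x => congrArg Subtype.val (e.apply_symm_apply _)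
  have hpre_inj : Function.Injective pre := fun x y h => Subtype.ext (by rw [← hpre x, ← hpre y, h])
  -- the elements `(a, aᵀ)`
  have hpairs : ∀ a : G2, ∃ x, (pre x).1 = a ∧ (pre x).2.val = a.valᵀ := by
    intro a
    let b : G2 := (Matrix.GeneralLinearGroup.mkOfDetNeZero (a.valᵀ) (by
      rw [Matrix.det_transpose, hdet]; exact one_ne_zero))⁻¹
    have hb : ((b⁻¹ : G2)).val = a.valᵀ := by rw [inv_inv]; rfl
    have hsw : swapIso F * act (1, b) * (swapIso F)⁻¹ = act (a, 1) := by
      rw [mul_inv_eq_iff_eq_mul]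
      refine Cfsg.Agent.Fus.OmegaRankOne.iso_ext fun v => ?_
      show ((swapIso F).1.val * (act (1, b)).1.val) *ᵥ v = ((act (a, 1)).1.val * (swapIso F).1.val) *ᵥ v
      rw [← Matrix.mulVec_mulVec, ← Matrix.mulVec_mulVec]
      refine Function.LeftInverse.injective (ofM_toM F) ?_
      show toM F _ = toM F _
      rw [toM_swapIso]
      show (toM F ((actHom F _).1.val *ᵥ v))ᵀ = toM F ((actHom F _).1.val *ᵥ _)
      rw [toM_act, toM_act, toM_swapIso]
      show ((1 : G2).val * (toM F v * (b⁻¹ : G2).val))ᵀ = a.val * ((toM F v)ᵀ * ((1 : G2)⁻¹).val)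
      rw [hb, inv_one, Units.val_one, one_mul, mul_one, Matrix.transpose_mul, Matrix.transpose_transpose]
    have hmem : act (a, b⁻¹) ∈ Omega F (quadFormPlus 2 F) := by
      rw [show act (a, b⁻¹) = ⁅swapIso F, act (1, b)⁆ by
        rw [commutatorElement_def, hsw, ← map_inv, ← map_mul]
        simp]
      rw [Omega, commutator_def]
      exact Subgroup.commutator_mem_commutator (Subgroup.mem_top _) (Subgroup.mem_top _)
    have he : pre ⟨_, hmem⟩ = (a, b⁻¹) := hact (hpre _)
    exact ⟨⟨_, hmem⟩, by rw [he], by rw [he]; exact hb⟩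
  -- onto `PSL₂`
  have hSL : Function.Bijective (fun s : Matrix.SpecialLinearGroup (Fin 2) F =>
      (Matrix.SpecialLinearGroup.toGL s : G2)) :=
    ⟨fun s t h => Subtype.ext (congrArg Units.val h), fun g => ⟨⟨g.val, hdet g⟩, Units.ext rfl⟩⟩
  set eSL : Matrix.SpecialLinearGroup (Fin 2) F ≃* G2 :=
    MulEquiv.ofBijective (Matrix.SpecialLinearGroup.toGL (n := Fin 2) (R := F)) hSL
  let φ : Omega F (quadFormPlus 2 F) →* Matrix.ProjectiveSpecialLinearGroup (Fin 2) F :=
    (QuotientGroup.mk' _).comp (eSL.symm.toMonoidHom.comp ((MonoidHom.fst G2 G2).comp pre))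
  have hφ : Function.Surjective φ := fun y => by
    obtain ⟨s, rfl⟩ := QuotientGroup.mk'_surjective _ y
    obtain ⟨x, hx, -⟩ := hpairs (eSL s)
    refine ⟨x, ?_⟩
    show QuotientGroup.mk' _ (eSL.symm (pre x).1) = _
    rw [hx, MulEquiv.symm_apply_apply]
  have hfst : ∀ x, φ x = 1 → (pre x).1 = 1 := fun x hx => by
    have hc := (QuotientGroup.eq_one_iff _).1 hx
    obtain ⟨r, hr, hre⟩ := Matrix.SpecialLinearGroup.mem_center_iff.1 hc
    have hr1 : r = 1 := hu r fun h0 => by simp [h0] at hr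
    subst hr1
    have h1 : eSL.symm (pre x).1 = 1 := Subtype.ext (hre.symm.trans (map_one _))
    have h2 := congrArg eSL h1
    rwa [eSL.apply_symm_apply, map_one] at h2
  -- the kernel has no involution
  let S := {A : Fin 2 ⊕ Fin 2 → F // quadFormPlus 2 F A = 1}
  let perm : O →* Equiv.Perm S :=
    { toFun := fun g =>
        { toFun := fun A => ⟨g.1.val *ᵥ A.1, (g.2 A.1 A.1).trans A.2⟩
          invFun := fun A => ⟨(g⁻¹).1.val *ᵥ A.1, ((g⁻¹).2 A.1 A.1).trans A.2⟩
          left_inv := fun A => Subtype.ext (by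
            show (g⁻¹).1.val *ᵥ (g.1.val *ᵥ A.1) = A.1
            rw [Matrix.mulVec_mulVec, ← Units.val_mul, ← Subgroup.coe_mul, inv_mul_cancel]
            exact Matrix.one_mulVec _)
          right_inv := fun A => Subtype.ext (by
            show g.1.val *ᵥ ((g⁻¹).1.val *ᵥ A.1) = A.1
            rw [Matrix.mulVec_mulVec, ← Units.val_mul, ← Subgroup.coe_mul, mul_inv_cancel]
            exact Matrix.one_mulVec _) }
      map_one' := Equiv.ext fun A => Subtype.ext (Matrix.one_mulVec _)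
      map_mul' := fun g h => Equiv.ext fun A => Subtype.ext (by
        show (g * h).1.val *ᵥ A.1 = g.1.val *ᵥ (h.1.val *ᵥ A.1)
        rw [Matrix.mulVec_mulVec]
        rfl) }
  letI : Fintype S := Fintype.ofFinite S
  have hS : Fintype.card S = 6 := by
    rw [← Nat.card_eq_fintype_card, ← hG2]
    exact Nat.card_congr
      { toFun := fun A => Matrix.GeneralLinearGroup.mkOfDetNeZero (toM F A.1)
          (by rw [← quadForm_eq, A.2]; exact one_ne_zero)
        invFun := fun g => ⟨ofM F g.val, by rw [quadForm_eq, toM_ofM, hdet]⟩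
        left_inv := fun A => Subtype.ext (ofM_toM F A.1)
        right_inv := fun g => Units.ext (toM_ofM F g.val) }
  have hsign : ∀ x : Omega F (quadFormPlus 2 F), Equiv.Perm.sign (perm x) = 1 := fun x => by
    have := Abelianization.commutator_subset_ker (Equiv.Perm.sign.comp perm) x.2
    exact this
  have hodd : ¬ 2 ∣ Nat.card φ.ker := by
    intro h2
    haveI : Fact (Nat.Prime 2) := ⟨Nat.prime_two⟩
    obtain ⟨⟨x, hx⟩, hord⟩ := exists_prime_orderOf_dvd_card' 2 h2
    rw [Subgroup.orderOf_mk] at hord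
    have hx1 : x ≠ 1 := fun h => by rw [h, orderOf_one] at hord; omega
    have hsq : x ^ 2 = 1 := by have h := pow_orderOf_eq_one x; rwa [hord] at h
    obtain ⟨b, hb⟩ : ∃ b, b = (pre x).2 := ⟨_, rfl⟩
    have hb1 : b ≠ 1 := fun h => hx1 (hpre_inj (by
      rw [map_one]; exact Prod.ext (hfst x hx) (hb ▸ h)))
    have hP : ∀ A : S, toM F ((perm x) A).1 = toM F A.1 * (b⁻¹ : G2).val := fun A => by
      show toM F ((x : O).1.val *ᵥ A.1) = _
      rw [← hpre x]
      show toM F ((actHom F _).1.val *ᵥ A.1) = _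
      rw [toM_act]
      show (pre x).1.val * (_ * ((pre x).2⁻¹ : G2).val) = _
      rw [hfst x hx, Units.val_one, one_mul, hb]
    have hfree : ∀ A : S, perm x A ≠ A := fun A hA => hb1 (by
      have h := hP A
      rw [hA] at h
      have hu : IsUnit (toM F A.1) := (Matrix.isUnit_iff_isUnit_det _).2 (by
        rw [← quadForm_eq, A.2]; exact isUnit_one)
      have h' : (b⁻¹ : G2).val = 1 := hu.mul_left_cancel (by rw [mul_one]; exact h.symm)
      exact inv_eq_one.1 (Units.ext h'))
    have hσ : (perm (x : O)) ^ 2 = 1 := by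
      rw [← map_pow, ← SubgroupClass.coe_pow, hsq, OneMemClass.coe_one, map_one]
    have hne : perm (x : O) ≠ 1 := fun h => by
      obtain ⟨A⟩ : Nonempty S := Fintype.card_pos_iff.1 (by omega)
      exact hfree A (by rw [h]; rfl)
    have hord2 : orderOf (perm (x : O)) = 2 := orderOf_eq_prime hσ hne
    obtain ⟨k, hk⟩ := Equiv.Perm.cycleType_prime_order (hord2.symm ▸ Nat.prime_two)
    rw [hord2] at hk
    have hsupp : (perm (x : O)).support = Finset.univ := Finset.eq_univ_iff_forall.2 fun A =>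
      Equiv.Perm.mem_support.2 (hfree A)
    have hsum := Equiv.Perm.sum_cycleType (perm (x : O))
    rw [hk, hsupp, Finset.card_univ, hS, Multiset.sum_replicate, smul_eq_mul] at hsum
    have h1 := hsign x
    rw [Equiv.Perm.sign_of_cycleType, hk, Multiset.sum_replicate, Multiset.card_replicate, smul_eq_mul,
      show k + 1 = 3 by omega] at h1
    exact absurd h1 (by decide)
  -- the centre is trivial
  have hcenter : ∀ z ∈ Subgroup.center (Omega F (quadFormPlus 2 F)), z = 1 := by
    intro z hz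
    have hgl : ∀ g : G2, (∀ k : G2, k * g = g * k) → g = 1 := fun g hg => by
      have hmem : g ∈ Subgroup.center (GL (Fin 2) F) := Subgroup.mem_center_iff.2 hg
      obtain ⟨r, hr⟩ := (Matrix.GeneralLinearGroup.mem_center_iff_val_eq_scalar (g := g)).1 hmem
      refine Units.ext ?_
      have hr1 : r = 1 := hu r fun h0 => by
        have := hdet g; rw [← hr, h0] at this; simp at this
      rw [← hr, hr1, map_one, Units.val_one]
    have hc : ∀ y, pre y * pre z = pre z * pre y := fun y => by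
      rw [← map_mul, ← map_mul, Subgroup.mem_center_iff.1 hz y]
    refine hpre_inj (by
      rw [map_one]
      refine Prod.ext (hgl _ fun k => ?_) (hgl _ fun k => ?_)
      · obtain ⟨y, hy, -⟩ := hpairs k
        rw [← hy]; exact congrArg Prod.fst (hc y)
      · obtain ⟨y, -, hy⟩ := hpairs (Matrix.GeneralLinearGroup.mkOfDetNeZero (k.valᵀ) (by
          rw [Matrix.det_transpose, hdet]; exact one_ne_zero))
        have hy' : (pre y).2 = k := Units.ext (hy.trans (Matrix.transpose_transpose _))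
        rw [← hy']; exact congrArg Prod.snd (hc y))
  let ω : Omega F (quadFormPlus 2 F) ≃* POmega F (quadFormPlus 2 F) :=
    MulEquiv.ofBijective (QuotientGroup.mk' _) ⟨(injective_iff_map_eq_one _).2 fun z hz =>
      hcenter z ((QuotientGroup.eq_one_iff z).1 hz), QuotientGroup.mk'_surjective _⟩
  haveI : Finite (POmega F (quadFormPlus 2 F)) := Finite.of_equiv _ ω.toEquiv
  refine pull_back (φ.comp ω.symm.toMonoidHom) (hφ.comp ω.symm.surjective) ?_
    (Cfsg.Agent.Classical.PSLSteinberg.exists_char (F := F) (p := 2) (n := 2) (by omega))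
  rw [show Nat.card (φ.comp ω.symm.toMonoidHom).ker = Nat.card φ.ker from Nat.card_congr
    { toFun := fun y => ⟨ω.symm y.1, y.2⟩
      invFun := fun y => ⟨ω y.1, by show φ (ω.symm (ω y.1)) = 1; rw [ω.symm_apply_apply]; exact y.2⟩
      left_inv := fun y => Subtype.ext (ω.apply_symm_apply _)
      right_inv := fun y => Subtype.ext (ω.symm_apply_apply _) }]
  exact hodd

end Cfsg.Agent.Classical.StHyperSmall
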