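import Cfsg.Agent.Lib.Classical.SteinbergPolar

/-!
Unipotent isometries act trivially on an anisotropic middle, or, in characteristic two, as a reflection.
-/

set_option autoImplicit false
set_option linter.unusedSectionVars false

namespace Cfsg.Agent.Classical.StPolar

universe u v

variable {K : Type u} [Field K] {V : Type v} [AddCommGroup V] [Module K V] {m : ℕ} (D : Frame K V m)

namespace Frame

/-- The middle vectors. -/
def InMid (v : V) : Prop := (∀ i, D.A i v = 0) ∧ ∀ i, D.C i v = 0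

theorem inMid_pr (v : V) : D.InMid (D.pr v) := ⟨fun i => D.A_pr i v, fun i => D.C_pr i v⟩

theorem inMid_fix {v : V} (hv : D.InMid v) : D.pr v = v := by
  conv_rhs => rw [D.decomp v]
  simp [hv.1, hv.2]

theorem mem_Fil_of_C {v : V} (hC : ∀ i, D.C i v = 0) : v - D.pr v ∈ D.Fil m :=
  ⟨fun _ => by rw [map_sub, D.pr_pr, sub_self], fun i hi => by omega,
    fun i _ => by rw [map_sub, hC, D.C_pr, sub_zero]⟩

variable {D}

theorem C_map_zero {T : V ≃ₗ[K] V} (hT : D.Isom T) (h : ∀ i : Fin m, T (D.e i) - D.e i ∈ D.Fil i) {v : V}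
    (hv : ∀ i, D.C i v = 0) (i : Fin m) : D.C i (T v) = 0 := by
  obtain ⟨n, hn⟩ := i
  induction n using Nat.strong_induction_on with
  | _ n ih =>
    set i : Fin m := ⟨n, hn⟩
    have h1 : D.B (T v) (T (D.e i)) = 0 := by rw [hT.1, D.B_e, hv, mul_zero]
    have h2 : D.B (T v) (T (D.e i) - D.e i) = 0 := by
      rw [D.Fil_eq_sum (Nat.le_of_lt hn) (h i), D.B_sum_right]
      refine Finset.sum_eq_zero fun l _ => ?_
      rw [D.smul_right]
      by_cases hl : (l : ℕ) < n
      · rw [D.B_e, ih l hl l.2, mul_zero, mul_zero]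
      · rw [(h i).2.1 l (Nat.le_of_not_lt hl), map_zero, zero_mul]
    rw [D.B_sub_right, h1, zero_sub, neg_eq_zero, D.B_e] at h2
    exact (mul_eq_zero.1 h2).resolve_left D.eps_ne

theorem maps_Fil {T : V ≃ₗ[K] V} (h : ∀ i : Fin m, T (D.e i) - D.e i ∈ D.Fil i) {v : V}
    (hv : v ∈ D.Fil m) : T v ∈ D.Fil m := by
  rw [D.Fil_eq_sum le_rfl hv, map_sum]
  refine Submodule.sum_mem _ fun i _ => ?_
  rw [map_smul]
  refine Submodule.smul_mem _ _ ?_
  have := add_mem (D.Fil_mono (Nat.le_of_lt i.2) (h i)) (D.e_mem i.2)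
  rwa [sub_add_cancel] at this

theorem B_Fil {x y : V} (hx : x ∈ D.Fil m) (hy : ∀ i, D.C i y = 0) : D.B x y = 0 := by
  rw [D.Fil_eq_sum le_rfl hx, D.B_sum_left]
  exact Finset.sum_eq_zero fun i _ => by rw [D.smul_left, D.e_B, hy, map_zero, mul_zero]

theorem q_Fil {x y : V} (hx : x ∈ D.Fil m) (hy : ∀ i, D.C i y = 0) : D.q (x + y) = D.q y := by
  rw [D.q_add, B_Fil hx hy, D.t_zero, add_zero]
  conv_lhs => rw [D.Fil_eq_sum le_rfl hx, D.q_sum _ D.e D.qe D.ee]
  rw [zero_add]

theorem pr_of_Fil {x : V} (hx : x ∈ D.Fil m) : D.pr x = 0 := hx.1 le_rfl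

variable {p : ℕ} [Fact p.Prime] [CharP K p]

/-- The middle action of a `p`-element is trivial or moves some vector by a vector it fixes. -/
theorem mid_dichotomy [Nontrivial V] {T : V ≃ₗ[K] V} (hT : D.Isom T)
    (h : ∀ i : Fin m, T (D.e i) - D.e i ∈ D.Fil i) (hp : ∃ k : ℕ, T ^ p ^ k = 1) :
    (∀ v, D.InMid v → T v - v ∈ D.Fil m) ∨
      ∃ x v, D.InMid x ∧ D.InMid v ∧ x ≠ 0 ∧ T x - x ∈ D.Fil m ∧ T v - (v + x) ∈ D.Fil m ∧
        D.B x x = 0 ∧ D.q (v + x) = D.q v := by
  haveI : CharP (Module.End K V) p :=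
    charP_of_injective_algebraMap (algebraMap K (Module.End K V)).injective p
  set P : Module.End K V := D.pr
  set T' : Module.End K V := T.toLinearMap
  have hPP : P * P = P := LinearMap.ext fun v => D.pr_pr v
  have hkey : ∀ v, (∀ i, D.C i v = 0) → D.pr (T v) = D.pr (T (D.pr v)) := fun v hv => by
    have := pr_of_Fil (maps_Fil h (D.mem_Fil_of_C hv))
    rwa [map_sub, map_sub, sub_eq_zero] at this
  set L : Module.End K V := P * T' * P
  have hLn : ∀ n v, ((L ^ (n + 1)) v) = D.pr ((T ^ (n + 1)) (D.pr v)) ∧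
      ∀ i, D.C i ((T ^ (n + 1)) (D.pr v)) = 0 := by
    intro n v
    induction n with
    | zero =>
      refine ⟨by rw [pow_one, pow_one]; rfl, fun i => ?_⟩
      rw [pow_one]
      exact C_map_zero hT h (fun i => D.C_pr i v) i
    | succ n ih =>
      refine ⟨?_, fun i => ?_⟩
      · rw [pow_succ', Module.End.mul_apply, ih.1]
        show D.pr (T (D.pr (D.pr _))) = _
        rw [D.pr_pr, ← hkey _ ih.2]
        simp only [pow_succ', LinearEquiv.mul_apply]
      · rw [pow_succ' T, LinearEquiv.mul_apply]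
        exact C_map_zero hT h ih.2 i
  obtain ⟨k, hk⟩ := hp
  have hLpk : L ^ p ^ k = P := LinearMap.ext fun v => by
    obtain ⟨n, hn⟩ : ∃ n, p ^ k = n + 1 :=
      ⟨p ^ k - 1, by have := Nat.one_le_pow k p (Fact.out : p.Prime).pos; omega⟩
    rw [hn, (hLn n v).1, ← hn, hk]
    exact D.pr_pr v
  have hcomm : Commute L P := by
    show P * T' * P * P = P * (P * T' * P)
    rw [mul_assoc (P * T'), hPP, mul_assoc P T' P, ← mul_assoc P P, hPP]
  set N := L - P
  have hnil : N ^ p ^ k = 0 := by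
    have hPn : ∀ n, P ^ (n + 1) = P := fun n => by
      induction n with
      | zero => rw [pow_one]
      | succ n ih => rw [pow_succ, ih, hPP]
    obtain ⟨n, hn⟩ : ∃ n, p ^ k = n + 1 :=
      ⟨p ^ k - 1, by have := Nat.one_le_pow k p (Fact.out : p.Prime).pos; omega⟩
    rw [sub_pow_char_pow_of_commute (p := p) (h := hcomm), hLpk]
    rw [hn, hPn, sub_self]
  have hN : ∀ v, N v = D.pr (T (D.pr v)) - D.pr v := fun v => rfl
  have hstep : ∀ v, D.InMid v → T v - (v + N v) ∈ D.Fil m := fun v hv => by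
    have := D.mem_Fil_of_C (C_map_zero hT h hv.2)
    rw [hN, D.inMid_fix hv]
    rwa [add_sub_cancel]
  by_cases h0 : N = 0
  · exact Or.inl fun v hv => by simpa [h0] using hstep v hv
  right
  have hex : ∃ j, N ^ j = 0 := ⟨_, hnil⟩
  classical
  set j := Nat.find hex
  have hj : N ^ j = 0 := Nat.find_spec hex
  have hj2 : 2 ≤ j := by
    by_contra hlt
    push Not at hlt
    interval_cases j
    · exact one_ne_zero (α := Module.End K V) (by simpa using hj)
    · exact h0 (by simpa using hj)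
  obtain ⟨i, hi⟩ : ∃ i, j = i + 2 := ⟨j - 2, by omega⟩
  obtain ⟨v₀, hv₀⟩ : ∃ v₀, (N ^ (i + 1)) v₀ ≠ 0 := by
    by_contra hall
    push Not at hall
    exact Nat.find_min hex (show i + 1 < j by omega) (LinearMap.ext hall)
  set v := D.pr ((N ^ i) v₀)
  set x := N v
  have hv : D.InMid v := D.inMid_pr _
  have hx : D.InMid x := by
    show D.InMid (N v)
    rw [hN, ← map_sub]; exact D.inMid_pr _
  have hxv : x = (N ^ (i + 1)) v₀ := by
    show N (D.pr _) = _
    rw [pow_succ', Module.End.mul_apply, hN, hN, D.pr_pr]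
  have hNx : N x = 0 := by
    rw [hxv, ← Module.End.mul_apply, ← pow_succ', ← hi, hj]; rfl
  have h1 : T x - x ∈ D.Fil m := by simpa [hNx] using hstep x hx
  have h2 : T v - (v + x) ∈ D.Fil m := hstep v hv
  have hC1 : ∀ i, D.C i (v + x) = 0 := fun i => by rw [map_add, hv.2, hx.2, add_zero]
  refine ⟨x, v, hx, hv, hxv ▸ hv₀, h1, h2, ?_, ?_⟩
  · have e := hT.1 v x
    rw [← sub_add_cancel (T v) (v + x), ← sub_add_cancel (T x) x, D.add_left, D.add_right, D.add_right,
      B_Fil h2 hx.2, D.refl (B_Fil h1 hC1)] at e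
    have hCy : ∀ i, D.C i (T x - x) = 0 := fun i => h1.2.2 i (by omega)
    rw [B_Fil h2 hCy, zero_add, zero_add, D.add_left] at e
    simpa using e
  · have e := hT.2 v
    rwa [← sub_add_cancel (T v) (v + x), q_Fil h2 hC1] at e

/-- In odd characteristic and for hermitian forms the middle action is trivial. -/
theorem mid_of_self [Nontrivial V] {T : V ≃ₗ[K] V} (hT : D.Isom T)
    (h : ∀ i : Fin m, T (D.e i) - D.e i ∈ D.Fil i) (hp : ∃ k : ℕ, T ^ p ^ k = 1)
    (hself : ∀ v, D.B v v = 0 → D.q v = 0) {v : V} (hA : ∀ i, D.A i v = 0) (hC : ∀ i, D.C i v = 0) :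
    T v - v ∈ D.Fil m := by
  rcases mid_dichotomy hT h hp with h' | ⟨x, -, hx, -, hx0, -, -, hxx, -⟩
  · exact h' v ⟨hA, hC⟩
  · exact absurd (D.aniso x (fun i => hx.1 i) (fun i => by rw [D.B_e, hx.2, mul_zero]) (hself x hxx)) hx0

end Frame

end Cfsg.Agent.Classical.StPolar
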