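import Cfsg.Agent.Lib.Classical.OrthOmegaIndex
import Cfsg.Agent.Lib.Classical.QuadModels
import Cfsg.Agent.Lib.Char.Basic

/-!
The group `PΩ⁻₂` is trivial: `Ω⁻₂` is abelian, so its Steinberg character is the trivial one.
-/

set_option autoImplicit false
set_option linter.unusedSectionVars false

namespace Cfsg.Agent.Classical.StMinusSmall

open Cfsg Matrix Cfsg.Agent.Classical.OrthAut

variable {F : Type*} [Field F] {a b : F}

/-- The matrix of an isometry of the binary form. -/
noncomputable def R (a b : F) : isometryGroup F ⇑(qfMinus 0 F a b) →* Matrix (Fin 2) (Fin 2) F where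
  toFun g := (ogVal g).submatrix Sum.inr Sum.inr
  map_one' := by rw [ogVal_one]; ext i j; simp [Matrix.one_apply]
  map_mul' g h := by
    ext i j; simp [Matrix.mul_apply, Fintype.sum_sum_type]

theorem R_injective : Function.Injective (R a b) := fun g h e => by
  refine ogVal_ext (Matrix.ext fun i j => ?_)
  rcases i with (i | i) | c <;> first | exact i.elim0 | skip
  rcases j with (j | j) | d <;> first | exact j.elim0 | skip
  exact congrFun (congrFun e c) d

theorem commutator_comm (hab : ∀ z₁ z₂ : F, z₁ ^ 2 + a * z₁ * z₂ + b * z₂ ^ 2 = 0 → z₁ = 0 ∧ z₂ = 0)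
    [Finite F] (x y : Omega F ⇑(qfMinus 0 F a b)) : x * y = y * x := by
  classical
  set M : Matrix (Fin 2) (Fin 2) F := !![(0 : F), -b; 1, a] with hM
  set M' : Matrix (Fin 2) (Fin 2) F := !![a, b; -1, 0] with hM'
  have hD : 4 * b - a ^ 2 ≠ 0 := binary_disc_ne_zero hab
  have key : ∀ g, (SemiconjBy (R a b g) M M ∧ SemiconjBy (R a b g) M' M') ∨
      (SemiconjBy (R a b g) M M' ∧ SemiconjBy (R a b g) M' M) := by
    intro g
    obtain ⟨c, hc⟩ : ∃ c, R a b g 0 0 = c := ⟨_, rfl⟩
    obtain ⟨d, hd⟩ : ∃ d, R a b g 1 0 = d := ⟨_, rfl⟩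
    obtain ⟨y, hy⟩ : ∃ y, R a b g 0 1 = y := ⟨_, rfl⟩
    obtain ⟨w, hw⟩ : ∃ w, R a b g 1 1 = w := ⟨_, rfl⟩
    have hR : R a b g = !![c, y; d, w] := by rw [← hc, ← hd, ← hy, ← hw]; exact Matrix.eta_fin_two _
    simp only [R, MonoidHom.coe_mk, OneHom.coe_mk, Matrix.submatrix_apply] at hc hd hy hw
    have q1 := ogVal_quad g (Pi.single (Sum.inr 0) 1)
    have q2 := ogVal_quad g (Pi.single (Sum.inr 1) 1)
    have q3 := ogVal_quad g (Pi.single (Sum.inr 0) 1 + Pi.single (Sum.inr 1) 1)
    simp [qfMinus_apply, quadFormMinus, Matrix.mulVec_add, hc, hd, hy, hw] at q1 q2 q3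
    obtain ⟨α, hα⟩ : ∃ α, α = y * (c + a * d) + b * d * w := ⟨_, rfl⟩
    obtain ⟨β, hβ⟩ : ∃ β, β = c * w - d * y := ⟨_, rfl⟩
    have ey : y = α * c + β * (-b * d) := by linear_combination (-y) * q1 - c * hα + b * d * hβ
    have ew : w = α * d + β * (c + a * d) := by
      linear_combination (-w) * q1 - d * hα - (c + a * d) * hβ
    have h1 : α ^ 2 + a * α * β + b * β ^ 2 = b := by
      subst hα hβ
      linear_combination q2 + (y ^ 2 + a * y * w + b * w ^ 2) * q1
    have h2 : 2 * α + a * β = a := by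
      subst hα hβ
      linear_combination q3 - q1 - q2
    have hβ2 : β = 1 ∨ β = -1 := by
      refine mul_self_eq_one_iff.1 ?_
      have : (4 * b - a ^ 2) * (β * β - 1) = 0 := by
        linear_combination 4 * h1 - (2 * α + a * β + a) * h2
      rcases mul_eq_zero.1 this with h | h
      · exact absurd h hD
      · linear_combination h
    have hcase : (α = 0 ∧ β = 1) ∨ (α = a ∧ β = -1) := by
      by_cases htwo : (2 : F) = 0
      · have hb : β = 1 := by
          rcases hβ2 with h | h
          · exact h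
          · rw [h]; linear_combination (-1) * htwo
        rw [hb] at h1
        rcases mul_eq_zero.1 (show α * (α + a) = 0 by linear_combination h1) with h | h
        · exact Or.inl ⟨h, hb⟩
        · exact Or.inr ⟨by linear_combination h - a * htwo, by rw [hb]; linear_combination htwo⟩
      · rcases hβ2 with hb | hb
        · refine Or.inl ⟨(mul_eq_zero.1 (show 2 * α = 0 by rw [hb] at h2; linear_combination h2)).resolve_left
            htwo, hb⟩
        · refine Or.inr ⟨sub_eq_zero.1 ((mul_eq_zero.1 (show 2 * (α - a) = 0 by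
            rw [hb] at h2; linear_combination h2)).resolve_left htwo), hb⟩
    rcases hcase with ⟨rfl, rfl⟩ | ⟨e1, e2⟩
    · left
      constructor <;> rw [SemiconjBy, hR, ey, ew] <;> ext i j <;> fin_cases i <;> fin_cases j <;>
        simp [hM, hM', Matrix.mul_apply] <;> ring
    · right
      rw [e1, e2] at ey ew
      constructor <;> rw [SemiconjBy, hR, ey, ew] <;> ext i j <;> fin_cases i <;> fin_cases j <;>
        simp [hM, hM', Matrix.mul_apply] <;> ring
  let S : Subgroup (isometryGroup F ⇑(qfMinus 0 F a b)) :=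
    { carrier := {g | Commute (R a b g) M}
      one_mem' := by show Commute _ M; rw [map_one]; exact Commute.one_left M
      mul_mem' := fun {g h} hg hh => by show Commute _ M; rw [map_mul]; exact Commute.mul_left hg hh
      inv_mem' := fun {g} hg => by
        show R a b g⁻¹ * M = M * R a b g⁻¹
        have h1 : R a b g⁻¹ * R a b g = 1 := by rw [← map_mul, inv_mul_cancel, map_one]
        have h2 : R a b g * R a b g⁻¹ = 1 := by rw [← map_mul, mul_inv_cancel, map_one]
        calc R a b g⁻¹ * M = R a b g⁻¹ * (M * R a b g) * R a b g⁻¹ := by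
              rw [mul_assoc, mul_assoc M, h2, mul_one]
          _ = R a b g⁻¹ * (R a b g * M) * R a b g⁻¹ := by rw [← (show R a b g * M = M * R a b g from hg)]
          _ = M * R a b g⁻¹ := by rw [← mul_assoc (R a b g⁻¹), h1, one_mul] }
  have hle : Omega F ⇑(qfMinus 0 F a b) ≤ S := by
    rw [Omega, commutator_def, Subgroup.commutator_le]
    intro g _ h _
    show Commute _ M
    rw [commutatorElement_def, map_mul, map_mul, map_mul]
    have inv : ∀ {k X Y}, SemiconjBy (R a b k) X Y → SemiconjBy (R a b k⁻¹) Y X := fun {k X Y} hk => by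
      have h1 : R a b k⁻¹ * R a b k = 1 := by rw [← map_mul, inv_mul_cancel, map_one]
      have h2 : R a b k * R a b k⁻¹ = 1 := by rw [← map_mul, mul_inv_cancel, map_one]
      show _ = _
      calc R a b k⁻¹ * Y = R a b k⁻¹ * (Y * R a b k) * R a b k⁻¹ := by
            rw [mul_assoc, mul_assoc Y, h2, mul_one]
        _ = R a b k⁻¹ * (R a b k * X) * R a b k⁻¹ := by rw [← hk.eq]
        _ = X * R a b k⁻¹ := by rw [← mul_assoc (R a b k⁻¹), h1, one_mul]
    rcases key g with ⟨g1, g2⟩ | ⟨g1, g2⟩ <;> rcases key h with ⟨h1, h2⟩ | ⟨h1, h2⟩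
    · exact ((g1.mul_left h1).mul_left (inv g1)).mul_left (inv h1)
    · exact ((g1.mul_left h2).mul_left (inv g2)).mul_left (inv h2)
    · exact ((g2.mul_left h2).mul_left (inv g2)).mul_left (inv h1)
    · exact ((g2.mul_left h1).mul_left (inv g1)).mul_left (inv h2)
  have form : ∀ g ∈ S, ∃ c d : F, R a b g = !![c, -b * d; d, c + a * d] := by
    intro g hg
    refine ⟨R a b g 0 0, R a b g 1 0, ?_⟩
    have e : R a b g * M = M * R a b g := hg
    have e0 := congrFun (congrFun e 0) 0
    have e1 := congrFun (congrFun e 1) 0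
    simp [hM, Matrix.mul_apply, Fin.sum_univ_two] at e0 e1
    ext i j; fin_cases i <;> fin_cases j <;> simp [e0, e1]
  obtain ⟨c, d, hx⟩ := form _ (hle x.2)
  obtain ⟨c', d', hy⟩ := form _ (hle y.2)
  refine Subtype.ext (R_injective ?_)
  rw [Subgroup.coe_mul, Subgroup.coe_mul, map_mul, map_mul, hx, hy]
  ext i j; fin_cases i <;> fin_cases j <;> simp [Matrix.mul_apply] <;> ring

theorem exists_char_zero (hab : ∀ z₁ z₂ : F, z₁ ^ 2 + a * z₁ * z₂ + b * z₂ ^ 2 = 0 → z₁ = 0 ∧ z₂ = 0)
    [Finite F] (p : ℕ) :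
    ∃ χ : POmega F (quadFormMinus 0 F a b) → ℂ, IsIrrCharacter (POmega F (quadFormMinus 0 F a b)) χ ∧
      ∀ P : Sylow p (POmega F (quadFormMinus 0 F a b)), χ 1 = Nat.card P ∧
        ∀ x : POmega F (quadFormMinus 0 F a b), x ∈ P → x ≠ 1 → χ x = 0 := by
  rw [← coe_qfMinus]
  haveI : Subsingleton (POmega F ⇑(qfMinus 0 F a b)) := by
    refine QuotientGroup.subsingleton_iff.2 ?_
    exact eq_top_iff.2 fun x _ => Subgroup.mem_center_iff.2 fun y => commutator_comm hab y x
  haveI : Finite (POmega F ⇑(qfMinus 0 F a b)) := inferInstance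
  refine ⟨fun _ => 1, Cfsg.Agent.Char.isIrr_one, fun P => ⟨?_, fun x _ hx => absurd (Subsingleton.elim x 1) hx⟩⟩
  rw [Nat.card_unique, Nat.cast_one]

end Cfsg.Agent.Classical.StMinusSmall
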