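import Cfsg.Agent.Lib.Classical.SteinbergFrame

/-!
The unipotent isometries of a frame: transitivity on the flags opposite to the standard one, freeness,
and the uniqueness of their fixed flag.
-/

set_option autoImplicit false
set_option linter.unusedSectionVars false

namespace Cfsg.Agent.Classical.StPolar

open Module

universe u v

variable {K : Type u} [Field K] {V : Type v} [AddCommGroup V] [Module K V] {m : ℕ} (D : Frame K V m)

namespace Frame

/-- The filtration of the space attached to the frame. -/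
def Fil (k : ℕ) : Submodule K V where
  carrier := {v | (k ≤ m → D.pr v = 0) ∧ (∀ i : Fin m, k ≤ i → D.A i v = 0) ∧
    ∀ i : Fin m, k + i ≤ 2 * m → D.C i v = 0}
  add_mem' ha hb := ⟨fun h => by rw [map_add, ha.1 h, hb.1 h, add_zero],
    fun i h => by rw [map_add, ha.2.1 i h, hb.2.1 i h, add_zero],
    fun i h => by rw [map_add, ha.2.2 i h, hb.2.2 i h, add_zero]⟩
  zero_mem' := ⟨fun _ => map_zero _, fun _ _ => map_zero _, fun _ _ => map_zero _⟩
  smul_mem' c v hv := ⟨fun h => by rw [map_smul, hv.1 h, smul_zero],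
    fun i h => by rw [map_smul, hv.2.1 i h, smul_zero],
    fun i h => by rw [map_smul, hv.2.2 i h, smul_zero]⟩

theorem mem_Fil {k : ℕ} {v : V} : v ∈ D.Fil k ↔ (k ≤ m → D.pr v = 0) ∧
    (∀ i : Fin m, k ≤ i → D.A i v = 0) ∧ ∀ i : Fin m, k + i ≤ 2 * m → D.C i v = 0 := Iff.rfl

theorem Fil_mono {k l : ℕ} (h : k ≤ l) : D.Fil k ≤ D.Fil l := fun _ hv =>
  ⟨fun h' => hv.1 (h.trans h'), fun i h' => hv.2.1 i (h.trans h'), fun i h' => hv.2.2 i (by omega)⟩

theorem Fil_zero {v : V} (hv : v ∈ D.Fil 0) : v = 0 := by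
  rw [D.decomp v, hv.1 (Nat.zero_le _), Finset.sum_eq_zero fun i _ => by rw [hv.2.1 i (Nat.zero_le _), zero_smul],
    Finset.sum_eq_zero fun i _ => by rw [hv.2.2 i (by omega), zero_smul], add_zero, add_zero]

theorem mem_Fil_top {k : ℕ} (hk : 2 * m < k) (v : V) : v ∈ D.Fil k :=
  ⟨fun h => by omega, fun i h => by omega, fun i h => by omega⟩

theorem e_mem {k : ℕ} {i : Fin m} (h : (i : ℕ) < k) : D.e i ∈ D.Fil k :=
  ⟨fun _ => D.pr_e i, fun j hj => by rw [A_e, if_neg (fun e : i = j => by subst e; omega)],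
    fun j _ => D.C_e j i⟩

theorem Fil_eq_sum {k : ℕ} (hk : k ≤ m) {v : V} (hv : v ∈ D.Fil k) : v = ∑ i, D.A i v • D.e i := by
  conv_lhs => rw [D.decomp v, hv.1 hk,
    Finset.sum_eq_zero (f := fun i => D.C i v • D.f i) fun i _ => by rw [hv.2.2 i (by omega), zero_smul],
    add_zero, add_zero]

/-- Lowering the filtration. -/
def Lowers (T : V →ₗ[K] V) : Prop := ∀ k, ∀ v ∈ D.Fil (k + 1), T v - v ∈ D.Fil k

theorem Lowers.map_mem {D : Frame K V m} {T : V →ₗ[K] V} (h : D.Lowers T) {k : ℕ} {v : V}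
    (hv : v ∈ D.Fil k) : T v ∈ D.Fil k := by
  rcases k with _ | k
  · rw [D.Fil_zero hv, map_zero]; exact zero_mem _
  · have := add_mem (D.Fil_mono (Nat.le_succ k) (h k v hv)) hv
    rwa [sub_add_cancel] at this

theorem Lowers.comp {D : Frame K V m} {S T : V →ₗ[K] V} (hS : D.Lowers S) (hT : D.Lowers T) :
    D.Lowers (S ∘ₗ T) := fun k v hv => by
  have := add_mem (hS.map_mem (hT k v hv)) (hS k v hv)
  rwa [map_sub, sub_add_sub_cancel] at this

theorem Lowers.pow_eq_one [Nontrivial V] {D : Frame K V m} {T : V →ₗ[K] V} (h : D.Lowers T) (p : ℕ)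
    [hp : Fact p.Prime] [CharP K p] : ∃ k : ℕ, T ^ p ^ k = 1 := by
  haveI : CharP (Module.End K V) p :=
    charP_of_injective_algebraMap (algebraMap K (Module.End K V)).injective p
  set N : Module.End K V := T - 1
  have hN : ∀ j k v, v ∈ D.Fil (k + j) → (N ^ j) v ∈ D.Fil k := by
    intro j
    induction j with
    | zero => intro k v hv; simpa using hv
    | succ j ih =>
      intro k v hv
      rw [pow_succ', Module.End.mul_apply]
      exact h k _ (ih (k + 1) v (by rwa [show k + 1 + j = k + (j + 1) by ring]))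
  have hnil : N ^ (2 * m + 1) = 0 := LinearMap.ext fun v =>
    D.Fil_zero (hN _ 0 v (D.mem_Fil_top (by omega) v))
  refine ⟨2 * m + 1, ?_⟩
  have h1 : (T - 1) ^ p ^ (2 * m + 1) = T ^ p ^ (2 * m + 1) - 1 := by
    rw [sub_pow_char_pow_of_commute (p := p) (h := Commute.one_right T), one_pow]
  rw [pow_eq_zero_of_le (Nat.lt_pow_self hp.out.one_lt).le hnil] at h1
  exact sub_eq_zero.1 h1.symm

end Frame

/-! ### Frame changes -/

/-- A second frame with the same first half span. -/
structure Pair where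
  /-- the new first half -/
  e' : Fin m → V
  /-- the new second half -/
  f' : Fin m → V
  he : ∀ i : Fin m, e' i ∈ D.Fil ((i : ℕ) + 1)
  hd : ∀ i, D.A i (e' i) = 1
  hq : ∀ i, D.q (f' i) = 0
  hf : ∀ i j, D.B (f' i) (f' j) = 0
  hC : ∀ i j, j ≤ i → D.C j (f' i) = if j = i then 1 else 0
  hef : ∀ i j, D.B (e' i) (f' j) = if i = j then 1 else 0

namespace Pair

variable {D} (P : Pair D)

/-- The isometry of a pair. -/
def T : V →ₗ[K] V :=
  ∑ i, (D.A i).smulRight (P.e' i) + ∑ i, (D.C i).smulRight (P.f' i) +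
    (D.pr - ∑ i, ((D.Bl (P.f' i)).comp D.pr).smulRight (P.e' i))

theorem T_apply (v : V) : P.T v = ∑ i, D.A i v • P.e' i + ∑ i, D.C i v • P.f' i +
    (D.pr v - ∑ i, D.B (D.pr v) (P.f' i) • P.e' i) := by
  simp [T, LinearMap.sum_apply]
  rfl

theorem T_sub (v : V) : P.T v - v = ∑ i, D.A i v • (P.e' i - D.e i) + ∑ i, D.C i v • (P.f' i - D.f i) -
    ∑ i, D.B (D.pr v) (P.f' i) • P.e' i := by
  conv_lhs => arg 2; rw [D.decomp v]
  rw [P.T_apply]
  simp only [smul_sub, Finset.sum_sub_distrib]
  abel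

theorem T_e (i : Fin m) : P.T (D.e i) = P.e' i := by
  simp [T_apply, ite_smul, D.B_zero_left]

theorem T_f (i : Fin m) : P.T (D.f i) = P.f' i := by
  simp [T_apply, ite_smul, D.B_zero_left]

theorem e'_B (i : Fin m) {v : V} (hv : ∀ j, D.C j v = 0) : D.B (P.e' i) v = 0 := by
  rw [D.Fil_eq_sum (Nat.succ_le_of_lt i.2) (P.he i), D.B_sum_left]
  exact Finset.sum_eq_zero fun j _ => by rw [D.smul_left, D.e_B, hv, map_zero, mul_zero]

theorem C_e' (i j : Fin m) : D.C j (P.e' i) = 0 := (P.he i).2.2 j (by omega)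

theorem ee' (i j : Fin m) : D.B (P.e' i) (P.e' j) = 0 := P.e'_B i fun l => P.C_e' j l

theorem B_fe' (i j : Fin m) : D.B (P.f' i) (P.e' j) = if i = j then D.eps else 0 := by
  rw [D.swap (P.e' j) (P.f' i), P.hef]
  by_cases h : i = j <;> simp [h, eq_comm]

theorem q_e' (i : Fin m) : D.q (P.e' i) = 0 := by
  rw [D.Fil_eq_sum (Nat.succ_le_of_lt i.2) (P.he i)]
  exact D.q_sum _ D.e D.qe D.ee _

/-- The middle image. -/
theorem mid_orth (v : V) (i : Fin m) :
    D.B (D.pr v - ∑ j, D.B (D.pr v) (P.f' j) • P.e' j) (P.e' i) = 0 ∧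
    D.B (D.pr v - ∑ j, D.B (D.pr v) (P.f' j) • P.e' j) (P.f' i) = 0 := by
  constructor
  · rw [D.B_sub_left, D.refl (P.e'_B i fun j => D.C_pr j v), D.B_sum_left,
      Finset.sum_eq_zero fun j _ => by rw [D.smul_left, P.ee', mul_zero], sub_zero]
  · rw [D.B_sub_left, D.B_sum_left, Finset.sum_eq_single i, D.smul_left, P.hef, if_pos rfl, mul_one, sub_self]
    · intro j _ hj; rw [D.smul_left, P.hef, if_neg hj, mul_zero]
    · simp

end Pair

namespace Frame

/-- The form on two expansions. -/
theorem expand {g h : Fin m → V} (gg : ∀ i j, D.B (g i) (g j) = 0) (hh : ∀ i j, D.B (h i) (h j) = 0)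
    (gh : ∀ i j, D.B (g i) (h j) = if i = j then 1 else 0)
    (hg : ∀ i j, D.B (h i) (g j) = if i = j then D.eps else 0)
    (a c a' c' : Fin m → K) {x y : V} (hx : ∀ i, D.B x (g i) = 0 ∧ D.B x (h i) = 0)
    (hy : ∀ i, D.B y (g i) = 0 ∧ D.B y (h i) = 0) :
    D.B (∑ i, a i • g i + ∑ i, c i • h i + x) (∑ i, a' i • g i + ∑ i, c' i • h i + y) =
      ∑ i, a i * D.σ (c' i) + ∑ i, c i * D.eps * D.σ (a' i) + D.B x y := by
  have hy' : ∀ i, D.B (g i) y = 0 ∧ D.B (h i) y = 0 := fun i => ⟨D.refl (hy i).1, D.refl (hy i).2⟩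
  simp only [D.add_left, D.B_sum_left, D.smul_left, D.add_right, D.B_sum_right, D.smul_right]
  simp [gg, hh, gh, hg, hx, hy', mul_comm (D.σ _), mul_left_comm _ (D.σ _), mul_assoc]

end Frame

namespace Pair

variable {D} (P : Pair D)

theorem T_B (u v : V) : D.B (P.T u) (P.T v) = D.B u v := by
  rw [P.T_apply, P.T_apply]
  conv_rhs => rw [D.decomp u, D.decomp v]
  rw [D.expand P.ee' P.hf P.hef P.B_fe' _ _ _ _ (P.mid_orth u) (P.mid_orth v),
    D.expand D.ee D.ff D.ef D.fe _ _ _ _ (fun i => ⟨by rw [D.B_e, D.C_pr, mul_zero], D.A_pr i u⟩)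
      (fun i => ⟨by rw [D.B_e, D.C_pr, mul_zero], D.A_pr i v⟩)]
  congr 1
  have h1 : ∀ (w : V) (i : Fin m), D.B (D.pr w) (P.e' i) = 0 := fun w i =>
    D.refl (P.e'_B i fun j => D.C_pr j w)
  have h2 : ∀ (w : V) (i : Fin m), D.B (P.e' i) (D.pr w) = 0 := fun w i => P.e'_B i fun j => D.C_pr j w
  simp only [D.B_sub_left, D.B_sub_right, D.B_sum_left, D.B_sum_right, D.smul_left, D.smul_right, h1, h2,
    P.ee', mul_zero, Finset.sum_const_zero, sub_zero]

theorem T_q (v : V) : D.q (P.T v) = D.q v := by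
  classical
  have hadd : ∀ x y, D.q (P.T x) = D.q x → D.q (P.T y) = D.q y → D.q (P.T (x + y)) = D.q (x + y) :=
    fun x y hx hy => by rw [map_add, D.q_add, D.q_add, P.T_B, hx, hy]
  have hsum : ∀ (g : Fin m → V) (c : Fin m → K), (∀ i, D.q (g i) = 0) → (∀ i, D.q (P.T (g i)) = 0) →
      D.q (P.T (∑ i, c i • g i)) = D.q (∑ i, c i • g i) := fun g c hg hg' => by
    refine Finset.sum_induction _ (fun x => D.q (P.T x) = D.q x) hadd (by simp [D.q_zero]) fun i _ => ?_
    rw [map_smul, D.q_smul _ _ (hg i), D.q_smul _ _ (hg' i)]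
  have hmid : D.q (P.T (D.pr v)) = D.q (D.pr v) := by
    have e : P.T (D.pr v) = D.pr v + ∑ i, (-D.B (D.pr v) (P.f' i)) • P.e' i := by
      simp [P.T_apply, sub_eq_add_neg]
    have h0 : D.B (D.pr v) (∑ i, (-D.B (D.pr v) (P.f' i)) • P.e' i) = 0 := by
      rw [D.B_sum_right]
      exact Finset.sum_eq_zero fun i _ => by rw [D.smul_right, D.refl (P.e'_B i fun j => D.C_pr j v), mul_zero]
    rw [e, D.q_add, h0, D.q_sum _ P.e' P.q_e' P.ee', D.t_zero, add_zero, add_zero]
  rw [D.decomp v]
  exact hadd _ _ (hadd _ _ (hsum _ _ D.qe fun i => by rw [P.T_e]; exact P.q_e' i)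
    (hsum _ _ D.qf fun i => by rw [P.T_f]; exact P.hq i)) hmid

theorem T_lowers : D.Lowers P.T := by
  intro k v hv
  rw [P.T_sub]
  refine sub_mem (add_mem (Submodule.sum_mem _ fun i _ => ?_) (Submodule.sum_mem _ fun i _ => ?_))
    (Submodule.sum_mem _ fun i _ => ?_)
  · by_cases hi : k + 1 ≤ (i : ℕ)
    · rw [hv.2.1 i hi, zero_smul]; exact zero_mem _
    refine Submodule.smul_mem _ _ (D.Fil_mono (show (i : ℕ) ≤ k by omega) ?_)
    refine ⟨fun _ => ?_, fun j hj => ?_, fun j _ => ?_⟩
    · rw [map_sub, (P.he i).1 (by omega), D.pr_e, sub_zero]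
    · rw [map_sub, D.A_e]
      by_cases hij : i = j
      · subst hij; rw [P.hd, if_pos rfl, sub_self]
      · rw [(P.he i).2.1 j (by have : (i : ℕ) ≠ j := fun e => hij (Fin.ext e); omega), if_neg hij, sub_zero]
    · rw [map_sub, P.C_e', D.C_e, sub_zero]
  · by_cases hi : k + 1 + (i : ℕ) ≤ 2 * m
    · rw [hv.2.2 i hi, zero_smul]; exact zero_mem _
    refine Submodule.smul_mem _ _ ⟨fun h => ?_, fun j hj => ?_, fun j hj => ?_⟩
    · omega
    · omega
    · rw [map_sub, P.hC i j (Fin.le_def.2 (by omega)), D.C_f]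
      by_cases hij : j = i
      · simp [hij]
      · simp [hij, Ne.symm hij]
  · by_cases hk : k + 1 ≤ m
    · rw [hv.1 hk, D.B_zero_left, zero_smul]; exact zero_mem _
    exact Submodule.smul_mem _ _ (D.Fil_mono (show (i : ℕ) + 1 ≤ k by omega) (P.he i))

theorem T_injective : Function.Injective P.T := (injective_iff_map_eq_zero _).2 fun v hv => by
  have hB : ∀ w, D.B v w = 0 := fun w => by rw [← P.T_B, hv, D.B_zero_left]
  have hA : ∀ i, D.A i v = 0 := fun i => hB _
  have hC : ∀ i, D.C i v = 0 := fun i => by rw [D.C_def, hB, mul_zero]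
  rw [P.T_apply] at hv
  simp only [hA, hC, zero_smul, Finset.sum_const_zero, zero_add, sub_eq_zero] at hv
  have h := congrArg D.pr hv
  rw [D.pr_pr, map_sum, Finset.sum_eq_zero fun i _ => by
    rw [map_smul, (P.he i).1 (Nat.succ_le_of_lt i.2), smul_zero]] at h
  rw [D.decomp v, h]
  simp [hA, hC]

/-- The isometry as an equivalence. -/
noncomputable def equiv [FiniteDimensional K V] : V ≃ₗ[K] V :=
  LinearEquiv.ofInjectiveEndo P.T P.T_injective

theorem equiv_apply [FiniteDimensional K V] (v : V) : P.equiv v = P.T v := by simp [equiv]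

end Pair

namespace Frame

/-- An isometry. -/
def Isom (T : V ≃ₗ[K] V) : Prop := (∀ u v, D.B (T u) (T v) = D.B u v) ∧ ∀ v, D.q (T v) = D.q v

theorem pair_isom [FiniteDimensional K V] (P : Pair D) : D.Isom P.equiv :=
  ⟨fun u v => by rw [P.equiv_apply, P.equiv_apply, P.T_B], fun v => by rw [P.equiv_apply, P.T_q]⟩

theorem pair_lowers [FiniteDimensional K V] (P : Pair D) : D.Lowers P.equiv.toLinearMap := fun k v hv => by
  rw [LinearEquiv.coe_coe, P.equiv_apply]; exact P.T_lowers k v hv

/-- The frame with the halves exchanged. -/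
def flip : Frame K V m where
  σ := D.σ
  B := D.B
  q := D.q
  t := D.t
  eps := D.eps
  add_left := D.add_left
  smul_left := D.smul_left
  swap := D.swap
  eps_norm := D.eps_norm
  t_zero := D.t_zero
  q_add := D.q_add
  q_smul := D.q_smul
  self := D.self
  e := D.f
  f i := D.eps • D.e i
  ef i j := by
    rw [D.smul_right, D.fe]
    split_ifs
    · rw [mul_comm, D.eps_norm]
    · rw [mul_zero]
  ee := D.ff
  ff i j := by rw [D.smul_left, D.smul_right, D.ee, mul_zero, mul_zero]
  qe := D.qf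
  qf i := D.q_smul _ _ (D.qe i)
  aniso w h1 h2 := D.aniso w h2 fun i => by
    have := h1 i
    rw [D.smul_right, mul_eq_zero] at this
    exact this.resolve_left ((map_ne_zero D.σ).2 D.eps_ne)

theorem flip_C (i : Fin m) (v : V) : D.flip.C i v = D.eps⁻¹ * D.A i v := rfl

end Frame

/-! ### The action on flags -/

namespace Flag

variable {D}

/-- The image of a flag under an isometry. -/
def map (y : Flag D) (T : V ≃ₗ[K] V) (hT : D.Isom T) : Flag D where
  sp k := (y.sp k).map T.toLinearMap
  rank k := by rw [LinearEquiv.finrank_map_eq, y.rank]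
  mono k l h := Submodule.map_mono (y.mono h)
  ts := by
    constructor
    · rintro _ ⟨v, hv, rfl⟩
      rw [LinearEquiv.coe_coe, hT.2]; exact y.ts.1 v hv
    · rintro _ ⟨u, hu, rfl⟩ _ ⟨v, hv, rfl⟩
      rw [LinearEquiv.coe_coe, hT.1]; exact y.ts.2 u hu v hv

end Flag

namespace Frame

theorem li_e : LinearIndependent K D.e := Fintype.linearIndependent_iff.2 fun c hc i => by
  simpa [map_sum, Finset.sum_ite_eq', eq_comm] using congrArg (D.A i) hc

theorem li_f : LinearIndependent K D.f := Fintype.linearIndependent_iff.2 fun c hc i => by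
  simpa [map_sum, Finset.sum_ite_eq', eq_comm] using congrArg (D.C i) hc

/-- The standard flag. -/
def base : Flag D := Flag.mk' D.e D.li_e D.qe D.ee

/-- The opposite standard flag. -/
def opp : Flag D := Flag.mk' D.f D.li_f D.qf D.ff

theorem base_sp (k : Fin (m + 1)) : D.base.sp k = D.Fil k := by
  refine le_antisymm (Submodule.span_le.2 ?_) fun v hv => ?_
  · rintro _ ⟨i, hi, rfl⟩; exact D.e_mem hi
  · rw [D.Fil_eq_sum (Nat.le_of_lt_succ k.2) hv]
    refine Submodule.sum_mem _ fun i _ => ?_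
    by_cases hi : (i : ℕ) < k
    · exact Submodule.smul_mem _ _ (Submodule.subset_span ⟨i, hi, rfl⟩)
    · rw [hv.2.1 i (by omega), zero_smul]; exact zero_mem _

theorem base_fixed [FiniteDimensional K V] {T : V ≃ₗ[K] V} (hT : D.Isom T) (hL : D.Lowers T.toLinearMap) :
    D.base.map T hT = D.base := Flag.ext (funext fun k => by
  show (D.base.sp k).map T.toLinearMap = _
  refine Submodule.eq_of_le_of_finrank_eq ?_ (LinearEquiv.finrank_map_eq T _)
  rintro _ ⟨v, hv, rfl⟩
  rw [base_sp] at hv ⊢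
  exact hL.map_mem hv)

/-- The dual vectors of a triangular second half. -/
theorem exists_dual (g : Fin m → V) (hg : ∀ i j, j ≤ i → D.C j (g i) = if j = i then 1 else 0) :
    ∃ e' : Fin m → V, (∀ i : Fin m, e' i ∈ D.Fil ((i : ℕ) + 1)) ∧ (∀ i, D.A i (e' i) = 1) ∧
      ∀ i j, D.B (e' i) (g j) = if i = j then 1 else 0 := by
  classical
  let L : (Fin m → K) →ₗ[K] (Fin m → K) :=
    LinearMap.pi fun j => ∑ l, (LinearMap.proj l : (Fin m → K) →ₗ[K] K).smulRight (D.σ (D.C l (g j)))
  have hLa : ∀ a j, L a j = ∑ l, a l * D.σ (D.C l (g j)) := fun a j => by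
    simp [L, LinearMap.sum_apply]
  have hdiag : ∀ a k, (∀ l, k < l → a l = 0) → L a k = a k := fun a k h => by
    rw [hLa, Finset.sum_eq_single k, hg k k le_rfl, if_pos rfl, map_one, mul_one]
    · intro l _ hl
      rcases lt_or_gt_of_ne hl with h' | h'
      · rw [hg k l h'.le, if_neg hl, map_zero, mul_zero]
      · rw [h l h', zero_mul]
    · simp
  have hmax : ∀ a : Fin m → K, ∀ i, (∀ k, i < k → L a k = 0) → ∀ k, i < k → a k = 0 := by
    intro a i h k hk
    by_contra hak
    obtain ⟨l, hl, hlmax⟩ := Finset.exists_max_image (Finset.univ.filter fun l => i < l ∧ a l ≠ 0) id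
      ⟨k, by simp [hk, hak]⟩
    simp only [Finset.mem_filter, Finset.mem_univ, true_and, id_eq] at hl hlmax
    refine hl.2 ((hdiag a l fun l' hl' => ?_).symm.trans (h l hl.1))
    by_contra hne
    exact absurd (hlmax l' ⟨hl.1.trans hl', hne⟩) (not_le.2 hl')
  have hinj : Function.Injective L := (injective_iff_map_eq_zero L).2 fun a ha => funext fun k => by
    by_contra hak
    obtain ⟨l, hl, hlmax⟩ := Finset.exists_max_image (Finset.univ.filter fun l => a l ≠ 0) id
      ⟨k, by simpa using hak⟩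
    simp only [Finset.mem_filter, Finset.mem_univ, true_and, id_eq] at hl hlmax
    refine hl ((hdiag a l fun l' hl' => ?_).symm.trans (congrFun ha l))
    by_contra hne
    exact absurd (hlmax l' hne) (not_le.2 hl')
  choose a ha using fun i : Fin m => LinearMap.surjective_of_injective hinj (Pi.single i 1)
  have htri : ∀ i k : Fin m, i < k → a i k = 0 := fun i =>
    hmax (a i) i fun k hk => by rw [ha, Pi.single_eq_of_ne hk.ne']
  have hA : ∀ i l, D.A l (∑ j, a i j • D.e j) = a i l := fun i l => by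
    simp [map_sum, Finset.sum_ite_eq', eq_comm]
  refine ⟨fun i => ∑ j, a i j • D.e j, fun i => ⟨fun _ => ?_, fun j hj => ?_, fun j _ => ?_⟩, fun i => ?_,
    fun i j => ?_⟩
  · simp [map_sum]
  · rw [hA]; exact htri i j (Fin.lt_def.2 (by omega))
  · simp [map_sum]
  · rw [hA, ← hdiag (a i) i (htri i), ha, Pi.single_eq_same]
  · rw [D.B_sum_left, Finset.sum_congr rfl fun l _ => by rw [D.smul_left, D.e_B], ← hLa, ha,
      Pi.single_apply]
    by_cases h : i = j <;> simp [h, eq_comm]

/-- Lowering isometries are transitive on the opposite flags. -/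
theorem exists_to_top [FiniteDimensional K V] {y : Flag D} (hy : y.IsTop) :
    ∃ P : Pair D, D.opp.map P.equiv (D.pair_isom P) = y := by
  obtain ⟨g, hg⟩ := hy.exists_vectors
  have htri : ∀ i j, j ≤ i → D.C j (g i) = if j = i then 1 else 0 := fun i j hj => by
    by_cases h : j = i
    · rw [if_pos h, h, (hg i).2.2.1]
    · rw [if_neg h, (hg i).2.2.2 j (lt_of_le_of_ne hj h)]
  have hlast : ∀ i, g i ∈ y.sp (Fin.last m) := fun i => y.mono (Fin.le_last _) (hg i).1
  obtain ⟨e', he, hd, hef⟩ := D.exists_dual g htri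
  refine ⟨⟨e', g, he, hd, fun i => y.ts.1 _ (hlast i), fun i j => y.ts.orth (hlast i) (hlast j), htri, hef⟩, ?_⟩
  refine Flag.ext (funext fun k => Submodule.eq_of_le_of_finrank_eq ?_ ((Flag.rank _ k).trans (y.rank k).symm))
  show (Submodule.span K _).map _ ≤ _
  rw [Submodule.map_span, Submodule.span_le]
  rintro _ ⟨_, ⟨i, hi, rfl⟩, rfl⟩
  rw [LinearEquiv.coe_coe, Pair.equiv_apply, Pair.T_f]
  exact y.mono (show i.succ ≤ k by rw [Fin.le_def, Fin.val_succ]; exact hi) (hg i).1

theorem map_opp_isTop [FiniteDimensional K V] {T : V ≃ₗ[K] V} (hT : D.Isom T) (hL : D.Lowers T.toLinearMap) :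
    (D.opp.map T hT).IsTop := by
  have key : ∀ i j : Fin m, j ≤ i → D.C j (T (D.f i)) = if j = i then 1 else 0 := fun i j hji => by
    have hmem : D.f i ∈ D.Fil (2 * m - i + 1) := ⟨fun h => by omega, fun l hl => by omega, fun l hl => by
      rw [D.C_f, if_neg (fun e : i = l => by subst e; omega)]⟩
    have h := (hL _ _ hmem).2.2 j (by have := Fin.le_def.1 hji; omega)
    rw [map_sub, sub_eq_zero, LinearEquiv.coe_coe, D.C_f] at h
    rw [h]
    by_cases e : j = i
    · simp [e]
    · simp [e, Ne.symm e]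
  exact Flag.isTop_of _ (fun i => ⟨_, Flag.mem_mk' i, rfl⟩)
    (fun i j hj => (key i j hj.le).trans (if_neg hj.ne)) (fun i => by simp [key i i le_rfl])

theorem free [FiniteDimensional K V] {T : V ≃ₗ[K] V} (hT : D.Isom T) (hL : D.Lowers T.toLinearMap)
    (hfix : D.opp.map T hT = D.opp) (v : V) : T v = v := by
  have hspan : ∀ i : Fin m, ∃ c : Fin m → K, (∀ l, i < l → c l = 0) ∧ T (D.f i) = ∑ l, c l • D.f l := by
    intro i
    have h : T (D.f i) ∈ (D.opp.map T hT).sp i.succ := ⟨_, Flag.mem_mk' i, rfl⟩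
    rw [hfix] at h
    have h' : T (D.f i) ∈ Submodule.span K (Set.range D.f) :=
      Submodule.span_mono (Set.image_subset_range _ _) h
    obtain ⟨c, hc⟩ := (Submodule.mem_span_range_iff_exists_fun K).1 h'
    refine ⟨c, fun l hl => ?_, hc.symm⟩
    have hzero : ∀ x ∈ D.opp.sp i.succ, D.C l x = 0 := fun x hx => by
      induction hx using Submodule.span_induction with
      | mem x hx =>
        obtain ⟨j, hj, rfl⟩ := hx
        have hji : (j : ℕ) < (i : ℕ) + 1 := by simpa using hj
        rw [D.C_f, if_neg (fun e : j = l => by subst e; have : (i : ℕ) < j := hl; omega)]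
      | zero => simp
      | add x y _ _ hx hy => rw [map_add, hx, hy, add_zero]
      | smul a x _ hx => rw [map_smul, hx, smul_zero]
    simpa [← hc, map_sum, Finset.sum_ite_eq', eq_comm] using hzero _ h
  have hf : ∀ i, T (D.f i) = D.f i := fun i => by
    obtain ⟨c, hc, hTi⟩ := hspan i
    have hcl : ∀ l, c l = D.C l (T (D.f i)) := fun l => by
      rw [hTi]; simp [map_sum, Finset.sum_ite_eq', eq_comm]
    rw [hTi, Finset.sum_eq_single i]
    · have hmem : D.f i ∈ D.Fil (2 * m - i + 1) := ⟨fun h => by omega, fun l hl => by omega, fun l hl => by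
        rw [D.C_f, if_neg (fun e : i = l => by subst e; omega)]⟩
      have h := (hL _ _ hmem).2.2 i (by omega)
      rw [map_sub, sub_eq_zero, LinearEquiv.coe_coe, D.C_f, if_pos rfl, ← hcl] at h
      rw [h, one_smul]
    · intro l _ hl
      rcases lt_or_gt_of_ne hl with h' | h'
      · have hmem : D.f i ∈ D.Fil (2 * m - i + 1) := ⟨fun h => by omega, fun l hl => by omega, fun l hl => by
          rw [D.C_f, if_neg (fun e : i = l => by subst e; omega)]⟩
        have h := (hL _ _ hmem).2.2 l (by have : (l : ℕ) < i := h'; omega)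
        rw [map_sub, sub_eq_zero, LinearEquiv.coe_coe, D.C_f, if_neg hl.symm, ← hcl] at h
        rw [h, zero_smul]
      · rw [hc l h', zero_smul]
    · simp
  have hz : ∀ x, x ∈ D.Fil m → (∀ j, D.B x (D.f j) = 0) → x = 0 := fun x hx hB => by
    rw [D.Fil_eq_sum le_rfl hx]; exact Finset.sum_eq_zero fun j _ => by rw [D.A_def, hB, zero_smul]
  have he : ∀ i, T (D.e i) = D.e i := fun i => sub_eq_zero.1 (hz _
    (D.Fil_mono (Nat.le_of_lt i.2) (hL i _ (D.e_mem (Nat.lt_succ_self _)))) fun j => by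
      rw [D.B_sub_left, sub_eq_zero]
      conv_lhs => rw [← hf j]
      exact hT.1 _ _)
  have hw : T (D.pr v) = D.pr v := sub_eq_zero.1 (hz _
    (hL m _ ⟨fun h => by omega, fun i hi => by omega, fun i _ => D.C_pr i v⟩) fun j => by
      rw [D.B_sub_left, sub_eq_zero]
      conv_lhs => rw [← hf j]
      exact hT.1 _ _)
  rw [D.decomp v, map_add, map_add, map_sum, map_sum, hw]
  simp [hf, he]

/-- Adding one vector of the second half to another. -/
theorem exists_add_f {i l : Fin m} (hl : i < l) :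
    ∃ P : Pair D, ∀ u, P.T u - u = (-D.A l u) • D.e i + D.C i u • D.f l := by
  have hne : l ≠ i := hl.ne'
  refine ⟨⟨fun j => if j = l then D.e l - D.e i else D.e j, fun j => if j = i then D.f i + D.f l else D.f j,
    ?_, ?_, ?_, ?_, ?_, ?_⟩, fun u => ?_⟩
  · intro j; split_ifs with h
    · subst h; exact sub_mem (D.e_mem (Nat.lt_succ_self _)) (D.e_mem (Nat.lt_succ_of_lt hl))
    · exact D.e_mem (Nat.lt_succ_self _)
  · intro j; split_ifs with h
    · subst h; simp [hne.symm]
    · simp
  · intro j; split_ifs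
    · exact D.q_orth_add (D.qf i) (D.qf l) (D.ff i l)
    · exact D.qf j
  · intro a b; split_ifs <;> simp [D.add_left, D.add_right, D.ff]
  · intro a b hba
    have hab : (b : ℕ) ≤ a := hba
    have hil : (i : ℕ) < l := hl
    split_ifs with h1 h2 h2 <;> subst_vars <;> simp [map_add, Fin.ext_iff] at * <;> grind
  · intro a b; split_ifs <;> subst_vars <;> simp_all [D.add_right, D.B_sub_left, D.ef, eq_comm]
  · rw [Pair.T_sub]
    have hB : ∀ j, D.B (D.pr u) (if j = i then D.f i + D.f l else D.f j) = 0 := fun j => by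
      split_ifs <;> simp [D.add_right, D.B_f]
    simp only [hB, zero_smul, Finset.sum_const_zero, sub_zero]
    rw [Finset.sum_eq_single l (fun j _ hj => by simp [hj]) (by simp),
      Finset.sum_eq_single i (fun j _ hj => by simp [hj]) (by simp)]
    simp [sub_eq_add_neg]

/-- Adding vectors of the first half to the second. -/
theorem exists_add_e {i l : Fin m} (hl : i < l) :
    ∃ P : Pair D, ∀ u, D.C i u = 0 → P.T u - u = D.C l u • D.e i := by
  have hne : l ≠ i := hl.ne'
  refine ⟨⟨D.e, fun j => if j = i then D.f i + (-D.eps) • D.e l else if j = l then D.f l + D.e i else D.f j,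
    fun j => D.e_mem (Nat.lt_succ_self _), fun j => by simp, ?_, ?_, ?_, ?_⟩, fun u hCi => ?_⟩
  · intro j; split_ifs
    · exact D.q_orth_add (D.qf i) (D.q_smul _ _ (D.qe l)) (by simp [-neg_smul, D.smul_right, D.fe, hne.symm])
    · exact D.q_orth_add (D.qf l) (D.qe i) (by simp [D.fe, hne])
    · exact D.qf j
  · intro a b
    have h1 : D.σ D.eps * D.eps = 1 := by rw [mul_comm, D.eps_norm]
    split_ifs <;> subst_vars <;>
      simp_all [-neg_smul, D.add_left, D.add_right, D.smul_left, D.smul_right, D.ff, D.fe, D.ef, D.ee, eq_comm] <;>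
      linear_combination (-D.eps) * h1
  · intro a b _
    split_ifs <;> subst_vars <;> simp_all [-neg_smul, map_add, eq_comm]
  · intro a b
    split_ifs <;> subst_vars <;> simp_all [-neg_smul, D.add_right, D.smul_right, D.ef, D.ee, eq_comm]
  · rw [Pair.T_sub]
    have hB : ∀ j, D.B (D.pr u)
        (if j = i then D.f i + (-D.eps) • D.e l else if j = l then D.f l + D.e i else D.f j) = 0 := fun j => by
      split_ifs <;> simp [-neg_smul, D.add_right, D.smul_right, D.B_f, D.B_e]
    simp only [hB, zero_smul, Finset.sum_const_zero, sub_zero, sub_self, smul_zero, zero_add]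
    rw [Finset.sum_eq_single l (fun j _ hj => ?_) (by simp)]
    · simp [hne]
    · by_cases hji : j = i
      · rw [hji, hCi, zero_smul]
      · simp [hj, hji]

/-- Replacing one vector of the second half. -/
theorem exists_add_z (i : Fin m) (z : V) (hq : D.q z = 0) (hC : ∀ l, D.C l z = if l = i then 1 else 0)
    (hA : ∀ j, j ≠ i → D.A j z = 0) :
    ∃ P : Pair D, ∀ u, P.T u - u = D.C i u • (z - D.f i) - D.B (D.pr u) z • D.e i := by
  refine ⟨⟨D.e, fun j => if j = i then z else D.f j, fun j => D.e_mem (Nat.lt_succ_self _), fun j => by simp,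
    ?_, ?_, ?_, ?_⟩, fun u => ?_⟩
  · intro j; split_ifs; exacts [hq, D.qf j]
  · intro a b
    split_ifs with ha hb hb
    · exact D.self z hq
    · rw [D.B_f, hA b hb]
    · rw [D.f_B, hA a ha, map_zero, mul_zero]
    · exact D.ff a b
  · intro a b _
    split_ifs with ha hb hb <;> subst_vars
    · simp [hC]
    · simp [hC, hb]
    · simp
    · simp [Ne.symm hb]
  · intro a b
    split_ifs with hb ha ha <;> subst_vars
    · simp [D.e_B, hC]
    · simp [D.e_B, hC, ha]
    · simp [D.ef]
    · simp [D.ef, ha]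
  · rw [Pair.T_sub]
    simp only [sub_self, smul_zero, Finset.sum_const_zero, zero_add]
    rw [Finset.sum_eq_single i (fun j _ hj => by simp [hj]) (by simp),
      Finset.sum_eq_single i (fun j _ hj => by simp [hj, D.B_f]) (by simp)]
    simp

/-- A flag fixed by all the unipotent isometries is standard up to a step `N`. -/
theorem fixed_below [FiniteDimensional K V] (N : ℕ)
    (hz : m ≤ N → ∃ z : V, D.q z = 0 ∧ (∀ l : Fin m, D.C l z = if (l : ℕ) + 1 = m then 1 else 0) ∧
      ∀ l : Fin m, D.A l z = 0 ↔ (l : ℕ) + 1 ≠ m)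
    {y : Flag D} (hy : ∀ P : Pair D, y.map P.equiv (D.pair_isom P) = y) :
    ∀ n ≤ N, ∀ hn : n < m + 1, y.sp ⟨n, hn⟩ = D.Fil n := by
  classical
  intro n
  induction n with
  | zero =>
    intro _ hn
    rw [show (⟨0, hn⟩ : Fin (m + 1)) = 0 from rfl, y.sp_zero]
    exact (Submodule.eq_bot_iff _ |>.2 fun v hv => D.Fil_zero hv).symm
  | succ n ih =>
    intro hnN hn
    set i : Fin m := ⟨n, by omega⟩
    have hprev : y.sp i.castSucc = D.Fil n := ih (by omega) (by omega)
    obtain ⟨u, hu, hu', huk⟩ := y.pv_spec i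
    set k := y.pv i
    have hk2 : k < 2 * m := y.pv_lt i
    have hq := (y.ts' _).1 u hu
    have hmove : ∀ P : Pair D, P.T u - u ∈ y.sp i.succ := fun P => by
      refine sub_mem ?_ hu
      have h : P.T u ∈ (y.map P.equiv (D.pair_isom P)).sp i.succ := ⟨u, hu, P.equiv_apply u⟩
      rwa [hy P] at h
    have hsmall : ∀ P : Pair D, ∀ l, P.T u - u ∉ D.Fil n → D.Ht (P.T u - u) l → k ≤ l := fun P l hn' hl =>
      y.pv_le (hmove P) (hprev ▸ hn') hl
    have hin : k ≤ n := by
      by_contra hnk
      push Not at hnk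
      have hCn : ∀ l : Fin m, (l : ℕ) < n → D.C l u = 0 := fun l hl => by
        have h := (y.ts' i.succ).orth hu
          (y.mono (Fin.castSucc_le_succ i) (hprev ▸ D.e_mem hl))
        rw [D.B_e, mul_eq_zero] at h
        exact h.resolve_left D.eps_ne
      have ht_e : ∀ c : K, c ≠ 0 → D.Ht (c • D.e i) n ∧ c • D.e i ∉ D.Fil n := fun c hc => by
        refine ⟨⟨?_, fun j hj => ?_⟩, fun h => hc (by simpa using h.2.1 i le_rfl)⟩
        · rw [show D.co n = D.A i from D.co_A i]; simpa using hc
        · rw [Frame.co]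
          split_ifs <;> simp [hc, Fin.ext_iff, i] <;> omega
      rcases Nat.lt_or_ge k m with hkm | hkm
      · obtain ⟨P, hP⟩ := D.exists_add_f (show i < ⟨k, hkm⟩ from hnk)
        replace hP := hP u
        have hAk : D.A ⟨k, hkm⟩ u ≠ 0 := by rw [← D.co_A]; exact huk.1
        rw [huk.C_all hkm, zero_smul, add_zero] at hP
        obtain ⟨h1, h2⟩ := ht_e _ (neg_ne_zero.2 hAk)
        rw [← hP] at h1 h2
        exact absurd (hsmall P n h2 h1) (not_le.2 hnk)
      obtain ⟨l, hkl⟩ : ∃ l : Fin m, k = 2 * m - 1 - (l : ℕ) :=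
        ⟨⟨2 * m - 1 - k, by omega⟩, by show k = 2 * m - 1 - (2 * m - 1 - k); omega⟩
      have hCl : D.C l u ≠ 0 := by rw [← D.co_C, ← hkl]; exact huk.1
      have hil : i ≤ l := not_lt.1 fun h => hCl (hCn l h)
      rcases lt_or_eq_of_le hil with hil | hil
      · have hne : l ≠ i := hil.ne'
        have hCi : D.C i u = 0 := huk.C_zero (by have : n < (l : ℕ) := hil; have := l.2; show k < 2 * m - 1 - n; omega)
        obtain ⟨P, hP⟩ := D.exists_add_e hil
        replace hP := hP u hCi
        obtain ⟨h1, h2⟩ := ht_e _ hCl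
        rw [← hP] at h1 h2
        exact absurd (hsmall P n h2 h1) (not_le.2 hnk)
      subst hil
      by_cases hlast : n + 1 < m
      · obtain ⟨P, hP⟩ := D.exists_add_f (show i < ⟨n + 1, hlast⟩ from Nat.lt_succ_self n)
        replace hP := hP u
        set l : Fin m := ⟨n + 1, hlast⟩
        have hil : i ≠ l := fun h => by simp [Fin.ext_iff, i, l] at h
        have hCl' : D.C l (P.T u - u) = D.C i u := by simp [hP, hil.symm]
        have hnot : P.T u - u ∉ D.Fil n := fun h => hCl (hCl'.symm.trans (h.2.2 l (by simp [l]; omega)))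
        have hh : D.Ht (P.T u - u) (2 * m - 1 - (l : ℕ)) := ⟨by rw [D.co_C, hCl']; exact hCl, fun j hj => by
          rcases Nat.lt_or_ge j (2 * m) with hj2 | hj2
          · have := l.2
            have e : D.co j = D.C ⟨2 * m - 1 - j, by omega⟩ := by
              rw [← D.co_C]; exact congrArg D.co (by show j = 2 * m - 1 - (2 * m - 1 - j); omega)
            rw [e, hP]
            simp [Fin.ext_iff, l] at hj ⊢
            intro h; omega
          · rw [D.co_of_le hj2]; rfl⟩
        have := hsmall P _ hnot hh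
        simp [i, l] at hkl this
        omega
      · have him : n + 1 = m := by omega
        by_cases hNm : m ≤ N
        swap
        · exact absurd hnN (by omega)
        obtain ⟨z, hzq, hzC, hzA⟩ := hz hNm
        have hzA' : D.A i z ≠ 0 := fun h => (hzA i).1 h him
        have hne : ∀ j : Fin m, j ≠ i → (j : ℕ) + 1 ≠ m := fun j hj h => hj (Fin.ext (by simp [i]; omega))
        obtain ⟨P, hP⟩ := D.exists_add_z i z hzq (fun l => (hzC l).trans
          (if_congr ⟨fun h => Fin.ext (by simp [i]; omega), fun h => by subst h; exact him⟩ rfl rfl))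
          fun j hj => (hzA j).2 (hne j hj)
        replace hP := hP u
        have hC0 : ∀ l, D.C l (P.T u - u) = 0 := fun l => by
          rw [hP]
          by_cases hl : l = i
          · subst hl; simp [hzC, show (i : ℕ) + 1 = m from him]
          · simp [hzC, hne l hl, Ne.symm hl]
        have hnot : P.T u - u ∉ D.Fil n := fun h => by
          have h1 := h.1 (by omega)
          rw [hP] at h1
          simp only [map_sub, map_smul, D.pr_f, D.pr_e, smul_zero, sub_zero, smul_eq_zero] at h1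
          have h2 := h.2.1 i le_rfl
          have hz0 := h1.resolve_left hCl
          have hBz : D.B (D.pr u) z = 0 := by
            rw [D.decomp z, hz0, add_zero, D.add_right, D.B_sum_right, D.B_sum_right]
            simp [D.smul_right, D.B_f, D.B_e]
          rw [hP] at h2
          simp [hBz] at h2
          exact hzA' (h2.resolve_left hCl)
        obtain ⟨l, hl⟩ := D.exists_ht ((y.ts' _).1 _ (hmove P)) fun h => hnot (h ▸ zero_mem _)
        have hlm : l < m := by
          by_contra hlm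
          have := hl.lt
          refine hl.1 ?_
          have e : D.co l = D.C ⟨2 * m - 1 - l, by omega⟩ := by
            rw [← D.co_C]; exact congrArg D.co (by show l = 2 * m - 1 - (2 * m - 1 - l); omega)
          rw [e]; exact hC0 _
        have := hsmall P l hnot hl
        omega
    have hkm : k < m := by omega
    have hue := D.eq_sum_e hq (huk.C_all hkm)
    have huF : u ∈ D.Fil (n + 1) := ⟨fun _ => by rw [hue]; simp [map_sum],
      fun j hj => huk.A_zero (by omega), fun j _ => huk.C_all hkm j⟩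
    show y.sp i.succ = _
    have hle : y.sp i.succ ≤ D.Fil (n + 1) := by
      rw [y.eq_sup hu hu', hprev]
      exact sup_le (D.Fil_mono (Nat.le_succ n)) ((Submodule.span_singleton_le_iff_mem u _).2 huF)
    refine Submodule.eq_of_le_of_finrank_eq hle ?_
    have hb := D.base.rank ⟨n + 1, hn⟩
    rw [D.base_sp] at hb
    rw [y.rank]
    simpa using hb.symm

/-- The standard flag is the only flag fixed by all the unipotent isometries. -/
theorem fixed_unique [FiniteDimensional K V]
    (z : V) (hzq : D.q z = 0)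
    (hzC : ∀ l : Fin m, D.C l z = if (l : ℕ) + 1 = m then 1 else 0)
    (hzA : ∀ l : Fin m, D.A l z = 0 ↔ (l : ℕ) + 1 ≠ m)
    {y : Flag D} (hy : ∀ P : Pair D, y.map P.equiv (D.pair_isom P) = y) : y = D.base :=
  Flag.ext (funext fun k => ((fixed_below (D := D) m (fun _ => ⟨z, hzq, hzC, hzA⟩) hy) k (by omega) k.2).trans
    (D.base_sp k).symm)

end Frame

end Cfsg.Agent.Classical.StPolar
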