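import Cfsg.Agent.Lib.Classical.SteinbergChambers
import Cfsg.Agent.Lib.Classical.SteinbergUnip

/-!
The Steinberg character of a group of isometries of a polar space with a frame with anisotropic middle.
-/

set_option autoImplicit false
set_option linter.unusedSectionVars false

namespace Cfsg.Agent.Classical.StPolar

open Module

universe u v w

variable {K : Type u} [Field K] {V : Type v} [AddCommGroup V] [Module K V] {m : ℕ}

/-- A group of isometries, up to scalars, containing the unipotent ones of both orientations. -/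
structure Model (D : Frame K V m) {H : Type*} [Group H] {G : Type w} [Group G]
    (ρ : H →* (V ≃ₗ[K] V)) (π : H →* G) (p : ℕ) : Prop where
  pos : 1 ≤ m
  surj : Function.Surjective π
  inj : Function.Injective ρ
  isom : ∀ h, D.Isom (ρ h)
  ker : ∀ h, π h = 1 → ∀ g, Commute h g
  lift : ∀ w, (∀ i, D.A i w = 0) → (∀ i, D.C i w = 0) →
    ∃ c : K, D.q (D.f ⟨0, pos⟩ + (w + c • D.e ⟨0, pos⟩)) = 0
  real : ∀ T : V ≃ₗ[K] V, D.Isom T → D.Lowers T.toLinearMap → ∃ h, ρ h = T
  real' : ∀ T : V ≃ₗ[K] V, D.flip.Isom T → D.flip.Lowers T.toLinearMap → ∃ h, ρ h = T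
  mid : ∀ h, (∃ k : ℕ, h ^ p ^ k = 1) → (∀ i : Fin m, ρ h (D.e i) - D.e i ∈ D.Fil i) →
    ∀ v, (∀ i, D.A i v = 0) → (∀ i, D.C i v = 0) → ρ h v - v ∈ D.Fil m
  both : ∃ z : Fin m → V, (∀ i, D.q (z i) = 0) ∧ (∀ i j, D.B (z i) (z j) = 0) ∧
    (∀ i l, D.C l (z i) = if l = i then 1 else 0) ∧ (∀ i l, l < i → D.A l (z i) = 0) ∧ ∀ i, D.A i (z i) ≠ 0

section Act

variable {D : Frame K V m} {H : Type*} [Group H] (ρ : H →* (V ≃ₗ[K] V)) (hρ : ∀ h, D.Isom (ρ h))

theorem Flag.map_map (y : Flag D) (a b : H) :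
    (y.map (ρ b) (hρ b)).map (ρ a) (hρ a) = y.map (ρ (a * b)) (hρ _) := Flag.ext (funext fun k => by
  show ((y.sp k).map (ρ b).toLinearMap).map (ρ a).toLinearMap = (y.sp k).map (ρ (a * b)).toLinearMap
  rw [map_mul, ← Submodule.map_comp]
  rfl)

theorem Flag.map_one' (y : Flag D) : y.map (ρ 1) (hρ 1) = y := Flag.ext (funext fun k => by
  show (y.sp k).map (ρ 1).toLinearMap = _
  rw [map_one]
  exact Submodule.map_id _)

/-- The action on flags. -/
def act : H →* Equiv.Perm (Flag D) where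
  toFun h :=
    { toFun := fun y => y.map (ρ h) (hρ h)
      invFun := fun y => y.map (ρ h⁻¹) (hρ h⁻¹)
      left_inv := fun y => by
        simp only [Flag.map_map ρ hρ, inv_mul_cancel]
        exact Flag.map_one' ρ hρ y
      right_inv := fun y => by
        simp only [Flag.map_map ρ hρ, mul_inv_cancel]
        exact Flag.map_one' ρ hρ y }
  map_one' := Equiv.ext fun y => Flag.map_one' ρ hρ y
  map_mul' a b := Equiv.ext fun y => (Flag.map_map ρ hρ y a b).symm

theorem act_apply (h : H) (y : Flag D) : act ρ hρ h y = y.map (ρ h) (hρ h) := rfl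

variable (D) in
/-- The unipotent subgroup. -/
def unip : Subgroup H where
  carrier := {h | D.Lowers (ρ h).toLinearMap ∧ D.Lowers (ρ h⁻¹).toLinearMap}
  one_mem' := by
    have h : D.Lowers (ρ 1).toLinearMap := fun k v _ => by rw [map_one]; simp
    exact ⟨h, by rwa [inv_one]⟩
  mul_mem' {a b} ha hb := ⟨by rw [map_mul]; exact ha.1.comp hb.1,
    by rw [mul_inv_rev, map_mul]; exact hb.2.comp ha.2⟩
  inv_mem' {a} ha := ⟨ha.2, by rw [inv_inv]; exact ha.1⟩

theorem mem_unip [Finite H] {h : H} : h ∈ unip D ρ ↔ D.Lowers (ρ h).toLinearMap := by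
  refine ⟨fun h' => h'.1, fun h' => ⟨h', ?_⟩⟩
  have hpow : ∀ n : ℕ, D.Lowers (ρ (h ^ n)).toLinearMap := fun n => by
    induction n with
    | zero => intro k v _; simp
    | succ n ih => rw [pow_succ, map_mul]; exact ih.comp h'
  have e : h⁻¹ = h ^ (orderOf h - 1) := inv_eq_of_mul_eq_one_right
    (by rw [← pow_succ', Nat.sub_add_cancel (orderOf_pos h), pow_orderOf_eq_one])
  rw [e]
  exact hpow _

/-- The unipotent isometry of a pair comes from the group. -/
theorem pair_of_real [Finite H] [FiniteDimensional K V]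
    (hreal : ∀ T : V ≃ₗ[K] V, D.Isom T → D.Lowers T.toLinearMap → ∃ h, ρ h = T) (P : Pair D) :
    ∃ h, ρ h = P.equiv ∧ h ∈ unip D ρ := by
  obtain ⟨h, hh⟩ := hreal _ (D.pair_isom P) (D.pair_lowers P)
  exact ⟨h, hh, (mem_unip ρ).2 (hh ▸ D.pair_lowers P)⟩

include hρ in
theorem to_top_of_real [Finite H] [FiniteDimensional K V]
    (hreal : ∀ T : V ≃ₗ[K] V, D.Isom T → D.Lowers T.toLinearMap → ∃ h, ρ h = T) {y : Flag D} (hy : y.IsTop) :
    ∃ h ∈ unip D ρ, act ρ hρ h D.opp = y := by
  obtain ⟨P, hP⟩ := D.exists_to_top hy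
  obtain ⟨h, hh, hu⟩ := pair_of_real ρ hreal P
  refine ⟨h, hu, ?_⟩
  rw [← hP, act_apply]
  exact Flag.ext (funext fun k => by show (D.opp.sp k).map _ = (D.opp.sp k).map _; rw [hh])

include hρ in
theorem mem_unip_of_stab [Finite H] [FiniteDimensional K V] {p : ℕ} [Fact p.Prime] [CharP K p]
    (hmid : ∀ h, (∃ k : ℕ, h ^ p ^ k = 1) → (∀ i : Fin m, ρ h (D.e i) - D.e i ∈ D.Fil i) →
      ∀ v, (∀ i, D.A i v = 0) → (∀ i, D.C i v = 0) → ρ h v - v ∈ D.Fil m)
    {h : H} (hh : act ρ hρ h D.base = D.base) (hp : ∃ k : ℕ, h ^ p ^ k = 1) :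
    h ∈ unip D ρ := by
  set T := ρ h
  have hpres : ∀ k, k ≤ m → ∀ v ∈ D.Fil k, T v ∈ D.Fil k := fun k hk v hv => by
    have e := congrFun (congrArg Flag.sp hh) ⟨k, Nat.lt_succ_of_le hk⟩
    rw [D.base_sp] at e
    rw [← e]
    exact ⟨v, by rw [D.base_sp]; exact hv, rfl⟩
  -- the diagonal entries
  have hdiag : ∀ i : Fin m, T (D.e i) - D.e i ∈ D.Fil i := by
    intro i
    obtain ⟨k, hk⟩ := hp
    set a := D.A i (T (D.e i))
    have hmem := hpres (i + 1) (Nat.succ_le_of_lt i.2) _ (D.e_mem (Nat.lt_succ_self _))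
    have hrest : T (D.e i) - a • D.e i ∈ D.Fil i := by
      refine ⟨fun _ => ?_, fun j hj => ?_, fun j _ => ?_⟩
      · rw [map_sub, map_smul, D.pr_e, smul_zero, sub_zero]; exact hmem.1 (Nat.succ_le_of_lt i.2)
      · rw [map_sub, map_smul, D.A_e]
        by_cases hij : i = j
        · subst hij; rw [if_pos rfl, smul_eq_mul, mul_one, sub_self]
        · rw [if_neg hij, smul_zero, sub_zero]
          exact hmem.2.1 j (by have : (i : ℕ) ≠ j := fun e => hij (Fin.ext e); omega)
      · rw [map_sub, map_smul, D.C_e, smul_zero, sub_zero]; exact hmem.2.2 j (by omega)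
    have hiter : ∀ n : ℕ, ρ (h ^ n) (D.e i) - a ^ n • D.e i ∈ D.Fil i := by
      intro n
      induction n with
      | zero => simp
      | succ n ih =>
        have h1 : T (ρ (h ^ n) (D.e i) - a ^ n • D.e i) ∈ D.Fil i := hpres _ (Nat.le_of_lt i.2) _ ih
        have h2 := add_mem h1 (Submodule.smul_mem _ (a ^ n) hrest)
        rw [map_sub, map_smul] at h2
        rw [pow_succ', map_mul, LinearEquiv.mul_apply]
        convert h2 using 1
        rw [smul_sub, smul_smul, pow_succ]
        abel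
    have h1 := (hiter (p ^ k)).2.1 i le_rfl
    rw [hk, map_one, LinearEquiv.coe_one, id_eq, map_sub, map_smul, D.A_e, if_pos rfl, smul_eq_mul, mul_one,
      sub_eq_zero] at h1
    have ha : a = 1 := by
      have h2 : (a - 1) ^ p ^ k = 0 := by rw [sub_pow_char_pow (p := p), ← h1, one_pow, sub_self]
      exact sub_eq_zero.1 (pow_eq_zero_iff (pow_ne_zero _ (Fact.out : p.Prime).ne_zero) |>.1 h2)
    rwa [ha, one_smul] at hrest
  have hE : ∀ k, k ≤ m → ∀ v ∈ D.Fil (k + 1), k < m → T v - v ∈ D.Fil k := by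
    intro k _ v hv hk
    rw [D.Fil_eq_sum hk hv, map_sum, ← Finset.sum_sub_distrib]
    refine Submodule.sum_mem _ fun i _ => ?_
    rw [map_smul, ← smul_sub]
    by_cases hi : (i : ℕ) < k + 1
    · exact Submodule.smul_mem _ _ (D.Fil_mono (by omega) (hdiag i))
    · rw [hv.2.1 i (by omega), zero_smul]; exact zero_mem _
  have hmid : ∀ v ∈ D.Fil (m + 1), T v - v ∈ D.Fil m := by
    intro v hv
    have hC : ∀ i, D.C i v = 0 := fun i => hv.2.2 i (by omega)
    have e : v = ∑ i, D.A i v • D.e i + D.pr v := by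
      conv_lhs => rw [D.decomp v, Finset.sum_eq_zero (f := fun i => D.C i v • D.f i)
        (fun i _ => by rw [hC i, zero_smul]), add_zero]
    rw [e, map_add, add_sub_add_comm, map_sum, ← Finset.sum_sub_distrib]
    refine add_mem (Submodule.sum_mem _ fun i _ => ?_)
      (hmid h hp hdiag _ (fun i => D.A_pr i v) fun i => D.C_pr i v)
    rw [map_smul, ← smul_sub]
    exact Submodule.smul_mem _ _ (D.Fil_mono (Nat.le_of_lt i.2) (hdiag i))
  -- the second half
  have hinv : ∀ j : Fin m, ∃ x ∈ D.Fil ((j : ℕ) + 1), T x = D.e j := by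
    intro j
    have hmap : (D.Fil ((j : ℕ) + 1)).map T.toLinearMap = D.Fil ((j : ℕ) + 1) :=
      Submodule.eq_of_le_of_finrank_eq (by
        rintro _ ⟨v, hv, rfl⟩; exact hpres _ (Nat.succ_le_of_lt j.2) v hv) (LinearEquiv.finrank_map_eq _ _)
    have := D.e_mem (i := j) (Nat.lt_succ_self _)
    rw [← hmap] at this
    exact this
  refine (mem_unip ρ).2 fun k v hv => ?_
  rcases Nat.lt_trichotomy k m with hk | rfl | hk
  · exact hE k hk.le v hv hk
  · exact hmid v hv
  refine ⟨fun h => by omega, fun i hi => by omega, fun j hj => ?_⟩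
  obtain ⟨x, hx, hTx⟩ := hinv j
  have h1 : D.B (T v) (D.e j) = D.B v x := by rw [← hTx, (hρ h).1]
  have h2 : T x - x ∈ D.Fil j := hE j (Nat.le_of_lt j.2) x hx j.2
  rw [hTx] at h2
  have h3 : D.B v (D.e j - x) = 0 := by
    rw [D.Fil_eq_sum (Nat.le_of_lt j.2) h2, D.B_sum_right]
    refine Finset.sum_eq_zero fun l _ => ?_
    rw [D.smul_right]
    by_cases hl : (l : ℕ) < j
    · rw [D.B_e, hv.2.2 l (by omega), mul_zero, mul_zero]
    · rw [h2.2.1 l (by omega), map_zero, zero_mul]
  rw [map_sub, LinearEquiv.coe_coe, D.C_def, D.C_def, h1, sub_eq_zero]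
  rw [D.B_sub_right, sub_eq_zero] at h3
  rw [h3]


end Act

namespace Model

variable {D : Frame K V m} {H : Type*} [Group H] [Finite H] {G : Type w} [Group G] {ρ : H →* (V ≃ₗ[K] V)}
  {π : H →* G} {p : ℕ} [Fact p.Prime] [CharP K p] [Finite V] [FiniteDimensional K V] (M : Model D ρ π p)
include M

/-- The unipotent isometry of a pair comes from the group. -/
theorem exists_pair (P : Pair D) : ∃ h, ρ h = P.equiv ∧ h ∈ unip D ρ := pair_of_real ρ M.real P

theorem exists_to_top {y : Flag D} (hy : y.IsTop) : ∃ h ∈ unip D ρ, act ρ M.isom h D.opp = y :=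
  to_top_of_real ρ M.isom M.real hy

theorem exists_swap : ∃ h, act ρ M.isom h D.base = D.opp := by
  obtain ⟨z, hzq, hzB, hzC, hzA, hzd⟩ := M.both
  have hli : LinearIndependent K z := Fintype.linearIndependent_iff.2 fun c hc i => by
    simpa [map_sum, hzC, Finset.sum_ite_eq, Finset.sum_ite_eq', eq_comm] using congrArg (D.C i) hc
  have h1 : (Flag.mk' z hli hzq hzB : Flag D).IsTop :=
    Flag.isTop_of _ (fun i => Flag.mem_mk' i) (fun i j hj => by rw [hzC, if_neg hj.ne])
      fun i => by simp [hzC]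
  have h2 : (Flag.mk' (D := D.flip) z hli hzq hzB).IsTop :=
    Flag.isTop_of _ (fun i => Flag.mem_mk' i) (fun i j hj => by rw [Frame.flip_C, hzA i j hj, mul_zero])
      fun i => by rw [Frame.flip_C]; exact mul_ne_zero (inv_ne_zero D.eps_ne) (hzd i)
  obtain ⟨a, -, ha⟩ := M.exists_to_top h1
  obtain ⟨P, hP⟩ := D.flip.exists_to_top h2
  obtain ⟨b, hb⟩ := M.real' _ (D.flip.pair_isom P) (D.flip.pair_lowers P)
  refine ⟨a⁻¹ * b, ?_⟩
  rw [map_mul, Equiv.Perm.mul_apply, map_inv, Equiv.Perm.inv_def, Equiv.symm_apply_eq, ha]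
  refine Flag.ext (funext fun k => ?_)
  have hk := congrFun (congrArg Flag.sp hP) k
  refine Eq.trans ?_ hk
  show (D.base.sp k).map (ρ b).toLinearMap = (D.flip.opp.sp k).map P.equiv.toLinearMap
  rw [hb]
  congr 1
  show Submodule.span K (D.e '' _) = Submodule.span K ((fun i => D.eps • D.e i) '' _)
  refine le_antisymm (Submodule.span_le.2 ?_) (Submodule.span_le.2 ?_)
  · rintro _ ⟨i, hi, rfl⟩
    have := Submodule.smul_mem _ D.eps⁻¹
      (Submodule.subset_span (R := K) (Set.mem_image_of_mem (fun i => D.eps • D.e i) hi))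
    simpa [smul_smul, D.eps_ne] using this
  · rintro _ ⟨i, hi, rfl⟩
    exact Submodule.smul_mem _ _ (Submodule.subset_span (Set.mem_image_of_mem _ hi))

theorem exists_last_vec : ∃ z : V, D.q z = 0 ∧ (∀ l : Fin m, D.C l z = if (l : ℕ) + 1 = m then 1 else 0) ∧
    ∀ l : Fin m, D.A l z = 0 ↔ (l : ℕ) + 1 ≠ m := by
  obtain ⟨z, hzq, -, hzC, hzA, hzd⟩ := M.both
  have hpos := M.pos
  set l₀ : Fin m := ⟨m - 1, by omega⟩
  refine ⟨z l₀, hzq _, fun l => ?_, fun l => ?_⟩
  · rw [hzC]; exact if_congr (by simp [l₀, Fin.ext_iff]; omega) rfl rfl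
  · by_cases hl : l = l₀
    · subst hl
      exact ⟨fun h => absurd h (hzd _), fun h => absurd (show m - 1 + 1 = m by omega) h⟩
    · have hlt : l < l₀ := lt_of_le_of_ne (show (l : ℕ) ≤ m - 1 by omega) hl
      have : (l : ℕ) < m - 1 := hlt
      exact ⟨fun _ => by omega, fun _ => hzA _ _ hlt⟩

theorem eq_base_of_fixed {y : Flag D} (hy : ∀ h ∈ unip D ρ, act ρ M.isom h y = y) : y = D.base := by
  obtain ⟨z, hz, hzC, hzA⟩ := M.exists_last_vec
  refine D.fixed_unique z hz hzC hzA fun P => ?_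
  obtain ⟨h, hh, hu⟩ := M.exists_pair P
  refine Eq.trans ?_ (hy h hu)
  exact Flag.ext (funext fun k => by show (y.sp k).map _ = (y.sp k).map _; rw [hh])

/-- Central elements act as scalars. -/
theorem central_scalar {h : H} (hh : ∀ g, Commute h g) : ∃ c : K, ∀ v, ρ h v = c • v := by
  classical
  haveI : Finite K := Finite.of_injective (fun c : K => c • D.e ⟨0, M.pos⟩) fun a b e => by
    simpa using congrArg (D.A ⟨0, M.pos⟩) e
  set i₀ : Fin m := ⟨0, M.pos⟩
  set T := ρ h with hT
  have hcomm : ∀ g y, act ρ M.isom g (act ρ M.isom h y) = act ρ M.isom h (act ρ M.isom g y) := fun g y => by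
    rw [← Equiv.Perm.mul_apply, ← Equiv.Perm.mul_apply, ← map_mul, ← map_mul, (hh g).eq]
  have hbase : act ρ M.isom h D.base = D.base := M.eq_base_of_fixed fun u hu => by
    rw [hcomm, act_apply ρ M.isom u D.base, D.base_fixed (M.isom u) hu.1]
  obtain ⟨n, hn⟩ := M.exists_swap
  have hopp : act ρ M.isom h D.opp = D.opp := by rw [← hn, ← hcomm, hbase]
  have he0 : ∃ a : K, T (D.e i₀) = a • D.e i₀ := by
    have hm : T (D.e i₀) ∈ D.base.sp i₀.succ := by
      rw [← congrFun (congrArg Flag.sp hbase) i₀.succ]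
      exact ⟨_, Flag.mem_mk' i₀, rfl⟩
    rw [D.base_sp] at hm
    refine ⟨D.A i₀ (T (D.e i₀)), ?_⟩
    conv_lhs => rw [D.Fil_eq_sum (by simp [i₀]; exact M.pos) hm]
    refine Finset.sum_eq_single i₀ (fun l _ hl => ?_) (by simp)
    rw [hm.2.1 l (by have : (l : ℕ) ≠ 0 := fun e => hl (Fin.ext e); simp [i₀]; omega), zero_smul]
  obtain ⟨a, ha⟩ := he0
  have hline : ∀ v, D.q v = 0 → D.C i₀ v = 1 → ∃ c : K, T v = c • v := by
    intro v hq hv
    have hsur : Function.Surjective D.σ := Finite.surjective_of_injective D.σ.injective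
    choose c hc using fun j : Fin m => hsur (-D.A j v * D.eps⁻¹)
    set g : Fin m → V := fun j => if j = i₀ then v else D.f j + c j • D.e i₀ with hg
    have hgC : ∀ i j, j ≤ i → D.C j (g i) = if j = i then 1 else 0 := by
      intro i j hji
      simp only [hg]
      split_ifs with h1 h2 h2
      · subst h1 h2; exact hv
      · exfalso; subst h1
        exact h2 (Fin.ext (Nat.le_zero.1 hji))
      · subst h2; simp
      · simp [Ne.symm h2]
    have hgq : ∀ i, D.q (g i) = 0 := fun i => by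
      simp only [hg]; split_ifs with h1
      · exact hq
      · exact D.q_orth_add (D.qf i) (D.q_smul _ _ (D.qe i₀)) (by simp [D.smul_right, D.fe, h1])
    have hvv : D.B v v = 0 := D.self v hq
    have hvg : ∀ j, j ≠ i₀ → D.B v (D.f j + c j • D.e i₀) = 0 := fun j _ => by
      rw [D.add_right, D.smul_right, D.B_f, D.B_e, hv, mul_one, hc, mul_assoc, inv_mul_cancel₀ D.eps_ne,
        mul_one, add_neg_cancel]
    have hgB : ∀ i j, D.B (g i) (g j) = 0 := fun i j => by
      simp only [hg]; split_ifs with h1 h2 h2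
      · exact hvv
      · exact hvg j h2
      · exact D.refl (hvg i h1)
      · simp [D.add_left, D.add_right, D.smul_left, D.smul_right, D.ff, D.fe, D.ef, D.ee, h1, h2, Ne.symm h2]
    obtain ⟨e', he', hd, hef⟩ := D.exists_dual g hgC
    let P : Pair D := ⟨e', g, he', hd, hgq, hgB, hgC, hef⟩
    obtain ⟨u, hu, -⟩ := M.exists_pair P
    have hmem : T v ∈ (act ρ M.isom h (act ρ M.isom u D.opp)).sp i₀.succ := by
      refine ⟨v, ⟨D.f i₀, Flag.mem_mk' i₀, ?_⟩, rfl⟩
      rw [LinearEquiv.coe_coe, hu, Pair.equiv_apply, Pair.T_f]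
      simp [P, hg]
    rw [← hcomm, hopp] at hmem
    obtain ⟨x, hx, hxv⟩ := hmem
    have hx' : x ∈ Submodule.span K {D.f i₀} := by
      refine Submodule.span_mono ?_ hx
      rintro _ ⟨l, hl, rfl⟩
      have : (l : ℕ) = 0 := by simpa [i₀] using hl
      rw [show l = i₀ from Fin.ext this]; rfl
    obtain ⟨d, rfl⟩ := Submodule.mem_span_singleton.1 hx'
    refine ⟨d, ?_⟩
    rw [← hxv, map_smul, LinearEquiv.coe_coe, hu, Pair.equiv_apply, Pair.T_f]
    simp [P, hg]
  obtain ⟨b, hb⟩ := hline (D.f i₀) (D.qf i₀) (by simp)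
  have hBe : ∀ x, D.B x (D.e i₀) = 0 → D.B (T x) (D.e i₀) = 0 := fun x hx => by
    have ha0 : a ≠ 0 := fun e => by
      rw [e, zero_smul] at ha
      simpa using congrArg (D.A i₀) (T.map_eq_zero_iff.1 ha)
    have := (M.isom h).1 x (D.e i₀)
    rw [← hT, ha, D.smul_right, hx, mul_eq_zero] at this
    exact this.resolve_left ((map_ne_zero D.σ).2 ha0)
  have hadd : ∀ x, D.B x (D.e i₀) = 0 → D.q (D.f i₀ + x) = 0 → T x = b • x := by
    intro x hx hq
    have hCx : D.C i₀ x = 0 := by rw [D.C_def, hx, mul_zero]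
    obtain ⟨c, hc⟩ := hline _ hq (by simp [map_add, hCx])
    have h2 := congrArg (D.C i₀) hc
    have hTx : D.C i₀ (T x) = 0 := by rw [D.C_def, hBe x hx, mul_zero]
    simp [map_add, hb, hCx, hTx] at h2
    rw [map_add, hb, ← h2, smul_add] at hc
    exact add_left_cancel hc
  have hf : ∀ j, T (D.f j) = b • D.f j := fun j => by
    by_cases hj : j = i₀
    · rw [hj, hb]
    · exact hadd _ (by simp [D.fe, hj]) (D.q_orth_add (D.qf _) (D.qf j) (D.ff _ j))
  have he : ∀ j, j ≠ i₀ → T (D.e j) = b • D.e j := fun j hj =>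
    hadd _ (D.ee _ _) (D.q_orth_add (D.qf _) (D.qe j) (by simp [D.fe, Ne.symm hj]))
  have hw : ∀ w, (∀ i, D.A i w = 0) → (∀ i, D.C i w = 0) →
      ∃ c : K, T w = b • w + (c * (b - a)) • D.e i₀ := by
    intro w hA hC
    obtain ⟨c, hc⟩ := M.lift w hA hC
    have h1 := hadd (w + c • D.e i₀) (by simp [D.add_left, D.smul_left, D.ee, D.B_e, hC]) hc
    refine ⟨c, ?_⟩
    rw [map_add, map_smul, ha] at h1
    rw [mul_sub, sub_smul, ← smul_smul c a, mul_comm c b, ← smul_smul b c, ← add_sub_assoc, ← smul_add, ← h1,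
      add_sub_cancel_right]
  have hsum : ∀ v, D.A i₀ (T v) = b * D.A i₀ v + (a - b) * D.A i₀ v + D.A i₀ (T (D.pr v)) := by
    intro v
    conv_lhs => rw [D.decomp v]
    simp only [map_add, map_sum, map_smul, hf, D.A_f, smul_zero, mul_zero, Finset.sum_const_zero, add_zero,
      smul_eq_mul]
    rw [Finset.sum_eq_single i₀ (fun j _ hj => by simp [he j hj, hj]) (by simp), ha]
    simp
    ring
  obtain ⟨z, hzq, -, hzC, -, hzd⟩ := M.both
  have hx0 : D.B (z i₀ - D.f i₀) (D.e i₀) = 0 := by simp [D.B_sub_left, D.B_e, hzC, D.fe]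
  have hzTx := congrArg (D.A i₀) (hadd (z i₀ - D.f i₀) hx0 (by rw [add_sub_cancel]; exact hzq i₀))
  have hprw : D.A i₀ (T (D.pr (z i₀ - D.f i₀))) = 0 := by
    have : D.B (T (D.pr (z i₀ - D.f i₀))) (T (D.f i₀)) = 0 := by rw [hT, (M.isom h).1]; exact D.A_pr _ _
    rw [hb, D.smul_right, mul_eq_zero] at this
    exact this.resolve_left ((map_ne_zero D.σ).2 fun e => by
      rw [e, zero_smul] at hb
      simpa using congrArg (D.C i₀) (T.map_eq_zero_iff.1 hb))
  rw [hsum, hprw, add_zero, map_smul, smul_eq_mul, add_eq_left, mul_eq_zero] at hzTx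
  have hab : a = b := sub_eq_zero.1 (hzTx.resolve_right (by simpa using hzd i₀))
  refine ⟨b, fun v => ?_⟩
  obtain ⟨c, hc⟩ := hw (D.pr v) (fun i => D.A_pr i v) fun i => D.C_pr i v
  rw [hab, sub_self, mul_zero, zero_smul, add_zero] at hc
  conv_lhs => rw [D.decomp v]
  conv_rhs => rw [D.decomp v]
  simp only [map_add, map_sum, map_smul, smul_add, Finset.smul_sum, hc, hf]
  congr 2
  · refine Finset.sum_congr rfl fun j _ => ?_
    by_cases hj : j = i₀
    · rw [hj, ha, hab, smul_comm]
    · rw [he j hj, smul_comm]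
  · exact Finset.sum_congr rfl fun j _ => smul_comm _ _ _

theorem ker_le : π.ker ≤ (act ρ M.isom).ker := fun h hh => by
  obtain ⟨c, hc⟩ := M.central_scalar (M.ker h hh)
  refine Equiv.ext fun y => Flag.ext (funext fun k => ?_)
  show (y.sp k).map (ρ h).toLinearMap = y.sp k
  refine Submodule.eq_of_le_of_finrank_eq ?_ (LinearEquiv.finrank_map_eq _ _)
  rintro _ ⟨v, hv, rfl⟩
  rw [LinearEquiv.coe_coe, hc]
  exact Submodule.smul_mem _ _ hv

/-- The apartment flags. -/
def aptVec (D : Frame K V m) (a : Equiv.Perm (Fin m) × (Fin m → Bool)) (j : Fin m) : V :=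
  if a.2 j then D.f (a.1 j) else D.e (a.1 j)

omit M in
theorem aptVec_li (a : Equiv.Perm (Fin m) × (Fin m → Bool)) : LinearIndependent K (aptVec D a) :=
  Fintype.linearIndependent_iff.2 fun c hc i => by
    have key : ∀ j, (if a.2 i then D.C (a.1 i) else D.A (a.1 i)) (aptVec D a j) = if j = i then 1 else 0 := by
      intro j
      by_cases hj : j = i
      · subst hj; by_cases h : a.2 j <;> simp [aptVec, h]
      · by_cases h : a.2 i <;> by_cases h' : a.2 j <;> simp [aptVec, h, h', hj, a.1.injective.eq_iff]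
    have h := congrArg (fun w => (if a.2 i then D.C (a.1 i) else D.A (a.1 i)) w) hc
    simp only [map_sum, map_smul, map_zero, key, smul_eq_mul, mul_ite, mul_one, mul_zero,
      Finset.sum_ite_eq', Finset.mem_univ, if_true] at h
    exact h

omit M in
theorem aptVec_q (a : Equiv.Perm (Fin m) × (Fin m → Bool)) (j : Fin m) : D.q (aptVec D a j) = 0 := by
  by_cases h : a.2 j <;> simp [aptVec, h, D.qe, D.qf]

omit M in
theorem aptVec_B (a : Equiv.Perm (Fin m) × (Fin m → Bool)) (i j : Fin m) :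
    D.B (aptVec D a i) (aptVec D a j) = 0 := by
  by_cases hij : i = j
  · subst hij; by_cases h : a.2 i <;> simp [aptVec, h, D.ee, D.ff]
  · by_cases h : a.2 i <;> by_cases h' : a.2 j <;>
      simp [aptVec, h, h', D.ee, D.ff, D.ef, D.fe, a.1.injective.eq_iff, hij]

/-- A flag of the apartment. -/
def apt (D : Frame K V m) (a : Equiv.Perm (Fin m) × (Fin m → Bool)) : Flag D :=
  Flag.mk' (aptVec D a) (aptVec_li a) (aptVec_q a) (aptVec_B a)

omit M in
theorem apt_top {a : Equiv.Perm (Fin m) × (Fin m → Bool)} (ha : (apt D a).IsTop) : a = (1, fun _ => true) := by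
  have key : ∀ j : Fin m, a.2 j = true ∧ (a.1 j : ℕ) = j := by
    intro j
    obtain ⟨v, hv, hv', hk⟩ := (apt D a).pv_spec j
    rw [ha j] at hk
    have h : v ∈ Submodule.span K (aptVec D a '' {l | (l : ℕ) < (j.succ : ℕ)}) := hv
    have hne : D.C j v ≠ 0 := by rw [← Frame.co_C]; exact hk.1
    by_contra hcon
    refine hne ?_
    clear hne
    -- the coordinate vanishes on every vector of the span
    have hvan : ∀ l : Fin m, (l : ℕ) < (j.succ : ℕ) → D.C j (aptVec D a l) = 0 ∨ (l < j ∧ a.2 l = true ∧ a.1 l = j) := by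
      intro l hl
      by_cases h2 : a.2 l = true ∧ a.1 l = j
      · rcases (show (l : ℕ) ≤ j by simpa using hl).lt_or_eq with h' | h'
        · exact Or.inr ⟨h', h2⟩
        · obtain rfl : l = j := Fin.ext h'
          exact absurd ⟨h2.1, congrArg Fin.val h2.2⟩ hcon
      · left
        by_cases hs : a.2 l <;> simp [aptVec, hs]
        exact fun e => h2 ⟨hs, e⟩
    by_cases hex : ∃ l : Fin m, l < j ∧ a.2 l = true ∧ a.1 l = j
    · obtain ⟨l, hl, hls, hla⟩ := hex
      -- then a lower flag member already has the top height of the step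
      obtain ⟨w, hw, hw', hwk⟩ := (apt D a).pv_spec l
      rw [ha l] at hwk
      have hmem : aptVec D a l ∈ (apt D a).sp l.succ := Flag.mem_mk' l
      have hnew : aptVec D a l ∉ (apt D a).sp l.castSucc := by
        intro hin
        have hlin := (aptVec_li (D := D) a).notMem_span_image (s := {x | (x : ℕ) < (l.castSucc : ℕ)}) (x := l) (by simp)
        exact hlin hin
      have hh : D.Ht (aptVec D a l) (2 * m - 1 - (j : ℕ)) := by
        refine ⟨?_, fun i hi => ?_⟩
        · rw [Frame.co_C]; simp [aptVec, hls, hla]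
        · rw [Frame.co]
          have := j.2
          split_ifs with h1 h2 <;> simp [aptVec, hls, hla, Fin.ext_iff]
          omega
      have := (apt D a).pv_le hmem hnew hh
      rw [ha l] at this
      have : (l : ℕ) < j := hl
      have := j.2
      omega
    · push Not at hex
      clear hv hv' hk
      induction h using Submodule.span_induction with
      | mem x hx =>
        obtain ⟨l, hl, rfl⟩ := hx
        rcases hvan l hl with h' | ⟨h1, h2, h3⟩
        · exact h'
        · exact absurd h3 (hex l h1 h2)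
      | zero => simp
      | add x y _ _ hx hy => rw [map_add, hx, hy, add_zero]
      | smul c x _ hx => rw [map_smul, hx, smul_zero]
  exact Prod.ext (Equiv.ext fun j => Fin.ext (key j).2) (funext fun j => (key j).1)

/-- The sign of an apartment flag. -/
noncomputable def sgn (a : Equiv.Perm (Fin m) × (Fin m → Bool)) : ℂ :=
  ((Equiv.Perm.sign a.1 : ℤ) : ℂ) * ∏ j, if a.2 j then -1 else 1

omit M in
theorem apt_sum (hm : 1 ≤ m) (i : Fin m) (x : Flag D) [DecidablePred fun a => Flag.Pan i x (apt D a)] :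
    ∑ a ∈ Finset.univ.filter (fun a => Flag.Pan i x (apt D a)), sgn a = 0 := by
  classical
  have hpan : ∀ a b : Equiv.Perm (Fin m) × (Fin m → Bool),
      (∀ k : Fin (m + 1), k ≠ i.succ → aptVec D a '' {l | (l : ℕ) < k} = aptVec D b '' {l | (l : ℕ) < k}) →
      Flag.Pan i x (apt D a) → Flag.Pan i x (apt D b) := fun a b hab ha k hk => by
    rw [ha k hk]
    show Submodule.span K _ = Submodule.span K _
    rw [hab k hk]
  by_cases hi : (i : ℕ) + 1 < m
  · set i' : Fin m := ⟨i + 1, hi⟩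
    have hne : i ≠ i' := fun e => by simp [Fin.ext_iff, i'] at e
    let g : Equiv.Perm (Fin m) × (Fin m → Bool) → Equiv.Perm (Fin m) × (Fin m → Bool) :=
      fun a => (a.1 * Equiv.swap i i', a.2 ∘ Equiv.swap i i')
    have hg : ∀ a, g (g a) = a := fun a => by
      refine Prod.ext (by simp [g, mul_assoc]) (funext fun j => by simp [g])
    refine Finset.sum_involution (fun a _ => g a) (fun a _ => ?_) (fun a _ _ e => ?_) (fun a ha => ?_)
      fun a _ => hg a
    · simp only [sgn, g, map_mul, Equiv.Perm.sign_swap hne, Function.comp_apply]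
      rw [Equiv.prod_comp (Equiv.swap i i') (fun j => if a.2 j then (-1 : ℂ) else 1)]
      push_cast
      ring
    · have h : a.1 * Equiv.swap i i' = a.1 := congrArg Prod.fst e
      rw [mul_eq_left] at h
      exact hne (Equiv.swap_eq_one_iff.1 h)
    · rw [Finset.mem_filter] at ha ⊢
      refine ⟨Finset.mem_univ _, hpan a (g a) (fun k hk => ?_) ha.2⟩
      have hv : aptVec D (g a) = aptVec D a ∘ Equiv.swap i i' := rfl
      rw [hv, Set.image_comp]
      congr 1
      ext l
      simp only [Set.mem_image_equiv, Equiv.symm_swap, Set.mem_setOf_eq]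
      have hk' : (k : ℕ) ≠ i + 1 := fun e => hk (Fin.ext (by simp [e]))
      rcases eq_or_ne l i with rfl | h1
      · simp [i']; omega
      rcases eq_or_ne l i' with rfl | h2
      · simp [i']; omega
      · rw [Equiv.swap_apply_of_ne_of_ne h1 h2]
  · let g : Equiv.Perm (Fin m) × (Fin m → Bool) → Equiv.Perm (Fin m) × (Fin m → Bool) :=
      fun a => (a.1, Function.update a.2 i (!a.2 i))
    refine Finset.sum_involution (fun a _ => g a) (fun a _ => ?_) (fun a _ _ e => ?_) (fun a ha => ?_)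
      fun a _ => ?_
    · simp only [sgn, g]
      rw [← mul_add, ← Finset.mul_prod_erase _ _ (Finset.mem_univ i),
        ← Finset.mul_prod_erase _ (fun j => if Function.update a.2 i (!a.2 i) j then (-1 : ℂ) else 1)
          (Finset.mem_univ i),
        Finset.prod_congr rfl (fun j hj => by
          rw [Function.update_of_ne (Finset.ne_of_mem_erase hj)] : ∀ j ∈ Finset.univ.erase i,
            (if Function.update a.2 i (!a.2 i) j then (-1 : ℂ) else 1) = if a.2 j then -1 else 1),
        Function.update_self]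
      cases a.2 i <;> simp
    · have h := congrFun (congrArg Prod.snd e) i
      simp [g] at h
    · rw [Finset.mem_filter] at ha ⊢
      refine ⟨Finset.mem_univ _, hpan a (g a) (fun k hk => Set.image_congr fun l hl => ?_) ha.2⟩
      have hk' : (k : ℕ) ≠ i + 1 := fun e => hk (Fin.ext (by simp [e]))
      have hl' : (l : ℕ) < k := hl
      have := k.2
      have hne : l ≠ i := fun e => by subst e; omega
      simp [aptVec, g, Function.update_of_ne hne]
    · simp [g]

end Model


/-- The data of the construction with the kernel acting trivially, before fixing the extreme chambers. -/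
structure Core (D : Frame K V m) {H : Type*} [Group H] {G : Type w} [Group G]
    (ρ : H →* (V ≃ₗ[K] V)) (π : H →* G) (p : ℕ) : Prop where
  pos : 1 ≤ m
  surj : Function.Surjective π
  inj : Function.Injective ρ
  isom : ∀ h, D.Isom (ρ h)
  hker : π.ker ≤ (act ρ isom).ker
  real : ∀ T : V ≃ₗ[K] V, D.Isom T → D.Lowers T.toLinearMap → ∃ h, ρ h = T
  mid : ∀ h, (∃ k : ℕ, h ^ p ^ k = 1) → (∀ i : Fin m, ρ h (D.e i) - D.e i ∈ D.Fil i) →
    ∀ v, (∀ i, D.A i v = 0) → (∀ i, D.C i v = 0) → ρ h v - v ∈ D.Fil m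

namespace Core

variable {D : Frame K V m} {H : Type*} [Group H] [Finite H] {G : Type w} [Group G] {ρ : H →* (V ≃ₗ[K] V)}
  {π : H →* G} {p : ℕ} [Fact p.Prime] [CharP K p] [Finite V] [FiniteDimensional K V] (M : Core D ρ π p)
include M

/-- The action of the quotient. -/
noncomputable def phi : G →* Equiv.Perm (Flag D) := π.liftOfSurjective M.surj ⟨act ρ M.isom, M.hker⟩

theorem phi_apply (h : H) : M.phi (π h) = act ρ M.isom h :=
  MonoidHom.liftOfRightInverse_comp_apply _ _ _ _ _

theorem main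
    (hstab : ∀ h, (∀ u ∈ unip D ρ, act ρ M.isom u (act ρ M.isom h D.base) = act ρ M.isom h D.base) →
      (∃ k : ℕ, h ^ p ^ k = 1) → h ∈ unip D ρ)
    (horbit : ∃ h, ∀ f ∈ StChambers.space (fun (i : Fin m) (y z : Flag D) => Flag.Pan i y z),
      f D.opp ≠ 0 → f (act ρ M.isom h D.base) ≠ 0) :
    ∃ χ : G → ℂ, IsIrrCharacter G χ ∧ ∀ P : Sylow p G, χ 1 = Nat.card P ∧
    ∀ x : G, x ∈ P → x ≠ 1 → χ x = 0 := by
  classical
  haveI : Finite G := Finite.of_surjective π M.surj
  haveI : Fintype (Flag D) := Fintype.ofFinite _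
  haveI : Nontrivial V := ⟨⟨D.e ⟨0, M.pos⟩, 0, fun h => one_ne_zero (α := K) (by
    rw [← D.ef ⟨0, M.pos⟩ ⟨0, M.pos⟩ |>.trans (if_pos rfl), h, D.B_zero_left])⟩⟩
  set U := (unip D ρ).map π with hU
  have hUmem : ∀ u ∈ U, ∃ h ∈ unip D ρ, π h = u := fun u hu => hu
  have hfix : ∀ u ∈ U, M.phi u D.base = D.base := fun u hu => by
    obtain ⟨h, hh, rfl⟩ := hUmem u hu
    rw [M.phi_apply, act_apply]
    exact D.base_fixed (M.isom h) hh.1
  have htop : ∀ y : Flag D, (∀ u ∈ U, M.phi u D.opp ≠ y) → ¬ y.IsTop := fun y hy ht => by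
    obtain ⟨h, hh, e⟩ := to_top_of_real ρ M.isom M.real ht
    exact hy (π h) ⟨h, hh, rfl⟩ (by rw [M.phi_apply, e])
  refine StChambers.Data.main (φ := M.phi) (R := fun i y z => Flag.Pan i y z) (c₀ := D.base) (y₀ := D.opp)
    (U := U) (lvl := fun y => y.lvl) ⟨?_, ?_, ?_, ?_, hfix, ?_, ?_, ?_⟩
  · intro g i x y hxy k hk
    obtain ⟨h, rfl⟩ := M.surj g
    rw [M.phi_apply]
    show (x.sp k).map _ = (y.sp k).map _
    rw [hxy k hk]
  · intro y hy
    obtain ⟨i, hi⟩ := y.exists_up (htop y hy)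
    exact ⟨i, fun _ _ => rfl, hi⟩
  · intro u hu hu0
    obtain ⟨h, hh, rfl⟩ := hUmem u hu
    rw [M.phi_apply, act_apply] at hu0
    have : h = 1 := M.inj (by
      rw [map_one]; exact LinearEquiv.ext fun v => D.free (M.isom h) hh.1 hu0 v)
    rw [this, map_one]
  · refine IsPGroup.map (fun h => ?_) π
    obtain ⟨k, hk⟩ := ((mem_unip ρ).1 h.2).pow_eq_one p
    refine ⟨k, Subtype.ext (M.inj ?_)⟩
    rw [SubmonoidClass.coe_pow, map_pow, OneMemClass.coe_one, map_one]
    refine LinearEquiv.toLinearMap_injective ?_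
    rw [LinearEquiv.coe_toLinearMap_one, ← Module.End.one_eq_id, ← hk]
    clear hk
    induction p ^ k with
    | zero => simp [Module.End.one_eq_id]
    | succ n ih => rw [pow_succ, pow_succ, ← ih]; rfl
  · intro g hg hgp
    obtain ⟨h₀, rfl⟩ := M.surj g
    obtain ⟨k, hk⟩ := hgp
    have hp : p.Prime := Fact.out
    obtain ⟨e, b, hb, hob⟩ := Nat.exists_eq_pow_mul_and_not_dvd (orderOf_pos h₀).ne' p hp.ne_one
    obtain ⟨c, hc⟩ := Nat.exists_mul_mod_eq_one_of_coprime (k := p ^ (k + 1))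
      ((hp.coprime_iff_not_dvd.2 hb).symm.pow_right (k + 1)) (Nat.one_lt_pow (Nat.succ_ne_zero k) hp.one_lt)
    set h := h₀ ^ (b * c)
    have hπ : π h = π h₀ := by
      have hd : orderOf (π h₀) ∣ p ^ (k + 1) :=
        (orderOf_dvd_of_pow_eq_one hk).trans (pow_dvd_pow p (Nat.le_succ k))
      rw [map_pow, ← pow_mod_orderOf, ← Nat.mod_mod_of_dvd _ hd, hc.2]
      rcases Nat.eq_or_lt_of_le (orderOf_pos (π h₀)) with h1 | h1
      · rw [← h1, Nat.mod_one, pow_zero, orderOf_eq_one_iff.1 h1.symm]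
      · rw [Nat.mod_eq_of_lt h1, pow_one]
    have hhp : h ^ p ^ e = 1 := by
      rw [← pow_mul, show b * c * p ^ e = p ^ e * b * c by ring, pow_mul, ← hob, pow_orderOf_eq_one, one_pow]
    refine ⟨h, hstab h (fun u hu => ?_) ⟨e, hhp⟩, hπ⟩
    rw [← M.phi_apply, ← M.phi_apply, hπ]
    exact hg (π u) ⟨u, hu, rfl⟩
  · obtain ⟨h, hh⟩ := horbit
    exact ⟨π h, fun f hf h0 => by rw [M.phi_apply]; exact hh f hf h0⟩
  · refine ⟨fun y => ∑ a : Equiv.Perm (Fin m) × (Fin m → Bool), if Model.apt D a = y then Model.sgn a else (0 : ℂ), ?_, ?_, ?_⟩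
    · have h0 : Model.apt D (1, fun _ => true) = D.opp := by
        refine Flag.ext (funext fun k => ?_)
        show Submodule.span K _ = Submodule.span K _
        congr 1
      show (∑ a : Equiv.Perm (Fin m) × (Fin m → Bool), if Model.apt D a = D.opp then Model.sgn a else (0 : ℂ)) ≠ 0
      rw [Finset.sum_eq_single (1, fun _ => true)]
      · rw [if_pos h0]; simp [Model.sgn]
      · intro a _ hne
        refine if_neg fun ha => hne (Model.apt_top (D := D) ?_)
        rw [ha]
        exact Flag.isTop_of _ (fun i => Flag.mem_mk' i) (fun i j hj => by simp [hj.ne'])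
          fun i => by simp
      · intro hn; exact absurd (Finset.mem_univ _) hn
    · intro u hu hu1
      refine Finset.sum_eq_zero fun a _ => if_neg fun ha => ?_
      obtain ⟨h, hh, rfl⟩ := hUmem u hu
      rw [M.phi_apply, act_apply] at ha
      have ha0 := Model.apt_top (ha ▸ D.map_opp_isTop (M.isom h) hh.1)
      subst ha0
      have h0 : D.opp.map (ρ h) (M.isom h) = D.opp := by
        rw [← ha]
        refine Flag.ext (funext fun k => ?_)
        show Submodule.span K _ = Submodule.span K _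
        congr 1
      have : h = 1 := M.inj (by rw [map_one]; exact LinearEquiv.ext fun v => D.free (M.isom h) hh.1 h0 v)
      exact hu1 (by rw [this, map_one])
    · intro i x s hs
      rw [Finset.sum_comm]
      simp only [Finset.sum_ite_eq]
      rw [← Finset.sum_filter]
      refine Eq.trans (Finset.sum_congr ?_ fun _ _ => rfl) (Model.apt_sum (D := D) M.pos i x)
      ext a
      simp [hs]

end Core

namespace Model

variable {D : Frame K V m} {H : Type*} [Group H] [Finite H] {G : Type w} [Group G] {ρ : H →* (V ≃ₗ[K] V)}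
  {π : H →* G} {p : ℕ} [Fact p.Prime] [CharP K p] [Finite V] [FiniteDimensional K V] (M : Model D ρ π p)
include M

theorem mem_of_stab {h : H} (hh : act ρ M.isom h D.base = D.base) (hp : ∃ k : ℕ, h ^ p ^ k = 1) :
    h ∈ unip D ρ :=
  mem_unip_of_stab ρ M.isom M.mid hh hp

theorem main : ∃ χ : G → ℂ, IsIrrCharacter G χ ∧ ∀ P : Sylow p G, χ 1 = Nat.card P ∧
    ∀ x : G, x ∈ P → x ≠ 1 → χ x = 0 := by
  refine Core.main (D := D) (ρ := ρ) (π := π) ⟨M.pos, M.surj, M.inj, M.isom, M.ker_le, M.real, M.mid⟩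
    (fun h hfix hp => M.mem_of_stab (M.eq_base_of_fixed hfix) hp) ?_
  obtain ⟨h, hh⟩ := M.exists_swap
  exact ⟨h, fun f _ h0 => by rwa [hh]⟩

end Model

end Cfsg.Agent.Classical.StPolar
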