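import Cfsg.Agent.Lib.Classical.SteinbergPolar
import Cfsg.Agent.Lib.Classical.Symp

/-!
The symplectic groups as models of the polar Steinberg construction.
-/

set_option autoImplicit false
set_option linter.unusedSectionVars false

namespace Cfsg.Agent.Classical.StSymp

open Cfsg Matrix StPolar

variable (m : ℕ) (F : Type*) [Field F]

/-- The symplectic frame. -/
noncomputable def frame : Frame F (Fin m ⊕ Fin m → F) m where
  σ := RingHom.id F
  B := sympForm m F
  q _ := 0
  t _ := 0
  eps := -1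
  add_left := sympForm_add_left
  smul_left := sympForm_smul_left
  swap u v := by simpa using sympForm_swap v u
  eps_norm := by simp
  t_zero := rfl
  q_add _ _ := by simp
  q_smul _ _ _ := rfl
  self v _ := sympForm_self v
  e i := Pi.single (Sum.inr i) 1
  f i := Pi.single (Sum.inl i) 1
  ef i j := by rw [sympForm_single_inl]; simp [Pi.single_apply, eq_comm]
  ee i j := by rw [sympForm_single_inr]; simp
  ff i j := by rw [sympForm_single_inl]; simp
  qe _ := rfl
  qf _ := rfl
  aniso w h1 h2 _ := by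
    funext x
    rcases x with i | i
    · simpa [sympForm_single_inr] using h2 i
    · simpa [sympForm_single_inl] using h1 i

variable {m F}

/-- The action on the space. -/
noncomputable def rho : Matrix.symplecticGroup (Fin m) F →* ((Fin m ⊕ Fin m → F) ≃ₗ[F] (Fin m ⊕ Fin m → F)) :=
  MonoidHom.mk' (fun A => LinearEquiv.ofLinear
    (Matrix.mulVecLin (A : Matrix (Fin m ⊕ Fin m) (Fin m ⊕ Fin m) F))
    (Matrix.mulVecLin ((A⁻¹ : Matrix.symplecticGroup (Fin m) F) : Matrix (Fin m ⊕ Fin m) (Fin m ⊕ Fin m) F))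
    (LinearMap.ext fun v => by simp [Matrix.mulVec_mulVec, ← Submonoid.coe_mul])
    (LinearMap.ext fun v => by simp [Matrix.mulVec_mulVec, ← Submonoid.coe_mul]))
    fun A B => LinearEquiv.ext fun v => by
      show (A * B : Matrix.symplecticGroup (Fin m) F).1 *ᵥ v = A.1 *ᵥ (B.1 *ᵥ v)
      rw [Submonoid.coe_mul, Matrix.mulVec_mulVec]

theorem rho_apply (A : Matrix.symplecticGroup (Fin m) F) (v : Fin m ⊕ Fin m → F) :
    rho A v = (A : Matrix (Fin m ⊕ Fin m) (Fin m ⊕ Fin m) F) *ᵥ v := rfl

theorem isom_iff {D : Frame F (Fin m ⊕ Fin m → F) m} (hB : D.B = sympForm m F)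
    (T : (Fin m ⊕ Fin m → F) ≃ₗ[F] (Fin m ⊕ Fin m → F)) (hT : D.Isom T) : ∃ A, rho A = T := by
  refine ⟨⟨LinearMap.toMatrix' T.toLinearMap, mem_symplecticGroup_iff_form.2 fun u v => ?_⟩,
    LinearEquiv.ext fun v => ?_⟩
  · rw [LinearMap.toMatrix'_mulVec, LinearMap.toMatrix'_mulVec, ← hB]
    exact hT.1 u v
  · rw [rho_apply]; exact LinearMap.toMatrix'_mulVec _ v

variable [Finite F]

theorem exists_char (p : ℕ) [Fact p.Prime] [CharP F p] (hm : 1 ≤ m) :
    ∃ χ : PSp m F → ℂ, IsIrrCharacter (PSp m F) χ ∧ ∀ P : Sylow p (PSp m F), χ 1 = Nat.card P ∧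
      ∀ x : PSp m F, x ∈ P → x ≠ 1 → χ x = 0 := by
  haveI : Finite (Matrix.symplecticGroup (Fin m) F) :=
    Finite.of_injective (fun A : Matrix.symplecticGroup (Fin m) F =>
      (A : Matrix (Fin m ⊕ Fin m) (Fin m ⊕ Fin m) F)) Subtype.val_injective
  refine Model.main (D := frame m F) (ρ := rho) (π := QuotientGroup.mk' _) (p := p)
    ⟨hm, QuotientGroup.mk'_surjective _, fun A B h => ?_, fun A => ⟨sympForm_map A, fun _ => rfl⟩,
      fun A hA g => ?_, fun w hA hC => ?_, fun T hT _ => isom_iff rfl T hT,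
      fun T hT _ => isom_iff rfl T hT, fun A _ _ v hA hC => ?_, ?_⟩
  · exact Subtype.ext (Matrix.ext_iff_mulVec.2 fun v => LinearEquiv.congr_fun h v)
  · exact (Subgroup.mem_center_iff.1 ((QuotientGroup.eq_one_iff A).1 hA) g).symm
  · exact ⟨0, rfl⟩
  · have hv : v = 0 := (frame m F).aniso v (fun i => hA i) (fun i => by
      rw [Frame.B_e, hC, mul_zero]) rfl
    simp [hv]
  · refine ⟨fun i => (frame m F).f i + (frame m F).e i, fun _ => rfl, fun i j => ?_, fun i l => ?_,
      fun i l hl => ?_, fun i => ?_⟩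
    · simp only [(frame m F).add_left, (frame m F).add_right, (frame m F).ee, (frame m F).ff, (frame m F).ef,
        (frame m F).fe]
      have he : (frame m F).eps = -1 := rfl
      rw [he]; by_cases h : i = j <;> simp [h]
    · simp [map_add, eq_comm]
    · simp [map_add, hl.ne']
    · simp [map_add]

end Cfsg.Agent.Classical.StSymp
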