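import Cfsg.Agent.Lib.Classical.UnitCenter
import Cfsg.Agent.Lib.Classical.UnitElements

/-!
The standard Hermitian space: hyperbolic pairs and the Heisenberg group of an isotropic vector.
-/

set_option autoImplicit false
set_option linter.unusedSectionVars false

namespace Cfsg.Agent.Classical.PSUAut

open Matrix

variable {F : Type*} [Field F] [Fintype F] {q n : ℕ}

local notation "V" => (Fin n → F)
local notation "Mn" => Matrix (Fin n) (Fin n) F

section
variable (hF : Fintype.card F = q ^ 2)

local notation "h" => hermForm n F q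
local notation "cj" => qFrob hF

include hF

theorem cj_cj (a : F) : cj (cj a) = a := qFrob_qFrob hF a

theorem cj_pow (a : F) : a ^ q = cj a := (qFrob_apply hF a).symm

theorem h_add_right (u v v' : V) : h u (v + v') = h u v + h u v' := by
  simp [hermForm, cj_pow hF, mul_add, Finset.sum_add_distrib]

theorem h_smul_right (c : F) (u v : V) : h u (c • v) = cj c * h u v := by
  simp only [hermForm, cj_pow hF, Pi.smul_apply, smul_eq_mul, map_mul, Finset.mul_sum]
  exact Finset.sum_congr rfl fun i _ => by ring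

omit hF in
theorem h_smul_left (c : F) (u v : V) : h (c • u) v = c * h u v := hermForm_smul_left n c u v

omit hF in
theorem h_add_left (u u' v : V) : h (u + u') v = h u v + h u' v := hermForm_add_left n u u' v

omit hF in
theorem h_zero_left (v : V) : h 0 v = 0 := by simp [hermForm]

theorem h_zero_right (u : V) : h u 0 = 0 := by
  simpa using h_smul_right hF (0 : F) u 0

omit hF in
theorem h_neg_left (u v : V) : h (-u) v = -h u v := by simp [hermForm]

theorem h_neg_right (u v : V) : h u (-v) = -h u v := by simp [hermForm, cj_pow hF]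

omit hF in
theorem h_sub_left (u u' v : V) : h (u - u') v = h u v - h u' v := by
  rw [sub_eq_add_neg, h_add_left, h_neg_left, sub_eq_add_neg]

theorem h_sub_right (u v v' : V) : h u (v - v') = h u v - h u v' := by
  rw [sub_eq_add_neg, h_add_right hF, h_neg_right hF, sub_eq_add_neg]

theorem cj_h (u v : V) : cj (h u v) = h v u := by
  rw [qFrob_apply]; exact hermForm_symm hF n u v

theorem h_comm_zero {u v : V} (huv : h u v = 0) : h v u = 0 := by
  rw [← cj_h hF, huv, map_zero]

theorem eq_zero_of_h {u : V} (hu : ∀ v, h u v = 0) : u = 0 :=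
  funext fun i => by
    have := hu (Pi.single i 1)
    rwa [hermForm_single_right hF] at this

theorem exists_h_eq {u : V} (hu : u ≠ 0) (a : F) : ∃ v, h u v = a := by
  obtain ⟨v, hv⟩ := not_forall.1 (mt (eq_zero_of_h hF) hu)
  exact ⟨cj (a / h u v) • v, by rw [h_smul_right hF, cj_cj, div_mul_cancel₀ _ hv]⟩

theorem exists_trace_eq {a : F} (ha : cj a = a) : ∃ c, c + cj c = a := by
  obtain ⟨t, ht⟩ : ∃ t, t + cj t ≠ 0 := by
    by_contra hcon
    push Not at hcon
    have h1 := hcon 1
    rw [map_one] at h1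
    exact qFrob_ne_id hF (RingHom.ext fun x => by
      have h2 := hcon x
      rw [RingHom.id_apply]
      linear_combination h2 - x * h1)
  refine ⟨a * t / (t + cj t), ?_⟩
  rw [map_div₀, map_mul, map_add, cj_cj, ha, add_comm (cj t) t, ← add_div, ← mul_add, mul_div_assoc,
    div_self ht, mul_one]

theorem exists_trace_zero : ∃ t : F, t ≠ 0 ∧ t + cj t = 0 := by
  obtain ⟨x, hx⟩ : ∃ x, x - cj x ≠ 0 := by
    by_contra hcon
    push Not at hcon
    exact qFrob_ne_id hF (RingHom.ext fun x => (sub_eq_zero.1 (hcon x)).symm)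
  exact ⟨x - cj x, hx, by rw [map_sub, cj_cj]; ring⟩

theorem exists_norm {a : F} (ha : cj a = a) : ∃ s, s * cj s = a := by
  by_cases h0 : a = 0
  · exact ⟨0, by simp [h0]⟩
  have hc := natCard_norm_eq hF (t := a) (by rw [← qFrob_apply hF]; exact ha) h0
  obtain ⟨⟨s, hs⟩⟩ : Nonempty {x : F // x ^ (q + 1) = a} :=
    (Nat.card_pos_iff.1 (by rw [hc]; exact Nat.succ_pos q)).1
  exact ⟨s, by rw [qFrob_apply, ← pow_succ']; exact hs⟩

theorem cj_h_self (u : V) : cj (h u u) = h u u := cj_h hF u u

theorem exists_isotropic (hn : 2 ≤ n) : ∃ v : V, v ≠ 0 ∧ h v v = 0 := by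
  classical
  obtain ⟨a, ha⟩ := exists_norm hF (a := (-1 : F)) (by simp)
  set i : Fin n := ⟨0, by omega⟩
  set j : Fin n := ⟨1, by omega⟩
  have hij : i ≠ j := by simp [i, j, Fin.ext_iff]
  refine ⟨Pi.single i 1 + a • Pi.single j 1, fun h0 => by simpa [hij] using congrFun h0 i, ?_⟩
  simp only [h_add_left, h_add_right hF, h_smul_left, h_smul_right hF, hermForm_single_right hF]
  simp [hij, Ne.symm hij]
  linear_combination ha

/-- A hyperbolic pair. -/
structure IsPair (e f : V) : Prop where
  ee : h e e = 0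
  ff : h f f = 0
  ef : h e f = 1

theorem IsPair.fe {e f : V} (P : IsPair (q := q) e f) : h f e = 1 := by
  rw [← cj_h hF, P.ef, map_one]

theorem IsPair.swap {e f : V} (P : IsPair (q := q) e f) : IsPair (q := q) f e :=
  ⟨P.ff, P.ee, P.fe hF⟩

omit hF in
theorem IsPair.ne_zero {e f : V} (P : IsPair (q := q) e f) : e ≠ 0 := fun h0 => by
  simpa [h0, h_zero_left] using P.ef

theorem exists_pair {v : V} (hv : v ≠ 0) (hvv : h v v = 0) : ∃ w, IsPair (q := q) v w := by
  obtain ⟨w, hw⟩ := exists_h_eq hF hv 1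
  obtain ⟨a, ha⟩ := exists_trace_eq hF (a := -h w w) (by rw [map_neg, cj_h_self hF])
  refine ⟨w + a • v, hvv, ?_, ?_⟩
  · rw [h_add_left, h_add_right hF, h_add_right hF, h_smul_right hF, h_smul_right hF, h_smul_left,
      h_smul_left, hvv, hw, ← cj_h hF v w, hw, map_one]
    linear_combination ha
  · rw [h_add_right hF, h_smul_right hF, hw, hvv, mul_zero, add_zero]

/-- The part of a vector orthogonal to a hyperbolic pair. -/
def wPart (e f : V) (x : V) : V := x - (hermForm n F q x f • e + hermForm n F q x e • f)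

omit hF in
theorem wPart_eq (e f x : V) :
    x = hermForm n F q x f • e + hermForm n F q x e • f + wPart (q := q) e f x := by
  rw [wPart]; abel

theorem wPart_orth {e f : V} (P : IsPair (q := q) e f) (x : V) :
    h (wPart (q := q) e f x) e = 0 ∧ h (wPart (q := q) e f x) f = 0 := by
  constructor <;>
    rw [wPart, h_sub_left, h_add_left, h_smul_left, h_smul_left]
  · rw [P.ee, P.fe hF]; ring
  · rw [P.ef, P.ff]; ring

/-! ### The Heisenberg group -/

/-- `x ↦ x + h(x,e) w - h(x,w) e + c h(x,e) e`. -/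
def eMat (q : ℕ) (e w : V) (c : F) : Mn :=
  1 + (vecMulVec w (fun i => e i ^ q) - vecMulVec e (fun i => w i ^ q) + c • vecMulVec e (fun i => e i ^ q))

omit hF in
theorem eMat_mulVec (e w : V) (c : F) (x : V) :
    eMat q e w c *ᵥ x = x + (h x e • w - h x w • e + (c * h x e) • e) := by
  have hd : ∀ v : V, (fun i => v i ^ q) ⬝ᵥ x = h x v := fun v => by
    simp [hermForm, dotProduct, mul_comm]
  funext i
  simp [eMat, Matrix.add_mulVec, Matrix.sub_mulVec, Matrix.one_mulVec, Matrix.smul_mulVec,
    Matrix.vecMulVec_mulVec, hd]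
  ring

/-- The parameters of an element of the Heisenberg group of `e`. -/
structure EOK (e w : V) (c : F) : Prop where
  ee : h e e = 0
  we : h w e = 0
  cc : c + c ^ q + h w w = 0

theorem EOK.ew {e w : V} {c : F} (H : EOK (q := q) e w c) : h e w = 0 := h_comm_zero hF H.we

theorem EOK.zero {e : V} (he : h e e = 0) : EOK (q := q) e 0 0 :=
  ⟨he, h_zero_left e, by rw [h_zero_left, zero_pow (by have := two_le_q hF; omega)]; ring⟩

theorem EOK.exists_c {e w : V} (he : h e e = 0) (hw : h w e = 0) : ∃ c, EOK (q := q) e w c := by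
  obtain ⟨c, hc⟩ := exists_trace_eq hF (a := -h w w) (by rw [map_neg, cj_h_self hF])
  exact ⟨c, he, hw, by rw [cj_pow hF]; linear_combination hc⟩

theorem EOK.mul {e w w' : V} {c c' : F} (H : EOK (q := q) e w c) (H' : EOK (q := q) e w' c') :
    EOK (q := q) e (w + w') (c + c' - h w' w) := by
  refine ⟨H.ee, by rw [h_add_left, H.we, H'.we, add_zero], ?_⟩
  have h1 := H.cc
  have h2 := H'.cc
  rw [cj_pow hF] at h1 h2 ⊢
  rw [h_add_left, h_add_right hF, h_add_right hF, map_sub, map_add, cj_h hF]
  linear_combination h1 + h2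

theorem eMat_mul {e w w' : V} {c c' : F} (H : EOK (q := q) e w c) (H' : EOK (q := q) e w' c') :
    eMat q e w c * eMat q e w' c' = eMat q e (w + w') (c + c' - h w' w) := by
  refine Matrix.ext_iff_mulVec.2 fun x => ?_
  rw [← Matrix.mulVec_mulVec]
  simp only [eMat_mulVec, h_add_left, h_sub_left, h_smul_left, h_add_right hF, H.ee, H'.we, H.ew hF,
    smul_add, smul_sub]
  module

theorem eMat_zero (e : V) : eMat q e 0 0 = 1 := by
  refine Matrix.ext_iff_mulVec.2 fun x => ?_
  rw [eMat_mulVec, Matrix.one_mulVec, h_zero_right hF]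
  simp

theorem eMat_form {e w : V} {c : F} (H : EOK (q := q) e w c) (x y : V) :
    h (eMat q e w c *ᵥ x) (eMat q e w c *ᵥ y) = h x y := by
  have h1 := H.cc
  rw [cj_pow hF] at h1
  simp only [eMat_mulVec, h_add_left, h_sub_left, h_smul_left, h_add_right hF, h_sub_right hF,
    h_smul_right hF, map_mul, H.ee, H.we, H.ew hF, cj_h hF, mul_zero, zero_mul, sub_zero, add_zero]
  linear_combination (h x e * h e y) * h1

theorem eMat_pow {e w : V} {c : F} (H : EOK (q := q) e w c) (k : ℕ) :
    ∃ c', EOK (q := q) e ((k : F) • w) c' ∧ eMat q e w c ^ k = eMat q e ((k : F) • w) c' := by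
  induction k with
  | zero => exact ⟨0, by simpa using EOK.zero hF H.ee, by simp [eMat_zero hF e]⟩
  | succ k ih =>
    obtain ⟨c', H', he⟩ := ih
    refine ⟨c' + c - h w ((k : F) • w), ?_, ?_⟩
    · simpa [add_smul] using EOK.mul hF H' H
    · rw [pow_succ, he, eMat_mul hF H' H, Nat.cast_succ, add_smul, one_smul]

theorem eMat_pow_char {p : ℕ} [Fact p.Prime] [CharP F p] {e w : V} {c : F} (H : EOK (q := q) e w c) :
    eMat q e w c ^ (p * p) = 1 := by
  obtain ⟨c', H', he⟩ := eMat_pow hF H p
  rw [pow_mul, he, CharP.cast_eq_zero, zero_smul]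
  have H0 : ∀ {d : F}, EOK (q := q) e 0 d → ∀ k : ℕ, eMat q e 0 d ^ k = eMat q e 0 ((k : F) * d) := by
    intro d Hd k
    induction k with
    | zero => simp [eMat_zero hF e]
    | succ k ih =>
      have Hk : EOK (q := q) e 0 ((k : F) * d) := by
        refine ⟨Hd.ee, Hd.we, ?_⟩
        have h1 := Hd.cc
        rw [cj_pow hF, h_zero_left] at h1
        rw [cj_pow hF, h_zero_left, map_mul, map_natCast]
        linear_combination (k : F) * h1
      rw [pow_succ, ih, eMat_mul hF Hk Hd, add_zero, h_zero_left, sub_zero, Nat.cast_succ, add_mul, one_mul]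
  rw [CharP.cast_eq_zero, zero_smul] at H'
  rw [H0 H' p, CharP.cast_eq_zero, zero_mul, eMat_zero hF e]

theorem eMat_det {e w : V} {c : F} (H : EOK (q := q) e w c) : (eMat q e w c).det = 1 := by
  obtain ⟨p, hp⟩ := CharP.exists F
  haveI : Fact p.Prime := ⟨CharP.char_is_prime F p⟩
  have h1 := congrArg Matrix.det (eMat_pow_char hF (p := p) H)
  rw [Matrix.det_pow, Matrix.det_one, pow_mul] at h1
  exact frobenius_inj F p (by
    rw [map_one]
    refine frobenius_inj F p ?_
    simpa [frobenius_def, pow_mul] using h1)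

/-- An element of the Heisenberg group. -/
def eSU {e w : V} {c : F} (H : EOK (q := q) e w c) : SU n F q :=
  ⟨⟨eMat q e w c, eMat_det hF H⟩, fun x y => eMat_form hF H x y⟩

theorem suVal_eSU {e w : V} {c : F} (H : EOK (q := q) e w c) : suVal (eSU hF H) = eMat q e w c := rfl

theorem eSU_mul {e w w' : V} {c c' : F} (H : EOK (q := q) e w c) (H' : EOK (q := q) e w' c') :
    eSU hF H * eSU hF H' = eSU hF (H.mul hF H') := suVal_ext (eMat_mul hF H H')

theorem eSU_congr {e w w' : V} {c c' : F} (H : EOK (q := q) e w c) (H' : EOK (q := q) e w' c') (hw : w = w')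
    (hc : c = c') : eSU hF H = eSU hF H' := by
  subst hw; subst hc; rfl

theorem eSU_zero {e : V} (he : h e e = 0) : eSU hF (EOK.zero hF he) = 1 :=
  suVal_ext (eMat_zero hF e)

omit hF in
theorem h_map {g : Mn} (hg : ∀ x y, h (g *ᵥ x) (g *ᵥ y) = h x y) (x y : V) :
    h (g *ᵥ x) (g *ᵥ y) = h x y := hg x y

omit hF in
theorem EOK.map {g : Mn} (hg : ∀ x y, h (g *ᵥ x) (g *ᵥ y) = h x y) {e w : V} {c : F}
    (H : EOK (q := q) e w c) : EOK (q := q) (g *ᵥ e) (g *ᵥ w) c :=
  ⟨by rw [hg]; exact H.ee, by rw [hg]; exact H.we, by rw [hg]; exact H.cc⟩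

omit hF in
theorem mul_eMat {g : Mn} (hg : ∀ x y, h (g *ᵥ x) (g *ᵥ y) = h x y) (e w : V) (c : F) :
    g * eMat q e w c = eMat q (g *ᵥ e) (g *ᵥ w) c * g := by
  refine Matrix.ext_iff_mulVec.2 fun x => ?_
  rw [← Matrix.mulVec_mulVec, ← Matrix.mulVec_mulVec]
  simp only [eMat_mulVec, Matrix.mulVec_add, Matrix.mulVec_sub, Matrix.mulVec_smul, hg]

/-- A transvection of an isotropic vector. -/
theorem eOK_transvection {v : V} {c : F} (hv : h v v = 0) (hc : c + cj c = 0) :
    EOK (q := q) v 0 c :=
  ⟨hv, h_zero_left v, by rw [cj_pow hF, h_zero_left, add_zero]; exact hc⟩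

end

end Cfsg.Agent.Classical.PSUAut
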