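import Cfsg.Agent.Lib.Classical.SteinbergMid
import Cfsg.Agent.Lib.Classical.UnitHeisenberg

/-!
The special unitary groups as models of the polar Steinberg construction.
-/

set_option autoImplicit false
set_option linter.unusedSectionVars false

namespace Cfsg.Agent.Classical.StUnit

open Cfsg Matrix StPolar Cfsg.Agent.Classical.PSUAut

variable {F : Type*} [Field F] [Fintype F] {q n : ℕ}

/-- The even coordinate of a pair. -/
def i0 (i : Fin (n / 2)) : Fin n := ⟨2 * (i : ℕ), by omega⟩
/-- The odd coordinate of a pair. -/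
def i1 (i : Fin (n / 2)) : Fin n := ⟨2 * (i : ℕ) + 1, by omega⟩

theorem i0_eq {i j : Fin (n / 2)} : i0 i = i0 j ↔ i = j := by simp [i0, Fin.ext_iff]
theorem i1_eq {i j : Fin (n / 2)} : i1 i = i1 j ↔ i = j := by simp [i1, Fin.ext_iff]
theorem i0_ne_i1 (i j : Fin (n / 2)) : i0 i ≠ i1 j := fun h => by simp [i0, i1, Fin.ext_iff] at h; omega

/-- An isotropic vector on one pair of coordinates. -/
def pairVec (c : F) (i : Fin (n / 2)) : Fin n → F := Pi.single (i0 i) 1 + Pi.single (i1 i) c

theorem h_pairVec (hF : Fintype.card F = q ^ 2) (u : Fin n → F) (c : F) (i : Fin (n / 2)) :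
    hermForm n F q u (pairVec c i) = u (i0 i) + qFrob hF c * u (i1 i) := by
  rw [pairVec, h_add_right hF, hermForm_single_right hF, show Pi.single (i1 i) c = c • Pi.single (i1 i) (1 : F) by
    rw [← Pi.single_smul, smul_eq_mul, mul_one], h_smul_right hF, hermForm_single_right hF]

theorem h_pair_pair (hF : Fintype.card F = q ^ 2) (c d : F) (i j : Fin (n / 2)) :
    hermForm n F q (pairVec c i) (pairVec d j) = if i = j then 1 + qFrob hF d * c else 0 := by
  rw [h_pairVec hF]
  by_cases hij : i = j
  · subst hij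
    simp [pairVec, i0_ne_i1, (i0_ne_i1 i i).symm]
  · simp [pairVec, hij, i0_ne_i1, (i0_ne_i1 _ _).symm, i0_eq, i1_eq, Ne.symm hij]

theorem exists_two_norm (hF : Fintype.card F = q ^ 2) :
    ∃ c d : F, c * qFrob hF c = -1 ∧ d * qFrob hF d = -1 ∧ c ≠ d := by
  have h : 2 ≤ Nat.card {c : F // c ^ (q + 1) = -1} := by
    rw [natCard_norm_eq hF (by rw [← qFrob_apply hF, map_neg, map_one]) (neg_ne_zero.2 one_ne_zero)]
    have := two_le_q hF; omega
  classical
  rw [Nat.card_eq_fintype_card] at h
  obtain ⟨c, d, hcd⟩ := Fintype.exists_pair_of_one_lt_card (α := {c : F // c ^ (q + 1) = -1}) h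
  exact ⟨c.1, d.1, by rw [qFrob_apply, ← pow_succ']; exact c.2, by rw [qFrob_apply, ← pow_succ']; exact d.2,
    fun e => hcd (Subtype.ext e)⟩

/-- The data of a hyperbolic basis on each pair of coordinates. -/
structure PairData (hF : Fintype.card F = q ^ 2) where
  /-- the parameter of the first isotropic line -/
  c : F
  /-- the parameter of the second isotropic line -/
  d : F
  /-- the scale -/
  s : F
  hc : c * qFrob hF c = -1
  hd : d * qFrob hF d = -1
  hne : c ≠ d
  hs : qFrob hF s * (1 + qFrob hF d * c) = 1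

theorem exists_pairData (hF : Fintype.card F = q ^ 2) : Nonempty (PairData hF) := by
  obtain ⟨c, d, hc, hd, hne⟩ := exists_two_norm hF
  have h1 : 1 + qFrob hF d * c ≠ 0 := fun h => hne (by linear_combination (-d) * h + c * hd)
  refine ⟨⟨c, d, qFrob hF (1 / (1 + qFrob hF d * c)), hc, hd, hne, ?_⟩⟩
  rw [qFrob_qFrob, one_div_mul_cancel h1]

variable {hF : Fintype.card F = q ^ 2}

/-- The unitary frame. -/
noncomputable def frame (n : ℕ) (P : PairData hF) : Frame F (Fin n → F) (n / 2) where
  σ := qFrob hF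
  B := hermForm n F q
  q v := hermForm n F q v v
  t x := x + qFrob hF x
  eps := 1
  add_left u v w := h_add_left u v w
  smul_left := h_smul_left
  swap u v := by rw [one_mul, cj_h hF]
  eps_norm := by simp
  t_zero := by simp
  q_add u v := by
    show _ = _ + (hermForm n F q u v + qFrob hF (hermForm n F q u v))
    rw [cj_h hF, h_add_left, h_add_right hF, h_add_right hF]; ring
  q_smul c v hv := by rw [h_smul_left, h_smul_right hF, hv, mul_zero, mul_zero]
  self v hv := hv
  e i := pairVec P.c i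
  f i := P.s • pairVec P.d i
  ef i j := by
    rw [h_smul_right hF, h_pair_pair hF]
    split_ifs <;> simp [P.hs]
  ee i j := by
    rw [h_pair_pair hF]
    split_ifs
    · linear_combination P.hc
    · rfl
  ff i j := by
    rw [h_smul_left, h_smul_right hF, h_pair_pair hF]
    split_ifs
    · rw [show 1 + qFrob hF P.d * P.d = 0 by linear_combination P.hd]; simp
    · simp
  qe i := by rw [h_pair_pair hF, if_pos rfl]; linear_combination P.hc
  qf i := by
    rw [h_smul_left, h_smul_right hF, h_pair_pair hF, if_pos rfl,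
      show 1 + qFrob hF P.d * P.d = 0 by linear_combination P.hd]
    simp
  aniso w h1 h2 h3 := by
    classical
    have hs0 : qFrob hF P.s ≠ 0 := left_ne_zero_of_mul (by rw [P.hs]; exact one_ne_zero)
    have hz : ∀ i : Fin (n / 2), w (i0 i) = 0 ∧ w (i1 i) = 0 := fun i => by
      have e1 := h1 i; have e2 := h2 i
      rw [h_smul_right hF, h_pairVec hF, mul_eq_zero, or_iff_right hs0] at e1
      rw [h_pairVec hF] at e2
      have e3 : w (i1 i) = 0 := by
        have : (qFrob hF P.c - qFrob hF P.d) * w (i1 i) = 0 := by linear_combination e2 - e1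
        exact (mul_eq_zero.1 this).resolve_left (sub_ne_zero.2 fun e => P.hne ((qFrob hF).injective e))
      rw [e3, mul_zero, add_zero] at e2
      exact ⟨e2, e3⟩
    have hlow : ∀ l : Fin n, (l : ℕ) < 2 * (n / 2) → w l = 0 := fun l hl => by
      rcases Nat.even_or_odd' (l : ℕ) with ⟨k, hk | hk⟩
      · exact (show l = i0 ⟨k, by omega⟩ from Fin.ext hk) ▸ (hz _).1
      · exact (show l = i1 ⟨k, by omega⟩ from Fin.ext hk) ▸ (hz _).2
    funext l
    by_cases hl : (l : ℕ) < 2 * (n / 2)
    · exact hlow l hl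
    · have hsum : hermForm n F q w w = w l * w l ^ q := by
        rw [hermForm]
        refine Finset.sum_eq_single l (fun j _ hj => ?_) (by simp)
        rw [hlow j (by have := j.2; have := l.2; have : (j : ℕ) ≠ l := fun e => hj (Fin.ext e); omega), zero_mul]
      rw [hsum, ← pow_succ'] at h3
      exact eq_zero_of_pow_eq_zero h3

/-- The action on the space. -/
noncomputable def rho (n : ℕ) (F : Type*) [Field F] (q : ℕ) : SU n F q →* ((Fin n → F) ≃ₗ[F] (Fin n → F)) :=
  MonoidHom.mk' (fun s => LinearEquiv.ofLinear (Matrix.mulVecLin (slToMat n F s.1))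
    (Matrix.mulVecLin (slToMat n F (s⁻¹).1))
    (LinearMap.ext fun v => by
      simp only [LinearMap.comp_apply, Matrix.mulVecLin_apply, Matrix.mulVec_mulVec]
      rw [← map_mul, ← Subgroup.coe_mul, mul_inv_cancel, Subgroup.coe_one, map_one, Matrix.one_mulVec]
      rfl)
    (LinearMap.ext fun v => by
      simp only [LinearMap.comp_apply, Matrix.mulVecLin_apply, Matrix.mulVec_mulVec]
      rw [← map_mul, ← Subgroup.coe_mul, inv_mul_cancel, Subgroup.coe_one, map_one, Matrix.one_mulVec]
      rfl))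
    fun a b => LinearEquiv.ext fun v => by
      show suVal (a * b) *ᵥ v = suVal a *ᵥ (suVal b *ᵥ v)
      rw [suVal_mul, Matrix.mulVec_mulVec]

theorem rho_apply (s : SU n F q) (v : Fin n → F) : rho n F q s v = suVal s *ᵥ v := rfl

theorem det_one_of_pow {ι : Type} [Fintype ι] [DecidableEq ι] (p : ℕ) [Fact p.Prime] [CharP F p]
    {M : Matrix ι ι F} {k : ℕ} (h : M ^ p ^ k = 1) : M.det = 1 := by
  have h1 : M.det ^ p ^ k = 1 := by rw [← Matrix.det_pow, h, Matrix.det_one]
  exact sub_eq_zero.1 (eq_zero_of_pow_eq_zero (show (M.det - 1) ^ p ^ k = 0 by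
    rw [sub_pow_char_pow, h1, one_pow, sub_self]))

theorem exists_char (hF : Fintype.card F = q ^ 2) (hn : 2 ≤ n) (p : ℕ) [Fact p.Prime] [CharP F p] :
    ∃ χ : PSU n F q → ℂ, IsIrrCharacter (PSU n F q) χ ∧ ∀ P : Sylow p (PSU n F q), χ 1 = Nat.card P ∧
      ∀ x : PSU n F q, x ∈ P → x ≠ 1 → χ x = 0 := by
  classical
  obtain ⟨P⟩ := exists_pairData hF
  set D := frame n P with hD
  haveI : Finite (SU n F q) := Finite.of_injective suVal fun _ _ => suVal_ext
  haveI : Nontrivial (Fin n → F) := ⟨⟨Pi.single ⟨0, by omega⟩ 1, 0, fun h0 => one_ne_zero (α := F) (by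
    simpa using congrFun h0 ⟨0, by omega⟩)⟩⟩
  have real : ∀ D' : Frame F (Fin n → F) (n / 2), D'.B = hermForm n F q →
      ∀ T : (Fin n → F) ≃ₗ[F] (Fin n → F), D'.Isom T → D'.Lowers T.toLinearMap → ∃ s, rho n F q s = T := by
    intro D' hB T hT hL
    obtain ⟨k, hk⟩ := hL.pow_eq_one p
    have hM : ∀ v, LinearMap.toMatrix' T.toLinearMap *ᵥ v = T v := fun v => LinearMap.toMatrix'_mulVec _ v
    refine ⟨suMk hF (LinearMap.toMatrix' T.toLinearMap) (det_one_of_pow p (k := k) ?_)
      (transpose_mul_of_preserves hF fun u v => ?_), LinearEquiv.ext fun v => hM v⟩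
    · have := congrArg LinearMap.toMatrix' hk
      rwa [LinearMap.toMatrix'_one, show LinearMap.toMatrix' (T.toLinearMap ^ p ^ k) =
        LinearMap.toMatrix' T.toLinearMap ^ p ^ k from map_pow LinearMap.toMatrixAlgEquiv' _ _] at this
    · rw [hM, hM, ← hB]; exact hT.1 u v
  refine Model.main (D := D) (ρ := rho n F q) (π := QuotientGroup.mk' _) (p := p)
    ⟨by omega, QuotientGroup.mk'_surjective _, fun a b hab => suVal_ext (Matrix.ext_iff_mulVec.2 fun v =>
      LinearEquiv.congr_fun hab v), fun s => ⟨fun u v => s.2 u v, fun v => s.2 v v⟩,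
      fun s hs g => (Subgroup.mem_center_iff.1 ((QuotientGroup.eq_one_iff s).1 hs) g).symm,
      fun w hA hC => ?_, real D rfl, real D.flip rfl, fun s hs hdiag v hA hC => ?_, ?_⟩
  · obtain ⟨c, hc⟩ := Cfsg.Agent.Classical.PSUAut.exists_trace_eq hF (a := -hermForm n F q w w) (by rw [map_neg, cj_h_self hF])
    refine ⟨c, ?_⟩
    have h1 : D.B w (D.f ⟨0, by omega⟩) = 0 := hA _
    have h2 : D.B w (D.e ⟨0, by omega⟩) = 0 := by rw [D.B_e, hC, mul_zero]
    have h1' := D.refl h1
    have h2' := D.refl h2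
    show D.B _ _ = 0
    simp only [D.add_left, D.add_right, D.smul_left, D.smul_right, D.ee, D.ff, D.ef, D.fe, if_pos, h1, h2, h1', h2',
      mul_zero, add_zero, zero_add]
    show qFrob hF c * 1 + (hermForm n F q w w + c * 1) = 0
    linear_combination hc
  · obtain ⟨k, hk⟩ := hs
    exact Frame.mid_of_self (D := D) (p := p) (T := rho n F q s) ⟨fun u v => s.2 u v, fun v => s.2 v v⟩ hdiag
      ⟨k, by rw [← map_pow, hk, map_one]⟩ (fun x hx => hx) hA hC
  · obtain ⟨c, hc0, hc⟩ := exists_trace_zero hF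
    have hB : ∀ i j, D.B (D.f i + c • D.e i) (D.f j + c • D.e j) = 0 := fun i j => by
      simp only [D.add_left, D.add_right, D.smul_left, D.smul_right, D.ee, D.ff, D.ef, D.fe, mul_zero,
        add_zero, zero_add, show D.eps = 1 from rfl, show D.σ = qFrob hF from rfl]
      split_ifs
      · linear_combination hc
      · simp
    refine ⟨fun i => D.f i + c • D.e i, fun i => hB i i, hB, fun i l => ?_, fun i l hl => ?_, fun i => ?_⟩
    · simp [map_add, eq_comm]
    · simp [map_add, hl.ne']
    · simpa [map_add] using hc0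

end Cfsg.Agent.Classical.StUnit
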