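import Cfsg.Agent.Lib.Classical.LinearDecompDerange
import Cfsg.Agent.Lib.Classical.MaxRational
import Cfsg.Agent.Lib.Classical.AschOrth
import Cfsg.Agent.Lib.Classical.AschBasic

/-!
Elements of prime order modulo scalars of `SL n` and the subfield subgroups: conjugacy into the subgroup is
decided by the characteristic polynomial of a multiple having coefficients in the subfield.
-/

set_option autoImplicit false

namespace Cfsg.Agent.SubfieldDerange

open Polynomial Matrix

variable {F : Type*} [Field F] [Fintype F] {n : ℕ}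

/-- The subfield subgroup of `SL n`. -/
abbrev sub (n : ℕ) (F₀ : Subfield F) : Subgroup (Matrix.SpecialLinearGroup (Fin n) F) :=
  (Geo.subfieldSubgroup F₀ 1).comap
    (Matrix.SpecialLinearGroup.toGL : Matrix.SpecialLinearGroup (Fin n) F →* GL (Fin n) F)

/-- The Frobenius map of the subfield. -/
noncomputable def frob (F₀ : Subfield F) : F →+* F :=
  haveI := Fintype.ofFinite F₀
  (FiniteField.frobeniusAlgHom F₀ F).toRingHom

theorem frob_apply (F₀ : Subfield F) (x : F) : frob F₀ x = x ^ Nat.card F₀ := by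
  haveI := Fintype.ofFinite F₀
  rw [Nat.card_eq_fintype_card]
  simp only [frob, FiniteField.coe_frobeniusAlgHom, AlgHom.toRingHom_eq_coe, RingHom.coe_coe]
  simp only [← Nat.card_eq_fintype_card]

theorem frob_fix (F₀ : Subfield F) (x : F₀) : frob F₀ (x : F) = x := by
  haveI := Fintype.ofFinite F₀
  rw [frob_apply, Nat.card_eq_fintype_card, ← SubmonoidClass.coe_pow, FiniteField.pow_card]

theorem mem_of_frob (F₀ : Subfield F) {x : F} (h : frob F₀ x = x) : x ∈ F₀ :=
  Classical.Asch.mem_of_frob_fixed F₀ (by rw [← frob_apply, h])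

theorem mem_lifts_iff_frob (F₀ : Subfield F) (P : F[X]) :
    P ∈ lifts F₀.subtype ↔ P.map (frob F₀) = P := by
  constructor
  · intro h
    obtain ⟨Q, rfl⟩ := (mem_lifts P).1 h
    rw [Polynomial.map_map]
    congr 1
    exact RingHom.ext fun x => frob_fix F₀ x
  · intro h
    refine (lifts_iff_coeff_lifts P).2 fun i => ?_
    have h1 := congrArg (fun Q => Polynomial.coeff Q i) h
    simp only [coeff_map] at h1
    exact ⟨⟨_, mem_of_frob F₀ h1⟩, rfl⟩

/-- The characteristic polynomial of a multiple. -/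
theorem charpoly_smul (A : Matrix (Fin n) (Fin n) F) {a : F} (ha : a ≠ 0) :
    (a • A).charpoly = Polynomial.C (a ^ n) * A.charpoly.comp (Polynomial.C a⁻¹ * X) := by
  let φ : F[X] →+* F[X] := Polynomial.compRingHom (Polynomial.C a⁻¹ * X)
  have h1 : A.charpoly.comp (Polynomial.C a⁻¹ * X) = (φ.mapMatrix A.charmatrix).det := by
    rw [← RingHom.map_det]; rfl
  have h2 : (a • A).charmatrix = Polynomial.C a • φ.mapMatrix A.charmatrix := by
    refine Matrix.ext fun i j => ?_
    rw [Matrix.smul_apply, RingHom.mapMatrix_apply, Matrix.map_apply, smul_eq_mul]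
    show _ = Polynomial.C a * (A.charmatrix i j).comp (Polynomial.C a⁻¹ * X)
    by_cases h : i = j
    · subst h
      rw [charmatrix_apply_eq, charmatrix_apply_eq, sub_comp, X_comp, C_comp, mul_sub, ← mul_assoc, ← map_mul,
        mul_inv_cancel₀ ha, map_one, one_mul, Matrix.smul_apply, smul_eq_mul, map_mul]
    · rw [charmatrix_apply_ne _ _ _ h, charmatrix_apply_ne _ _ _ h, neg_comp, C_comp, mul_neg, ← map_mul,
        Matrix.smul_apply, smul_eq_mul]
  rw [h1, Matrix.charpoly, h2, Matrix.det_smul, Fintype.card_fin, map_pow]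

/-- A polynomial with given roots, rescaled. -/
theorem scale_prod (T : Multiset F) {a : F} (ha : a ≠ 0) :
    Polynomial.C (a ^ T.card) * ((T.map fun t => X - Polynomial.C t).prod).comp (Polynomial.C a⁻¹ * X) =
      ((T.map (a * ·)).map fun t => X - Polynomial.C t).prod := by
  induction T using Multiset.induction with
  | empty => simp
  | cons t T ih =>
    have h1 : Polynomial.C a * (Polynomial.C a⁻¹ * X - Polynomial.C t) = X - Polynomial.C (a * t) := by
      rw [mul_sub, ← mul_assoc, ← map_mul, mul_inv_cancel₀ ha, map_one, one_mul, ← map_mul]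
    simp only [Multiset.map_cons, Multiset.prod_cons, Multiset.card_cons, mul_comp, sub_comp, X_comp, C_comp,
      pow_succ]
    rw [← ih, ← h1, map_mul]
    ring

/-- A semisimple element with a rational characteristic polynomial lies in a subfield subgroup. -/
theorem conj_of_lifts {p : ℕ} [Fact p.Prime] [CharP F p] (hn : 1 ≤ n) (F₀ : Subfield F)
    (x : Matrix.SpecialLinearGroup (Fin n) F) {a : F} (ha : a ≠ 0) {M : ℕ} (hM : (M : F) ≠ 0)
    (hB : (a • (x : Matrix (Fin n) (Fin n) F)) ^ M = 1)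
    (hP : (a • (x : Matrix (Fin n) (Fin n) F)).charpoly ∈ lifts F₀.subtype) :
    ∃ P : Matrix.SpecialLinearGroup (Fin n) F, P⁻¹ * x * P ∈ sub n F₀ := by
  classical
  haveI := Fintype.ofFinite F₀
  set B := a • (x : Matrix (Fin n) (Fin n) F) with hBdef
  obtain ⟨Q, hQ, hQd, hQm⟩ := lifts_and_degree_eq_and_monic hP B.charpoly_monic
  have hQn : Q.natDegree = n := by
    rw [natDegree_eq_of_degree_eq hQd, Matrix.charpoly_natDegree_eq_dim, Fintype.card_fin]
  have hQ0 : Q.coeff 0 ≠ 0 := fun h => by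
    have hd := B.det_eq_sign_charpoly_coeff
    rw [← hQ, coeff_map, h, map_zero, mul_zero, hBdef, Matrix.det_smul, x.2, mul_one] at hd
    exact pow_ne_zero _ ha hd
  obtain ⟨g₀, M₀, hM₀, hg₀, hc₀⟩ := Cfsg.Agent.Lie.Semisimple.exists_semisimple n Q hQm hQn hQ0
  set Y := LinearMap.toMatrixAlgEquiv' g₀ with hY
  set A := F₀.subtype.mapMatrix Y with hA
  have hAM : A ^ M₀ = 1 := by rw [hA, ← map_pow, hY, ← map_pow, hg₀, map_one, map_one]
  have hAc : A.charpoly = B.charpoly := by
    rw [hA, RingHom.mapMatrix_apply, Matrix.charpoly_map, hY, ← GLSemisimpleClasses.charpoly_toLin',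
      Matrix.toLinAlgEquiv'_toMatrixAlgEquiv', hc₀, hQ]
  have hM0 : ((M * M₀ : ℕ) : F) ≠ 0 := by
    rw [Nat.cast_mul]
    refine mul_ne_zero hM fun h => hM₀ ?_
    have h' : F₀.subtype (M₀ : F₀) = F₀.subtype 0 := by rw [map_natCast, map_zero, h]
    exact F₀.subtype.injective h'
  set gA := Matrix.toLinAlgEquiv' A
  set gB := Matrix.toLinAlgEquiv' B
  have hgA : gA ^ (M * M₀) = 1 := by rw [← map_pow, mul_comm, pow_mul, hAM, one_pow, map_one]
  obtain ⟨e, he⟩ := Cfsg.Agent.Lie.Semisimple.similar_of_charpoly_eq n gA gB _ hM0 hgA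
    (by rw [← map_pow, pow_mul, hB, one_pow, map_one])
    (by rw [GLSemisimpleClasses.charpoly_toLin', GLSemisimpleClasses.charpoly_toLin', hAc])
  have hed : LinearMap.det (e : (Fin n → F) →ₗ[F] (Fin n → F)) ≠ 0 := (LinearEquiv.isUnit_det' e).ne_zero
  obtain ⟨z, hz, hzd⟩ := Cfsg.Agent.Lie.Semisimple.exists_commute_det hn gA hM0 hgA _ (inv_ne_zero hed)
  set Pm := LinearMap.toMatrix' ((e : (Fin n → F) →ₗ[F] (Fin n → F)) ∘ₗ z) with hPm
  have hPd : Pm.det = 1 := by
    rw [hPm, LinearMap.det_toMatrix', LinearMap.det_comp, hzd, mul_inv_cancel₀ hed]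
  have hBP : B * Pm = Pm * A := by
    apply Matrix.toLinAlgEquiv'.injective
    refine LinearMap.ext fun v => ?_
    rw [map_mul, map_mul, Module.End.mul_apply, Module.End.mul_apply]
    have hT : ∀ w, Matrix.toLinAlgEquiv' Pm w = e (z w) := fun w => by
      show Matrix.toLin' Pm w = _
      rw [hPm, Matrix.toLin'_toMatrix']; rfl
    rw [hT, hT]
    show gB (e (z v)) = e (z (gA v))
    rw [← he, hz]
  let P : Matrix.SpecialLinearGroup (Fin n) F := ⟨Pm, hPd⟩
  refine ⟨P, Classical.MaxTv.mem_subfieldSubgroup_of ha fun v hv i => ?_⟩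
  show ((((1 : GL (Fin n) F)⁻¹ : GL (Fin n) F) : Matrix (Fin n) (Fin n) F) *ᵥ
    (a • (((P⁻¹).1 * (x : Matrix (Fin n) (Fin n) F) * Pm) *ᵥ v))) i ∈ F₀
  have hval : a • ((P⁻¹).1 * (x : Matrix (Fin n) (Fin n) F) * Pm) = A := by
    rw [← Matrix.smul_mul, ← Matrix.mul_smul, ← hBdef, mul_assoc, hBP, ← mul_assoc,
      show (P⁻¹).1 * Pm = 1 from congrArg Subtype.val (inv_mul_cancel P), one_mul]
  rw [inv_one, Units.val_one, one_mulVec, ← smul_mulVec, hval]
  show ∑ j, A i j * v j ∈ F₀
  refine F₀.sum_mem fun j _ => F₀.mul_mem (Y i j).2 ?_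
  have := hv j
  rwa [inv_one, Units.val_one, one_mulVec] at this

/-- What conjugacy into the subfield subgroup gives. -/
theorem obstruction (F₀ : Subfield F) {x P : Matrix.SpecialLinearGroup (Fin n) F} (h : P⁻¹ * x * P ∈ sub n F₀) :
    ∃ (a : F) (Y : Matrix (Fin n) (Fin n) F₀), a ≠ 0 ∧
      F₀.subtype.mapMatrix Y = (P⁻¹).1 * (a • (x : Matrix (Fin n) (Fin n) F)) * P.1 ∧
      (a • (x : Matrix (Fin n) (Fin n) F)).charpoly ∈ lifts F₀.subtype := by
  have h' : (Matrix.SpecialLinearGroup.toGL (P⁻¹ * x * P) : GL (Fin n) F) ∈ Geo.subfieldSubgroup F₀ 1 := h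
  obtain ⟨a, ha, hh⟩ := Classical.MaxTv.exists_of_mem_subfieldSubgroup h'
  obtain ⟨Y, hY⟩ := Classical.MaxTv.exists_subfield_matrix (P := (1 : GL (Fin n) F)) a hh
  rw [inv_one, Units.val_one, one_mul, mul_one] at hY
  have hY' : F₀.subtype.mapMatrix Y = (P⁻¹).1 * (a • (x : Matrix (Fin n) (Fin n) F)) * P.1 := by
    rw [RingHom.mapMatrix_apply, hY, Matrix.mul_smul, Matrix.smul_mul]
    rfl
  refine ⟨a, Y, ha, hY', (mem_lifts _).2 ⟨Y.charpoly, ?_⟩⟩
  rw [← Matrix.charpoly_map, ← RingHom.mapMatrix_apply, hY']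
  rw [Matrix.charpoly_mul_comm, ← mul_assoc, show P.1 * (P⁻¹).1 = 1 from congrArg Subtype.val (mul_inv_cancel P),
    one_mul]

/-- A multiset of eigenvalues all of whose diagonal elements are conjugate into the subgroup is stable. -/
theorem stable_multiset (F₀ : Subfield F) {r : ℕ}
    (hall : ∀ x : Matrix.SpecialLinearGroup (Fin n) F,
      (∃ z : F, (x : Matrix (Fin n) (Fin n) F) ^ r = z • (1 : Matrix (Fin n) (Fin n) F)) →
      (∀ z : F, (x : Matrix (Fin n) (Fin n) F) ≠ z • (1 : Matrix (Fin n) (Fin n) F)) →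
      ∃ P : Matrix.SpecialLinearGroup (Fin n) F, P⁻¹ * x * P ∈ sub n F₀)
    [DecidableEq F] (W : Multiset F) (hW : W.card = n) (hprod : W.prod = 1) {z : F} (hz : ∀ u ∈ W, u ^ r = z)
    {u₁ u₂ : F} (h₁ : u₁ ∈ W) (h₂ : u₂ ∈ W) (hne : u₁ ≠ u₂) :
    ∃ a : F, a ≠ 0 ∧ ∀ u ∈ W, ∃ u' ∈ W, frob F₀ (a * u) = a * u' ∧ W.count u = W.count u' := by
  classical
  obtain ⟨L, rfl⟩ := Quotient.exists_rep W
  rw [Multiset.quot_mk_to_coe] at hW hprod hz h₁ h₂ ⊢
  rw [Multiset.coe_card] at hW
  subst hW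
  let w : Fin L.length → F := fun i => L[i]
  have hw : (Finset.univ.val.map w) = (L : Multiset F) := by
    rw [Fin.univ_val_map]
    exact congrArg _ List.ofFn_getElem
  let x : Matrix.SpecialLinearGroup (Fin L.length) F := ⟨Matrix.diagonal w, by
    rw [Matrix.det_diagonal, Finset.prod_eq_multiset_prod, hw, hprod]⟩
  obtain ⟨P, hP⟩ := hall x ⟨z, by
      show Matrix.diagonal w ^ r = _
      rw [Matrix.diagonal_pow, Matrix.smul_one_eq_diagonal]
      exact congrArg _ (funext fun i => hz _ (List.getElem_mem i.2))⟩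
    (fun c hc => by
      obtain ⟨i, hi, rfl⟩ := List.getElem_of_mem h₁
      obtain ⟨j, hj, rfl⟩ := List.getElem_of_mem h₂
      have e1 := congrFun (congrFun (show Matrix.diagonal w = c • 1 from hc) ⟨i, hi⟩) ⟨i, hi⟩
      have e2 := congrFun (congrFun (show Matrix.diagonal w = c • 1 from hc) ⟨j, hj⟩) ⟨j, hj⟩
      simp [w] at e1 e2
      exact hne (e1.trans e2.symm))
  obtain ⟨a, Y, ha, -, hch⟩ := obstruction F₀ hP
  refine ⟨a, ha, ?_⟩
  rw [mem_lifts_iff_frob, show a • (x : Matrix (Fin L.length) (Fin L.length) F) = Matrix.diagonal (fun i => a * w i) from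
    (Matrix.diagonal_smul a w).symm, Matrix.charpoly_diagonal, Finset.prod_eq_multiset_prod] at hch
  rw [show (Finset.univ.val.map fun i => X - Polynomial.C (a * w i)) =
      ((L : Multiset F).map (a * ·)).map fun t => X - Polynomial.C t by
    rw [← hw, Multiset.map_map, Multiset.map_map]; rfl] at hch
  set R := (L : Multiset F).map (a * ·) with hR
  have hRσ : R.map (frob F₀) = R := by
    have h := congrArg Polynomial.roots hch
    rwa [Polynomial.map_multiset_prod, Multiset.map_map, show Polynomial.map (frob F₀) ∘ (fun t => X - Polynomial.C t) =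
        (fun t => X - Polynomial.C t) ∘ frob F₀ from funext fun t => by simp, ← Multiset.map_map,
      Polynomial.roots_multiset_prod_X_sub_C, Polynomial.roots_multiset_prod_X_sub_C] at h
  intro u hu
  have hmem : frob F₀ (a * u) ∈ R := hRσ ▸ Multiset.mem_map_of_mem _ (Multiset.mem_map_of_mem _ hu)
  obtain ⟨u', hu', he⟩ := Multiset.mem_map.1 hmem
  refine ⟨u', hu', he.symm, ?_⟩
  have h1 : R.count (frob F₀ (a * u)) = R.count (a * u) := by
    conv_lhs => rw [← hRσ]
    exact Multiset.count_map_eq_count' _ _ (frob F₀).injective _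
  rw [← he, hR, Multiset.count_map_eq_count' _ _ (mul_right_injective₀ ha),
    Multiset.count_map_eq_count' _ _ (mul_right_injective₀ ha)] at h1
  exact h1.symm

/-- A prime dividing the index, different from the degree of the extension, gives a new torus order. -/
theorem exists_exponent (hn : 1 ≤ n) (F₀ : Subfield F) {q₀ k r : ℕ} (hF₀ : Nat.card F₀ = q₀)
    (hqk : Fintype.card F = q₀ ^ k) (hk : k.Prime) (hr : r.Prime) (hrk : r ≠ k) (hrq : ¬ r ∣ Fintype.card F)
    (hΩ : r ∣ (sub n F₀).index) :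
    ∃ i, 2 ≤ i ∧ i ≤ n ∧ r ∣ Fintype.card F ^ i - 1 ∧ ¬ r ∣ q₀ ^ i - 1 := by
  classical
  haveI := Fintype.ofFinite F₀
  have hF₀' : Fintype.card F₀ = q₀ := by rw [← Nat.card_eq_fintype_card, hF₀]
  set ψ : Matrix.SpecialLinearGroup (Fin n) F₀ →* Matrix.SpecialLinearGroup (Fin n) F :=
    Matrix.SpecialLinearGroup.map F₀.subtype
  have hinj : Function.Injective ψ := fun g h e => Subtype.ext (Matrix.ext fun i j =>
    Subtype.ext (congrFun (congrFun (congrArg Subtype.val e) i) j))
  have hψ : ψ.range ≤ sub n F₀ := by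
    rintro _ ⟨g, rfl⟩
    refine Classical.Asch.mem_subfieldSubgroup_one F₀ 1 _ fun i j => ?_
    simp only [inv_one, one_mul, mul_one]
    exact ((g : Matrix (Fin n) (Fin n) F₀) i j).2
  set m := ψ.range.index
  have hrm : r ∣ m := hΩ.trans (Subgroup.index_dvd_of_le hψ)
  have h1 : m * Nat.card (Matrix.SpecialLinearGroup (Fin n) F₀) = Nat.card (Matrix.SpecialLinearGroup (Fin n) F) := by
    rw [← Subgroup.index_mul_card ψ.range, ← Nat.card_congr (MonoidHom.ofInjective hinj).toEquiv]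
  obtain ⟨n', rfl⟩ : ∃ n', n = n' + 1 := ⟨n - 1, by omega⟩
  have hgl : ∀ (K : Type _) [Field K] [Fintype K], Nat.card (Matrix.SpecialLinearGroup (Fin (n' + 1)) K) =
      (∏ i : Fin (n' + 1), Fintype.card K ^ (i : ℕ)) * ∏ i ∈ Finset.range n', (Fintype.card K ^ (i + 2) - 1) := by
    intro K _ _
    have h2 : Nat.card (Matrix.SpecialLinearGroup (Fin (n' + 1)) K) * (Fintype.card K - 1) =
        ∏ i : Fin (n' + 1), (Fintype.card K ^ (n' + 1) - Fintype.card K ^ (i : ℕ)) := by
      rw [← Matrix.card_GL_field]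
      let D : GL (Fin (n' + 1)) K →* Kˣ := Matrix.GeneralLinearGroup.det
      have hD : Function.Surjective D := fun u => by
        refine ⟨Matrix.GeneralLinearGroup.mkOfDetNeZero
          (Matrix.diagonal (Function.update (1 : Fin (n' + 1) → K) 0 (u : K))) ?_, Units.ext ?_⟩
        · rw [Matrix.det_diagonal, Finset.prod_update_of_mem (Finset.mem_univ _)]; simp
        · show (Matrix.diagonal (Function.update (1 : Fin (n' + 1) → K) 0 (u : K))).det = _
          rw [Matrix.det_diagonal, Finset.prod_update_of_mem (Finset.mem_univ _)]; simp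
      have hker : D.ker = (Matrix.SpecialLinearGroup.toGL :
          Matrix.SpecialLinearGroup (Fin (n' + 1)) K →* GL (Fin (n' + 1)) K).range := by
        ext g
        rw [MonoidHom.mem_ker]
        exact ⟨fun h => ⟨⟨_, congrArg Units.val h⟩, Units.ext rfl⟩, fun ⟨a, ha⟩ => ha ▸ Units.ext a.2⟩
      rw [← Subgroup.card_mul_index D.ker, Subgroup.index_ker, MonoidHom.range_eq_top.2 hD, Subgroup.card_top,
        Nat.card_units, Nat.card_eq_fintype_card (α := K), hker,
        ← Nat.card_congr (MonoidHom.ofInjective Matrix.SpecialLinearGroup.toGL_injective).toEquiv]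
    have h3 : ∏ i : Fin (n' + 1), (Fintype.card K ^ (n' + 1) - Fintype.card K ^ (i : ℕ)) =
        (∏ i : Fin (n' + 1), Fintype.card K ^ (i : ℕ)) *
          ((∏ i ∈ Finset.range n', (Fintype.card K ^ (i + 2) - 1)) * (Fintype.card K - 1)) := by
      have h4 : (∏ i ∈ Finset.range n', (Fintype.card K ^ (i + 2) - 1)) * (Fintype.card K - 1) =
          ∏ i ∈ Finset.range (n' + 1), (Fintype.card K ^ (i + 1) - 1) := by
        rw [Finset.prod_range_succ', zero_add, pow_one]
      rw [h4, ← Finset.prod_range_reflect (fun i => Fintype.card K ^ (i + 1) - 1), ← Fin.prod_univ_eq_prod_range,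
        ← Finset.prod_mul_distrib]
      refine Finset.prod_congr rfl fun i _ => ?_
      rw [Nat.mul_sub, mul_one, ← pow_add, show (i : ℕ) + (n' + 1 - 1 - (i : ℕ) + 1) = n' + 1 by omega]
    have hK : 0 < Fintype.card K - 1 := by have := Fintype.one_lt_card (α := K); omega
    exact Nat.eq_of_mul_eq_mul_right hK (by rw [h2, h3, mul_assoc])
  rw [hgl F₀, hgl F, hF₀', hqk] at h1
  set e : ℕ → ℕ := fun i => ∑ l ∈ Finset.range k, (q₀ ^ (i + 2)) ^ l with he
  have hq₀ : 2 ≤ q₀ := hF₀' ▸ Fintype.one_lt_card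
  have hfac : ∀ i, (q₀ ^ k) ^ (i + 2) - 1 = (q₀ ^ (i + 2) - 1) * e i := fun i => by
    rw [he, mul_comm, geom_sum_mul_of_one_le (Nat.one_le_pow _ _ (by omega)), ← pow_mul, ← pow_mul, mul_comm]
  rw [Finset.prod_congr rfl (fun i _ => hfac i), Finset.prod_mul_distrib] at h1
  have hP : 0 < ∏ i ∈ Finset.range n', (q₀ ^ (i + 2) - 1) := Finset.prod_pos fun i _ => by
    have := Nat.le_self_pow (show i + 2 ≠ 0 by omega) q₀
    omega
  have key : m * (∏ i : Fin (n' + 1), q₀ ^ (i : ℕ)) =
      (∏ i : Fin (n' + 1), (q₀ ^ k) ^ (i : ℕ)) * ∏ i ∈ Finset.range n', e i :=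
    Nat.eq_of_mul_eq_mul_right hP (by rw [mul_assoc, h1]; ring)
  have hrq₀ : ¬ r ∣ q₀ := fun h => hrq (hqk ▸ h.trans (dvd_pow_self q₀ hk.ne_zero))
  rcases (hr.dvd_mul).1 (key ▸ hrm.mul_right _) with h | h
  · obtain ⟨i, -, hi⟩ := (Prime.dvd_finsetProd_iff hr.prime _).1 h
    exact absurd (hr.dvd_of_dvd_pow (hr.dvd_of_dvd_pow hi)) hrq₀
  obtain ⟨i, hi, hri⟩ := (Prime.dvd_finsetProd_iff hr.prime _).1 h
  refine ⟨i + 2, by omega, by have := Finset.mem_range.1 hi; omega, ?_, fun hd => hrk ?_⟩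
  · rw [hqk, hfac]; exact hri.mul_left _
  · haveI := Fact.mk hr
    rw [← ZMod.natCast_eq_zero_iff, Nat.cast_sub (Nat.one_le_pow _ _ (by omega)), Nat.cast_one, sub_eq_zero] at hd
    rw [← ZMod.natCast_eq_zero_iff, he] at hri
    push_cast at hri hd
    simp only [hd, one_pow, Finset.sum_const, Finset.card_range, nsmul_eq_mul, mul_one] at hri
    exact (Nat.prime_dvd_prime_iff_eq hr hk).1 ((ZMod.natCast_eq_zero_iff k r).1 hri)

end Cfsg.Agent.SubfieldDerange
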