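import Cfsg.Agent.Lib.Classical.InvariantCharpoly
import Cfsg.Agent.Lib.Classical.SubspaceCount
import Cfsg.Agent.Lib.Classical.ProjPrimeOrderClasses
import Mathlib

/-!
Elements of prime order modulo scalars of `SL n` fixing no subspace, or no flag, of given dimension.
-/

set_option autoImplicit false

namespace Cfsg.Agent.SubspaceDerange

open Polynomial UniqueFactorizationMonoid Cfsg.Agent.Lie.Semisimple

variable {F : Type*} [Field F] [Fintype F]

/-- sub-products of given degree -/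
theorem exists_split {P : F[X]} (hP : P.Monic) {i : ℕ} (hi : 1 ≤ i)
    (hdeg : ∀ g : F[X], g.Monic → Irreducible g → g ∣ P → g.natDegree = 1 ∨ g.natDegree = i) :
    ∃ f a : ℕ, P.natDegree = f + a * i ∧ ∀ b₁ b₂ j₁ j₂ : ℕ, b₁ + b₂ ≤ f → j₁ + j₂ ≤ a →
      ∃ D₁ D₂ : F[X], D₁.Monic ∧ D₂.Monic ∧ D₁ * D₂ ∣ P ∧ D₁.natDegree = b₁ + j₁ * i ∧
        D₂.natDegree = b₂ + j₂ * i := by
  classical
  set S := normalizedFactors P with hS
  have hmem : ∀ g ∈ S, g.Monic ∧ (g.natDegree = 1 ∨ g.natDegree = i) := by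
    intro g hg
    have hirr := irreducible_of_normalized_factor g hg
    have hm : g.Monic := by rw [← normalize_normalized_factor g hg]; exact monic_normalize hirr.ne_zero
    exact ⟨hm, hdeg g hm hirr (dvd_of_mem_normalizedFactors hg)⟩
  have hprod : S.prod = P :=
    eq_of_monic_of_associated (monic_multiset_prod_of_monic S id (fun g hg => (hmem g hg).1) |> fun h => by
      simpa using h) hP (prod_normalizedFactors hP.ne_zero)
  set A := S.filter (fun g => g.natDegree = 1) with hA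
  set B := S.filter (fun g => ¬ g.natDegree = 1) with hB
  have hAB : A + B = S := Multiset.filter_add_not _ _
  have hdegA : ∀ T, T ≤ A → T.prod.Monic ∧ T.prod.natDegree = Multiset.card T := by
    intro T hT
    have hmon : ∀ g ∈ T, g.Monic := fun g hg => (hmem g (Multiset.mem_of_mem_filter (Multiset.mem_of_le hT hg))).1
    refine ⟨by simpa using monic_multiset_prod_of_monic T id hmon, ?_⟩
    rw [natDegree_multiset_prod_of_monic T hmon, Multiset.map_congr rfl (g := fun _ => 1)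
      (fun g hg => (Multiset.mem_filter.1 (Multiset.mem_of_le hT hg)).2)]
    simp
  have hdegB : ∀ T, T ≤ B → T.prod.Monic ∧ T.prod.natDegree = Multiset.card T * i := by
    intro T hT
    have hmon : ∀ g ∈ T, g.Monic := fun g hg => (hmem g (Multiset.mem_of_mem_filter (Multiset.mem_of_le hT hg))).1
    refine ⟨by simpa using monic_multiset_prod_of_monic T id hmon, ?_⟩
    rw [natDegree_multiset_prod_of_monic T hmon, Multiset.map_congr rfl (g := fun _ => i)
      (fun g hg => by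
        have h := Multiset.mem_filter.1 (Multiset.mem_of_le hT hg)
        exact (hmem g h.1).2.resolve_left h.2)]
    simp
  refine ⟨Multiset.card A, Multiset.card B, ?_, fun b₁ b₂ j₁ j₂ hb hj => ?_⟩
  · have h1 := hdegA A le_rfl
    have h2 := hdegB B le_rfl
    rw [← hprod, ← hAB, Multiset.prod_add, h1.1.natDegree_mul h2.1, h1.2, h2.2]
  have pick : ∀ (S : Multiset F[X]) (b₁ b₂ : ℕ), b₁ + b₂ ≤ Multiset.card S →
      ∃ T₁ T₂, T₁ + T₂ ≤ S ∧ Multiset.card T₁ = b₁ ∧ Multiset.card T₂ = b₂ := by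
    intro S b₁ b₂ h
    obtain ⟨l, rfl⟩ := Quotient.exists_rep S
    refine ⟨(l.take b₁ : List F[X]), ((l.drop b₁).take b₂ : List F[X]), ?_, ?_, ?_⟩
    · rw [Multiset.coe_add, Multiset.quot_mk_to_coe, Multiset.coe_le]
      refine List.Sublist.subperm ?_
      conv_rhs => rw [← List.take_append_drop b₁ l]
      exact (List.Sublist.refl _).append (List.take_sublist _ _)
    · simp at h ⊢; omega
    · simp at h ⊢; omega
  obtain ⟨A₁, A₂, hA', hA₁, hA₂⟩ := pick A b₁ b₂ hb
  obtain ⟨B₁, B₂, hB', hB₁, hB₂⟩ := pick B j₁ j₂ hj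
  have a1 := hdegA A₁ ((Multiset.le_add_right _ _).trans hA')
  have a2 := hdegA A₂ ((Multiset.le_add_left _ _).trans hA')
  have c1 := hdegB B₁ ((Multiset.le_add_right _ _).trans hB')
  have c2 := hdegB B₂ ((Multiset.le_add_left _ _).trans hB')
  refine ⟨A₁.prod * B₁.prod, A₂.prod * B₂.prod, a1.1.mul c1.1, a2.1.mul c2.1, ?_, ?_, ?_⟩
  · rw [← hprod, ← hAB, mul_mul_mul_comm, ← Multiset.prod_add, ← Multiset.prod_add, ← Multiset.prod_add]
    exact Multiset.prod_dvd_prod_of_le (add_le_add hA' hB')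
  · rw [a1.1.natDegree_mul c1.1, a1.2, c1.2, hA₁, hB₁]
  · rw [a2.1.natDegree_mul c2.1, a2.2, c2.2, hA₂, hB₂]

/-- the criterion for one subspace -/
theorem exists_divisor {P : F[X]} (hP : P.Monic) {n m i : ℕ} (hn : P.natDegree = n) (hm : m ≤ n) (hi : 1 ≤ i)
    (hdeg : ∀ g : F[X], g.Monic → Irreducible g → g ∣ P → g.natDegree = 1 ∨ g.natDegree = i)
    (hmod : m % i ≤ n % i) : ∃ D : F[X], D.Monic ∧ D.natDegree = m ∧ D ∣ P := by
  obtain ⟨f, a, hna, h⟩ := exists_split hP hi hdeg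
  rw [hn] at hna
  have hmd : m % i + m / i * i = m := Nat.mod_add_div' m i
  have hnf : n % i ≤ f := by rw [hna, Nat.add_mul_mod_self_right]; exact Nat.mod_le _ _
  obtain ⟨b, j, hb, hj, hbj⟩ : ∃ b j, b ≤ f ∧ j ≤ a ∧ b + j * i = m := by
    rcases le_or_gt (m / i) a with hle | hlt
    · exact ⟨m % i, m / i, by omega, hle, hmd⟩
    · have := Nat.mul_le_mul_right i hlt.le
      exact ⟨m - a * i, a, by omega, le_rfl, by omega⟩
  obtain ⟨D, E, hD, hE, hdvd, hd, -⟩ := h b 0 j 0 (by simpa using hb) (by simpa using hj)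
  exact ⟨D, hD, by omega, (Dvd.intro E rfl).trans hdvd⟩

/-- the criterion for a flag -/
theorem exists_flag_divisor {P : F[X]} (hP : P.Monic) {n m i : ℕ} (hn : P.natDegree = n) (hm : 2 * m ≤ n)
    (hi : 1 ≤ i) (hdeg : ∀ g : F[X], g.Monic → Irreducible g → g ∣ P → g.natDegree = 1 ∨ g.natDegree = i)
    (hmod : 2 * (m % i) ≤ n % i) :
    ∃ D E : F[X], D.Monic ∧ E.Monic ∧ D.natDegree = m ∧ D.natDegree + E.natDegree = n - m ∧ D * E ∣ P := by
  obtain ⟨f, a, hna, h⟩ := exists_split hP hi hdeg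
  rw [hn] at hna
  have hmd : m % i + m / i * i = m := Nat.mod_add_div' m i
  have hnf : n % i ≤ f := by rw [hna, Nat.add_mul_mod_self_right]; exact Nat.mod_le _ _
  obtain ⟨j₁, j₂, hj, h₁, h₂, hb⟩ : ∃ j₁ j₂, j₁ + j₂ ≤ a ∧ j₁ ≤ m / i ∧ j₂ ≤ m / i ∧
      2 * m ≤ f + (j₁ + j₂) * i := by
    rcases le_or_gt (2 * (m / i)) a with hle | hlt
    · refine ⟨m / i, m / i, by omega, le_rfl, le_rfl, ?_⟩
      rw [← two_mul, mul_assoc]; omega
    · refine ⟨a - a / 2, a / 2, by omega, by omega, by omega, ?_⟩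
      rw [Nat.sub_add_cancel (Nat.div_le_self a 2)]; omega
  have e₁ := Nat.mul_le_mul_right i h₁
  have e₂ := Nat.mul_le_mul_right i h₂
  rw [add_mul] at hb
  obtain ⟨D₁, D₂, hD₁, hD₂, hdvd, hd₁, hd₂⟩ := h (m - j₁ * i) (m - j₂ * i) j₁ j₂ (by omega) hj
  obtain ⟨E, hE⟩ := hdvd
  have hEm : E.Monic := (hD₁.mul hD₂).of_mul_monic_left (hE ▸ hP)
  have hdegE := hE ▸ hn
  rw [(hD₁.mul hD₂).natDegree_mul hEm, hD₁.natDegree_mul hD₂] at hdegE
  exact ⟨D₁, E, hD₁, hEm, by omega, by omega, ⟨D₂, by rw [hE]; ring⟩⟩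

/-- degrees of divisors of `g ^ a * (X - 1) ^ f` -/
theorem divisor_degree {g : F[X]} (hg : g.Monic) (hirr : Irreducible g) (h1 : g.eval 1 ≠ 0) {a f : ℕ}
    {D : F[X]} (hD : D.Monic) (hdvd : D ∣ g ^ a * (X - Polynomial.C 1) ^ f) :
    ∃ j, D.natDegree = j * g.natDegree + D.rootMultiplicity 1 ∧ D.rootMultiplicity 1 ≤ f := by
  classical
  have hl : Irreducible (X - Polynomial.C (1 : F)) := irreducible_X_sub_C 1
  obtain ⟨d₁, d₂, hd₁, hd₂, rfl⟩ := exists_dvd_and_dvd_of_dvd_mul hdvd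
  obtain ⟨j, -, hj⟩ := (dvd_prime_pow hirr.prime a).1 hd₁
  obtain ⟨b, hb, hb'⟩ := (dvd_prime_pow hl.prime f).1 hd₂
  have heq : d₁ * d₂ = g ^ j * (X - Polynomial.C 1) ^ b :=
    eq_of_monic_of_associated hD ((hg.pow j).mul ((monic_X_sub_C 1).pow b)) (hj.mul_mul hb')
  have hne : g ^ j * (X - Polynomial.C (1 : F)) ^ b ≠ 0 := heq ▸ hD.ne_zero
  have hroot : rootMultiplicity 1 (g ^ j) = 0 := rootMultiplicity_eq_zero (by simp [IsRoot, h1])
  rw [heq, rootMultiplicity_mul hne, hroot, zero_add, rootMultiplicity_X_sub_C_pow,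
    (hg.pow j).natDegree_mul ((monic_X_sub_C 1).pow b), natDegree_pow, natDegree_pow, natDegree_X_sub_C, mul_one]
  exact ⟨j, rfl, hb⟩

theorem no_divisor {g : F[X]} (hg : g.Monic) (hirr : Irreducible g) (h1 : g.eval 1 ≠ 0) {a f m : ℕ}
    (hlt : f < m % g.natDegree) :
    ¬ ∃ D : F[X], D.Monic ∧ D.natDegree = m ∧ D ∣ g ^ a * (X - Polynomial.C 1) ^ f := by
  rintro ⟨D, hD, hd, hdvd⟩
  obtain ⟨j, hj, hb⟩ := divisor_degree hg hirr h1 hD hdvd
  rw [hd] at hj
  rw [hj, add_comm, Nat.add_mul_mod_self_right] at hlt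
  have := Nat.mod_le (D.rootMultiplicity 1) g.natDegree
  omega

theorem no_flag_divisor {g : F[X]} (hg : g.Monic) (hirr : Irreducible g) (h1 : g.eval 1 ≠ 0) {a f n m : ℕ}
    (hn : a * g.natDegree + f = n) (hm : m ≤ n) (hlt : f < 2 * (m % g.natDegree)) :
    ¬ ∃ D E : F[X], D.Monic ∧ E.Monic ∧ D.natDegree = m ∧ D.natDegree + E.natDegree = n - m ∧
      D * E ∣ g ^ a * (X - Polynomial.C 1) ^ f := by
  rintro ⟨D, E, hD, hE, hd, hde, hdvd⟩
  set P := g ^ a * (X - Polynomial.C (1 : F)) ^ f with hPdef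
  have hPm : P.Monic := (hg.pow a).mul ((monic_X_sub_C 1).pow f)
  have hPd : P.natDegree = n := by
    rw [(hg.pow a).natDegree_mul ((monic_X_sub_C 1).pow f), natDegree_pow, natDegree_pow, natDegree_X_sub_C,
      mul_one, hn]
  obtain ⟨R, hR⟩ := hdvd
  have hRm : R.Monic := (hD.mul hE).of_mul_monic_left (hR ▸ hPm)
  have hdeg := hR ▸ hPd
  rw [(hD.mul hE).natDegree_mul hRm, hD.natDegree_mul hE] at hdeg
  have hRd : R.natDegree = m := by omega
  obtain ⟨j, hj, -⟩ := divisor_degree hg hirr h1 hD (show D ∣ P from ⟨E * R, by rw [hR, mul_assoc]⟩)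
  obtain ⟨k, hk, -⟩ := divisor_degree hg hirr h1 hRm (show R ∣ P from ⟨D * E, by rw [hR, mul_comm]⟩)
  have hsum : D.rootMultiplicity 1 + R.rootMultiplicity 1 ≤ f := by
    have h := congrArg (rootMultiplicity (1 : F)) hR
    rw [rootMultiplicity_mul (mul_ne_zero (hD.mul hE).ne_zero hRm.ne_zero),
      rootMultiplicity_mul (hD.mul hE).ne_zero, hPdef, rootMultiplicity_mul hPm.ne_zero, rootMultiplicity_eq_zero (by simp [IsRoot, h1]),
      rootMultiplicity_X_sub_C_pow] at h
    omega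
  rw [hd] at hj
  rw [hRd] at hk
  have e1 := Nat.mod_le (D.rootMultiplicity 1) g.natDegree
  have e2 := Nat.mod_le (R.rootMultiplicity 1) g.natDegree
  have m1 : m % g.natDegree = D.rootMultiplicity 1 % g.natDegree := by
    conv_lhs => rw [hj, add_comm, Nat.add_mul_mod_self_right]
  have m2 : m % g.natDegree = R.rootMultiplicity 1 % g.natDegree := by
    conv_lhs => rw [hk, add_comm, Nat.add_mul_mod_self_right]
  omega

variable {n : ℕ} {q r : ℕ} [hr : Fact r.Prime]

omit [Fintype F] in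
theorem annihilated {A : Matrix (Fin n) (Fin n) F} {c : F} (hA : A ^ r = c • (1 : Matrix (Fin n) (Fin n) F))
    {g : F[X]} (hm : g.Monic) (hirr : Irreducible g) (hdvd : g ∣ A.charpoly) : g ∣ X ^ r - Polynomial.C c := by
  obtain ⟨v, hv0, hv⟩ := exists_killed (Matrix.toLinAlgEquiv' A) hm hirr
    (by rwa [GLSemisimpleClasses.charpoly_toLin'])
  have hR : aeval (Matrix.toLinAlgEquiv' A) (X ^ r - Polynomial.C c) = 0 := by
    rw [map_sub, map_pow, aeval_X, aeval_C, ← map_pow, hA, map_smul, map_one, Algebra.algebraMap_eq_smul_one, sub_self]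
  by_contra hcon
  obtain ⟨a, b, hab⟩ := hirr.coprime_iff_not_dvd.2 hcon
  refine hv0 ?_
  have h := congrArg (fun P => aeval (Matrix.toLinAlgEquiv' A) P v) hab
  simp only [map_add, map_mul, map_one, LinearMap.add_apply, Module.End.mul_apply, Module.End.one_apply, hR, hv,
    map_zero, LinearMap.zero_apply, add_zero] at h
  exact h.symm

/-- degrees of the factors when `c` is an `r`-th power -/
theorem degree_of_power (hq : Fintype.card F = q) {i : ℕ} (hi : orderOf (q : ZMod r) = i) (hi0 : i ≠ 0)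
    {d : F} (hd : d ≠ 0) {g : F[X]} (hm : g.Monic) (hirr : Irreducible g)
    (hg : g ∣ X ^ r - Polynomial.C (d ^ r)) : g.natDegree = 1 ∨ g.natDegree = i := by
  haveI := Fact.mk hirr
  haveI : Module.Finite F (AdjoinRoot g) := Module.Finite.of_basis (AdjoinRoot.powerBasis hirr.ne_zero).basis
  haveI : Finite (AdjoinRoot g) := Module.finite_of_finite F
  haveI : Fintype (AdjoinRoot g) := Fintype.ofFinite _
  have hq1 : 1 ≤ q := hq ▸ Fintype.card_pos
  set z := AdjoinRoot.root g / algebraMap F (AdjoinRoot g) d with hz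
  have hd' : algebraMap F (AdjoinRoot g) d ≠ 0 := (_root_.map_ne_zero _).2 hd
  have hroot : AdjoinRoot.root g ^ r = algebraMap F _ (d ^ r) := by
    have h1 : AdjoinRoot.mk g (X ^ r - Polynomial.C (d ^ r)) = 0 := AdjoinRoot.mk_eq_zero.2 hg
    rw [map_sub, map_pow, AdjoinRoot.mk_X, AdjoinRoot.mk_C, sub_eq_zero] at h1
    exact h1
  have hzr : z ^ r = 1 := by
    rw [hz, div_pow, hroot, ← map_pow, div_self ((_root_.map_ne_zero _).2 (pow_ne_zero _ hd))]
  by_cases hz1 : z = 1
  · left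
    have hrt : AdjoinRoot.root g = AdjoinRoot.mk g (Polynomial.C d) := by
      rw [hz, div_eq_one_iff_eq hd'] at hz1
      rw [hz1, AdjoinRoot.mk_C]; rfl
    rw [← AdjoinRoot.mk_X, AdjoinRoot.mk_eq_mk] at hrt
    have := Polynomial.natDegree_le_of_dvd hrt (X_sub_C_ne_zero d)
    rw [natDegree_X_sub_C] at this
    have := hirr.natDegree_pos
    omega
  right
  have hz0 : z ≠ 0 := fun h => by rw [h, zero_pow hr.out.ne_zero] at hzr; exact zero_ne_one hzr
  let u : (AdjoinRoot g)ˣ := Units.mk0 z hz0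
  have hu : orderOf u = r := orderOf_eq_prime (Units.ext (by simpa [u] using hzr))
    fun h => hz1 (by simpa [u] using congrArg Units.val h)
  apply Nat.dvd_antisymm
  · apply hirr.natDegree_dvd_of_dvd_X_pow_card_pow_sub_X
    rw [Nat.card_eq_fintype_card, hq]
    rw [← AdjoinRoot.mk_eq_zero, map_sub, map_pow, AdjoinRoot.mk_X, sub_eq_zero]
    have hdq : algebraMap F (AdjoinRoot g) d ^ q ^ i = algebraMap F _ d := by
      rw [← map_pow, ← hq, FiniteField.pow_card_pow]
    have hzq : z ^ q ^ i = z := by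
      have h1 : r ∣ q ^ i - 1 := by
        rw [← ZMod.natCast_eq_zero_iff, Nat.cast_sub (Nat.one_le_pow _ _ hq1), Nat.cast_pow, Nat.cast_one,
          ← hi, pow_orderOf_eq_one, sub_self]
      obtain ⟨w, hw⟩ := h1
      rw [show q ^ i = r * w + 1 by have := Nat.one_le_pow i q hq1; omega, pow_succ, pow_mul, hzr, one_pow, one_mul]
    have : AdjoinRoot.root g = z * algebraMap F _ d := by rw [hz, div_mul_cancel₀ _ hd']
    rw [this, mul_pow, hzq, hdq]
  · rw [← hi]
    apply orderOf_dvd_of_pow_eq_one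
    have h2 : r ∣ q ^ g.natDegree - 1 := by
      have h3 := hu ▸ orderOf_dvd_natCard u
      rwa [Nat.card_units, Module.natCard_eq_pow_finrank (K := F), Nat.card_eq_fintype_card, hq,
        (AdjoinRoot.powerBasis hirr.ne_zero).finrank, AdjoinRoot.powerBasis_dim] at h3
    rwa [← ZMod.natCast_eq_zero_iff, Nat.cast_sub (Nat.one_le_pow _ _ hq1), Nat.cast_pow, Nat.cast_one,
      sub_eq_zero] at h2

omit hr in
/-- degrees of the factors when `c` is not an `r`-th power -/
theorem degree_of_nonpower (hr : r.Prime) {c : F} (hc : ∀ b : F, b ^ r ≠ c) {g : F[X]} (hm : g.Monic)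
    (hirr : Irreducible g) (hg : g ∣ X ^ r - Polynomial.C c) : g = X ^ r - Polynomial.C c :=
  eq_of_monic_of_associated hm (monic_X_pow_sub_C c hr.ne_zero)
    (hirr.associated_of_dvd (X_pow_sub_C_irreducible_of_prime hr hc) hg)

theorem exists_realisation {p : ℕ} [Fact p.Prime] [CharP F p] {P : F[X]} (hP : P.Monic) (hd : P.natDegree = n)
    (h0 : P.coeff 0 ≠ 0) {R : F[X]} (hR : R ≠ 0)
    (h : ∀ f : F[X], f.Monic → Irreducible f → f ∣ P → f ∣ R) :
    ∃ A : Matrix (Fin n) (Fin n) F, A.charpoly = P ∧ aeval A R = 0 := by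
  classical
  obtain ⟨g, M, hM, hg, hc⟩ := exists_semisimple n P hP hd h0
  have hM0 : M ≠ 0 := fun e => hM (by rw [e, Nat.cast_zero])
  have hpow : (LinearMap.toMatrix' g) ^ M = 1 := by
    apply Matrix.toLin'.injective
    rw [Matrix.toLin'_pow, Matrix.toLin'_toMatrix', hg, Matrix.toLin'_one]; rfl
  let u : GL (Fin n) F := Units.ofPowEqOne _ M hpow hM0
  have hu : u ^ M = 1 := Units.pow_ofPowEqOne _ _
  have hval : (u : Matrix (Fin n) (Fin n) F) = LinearMap.toMatrix' g := rfl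
  have hch : (u : Matrix (Fin n) (Fin n) F).charpoly = P := by
    rw [hval, ← Matrix.charpoly_toLin', Matrix.toLin'_toMatrix', hc]
  refine ⟨_, hch, ?_⟩
  have h1 := ProjPrimeOrderClasses.aeval_eq_zero_of_factors hM u hu hR (fun f hf hi hd => h f hf hi (hch ▸ hd))
  apply Matrix.toLinAlgEquiv'.injective
  rw [map_zero, ← h1]
  exact (Polynomial.aeval_algHom_apply Matrix.toLinAlgEquiv'.toAlgHom _ R).symm

/-- an element of order `r` without small invariant pieces -/
theorem exists_order {p : ℕ} [Fact p.Prime] [CharP F p] (hq : Fintype.card F = q) (hrp : r ≠ p) {i a f : ℕ}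
    (hi : orderOf (q : ZMod r) = i) (h2 : 2 ≤ i) (ha : 1 ≤ a) (hn : a * i + f = n) :
    ∃ (x : Matrix.SpecialLinearGroup (Fin n) F) (g : F[X]), g.Monic ∧ Irreducible g ∧ g.natDegree = i ∧
      g.eval 1 ≠ 0 ∧ (x : Matrix (Fin n) (Fin n) F).charpoly = g ^ a * (X - Polynomial.C 1) ^ f ∧
      (x : Matrix (Fin n) (Fin n) F) ^ r = 1 ∧ ∀ c : F, (x : Matrix (Fin n) (Fin n) F) ≠ c • 1 := by
  classical
  have hr0 : (r : F) ≠ 0 := fun e =>
    hrp ((Nat.prime_dvd_prime_iff_eq (Fact.out : p.Prime) hr.out).1 ((CharP.cast_eq_zero_iff F p r).1 e)).symm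
  obtain ⟨g, hgm, hgi, hgd⟩ := Polynomial.exists_monic_irreducible_factor (cyclotomic r F)
    (fun h => by
      have := natDegree_eq_zero_of_isUnit h
      rw [natDegree_cyclotomic, Nat.totient_prime hr.out] at this
      have := hr.out.two_le; omega)
  have hg1 : g.eval 1 ≠ 0 := fun h => by
    have h' := Polynomial.eval_dvd (x := (1 : F)) hgd
    rw [h, eval_one_cyclotomic_prime, zero_dvd_iff] at h'
    exact hr0 h'
  have hgX : g ∣ X ^ r - Polynomial.C ((1 : F) ^ r) := by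
    rw [one_pow, map_one]; exact hgd.trans (cyclotomic.dvd_X_pow_sub_one r F)
  have hdeg : g.natDegree = i := by
    refine (degree_of_power hq hi (by omega) one_ne_zero hgm hgi hgX).resolve_left fun h1 => ?_
    obtain ⟨t, ht⟩ := Polynomial.exists_root_of_degree_eq_one
      (show g.degree = 1 by rw [degree_eq_natDegree hgi.ne_zero, h1]; rfl)
    have htr : t ^ r = 1 := by
      have := ht.dvd hgX
      simpa [sub_eq_zero] using this
    have ht0 : t ≠ 0 := fun h => by rw [h, zero_pow hr.out.ne_zero] at htr; exact zero_ne_one htr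
    have hdvd : r ∣ q - 1 := by
      have h := orderOf_dvd_natCard (Units.mk0 t ht0)
      rwa [orderOf_eq_prime (Units.ext (by simpa using htr))
        (fun e => hg1 (by simpa [show t = 1 by simpa using congrArg Units.val e] using ht)),
        Nat.card_units, Nat.card_eq_fintype_card, hq] at h
    have hq1 : 1 ≤ q := hq ▸ Fintype.card_pos
    rw [← ZMod.natCast_eq_zero_iff, Nat.cast_sub hq1, Nat.cast_one, sub_eq_zero] at hdvd
    rw [hdvd, orderOf_one] at hi
    omega
  set P := g ^ a * (X - Polynomial.C (1 : F)) ^ f with hPdef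
  have hPm : P.Monic := (hgm.pow a).mul ((monic_X_sub_C 1).pow f)
  have hP0 : P.coeff 0 ≠ 0 := by
    rw [hPdef, mul_coeff_zero, ← constantCoeff_apply, ← constantCoeff_apply, map_pow, map_pow, constantCoeff_apply,
      constantCoeff_apply]
    refine mul_ne_zero (pow_ne_zero _ fun h => ?_) (pow_ne_zero _ (by simp))
    have := (Polynomial.coeff_zero_eq_eval_zero g).symm.trans h
    have h' := (show g.IsRoot 0 from this).dvd hgX
    simp [zero_pow hr.out.ne_zero] at h'
  obtain ⟨A, hA, hAR⟩ := exists_realisation (p := p) (n := n) hPm (by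
      rw [(hgm.pow a).natDegree_mul ((monic_X_sub_C 1).pow f), natDegree_pow, natDegree_pow, natDegree_X_sub_C,
        mul_one, hdeg, hn]) hP0
    (X_pow_sub_C_ne_zero hr.out.pos (1 : F)) (fun h hh hi' hd => by
      rcases hi'.prime.dvd_or_dvd hd with h1 | h1
      · exact (hi'.prime.dvd_of_dvd_pow h1).trans (by simpa using hgX)
      · refine (hi'.prime.dvd_of_dvd_pow h1).trans ?_
        rw [dvd_iff_isRoot]; simp)
  rw [map_sub, map_pow, aeval_X, aeval_C, map_one, sub_eq_zero] at hAR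
  have hdet : A.det = 1 := by
    have h1 : A.det ^ r = 1 := by rw [← Matrix.det_pow, hAR, Matrix.det_one]
    have h0 : A.det ≠ 0 := fun h => by rw [h, zero_pow hr.out.ne_zero] at h1; exact zero_ne_one h1
    have hg' := pow_gcd_eq_one.2 ⟨h1, FiniteField.pow_card_sub_one_eq_one A.det h0⟩
    rwa [show r.gcd (Fintype.card F - 1) = 1 from (hr.out.coprime_iff_not_dvd.2 fun h => by
      have hq1 : 1 ≤ q := hq ▸ Fintype.card_pos
      rw [hq, ← ZMod.natCast_eq_zero_iff, Nat.cast_sub hq1, Nat.cast_one, sub_eq_zero] at h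
      rw [h, orderOf_one] at hi
      omega), pow_one] at hg'
  refine ⟨⟨A, hdet⟩, g, hgm, hgi, hdeg, hg1, hA, hAR, fun c hc => ?_⟩
  have hc' : A = c • 1 := hc
  have h := hA
  rw [hc', Matrix.smul_one_eq_diagonal, Matrix.charpoly_diagonal, Finset.prod_const] at h
  have hgdvd : g ∣ (X - Polynomial.C c) ^ (Finset.univ : Finset (Fin n)).card := by
    rw [h]; exact Dvd.dvd.mul_right (dvd_pow_self g (by omega)) _
  have h2 := natDegree_le_of_dvd (hgi.prime.dvd_of_dvd_pow hgdvd) (X_sub_C_ne_zero c)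
  rw [hdeg, natDegree_X_sub_C] at h2
  omega

/-- non-powers `c` for which `(X ^ r - c) ^ s` is the characteristic polynomial of an element of determinant one -/
theorem nonpower_iff (hq : Fintype.card F = q) (hr1 : r ∣ q - 1) (hodd : r = 2 → q % 2 = 1) {s : ℕ} (hs : 1 ≤ s) :
    (∃ c : F, c ≠ 0 ∧ (∀ b : F, b ^ r ≠ c) ∧ ((-1) ^ (r + 1) * c) ^ s = 1) ↔
      ¬ (padicValNat r (r * s) ≤ padicValNat r (q - 1) ∧ (r = 2 → Even (r * s) → q % 4 = 1)) := by
  classical
  have hq2 : 2 ≤ q := hq ▸ Fintype.one_lt_card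
  have hv : padicValNat r (r * s) = padicValNat r s + 1 := by
    rw [padicValNat.mul hr.out.ne_zero (by omega), padicValNat.self hr.out.one_lt, add_comm]
  -- powers in terms of the exponent
  have hpow : ∀ c : F, c ≠ 0 → ((∀ b : F, b ^ r ≠ c) ↔ c ^ ((q - 1) / r) ≠ 1) := by
    intro c hc
    constructor
    · intro h hc1
      obtain ⟨a, ha⟩ := IsCyclic.exists_generator (α := Fˣ)
      obtain ⟨k, hk⟩ := (IsOfFinOrder.mem_zpowers_iff_mem_range_orderOf
        (isOfFinOrder_of_finite a)).1 (ha (Units.mk0 c hc)) |> Finset.mem_image.1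
      have hk' : a ^ k = Units.mk0 c hc := hk.2
      have h1 : a ^ (k * ((q - 1) / r)) = 1 := by
        rw [pow_mul, hk']; exact Units.ext (by simpa using hc1)
      have h2 : q - 1 ∣ k * ((q - 1) / r) := by
        have := orderOf_dvd_of_pow_eq_one h1
        rwa [orderOf_eq_card_of_forall_mem_zpowers ha, Nat.card_units, Nat.card_eq_fintype_card, hq] at this
      obtain ⟨w, hw⟩ := hr1
      rw [hw, Nat.mul_div_cancel_left _ hr.out.pos] at h2
      obtain ⟨l, rfl⟩ := Nat.dvd_of_mul_dvd_mul_right (show 0 < w by rcases w with _ | w <;> simp_all <;> omega) h2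
      exact h ((a : F) ^ l) (by
        rw [← pow_mul, mul_comm, ← Units.val_pow_eq_pow_val, hk', Units.val_mk0])
    · rintro hc1 b rfl
      apply hc1
      rw [← pow_mul, Nat.mul_div_cancel' hr1, ← hq]
      exact FiniteField.pow_card_sub_one_eq_one b fun hb => hc (by rw [hb, zero_pow hr.out.ne_zero])
  have key : ∀ w : F, w ≠ 0 → w ^ s = 1 → padicValNat r s + 1 ≤ padicValNat r (q - 1) → w ^ ((q - 1) / r) = 1 := by
    intro w hw hws hle
    have hq' : w ^ (q - 1) = 1 := hq ▸ FiniteField.pow_card_sub_one_eq_one w hw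
    refine orderOf_dvd_iff_pow_eq_one.1 ((Nat.dvd_gcd (orderOf_dvd_of_pow_eq_one hws)
      (orderOf_dvd_of_pow_eq_one hq')).trans ((Nat.dvd_div_iff_mul_dvd hr1).2 ?_))
    obtain ⟨c, g', hg', hgg⟩ := Nat.exists_eq_pow_mul_and_not_dvd
      (Nat.gcd_pos_of_pos_right s (show 0 < q - 1 by omega)).ne' r hr.out.ne_one
    have hc : c ≤ padicValNat r s :=
      (padicValNat_dvd_iff_le (by omega)).1 ((Dvd.intro g' hgg.symm).trans (Nat.gcd_dvd_left _ _))
    rw [hgg, ← mul_assoc, ← pow_succ']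
    exact (((hr.out.coprime_iff_not_dvd.2 hg').pow_left _).mul_dvd_of_dvd_of_dvd
      ((pow_dvd_pow r (by omega)).trans pow_padicValNat_dvd)
      ((Dvd.intro_left _ hgg.symm).trans (Nat.gcd_dvd_right _ _)))
  have build : padicValNat r (q - 1) ≤ padicValNat r s → ∃ w : F, w ≠ 0 ∧ w ^ s = 1 ∧ w ^ ((q - 1) / r) ≠ 1 := by
    intro hle
    set b := padicValNat r (q - 1)
    obtain ⟨a, ha⟩ := IsCyclic.exists_generator (α := Fˣ)
    have hoa : orderOf a = q - 1 := by
      rw [orderOf_eq_card_of_forall_mem_zpowers ha, Nat.card_units, Nat.card_eq_fintype_card, hq]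
    have hb : r ^ b ∣ orderOf a := hoa ▸ pow_padicValNat_dvd
    have hw : orderOf (a ^ (orderOf a / r ^ b)) = r ^ b := orderOf_pow_orderOf_div (orderOf_pos a).ne' hb
    refine ⟨((a ^ (orderOf a / r ^ b) : Fˣ) : F), Units.ne_zero _, ?_, fun h => ?_⟩
    · rw [← Units.val_pow_eq_pow_val, orderOf_dvd_iff_pow_eq_one.1
        (by rw [hw]; exact (pow_dvd_pow r hle).trans pow_padicValNat_dvd), Units.val_one]
    · rw [← Units.val_pow_eq_pow_val, Units.val_eq_one] at h
      have h1 := orderOf_dvd_of_pow_eq_one h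
      rw [hw, Nat.dvd_div_iff_mul_dvd hr1, ← pow_succ'] at h1
      exact pow_succ_padicValNat_not_dvd (by omega) h1
  have hneg : r = 2 → q % 4 = 1 → (-1 : F) ^ ((q - 1) / r) = 1 := by
    intro h h4
    subst h
    exact Even.neg_one_pow (Nat.even_iff.2 (by omega))
  rw [hv]
  by_cases h4 : r = 2 ∧ q % 4 ≠ 1
  · refine iff_of_true ⟨-1, by simp, ?_, ?_⟩ ?_
    · rw [hpow _ (by simp)]
      obtain ⟨h2, h4⟩ := h4
      subst h2
      have hodd' := hodd rfl
      rw [Odd.neg_one_pow (Nat.odd_iff.2 (by omega))]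
      have hF2 : ringChar F ≠ 2 := by rw [Ne, FiniteField.even_card_iff_char_two, hq]; omega
      exact Ring.neg_one_ne_one_of_char_ne_two hF2
    · rw [h4.1]; norm_num
    · rintro ⟨-, h⟩
      exact h4.2 (h h4.1 (by rw [h4.1]; exact even_two_mul s))
  have hsign : ∀ c : F, c ≠ 0 → ((-1) ^ (r + 1) * c) ^ ((q - 1) / r) = c ^ ((q - 1) / r) := by
    intro c _
    rcases hr.out.eq_two_or_odd' with h | h
    · rw [mul_pow, ← pow_mul, mul_comm (r + 1), pow_mul, hneg h (by by_contra hh; exact h4 ⟨h, hh⟩), one_pow, one_mul]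
    · rw [(Odd.add_one h).neg_one_pow, one_mul]
  constructor
  · rintro ⟨c, hc, hnp, hcs⟩ ⟨hle, -⟩
    rw [hpow c hc, ← hsign c hc] at hnp
    exact hnp (key _ (mul_ne_zero (pow_ne_zero _ (by simp)) hc) hcs hle)
  · intro h
    have hle : padicValNat r (q - 1) ≤ padicValNat r s := by
      by_contra hh
      exact h ⟨by omega, fun h2 _ => by by_contra h3; exact h4 ⟨h2, h3⟩⟩
    obtain ⟨w, hw, hws, hwn⟩ := build hle
    have hinv : (-1 : F) ^ (r + 1) * ((-1) ^ (r + 1) * w) = w := by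
      rw [← mul_assoc, ← pow_add, Even.neg_one_pow ⟨r + 1, rfl⟩, one_mul]
    have hne : (-1 : F) ^ (r + 1) * w ≠ 0 := mul_ne_zero (pow_ne_zero _ (by simp)) hw
    refine ⟨(-1) ^ (r + 1) * w, hne, ?_, by rw [hinv]; exact hws⟩
    rw [hpow _ hne, ← hsign _ hne, hinv]
    exact hwn

theorem coeff_zero_kummer {s : ℕ} (c : F) :
    ((X ^ r - Polynomial.C c) ^ s).coeff 0 = (-c) ^ s := by
  rw [← constantCoeff_apply, map_pow, constantCoeff_apply, coeff_sub, coeff_X_pow, coeff_C_zero,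
    if_neg hr.out.ne_zero.symm, zero_sub]

theorem exists_kummer {p : ℕ} [Fact p.Prime] [CharP F p] {c : F} (hc : c ≠ 0) (hnp : ∀ b : F, b ^ r ≠ c)
    {s : ℕ} (hs : 1 ≤ s) (hn : r * s = n) (hsign : ((-1) ^ (r + 1) * c) ^ s = 1) :
    ∃ x : Matrix.SpecialLinearGroup (Fin n) F,
      (x : Matrix (Fin n) (Fin n) F) ^ r = c • 1 ∧ (∀ z : F, (x : Matrix (Fin n) (Fin n) F) ≠ z • 1) ∧
      (x : Matrix (Fin n) (Fin n) F).charpoly = (X ^ r - Polynomial.C c) ^ s := by
  classical
  have hirr := X_pow_sub_C_irreducible_of_prime hr.out hnp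
  obtain ⟨A, hA, hAR⟩ := exists_realisation (p := p) (n := n)
    ((monic_X_pow_sub_C c hr.out.ne_zero).pow s)
    (by rw [natDegree_pow, natDegree_X_pow_sub_C, mul_comm, hn])
    (by rw [coeff_zero_kummer]; exact pow_ne_zero _ (neg_ne_zero.2 hc))
    (X_pow_sub_C_ne_zero hr.out.pos c) (fun f _ hi hd => hi.prime.dvd_of_dvd_pow hd)
  rw [map_sub, map_pow, aeval_X, aeval_C, sub_eq_zero, Algebra.algebraMap_eq_smul_one] at hAR
  have hdet : A.det = 1 := by
    rw [Matrix.det_eq_sign_charpoly_coeff, hA, coeff_zero_kummer, Fintype.card_fin, ← hn, pow_mul, ← mul_pow,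
      show (-1 : F) ^ r * -c = (-1) ^ (r + 1) * c by rw [pow_succ]; ring]
    exact hsign
  refine ⟨⟨A, hdet⟩, hAR, fun z hz => ?_, hA⟩
  have hz' : A = z • 1 := hz
  have h := hAR
  rw [hz', _root_.smul_pow, one_pow] at h
  haveI : Nonempty (Fin n) := ⟨⟨0, by rw [← hn]; exact Nat.mul_pos hr.out.pos hs⟩⟩
  exact hnp z (smul_left_injective F one_ne_zero h)

omit hr [Fintype F] in
theorem divisor_of_power {R D : F[X]} (hR : R.Monic) (hirr : Irreducible R) {s : ℕ} (hD : D.Monic)
    (hdvd : D ∣ R ^ s) : R.natDegree ∣ D.natDegree := by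
  obtain ⟨j, -, hj⟩ := (dvd_prime_pow hirr.prime s).1 hdvd
  rw [eq_of_monic_of_associated hD (hR.pow j) hj, natDegree_pow]
  exact Dvd.intro_left j rfl

/-- the general criterion: `Q` is a property of characteristic polynomials, `c₀ i ≤ n % i` the residue condition -/
theorem criterion {p : ℕ} [Fact p.Prime] [CharP F p] (hq : Fintype.card F = q) (hn : 1 ≤ n) (hrp : r ≠ p)
    (m : ℕ) (Q : F[X] → Prop) (c₀ : ℕ → ℕ) (hc₁ : c₀ 1 = 0) (hcm : ∀ i, i ∣ m → c₀ i = 0) (hcn : ∀ i, c₀ i ≤ n)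
    (hpos : ∀ P : F[X], P.Monic → P.natDegree = n → ∀ i, 1 ≤ i →
      (∀ g : F[X], g.Monic → Irreducible g → g ∣ P → g.natDegree = 1 ∨ g.natDegree = i) → c₀ i ≤ n % i → Q P)
    (hneg : ∀ (g : F[X]) (a f : ℕ), g.Monic → Irreducible g → g.eval 1 ≠ 0 → a * g.natDegree + f = n →
      f < c₀ g.natDegree → ¬ Q (g ^ a * (X - Polynomial.C 1) ^ f))
    (hneg' : ∀ (R : F[X]) (s : ℕ), R.Monic → Irreducible R → R.natDegree = r → ¬ r ∣ m → ¬ Q (R ^ s))
    (hΩ : ∀ i, orderOf (q : ZMod r) = i → 2 ≤ i → m < i → n % i < c₀ i) :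
    (∀ x : Matrix.SpecialLinearGroup (Fin n) F,
        (∃ c : F, (x : Matrix (Fin n) (Fin n) F) ^ r = c • (1 : Matrix (Fin n) (Fin n) F)) →
        (∀ c : F, (x : Matrix (Fin n) (Fin n) F) ≠ c • 1) → Q (x : Matrix (Fin n) (Fin n) F).charpoly) ↔
      ((orderOf (q : ZMod r) = 1 ∧ (r ∣ m ∨ (padicValNat r n ≤ padicValNat r (q - 1) ∧
          (r = 2 → Even n → q % 4 = 1)))) ∨
        (2 ≤ orderOf (q : ZMod r) ∧ orderOf (q : ZMod r) ≤ m ∧
          c₀ (orderOf (q : ZMod r)) ≤ n % orderOf (q : ZMod r))) := by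
  classical
  have hq1 : 1 ≤ q := hq ▸ Fintype.card_pos
  have hr0 : (r : F) ≠ 0 := fun e =>
    hrp ((Nat.prime_dvd_prime_iff_eq (Fact.out : p.Prime) hr.out).1 ((CharP.cast_eq_zero_iff F p r).1 e)).symm
  have hqr : (q : ZMod r) ≠ 0 := by
    intro h
    rw [ZMod.natCast_eq_zero_iff, ← hq] at h
    obtain ⟨e, -, he⟩ := FiniteField.card F p
    rw [he] at h
    exact hrp ((Nat.prime_dvd_prime_iff_eq hr.out Fact.out).1 (hr.out.dvd_of_dvd_pow h))
  obtain ⟨i, hi⟩ : ∃ i, orderOf (q : ZMod r) = i := ⟨_, rfl⟩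
  rw [hi]
  have hi0 : i ≠ 0 := by
    rw [← hi]
    exact (orderOf_pos_iff.2 (isOfFinOrder_iff_pow_eq_one.2
      ⟨r - 1, by have := hr.out.two_le; omega, ZMod.pow_card_sub_one_eq_one hqr⟩)).ne'
  have hi1 : i = 1 → r ∣ q - 1 := by
    intro h
    rw [h] at hi
    rw [← ZMod.natCast_eq_zero_iff, Nat.cast_sub hq1, Nat.cast_one, sub_eq_zero]
    simpa [hi] using pow_orderOf_eq_one (q : ZMod r)
  have hodd : i = 1 → r = 2 → q % 2 = 1 := by
    intro h h2
    have h' := hi1 h
    rw [h2] at h'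
    obtain ⟨w, hw⟩ := h'
    rcases Nat.even_or_odd q with he | he
    · obtain ⟨e, he⟩ := he; omega
    · exact Nat.odd_iff.1 he
  constructor
  · intro H
    by_cases h1 : i = 1
    · refine Or.inl ⟨h1, or_iff_not_imp_left.2 fun hrm => ?_⟩
      by_contra hcond
      by_cases hrn : r ∣ n
      · obtain ⟨s, rfl⟩ := hrn
        have hs : 1 ≤ s := by rcases s with _ | s <;> simp_all
        obtain ⟨c, hc, hnp, hsign⟩ := (nonpower_iff hq (hi1 h1) (hodd h1) hs).2 hcond
        obtain ⟨x, hx, hxs, hch⟩ := exists_kummer (p := p) hc hnp hs rfl hsign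
        have := H x ⟨c, hx⟩ hxs
        rw [hch] at this
        exact hneg' _ s (monic_X_pow_sub_C c hr.out.ne_zero) (X_pow_sub_C_irreducible_of_prime hr.out hnp)
          (natDegree_X_pow_sub_C) hrm this
      · refine hcond ⟨by rw [padicValNat.eq_zero_of_not_dvd hrn]; exact Nat.zero_le _, fun h2 he => ?_⟩
        subst h2
        exact absurd (even_iff_two_dvd.1 he) hrn
    · have h2 : 2 ≤ i := by omega
      have hle : c₀ i ≤ n % i := by
        by_contra hlt
        have hin : i ≤ n := by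
          by_contra h
          rw [Nat.mod_eq_of_lt (by omega)] at hlt
          exact hlt (hcn i)
        obtain ⟨x, g, hgm, hgi, hgd, hg1, hch, hx, hxs⟩ := exists_order (p := p) hq hrp hi h2
          (a := n / i) (f := n % i) (Nat.div_pos hin (by omega)) (Nat.div_add_mod' n i)
        have := H x ⟨1, by rw [hx, one_smul]⟩ hxs
        rw [hch] at this
        exact hneg g _ _ hgm hgi hg1 (by rw [hgd]; exact Nat.div_add_mod' n i) (by rw [hgd]; omega) this
      refine Or.inr ⟨h2, ?_, hle⟩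
      by_contra hm
      have := hΩ i hi h2 (by omega)
      omega
  · rintro H x ⟨c, hc⟩ hxs
    set A := (x : Matrix (Fin n) (Fin n) F) with hA
    have hdeg : A.charpoly.natDegree = n := by rw [Matrix.charpoly_natDegree_eq_dim, Fintype.card_fin]
    haveI : Nonempty (Fin n) := ⟨⟨0, hn⟩⟩
    have hc0 : c ≠ 0 := by
      intro h
      have h1 := congrArg Matrix.det hc
      rw [Matrix.det_pow, hA, x.2, one_pow, h, zero_smul, Matrix.det_zero] at h1
      exact one_ne_zero h1
    by_cases hcp : ∃ d : F, d ^ r = c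
    · obtain ⟨d, hd⟩ := hcp
      have hd0 : d ≠ 0 := fun h => hc0 (by rw [← hd, h, zero_pow hr.out.ne_zero])
      have hfac : ∀ g : F[X], g.Monic → Irreducible g → g ∣ A.charpoly → g.natDegree = 1 ∨ g.natDegree = i :=
        fun g hm hirr hdvd => degree_of_power hq hi hi0 hd0 hm hirr (hd ▸ annihilated hc hm hirr hdvd)
      refine hpos _ A.charpoly_monic hdeg i (by omega) hfac ?_
      rcases H with ⟨rfl, -⟩ | ⟨-, -, h⟩
      · rw [hc₁]; exact Nat.zero_le _
      · exact h
    push Not at hcp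
    have hfac : ∀ g : F[X], g.Monic → Irreducible g → g ∣ A.charpoly → g = X ^ r - Polynomial.C c :=
      fun g hm hirr hdvd => degree_of_nonpower hr.out hcp hm hirr (annihilated hc hm hirr hdvd)
    have h1 : i = 1 := by
      rcases H with ⟨h, -⟩ | ⟨h2, -, -⟩
      · exact h
      exfalso
      have hcop : (Nat.card Fˣ).Coprime r := by
        rw [Nat.coprime_comm, hr.out.coprime_iff_not_dvd, Nat.card_units, Nat.card_eq_fintype_card, hq,
          ← ZMod.natCast_eq_zero_iff, Nat.cast_sub hq1, Nat.cast_one, sub_eq_zero]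
        intro h
        rw [h, orderOf_one] at hi
        omega
      obtain ⟨d, hd⟩ := (powCoprime hcop).surjective (Units.mk0 c hc0)
      exact hcp (d : F) (by simpa [powCoprime] using congrArg Units.val hd)
    subst h1
    obtain ⟨-, hrm | hcond⟩ := H.resolve_right (fun h => by omega)
    · exact hpos _ A.charpoly_monic hdeg r hr.out.one_le
        (fun g hm hirr hdvd => Or.inr (by rw [hfac g hm hirr hdvd, natDegree_X_pow_sub_C]))
        (by rw [hcm r hrm]; exact Nat.zero_le _)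
    exfalso
    obtain ⟨s, hs⟩ : ∃ s, A.charpoly = (X ^ r - Polynomial.C c) ^ s := by
      refine ⟨Multiset.card (normalizedFactors A.charpoly), ?_⟩
      have hrep : normalizedFactors A.charpoly =
          Multiset.replicate (Multiset.card (normalizedFactors A.charpoly)) (X ^ r - Polynomial.C c) := by
        refine Multiset.eq_replicate_card.2 fun g hg => hfac g ?_ (irreducible_of_normalized_factor g hg)
          (dvd_of_mem_normalizedFactors hg)
        rw [← normalize_normalized_factor g hg]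
        exact monic_normalize (irreducible_of_normalized_factor g hg).ne_zero
      have h := prod_normalizedFactors A.charpoly_monic.ne_zero
      rw [hrep, Multiset.prod_replicate] at h
      exact (eq_of_monic_of_associated ((monic_X_pow_sub_C c hr.out.ne_zero).pow _) A.charpoly_monic h).symm
    have hns : r * s = n := by
      rw [← hdeg, hs, natDegree_pow, natDegree_X_pow_sub_C, mul_comm]
    have hs1 : 1 ≤ s := by rcases s with _ | s <;> simp_all
    refine (nonpower_iff hq (hi1 rfl) (hodd rfl) hs1).1 ⟨c, hc0, hcp, ?_⟩ (hns ▸ hcond)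
    have hdet := A.det_eq_sign_charpoly_coeff
    rw [hs, coeff_zero_kummer, Fintype.card_fin, show ((-1 : F)) ^ n = ((-1) ^ r) ^ s by rw [← pow_mul, hns],
      ← mul_pow,
      show (-1 : F) ^ r * -c = (-1) ^ (r + 1) * c by rw [pow_succ]; ring] at hdet
    rw [← hdet, hA, x.2]

/-- the criterion for subspaces -/
theorem space_criterion {p : ℕ} [Fact p.Prime] [CharP F p] (hq : Fintype.card F = q) {m : ℕ} (hm : 1 ≤ m)
    (hmn : 2 * m ≤ n) (hrΩ : r ∣ Nat.card {W : Submodule F (Fin n → F) // Module.finrank F ↥W = m}) :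
    (∀ x : Matrix.SpecialLinearGroup (Fin n) F,
        (∃ c : F, (x : Matrix (Fin n) (Fin n) F) ^ r = c • (1 : Matrix (Fin n) (Fin n) F)) →
        (∀ c : F, (x : Matrix (Fin n) (Fin n) F) ≠ c • 1) →
        ∃ W : Submodule F (Fin n → F), Module.finrank F ↥W = m ∧
          W.map (Matrix.toLin' (x : Matrix (Fin n) (Fin n) F)) ≤ W) ↔
      (r ≠ p ∧ ((orderOf (q : ZMod r) = 1 ∧ (r ∣ m ∨ (padicValNat r n ≤ padicValNat r (q - 1) ∧
          (r = 2 → Even n → q % 4 = 1)))) ∨
        (2 ≤ orderOf (q : ZMod r) ∧ orderOf (q : ZMod r) ≤ m ∧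
          m % orderOf (q : ZMod r) ≤ n % orderOf (q : ZMod r)))) := by
  have hq2 : 2 ≤ q := hq ▸ Fintype.one_lt_card
  have hcount := SubspaceCount.card_subspaces (F := F) (V := Fin n → F) (M := n - m) (k := m)
    (by rw [Module.finrank_fin_fun]; omega)
  rw [hq, Nat.sub_add_cancel (by omega : m ≤ n)] at hcount
  obtain ⟨j, hj1, hj2, hjr⟩ := SubspaceCount.exists_exponent hq2 hr.out (Nat.sub_le n m)
    (hrΩ.mul_right _) (dvd_of_eq hcount)
  have hrp : r ≠ p := by
    intro h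
    obtain ⟨e, -, he⟩ := FiniteField.card F p
    have h1 : r ∣ q ^ j := dvd_pow (by rw [← hq, he, h]; exact dvd_pow_self p e.pos.ne') (by omega)
    have h2 := Nat.dvd_sub h1 hjr
    rw [Nat.sub_sub_self (Nat.one_le_pow _ _ (by omega))] at h2
    exact hr.out.ne_one (Nat.dvd_one.1 h2)
  rw [and_iff_right hrp]
  simp only [InvCharpoly.exists_subspace_iff, Matrix.charpoly_toLin']
  refine criterion hq (by omega) hrp m (fun P => ∃ D : F[X], D.Monic ∧ D.natDegree = m ∧ D ∣ P) (fun i => m % i)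
    (Nat.mod_one m) (fun i => Nat.mod_eq_zero_of_dvd) (fun i => (Nat.mod_le m i).trans (by omega))
    (fun P hP hd i hi hdeg hmod => exists_divisor hP hd (by omega) hi hdeg hmod)
    (fun g a f hg hirr h1 _ hlt => no_divisor hg hirr h1 hlt) ?_ ?_
  · rintro R s hR hirr hdR hrm ⟨D, hD, hdD, hdvd⟩
    exact hrm (hdR ▸ hdD ▸ divisor_of_power hR hirr hD hdvd)
  · intro i hi h2 hlt
    show n % i < m % i
    rw [Nat.mod_eq_of_lt hlt]
    have hij : i ∣ j := by
      rw [← hi]
      apply orderOf_dvd_of_pow_eq_one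
      rwa [← ZMod.natCast_eq_zero_iff, Nat.cast_sub (Nat.one_le_pow _ _ (by omega)), Nat.cast_pow, Nat.cast_one,
        sub_eq_zero] at hjr
    obtain ⟨w, rfl⟩ := hij
    have hn' : n = (n - i * w) + i * w := by omega
    rw [hn', Nat.add_mul_mod_self_left]
    have := Nat.mod_le (n - i * w) i
    omega

/-- the criterion for flags -/
theorem flag_criterion {p : ℕ} [Fact p.Prime] [CharP F p] (hq : Fintype.card F = q) {m : ℕ} (hm : 1 ≤ m)
    (hmn : 2 * m < n) (hrΩ : r ∣ Nat.card {P : Submodule F (Fin n → F) × Submodule F (Fin n → F) //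
      P.1 ≤ P.2 ∧ Module.finrank F ↥P.1 = m ∧ Module.finrank F ↥P.2 = n - m}) :
    (∀ x : Matrix.SpecialLinearGroup (Fin n) F,
        (∃ c : F, (x : Matrix (Fin n) (Fin n) F) ^ r = c • (1 : Matrix (Fin n) (Fin n) F)) →
        (∀ c : F, (x : Matrix (Fin n) (Fin n) F) ≠ c • 1) →
        ∃ U W : Submodule F (Fin n → F), U ≤ W ∧ Module.finrank F ↥U = m ∧ Module.finrank F ↥W = n - m ∧
          U.map (Matrix.toLin' (x : Matrix (Fin n) (Fin n) F)) ≤ U ∧
          W.map (Matrix.toLin' (x : Matrix (Fin n) (Fin n) F)) ≤ W) ↔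
      (r ≠ p ∧ ((orderOf (q : ZMod r) = 1 ∧ (r ∣ m ∨ (padicValNat r n ≤ padicValNat r (q - 1) ∧
          (r = 2 → Even n → q % 4 = 1)))) ∨
        (2 ≤ orderOf (q : ZMod r) ∧ orderOf (q : ZMod r) ≤ m ∧
          2 * (m % orderOf (q : ZMod r)) ≤ n % orderOf (q : ZMod r)))) := by
  have hq2 : 2 ≤ q := hq ▸ Fintype.one_lt_card
  have hcount := SubspaceCount.card_flags (F := F) (V := Fin n → F) (m := m) (j := n - 2 * m)
    (by rw [Module.finrank_fin_fun]; omega)
  rw [hq, show m + (n - 2 * m) = n - m by omega, show 2 * m + (n - 2 * m) = n by omega, ← mul_assoc] at hcount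
  obtain ⟨j, hj1, hj2, hjr⟩ := SubspaceCount.exists_exponent hq2 hr.out (Nat.sub_le n (2 * m))
    (hrΩ.mul_right _) (dvd_of_eq hcount)
  have hrp : r ≠ p := by
    intro h
    obtain ⟨e, -, he⟩ := FiniteField.card F p
    have h1 : r ∣ q ^ j := dvd_pow (by rw [← hq, he, h]; exact dvd_pow_self p e.pos.ne') (by omega)
    have h2 := Nat.dvd_sub h1 hjr
    rw [Nat.sub_sub_self (Nat.one_le_pow _ _ (by omega))] at h2
    exact hr.out.ne_one (Nat.dvd_one.1 h2)
  rw [and_iff_right hrp]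
  simp only [InvCharpoly.exists_flag_iff _ (show m ≤ n - m by omega), Matrix.charpoly_toLin']
  refine criterion hq (by omega) hrp m
    (fun P => ∃ D E : F[X], D.Monic ∧ E.Monic ∧ D.natDegree = m ∧ D.natDegree + E.natDegree = n - m ∧ D * E ∣ P)
    (fun i => 2 * (m % i)) (by simp [Nat.mod_one]) (fun i h => by simp [Nat.mod_eq_zero_of_dvd h])
    (fun i => by have := Nat.mod_le m i; omega)
    (fun P hP hd i hi hdeg hmod => exists_flag_divisor hP hd (by omega) hi hdeg hmod)
    (fun g a f hg hirr h1 ha hlt => no_flag_divisor hg hirr h1 ha (by omega) hlt) ?_ ?_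
  · rintro R s hR hirr hdR hrm ⟨D, E, hD, -, hdD, -, hdvd⟩
    exact hrm (hdR ▸ hdD ▸ divisor_of_power hR hirr hD ((Dvd.intro E rfl).trans hdvd))
  · intro i hi h2 hlt
    show n % i < 2 * (m % i)
    rw [Nat.mod_eq_of_lt hlt]
    have hij : i ∣ j := by
      rw [← hi]
      apply orderOf_dvd_of_pow_eq_one
      rwa [← ZMod.natCast_eq_zero_iff, Nat.cast_sub (Nat.one_le_pow _ _ (by omega)), Nat.cast_pow, Nat.cast_one,
        sub_eq_zero] at hjr
    obtain ⟨w, rfl⟩ := hij
    have hn' : n = (n - i * w) + i * w := by omega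
    rw [hn', Nat.add_mul_mod_self_left]
    have := Nat.mod_le (n - i * w) i
    omega

end Cfsg.Agent.SubspaceDerange
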