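import Cfsg.Agent.Lib.Classical.SympNondegDerange
import Cfsg.Agent.Lib.Classical.PermutedDecomposition

/-! Elements of odd prime order of symplectic groups stabilizing orthogonal decompositions into equal summands. -/

set_option autoImplicit false
set_option linter.unusedSectionVars false

namespace Cfsg.Agent.SympDecompDerange

open Polynomial Matrix Module Cfsg.Agent.SelfReciprocalFactors Cfsg.Agent.SelfRecipDivisors
  Cfsg.Agent.UnitaryDetCentralizer Cfsg.Agent.SympIsoDerange Cfsg.Agent.SympNondegCount Cfsg.Agent.SympNondegDecomp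

variable {F : Type*} [Field F] {d t a : ℕ}

/-- An orthogonal family of non-degenerate summands of dimension `a`. -/
def IsODec (d a : ℕ) (D : Fin t → Submodule F (Fin d ⊕ Fin d → F)) : Prop :=
  (∀ j, finrank F (D j) = a) ∧ (∀ j, Nd (Classical.sympB d F) (D j)) ∧
    ∀ j j', j ≠ j' → ∀ u ∈ D j, ∀ v ∈ D j', Classical.sympB d F u v = 0

/-- The sum map. -/
def sumMap (D : Fin t → Submodule F (Fin d ⊕ Fin d → F)) : (∀ j, D j) →ₗ[F] (Fin d ⊕ Fin d → F) :=
  ∑ j, (D j).subtype ∘ₗ LinearMap.proj j

theorem sumMap_apply (D : Fin t → Submodule F (Fin d ⊕ Fin d → F)) (y : ∀ j, D j) :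
    sumMap D y = ∑ j, (y j).1 := by simp [sumMap]

theorem pair_sumMap {D : Fin t → Submodule F (Fin d ⊕ Fin d → F)} (hD : IsODec d a D) (y : ∀ j, D j) {k : Fin t}
    {w : Fin d ⊕ Fin d → F} (hw : w ∈ D k) :
    Classical.sympB d F (sumMap D y) w = Classical.sympB d F (y k).1 w := by
  rw [sumMap_apply, map_sum, LinearMap.sum_apply]
  exact Finset.sum_eq_single k (fun j _ hj => hD.2.2 j k hj _ (y j).2 _ hw) fun h => absurd (Finset.mem_univ k) h

theorem sumMap_injective {D : Fin t → Submodule F (Fin d ⊕ Fin d → F)} (hD : IsODec d a D) :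
    Function.Injective (sumMap D) := by
  refine (injective_iff_map_eq_zero _).2 fun y hy => funext fun k => Subtype.ext ?_
  by_contra hne
  obtain ⟨w, hw, h⟩ := hD.2.1 k _ (y k).2 hne
  exact h (by rw [← pair_sumMap hD y hw, hy, map_zero, LinearMap.zero_apply])

theorem indep_top {D : Fin t → Submodule F (Fin d ⊕ Fin d → F)} (hD : IsODec d a D) (hat : 2 * d = a * t) :
    iSupIndep D ∧ iSup D = ⊤ := by
  refine ⟨fun j => ?_, ?_⟩
  · rw [Submodule.disjoint_def]
    intro v hv hv'
    by_contra hne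
    obtain ⟨w, hw, h⟩ := hD.2.1 j v hv hne
    have hle : (⨆ (k : Fin t) (_ : k ≠ j), D k) ≤ LinearMap.ker ((Classical.sympB d F).flip w) :=
      iSup₂_le fun k hk u hu => LinearMap.mem_ker.2 (hD.2.2 k j hk u hu w hw)
    exact h (LinearMap.mem_ker.1 (hle hv'))
  · refine top_le_iff.1 (le_trans ?_ (show LinearMap.range (sumMap D) ≤ iSup D from ?_))
    · rw [Submodule.eq_top_of_finrank_eq (S := LinearMap.range (sumMap D))]
      rw [LinearMap.finrank_range_of_inj (sumMap_injective hD), Module.finrank_pi_fintype, Module.finrank_pi,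
        Fintype.card_sum, Fintype.card_fin]
      simp only [hD.1, Finset.sum_const, Finset.card_univ, Fintype.card_fin, smul_eq_mul]
      rw [mul_comm t a]; omega
    · rintro _ ⟨y, rfl⟩
      rw [sumMap_apply]
      exact Submodule.sum_mem _ fun j _ => le_iSup D j (y j).2

variable {r i s : ℕ}

/-- A model with every summand fixed. -/
def Dec (F : Type*) [Field F] (r a k : ℕ) (P : F[X]) : Prop :=
  ∃ (e : ℕ) (x : Matrix.symplecticGroup (Fin e) F) (D : Fin k → Submodule F (Fin e ⊕ Fin e → F)),
    x ^ r = 1 ∧ P.natDegree = 2 * e ∧ x.1.charpoly = P ∧ 2 * e = a * k ∧ IsODec e a D ∧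
      ∀ j, ∀ w ∈ D j, x.1 *ᵥ w ∈ D j

theorem dec_zero : Dec F r a 0 1 :=
  ⟨0, 1, fun j => j.elim0, one_pow r, by simp, by rw [OneMemClass.coe_one, Matrix.charpoly_one]; simp, by simp,
    ⟨fun j => j.elim0, fun j => j.elim0, fun j => j.elim0⟩, fun j => j.elim0⟩

theorem dec_cons {k : ℕ} {R P : F[X]} (hR : SympPrimeOrderClasses.Real F r R) (hRd : R.natDegree = a)
    (hP : Dec F r a k P) : Dec F r a (k + 1) (R * P) := by
  obtain ⟨e₁, x₁, hx₁, hd₁, hP₁⟩ := hR
  obtain ⟨e₂, x₂, D, hx₂, hd₂, hP₂, hk, hD, hinv⟩ := hP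
  let ι₂ : (Fin e₂ ⊕ Fin e₂ → F) →ₗ[F] (Fin (e₁ + e₂) ⊕ Fin (e₁ + e₂) → F) :=
    (pairEquiv (F := F) e₁ e₂).toLinearMap ∘ₗ LinearMap.inr F _ _
  have hι₂ : ∀ v, ι₂ v = pairEquiv e₁ e₂ ((0 : Fin e₁ ⊕ Fin e₁ → F), v) := fun v => rfl
  have hι₂i : Function.Injective ι₂ := (pairEquiv (F := F) e₁ e₂).injective.comp LinearMap.inr_injective
  obtain ⟨hLd, hLn⟩ := left_props (F := F) e₁ e₂
  refine ⟨e₁ + e₂, Classical.sympBlock e₁ e₂ (x₁, x₂), Fin.cons (leftSpace F e₁ e₂) fun j => (D j).map ι₂, ?_, ?_, ?_,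
    ?_, ⟨?_, ?_, ?_⟩, ?_⟩
  · rw [← map_pow, Prod.pow_mk, hx₁, hx₂, ← Prod.one_eq_mk, map_one]
  · rw [← hP₁, ← hP₂, Polynomial.natDegree_mul (Matrix.charpoly_monic _).ne_zero (Matrix.charpoly_monic _).ne_zero,
      hP₁, hP₂, hd₁, hd₂, mul_add]
  · show (Classical.blockMat _ _).charpoly = _
    rw [Classical.blockMat, ← Matrix.reindex_apply, Matrix.charpoly_reindex, Matrix.charpoly_fromBlocks_zero₁₂,
      hP₁, hP₂]
  · rw [mul_add, hk, ← hd₁, hRd]; ring
  · intro j
    induction j using Fin.cases with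
    | zero => rw [Fin.cons_zero, hLd, ← hd₁, hRd]
    | succ j => rw [Fin.cons_succ, ← (Submodule.equivMapOfInjective ι₂ hι₂i (D j)).finrank_eq, hD.1 j]
  · intro j
    induction j using Fin.cases with
    | zero => rw [Fin.cons_zero]; exact hLn
    | succ j =>
      rw [Fin.cons_succ]
      rintro _ ⟨v, hv, rfl⟩ hv0
      obtain ⟨w, hw, h⟩ := hD.2.1 j v hv fun e => hv0 (by rw [e, map_zero])
      refine ⟨_, ⟨w, hw, rfl⟩, ?_⟩
      rw [Classical.sympB_apply, hι₂, hι₂, sympForm_pair, Classical.sympForm_zero_left, zero_add]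
      rwa [Classical.sympB_apply] at h
  · intro j j' hne
    induction j using Fin.cases with
    | zero =>
      induction j' using Fin.cases with
      | zero => exact absurd rfl hne
      | succ j' =>
        rw [Fin.cons_zero, Fin.cons_succ]
        rintro u hu _ ⟨v, -, rfl⟩
        obtain ⟨u, rfl⟩ := mem_left.1 hu
        rw [Classical.sympB_apply, hι₂, sympForm_pair, Classical.sympForm_zero_left, Classical.sympForm_zero_right,
          add_zero]
    | succ j =>
      induction j' using Fin.cases with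
      | zero =>
        rw [Fin.cons_zero, Fin.cons_succ]
        rintro _ ⟨v, -, rfl⟩ u hu
        obtain ⟨u, rfl⟩ := mem_left.1 hu
        rw [Classical.sympB_apply, hι₂, sympForm_pair, Classical.sympForm_zero_left, Classical.sympForm_zero_right,
          add_zero]
      | succ j' =>
        rw [Fin.cons_succ, Fin.cons_succ]
        rintro _ ⟨u, hu, rfl⟩ _ ⟨v, hv, rfl⟩
        rw [Classical.sympB_apply, hι₂, hι₂, sympForm_pair, Classical.sympForm_zero_left, zero_add]
        rw [← Classical.sympB_apply]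
        exact hD.2.2 j j' (fun e => hne (by rw [e])) u hu v hv
  · intro j
    induction j using Fin.cases with
    | zero =>
      rw [Fin.cons_zero]
      intro w hw
      obtain ⟨u, rfl⟩ := mem_left.1 hw
      rw [mulVec_block, Matrix.mulVec_zero]
      exact mem_left.2 ⟨_, rfl⟩
    | succ j =>
      rw [Fin.cons_succ]
      rintro _ ⟨v, hv, rfl⟩
      refine ⟨_, hinv j v hv, ?_⟩
      rw [hι₂, hι₂, mulVec_block, Matrix.mulVec_zero]

variable [Fintype F]

theorem dec_of_basics (h : Ctx F r i s) (hae : Even a) : ∀ (k : ℕ) (N : Multiset F[X]) (j : ℕ),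
    (∀ u ∈ N, u ∈ basics F r i) → N.card ≤ k * (a / basicDeg i) → basicDeg i * N.card + 2 * j = a * k →
    Dec F r a k (N.prod * (X - Polynomial.C 1) ^ (2 * j)) := by
  classical
  intro k
  induction k with
  | zero =>
    intro N j _ hle heq
    rw [zero_mul, Nat.le_zero, Multiset.card_eq_zero] at hle
    subst hle
    rw [mul_zero, Multiset.card_zero] at heq
    rw [show j = 0 by omega, mul_zero, pow_zero, mul_one, Multiset.prod_zero]
    exact dec_zero
  | succ k ih =>
    intro N j hN hle heq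
    obtain ⟨hh, hhe⟩ := even_basicDeg i
    obtain ⟨a₂, ha₂⟩ := hae
    set e := min N.card (a / basicDeg i)
    have heM : basicDeg i * e ≤ a := (Nat.mul_le_mul_left _ (min_le_right _ _)).trans (Nat.mul_div_le _ _)
    obtain ⟨l, hl⟩ : ∃ l, a = basicDeg i * e + 2 * l :=
      ⟨a₂ - hh * e, by rw [hhe, add_mul] at heM ⊢; omega⟩
    set N₁ : Multiset F[X] := ↑(N.toList.take e) with hN₁def
    set N₂ : Multiset F[X] := ↑(N.toList.drop e) with hN₂def
    have hsplit : N = N₁ + N₂ := by
      rw [hN₁def, hN₂def, Multiset.coe_add, List.take_append_drop, Multiset.coe_toList]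
    have hm₁ : ∀ u ∈ N₁, u ∈ basics F r i := fun u hu => hN u (hsplit ▸ Multiset.mem_add.2 (Or.inl hu))
    have hm₂ : ∀ u ∈ N₂, u ∈ basics F r i := fun u hu => hN u (hsplit ▸ Multiset.mem_add.2 (Or.inr hu))
    have hc₁ : N₁.card = e := by
      rw [hN₁def, Multiset.coe_card, List.length_take, Multiset.length_toList]
      exact min_eq_left (min_le_left _ _)
    have hc₂ : N₂.card = N.card - e := by
      rw [hN₂def, Multiset.coe_card, List.length_drop, Multiset.length_toList]
    have hle₂ : N₂.card ≤ k * (a / basicDeg i) := by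
      rw [hc₂]
      rw [Nat.succ_mul] at hle
      rcases le_total N.card (a / basicDeg i) with h' | h'
      · rw [show e = N.card from min_eq_left h']; omega
      · rw [show e = a / basicDeg i from min_eq_right h']; omega
    have eA : basicDeg i * N.card = basicDeg i * e + basicDeg i * N₂.card := by
      rw [← Nat.mul_add, hc₂, Nat.add_sub_cancel' (min_le_left _ _)]
    have hak : a * (k + 1) = a * k + a := Nat.mul_succ a k
    have hlj : l ≤ j := by
      have h1 := Nat.mul_le_mul_left (basicDeg i) hle₂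
      have h3 : basicDeg i * (k * (a / basicDeg i)) ≤ a * k := by
        calc basicDeg i * (k * (a / basicDeg i)) = (basicDeg i * (a / basicDeg i)) * k := by ring
          _ ≤ _ := Nat.mul_le_mul_right k (Nat.mul_div_le a _)
      omega
    have h₁ := mem_selfRecip h hm₁ (2 * l)
    rw [hc₁, show basicDeg i * e + 2 * l = 2 * a₂ by omega] at h₁
    have hrec := ih N₂ (j - l) hm₂ hle₂ (by omega)
    have := dec_cons (SympPrimeOrderClasses.real_selfRecip h h₁) (h₁.2.1.trans (by omega)) hrec
    rwa [mul_mul_mul_comm, ← Multiset.prod_add, ← hsplit, ← pow_add, show 2 * l + 2 * (j - l) = 2 * j by omega] at this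

theorem map_isODec {D : Fin t → Submodule F (Fin d ⊕ Fin d → F)} (hD : IsODec d a D)
    (g : Matrix.symplecticGroup (Fin d) F) : IsODec d a fun j => (D j).map (Matrix.toLin' g.1) := by
  refine ⟨fun j => (Submodule.equivMapOfInjective _ (sp_injective g) _).finrank_eq.symm.trans (hD.1 j), ?_, ?_⟩
  · rintro j _ ⟨w, hw, rfl⟩ hw0
    obtain ⟨v, hv, h⟩ := hD.2.1 j w hw fun e => hw0 (by rw [e, map_zero])
    refine ⟨_, ⟨v, hv, rfl⟩, ?_⟩
    rw [Classical.sympB_apply, Matrix.toLin'_apply, Matrix.toLin'_apply, Classical.sympForm_map]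
    rwa [Classical.sympB_apply] at h
  · rintro j j' hne _ ⟨u, hu, rfl⟩ _ ⟨v, hv, rfl⟩
    rw [Classical.sympB_apply, Matrix.toLin'_apply, Matrix.toLin'_apply, Classical.sympForm_map, ← Classical.sympB_apply]
    exact hD.2.2 j j' hne u hu v hv

/-- The group is transitive on the ordered decompositions. -/
theorem exists_move (hat : 2 * d = a * t) (hae : Even a) {D D' : Fin t → Submodule F (Fin d ⊕ Fin d → F)}
    (hD : IsODec d a D) (hD' : IsODec d a D') :
    ∃ g : Matrix.symplecticGroup (Fin d) F, ∀ j, (D j).map (Matrix.toLin' g.1) = D' j := by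
  classical
  obtain ⟨b, hb⟩ := hae
  set B := Classical.sympB d F
  have hA : B.IsAlt := fun v => by rw [Classical.sympB_apply, Classical.sympForm_self]
  have hcoord : ∀ (E : Fin t → Submodule F (Fin d ⊕ Fin d → F)), IsODec d a E → ∀ j,
      ∃ L : (Fin b ⊕ Fin b → F) ≃ₗ[F] E j, ∀ u v, B (L u).1 (L v).1 = sympForm b F u v := fun E hE j => by
    obtain ⟨L, hL⟩ := Classical.exists_symp_coords (B.restrict (E j)) (fun v => hA v.1) (fun v hv => by
      by_contra hne
      obtain ⟨u, hu, h⟩ := hE.2.1 j v.1 v.2 fun e => hne (Subtype.ext e)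
      exact h (hv ⟨u, hu⟩)) (e := b) (by rw [hE.1 j, hb, two_mul])
    exact ⟨L, hL⟩
  choose L hL using hcoord D hD
  choose L' hL' using hcoord D' hD'
  have hdim : finrank F (∀ j, D j) = finrank F (Fin d ⊕ Fin d → F) := by
    rw [Module.finrank_pi_fintype, Module.finrank_pi, Fintype.card_sum, Fintype.card_fin]
    simp only [hD.1, Finset.sum_const, Finset.card_univ, Fintype.card_fin, smul_eq_mul]
    rw [mul_comm t a]; omega
  let e₀ : (∀ j, D j) ≃ₗ[F] (Fin d ⊕ Fin d → F) :=
    LinearEquiv.ofBijective (sumMap D) ⟨sumMap_injective hD,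
      (LinearMap.injective_iff_surjective_of_finrank_eq_finrank hdim).1 (sumMap_injective hD)⟩
  let T : (Fin d ⊕ Fin d → F) →ₗ[F] (Fin d ⊕ Fin d → F) :=
    sumMap D' ∘ₗ (LinearEquiv.piCongrRight fun j => (L j).symm.trans (L' j)).toLinearMap ∘ₗ e₀.symm.toLinearMap
  have hT : ∀ y, T (sumMap D y) = sumMap D' fun j => L' j ((L j).symm (y j)) := fun y => by
    show sumMap D' (LinearEquiv.piCongrRight (fun j => (L j).symm.trans (L' j)) (e₀.symm (e₀ y))) = _
    rw [e₀.symm_apply_apply]
    rfl
  have hform : ∀ (E : Fin t → Submodule F (Fin d ⊕ Fin d → F)), IsODec d a E → ∀ y z : ∀ j, E j,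
      B (sumMap E y) (sumMap E z) = ∑ j, B (y j).1 (z j).1 := fun E hE y z => by
    rw [sumMap_apply E z, map_sum]
    exact Finset.sum_congr rfl fun j _ => pair_sumMap hE y (z j).2
  have hmem : LinearMap.toMatrix' T ∈ Matrix.symplecticGroup (Fin d) F :=
    Classical.mem_symplecticGroup_iff_form.2 fun u v => by
      obtain ⟨y, rfl⟩ := e₀.surjective u
      obtain ⟨z, rfl⟩ := e₀.surjective v
      show sympForm d F (LinearMap.toMatrix' T *ᵥ sumMap D y) (LinearMap.toMatrix' T *ᵥ sumMap D z) =
        sympForm d F (sumMap D y) (sumMap D z)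
      rw [LinearMap.toMatrix'_mulVec, LinearMap.toMatrix'_mulVec, hT, hT, ← Classical.sympB_apply,
        ← Classical.sympB_apply, hform D' hD', hform D hD]
      refine Finset.sum_congr rfl fun j _ => ?_
      rw [hL']
      conv_rhs => rw [← (L j).apply_symm_apply (y j), ← (L j).apply_symm_apply (z j), hL]
  refine ⟨⟨_, hmem⟩, fun j => Submodule.eq_of_le_of_finrank_eq ?_ ?_⟩
  · rintro _ ⟨w, hw, rfl⟩
    have hw' : w = sumMap D (Pi.single j ⟨w, hw⟩) := by
      rw [sumMap_apply, Finset.sum_eq_single j (fun k _ hk => by rw [Pi.single_eq_of_ne hk]; rfl)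
        (fun h => absurd (Finset.mem_univ j) h), Pi.single_eq_same]
    show Matrix.toLin' (LinearMap.toMatrix' T) w ∈ D' j
    rw [Matrix.toLin'_toMatrix', hw', hT, sumMap_apply]
    refine Submodule.sum_mem _ fun k _ => ?_
    rcases eq_or_ne k j with rfl | hk
    · exact (L' k _).2
    · rw [Pi.single_eq_of_ne hk, map_zero, map_zero, ZeroMemClass.coe_zero]; exact Submodule.zero_mem _
  · rw [hD'.1 j, ← hD.1 j]
    exact (Submodule.equivMapOfInjective _ (sp_injective ⟨_, hmem⟩) _).finrank_eq.symm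

/-- A decomposition exists. -/
theorem exists_std (b t : ℕ) :
    ∃ E : Fin t → Submodule F (Fin (b * t) ⊕ Fin (b * t) → F), IsODec (b * t) (b + b) E := by
  have key : ∀ k, Dec F 1 (b + b) k ((X - Polynomial.C 1) ^ (k * (b + b))) := fun k => by
    induction k with
    | zero => simpa using dec_zero (F := F) (r := 1) (a := b + b)
    | succ k ih =>
      have := dec_cons (SympPrimeOrderClasses.real_one_pow (F := F) 1 b)
        (by rw [natDegree_pow, natDegree_X_sub_C, mul_one, two_mul]) ih
      rwa [← pow_add, show 2 * b + k * (b + b) = (k + 1) * (b + b) by ring] at this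
  obtain ⟨e, x, D, -, -, -, he, hD, -⟩ := key t
  obtain rfl : e = b * t := by
    have : (b + b) * t = 2 * (b * t) := by ring
    omega
  exact ⟨D, hD⟩

/-- A prime dividing the number of unordered decompositions divides the group order. -/
theorem dvd_card_group (hat : 2 * d = a * t) (ha : 0 < a) (hae : Even a) {r : ℕ} (hr : r.Prime)
    (h : r ∣ Nat.card {D : Fin t → Submodule F (Fin d ⊕ Fin d → F) // IsODec d a D} / Nat.factorial t) :
    r ∣ Nat.card (Matrix.symplecticGroup (Fin d) F) := by
  classical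
  haveI : Finite (Submodule F (Fin d ⊕ Fin d → F)) := Finite.of_injective SetLike.coe SetLike.coe_injective
  set S := {D : Fin t → Submodule F (Fin d ⊕ Fin d → F) // IsODec d a D}
  haveI := Fintype.ofFinite S
  rcases isEmpty_or_nonempty S with hS | ⟨⟨D₀⟩⟩
  · exfalso
    obtain ⟨b, hb⟩ := hae
    have hbd : d = b * t := by
      rw [hb] at hat
      have : (b + b) * t = 2 * (b * t) := by ring
      omega
    obtain ⟨E, hE⟩ := exists_std (F := F) b t
    subst hbd
    exact hS.false ⟨E, by rw [hb]; exact hE⟩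
  have hinj : ∀ D : S, Function.Injective D.1 := fun D j j' e => by
    by_contra hne
    obtain ⟨w, hw, hw0⟩ := Submodule.exists_mem_ne_zero_of_ne_bot (p := D.1 j) fun e' => by
      have := D.2.1 j; rw [e', finrank_bot] at this; omega
    exact hw0 (Submodule.disjoint_def.1 ((indep_top D.2 hat).1.pairwiseDisjoint hne) w hw (e ▸ hw))
  have hfac : Nat.factorial t ∣ Nat.card S := by
    let f : S → Finset (Submodule F (Fin d ⊕ Fin d → F)) := fun D => Finset.univ.image D.1
    haveI := Fintype.ofFinite (Set.range f)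
    rw [← Nat.card_congr (Equiv.sigmaFiberEquiv (Set.rangeFactorization f)), Nat.card_sigma]
    refine Finset.dvd_sum fun Y _ => dvd_of_eq ?_
    obtain ⟨_, D, rfl⟩ := Y
    rw [show Nat.factorial t = Nat.card (Equiv.Perm (Fin t)) by
      rw [Nat.card_eq_fintype_card, Fintype.card_perm, Fintype.card_fin]]
    refine Nat.card_congr (Equiv.ofBijective (fun σ : Equiv.Perm (Fin t) =>
      (⟨⟨D.1 ∘ σ, fun j => D.2.1 _, fun j => D.2.2.1 _, fun j j' hne => D.2.2.2 _ _ (σ.injective.ne hne)⟩,
        Subtype.ext (Finset.ext fun U => ?_)⟩ :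
        {D' : S // Set.rangeFactorization f D' = ⟨f D, D, rfl⟩})) ⟨fun σ τ e => ?_, fun D' => ?_⟩)
    · simp only [Set.rangeFactorization, f, Finset.mem_image, Finset.mem_univ, true_and, Function.comp_apply]
      exact ⟨fun ⟨j, hj⟩ => ⟨σ j, hj⟩, fun ⟨j, hj⟩ => ⟨σ.symm j, by rw [σ.apply_symm_apply]; exact hj⟩⟩
    · exact Equiv.ext fun j => hinj D (congrFun (congrArg (fun z => z.1.1) e) j)
    · obtain ⟨D', hD'⟩ := D'
      have hY : f D' = f D := congrArg Subtype.val hD'
      have : ∀ j, ∃ k, D.1 k = D'.1 j := fun j => by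
        have hm : D'.1 j ∈ f D := hY ▸ Finset.mem_image.2 ⟨j, Finset.mem_univ _, rfl⟩
        obtain ⟨k, -, hk⟩ := Finset.mem_image.1 hm
        exact ⟨k, hk⟩
      choose σ hσ using this
      have hσi : Function.Injective σ := fun j j' e => hinj D' (by rw [← hσ, ← hσ, e])
      exact ⟨Equiv.ofBijective σ ⟨hσi, Finite.surjective_of_injective hσi⟩,
        Subtype.ext (Subtype.ext (funext fun j => hσ j))⟩
  have hN : r ∣ Nat.card S := h.trans (Nat.div_dvd_of_dvd hfac)
  refine hN.trans ?_
  let f : Matrix.symplecticGroup (Fin d) F → S := fun g => ⟨_, map_isODec D₀.2 g⟩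
  refine ⟨Nat.card {g // f g = D₀}, ?_⟩
  have hfib : ∀ D : S, Nat.card {g // f g = D} = Nat.card {g // f g = D₀} := fun D => by
    obtain ⟨u, hu⟩ := exists_move hat hae D₀.2 D.2
    refine (Nat.card_congr (Equiv.subtypeEquiv (Equiv.mulLeft u) fun g => ?_)).symm
    have hmul : f (u * g) = ⟨_, map_isODec (f g).2 u⟩ := Subtype.ext (funext fun j => by
      show (D₀.1 j).map (Matrix.toLin' (u * g).1) = ((D₀.1 j).map (Matrix.toLin' g.1)).map (Matrix.toLin' u.1)
      rw [Submonoid.coe_mul, Matrix.toLin'_mul, Submodule.map_comp])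
    rw [Equiv.coe_mulLeft, hmul]
    refine ⟨fun e => Subtype.ext (funext fun j => ?_), fun e => Subtype.ext (funext fun j => ?_)⟩
    · show ((f g).1 j).map (Matrix.toLin' u.1) = D.1 j
      rw [e]; exact hu j
    · have h1 : ((f g).1 j).map (Matrix.toLin' u.1) = D.1 j := congrFun (congrArg Subtype.val e) j
      rw [← hu j] at h1
      exact Submodule.map_injective_of_injective (sp_injective u) h1
  rw [← Nat.card_congr (Equiv.sigmaFiberEquiv f), Nat.card_sigma, Finset.sum_congr rfl fun D _ => hfib D,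
    Finset.sum_const, Finset.card_univ, Nat.card_eq_fintype_card (α := S), smul_eq_mul]

variable {p : ℕ} [Fact p.Prime] [CharP F p]

/-- The criterion. -/
theorem criterion (h : Ctx F r i s) (hrp : r ≠ p) (hd : 1 ≤ d) (hat : 2 * d = a * t) (ha : 2 ≤ a) (hae : Even a)
    (hcd : basicDeg i ≤ 2 * d) :
    (∀ x : Matrix.symplecticGroup (Fin d) F, (∃ z : F, x.1 ^ r = z • 1) → (∀ z : F, x.1 ≠ z • 1) →
      ∃ D : Fin t → Submodule F (Fin d ⊕ Fin d → F), IsODec d a D ∧
        ∃ σ : Equiv.Perm (Fin t), ∀ j, (D j).map (Matrix.toLin' x.1) = D (σ j)) ↔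
      2 * d / basicDeg i ≤ t * (a / basicDeg i) := by
  classical
  have hc0 := basicDeg_pos h
  have hcop : ∀ g : Matrix.symplecticGroup (Fin d) F, g ^ r = 1 → (orderOf g).Coprime p := fun g hg =>
    ((Nat.coprime_primes h.prime Fact.out).2 hrp).coprime_dvd_left (orderOf_dvd_of_pow_eq_one hg)
  constructor
  · intro H
    by_contra hbad
    rw [not_le] at hbad
    obtain ⟨f, hf⟩ : (factorSet F r).Nonempty := by
      rw [← Finset.card_pos, card_factorSet h]
      rcases Nat.eq_zero_or_pos s with rfl | hs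
      · have := h.ht; have := h.prime.two_le; have := h.odd; omega
      · exact hs
    obtain ⟨K, hK1, hKd, hKbad⟩ : ∃ K, 1 ≤ K ∧ basicDeg i * K ≤ 2 * d ∧
        ((a < basicDeg i ∧ K = 1) ∨ (basicDeg i ≤ a ∧ 2 * d - basicDeg i * K < basicDeg i)) := by
      by_cases hlt : a < basicDeg i
      · exact ⟨1, le_rfl, by omega, Or.inl ⟨hlt, rfl⟩⟩
      · refine ⟨2 * d / basicDeg i, (Nat.one_le_div_iff hc0).2 hcd, Nat.mul_div_le _ _, Or.inr ⟨by omega, ?_⟩⟩
        have := Nat.div_add_mod (2 * d) (basicDeg i)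
        have := Nat.mod_lt (2 * d) hc0
        omega
    set N := Multiset.replicate K (basic i f)
    have hN : ∀ u ∈ N, u ∈ basics F r i := fun u hu => by
      rw [Multiset.eq_of_mem_replicate hu]; exact mem_basics.2 ⟨f, hf, rfl⟩
    have hP := mem_selfRecip h hN (2 * d - basicDeg i * K)
    rw [Multiset.card_replicate, Nat.add_sub_cancel' hKd] at hP
    obtain ⟨e, x, hx, hxd, hxP⟩ := SympPrimeOrderClasses.real_selfRecip h hP
    obtain rfl : e = d := by have := hP.2.1; omega
    set g : Module.End F (Fin e ⊕ Fin e → F) := Matrix.toLinAlgEquiv' x.1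
    have hgr : g ^ r = 1 := by
      rw [← map_pow, ← SubmonoidClass.coe_pow, hx, OneMemClass.coe_one, map_one]
    have hker : finrank F (LinearMap.ker (g - 1)) = 2 * e - basicDeg i * K := by
      rw [← PermutedDecomposition.rootMultiplicity_eq g h.ne hgr,
        show g.charpoly = x.1.charpoly from Matrix.charpoly_toLin' _, hxP,
        rootMultiplicity_mul_X_sub_C_pow (basic_monic h hN).1.ne_zero,
        rootMultiplicity_eq_zero (fun e => (basic_monic h hN).2.2 e), zero_add]
    have hck : basicDeg i ≤ basicDeg i * K := Nat.le_mul_of_pos_right _ hK1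
    have hns : ∀ z : F, x.1 ≠ z • 1 := fun z hz => by
      have hz1 : z = 1 := by
        rcases SympIsoDerange.exists_normalise.sq_eq_one_cases (r := 1) hd (x := x) (z := z) (by rw [pow_one, hz]) with
          e' | e'
        · exact e'
        · have h1 : x.1 ^ r = 1 := by rw [← SubmonoidClass.coe_pow, hx]; rfl
          rw [hz, e', neg_one_smul, Odd.neg_pow (h.prime.odd_of_ne_two h.odd), one_pow] at h1
          have h2 := congrFun (congrFun h1 (Sum.inl ⟨0, hd⟩)) (Sum.inl ⟨0, hd⟩)
          simpa [e'] using h2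
      have hg1 : g = 1 := by rw [show g = Matrix.toLinAlgEquiv' x.1 from rfl, hz, hz1, one_smul, map_one]
      rw [hg1, sub_self, LinearMap.ker_zero, finrank_top, Module.finrank_pi, Fintype.card_sum, Fintype.card_fin] at hker
      omega
    obtain ⟨D, hD, σ, hσ⟩ := H x ⟨1, by rw [← SubmonoidClass.coe_pow, hx, one_smul]; rfl⟩ hns
    obtain ⟨hind, htop⟩ := indep_top hD hat
    have hσ' : ∀ j, (D j).map g = D (σ j) := hσ
    by_cases hfix : ∀ j, σ j = j
    · have hinv : ∀ j, ∀ v ∈ D j, g v ∈ D j := fun j v hv => by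
        have := Submodule.mem_map_of_mem (f := g) hv
        rwa [hσ', hfix] at this
      have hsum := PermutedDecomposition.sum_ker_le hind htop g hinv
      obtain ⟨a₂, ha₂⟩ := hae
      have hlow : ∀ j, a % basicDeg i ≤ finrank F (LinearMap.ker (g.restrict (hinv j) - 1)) := fun j => by
        have hW : ∀ w ∈ D j, x.1 *ᵥ w ∈ D j := fun w hw => by simpa [g] using hinv j w hw
        have hW2 : finrank F (D j) = 2 * a₂ := by rw [hD.1 j, ha₂, two_mul]
        have hgr' : (g.restrict (hinv j)) ^ r = 1 := LinearMap.ext fun v => Subtype.ext (by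
          rw [Module.End.pow_restrict r (hinv j)]
          show (g ^ r) v.1 = v.1
          rw [hgr]; rfl)
        have heq : (Matrix.toLin' x.1).restrict (p := D j) (q := D j) hW = g.restrict (hinv j) := rfl
        have hR : (g.restrict (hinv j)).charpoly ∈ selfRecip F r (2 * a₂) := by
          refine ⟨LinearMap.charpoly_monic _, by rw [LinearMap.charpoly_natDegree, hW2], ?_, fun u hu hirr hud => ?_⟩
          · rw [← heq]; exact SympNondegDerange.rdual_restrict x (hD.2.1 j) hW2 hW
          · refine hP.2.2.2 u hu hirr (hud.trans ?_)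
            rw [← hxP, ← Matrix.charpoly_toLin']
            exact InvCharpoly.charpoly_restrict_dvd_self (fun w hw => hinv j w hw)
        obtain ⟨N₁, l, hN₁, hRl, hl⟩ := shape h hR
        rw [← PermutedDecomposition.rootMultiplicity_eq _ h.ne hgr', hRl,
          rootMultiplicity_mul_X_sub_C_pow (basic_monic h hN₁).1.ne_zero,
          rootMultiplicity_eq_zero (fun e => (basic_monic h hN₁).2.2 e), zero_add,
          show a = 2 * l + basicDeg i * N₁.card by omega, Nat.add_mul_mod_self_left]
        exact Nat.mod_le _ _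
      have hts : t * (a % basicDeg i) ≤ 2 * e - basicDeg i * K := by
        rw [← hker]
        refine le_trans ?_ hsum
        have := Finset.sum_le_sum (s := Finset.univ) fun j _ => hlow j
        rwa [Finset.sum_const, Finset.card_univ, Fintype.card_fin, smul_eq_mul] at this
      rcases hKbad with ⟨hlt, -⟩ | ⟨hle, hρ⟩
      · rw [Nat.mod_eq_of_lt hlt, mul_comm, ← hat] at hts
        omega
      · have : 2 * e = basicDeg i * (t * (a / basicDeg i)) + t * (a % basicDeg i) := by
          rw [hat]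
          conv_lhs => rw [← Nat.div_add_mod a (basicDeg i)]
          ring
        have h2 : 2 * e / basicDeg i = t * (a / basicDeg i) := by
          rw [this, Nat.mul_add_div hc0, Nat.div_eq_of_lt (by omega : t * (a % basicDeg i) < basicDeg i), add_zero]
        omega
    · push Not at hfix
      obtain ⟨j₀, hj₀⟩ := hfix
      rcases hKbad with ⟨hlt, hKone⟩ | ⟨hle, hρ⟩
      · have h1 := PermutedDecomposition.range_ge hind htop g σ hσ' (by omega) hD.1 h.prime hgr hj₀
        have h3 := LinearMap.finrank_range_add_finrank_ker (g - 1)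
        rw [hker, Module.finrank_pi, Fintype.card_sum, Fintype.card_fin, hKone, mul_one] at h3
        have hle' : basicDeg i ≤ r - 1 := by
          have hir : i ∣ r - 1 := ⟨s, by rw [← h.ht, mul_comm]⟩
          have hr1 : 0 < r - 1 := by have := h.prime.two_le; omega
          unfold basicDeg
          split_ifs with he
          · exact Nat.le_of_dvd hr1 hir
          · refine Nat.le_of_dvd hr1 ?_
            have h2r : 2 ∣ r - 1 := by
              obtain ⟨w, hw⟩ := h.prime.odd_of_ne_two h.odd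
              exact ⟨w, by omega⟩
            exact Nat.Coprime.mul_dvd_of_dvd_of_dvd (Nat.coprime_two_left.2 (Nat.not_even_iff_odd.1 he)) h2r hir
        have h5 : (r - 1) * 2 ≤ (r - 1) * a := Nat.mul_le_mul_left _ ha
        omega
      · have h1 := PermutedDecomposition.ker_ge hind htop g σ hσ' (by omega) hD.1 h.prime hgr hj₀
        omega
  · intro hC x ⟨z, hz⟩ _
    obtain ⟨y, hy, hxy⟩ := SympIsoDerange.exists_normalise hd (h.prime.odd_of_ne_two h.odd) x hz
    have hmem : y.1.charpoly ∈ selfRecip F r (2 * d) := by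
      refine ⟨Matrix.charpoly_monic _, by rw [Matrix.charpoly_natDegree_eq_dim, Fintype.card_sum, Fintype.card_fin,
        two_mul], SympPrimeOrderClasses.rdual_charpoly _, fun f hf hirr hdvd => ?_⟩
      obtain ⟨G, hG⟩ : ∃ G : GL (Fin (d + d)) F, (G : Matrix (Fin (d + d)) (Fin (d + d)) F) =
          Matrix.reindexAlgEquiv F F finSumFinEquiv y.1 :=
        ((Matrix.isUnit_iff_isUnit_det _).2 (SymplecticGroup.symplectic_det y.2)).map _
      refine GLPrimeOrderClasses.factor_dvd (g := G) (Units.ext ?_) hf hirr ?_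
      · rw [Units.val_pow_eq_pow_val, hG, ← map_pow, ← SubmonoidClass.coe_pow, hy, OneMemClass.coe_one, map_one,
          Units.val_one]
      · rw [hG, Matrix.reindexAlgEquiv_apply, Matrix.charpoly_reindex]; exact hdvd
    obtain ⟨N, j, hN, hPN, hA⟩ := shape h hmem
    have hNle : N.card ≤ t * (a / basicDeg i) := le_trans ((Nat.le_div_iff_mul_le hc0).2 (by rw [mul_comm]; omega)) hC
    obtain ⟨e, x₀, D, hx₀, -, hch, he, hD, hinv⟩ := dec_of_basics h hae t N j hN hNle (hA.trans hat)
    obtain rfl : e = d := by omega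
    obtain ⟨u, hu⟩ := isConj_iff.1
      (SympSemisimpleClasses.symp_isConj_of_charpoly x₀ y (hcop _ hx₀) (hcop _ hy) (hch.trans hPN.symm))
    refine ⟨fun k => (D k).map (Matrix.toLin' u.1), map_isODec hD u, 1, fun k => ?_⟩
    refine Submodule.eq_of_le_of_finrank_eq ?_ (Submodule.equivMapOfInjective _ (sp_injective x) _).finrank_eq.symm
    rintro _ ⟨w, hw, rfl⟩
    refine hxy _ ?_ w hw
    rintro _ ⟨v, hv, rfl⟩
    refine ⟨_, hinv k v hv, ?_⟩
    have e' : u * x₀ = y * u := by rw [← hu, inv_mul_cancel_right]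
    rw [Matrix.toLin'_apply, Matrix.toLin'_apply, Matrix.mulVec_mulVec, Matrix.mulVec_mulVec, ← Submonoid.coe_mul,
      ← Submonoid.coe_mul, e']

end Cfsg.Agent.SympDecompDerange
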