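import Cfsg.Agent.Lib.Classical.SympEvenInvolutions

/-!
The number of classes of involutions of `Sp(2m, q)`, `q` even.
-/

set_option autoImplicit false

namespace Cfsg.Agent.Classical.SympEven

open Module Matrix Cfsg.Agent.Classical

universe u

variable {F : Type u} [Field F] [CharP F 2] {m : ℕ}

attribute [local instance] Classical.propDecidable

/-- The matrix `[[1, S], [0, 1]]`. -/
noncomputable def shear (S : Matrix (Fin m) (Fin m) F) (hS : Sᵀ = S) : Matrix.symplecticGroup (Fin m) F :=
  ⟨Matrix.fromBlocks 1 S 0 1, by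
    rw [SymplecticGroup.mem_iff, Matrix.J, Matrix.fromBlocks_transpose, Matrix.fromBlocks_multiply,
      Matrix.fromBlocks_multiply, hS]
    simp⟩

theorem nilOf_shear (S : Matrix (Fin m) (Fin m) F) (hS : Sᵀ = S) (v : Fin m ⊕ Fin m → F) :
    nilOf (shear S hS) v = Sum.elim (S *ᵥ (v ∘ Sum.inr)) 0 := by
  rw [nilOf_apply]
  show Matrix.fromBlocks 1 S 0 1 *ᵥ v + v = _
  rw [Matrix.fromBlocks_mulVec]
  have h2 : ∀ a : F, a + a = 0 := fun a => CharTwo.add_self_eq_zero a
  funext i
  rcases i with i | i <;> simp [Matrix.one_mulVec, add_assoc, add_comm (S *ᵥ (v ∘ Sum.inr)) (v ∘ Sum.inl), h2]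
  linear_combination h2 (v (Sum.inl i))

theorem shear_sq (S : Matrix (Fin m) (Fin m) F) (hS : Sᵀ = S) : shear S hS ^ 2 = 1 := by
  refine Subtype.ext ?_
  rw [sq, Submonoid.coe_mul]
  show Matrix.fromBlocks 1 S 0 1 * Matrix.fromBlocks 1 S 0 1 = 1
  rw [Matrix.fromBlocks_multiply]
  simp only [mul_one, one_mul, mul_zero, zero_mul, add_zero, zero_add]
  rw [show S + S = 0 from Matrix.ext fun i j => CharTwo.add_self_eq_zero _, Matrix.fromBlocks_one]

theorem rank_shear (S : Matrix (Fin m) (Fin m) F) (hS : Sᵀ = S) :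
    finrank F (LinearMap.range (nilOf (shear S hS))) = S.rank := by
  let inl : (Fin m → F) →ₗ[F] (Fin m ⊕ Fin m → F) :=
    { toFun := fun x => Sum.elim x 0
      map_add' := fun x y => by funext i; rcases i with i | i <;> simp
      map_smul' := fun c x => by funext i; rcases i with i | i <;> simp }
  have hinj : Function.Injective inl := fun x y h => funext fun i => congrFun h (Sum.inl i)
  have h : LinearMap.range (nilOf (shear S hS)) = (LinearMap.range S.mulVecLin).map inl := by
    ext w
    simp only [LinearMap.mem_range, Submodule.mem_map]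
    constructor
    · rintro ⟨v, rfl⟩
      exact ⟨S *ᵥ (v ∘ Sum.inr), ⟨v ∘ Sum.inr, rfl⟩, (nilOf_shear S hS v).symm⟩
    · rintro ⟨_, ⟨y, rfl⟩, rfl⟩
      exact ⟨Sum.elim 0 y, (nilOf_shear S hS _).trans rfl⟩
  rw [h, ← (Submodule.equivMapOfInjective inl hinj _).finrank_eq]
  rfl

theorem form_shear (S : Matrix (Fin m) (Fin m) F) (hS : Sᵀ = S) (v : Fin m ⊕ Fin m → F) :
    sympB m F v (nilOf (shear S hS) v) = ∑ i, v (Sum.inr i) * (S *ᵥ (v ∘ Sum.inr)) i := by
  rw [nilOf_shear, sympB_apply, sympForm_eq_sum]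
  simp

theorem alt_dot (S : Matrix (Fin m) (Fin m) F) (hS : Sᵀ = S) (hd : ∀ i, S i i = 0) (y : Fin m → F) :
    ∑ i, y i * (S *ᵥ y) i = 0 := by
  simp only [Matrix.mulVec, dotProduct, Finset.mul_sum]
  rw [← Finset.sum_product']
  refine Finset.sum_involution (fun p _ => (p.2, p.1)) (fun p _ => ?_) (fun p _ hp he => hp ?_)
    (fun p _ => Finset.mem_univ _) (fun p _ => rfl)
  · have e : S p.2 p.1 = S p.1 p.2 := congrFun (congrFun hS p.1) p.2
    simp only [e]
    linear_combination CharTwo.add_self_eq_zero (y p.1 * (S p.1 p.2 * y p.2))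
  · have e : p.1 = p.2 := (Prod.mk.inj he).1.symm
    rw [e, hd]; ring

/-- The partner of an index. -/
def partner (i : ℕ) : ℕ := if i % 2 = 0 then i + 1 else i - 1

/-- The alternating block matrix of rank `2h`. -/
noncomputable def altS (F : Type u) [Field F] (m h : ℕ) : Matrix (Fin m) (Fin m) F :=
  Matrix.of fun i j => if (i : ℕ) < 2 * h ∧ (j : ℕ) = partner i then 1 else 0

theorem altS_symm (h : ℕ) : (altS F m h)ᵀ = altS F m h := by
  ext i j
  simp only [Matrix.transpose_apply, altS, Matrix.of_apply]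
  refine if_congr ?_ rfl rfl
  simp only [partner]
  constructor <;> rintro ⟨h1, h3⟩ <;> split_ifs at * <;> omega

theorem altS_diag (h : ℕ) (i : Fin m) : altS F m h i i = 0 := by
  simp only [altS, Matrix.of_apply]
  refine if_neg fun hh => ?_
  have := hh.2
  simp only [partner] at this
  split_ifs at this <;> omega

theorem altS_rank {h : ℕ} (hm : 2 * h ≤ m) : (altS F m h).rank = 2 * h := by
  let D : Matrix (Fin m) (Fin m) F := Matrix.diagonal fun i : Fin m => if (i : ℕ) < 2 * h then 1 else 0
  have hD : D.rank = 2 * h := by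
    rw [Matrix.rank_diagonal]
    simp only [ne_eq, ite_eq_right_iff, one_ne_zero, imp_false, not_not]
    rw [Fintype.card_subtype]
    exact (Fin.card_filter_val_lt).trans (min_eq_right hm)
  have hsq : altS F m h * altS F m h = D := by
    ext i k
    rw [Matrix.mul_apply]
    by_cases hi : (i : ℕ) < 2 * h
    · have hp : partner i < 2 * h ∧ partner (partner i) = i := by
        simp only [partner]; constructor <;> split_ifs <;> omega
      rw [Finset.sum_eq_single (⟨partner i, by omega⟩ : Fin m)
        (fun j _ hj => by simp [altS, show ¬ ((j : ℕ) = partner i) from fun e => hj (Fin.ext e)]) (by simp)]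
      simp only [altS, Matrix.of_apply, D, Matrix.diagonal_apply, hi, hp.1, hp.2, true_and, and_self, if_true, one_mul]
      exact if_congr (by rw [eq_comm, Fin.ext_iff]) rfl rfl
    · rw [Finset.sum_eq_zero fun j _ => by simp [altS, hi]]
      simp only [D, Matrix.diagonal_apply, if_neg hi, ite_self]
  have hDS : D * altS F m h = altS F m h := by
    ext i k
    rw [Matrix.diagonal_mul]
    simp only [altS, Matrix.of_apply]
    by_cases hi : (i : ℕ) < 2 * h <;> simp [hi]
  refine le_antisymm ?_ ?_
  · calc (altS F m h).rank = (D * altS F m h).rank := by rw [hDS]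
      _ ≤ D.rank := Matrix.rank_mul_le_left _ _
      _ = 2 * h := hD
  · calc 2 * h = D.rank := hD.symm
      _ = (altS F m h * altS F m h).rank := by rw [hsq]
      _ ≤ _ := Matrix.rank_mul_le_left _ _

/-- The diagonal matrix of rank `s`. -/
noncomputable def diagS (F : Type u) [Field F] (m s : ℕ) : Matrix (Fin m) (Fin m) F :=
  Matrix.diagonal fun i : Fin m => if (i : ℕ) < s then 1 else 0

theorem diagS_rank {s : ℕ} (hs : s ≤ m) : (diagS F m s).rank = s := by
  rw [diagS, Matrix.rank_diagonal]
  simp only [ne_eq, ite_eq_right_iff, one_ne_zero, imp_false, not_not]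
  rw [Fintype.card_subtype]
  exact (Fin.card_filter_val_lt).trans (min_eq_right hs)

/-- The representatives. -/
noncomputable def rep (F : Type u) [Field F] [CharP F 2] (m : ℕ) :
    Fin m ⊕ Fin (m / 2) → Matrix.symplecticGroup (Fin m) F :=
  Sum.elim (fun i => shear (diagS F m (i + 1)) (Matrix.diagonal_transpose _))
    fun j => shear (altS F m (j + 1)) (altS_symm _)

theorem rep_facts (a : Fin m ⊕ Fin (m / 2)) :
    rep F m a ^ 2 = 1 ∧
      finrank F (LinearMap.range (nilOf (rep F m a))) = Sum.elim (fun i : Fin m => (i : ℕ) + 1) (fun j : Fin (m / 2) => 2 * ((j : ℕ) + 1)) a ∧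
      ((∀ v, sympB m F v (nilOf (rep F m a) v) = 0) ↔ a.isRight) := by
  rcases a with i | j
  · refine ⟨shear_sq _ (Matrix.diagonal_transpose _), (rank_shear _ (Matrix.diagonal_transpose _)).trans (diagS_rank i.2), ⟨fun h => ?_, fun h => absurd h (by simp)⟩⟩
    have h1 := h (Pi.single (Sum.inr (⟨0, i.pos⟩ : Fin m)) 1)
    simp [rep, form_shear, Matrix.mulVec_diagonal, diagS, Pi.single_apply, Function.comp_def] at h1
    exact absurd h1 (by simp [Fin.lt_def])
  · have hj : 2 * ((j : ℕ) + 1) ≤ m := by omega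
    exact ⟨shear_sq _ (altS_symm _), (rank_shear _ (altS_symm _)).trans (altS_rank hj),
      iff_of_true (fun v => (form_shear _ (altS_symm _) v).trans (alt_dot _ (altS_symm _) (altS_diag _) _)) rfl⟩

theorem invariants_of_conj {t t' : Matrix.symplecticGroup (Fin m) F} (h : IsConj t t') :
    finrank F (LinearMap.range (nilOf t)) = finrank F (LinearMap.range (nilOf t')) ∧
      ((∀ v, sympB m F v (nilOf t v) = 0) ↔ ∀ v, sympB m F v (nilOf t' v) = 0) := by
  obtain ⟨g, hg⟩ := isConj_iff.1 h
  have he := (intertwine_iff t t' g).2 (mul_inv_eq_iff_eq_mul.1 hg)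
  have hB : ∀ x y, sympB m F (linOf g x) (linOf g y) = sympB m F x y := fun x y => by
    rw [linOf_apply, linOf_apply, sympB_apply, sympB_apply, sympForm_map]
  constructor
  · rw [show LinearMap.range (nilOf t') = (LinearMap.range (nilOf t)).map (linOf g).toLinearMap from ?_]
    · exact ((linOf g).submoduleMap _).finrank_eq
    ext w
    simp only [LinearMap.mem_range, Submodule.mem_map, LinearEquiv.coe_coe]
    constructor
    · rintro ⟨v, rfl⟩
      exact ⟨_, ⟨(linOf g).symm v, rfl⟩, by rw [he, LinearEquiv.apply_symm_apply]⟩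
    · rintro ⟨_, ⟨v, rfl⟩, rfl⟩
      exact ⟨_, (he v).symm⟩
  · constructor
    · intro hv v
      obtain ⟨x, rfl⟩ := (linOf g).surjective v
      rw [← he, hB, hv]
    · intro hv v
      rw [← hB, he, hv]

theorem card_classes [Finite F] (m : ℕ) :
    Nat.card {C : ConjClasses ↥(Matrix.symplecticGroup (Fin m) F) //
      ∃ g : Matrix.symplecticGroup (Fin m) F, ConjClasses.mk g = C ∧ orderOf g = 2} = m + m / 2 := by
  have hne : ∀ a, rep F m a ≠ 1 := fun a h => by
    have h0 := (rep_facts (F := F) a).2.1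
    rw [h, show nilOf (1 : Matrix.symplecticGroup (Fin m) F) = 0 by simp [nilOf], LinearMap.range_zero, finrank_bot] at h0
    rcases a with i | j <;> simp at h0
  let f : Fin m ⊕ Fin (m / 2) → {C : ConjClasses ↥(Matrix.symplecticGroup (Fin m) F) //
      ∃ g : Matrix.symplecticGroup (Fin m) F, ConjClasses.mk g = C ∧ orderOf g = 2} := fun a =>
    ⟨ConjClasses.mk (rep F m a), rep F m a, rfl, orderOf_eq_prime (rep_facts a).1 (hne a)⟩
  have hf : Function.Bijective f := by
    constructor
    · intro a b hab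
      obtain ⟨h1, h3⟩ := invariants_of_conj (ConjClasses.mk_eq_mk_iff_isConj.1 (congrArg Subtype.val hab))
      rw [(rep_facts a).2.1, (rep_facts b).2.1] at h1
      rw [(rep_facts a).2.2, (rep_facts b).2.2] at h3
      rcases a with i | j <;> rcases b with i' | j' <;> simp at h1 h3
      · exact congrArg Sum.inl (Fin.ext h1)
      · exact congrArg Sum.inr (Fin.ext h1)
    · rintro ⟨C, g, rfl, ho⟩
      have hg : g ^ 2 = 1 := ho ▸ pow_orderOf_eq_one g
      have hg1 : g ≠ 1 := fun h => by rw [h, orderOf_one] at ho; omega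
      obtain ⟨halt, hna⟩ := exists_normal (nil_of_sq hg)
      have hpos : finrank F (LinearMap.range (nilOf g)) ≠ 0 := fun h0 => hg1 (by
        rw [Submodule.finrank_eq_zero, LinearMap.range_eq_bot] at h0
        refine Subtype.ext ?_
        rw [OneMemClass.coe_one, ← sub_eq_zero]
        exact Matrix.toLin'.injective (h0.trans (map_zero _).symm))
      by_cases hA : ∀ v, sympB m F v (nilOf g v) = 0
      · obtain ⟨k, hk, u, hu⟩ := halt hA
        have hkm := card_le_of_frame hg hu (Matrix.isUnit_det_J (Fin k) F)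
        rw [Fintype.card_sum, Fintype.card_fin] at hk hkm
        refine ⟨Sum.inr ⟨k - 1, by omega⟩, Subtype.ext (ConjClasses.mk_eq_mk_iff_isConj.2 ?_)⟩
        obtain ⟨hsq, hr, hb⟩ := rep_facts (F := F) (Sum.inr (⟨k - 1, by omega⟩ : Fin (m / 2)) : Fin m ⊕ Fin (m / 2))
        obtain ⟨k', hk', u', hu'⟩ := (exists_normal (nil_of_sq hsq)).1 (hb.2 rfl)
        have : k' = k := by
          rw [hr, Fintype.card_sum, Fintype.card_fin] at hk'
          simp at hk'
          omega
        subst this
        refine isConj_of_frames hsq hg hu' hu (Matrix.isUnit_det_J (Fin k') F) hk' ?_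
        rw [hk, Fintype.card_sum, Fintype.card_fin]
      · obtain ⟨s, hs⟩ : ∃ s, finrank F (LinearMap.range (nilOf g)) = s := ⟨_, rfl⟩
        rw [hs] at hpos
        obtain ⟨u, hu⟩ := hna (not_forall.1 hA)
        have hsm : s ≤ m := by simpa [hs] using card_le_of_frame hg hu (by simp)
        refine ⟨Sum.inl ⟨s - 1, by omega⟩, Subtype.ext (ConjClasses.mk_eq_mk_iff_isConj.2 ?_)⟩
        obtain ⟨hsq, hr, hb⟩ := rep_facts (F := F) (Sum.inl (⟨s - 1, by omega⟩ : Fin m) : Fin m ⊕ Fin (m / 2))
        obtain ⟨u', hu'⟩ := (exists_normal (nil_of_sq hsq)).2 (not_forall.1 fun h => by simpa using hb.1 h)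
        have hrs : finrank F (LinearMap.range (nilOf (rep F m (Sum.inl (⟨s - 1, by omega⟩ : Fin m))))) =
            finrank F (LinearMap.range (nilOf g)) := by
          rw [hr, hs]; simp; omega
        have hu2 : IsTFrame (sympB m F) (nilOf g) 1 (fun i => u (Fin.cast hrs i)) :=
          ⟨fun i j => by rw [hu.1, Matrix.one_apply, Matrix.one_apply]; simp, fun i j => hu.2 _ _⟩
        exact isConj_of_frames hsq hg hu' hu2 (by simp) (Fintype.card_fin _).symm
          (by rw [Fintype.card_fin, hrs])
  rw [← Nat.card_eq_of_bijective f hf, Nat.card_eq_fintype_card, Fintype.card_sum, Fintype.card_fin, Fintype.card_fin]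

end Cfsg.Agent.Classical.SympEven
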