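import Cfsg.Agent.Lib.Classical.SympBlocks
import Cfsg.Agent.Lib.Classical.NormalForms

/-!
Square-zero self-adjoint maps `N` of a symplectic space in characteristic two (so `1 + N` is an involution of the
symplectic group): adapted frames, their number, and the isometries commuting with `N`.
-/

set_option autoImplicit false

namespace Cfsg.Agent.Classical.SympEven

open Module Matrix Cfsg.Agent.Classical

universe u v

variable {F : Type u} [Field F] {V : Type v} [AddCommGroup V] [Module F V]

/-- The data of an involution `1 + N`. -/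
structure Nil (B : LinearMap.BilinForm F V) (N : Module.End F V) : Prop where
  alt : B.IsAlt
  nondeg : ∀ x, (∀ y, B x y = 0) → x = 0
  sq : ∀ v, N (N v) = 0
  adj : ∀ u v, B (N u) v = B u (N v)

variable {B : LinearMap.BilinForm F V} {N : Module.End F V}

theorem Nil.pair_zero (h : Nil B N) (u v : V) : B (N u) (N v) = 0 := by rw [h.adj, h.sq, map_zero]

/-- An adapted frame with Gram matrix `G`. -/
def IsTFrame (B : LinearMap.BilinForm F V) (N : Module.End F V) {I : Type} (G : Matrix I I F) (u : I → V) : Prop :=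
  (∀ i j, B (u i) (N (u j)) = G i j) ∧ ∀ i j, B (u i) (u j) = 0

section CharTwo

variable [CharP F 2]

theorem alt_comm (hA : B.IsAlt) (u v : V) : B u v = B v u := by
  rw [← LinearMap.IsAlt.neg hA v u, CharTwo.neg_eq]

theorem Nil.comm (h : Nil B N) (u v : V) : B u (N v) = B v (N u) := by
  rw [← h.adj, alt_comm h.alt]

end CharTwo

variable {I : Type} [Fintype I] [DecidableEq I] {G : Matrix I I F} {u : I → V}

/-- Combinations of a frame and its images. -/
noncomputable def comb (N : Module.End F V) (u : I → V) : ((I → F) × (I → F)) →ₗ[F] V :=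
  LinearMap.coprod (Fintype.linearCombination F u) (Fintype.linearCombination F fun i => N (u i))

theorem comb_apply (x y : I → F) : comb N u (x, y) = (∑ i, x i • u i) + ∑ i, y i • N (u i) := by
  rw [comb, LinearMap.coprod_apply, Fintype.linearCombination_apply, Fintype.linearCombination_apply]

variable [CharP F 2]

theorem pairings (h : Nil B N) (hu : IsTFrame B N G u) (x y : I → F) (j : I) :
    B (comb N u (x, y)) (u j) = (y ᵥ* G) j ∧ B (comb N u (x, y)) (N (u j)) = (x ᵥ* G) j := by
  constructor <;>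
    simp only [comb_apply, map_add, LinearMap.add_apply, map_sum, LinearMap.sum_apply, map_smul,
      LinearMap.smul_apply, smul_eq_mul, hu.1, hu.2, h.pair_zero, h.adj, mul_zero, Finset.sum_const_zero, zero_add,
      add_zero] <;> rfl

theorem eq_zero_of_pairings (h : Nil B N) (hu : IsTFrame B N G u) (hG : IsUnit G.det) {p : (I → F) × (I → F)}
    (h1 : ∀ j, B (comb N u p) (u j) = 0) (h3 : ∀ j, B (comb N u p) (N (u j)) = 0) : p = 0 := by
  have hinj := Matrix.vecMul_injective_iff_isUnit.2 ((Matrix.isUnit_iff_isUnit_det _).2 hG)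
  refine Prod.ext (hinj ?_) (hinj ?_) <;> funext j
  · show (p.1 ᵥ* G) j = ((0 : I → F) ᵥ* G) j
    rw [← (pairings h hu p.1 p.2 j).2, Matrix.zero_vecMul]; exact h3 j
  · show (p.2 ᵥ* G) j = ((0 : I → F) ᵥ* G) j
    rw [← (pairings h hu p.1 p.2 j).1, Matrix.zero_vecMul]; exact h1 j

/-- The orthogonal of a frame. -/
noncomputable def perp (B : LinearMap.BilinForm F V) (N : Module.End F V) (u : I → V) : Submodule F V :=
  LinearMap.ker ((LinearMap.pi fun i => B.flip (u i)).prod (LinearMap.pi fun i => B.flip (N (u i))))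

omit [Fintype I] [DecidableEq I] [CharP F 2] in
theorem mem_perp {z : V} : z ∈ perp B N u ↔ (∀ i, B z (u i) = 0) ∧ ∀ i, B z (N (u i)) = 0 := by
  simp [perp, LinearMap.mem_ker, funext_iff]

variable [FiniteDimensional F V]

theorem comb_perp (h : Nil B N) (hu : IsTFrame B N G u) (hG : IsUnit G.det) (z : V) :
    ∃ p, z - comb N u p ∈ perp B N u := by
  have hGT : IsUnit Gᵀ.det := by rwa [Matrix.det_transpose]
  obtain ⟨y, hy⟩ := Matrix.mulVec_surjective_iff_isUnit.2 ((Matrix.isUnit_iff_isUnit_det _).2 hGT) fun i => B z (u i)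
  obtain ⟨x, hx⟩ := Matrix.mulVec_surjective_iff_isUnit.2 ((Matrix.isUnit_iff_isUnit_det _).2 hGT) fun i => B z (N (u i))
  refine ⟨(x, y), mem_perp.2 ⟨fun j => ?_, fun j => ?_⟩⟩
  · rw [map_sub, LinearMap.sub_apply, (pairings h hu x y j).1, ← Matrix.mulVec_transpose, hy, sub_self]
  · rw [map_sub, LinearMap.sub_apply, (pairings h hu x y j).2, ← Matrix.mulVec_transpose, hx, sub_self]

theorem comb_injective (h : Nil B N) (hu : IsTFrame B N G u) (hG : IsUnit G.det) :
    Function.Injective (comb N u) :=
  (injective_iff_map_eq_zero _).2 fun p hp =>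
    eq_zero_of_pairings h hu hG (fun j => by rw [hp, map_zero, LinearMap.zero_apply])
      (fun j => by rw [hp, map_zero, LinearMap.zero_apply])

theorem finrank_perp (h : Nil B N) (hu : IsTFrame B N G u) (hG : IsUnit G.det) :
    finrank F (perp B N u) + 2 * Fintype.card I = finrank F V := by
  have hc : IsCompl (perp B N u) (LinearMap.range (comb N u)) := by
    refine ⟨Submodule.disjoint_def.2 ?_, codisjoint_iff.2 (eq_top_iff.2 fun z _ => ?_)⟩
    · rintro _ hz ⟨p, rfl⟩
      rw [mem_perp] at hz
      rw [eq_zero_of_pairings h hu hG hz.1 hz.2, map_zero]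
    · obtain ⟨p, hp⟩ := comb_perp h hu hG z
      exact Submodule.mem_sup.2 ⟨_, hp, _, ⟨p, rfl⟩, sub_add_cancel _ _⟩
  rw [← Submodule.finrank_add_eq_of_isCompl hc, LinearMap.finrank_range_of_inj (comb_injective h hu hG),
    Module.finrank_prod, Module.finrank_fintype_fun_eq_card, two_mul]

/-- A frame with the full rank kills the map on its orthogonal. -/
theorem N_perp (h : Nil B N) (hu : IsTFrame B N G u) (hG : IsUnit G.det)
    (hr : finrank F (LinearMap.range N) = Fintype.card I) {z : V} (hz : z ∈ perp B N u) : N z = 0 := by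
  have hs : LinearMap.range ((comb N u).comp (LinearMap.inr F (I → F) (I → F))) = LinearMap.range N := by
    refine Submodule.eq_of_le_of_finrank_eq ?_ ?_
    · rintro _ ⟨y, rfl⟩
      refine ⟨∑ i, y i • u i, ?_⟩
      simp [comb_apply, map_sum]
    · rw [LinearMap.finrank_range_of_inj (f := (comb N u).comp (LinearMap.inr F (I → F) (I → F)))
          ((comb_injective h hu hG).comp (fun a b hab => (Prod.mk.inj hab).2)),
        Module.finrank_fintype_fun_eq_card, hr]
  obtain ⟨y, hy⟩ : N z ∈ LinearMap.range ((comb N u).comp (LinearMap.inr F (I → F) (I → F))) := by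
    rw [hs]; exact ⟨z, rfl⟩
  rw [← hy]
  have hp : ((0 : I → F), y) = 0 := eq_zero_of_pairings h hu hG (fun j => by
      show B ((comb N u).comp (LinearMap.inr F (I → F) (I → F)) y) (u j) = 0
      rw [hy, h.adj]
      exact (mem_perp.1 hz).2 j) fun j => by
      show B ((comb N u).comp (LinearMap.inr F (I → F) (I → F)) y) (N (u j)) = 0
      rw [hy, h.pair_zero]
  show comb N u ((0 : I → F), y) = 0
  rw [hp, map_zero]

/-- Symplectic coordinates on the orthogonal of a frame. -/
theorem exists_perp_coords (h : Nil B N) (hu : IsTFrame B N G u) (hG : IsUnit G.det) {k : ℕ}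
    (hd : finrank F V = 2 * Fintype.card I + 2 * k) :
    ∃ L : (Fin k ⊕ Fin k → F) ≃ₗ[F] perp B N u, ∀ a b, B (L a : V) (L b : V) = sympForm k F a b := by
  refine exists_symp_coords (B.restrict (perp B N u)) (fun x => h.alt x.1) (fun x hx => ?_) ?_
  · refine Subtype.ext (h.nondeg _ fun y => ?_)
    obtain ⟨p, hp⟩ := comb_perp h hu hG y
    have h1 : B x.1 (y - comb N u p) = 0 := hx ⟨_, hp⟩
    rw [map_sub, sub_eq_zero] at h1
    rw [h1, comb_apply]
    simp [map_sum, (mem_perp.1 x.2).1, (mem_perp.1 x.2).2]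
  · have := finrank_perp h hu hG
    omega

/-- The two conditions on a map into the orthogonal of a frame. -/
def IsPerpMap (B : LinearMap.BilinForm F V) (N : Module.End F V) {k : ℕ} (u : I → V)
    (L : (Fin k ⊕ Fin k → F) →ₗ[F] V) : Prop :=
  (∀ z, L z ∈ perp B N u) ∧ ∀ a b, B (L a) (L b) = sympForm k F a b

theorem form_full (h : Nil B N) (hu : IsTFrame B N G u) {k : ℕ} {L : (Fin k ⊕ Fin k → F) →ₗ[F] V}
    (hL : IsPerpMap B N u L) (p p' : (I → F) × (I → F)) (a b : Fin k ⊕ Fin k → F) :
    B (comb N u p + L a) (comb N u p' + L b) =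
      (∑ j, p'.1 j * (p.2 ᵥ* G) j) + (∑ j, p'.2 j * (p.1 ᵥ* G) j) + sympForm k F a b := by
  have e1 : ∀ j, B (L a) (u j) = 0 := (mem_perp.1 (hL.1 a)).1
  have e2 : ∀ j, B (L a) (N (u j)) = 0 := (mem_perp.1 (hL.1 a)).2
  have e3 : B (comb N u p) (L b) = 0 := by
    rw [alt_comm h.alt, show p = (p.1, p.2) from rfl, comb_apply]
    simp [map_sum, (mem_perp.1 (hL.1 b)).1, (mem_perp.1 (hL.1 b)).2]
  rw [map_add B, LinearMap.add_apply, map_add (B (comb N u p)), map_add (B (L a)), e3, hL.2]
  have hp1 : ∀ j, B (comb N u p) (u j) = (p.2 ᵥ* G) j := fun j => (pairings h hu p.1 p.2 j).1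
  have hp2 : ∀ j, B (comb N u p) (N (u j)) = (p.1 ᵥ* G) j := fun j => (pairings h hu p.1 p.2 j).2
  rw [show p' = (p'.1, p'.2) from rfl, comb_apply p'.1 p'.2]
  simp only [map_add, map_sum, map_smul, smul_eq_mul, e1, e2, hp1, hp2, mul_zero, Finset.sum_const_zero, add_zero,
    zero_add]

/-- The coordinates given by a full frame. -/
theorem exists_full (h : Nil B N) (hu : IsTFrame B N G u) (hG : IsUnit G.det)
    (hr : finrank F (LinearMap.range N) = Fintype.card I) {k : ℕ} (hd : finrank F V = 2 * Fintype.card I + 2 * k)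
    {L : (Fin k ⊕ Fin k → F) →ₗ[F] V} (hL : IsPerpMap B N u L) :
    ∃ M : (((I → F) × (I → F)) × (Fin k ⊕ Fin k → F)) ≃ₗ[F] V, (∀ p a, M (p, a) = comb N u p + L a) ∧
      ∀ x y a, N (M ((x, y), a)) = M ((0, x), 0) := by
  let M : (((I → F) × (I → F)) × (Fin k ⊕ Fin k → F)) →ₗ[F] V := LinearMap.coprod (comb N u) L
  have hM : ∀ p a, M (p, a) = comb N u p + L a := fun p a => LinearMap.coprod_apply _ _ _
  have hinj : Function.Injective M := (injective_iff_map_eq_zero _).2 fun ⟨p, a⟩ h0 => by
    rw [hM] at h0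
    have hp : p = 0 := by
      refine eq_zero_of_pairings h hu hG (fun j => ?_) fun j => ?_
      · rw [eq_neg_of_add_eq_zero_left h0, map_neg, LinearMap.neg_apply, (mem_perp.1 (hL.1 a)).1, neg_zero]
      · rw [eq_neg_of_add_eq_zero_left h0, map_neg, LinearMap.neg_apply, (mem_perp.1 (hL.1 a)).2, neg_zero]
    have ha : a = 0 := eq_zero_of_sympForm_eq_zero fun b => by
      rw [hp, map_zero, zero_add] at h0
      rw [← hL.2, h0, map_zero, LinearMap.zero_apply]
    rw [hp, ha]
    rfl
  have hdim : finrank F (((I → F) × (I → F)) × (Fin k ⊕ Fin k → F)) = finrank F V := by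
    simp [Module.finrank_prod, Module.finrank_fintype_fun_eq_card, hd]
    omega
  refine ⟨LinearEquiv.ofBijective M ⟨hinj, (LinearMap.injective_iff_surjective_of_finrank_eq_finrank hdim).1 hinj⟩, hM,
    fun x y a => ?_⟩
  show N (M ((x, y), a)) = M ((0, x), 0)
  rw [hM, hM, map_add, N_perp h hu hG hr (hL.1 a), comb_apply, comb_apply, map_zero]
  simp [map_sum, h.sq]

/-- Two involutions with frames of the same shape are isometric. -/
theorem exists_iso {W : Type v} [AddCommGroup W] [Module F W] [FiniteDimensional F W] {B' : LinearMap.BilinForm F W}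
    {N' : Module.End F W} {u' : I → W} (h : Nil B N) (h' : Nil B' N') (hu : IsTFrame B N G u)
    (hu' : IsTFrame B' N' G u') (hG : IsUnit G.det) (hr : finrank F (LinearMap.range N) = Fintype.card I)
    (hr' : finrank F (LinearMap.range N') = Fintype.card I) {k : ℕ} (hd : finrank F V = 2 * Fintype.card I + 2 * k)
    (hd' : finrank F W = 2 * Fintype.card I + 2 * k) :
    ∃ e : V ≃ₗ[F] W, (∀ x y, B' (e x) (e y) = B x y) ∧ ∀ x, e (N x) = N' (e x) := by
  obtain ⟨L₁, hL₁⟩ := exists_perp_coords h hu hG hd
  obtain ⟨L₂, hL₂⟩ := exists_perp_coords h' hu' hG hd'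
  have hP : IsPerpMap B N u ((perp B N u).subtype.comp L₁.toLinearMap) := ⟨fun z => (L₁ z).2, hL₁⟩
  have hP' : IsPerpMap B' N' u' ((perp B' N' u').subtype.comp L₂.toLinearMap) := ⟨fun z => (L₂ z).2, hL₂⟩
  obtain ⟨M, hM, hMN⟩ := exists_full h hu hG hr hd hP
  obtain ⟨M', hM', hMN'⟩ := exists_full h' hu' hG hr' hd' hP'
  refine ⟨M.symm.trans M', fun x y => ?_, fun x => ?_⟩
  · obtain ⟨⟨p, a⟩, rfl⟩ := M.surjective x
    obtain ⟨⟨p', b⟩, rfl⟩ := M.surjective y
    simp only [LinearEquiv.trans_apply, LinearEquiv.symm_apply_apply]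
    rw [hM, hM, hM', hM', form_full h hu hP, form_full h' hu' hP']
  · obtain ⟨⟨⟨x, y⟩, a⟩, rfl⟩ := M.surjective x
    simp only [LinearEquiv.trans_apply, LinearEquiv.symm_apply_apply]
    rw [hMN, LinearEquiv.symm_apply_apply, hMN']

section Finite

variable [Finite F]

/-- The number of lifts of a frame modulo the kernel. -/
theorem card_adjust (h : Nil B N) : ∀ (n : ℕ) (v : Fin n → V), LinearIndependent F (fun i => N (v i)) →
    Nat.card {k : Fin n → LinearMap.ker N // ∀ i j, B (v i + k i) (v j + k j) = 0} * Nat.card F ^ n.choose 2 =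
      Nat.card F ^ (n * finrank F (LinearMap.ker N)) := by
  haveI : Finite V := Module.finite_of_finite F
  intro n
  induction n with
  | zero =>
    intro v _
    haveI : Unique {k : Fin 0 → LinearMap.ker N // ∀ i j, B (v i + k i) (v j + k j) = 0} :=
      ⟨⟨⟨Fin.elim0, fun i => i.elim0⟩⟩, fun x => Subtype.ext (funext fun i => i.elim0)⟩
    rw [Nat.card_unique]; simp
  | succ n ih =>
    intro v hv
    have hv' : LinearIndependent F (fun i => N (v (Fin.castSucc i))) := hv.comp _ (Fin.castSucc_injective n)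
    set a := v (Fin.last n)
    let Old := {k : Fin n → LinearMap.ker N // ∀ i j, B (v i.castSucc + k i) (v j.castSucc + k j) = 0}
    let ev : Old → (LinearMap.ker N →ₗ[F] (Fin n → F)) := fun k =>
      (LinearMap.pi fun j => B.flip (v j.castSucc + k.1 j)).comp (LinearMap.ker N).subtype
    let tgt : Old → (Fin n → F) := fun k j => -B a (v j.castSucc + k.1 j)
    have hsur : ∀ k, Function.Surjective (ev k) := fun k => by
      rw [← LinearMap.dualMap_injective_iff, injective_iff_map_eq_zero]
      intro φ hφ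
      obtain ⟨c, hc⟩ : ∃ c : Fin n → F, ∀ w, φ w = ∑ j, w j * c j := ⟨fun j => φ (Pi.single j 1), fun w => by
        conv_lhs => rw [← Finset.univ_sum_single w]
        rw [map_sum]
        refine Finset.sum_congr rfl fun j _ => ?_
        rw [← smul_eq_mul, ← map_smul, ← Pi.single_smul, smul_eq_mul, mul_one]⟩
      have h0 : ∀ y : V, B y (∑ j, c j • N (v j.castSucc)) = 0 := fun y => by
        have h1 := LinearMap.congr_fun hφ ⟨N y, LinearMap.mem_ker.2 (h.sq y)⟩
        rw [LinearMap.dualMap_apply, LinearMap.zero_apply, hc] at h1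
        rw [map_sum, ← h1]
        refine Finset.sum_congr rfl fun j _ => ?_
        show B y (c j • N (v j.castSucc)) = B (N y) (v j.castSucc + k.1 j) * c j
        rw [h.adj, map_add N, LinearMap.mem_ker.1 (k.1 j).2, add_zero, map_smul, smul_eq_mul, mul_comm]
      have h3 := Fintype.linearIndependent_iff.1 hv' c (h.nondeg _ fun y => by rw [alt_comm h.alt, h0])
      exact LinearMap.ext fun w => by simp [hc, h3]
    have hfib : ∀ k, Nat.card {x : LinearMap.ker N // ev k x = tgt k} * Nat.card F ^ n =
        Nat.card F ^ finrank F (LinearMap.ker N) := fun k => by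
      obtain ⟨x₀, hx₀⟩ := hsur k (tgt k)
      have e : LinearMap.ker (ev k) ≃ {x : LinearMap.ker N // ev k x = tgt k} :=
        { toFun := fun z => ⟨x₀ + z, by rw [map_add, hx₀, LinearMap.mem_ker.1 z.2, add_zero]⟩
          invFun := fun x => ⟨x.1 - x₀, LinearMap.mem_ker.2 (by rw [map_sub, x.2, hx₀, sub_self])⟩
          left_inv := fun z => Subtype.ext (add_sub_cancel_left _ _)
          right_inv := fun x => Subtype.ext (add_sub_cancel _ _) }
      have hd := (ev k).finrank_range_add_finrank_ker
      rw [LinearMap.range_eq_top.2 (hsur k), finrank_top, Module.finrank_fintype_fun_eq_card, Fintype.card_fin] at hd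
      rw [← Nat.card_congr e, Module.natCard_eq_pow_finrank (K := F), ← pow_add, add_comm, hd]
    have hiff : ∀ k : Fin (n + 1) → LinearMap.ker N, (∀ i j, B (v i + k i) (v j + k j) = 0) ↔
        ∃ hk : ∀ i j : Fin n, B (v i.castSucc + k i.castSucc) (v j.castSucc + k j.castSucc) = 0,
          ev ⟨fun i => k i.castSucc, hk⟩ (k (Fin.last n)) = tgt ⟨fun i => k i.castSucc, hk⟩ := fun k => by
      have key : ∀ j, ev ⟨fun i => k i.castSucc, j⟩ (k (Fin.last n)) = tgt ⟨fun i => k i.castSucc, j⟩ ↔
          ∀ j : Fin n, B (a + k (Fin.last n)) (v j.castSucc + k j.castSucc) = 0 := fun j => by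
        rw [funext_iff]
        refine forall_congr' fun i => ?_
        show B (k (Fin.last n) : V) (v i.castSucc + k i.castSucc) = -B a (v i.castSucc + k i.castSucc) ↔ _
        rw [map_add B, LinearMap.add_apply, eq_neg_iff_add_eq_zero, add_comm]
      refine ⟨fun hk => ⟨fun i j => hk _ _, (key _).2 fun j => hk _ _⟩, fun ⟨hk, he⟩ i j => ?_⟩
      rcases Fin.eq_castSucc_or_eq_last i with ⟨i, rfl⟩ | rfl <;>
        rcases Fin.eq_castSucc_or_eq_last j with ⟨j, rfl⟩ | rfl
      · exact hk i j
      · rw [alt_comm h.alt]; exact (key hk).1 he i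
      · exact (key hk).1 he j
      · exact h.alt _
    let e : {k : Fin (n + 1) → LinearMap.ker N // ∀ i j, B (v i + k i) (v j + k j) = 0} ≃
        ((k : Old) × {x : LinearMap.ker N // ev k x = tgt k}) :=
      { toFun := fun k => ⟨⟨fun i => k.1 i.castSucc, ((hiff k.1).1 k.2).1⟩, k.1 (Fin.last n), ((hiff k.1).1 k.2).2⟩
        invFun := fun p => ⟨Fin.snoc p.1.1 p.2.1, (hiff _).2 ⟨fun i j => by
            simp only [Fin.snoc_castSucc]; exact p.1.2 i j, by
            have : ∀ (hk : _), (⟨fun i => Fin.snoc (α := fun _ => LinearMap.ker N) p.1.1 p.2.1 i.castSucc, hk⟩ : Old) = p.1 :=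
              fun hk => Subtype.ext (funext fun i => by simp)
            rw [this, Fin.snoc_last]; exact p.2.2⟩⟩
        left_inv := fun k => Subtype.ext (Fin.snoc_init_self k.1)
        right_inv := fun p => by
          obtain ⟨⟨k, hk⟩, x, hx⟩ := p
          refine Sigma.subtype_ext (Subtype.ext (funext fun i => ?_)) ?_ <;> simp }
    haveI : Fintype Old := Fintype.ofFinite _
    have h1 : ∑ k : Old, Nat.card {x : LinearMap.ker N // ev k x = tgt k} * Nat.card F ^ n =
        Nat.card Old * Nat.card F ^ finrank F (LinearMap.ker N) := by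
      simp only [hfib, Finset.sum_const, Finset.card_univ, smul_eq_mul, Nat.card_eq_fintype_card]
    rw [← Finset.sum_mul] at h1
    rw [Nat.card_congr e, Nat.card_sigma, Nat.choose_succ_succ, Nat.choose_one_right, pow_add, ← mul_assoc, h1,
      mul_right_comm, ih (fun i => v i.castSucc) hv', ← pow_add, ← Nat.succ_mul]

theorem li_N (h : Nil B N) {v : I → V} (hv : ∀ i j, B (v i) (N (v j)) = G i j) (hG : IsUnit G.det) :
    LinearIndependent F (fun i => N (v i)) := by
  rw [Fintype.linearIndependent_iff]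
  intro c hc
  have h0 : c ᵥ* G = 0 := funext fun j => by
    have := congrArg (fun z => B z (v j)) hc
    simp only [map_sum, LinearMap.sum_apply, map_smul, LinearMap.smul_apply, smul_eq_mul, h.adj, hv, map_zero,
      LinearMap.zero_apply] at this
    exact this
  exact congrFun (Matrix.vecMul_injective_iff_isUnit.2 ((Matrix.isUnit_iff_isUnit_det _).2 hG) (a₁ := c) (a₂ := 0)
    (h0.trans (Matrix.zero_vecMul G).symm))

theorem card_lifts (h : Nil B N) {v : I → V} (hv : LinearIndependent F (fun i => N (v i))) :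
    Nat.card {k : I → LinearMap.ker N // ∀ i j, B (v i + k i) (v j + k j) = 0} * Nat.card F ^ (Fintype.card I).choose 2 =
      Nat.card F ^ (Fintype.card I * finrank F (LinearMap.ker N)) := by
  rw [← card_adjust h _ (fun i => v ((Fintype.equivFin I).symm i)) (hv.comp _ (Equiv.injective _))]
  congr 1
  refine Nat.card_congr ((Equiv.arrowCongr (Fintype.equivFin I) (Equiv.refl _)).subtypeEquiv fun k => ?_)
  constructor
  · intro hk i j; simpa using hk _ _
  · intro hk i j; simpa using hk (Fintype.equivFin I i) (Fintype.equivFin I j)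

theorem exists_tframe (h : Nil B N) {v : I → V} (hv : ∀ i j, B (v i) (N (v j)) = G i j) (hG : IsUnit G.det) :
    ∃ u : I → V, IsTFrame B N G u := by
  have h1 := card_lifts h (li_N h hv hG)
  have hpos : 0 < Nat.card F := Nat.card_pos
  obtain ⟨⟨k, hk⟩⟩ : Nonempty {k : I → LinearMap.ker N // ∀ i j, B (v i + k i) (v j + k j) = 0} := by
    refine (Nat.card_pos_iff.1 (Nat.pos_of_ne_zero fun h0 => ?_)).1
    rw [h0, zero_mul] at h1
    exact absurd h1.symm (pow_ne_zero _ hpos.ne')
  refine ⟨fun i => v i + k i, fun i j => ?_, hk⟩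
  rw [map_add N, LinearMap.mem_ker.1 (k j).2, add_zero, map_add, LinearMap.add_apply, hv, ← h.adj,
    LinearMap.mem_ker.1 (k i).2, map_zero, LinearMap.zero_apply, add_zero]

/-- The number of frames. -/
theorem card_frames (h : Nil B N) (hu : IsTFrame B N G u) (hG : IsUnit G.det)
    (hr : finrank F (LinearMap.range N) = Fintype.card I) :
    Nat.card {w : I → V // IsTFrame B N G w} * Nat.card F ^ (Fintype.card I).choose 2 =
      Nat.card {A : Matrix I I F // A * G * Aᵀ = G} * Nat.card F ^ (Fintype.card I * finrank F (LinearMap.ker N)) := by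
  classical
  haveI : Finite V := Module.finite_of_finite F
  haveI : Fintype F := Fintype.ofFinite F
  have hli := li_N h hu.1 hG
  have hgram : ∀ (A : Matrix I I F) i j, B (∑ l, A i l • u l) (N (∑ l, A j l • u l)) = (A * G * Aᵀ) i j := fun A i j => by
    simp only [map_sum, LinearMap.sum_apply, map_smul, LinearMap.smul_apply, smul_eq_mul, hu.1, Matrix.mul_apply,
      Matrix.transpose_apply, Finset.sum_mul, Finset.mul_sum]
    first
      | exact Finset.sum_congr rfl fun x _ => Finset.sum_congr rfl fun y _ => by ring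
      | (rw [Finset.sum_comm]; exact Finset.sum_congr rfl fun x _ => Finset.sum_congr rfl fun y _ => by ring)
  let Iso := {A : Matrix I I F // A * G * Aᵀ = G}
  let Fib : Iso → Type v := fun A =>
    {k : I → LinearMap.ker N // ∀ i j, B ((∑ l, A.1 i l • u l) + k i) ((∑ l, A.1 j l • u l) + k j) = 0}
  have hker : ∀ z : LinearMap.ker N, N (z : V) = 0 := fun z => z.2
  let f : ((A : Iso) × Fib A) → {w : I → V // IsTFrame B N G w} := fun p =>
    ⟨fun i => (∑ l, p.1.1 i l • u l) + p.2.1 i, fun i j => by
      rw [map_add N, hker, add_zero, map_add B, LinearMap.add_apply, hgram, p.1.2, ← h.adj, hker, map_zero,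
        LinearMap.zero_apply, add_zero], p.2.2⟩
  have hf : Function.Bijective f := by
    refine ⟨fun ⟨⟨A, hA⟩, k, hk⟩ ⟨⟨A', hA'⟩, k', hk'⟩ he => ?_, fun w => ?_⟩
    · have he' : ∀ i, (∑ l, A i l • u l) + (k i : V) = (∑ l, A' i l • u l) + (k' i : V) := fun i =>
        congrFun (congrArg Subtype.val he) i
      obtain rfl : A = A' := by
        ext i j
        have h1 := congrArg N (he' i)
        simp only [map_add, map_sum, map_smul, hker, add_zero] at h1
        rw [← sub_eq_zero, ← Finset.sum_sub_distrib] at h1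
        simp only [← sub_smul] at h1
        exact sub_eq_zero.1 (Fintype.linearIndependent_iff.1 hli _ h1 j)
      exact Sigma.subtype_ext rfl (funext fun i => Subtype.ext (add_left_cancel (he' i)))
    · have hspan : LinearMap.range N = Submodule.span F (Set.range fun i => N (u i)) :=
        (Submodule.eq_of_le_of_finrank_eq (Submodule.span_le (p := LinearMap.range N).2 (Set.range_subset_iff.2 fun i => LinearMap.mem_range_self N (u i)))
          (by rw [finrank_span_eq_card hli, hr])).symm
      choose A hA using fun i => (Submodule.mem_span_range_iff_exists_fun F).1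
        (show N (w.1 i) ∈ Submodule.span F (Set.range fun l => N (u l)) from hspan ▸ ⟨w.1 i, rfl⟩)
      have hk : ∀ i, w.1 i - ∑ l, A i l • u l ∈ LinearMap.ker N := fun i => by
        rw [LinearMap.mem_ker, map_sub, map_sum, sub_eq_zero, ← hA i]
        simp [map_smul]
      refine ⟨⟨⟨Matrix.of A, ?_⟩, fun i => (⟨_, hk i⟩ : LinearMap.ker N), fun i j => ?_⟩, Subtype.ext (funext fun i => ?_)⟩
      · ext i j
        rw [← hgram]
        have e : ∀ l, N (∑ x, A l x • u x) = N (w.1 l) := fun l => by rw [map_sum, ← hA l]; simp [map_smul]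
        simp only [Matrix.of_apply]
        rw [e, ← h.adj, e, h.adj, w.2.1]
      · simpa using w.2.2 i j
      · simp [f]
  rw [← Nat.card_congr (Equiv.ofBijective f hf), Nat.card_sigma, Finset.sum_mul]
  have hfib : ∀ A : Iso, Nat.card (Fib A) * Nat.card F ^ (Fintype.card I).choose 2 =
      Nat.card F ^ (Fintype.card I * finrank F (LinearMap.ker N)) := fun A =>
    card_lifts h (li_N h (G := G) (fun i j => by rw [hgram, A.2]) hG)
  rw [Finset.sum_congr rfl fun A _ => hfib A, Finset.sum_const, Finset.card_univ, smul_eq_mul, ← Nat.card_eq_fintype_card (α := Iso)]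

/-- The isometries commuting with `N`. -/
theorem card_commutant (h : Nil B N) (hu : IsTFrame B N G u) (hG : IsUnit G.det)
    (hr : finrank F (LinearMap.range N) = Fintype.card I) {k : ℕ} (hd : finrank F V = 2 * Fintype.card I + 2 * k) :
    Nat.card {e : V ≃ₗ[F] V // (∀ x y, B (e x) (e y) = B x y) ∧ ∀ x, e (N x) = N (e x)} =
      Nat.card {w : I → V // IsTFrame B N G w} * Nat.card (Matrix.symplecticGroup (Fin k) F) := by
  classical
  haveI : Finite V := Module.finite_of_finite F
  haveI : Fintype F := Fintype.ofFinite F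
  let Fr := {w : I → V // IsTFrame B N G w}
  let Fib : Fr → Type _ := fun w => {L : (Fin k ⊕ Fin k → F) →ₗ[F] V // IsPerpMap B N w.1 L}
  haveI : Finite ((Fin k ⊕ Fin k → F) →ₗ[F] V) := Module.finite_of_finite F
  haveI : Fintype Fr := Fintype.ofFinite _
  have hfib : ∀ w, Nat.card (Fib w) = Nat.card (Matrix.symplecticGroup (Fin k) F) := fun w => by
    obtain ⟨L, hL⟩ := exists_perp_coords h w.2 hG hd
    symm
    refine Nat.card_eq_of_bijective (fun A =>
      ⟨((perp B N w.1).subtype.comp L.toLinearMap).comp (Matrix.toLin' A.1), fun z => (L _).2, fun a b => ?_⟩) ⟨?_, ?_⟩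
    · show B (L _ : V) (L _ : V) = _
      rw [hL, Matrix.toLin'_apply, Matrix.toLin'_apply, sympForm_map]
    · intro A A' he
      refine Subtype.ext (Matrix.toLin'.injective (LinearMap.ext fun a => L.injective (Subtype.ext ?_)))
      exact LinearMap.congr_fun (congrArg Subtype.val he) a
    · rintro ⟨L', hL'1, hL'2⟩
      let T : (Fin k ⊕ Fin k → F) →ₗ[F] (Fin k ⊕ Fin k → F) := L.symm.toLinearMap.comp (L'.codRestrict _ hL'1)
      have hT : ∀ a, (L (T a) : V) = L' a := fun a => congrArg Subtype.val (L.apply_symm_apply _)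
      have hmem : LinearMap.toMatrix' T ∈ Matrix.symplecticGroup (Fin k) F := mem_symplecticGroup_iff_form.2 fun a b => by
        rw [← Matrix.toLin'_apply, ← Matrix.toLin'_apply, Matrix.toLin'_toMatrix', ← hL, hT, hT, hL'2]
      refine ⟨⟨_, hmem⟩, Subtype.ext (LinearMap.ext fun a => ?_)⟩
      show (L (Matrix.toLin' (LinearMap.toMatrix' T) a) : V) = L' a
      rw [Matrix.toLin'_toMatrix', hT]
  obtain ⟨L₀, hL₀⟩ := exists_perp_coords h hu hG hd
  have hP : IsPerpMap B N u ((perp B N u).subtype.comp L₀.toLinearMap) := ⟨fun z => (L₀ z).2, hL₀⟩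
  obtain ⟨M, hM, hMN⟩ := exists_full h hu hG hr hd hP
  let f : {e : V ≃ₗ[F] V // (∀ x y, B (e x) (e y) = B x y) ∧ ∀ x, e (N x) = N (e x)} → (w : Fr) × Fib w := fun e =>
    ⟨⟨fun i => e.1 (u i), fun i j => by rw [← e.2.2, e.2.1, hu.1], fun i j => by rw [e.2.1, hu.2]⟩,
      e.1.toLinearMap.comp ((perp B N u).subtype.comp L₀.toLinearMap), fun z => mem_perp.2
        ⟨fun i => (e.2.1 _ _).trans ((mem_perp.1 (L₀ z).2).1 i), fun i => by
          show B (e.1 (L₀ z : V)) (N (e.1 (u i))) = 0
          rw [← e.2.2, e.2.1]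
          exact (mem_perp.1 (L₀ z).2).2 i⟩,
      fun a b => (e.2.1 _ _).trans (hL₀ a b)⟩
  have hf : Function.Bijective f := by
    refine ⟨fun e e' he => ?_, fun ⟨w, L, hL⟩ => ?_⟩
    · have h1 : ∀ i, e.1 (u i) = e'.1 (u i) := fun i => congrFun (congrArg (fun p => p.1.1) he) i
      have h2 : ∀ a, e.1 (L₀ a : V) = e'.1 (L₀ a : V) := by
        have key : ∀ (p p' : (w : Fr) × Fib w), p = p' → ∀ a, p.2.1 a = p'.2.1 a := by rintro p _ rfl a; rfl
        exact key _ _ he
      refine Subtype.ext (LinearEquiv.ext fun x => ?_)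
      obtain ⟨⟨⟨x, y⟩, a⟩, rfl⟩ := M.surjective x
      rw [hM, comb_apply]
      simp only [map_add, map_sum, map_smul, h1, e.2.2, e'.2.2]
      congr 1
      exact h2 a
    · obtain ⟨M', hM', hMN'⟩ := exists_full h w.2 hG hr hd hL
      refine ⟨⟨M.symm.trans M', fun x y => ?_, fun x => ?_⟩, ?_⟩
      · obtain ⟨⟨p, a⟩, rfl⟩ := M.surjective x
        obtain ⟨⟨p', b⟩, rfl⟩ := M.surjective y
        simp only [LinearEquiv.trans_apply, LinearEquiv.symm_apply_apply]
        rw [hM, hM, hM', hM', form_full h hu hP, form_full h w.2 hL]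
      · obtain ⟨⟨⟨x, y⟩, a⟩, rfl⟩ := M.surjective x
        simp only [LinearEquiv.trans_apply, LinearEquiv.symm_apply_apply]
        rw [hMN, LinearEquiv.symm_apply_apply, hMN']
      · refine Sigma.subtype_ext (Subtype.ext (funext fun i => ?_)) (LinearMap.ext fun a => ?_)
        · show M' (M.symm (u i)) = w.1 i
          rw [show u i = M ((Pi.single i 1, 0), 0) by rw [hM, comb_apply]; simp [Pi.single_apply],
            M.symm_apply_apply, hM', comb_apply]
          simp [Pi.single_apply]
        · show M' (M.symm (L₀ a : V)) = L a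
          rw [show (L₀ a : V) = M (0, a) by rw [hM, map_zero, zero_add]; rfl, M.symm_apply_apply, hM', map_zero,
            zero_add]
  rw [Nat.card_congr (Equiv.ofBijective f hf), Nat.card_sigma]
  simp only [hfib, Finset.sum_const, Finset.card_univ, smul_eq_mul, Nat.card_eq_fintype_card, Fr]

end Finite

end Cfsg.Agent.Classical.SympEven
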