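import Cfsg.Agent.Lib.Classical.InvolutionDecomp
import Cfsg.Agent.Lib.Classical.Symp

/-! Hyperbolic frames adapted to a symplectic involution (up to scalars). -/

set_option autoImplicit false

namespace Cfsg.Agent.SympInvolutionFrame

variable {F V : Type*} [Field F] [AddCommGroup V] [Module F V] (B : LinearMap.BilinForm F V)

/-- Pairs `e i, f i` forming a hyperbolic system inside `W`, permuted by `τ` with relation `R`. -/
def IsFrame (R : V → V → V → V → Prop) (W : Submodule F V) {ι : Type} (e f : ι → V) (τ : ι → ι) : Prop :=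
  Function.Involutive τ ∧ (∀ i, e i ∈ W ∧ f i ∈ W) ∧ (∀ i j, B (e i) (e j) = 0) ∧ (∀ i j, B (f i) (f j) = 0) ∧
    (∀ i, B (e i) (f i) = 1) ∧ (∀ i j, i ≠ j → B (e i) (f j) = 0) ∧ ∀ i, R (e i) (f i) (e (τ i)) (f (τ i))

theorem span_le_of_mem {W : Submodule F V} {ι : Type} {e f : ι → V} (h : ∀ i, e i ∈ W ∧ f i ∈ W) :
    Submodule.span F (Set.range e ∪ Set.range f) ≤ W := by
  rw [Submodule.span_le]
  rintro _ (⟨i, rfl⟩ | ⟨i, rfl⟩)
  exacts [(h i).1, (h i).2]

/-- An invariant non-degenerate subspace has a frame. -/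
theorem exists_frame [FiniteDimensional F V] (hB : B.IsAlt) (g : V →ₗ[F] V) {z : F} (hz : z ≠ 0)
    (hg2 : ∀ v, g (g v) = z • v) (hg : ∀ u v, B (g u) (g v) = B u v) (R : V → V → V → V → Prop)
    (hR : ∀ a b c d, R a b c d → g a ∈ Submodule.span F {c, d} ∧ g b ∈ Submodule.span F {c, d})
    (step : ∀ W : Submodule F V, W ≠ ⊥ → (∀ w ∈ W, g w ∈ W) → (∀ u ∈ W, u ≠ 0 → ∃ v ∈ W, B u v ≠ 0) →
      ∃ (κ : Type) (_ : Fintype κ) (_ : DecidableEq κ) (_ : Nonempty κ) (e f : κ → V) (τ : κ → κ),
        IsFrame B R W e f τ) :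
    ∀ (W : Submodule F V), (∀ w ∈ W, g w ∈ W) → (∀ u ∈ W, u ≠ 0 → ∃ v ∈ W, B u v ≠ 0) →
      ∃ (ι : Type) (_ : Fintype ι) (_ : DecidableEq ι) (e f : ι → V) (τ : ι → ι), IsFrame B R W e f τ ∧
        W ≤ Submodule.span F (Set.range e ∪ Set.range f) := by
  suffices H : ∀ (k : ℕ) (W : Submodule F V), Module.finrank F W = k → (∀ w ∈ W, g w ∈ W) →
      (∀ u ∈ W, u ≠ 0 → ∃ v ∈ W, B u v ≠ 0) →
      ∃ (ι : Type) (_ : Fintype ι) (_ : DecidableEq ι) (e f : ι → V) (τ : ι → ι), IsFrame B R W e f τ ∧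
        W ≤ Submodule.span F (Set.range e ∪ Set.range f) by
    intro W; exact H _ W rfl
  intro k
  induction k using Nat.strong_induction_on with
  | _ k ih =>
    intro W hk hgW hW
    by_cases hbot : W = ⊥
    · subst hbot
      exact ⟨Fin 0, inferInstance, inferInstance, Fin.elim0, Fin.elim0, id,
        ⟨fun _ => rfl, fun i => i.elim0, fun i => i.elim0, fun i => i.elim0, fun i => i.elim0, fun i => i.elim0,
          fun i => i.elim0⟩, bot_le⟩
    obtain ⟨κ, _, _, hκ, e, f, τ, hτ, hmem, hee, hff, hef, hef', hrel⟩ := step W hbot hgW hW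
    have hswap : ∀ u v, B u v = -B v u := fun u v => (hB.neg_eq v u).symm
    set S := Submodule.span F (Set.range e ∪ Set.range f)
    have heS : ∀ i, e i ∈ S := fun i => Submodule.subset_span (Or.inl ⟨i, rfl⟩)
    have hfS : ∀ i, f i ∈ S := fun i => Submodule.subset_span (Or.inr ⟨i, rfl⟩)
    have hSW : S ≤ W := span_le_of_mem hmem
    have hgS : ∀ y ∈ S, g y ∈ S := by
      intro y hy
      induction hy using Submodule.span_induction with
      | mem y hy =>
        have hle : ∀ i, Submodule.span F {e i, f i} ≤ S := fun i => by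
          rw [Submodule.span_le, Set.insert_subset_iff, Set.singleton_subset_iff]; exact ⟨heS i, hfS i⟩
        rcases hy with ⟨i, rfl⟩ | ⟨i, rfl⟩
        · exact hle _ (hR _ _ _ _ (hrel i)).1
        · exact hle _ (hR _ _ _ _ (hrel i)).2
      | zero => simp
      | add a b _ _ ha hb => rw [map_add]; exact S.add_mem ha hb
      | smul c a _ ha => rw [map_smul]; exact S.smul_mem _ ha
    let W' : Submodule F V :=
      { carrier := {w | w ∈ W ∧ ∀ y ∈ S, B y w = 0}
        add_mem' := fun {a b} ha hb => ⟨W.add_mem ha.1 hb.1, fun y hy => by rw [map_add, ha.2 y hy, hb.2 y hy, add_zero]⟩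
        zero_mem' := ⟨W.zero_mem, fun y _ => map_zero _⟩
        smul_mem' := fun c a ha => ⟨W.smul_mem c ha.1, fun y hy => by rw [map_smul, ha.2 y hy, smul_zero]⟩ }
    have hproj : ∀ w ∈ W, ∃ s ∈ S, w - s ∈ W' := by
      intro w hw
      have hsS : ∑ i, (B (e i) w • f i - B (f i) w • e i) ∈ S :=
        S.sum_mem fun i _ => S.sub_mem (S.smul_mem _ (hfS i)) (S.smul_mem _ (heS i))
      refine ⟨_, hsS, W.sub_mem hw (hSW hsS), fun y hy => ?_⟩
      induction hy using Submodule.span_induction with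
      | mem y hy =>
        rcases hy with ⟨j, rfl⟩ | ⟨j, rfl⟩
        · rw [map_sub, map_sum, Finset.sum_eq_single j]
          · simp [hee, hef]
          · intro i _ hi; simp [hee, hef' j i (Ne.symm hi)]
          · simp
        · rw [map_sub, map_sum, Finset.sum_eq_single j]
          · simp [hff, hswap (f j) (e j), hef]
          · intro i _ hi; simp [hff, hswap (f j) (e i), hef' i j hi]
          · simp
      | zero => simp
      | add a b _ _ ha hb => rw [map_add, LinearMap.add_apply, ha, hb, add_zero]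
      | smul c a _ ha => rw [map_smul, LinearMap.smul_apply, ha, smul_zero]
    have hlt : Module.finrank F W' < k := hk ▸ Submodule.finrank_lt_finrank_of_lt
      (lt_of_le_of_ne (fun w hw => hw.1) fun h => by
        obtain ⟨i⟩ := hκ
        have : f i ∈ W' := h.symm ▸ (hmem i).2
        exact one_ne_zero ((hef i).symm.trans (this.2 _ (heS i))))
    have hgW' : ∀ w ∈ W', g w ∈ W' := fun w hw => ⟨hgW w hw.1, fun y hy => by
      have hy' : g (z⁻¹ • g y) = y := by rw [map_smul, hg2, smul_smul, inv_mul_cancel₀ hz, one_smul]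
      rw [← hy', hg]
      exact hw.2 _ (S.smul_mem _ (hgS y hy))⟩
    have hW' : ∀ u ∈ W', u ≠ 0 → ∃ v ∈ W', B u v ≠ 0 := fun u hu hu0 => by
      obtain ⟨v, hv, huv⟩ := hW u hu.1 hu0
      obtain ⟨s, hs, hvs⟩ := hproj v hv
      exact ⟨v - s, hvs, by rwa [map_sub, hswap u s, hu.2 s hs, neg_zero, sub_zero]⟩
    obtain ⟨ι, _, _, e', f', τ', ⟨hτ', hmem', hee', hff', hef1, hef2, hrel'⟩, hsp⟩ := ih _ hlt W' rfl hgW' hW'
    refine ⟨κ ⊕ ι, inferInstance, inferInstance, Sum.elim e e', Sum.elim f f', Sum.map τ τ',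
      ⟨?_, ?_, ?_, ?_, ?_, ?_, ?_⟩, ?_⟩
    · rintro (i | i)
      exacts [congrArg Sum.inl (hτ i), congrArg Sum.inr (hτ' i)]
    · rintro (i | i)
      exacts [hmem i, ⟨(hmem' i).1.1, (hmem' i).2.1⟩]
    · rintro (i | i) (j | j)
      exacts [hee i j, (hmem' j).1.2 _ (heS i), by simp [hswap (e' i) (e j), (hmem' i).1.2 _ (heS j)], hee' i j]
    · rintro (i | i) (j | j)
      exacts [hff i j, (hmem' j).2.2 _ (hfS i), by simp [hswap (f' i) (f j), (hmem' i).2.2 _ (hfS j)], hff' i j]
    · rintro (i | i)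
      exacts [hef i, hef1 i]
    · rintro (i | i) (j | j) hij
      exacts [hef' i j fun h => hij (congrArg Sum.inl h), (hmem' j).2.2 _ (heS i),
        by simp [hswap (e' i) (f j), (hmem' i).1.2 _ (hfS j)], hef2 i j fun h => hij (congrArg Sum.inr h)]
    · rintro (i | i)
      exacts [hrel i, hrel' i]
    · intro w hw
      obtain ⟨s, hs, hws⟩ := hproj w hw
      rw [← sub_add_cancel w s, Set.Sum.elim_range, Set.Sum.elim_range, Set.union_union_union_comm,
        Submodule.span_union]
      exact add_comm (w - s) s ▸ Submodule.add_mem_sup hs (hsp hws)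

variable {B}

theorem single_frame {R : V → V → V → V → Prop} {W : Submodule F V} (hB : B.IsAlt) {u v : V} (hu : u ∈ W)
    (hv : v ∈ W) (huv : B u v = 1) (hr : R u v u v) :
    ∃ (κ : Type) (_ : Fintype κ) (_ : DecidableEq κ) (_ : Nonempty κ) (e f : κ → V) (τ : κ → κ),
      IsFrame B R W e f τ :=
  ⟨Fin 1, inferInstance, inferInstance, ⟨0⟩, fun _ => u, fun _ => v, id, fun _ => rfl, fun _ => ⟨hu, hv⟩,
    fun _ _ => hB u, fun _ _ => hB v, fun _ => huv, fun i j h => absurd (Subsingleton.elim i j) h, fun _ => hr⟩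

/-- In odd characteristic: one of the planes `(u, v)` is split by `g`, or swapped. -/
theorem step_odd (hB : B.IsAlt) {g : V →ₗ[F] V} {z : F} (h2 : (2 : F) ≠ 0) (hg2 : ∀ v, g (g v) = z • v)
    (hg : ∀ u v, B (g u) (g v) = B u v) (hz : z = 1 ∨ z = -1)
    {W : Submodule F V} (hne : W ≠ ⊥) (hgW : ∀ w ∈ W, g w ∈ W) (hW : ∀ u ∈ W, u ≠ 0 → ∃ v ∈ W, B u v ≠ 0) :
    (IsSquare z → ∃ u ∈ W, ∃ v ∈ W, B u v = 1 ∧ g u ∈ Submodule.span F {u} ∧ g v ∈ Submodule.span F {v}) ∧
    (¬ IsSquare z → ∃ u ∈ W, ∃ v ∈ W, B u v = 1 ∧ g u ∈ Submodule.span F {v} ∧ g v ∈ Submodule.span F {u}) := by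
  refine ⟨fun hsq => ?_, fun hsq => ?_⟩
  · obtain ⟨s, rfl⟩ := hsq
    obtain ⟨w, hw, hw0⟩ := W.exists_mem_ne_zero_of_ne_bot hne
    obtain ⟨u, hu, hu0, hgu⟩ : ∃ u ∈ W, u ≠ 0 ∧ ∃ c, g u = c • u ∧ c * c = s * s := by
      by_cases h : g w + s • w = 0
      · exact ⟨w, hw, hw0, -s, by rw [neg_smul]; exact eq_neg_of_add_eq_zero_left h, neg_mul_neg s s⟩
      · exact ⟨_, W.add_mem (hgW w hw) (W.smul_mem s hw), h, s, by
          rw [map_add, map_smul, hg2, smul_add, smul_smul, add_comm], rfl⟩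
    obtain ⟨c, hgu, hcc⟩ := hgu
    rw [← hcc] at hg2 hz
    have hc0 : c ≠ 0 := fun h => by rcases hz with hz | hz <;> simp [h] at hz
    obtain ⟨v₀, hv₀, huv₀⟩ := hW u hu hu0
    obtain ⟨v₁, hv₁, huv₁⟩ : ∃ v₁ ∈ W, B u v₁ = 1 := ⟨(B u v₀)⁻¹ • v₀, W.smul_mem _ hv₀,
      by rw [map_smul, smul_eq_mul, inv_mul_cancel₀ huv₀]⟩
    refine ⟨u, hu, (2 : F)⁻¹ • (v₁ + c • g v₁), W.smul_mem _ (W.add_mem hv₁ (W.smul_mem _ (hgW _ hv₁))), ?_, Submodule.mem_span_singleton.2 ⟨c, hgu.symm⟩,
      Submodule.mem_span_singleton.2 ⟨c⁻¹, ?_⟩⟩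
    · have h := hg u v₁
      rw [hgu, map_smul, LinearMap.smul_apply, smul_eq_mul, huv₁] at h
      rw [map_smul, map_add, map_smul, smul_eq_mul, smul_eq_mul, h, huv₁, one_add_one_eq_two, inv_mul_cancel₀ h2]
    · have hzz : (c * c) * (c * c) = 1 := by rcases hz with hz | hz <;> rw [hz] <;> ring
      simp only [map_smul, map_add, hg2, smul_add, smul_smul]
      rw [add_comm]
      congr 2
      · field_simp
      · field_simp
        linear_combination -hzz
  · obtain rfl : z = -1 := hz.resolve_left fun h => hsq (h ▸ IsSquare.one)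
    have hex : ∃ u ∈ W, B u (g u) ≠ 0 := by
      by_contra! h
      obtain ⟨w, hw, hw0⟩ := W.exists_mem_ne_zero_of_ne_bot hne
      obtain ⟨v, hv, hwv⟩ := hW w hw hw0
      have h1 := h (w + g v) (W.add_mem hw (hgW v hv))
      rw [map_add, map_add, map_add, LinearMap.add_apply, LinearMap.add_apply, h w hw, h (g v) (hgW v hv), hg2,
        map_smul, smul_eq_mul, hg v w, ← hB.neg_eq w v] at h1
      exact hwv ((mul_eq_zero.1 (by linear_combination -h1 : (2 : F) * B w v = 0)).resolve_left h2)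
    obtain ⟨u, hu, hu0⟩ := hex
    refine ⟨u, hu, (B u (g u))⁻¹ • g u, W.smul_mem _ (hgW u hu),
      by rw [map_smul, smul_eq_mul, inv_mul_cancel₀ hu0],
      Submodule.mem_span_singleton.2 ⟨B u (g u), by rw [smul_smul, mul_inv_cancel₀ hu0, one_smul]⟩,
      Submodule.mem_span_singleton.2 ⟨(B u (g u))⁻¹ * -1, by rw [map_smul, hg2, smul_smul]⟩⟩

/-- In characteristic two: an invariant plane or a pair of orthogonal planes swapped by `g`. -/
theorem step_even (hB : B.IsAlt) {g : V →ₗ[F] V} (h2 : (2 : F) = 0) (hg2 : ∀ v, g (g v) = v)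
    (hg : ∀ u v, B (g u) (g v) = B u v) {W : Submodule F V} (hne : W ≠ ⊥) (hgW : ∀ w ∈ W, g w ∈ W)
    (hW : ∀ u ∈ W, u ≠ 0 → ∃ v ∈ W, B u v ≠ 0) :
    ∃ (κ : Type) (_ : Fintype κ) (_ : DecidableEq κ) (_ : Nonempty κ) (e f : κ → V) (τ : κ → κ),
      IsFrame B (fun a b c d => g a ∈ Submodule.span F {c, d} ∧ g b ∈ Submodule.span F {c, d}) W e f τ := by
  have hadd : ∀ a : F, a + a = 0 := fun a => by rw [← two_mul, h2, zero_mul]
  have hsymm : ∀ a b, B a b = B b a := fun a b => by
    rw [← hB.neg_eq b a]; exact neg_eq_of_add_eq_zero_left (hadd _)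
  by_cases htriv : ∀ w ∈ W, g w = w
  · obtain ⟨u, hu, hu0⟩ := W.exists_mem_ne_zero_of_ne_bot hne
    obtain ⟨v, hv, huv⟩ := hW u hu hu0
    refine single_frame hB hu (W.smul_mem (B u v)⁻¹ hv) (by rw [map_smul, smul_eq_mul, inv_mul_cancel₀ huv]) ?_
    exact ⟨by rw [htriv u hu]; exact Submodule.subset_span (by simp),
      by rw [htriv _ (W.smul_mem _ hv)]; exact Submodule.subset_span (by simp)⟩
  by_cases hdiag : ∃ u ∈ W, B u (g u) ≠ 0
  · obtain ⟨u, hu, hu0⟩ := hdiag
    refine single_frame hB hu (W.smul_mem (B u (g u))⁻¹ (hgW u hu))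
      (by rw [map_smul, smul_eq_mul, inv_mul_cancel₀ hu0]) ⟨?_, ?_⟩
    · exact Submodule.mem_span_pair.2 ⟨0, B u (g u), by rw [zero_smul, zero_add, smul_smul, mul_inv_cancel₀ hu0, one_smul]⟩
    · exact Submodule.mem_span_pair.2 ⟨(B u (g u))⁻¹, 0, by rw [zero_smul, add_zero, map_smul, hg2]⟩
  push Not at htriv hdiag
  obtain ⟨u, hu, hgu⟩ := htriv
  obtain ⟨v, hv, h1, h3⟩ : ∃ v ∈ W, B u v = 1 ∧ B (g u) v = 0 := by
    by_cases hall : ∀ v ∈ W, B (g u) v = 0 → B u v = 0
    · exfalso
      obtain ⟨w, hw, hw1⟩ := hW (g u) (hgW u hu) fun h => hgu (by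
        have := congrArg g h; rw [hg2, map_zero] at this; rw [h, this])
      set c := B u w / B (g u) w
      have hall' : ∀ v ∈ W, B u v = c * B (g u) v := fun v hv => by
        have h := hall (v - (B (g u) v / B (g u) w) • w) (W.sub_mem hv (W.smul_mem _ hw))
          (by rw [map_sub, map_smul, smul_eq_mul, div_mul_cancel₀ _ hw1, sub_self])
        rw [map_sub, map_smul, smul_eq_mul, sub_eq_zero] at h
        rw [h]; simp only [c]; ring
      have hu' : u = c • g u := by
        by_contra hne'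
        obtain ⟨v, hv, h⟩ := hW (u - c • g u) (W.sub_mem hu (W.smul_mem _ (hgW u hu))) (sub_ne_zero.2 hne')
        exact h (by rw [map_sub, LinearMap.sub_apply, map_smul, LinearMap.smul_apply, smul_eq_mul, hall' v hv, sub_self])
      have hgu' : g u = c • u := by
        conv_lhs => rw [hu', map_smul, hg2]
      rw [hgu', smul_smul] at hu'
      have hu0 : u ≠ 0 := fun h => hgu (by rw [h, map_zero])
      have hcc : c * c = 1 := (smul_left_injective F hu0) (hu'.symm.trans (one_smul F u).symm)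
      have hc1 : c = 1 := by
        rcases mul_self_eq_one_iff.1 hcc with h | h
        · exact h
        · rw [h]; exact neg_eq_of_add_eq_zero_left (hadd 1)
      exact hgu (by rw [hgu', hc1, one_smul])
    · push Not at hall
      obtain ⟨v, hv, h0, h⟩ := hall
      exact ⟨(B u v)⁻¹ • v, W.smul_mem _ hv, by rw [map_smul, smul_eq_mul, inv_mul_cancel₀ h],
        by rw [map_smul, smul_eq_mul, h0, mul_zero]⟩
  have hxu : B u (g u) = 0 := hdiag u hu
  have hxv : B v (g v) = 0 := hdiag v hv
  have h4 : B u (g v) = 0 := by rw [← hg, hg2]; exact h3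
  refine ⟨Fin 2, inferInstance, inferInstance, ⟨0⟩, ![u, g u], ![v, g v], ![1, 0], ?_, ?_, ?_, ?_, ?_, ?_, ?_⟩
  · intro i; fin_cases i <;> rfl
  · intro i; fin_cases i
    exacts [⟨hu, hv⟩, ⟨hgW u hu, hgW v hv⟩]
  · intro i j; fin_cases i <;> fin_cases j
    exacts [hB u, hxu, by simpa [hsymm (g u) u] using hxu, hB (g u)]
  · intro i j; fin_cases i <;> fin_cases j
    exacts [hB v, hxv, by simpa [hsymm (g v) v] using hxv, hB (g v)]
  · intro i; fin_cases i
    exacts [h1, by simpa [hg] using h1]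
  · intro i j hij; fin_cases i <;> fin_cases j
    exacts [absurd rfl hij, h4, h3, absurd rfl hij]
  · intro i; fin_cases i
    · exact ⟨Submodule.subset_span (by simp), Submodule.subset_span (by simp)⟩
    · exact ⟨(hg2 u).symm ▸ Submodule.subset_span (by simp), (hg2 v).symm ▸ Submodule.subset_span (by simp)⟩

theorem frame_li {R : V → V → V → V → Prop} {W : Submodule F V} (hB : B.IsAlt) {ι : Type} [Fintype ι] [DecidableEq ι]
    {e f : ι → V} {τ : ι → ι} (h : IsFrame B R W e f τ) : LinearIndependent F (Sum.elim e f) := by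
  obtain ⟨-, -, hee, hff, hef, hef', -⟩ := h
  rw [Fintype.linearIndependent_iff]
  intro c hc
  rw [Fintype.sum_sum_type] at hc
  simp only [Sum.elim_inl, Sum.elim_inr] at hc
  rintro (j | j)
  · have h0 := congrArg (fun w => B w (f j)) hc
    simp only [map_add, map_sum, LinearMap.add_apply, LinearMap.sum_apply, map_smul, LinearMap.smul_apply, smul_eq_mul,
      hff, mul_zero, Finset.sum_const_zero, add_zero, map_zero, LinearMap.zero_apply] at h0
    rwa [Finset.sum_eq_single j (fun i _ hi => by rw [hef' i j hi, mul_zero]) (by simp), hef, mul_one] at h0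
  · have h0 := congrArg (B (e j)) hc
    simp only [map_add, map_sum, map_smul, smul_eq_mul, hee, mul_zero, Finset.sum_const_zero, zero_add, map_zero] at h0
    rwa [Finset.sum_eq_single j (fun i _ hi => by rw [hef' j i (Ne.symm hi), mul_zero]) (by simp), hef, mul_one] at h0

/-- Grouping a frame into `t` orthogonal non-degenerate pieces permuted by `g`. -/
theorem exists_pieces [FiniteDimensional F V] (hB : B.IsAlt) {g : V →ₗ[F] V} (hinj : Function.Injective g)
    {R : V → V → V → V → Prop}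
    (hR : ∀ a b c d, R a b c d → g a ∈ Submodule.span F {c, d} ∧ g b ∈ Submodule.span F {c, d}) {ι : Type}
    [Fintype ι] [DecidableEq ι] {e f : ι → V} {τ : ι → ι} (h : IsFrame B R ⊤ e f τ)
    (htop : ⊤ ≤ Submodule.span F (Set.range e ∪ Set.range f)) {k t : ℕ} (hk : 0 < k)
    (hc : Fintype.card ι = k * t) :
    ∃ D : Fin t → Submodule F V, (∀ j, Module.finrank F (D j) = k + k) ∧ iSupIndep D ∧ iSup D = ⊤ ∧
      (∀ j, ∀ u ∈ D j, u ≠ 0 → ∃ v ∈ D j, B u v ≠ 0) ∧ (∀ i j, i ≠ j → ∀ u ∈ D i, ∀ v ∈ D j, B u v = 0) ∧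
      ∃ σ : Equiv.Perm (Fin t), ∀ j, (D j).map g = D (σ j) := by
  have hli := frame_li hB h
  have htop' : ⊤ ≤ Submodule.span F (Set.range (Sum.elim e f)) := by rwa [Set.Sum.elim_range]
  let b := Module.Basis.mk hli htop'
  have hb : ∀ x, b x = Sum.elim e f x := fun x => Module.Basis.mk_apply hli htop' x
  obtain ⟨hτ, -, hee, hff, hef, hef', hrel⟩ := h
  obtain ⟨P, σ, hP, hcard⟩ := InvolutionDecomp.exists_packing hτ hk hc
  let P' : ι ⊕ ι → Fin t := Sum.elim P P
  let D : Fin t → Submodule F V := fun j => Submodule.span F (b '' {x | P' x = j})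
  have hD : ∀ j, Module.finrank F (D j) = k + k := fun j => by
    show Module.finrank F (Submodule.span F (b '' {x | P' x = j})) = k + k
    rw [Set.image_eq_range]
    refine (finrank_span_eq_card ?_).trans ?_
    · exact b.linearIndependent.comp Subtype.val Subtype.val_injective
    · conv_rhs => rw [← hcard j]
      rw [show (Finset.univ.filter fun i => P i = j).card = Fintype.card {i // P i = j} from
        (Fintype.card_subtype _).symm]
      rw [← Fintype.card_sum]
      exact Fintype.card_congr (Equiv.subtypeSum)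
  have hmem : ∀ x, b x ∈ D (P' x) := fun x => Submodule.subset_span ⟨x, rfl, rfl⟩
  have horth : ∀ i j, i ≠ j → ∀ u ∈ D i, ∀ v ∈ D j, B u v = 0 := by
    intro i j hij u hu v hv
    induction hu using Submodule.span_induction with
    | zero => simp
    | add a b _ _ ha hb => rw [map_add, LinearMap.add_apply, ha, hb, add_zero]
    | smul c a _ ha => rw [map_smul, LinearMap.smul_apply, ha, smul_zero]
    | mem u hu =>
      induction hv using Submodule.span_induction with
      | zero => simp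
      | add a b _ _ ha hb => rw [map_add, ha, hb, add_zero]
      | smul c a _ ha => rw [map_smul, ha, smul_zero]
      | mem v hv =>
        obtain ⟨x, hx, rfl⟩ := hu
        obtain ⟨y, hy, rfl⟩ := hv
        rw [hb, hb]
        rcases x with x | x <;> rcases y with y | y
        · exact hee x y
        · exact hef' x y fun e' => hij (by rw [← hx, ← hy]; show P x = P y; rw [e'])
        · rw [Sum.elim_inr, Sum.elim_inl, ← hB.neg_eq, hef' y x fun e' => hij (by
            rw [← hx, ← hy]; show P x = P y; rw [e']), neg_zero]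
        · exact hff x y
  refine ⟨D, hD, fun j => ?_, ?_, fun j u hu hu0 => ?_, horth, σ, fun j => ?_⟩
  · refine (b.linearIndependent.disjoint_span_image (s := {x | P' x = j}) (t := {x | P' x ≠ j}) ?_).mono_right ?_
    · exact Set.disjoint_left.2 fun i h h' => h' h
    · refine iSup₂_le fun l hl => Submodule.span_mono (Set.image_mono fun i hi => ?_)
      exact fun e' => hl (hi.symm.trans e')
  · rw [eq_top_iff, ← b.span_eq, Submodule.span_le]
    rintro _ ⟨i, rfl⟩
    exact le_iSup D (P' i) (hmem i)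
  · by_contra! hall
    refine hu0 (b.ext_elem_iff.2 fun x => ?_)
    rw [map_zero, Finsupp.zero_apply]
    have hkey : ∀ y, B u (b y) = 0 := fun y => by
      by_cases hy : P' y = j
      · exact hall _ (hy ▸ hmem y)
      · exact horth j _ (Ne.symm hy) u hu _ (hmem y)
    have hsum : ∀ y, ∑ x, b.repr u x * B (b x) (b y) = 0 := fun y => by
      have := hkey y
      rw [← b.sum_repr u, map_sum, LinearMap.sum_apply] at this
      simpa [map_smul] using this
    rcases x with x | x
    · have h0 := hsum (Sum.inr x)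
      simp only [hb, Fintype.sum_sum_type, Sum.elim_inl, Sum.elim_inr, hff, mul_zero, Finset.sum_const_zero,
        add_zero] at h0
      rwa [Finset.sum_eq_single x (fun i _ hi => by rw [hef' i x hi, mul_zero]) (by simp), hef, mul_one] at h0
    · have h0 := hsum (Sum.inl x)
      simp only [hb, Fintype.sum_sum_type, Sum.elim_inl, Sum.elim_inr, hee, mul_zero, Finset.sum_const_zero,
        zero_add] at h0
      rw [Finset.sum_eq_single x (fun i _ hi => by rw [← hB.neg_eq, hef' x i (Ne.symm hi), neg_zero, mul_zero]) (by simp),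
        ← hB.neg_eq, hef] at h0
      simpa using h0
  · refine Submodule.eq_of_le_of_finrank_eq ?_ ?_
    · rw [Submodule.map_span_le]
      rintro _ ⟨x, hx, rfl⟩
      obtain ⟨i, hi, hgi⟩ : ∃ i, P i = j ∧ g (b x) ∈ Submodule.span F {e (τ i), f (τ i)} := by
        rcases x with i | i
        · exact ⟨i, hx, by rw [hb]; exact (hR _ _ _ _ (hrel i)).1⟩
        · exact ⟨i, hx, by rw [hb]; exact (hR _ _ _ _ (hrel i)).2⟩
      refine (Submodule.span_le.2 ?_) hgi
      have h1 := hmem (Sum.inl (τ i))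
      have h2 := hmem (Sum.inr (τ i))
      rw [hb] at h1 h2
      simp only [P', Sum.elim_inl, Sum.elim_inr, hP, hi] at h1 h2
      simp [Set.insert_subset_iff, h1, h2]
    · rw [← (Submodule.equivMapOfInjective g hinj (D j)).finrank_eq, hD, hD]

/-- The frame splits the space into two totally isotropic halves. -/
theorem exists_lagrangians {R : V → V → V → V → Prop} (hB : B.IsAlt) {ι : Type} [Fintype ι] [DecidableEq ι]
    {e f : ι → V} {τ : ι → ι} (h : IsFrame B R ⊤ e f τ)
    (htop : ⊤ ≤ Submodule.span F (Set.range e ∪ Set.range f)) :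
    IsCompl (Submodule.span F (Set.range e)) (Submodule.span F (Set.range f)) ∧
      (∀ u ∈ Submodule.span F (Set.range e), ∀ v ∈ Submodule.span F (Set.range e), B u v = 0) ∧
      (∀ u ∈ Submodule.span F (Set.range f), ∀ v ∈ Submodule.span F (Set.range f), B u v = 0) := by
  have hli := frame_li hB h
  obtain ⟨hτ, -, hee, hff, hef, hef', -⟩ := h
  have hiso : ∀ (w : ι → V), (∀ i j, B (w i) (w j) = 0) →
      ∀ u ∈ Submodule.span F (Set.range w), ∀ v ∈ Submodule.span F (Set.range w), B u v = 0 := by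
    intro w hw u hu v hv
    induction hu using Submodule.span_induction with
    | zero => simp
    | add a b _ _ ha hb => rw [map_add, LinearMap.add_apply, ha, hb, add_zero]
    | smul c a _ ha => rw [map_smul, LinearMap.smul_apply, ha, smul_zero]
    | mem u hu =>
      induction hv using Submodule.span_induction with
      | zero => simp
      | add a b _ _ ha hb => rw [map_add, ha, hb, add_zero]
      | smul c a _ ha => rw [map_smul, ha, smul_zero]
      | mem v hv =>
        obtain ⟨x, rfl⟩ := hu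
        obtain ⟨y, rfl⟩ := hv
        exact hw x y
  refine ⟨⟨?_, ?_⟩, hiso e hee, hiso f hff⟩
  · have := hli.disjoint_span_image (s := Set.range Sum.inl) (t := Set.range Sum.inr)
      Set.isCompl_range_inl_range_inr.disjoint
    rwa [← Set.range_comp, ← Set.range_comp, Sum.elim_comp_inl, Sum.elim_comp_inr] at this
  · rw [codisjoint_iff, ← Submodule.span_union]
    exact top_le_iff.1 htop

end Cfsg.Agent.SympInvolutionFrame
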