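import Cfsg.Agent.Lib.Classical.IsotropicCount
import Cfsg.Agent.Lib.Classical.IsotropicInvariant
import Cfsg.Agent.Lib.Classical.SelfRecipDivisors

/-! Elements of prime order of `Sp_2d(q)` fixing totally isotropic subspaces of a given dimension. -/

set_option autoImplicit false

namespace Cfsg.Agent.SympIsoDerange

open Polynomial Matrix Cfsg.Agent.SelfReciprocalFactors Cfsg.Agent.SelfRecipDivisors
  Cfsg.Agent.UnitaryDetCentralizer

variable {F : Type*} [Field F]

/-- A realisation fixing a totally isotropic `m`-space. -/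
def RealIso (F : Type*) [Field F] (r : ℕ) (P : F[X]) (m : ℕ) : Prop :=
  ∃ (a : ℕ) (x : Matrix.symplecticGroup (Fin a) F) (W : Submodule F (Fin a ⊕ Fin a → F)),
    x ^ r = 1 ∧ P.natDegree = 2 * a ∧ (x : Matrix (Fin a ⊕ Fin a) (Fin a ⊕ Fin a) F).charpoly = P ∧
      Module.finrank F W = m ∧ (∀ u ∈ W, ∀ v ∈ W, sympForm a F u v = 0) ∧
      ∀ w ∈ W, (x : Matrix (Fin a ⊕ Fin a) (Fin a ⊕ Fin a) F) *ᵥ w ∈ W

theorem iso_zero {r : ℕ} {P : F[X]} (h : SympPrimeOrderClasses.Real F r P) : RealIso F r P 0 := by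
  obtain ⟨a, x, hx, hd, hP⟩ := h
  exact ⟨a, x, ⊥, hx, hd, hP, finrank_bot F _, by simp, by simp⟩

/-- The pairing of the two summands. -/
def pairEquiv (a b : ℕ) :
    ((Fin a ⊕ Fin a → F) × (Fin b ⊕ Fin b → F)) ≃ₗ[F] (Fin (a + b) ⊕ Fin (a + b) → F) :=
  (LinearEquiv.sumArrowLequivProdArrow _ _ F F).symm ≪≫ₗ
    LinearEquiv.funCongrLeft F F (Classical.sympBlockEquiv a b).symm

theorem pairEquiv_apply (a b : ℕ) (p : (Fin a ⊕ Fin a → F) × (Fin b ⊕ Fin b → F)) :
    pairEquiv a b p = Sum.elim p.1 p.2 ∘ (Classical.sympBlockEquiv a b).symm := by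
  funext k
  simp only [pairEquiv, LinearEquiv.trans_apply, LinearEquiv.funCongrLeft_apply, LinearMap.funLeft_apply,
    Function.comp_apply]
  rcases (Classical.sympBlockEquiv a b).symm k with l | l <;> rfl

theorem blockMat_mulVec {a b : ℕ} (A : Matrix (Fin a ⊕ Fin a) (Fin a ⊕ Fin a) F)
    (B : Matrix (Fin b ⊕ Fin b) (Fin b ⊕ Fin b) F) (u : Fin a ⊕ Fin a → F) (v : Fin b ⊕ Fin b → F) :
    Classical.blockMat A B *ᵥ pairEquiv a b (u, v) = pairEquiv a b (A *ᵥ u, B *ᵥ v) := by
  rw [pairEquiv_apply, pairEquiv_apply, Classical.blockMat, Matrix.submatrix_mulVec_equiv, Equiv.symm_symm,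
    Function.comp_assoc, Equiv.symm_comp_self, Function.comp_id, Matrix.fromBlocks_mulVec]
  simp

theorem sympForm_pair {a b : ℕ} (u u' : Fin a ⊕ Fin a → F) (v v' : Fin b ⊕ Fin b → F) :
    sympForm (a + b) F (pairEquiv a b (u, v)) (pairEquiv a b (u', v')) =
      sympForm a F u u' + sympForm b F v v' := by
  rw [sympForm, ← Classical.blockMat_J, blockMat_mulVec, pairEquiv_apply, pairEquiv_apply,
    dotProduct_comp_equiv_symm, Function.comp_assoc, Equiv.symm_comp_self, Function.comp_id,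
    sumElim_dotProduct_sumElim]
  rfl

theorem finrank_sub_prod {V₁ V₂ : Type*} [AddCommGroup V₁] [Module F V₁] [AddCommGroup V₂] [Module F V₂]
    [FiniteDimensional F V₁] [FiniteDimensional F V₂] (W : Submodule F V₁) (U : Submodule F V₂) :
    Module.finrank F (W.prod U) = Module.finrank F W + Module.finrank F U := by
  let e : (W.prod U) ≃ₗ[F] W × U :=
    { toFun := fun p => (⟨p.1.1, p.2.1⟩, ⟨p.1.2, p.2.2⟩)
      map_add' := fun _ _ => rfl
      map_smul' := fun _ _ => rfl
      invFun := fun p => ⟨(p.1.1, p.2.1), p.1.2, p.2.2⟩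
      left_inv := fun _ => rfl
      right_inv := fun _ => rfl }
  rw [e.finrank_eq, Module.finrank_prod]

theorem iso_mul {r : ℕ} {P Q : F[X]} {m k : ℕ} (hP : RealIso F r P m) (hQ : RealIso F r Q k) :
    RealIso F r (P * Q) (m + k) := by
  obtain ⟨a, x, W, hx, hxd, hxP, hW, hWi, hWx⟩ := hP
  obtain ⟨b, y, U, hy, hyd, hyQ, hU, hUi, hUy⟩ := hQ
  refine ⟨a + b, Classical.sympBlock a b (x, y), (W.prod U).map (pairEquiv a b).toLinearMap, ?_, ?_, ?_, ?_, ?_, ?_⟩
  · rw [← map_pow, Prod.pow_mk, hx, hy, ← Prod.one_eq_mk, map_one]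
  · rw [← hxP, ← hyQ, Polynomial.natDegree_mul (Matrix.charpoly_monic _).ne_zero (Matrix.charpoly_monic _).ne_zero,
      hxP, hyQ, hxd, hyd, mul_add]
  · show (Classical.blockMat _ _).charpoly = _
    rw [Classical.blockMat, ← Matrix.reindex_apply, Matrix.charpoly_reindex, Matrix.charpoly_fromBlocks_zero₁₂,
      hxP, hyQ]
  · rw [LinearEquiv.finrank_map_eq, finrank_sub_prod, hW, hU]
  · rintro _ ⟨⟨u, v⟩, ⟨hu, hv⟩, rfl⟩ _ ⟨⟨u', v'⟩, ⟨hu', hv'⟩, rfl⟩
    show sympForm (a + b) F (pairEquiv a b (u, v)) (pairEquiv a b (u', v')) = 0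
    rw [sympForm_pair, hWi u hu u' hu', hUi v hv v' hv', add_zero]
  · rintro _ ⟨⟨u, v⟩, ⟨hu, hv⟩, rfl⟩
    exact ⟨(_, _), ⟨hWx u hu, hUy v hv⟩, (blockMat_mulVec _ _ u v).symm⟩

theorem iso_pair {r : ℕ} {f : F[X]} (hf : f.Monic) (hd : f ∣ X ^ r - 1) (h0 : f.coeff 0 ≠ 0) :
    RealIso F r (f * rdual f) f.natDegree := by
  classical
  let pb := AdjoinRoot.powerBasis' hf
  set A := Algebra.leftMulMatrix pb.basis pb.gen
  have hgen : pb.gen = AdjoinRoot.root f := AdjoinRoot.powerBasis'_gen hf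
  have hA : A.charpoly = f := by
    rw [charpoly_leftMulMatrix, hgen, AdjoinRoot.minpoly_root hf.ne_zero, hf.leadingCoeff, inv_one, map_one, mul_one]
  have hu : IsUnit A := by
    rw [Matrix.isUnit_iff_isUnit_det, isUnit_iff_ne_zero, Matrix.det_eq_sign_charpoly_coeff, hA]
    exact mul_ne_zero (pow_ne_zero _ (neg_ne_zero.2 one_ne_zero)) h0
  obtain ⟨G, hG⟩ := hu
  have hGr : G ^ r = 1 := by
    obtain ⟨w, hw⟩ := hd
    have hz : pb.gen ^ r = 1 := by
      have := congrArg (AdjoinRoot.mk f) hw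
      rw [map_mul, AdjoinRoot.mk_self, zero_mul, map_sub, map_pow, AdjoinRoot.mk_X, map_one] at this
      rw [hgen]; exact sub_eq_zero.1 this
    exact Units.ext (by rw [Units.val_pow_eq_pow_val, hG, ← map_pow, hz, map_one, Units.val_one])
  have hpd : pb.dim = f.natDegree := AdjoinRoot.powerBasis'_dim hf
  refine ⟨pb.dim, Classical.sympLevi _ G, LinearMap.ker (LinearMap.funLeft F F (Sum.inr : Fin pb.dim → _)), ?_, ?_,
    ?_, ?_, ?_, ?_⟩
  · rw [← map_pow, hGr, map_one]
  · rw [hf.natDegree_mul (cdual_monic _ h0), natDegree_cdual _ h0, hpd, two_mul]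
  · show (Matrix.fromBlocks _ 0 0 _).charpoly = _
    rw [Matrix.charpoly_fromBlocks_zero₁₂, SympPrimeOrderClasses.charpoly_invTranspose, hG, hA]
  · have h1 := (LinearMap.funLeft F F (Sum.inr : Fin pb.dim → Fin pb.dim ⊕ Fin pb.dim)).finrank_range_add_finrank_ker
    rw [LinearMap.range_eq_top.2 (LinearMap.funLeft_surjective_of_injective F F _ Sum.inr_injective), finrank_top,
      Module.finrank_fintype_fun_eq_card, Module.finrank_fintype_fun_eq_card, Fintype.card_sum, Fintype.card_fin] at h1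
    omega
  · intro u hu v hv
    rw [Classical.sympForm_eq_sum]
    refine Finset.sum_eq_zero fun k _ => ?_
    have h1 : u (Sum.inr k) = 0 := congrFun (LinearMap.mem_ker.1 hu) k
    have h2 : v (Sum.inr k) = 0 := congrFun (LinearMap.mem_ker.1 hv) k
    rw [h1, h2, zero_mul, mul_zero, sub_zero]
  · intro w hw
    refine LinearMap.mem_ker.2 (funext fun k => ?_)
    have h2 : w ∘ Sum.inr = (0 : Fin pb.dim → F) := LinearMap.mem_ker.1 hw
    show (Matrix.fromBlocks (G : Matrix (Fin pb.dim) (Fin pb.dim) F) 0 0 _ *ᵥ w) (Sum.inr k) = 0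
    rw [Matrix.fromBlocks_mulVec, h2]
    simp

theorem iso_one_pow (r : ℕ) : ∀ j l : ℕ, l ≤ j → RealIso F r ((X - Polynomial.C 1) ^ (2 * j)) l := by
  intro j
  induction j with
  | zero =>
    intro l hl
    rw [Nat.le_zero.1 hl]
    exact iso_zero (SympPrimeOrderClasses.real_one_pow r 0)
  | succ j ih =>
    intro l hl
    rw [mul_add, mul_one, pow_add]
    rcases Nat.lt_or_ge j l with h | h
    · rw [show l = j + 1 by omega]
      refine iso_mul (ih j le_rfl) ?_
      have h' := iso_pair (F := F) (r := r) (monic_X_sub_C 1) (by rw [dvd_iff_isRoot]; simp) (by simp)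
      rwa [rdual_X_sub_one, natDegree_X_sub_C, ← sq] at h'
    · rw [← Nat.add_zero l]
      exact iso_mul (ih l h) (iso_zero (by simpa using SympPrimeOrderClasses.real_one_pow (F := F) r 1))

theorem iso_prod {r δ : ℕ} : ∀ (N : Multiset F[X]), (∀ u ∈ N, RealIso F r u 0 ∧ RealIso F r u δ) →
    ∀ e ≤ N.card, RealIso F r N.prod (δ * e) := by
  intro N
  induction N using Multiset.induction with
  | empty =>
    intro _ e he
    rw [show e = 0 by simpa using he, mul_zero]
    simpa using iso_one_pow (F := F) r 0 0 le_rfl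
  | cons u N ih =>
    intro hN e he
    have ih' := ih fun v hv => hN v (Multiset.mem_cons_of_mem hv)
    rw [Multiset.prod_cons]
    rcases e with _ | e
    · rw [mul_zero]
      simpa using iso_mul (hN u (Multiset.mem_cons_self _ _)).1 (by simpa using ih' 0 (Nat.zero_le _))
    · rw [show δ * (e + 1) = δ + δ * e by ring]
      exact iso_mul (hN u (Multiset.mem_cons_self _ _)).2 (ih' e (by rw [Multiset.card_cons] at he; omega))

variable [Fintype F] {r i t : ℕ}

theorem arith_even {i h d m t : ℕ} (hih : i = 2 * h) (hh : 0 < h) (h1 : m % i ≤ d % h)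
    (h2 : t + 2 * (m / i) ≤ d / h) : m + h * t ≤ d := by
  have e1 := Nat.div_add_mod d h
  have e2 := Nat.div_add_mod m i
  have e3 := Nat.mul_le_mul_left h h2
  have e4 : h * (2 * (m / i)) = i * (m / i) := by rw [hih]; ring
  rw [Nat.mul_add, e4] at e3
  omega

/-- The combinatorial condition. -/
def Cond (i t d m : ℕ) : Prop :=
  (Odd i → m % i ≤ d % i) ∧ (∀ h, i = 2 * h → m % i ≤ d % h ∧ t + 2 * (m / i) ≤ d / h)

theorem iso_of_cond (h : Ctx F r i t) {d m : ℕ} (hmd : m ≤ d) (hc : Cond i t d m) {P : F[X]}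
    (hP : P ∈ selfRecip F r (2 * d)) : RealIso F r P m := by
  classical
  obtain ⟨N, j, hN, rfl, hNd⟩ := shape h hP
  have hi0 := i_pos h
  have hpair : ∀ f ∈ factorSet F r, RealIso F r (f * rdual f) i := fun f hf => by
    have := iso_pair (mem_data h hf).1 (dvd_pow_sub_one h hf) (coeff_zero_ne h (dvd_pow_sub_one h hf))
    rwa [(mem_data h hf).2.2.1] at this
  rcases Nat.even_or_odd i with he | ho
  · obtain ⟨hh, hhe⟩ := he
    have hie : i = 2 * hh := by omega
    obtain ⟨h1, h2⟩ := hc.2 hh hie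
    have hD : basicDeg i = i := if_pos (by exact ⟨hh, hhe⟩)
    rw [hD, hie] at hNd
    obtain ⟨M, S, rfl, -, hSc, hM, hS⟩ := exists_pairs (basics F r i) N hN
    rw [card_basics h, if_pos (show Even i from ⟨hh, hhe⟩)] at hSc
    have hreal : ∀ u ∈ basics F r i, SympPrimeOrderClasses.Real F r u ∧ RealIso F r (u * u) i := fun u hu => by
      obtain ⟨f, hf, rfl⟩ := mem_basics.1 hu
      rw [basic, if_pos (show Even i from ⟨hh, hhe⟩)]
      refine ⟨SympPrimeOrderClasses.real_self h hf ⟨hh, hhe⟩, ?_⟩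
      have := hpair f hf
      rwa [(rdual_mem h hf).2.2 ⟨hh, hhe⟩] at this
    simp only [Multiset.card_add] at hNd
    have ha := arith_even (t := t) hie (by omega) h1 h2
    have hd' : hh * (2 * M.card) + hh * S.card + j = d := by ring_nf; ring_nf at hNd; omega
    have hst : hh * S.card ≤ hh * t := Nat.mul_le_mul_left _ hSc
    have hdh : d % hh ≤ j := by
      rw [show d = j + hh * (2 * M.card + S.card) by rw [← hd']; ring, Nat.add_mul_mod_self_left]
      exact Nat.mod_le _ _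
    obtain ⟨e, he1, he2, he3⟩ : ∃ e, e ≤ M.card ∧ i * e ≤ m ∧ m - i * e ≤ j := by
      by_cases hle : M.card ≤ m / i
      · refine ⟨M.card, le_rfl, (Nat.mul_le_mul_left i hle).trans (Nat.mul_div_le m i), ?_⟩
        have : i * M.card = hh * (2 * M.card) := by rw [hie]; ring
        omega
      · refine ⟨m / i, by omega, Nat.mul_div_le m i, ?_⟩
        have := Nat.div_add_mod m i
        omega
    rw [Multiset.prod_add, Multiset.prod_add, show M.prod * M.prod = (M.map fun u => u * u).prod by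
      rw [Multiset.prod_map_mul, Multiset.map_id'], show m = i * e + 0 + (m - i * e) by omega]
    have hS0 := iso_prod (δ := 0) S (fun v hv => ⟨iso_zero (hreal v (hS v hv)).1, iso_zero (hreal v (hS v hv)).1⟩) 0
      (Nat.zero_le _)
    refine iso_mul (iso_mul (iso_prod (δ := i) _ (fun v hv => ?_) e (by rwa [Multiset.card_map]))
      (by simpa using hS0)) (iso_one_pow r j _ he3)
    obtain ⟨u, hu, rfl⟩ := Multiset.mem_map.1 hv
    exact ⟨iso_zero (SympPrimeOrderClasses.real_mul (hreal u (hM u hu)).1 (hreal u (hM u hu)).1),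
      (hreal u (hM u hu)).2⟩
  · have hne : ¬ Even i := Nat.not_even_iff_odd.2 ho
    have h1 := hc.1 ho
    have hD : basicDeg i = 2 * i := if_neg hne
    rw [hD, mul_assoc] at hNd
    have hd' : i * N.card + j = d := by omega
    have hdh : d % i ≤ j := by
      rw [show d = j + i * N.card by omega, Nat.add_mul_mod_self_left]
      exact Nat.mod_le _ _
    obtain ⟨e, he1, he2, he3⟩ : ∃ e, e ≤ N.card ∧ i * e ≤ m ∧ m - i * e ≤ j := by
      by_cases hle : N.card ≤ m / i
      · exact ⟨N.card, le_rfl, (Nat.mul_le_mul_left i hle).trans (Nat.mul_div_le m i), by omega⟩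
      · refine ⟨m / i, by omega, Nat.mul_div_le m i, ?_⟩
        have := Nat.div_add_mod m i
        omega
    rw [show m = i * e + (m - i * e) by omega]
    refine iso_mul (iso_prod N (fun u hu => ?_) e he1) (iso_one_pow r j _ he3)
    obtain ⟨f, hf, rfl⟩ := mem_basics.1 (hN u hu)
    rw [basic, if_neg hne]
    exact ⟨iso_zero (SympPrimeOrderClasses.real_pair (mem_data h hf).1 (dvd_pow_sub_one h hf)
      (coeff_zero_ne h (dvd_pow_sub_one h hf))), hpair f hf⟩

/-- When the condition fails, some polynomial has no suitable divisor. -/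
theorem exists_bad (h : Ctx F r i t) {d m : ℕ} (hmd : m ≤ d) (hjd : i ≤ m ∨ ∀ h', (i = h' ∧ Odd i ∨ i = 2 * h') → d % h' < m)
    (hc : ¬ Cond i t d m) :
    ∃ P ∈ selfRecip F r (2 * d), P ≠ (X - Polynomial.C 1) ^ (2 * d) ∧
      ∀ D : F[X], D.Monic → D * rdual D ∣ P → D.natDegree ≠ m := by
  classical
  have hi0 := i_pos h
  obtain ⟨f, hf⟩ : (factorSet F r).Nonempty := by
    rw [← Finset.card_pos, card_factorSet h]
    rcases Nat.eq_zero_or_pos t with rfl | ht
    · have := h.ht; have := h.prime.two_le; have := h.odd; omega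
    · exact ht
  have hbf : basic i f ∈ basics F r i := mem_basics.2 ⟨f, hf, rfl⟩
  have hne : ∀ (N : Multiset F[X]) (k : ℕ), (∀ u ∈ N, u ∈ basics F r i) → 0 < N.card →
      N.prod * (X - Polynomial.C 1) ^ k ≠ (X - Polynomial.C 1) ^ (2 * d) := by
    intro N k hN hpos hEq
    obtain ⟨u, hu⟩ := Multiset.card_pos_iff_exists_mem.1 hpos
    obtain ⟨g, hg, hgu⟩ := mem_basics.1 (hN u hu)
    have hgu' : g ∣ u := by
      rw [← hgu, basic]
      split_ifs
      exacts [dvd_rfl, dvd_mul_right _ _]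
    have hd : g ∣ (X - Polynomial.C (1 : F)) ^ (2 * d) :=
      hEq ▸ (hgu'.trans (Multiset.dvd_prod hu)).mul_right _
    exact X_sub_one_notMem h (Polynomial.eq_of_monic_of_associated (mem_data h hg).1 (monic_X_sub_C 1)
      ((mem_data h hg).2.1.associated_of_dvd (irreducible_X_sub_C 1) ((mem_data h hg).2.1.prime.dvd_of_dvd_pow hd)) ▸ hg)
  have build : ∀ (A j : ℕ), 0 < A → basicDeg i * A + 2 * j = 2 * d →
      (Multiset.replicate A (basic i f)).prod * (X - Polynomial.C 1) ^ (2 * j) ∈ selfRecip F r (2 * d) ∧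
        (Multiset.replicate A (basic i f)).prod * (X - Polynomial.C 1) ^ (2 * j) ≠ (X - Polynomial.C 1) ^ (2 * d) ∧
        ∀ D : F[X], D.Monic → D * rdual D ∣ (Multiset.replicate A (basic i f)).prod * (X - Polynomial.C 1) ^ (2 * j) →
          j < i → D.natDegree % i ≤ j := by
    intro A j hA hdeg
    have hN : ∀ u ∈ Multiset.replicate A (basic i f), u ∈ basics F r i := fun u hu => by
      rw [Multiset.eq_of_mem_replicate hu]; exact hbf
    have hmem := mem_selfRecip h hN (2 * j)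
    rw [Multiset.card_replicate, hdeg] at hmem
    refine ⟨hmem, hne _ _ hN (by simpa using hA), fun D hD hDd hj => ?_⟩
    obtain ⟨k, l, hk, hl, -⟩ := degree_split h hmem (basic_monic h hN).2.2 hD hDd
    rw [hk, Nat.mul_add_mod, Nat.mod_eq_of_lt (hl.trans_lt hj)]
    exact hl
  rcases Nat.even_or_odd i with he | ho
  · obtain ⟨hh, hhe⟩ := he
    have hie : i = 2 * hh := by omega
    have hnot : ¬ (m % i ≤ d % hh ∧ t + 2 * (m / i) ≤ d / hh) := fun H => hc
      ⟨fun ho => absurd (show Even i from ⟨hh, hhe⟩) (Nat.not_even_iff_odd.2 ho),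
        fun h' hh' => by rw [show h' = hh by omega]; exact H⟩
    have hDi : basicDeg i = i := if_pos ⟨hh, hhe⟩
    have hlt : d % hh < hh := Nat.mod_lt _ (by omega)
    have hdm := Nat.div_add_mod d hh
    have hmm := Nat.div_add_mod m i
    have hjm : d % hh < m := by
      rcases hjd with h' | h'
      · omega
      · exact h' hh (Or.inr hie)
    have hA : 0 < d / hh := by
      rcases Nat.eq_zero_or_pos (d / hh) with h0 | h0
      · rw [h0, mul_zero] at hdm; omega
      · exact h0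
    by_cases h1 : m % i ≤ d % hh
    · have h2 : d / hh < t + 2 * (m / i) := by
        by_contra H; exact hnot ⟨h1, by omega⟩
      have hcard : (basics F r i).card = t := by rw [card_basics h, if_pos (show Even i from ⟨hh, hhe⟩)]
      obtain ⟨S, hS, hSc⟩ := Finset.exists_subset_card_eq (s := basics F r i) (n := min t (d / hh))
        (by rw [hcard]; exact min_le_left _ _)
      have ht : 0 < t := by rw [← hcard]; exact Finset.card_pos.2 ⟨_, hbf⟩
      have hsle : hh * S.card ≤ hh * (d / hh) := Nat.mul_le_mul_left _ (by rw [hSc]; exact min_le_right _ _)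
      have hmem := mem_selfRecip h (N := S.val) (fun u hu => hS hu) (2 * (d - hh * S.card))
      rw [hDi, show i * S.val.card + 2 * (d - hh * S.card) = 2 * d by
        show i * S.card + _ = _
        rw [hie, mul_assoc]; omega] at hmem
      refine ⟨_, hmem, hne _ _ (fun u hu => hS hu) (by show 0 < S.card; rw [hSc]; exact lt_min ht hA),
        fun D hD hDd hDm => ?_⟩
      obtain ⟨k, l, hk, hl, hfk⟩ := degree_split h hmem (basic_monic h (N := S.val) fun u hu => hS hu).2.2 hD hDd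
      obtain rfl : k = 0 := by
        by_contra hk0
        obtain ⟨g, hg, hgd⟩ := hfk hk0
        exact no_pair h ⟨hh, hhe⟩ S hS _ hg hgd
      have hm' : m ≤ d - hh * S.card := by omega
      have e3 : hh * (d / hh) + hh ≤ hh * (t + 2 * (m / i)) := by
        rw [← Nat.mul_succ]; exact Nat.mul_le_mul_left _ h2
      have e4 : hh * (2 * (m / i)) = i * (m / i) := by rw [hie]; ring
      rw [Nat.mul_add, e4] at e3
      rcases le_total t (d / hh) with hle | hle
      · rw [hSc, min_eq_left hle] at hm'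
        omega
      · rw [hSc, min_eq_right hle] at hm'
        omega
    · obtain ⟨hmem, hne', hD⟩ := build (d / hh) (d % hh) hA (by rw [hDi, hie, mul_assoc]; omega)
      refine ⟨_, hmem, hne', fun D h1' h2' h3' => h1 ?_⟩
      rw [← h3']
      exact hD D h1' h2' (by omega)
  · have hnot : ¬ m % i ≤ d % i := fun H => hc ⟨fun _ => H,
      fun h' hh' => absurd (show Even i from ⟨h', by omega⟩) (Nat.not_even_iff_odd.2 ho)⟩
    have hDi : basicDeg i = 2 * i := if_neg (Nat.not_even_iff_odd.2 ho)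
    have hdm := Nat.div_add_mod d i
    have hlt : d % i < i := Nat.mod_lt _ hi0
    have hA : 0 < d / i := by
      rcases Nat.eq_zero_or_pos (d / i) with h0 | h0
      · rw [h0, mul_zero] at hdm
        rcases hjd with h' | h'
        · omega
        · have := h' i (Or.inl ⟨rfl, ho⟩); omega
      · exact h0
    obtain ⟨hmem, hne', hD⟩ := build (d / i) (d % i) hA (by rw [hDi, mul_assoc]; omega)
    refine ⟨_, hmem, hne', fun D h1' h2' h3' => hnot ?_⟩
    rw [← h3']
    exact hD D h1' h2' hlt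

/-- Scaling by `-1` does not change the invariant subspaces. -/
theorem exists_normalise {d r : ℕ} (hd : 1 ≤ d) (hr : Odd r) (x : Matrix.symplecticGroup (Fin d) F) {z : F}
    (hz : (x : Matrix (Fin d ⊕ Fin d) (Fin d ⊕ Fin d) F) ^ r = z • 1) :
    ∃ y : Matrix.symplecticGroup (Fin d) F, y ^ r = 1 ∧ ∀ W : Submodule F (Fin d ⊕ Fin d → F),
      (∀ w ∈ W, (y : Matrix (Fin d ⊕ Fin d) (Fin d ⊕ Fin d) F) *ᵥ w ∈ W) →
      ∀ w ∈ W, (x : Matrix (Fin d ⊕ Fin d) (Fin d ⊕ Fin d) F) *ᵥ w ∈ W := by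
  rcases sq_eq_one_cases hd hz with rfl | rfl
  · exact ⟨x, Subtype.ext (by rw [SubmonoidClass.coe_pow, hz, one_smul]; rfl), fun W h => h⟩
  · refine ⟨Classical.sympNegOne d F * x, Subtype.ext ?_, fun W h w hw => ?_⟩
    · rw [(Classical.sympNegOne_commute x).mul_pow, Submonoid.coe_mul, SubmonoidClass.coe_pow, SubmonoidClass.coe_pow,
        hz]
      show (-1 : Matrix (Fin d ⊕ Fin d) (Fin d ⊕ Fin d) F) ^ r * _ = 1
      rw [hr.neg_one_pow, neg_one_smul, neg_mul_neg, one_mul]
    · have h1 := W.neg_mem (h w hw)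
      have e : ((Classical.sympNegOne d F * x : Matrix.symplecticGroup (Fin d) F) :
          Matrix (Fin d ⊕ Fin d) (Fin d ⊕ Fin d) F) = -(x : Matrix (Fin d ⊕ Fin d) (Fin d ⊕ Fin d) F) := by
        show (-1 : Matrix (Fin d ⊕ Fin d) (Fin d ⊕ Fin d) F) * _ = _
        rw [neg_one_mul]
      rwa [e, Matrix.neg_mulVec, neg_neg] at h1
where
  sq_eq_one_cases {d r : ℕ} (hd : 1 ≤ d) {x : Matrix.symplecticGroup (Fin d) F} {z : F}
      (hz : (x : Matrix (Fin d ⊕ Fin d) (Fin d ⊕ Fin d) F) ^ r = z • 1) : z = 1 ∨ z = -1 := by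
    have hm : (z • 1 : Matrix (Fin d ⊕ Fin d) (Fin d ⊕ Fin d) F) ∈ Matrix.symplecticGroup (Fin d) F :=
      hz ▸ pow_mem x.2 r
    have h := Classical.mem_symplecticGroup_iff_form.1 hm (Pi.single (Sum.inr ⟨0, hd⟩) 1)
      (Pi.single (Sum.inl ⟨0, hd⟩) 1)
    rw [Matrix.smul_mulVec, Matrix.one_mulVec, Matrix.smul_mulVec, Matrix.one_mulVec, Classical.sympForm_smul_left,
      Classical.sympForm_smul_right, Classical.sympForm_single_inl, Pi.single_eq_same, mul_one, mul_one] at h
    exact mul_self_eq_one_iff.1 h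

theorem invariant_map {d m : ℕ} (x : Matrix.symplecticGroup (Fin d) F) :
    (∃ W : Submodule F (Fin d ⊕ Fin d → F), Module.finrank F ↥W = m ∧ (∀ u ∈ W, ∀ v ∈ W, sympForm d F u v = 0) ∧
      W.map (Matrix.toLin' (x : Matrix (Fin d ⊕ Fin d) (Fin d ⊕ Fin d) F)) ≤ W) ↔
    ∃ W : Submodule F (Fin d ⊕ Fin d → F), Module.finrank F ↥W = m ∧ (∀ u ∈ W, ∀ v ∈ W, sympForm d F u v = 0) ∧
      ∀ w ∈ W, (x : Matrix (Fin d ⊕ Fin d) (Fin d ⊕ Fin d) F) *ᵥ w ∈ W := by
  refine exists_congr fun W => and_congr_right fun _ => and_congr_right fun _ => ?_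
  rw [Submodule.map_le_iff_le_comap]
  exact Iff.rfl

theorem criterion_two {p q d m : ℕ} [Fact p.Prime] [CharP F p] (hq : Fintype.card F = q) (hd : 1 ≤ d)
    (hmd : m ≤ d) (hp : p ≠ 2) :
    (∀ x : Matrix.symplecticGroup (Fin d) F,
      (∃ z : F, (x : Matrix (Fin d ⊕ Fin d) (Fin d ⊕ Fin d) F) ^ 2 = z • 1) →
      (∀ z : F, (x : Matrix (Fin d ⊕ Fin d) (Fin d ⊕ Fin d) F) ≠ z • 1) →
      ∃ W : Submodule F (Fin d ⊕ Fin d → F), Module.finrank F ↥W = m ∧ (∀ u ∈ W, ∀ v ∈ W, sympForm d F u v = 0) ∧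
        W.map (Matrix.toLin' (x : Matrix (Fin d ⊕ Fin d) (Fin d ⊕ Fin d) F)) ≤ W) ↔ (Even m ∨ q % 4 = 1) := by
  classical
  have h2 : (2 : F) ≠ 0 := by
    rw [← Nat.cast_two, Ne, CharP.cast_eq_zero_iff F p, Nat.prime_dvd_prime_iff_eq Fact.out Nat.prime_two]
    exact hp
  have hodd : q % 2 = 1 := by
    rw [← hq]
    exact FiniteField.odd_card_of_char_ne_two (by rwa [ringChar.eq F p])
  have hsq : IsSquare (-1 : F) ↔ q % 4 = 1 := by
    rw [FiniteField.isSquare_neg_one_iff, hq]; omega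
  have hA : (Classical.sympB d F).IsAlt := fun v => by rw [Classical.sympB_apply, Classical.sympForm_self]
  have hV : Module.finrank F (Fin d ⊕ Fin d → F) = 2 * d := by
    rw [Module.finrank_fintype_fun_eq_card, Fintype.card_sum, Fintype.card_fin, two_mul]
  constructor
  · intro H
    by_contra hcon
    push Not at hcon
    obtain ⟨hm, hq1⟩ := hcon
    have hJ : Matrix.J (Fin d) F ∈ Matrix.symplecticGroup (Fin d) F := SymplecticGroup.J_mem _ _
    obtain ⟨W, hWm, -, hW⟩ := (invariant_map ⟨_, hJ⟩).1 (H ⟨_, hJ⟩ ⟨-1, by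
      rw [sq, show (Matrix.J (Fin d) F * Matrix.J (Fin d) F : Matrix _ _ F) = -1 from Matrix.J_squared _ _,
        neg_one_smul]⟩ fun z hz => by
      have h := congrFun (congrFun hz (Sum.inl ⟨0, hd⟩)) (Sum.inr ⟨0, hd⟩)
      simp [Matrix.J] at h)
    let g := (Matrix.toLin' (Matrix.J (Fin d) F)).restrict (p := W) (q := W) hW
    have hgg : g * g = (-1 : F) • 1 := LinearMap.ext fun w => Subtype.ext <| by
      show Matrix.J (Fin d) F *ᵥ (Matrix.J (Fin d) F *ᵥ (w : Fin d ⊕ Fin d → F)) = (-1 : F) • (w : Fin d ⊕ Fin d → F)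
      rw [Matrix.mulVec_mulVec, Matrix.J_squared, Matrix.neg_mulVec, Matrix.one_mulVec, neg_one_smul]
    have h := congrArg LinearMap.det hgg
    rw [map_mul, LinearMap.det_smul, map_one, mul_one, hWm, (Nat.not_even_iff_odd.1 hm).neg_one_pow] at h
    exact hq1 (hsq.1 ⟨_, h.symm⟩)
  · rintro H x ⟨z, hz⟩ -
    rw [invariant_map]
    have hgg : ∀ v, Matrix.toLin' (x : Matrix (Fin d ⊕ Fin d) (Fin d ⊕ Fin d) F)
        (Matrix.toLin' (x : Matrix (Fin d ⊕ Fin d) (Fin d ⊕ Fin d) F) v) = z • v := fun v => by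
      rw [Matrix.toLin'_apply, Matrix.toLin'_apply, Matrix.mulVec_mulVec, ← sq, hz, Matrix.smul_mulVec,
        Matrix.one_mulVec]
    have hg : ∀ u v, Classical.sympB d F (Matrix.toLin' (x : Matrix (Fin d ⊕ Fin d) (Fin d ⊕ Fin d) F) u)
        (Matrix.toLin' (x : Matrix (Fin d ⊕ Fin d) (Fin d ⊕ Fin d) F) v) = Classical.sympB d F u v := fun u v => by
      rw [Classical.sympB_apply, Classical.sympB_apply, Matrix.toLin'_apply, Matrix.toLin'_apply,
        Classical.sympForm_map]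
    have root : ∀ c : F, c ≠ 0 → c * c = z → ∃ W : Submodule F (Fin d ⊕ Fin d → F), Module.finrank F ↥W = m ∧
        (∀ u ∈ W, ∀ v ∈ W, sympForm d F u v = 0) ∧
        ∀ w ∈ W, (x : Matrix (Fin d ⊕ Fin d) (Fin d ⊕ Fin d) F) *ᵥ w ∈ W := fun c hc hcz => by
      obtain ⟨W, h1, h2, h3⟩ := IsotropicInvariant.exists_of_sq_root hA Classical.sympB_nondegenerate _ hg hc h2
        (hcz ▸ hgg) hV m hmd
      exact ⟨W, h1, fun u hu v hv => (Classical.sympB_apply u v).symm.trans (h2 u hu v hv),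
        fun w hw => Matrix.toLin'_apply _ w ▸ h3 w hw⟩
    rcases exists_normalise.sq_eq_one_cases hd hz with rfl | rfl
    · exact root 1 one_ne_zero (one_mul 1)
    · by_cases hi : ∃ c : F, c * c = -1
      · obtain ⟨c, hc⟩ := hi
        exact root c (fun h => by rw [h, zero_mul] at hc; exact one_ne_zero (neg_eq_zero.1 hc.symm)) hc
      · push Not at hi
        obtain ⟨k, rfl⟩ : Even m := H.resolve_right fun h1 => by
          obtain ⟨c, hc⟩ := hsq.2 h1; exact hi c hc.symm
        obtain ⟨W, h1, h3, h4⟩ := IsotropicInvariant.exists_of_sq_neg_one hA Classical.sympB_nondegenerate _ hg h2 hi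
          hgg hV k (by omega)
        exact ⟨W, by omega, fun u hu v hv => (Classical.sympB_apply u v).symm.trans (h3 u hu v hv),
          fun w hw => Matrix.toLin'_apply _ w ▸ h4 w hw⟩

/-- The criterion. -/
theorem criterion {p q : ℕ} [Fact p.Prime] [CharP F p] (hq : Fintype.card F = q) {d m : ℕ} (hd : 1 ≤ d)
    (hmd : m ≤ d) [hr : Fact r.Prime]
    (hrΩ : r ∣ Nat.card {W : Submodule F (Fin d ⊕ Fin d → F) //
      Module.finrank F ↥W = m ∧ (∀ u ∈ W, ∀ v ∈ W, sympForm d F u v = 0)})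
    {c : ℕ} (hi : i = orderOf (q : ZMod r)) (hc : c = if Even i then i else 2 * i) :
    (∀ x : Matrix.symplecticGroup (Fin d) F,
      (∃ z : F, (x : Matrix (Fin d ⊕ Fin d) (Fin d ⊕ Fin d) F) ^ r = z • 1) →
      (∀ z : F, (x : Matrix (Fin d ⊕ Fin d) (Fin d ⊕ Fin d) F) ≠ z • 1) →
      ∃ W : Submodule F (Fin d ⊕ Fin d → F), Module.finrank F ↥W = m ∧ (∀ u ∈ W, ∀ v ∈ W, sympForm d F u v = 0) ∧
        W.map (Matrix.toLin' (x : Matrix (Fin d ⊕ Fin d) (Fin d ⊕ Fin d) F)) ≤ W) ↔
      ((r = 2 ∧ p ≠ 2 ∧ (Even m ∨ q % 4 = 1)) ∨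
        (r ≠ p ∧ 2 < r ∧ i ≤ m ∧ 2 * (m % i) ≤ (2 * d) % c ∧
          (Odd i ∨ (r - 1) / i + 2 * (m / i) ≤ (2 * d) / i))) := by
  classical
  obtain ⟨j, hj1, hj2, hjr⟩ := IsotropicCount.exists_exponent_symp hmd hr.out hrΩ
  have hq2 : 2 ≤ q := hq ▸ Fintype.one_lt_card
  have hrp : r ≠ p := by
    intro h
    obtain ⟨e, -, he⟩ := FiniteField.card F p
    have h1 : r ∣ Fintype.card F ^ (2 * j) := dvd_pow (by rw [he, h]; exact dvd_pow_self p e.pos.ne') (by omega)
    have h2 := Nat.dvd_sub h1 hjr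
    rw [Nat.sub_sub_self (Nat.one_le_pow _ _ (by omega))] at h2
    exact hr.out.ne_one (Nat.dvd_one.1 h2)
  rcases eq_or_ne r 2 with h2 | h2
  · subst h2
    rw [criterion_two hq hd hmd hrp.symm]
    exact ⟨fun h => Or.inl ⟨rfl, hrp.symm, h⟩,
      fun h => h.elim (fun h => h.2.2) fun h => absurd h.2.1 (lt_irrefl 2)⟩
  have hr2 : 2 < r := lt_of_le_of_ne hr.out.two_le (Ne.symm h2)
  have hr0 : (r : F) ≠ 0 := fun e =>
    hrp ((Nat.prime_dvd_prime_iff_eq (Fact.out : p.Prime) hr.out).1 ((CharP.cast_eq_zero_iff F p r).1 e)).symm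
  have hqr : (q : ZMod r) ≠ 0 := by
    intro h
    rw [ZMod.natCast_eq_zero_iff, ← hq] at h
    obtain ⟨e, -, he⟩ := FiniteField.card F p
    rw [he] at h
    exact hrp ((Nat.prime_dvd_prime_iff_eq hr.out Fact.out).1 (hr.out.dvd_of_dvd_pow h))
  have hir : i ∣ r - 1 := hi ▸ ZMod.orderOf_dvd_card_sub_one hqr
  set t := (r - 1) / i with htdef
  have h : Ctx F r i t := ⟨hr.out, h2, hr0, by rw [hq, hi], Nat.div_mul_cancel hir⟩
  have hi0 := i_pos h
  have hij : i ∣ 2 * j := by
    rw [hi]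
    apply orderOf_dvd_of_pow_eq_one
    rw [← ZMod.natCast_eq_zero_iff, Nat.cast_sub (Nat.one_le_pow _ _ (by omega)), hq, Nat.cast_pow, Nat.cast_one,
      sub_eq_zero] at hjr
    exact hjr
  have hsmall : ∀ h', (i = h' ∧ Odd i ∨ i = 2 * h') → d % h' < m := by
    intro h' hh
    have hdvd : h' ∣ j := by
      rcases hh with ⟨rfl, ho⟩ | rfl
      · exact (Nat.Coprime.dvd_of_dvd_mul_left (Nat.coprime_two_right.2 ho) hij)
      · exact Nat.dvd_of_mul_dvd_mul_left two_pos hij
    obtain ⟨w, rfl⟩ := hdvd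
    have := Nat.mod_le (d - h' * w) h'
    rw [show d = (d - h' * w) + h' * w by omega, Nat.add_mul_mod_self_left]
    omega
  have hcond : Cond i t d m ↔ (i ≤ m ∧ 2 * (m % i) ≤ (2 * d) % c ∧ (Odd i ∨ t + 2 * (m / i) ≤ (2 * d) / i)) := by
    rcases Nat.even_or_odd i with he | ho
    · obtain ⟨hh, hhe⟩ := he
      have hie : i = 2 * hh := by omega
      have hno : ¬ Odd i := Nat.not_odd_iff_even.2 ⟨hh, hhe⟩
      rw [hc, if_pos (show Even i from ⟨hh, hhe⟩)]
      have e1 : (2 * d) % i = 2 * (d % hh) := by rw [hie, Nat.mul_mod_mul_left]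
      have e2 : (2 * d) / i = d / hh := by rw [hie, Nat.mul_div_mul_left _ _ two_pos]
      rw [e1, e2]
      constructor
      · intro hC
        obtain ⟨h1, h2⟩ := hC.2 hh hie
        refine ⟨?_, by omega, Or.inr h2⟩
        by_contra hlt
        have := hsmall hh (Or.inr hie)
        rw [Nat.mod_eq_of_lt (by omega)] at h1
        omega
      · rintro ⟨-, h1, h2⟩
        exact ⟨fun ho => absurd ho hno, fun h' hh' => by
          rw [show h' = hh by omega]; exact ⟨by omega, h2.resolve_left hno⟩⟩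
    · rw [hc, if_neg (Nat.not_even_iff_odd.2 ho), Nat.mul_mod_mul_left]
      constructor
      · intro hC
        refine ⟨?_, Nat.mul_le_mul_left 2 (hC.1 ho), Or.inl ho⟩
        by_contra hlt
        have h1 := hC.1 ho
        have := hsmall i (Or.inl ⟨rfl, ho⟩)
        rw [Nat.mod_eq_of_lt (by omega : m < i)] at h1
        omega
      · rintro ⟨-, h1, -⟩
        exact ⟨fun _ => by omega, fun h' hh' => absurd (show Even i from ⟨h', by omega⟩) (Nat.not_even_iff_odd.2 ho)⟩
  have hcop : ∀ g : Matrix.symplecticGroup (Fin d) F, g ^ r = 1 → (orderOf g).Coprime p := fun g hg =>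
    ((Nat.coprime_primes hr.out Fact.out).2 hrp).coprime_dvd_left (orderOf_dvd_of_pow_eq_one hg)
  constructor
  · intro H
    refine Or.inr ⟨hrp, hr2, hcond.1 ?_⟩
    by_contra hC
    obtain ⟨P, hP, hne, hbad⟩ := exists_bad h hmd (Or.inr hsmall) hC
    obtain ⟨a, x, hx, hxd, hxP⟩ := SympPrimeOrderClasses.real_selfRecip h hP
    obtain rfl : a = d := by have := hP.2.1; omega
    have hx1 : (x : Matrix (Fin a ⊕ Fin a) (Fin a ⊕ Fin a) F) ^ r = 1 := by
      rw [← SubmonoidClass.coe_pow, hx]; rfl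
    obtain ⟨W, hWm, hWi, hW⟩ := (invariant_map x).1 (H x ⟨1, by rw [hx1, one_smul]⟩ fun z hz => hne (by
      rw [← hxP, hz]
      have hzr : z ^ r = 1 := by
        have h' := congrFun (congrFun (hz ▸ hx1) (Sum.inl ⟨0, hd⟩)) (Sum.inl ⟨0, hd⟩)
        simpa [_root_.smul_pow] using h'
      have hz1 : z = 1 := by
        rcases exists_normalise.sq_eq_one_cases (r := 1) hd (x := x) (z := z) (by rw [pow_one, hz]) with e | e
        · exact e
        · rw [e, (hr.out.odd_of_ne_two h2).neg_one_pow] at hzr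
          rw [e]; exact hzr
      rw [hz1, one_smul, Matrix.charpoly_one, Fintype.card_sum, Fintype.card_fin, two_mul, map_one]))
    have hd' := IsotropicInvariant.dvd_charpoly (Classical.sympB a F) Classical.sympB_nondegenerate
      (Matrix.toLin' (x : Matrix (Fin a ⊕ Fin a) (Fin a ⊕ Fin a) F))
      (fun u v => by rw [Classical.sympB_apply, Classical.sympB_apply, Matrix.toLin'_apply, Matrix.toLin'_apply,
        Classical.sympForm_map]) W
      (fun u hu v hv => by rw [Classical.sympB_apply]; exact hWi u hu v hv)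
      (fun w hw => by rw [Submodule.mem_comap, Matrix.toLin'_apply]; exact hW w hw)
    rw [Matrix.charpoly_toLin', hxP] at hd'
    exact hbad _ (LinearMap.charpoly_monic _) hd' (by rw [LinearMap.charpoly_natDegree, hWm])
  · intro H
    have hC : Cond i t d m := hcond.2 (H.elim (fun h' => absurd h'.1 h2) fun h' => h'.2.2)
    rintro x ⟨z, hz⟩ -
    obtain ⟨y, hy, hxy⟩ := exists_normalise hd (hr.out.odd_of_ne_two h2) x hz
    have hmem : (y : Matrix (Fin d ⊕ Fin d) (Fin d ⊕ Fin d) F).charpoly ∈ selfRecip F r (2 * d) := by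
      refine ⟨Matrix.charpoly_monic _, by rw [Matrix.charpoly_natDegree_eq_dim, Fintype.card_sum, Fintype.card_fin,
        two_mul], SympPrimeOrderClasses.rdual_charpoly _, fun f hf hirr hdvd => ?_⟩
      obtain ⟨G, hG⟩ : ∃ G : GL (Fin (d + d)) F, (G : Matrix (Fin (d + d)) (Fin (d + d)) F) =
          Matrix.reindexAlgEquiv F F finSumFinEquiv y.1 :=
        ((Matrix.isUnit_iff_isUnit_det _).2 (SymplecticGroup.symplectic_det y.2)).map _
      refine GLPrimeOrderClasses.factor_dvd (g := G) (Units.ext ?_) hf hirr ?_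
      · rw [Units.val_pow_eq_pow_val, hG, ← map_pow, ← SubmonoidClass.coe_pow, hy, OneMemClass.coe_one, map_one,
          Units.val_one]
      · rw [hG, Matrix.reindexAlgEquiv_apply, Matrix.charpoly_reindex]; exact hdvd
    obtain ⟨a, x₀, W, hx₀, had, hP, hWm, hWi, hW⟩ := iso_of_cond h hmd hC hmem
    obtain rfl : a = d := by have := hmem.2.1; omega
    obtain ⟨g, hg⟩ := isConj_iff.1
      (SympSemisimpleClasses.symp_isConj_of_charpoly x₀ y (hcop _ hx₀) (hcop _ hy) hP)
    rw [invariant_map]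
    let G := Matrix.toLin' (g : Matrix (Fin a ⊕ Fin a) (Fin a ⊕ Fin a) F)
    refine ⟨W.map G, ?_, ?_, hxy _ ?_⟩
    · rw [← hWm]
      refine (Submodule.equivMapOfInjective G (fun u v huv => ?_) W).finrank_eq.symm
      have := congrArg ((g⁻¹ : Matrix.symplecticGroup (Fin a) F) : Matrix (Fin a ⊕ Fin a) (Fin a ⊕ Fin a) F).mulVec huv
      simpa [G, Matrix.mulVec_mulVec, ← Submonoid.coe_mul] using this
    · rintro _ ⟨u, hu, rfl⟩ _ ⟨v, hv, rfl⟩
      rw [Matrix.toLin'_apply, Matrix.toLin'_apply, Classical.sympForm_map]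
      exact hWi u hu v hv
    · rintro _ ⟨u, hu, rfl⟩
      refine ⟨_, hW u hu, ?_⟩
      have e : g * x₀ = y * g := by rw [← hg, inv_mul_cancel_right]
      rw [Matrix.toLin'_apply, Matrix.toLin'_apply, Matrix.mulVec_mulVec, Matrix.mulVec_mulVec, ← Submonoid.coe_mul,
        ← Submonoid.coe_mul, e]

end Cfsg.Agent.SympIsoDerange
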