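import Mathlib

/-! Orthogonal decompositions of unipotent isometries of alternating forms into chains, and invariant non-degenerate
subspaces. -/

set_option autoImplicit false
set_option linter.unusedSectionVars false

namespace Cfsg.Agent.SympNondegDecomp

open Module

variable {F V : Type*} [Field F] [AddCommGroup V] [Module F V] [FiniteDimensional F V]

/-- The form is non-degenerate on the subspace. -/
def Nd (B : LinearMap.BilinForm F V) (W : Submodule F V) : Prop := ∀ u ∈ W, u ≠ 0 → ∃ v ∈ W, B u v ≠ 0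

variable {B : LinearMap.BilinForm F V} (hA : B.IsAlt)

include hA in
theorem swap (u v : V) : B u v = -B v u := (LinearMap.IsAlt.neg hA v u).symm

theorem nd_bot : Nd B (⊥ : Submodule F V) := fun u hu h => absurd ((Submodule.mem_bot F).1 hu) h

include hA in
theorem finrank_sup_orth {P U : Submodule F V} (hP : Nd B P) (h : ∀ p ∈ P, ∀ u ∈ U, B p u = 0) :
    finrank F (P ⊔ U : Submodule F V) = finrank F P + finrank F U := by
  have hd : P ⊓ U = ⊥ := by
    rw [Submodule.eq_bot_iff]
    rintro x ⟨hxP, hxU⟩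
    by_contra hx
    obtain ⟨v, hv, hxv⟩ := hP x hxP hx
    exact hxv (by rw [swap hA, h v hv x hxU, neg_zero])
  have := Submodule.finrank_sup_add_finrank_inf_eq P U
  rwa [hd, finrank_bot, add_zero] at this

include hA in
theorem nd_sup {P U : Submodule F V} (hP : Nd B P) (hU : Nd B U) (h : ∀ p ∈ P, ∀ u ∈ U, B p u = 0) :
    Nd B (P ⊔ U) := by
  intro w hw hw0
  obtain ⟨p, hp, u, hu, rfl⟩ := Submodule.mem_sup.1 hw
  by_cases h0 : p = 0
  · subst h0
    rw [zero_add] at hw0 ⊢
    obtain ⟨x, hx, hxx⟩ := hU u hu hw0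
    exact ⟨x, Submodule.mem_sup_right hx, hxx⟩
  · obtain ⟨x, hx, hxx⟩ := hP p hp h0
    refine ⟨x, Submodule.mem_sup_left hx, ?_⟩
    rw [map_add, LinearMap.add_apply, swap hA u x, h x hx u hu, neg_zero, add_zero]
    exact hxx

include hA in
/-- A non-degenerate piece splits off inside a non-degenerate subspace, invariantly. -/
theorem exists_rest {W P : Submodule F V} (hPW : P ≤ W) (hW : Nd B W) (hP : Nd B P) (g : Module.End F V)
    (hg : ∀ x y, B (g x) (g y) = B x y) (hgW : ∀ x ∈ W, g x ∈ W) (hgP : ∀ x ∈ P, g x ∈ P) :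
    ∃ R ≤ W, Nd B R ∧ (∀ x ∈ R, g x ∈ R) ∧ (∀ p ∈ P, ∀ u ∈ R, B p u = 0) ∧
      finrank F P + finrank F R = finrank F W := by
  classical
  have hrefl : B.IsRefl := hA.isRefl
  have hPn : (B.restrict P).Nondegenerate := by
    constructor
    · intro x hx
      by_contra hne
      obtain ⟨v, hv, h⟩ := hP x x.2 fun e => hne (Subtype.ext e)
      exact h (hx ⟨v, hv⟩)
    · intro x hx
      by_contra hne
      obtain ⟨v, hv, h⟩ := hP x x.2 fun e => hne (Subtype.ext e)
      exact h (hrefl _ _ (hx ⟨v, hv⟩))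
  have hc := LinearMap.BilinForm.isCompl_orthogonal_of_restrict_nondegenerate hrefl hPn
  set R := W ⊓ B.orthogonal P
  have horth : ∀ p ∈ P, ∀ u ∈ R, B p u = 0 := fun p hp u hu => hu.2 p hp
  have hsup : P ⊔ R = W := by
    refine le_antisymm (sup_le hPW inf_le_left) fun w hw => ?_
    obtain ⟨p, hp, o, ho, rfl⟩ := Submodule.mem_sup.1 (hc.sup_eq_top.symm ▸ Submodule.mem_top : w ∈ P ⊔ B.orthogonal P)
    exact Submodule.add_mem_sup hp ⟨by simpa using W.sub_mem hw (hPW hp), ho⟩
  refine ⟨R, inf_le_left, fun u hu hu0 => ?_, fun x hx => ⟨hgW x hx.1, fun p hp => ?_⟩, horth,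
    by rw [← finrank_sup_orth hA hP horth, hsup]⟩
  · obtain ⟨v, hv, huv⟩ := hW u hu.1 hu0
    rw [← hsup] at hv
    obtain ⟨p, hp, r, hr, rfl⟩ := Submodule.mem_sup.1 hv
    refine ⟨r, hr, ?_⟩
    rwa [map_add, swap hA u p, horth p hp u hu, neg_zero, zero_add] at huv
  · let gP : Module.End F P := g.restrict hgP
    have hinj : Function.Injective gP := (injective_iff_map_eq_zero gP).2 fun a ha => by
      by_contra hne
      obtain ⟨v, hv, h⟩ := hP a a.2 fun e => hne (Subtype.ext e)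
      refine h ?_
      rw [← hg]
      have : g (a : V) = 0 := congrArg Subtype.val ha
      rw [this, map_zero, LinearMap.zero_apply]
    obtain ⟨⟨z, hz⟩, hgz⟩ := LinearMap.surjective_of_injective hinj ⟨p, hp⟩
    show B p (g x) = 0
    rw [show p = g z from (congrArg Subtype.val hgz).symm, hg]
    exact hx.2 z hz

section Chain

variable (N : Module.End F V) (hN : ∀ x y, B (N x) y + B x (N y) + B (N x) (N y) = 0)

include hN in
theorem chain_zero {W : Submodule F V} (hNW : ∀ x ∈ W, N x ∈ W) {k : ℕ} (hk : ∀ x ∈ W, (N ^ k) x = 0) :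
    ∀ (i j : ℕ) (x y : V), x ∈ W → y ∈ W → k ≤ i + j → B ((N ^ i) x) ((N ^ j) y) = 0 := by
  have hpow : ∀ j, ∀ y ∈ W, k ≤ j → (N ^ j) y = 0 := fun j y hy hj => by
    obtain ⟨s, rfl⟩ := Nat.exists_eq_add_of_le hj
    rw [add_comm, pow_add, Module.End.mul_apply, hk y hy, map_zero]
  intro i
  induction i with
  | zero => intro j x y _ hy hj; rw [hpow j y hy (by omega), map_zero]
  | succ i ih =>
    suffices ∀ s j x y, x ∈ W → y ∈ W → k ≤ i + 1 + j → k ≤ j + s → B ((N ^ (i + 1)) x) ((N ^ j) y) = 0 from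
      fun j x y hx hy h => this k j x y hx hy h (Nat.le_add_left _ _)
    intro s
    induction s with
    | zero => intro j x y _ hy _ hj; rw [hpow j y hy (by omega), map_zero]
    | succ s ih2 =>
      intro j x y hx hy h hj
      have h1 := hN ((N ^ i) x) ((N ^ j) y)
      rw [← Module.End.mul_apply, ← Module.End.mul_apply, ← pow_succ', ← pow_succ'] at h1
      rw [ih (j + 1) x y hx hy (by omega), ih2 (j + 1) x y hx hy (by omega) (by omega), add_zero, add_zero] at h1
      exact h1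

include hN in
theorem chain_top {W : Submodule F V} (hNW : ∀ x ∈ W, N x ∈ W) {k : ℕ} (hk : ∀ x ∈ W, (N ^ k) x = 0) :
    ∀ (i j : ℕ) (x y : V), x ∈ W → y ∈ W → i + j + 1 = k →
      B ((N ^ i) x) ((N ^ j) y) = (-1 : F) ^ i * B x ((N ^ (k - 1)) y) := by
  intro i
  induction i with
  | zero =>
    intro j x y _ _ h
    rw [pow_zero (-1 : F), one_mul, show k - 1 = j by omega]
    rfl
  | succ i ih =>
    intro j x y hx hy h
    have h1 := hN ((N ^ i) x) ((N ^ j) y)
    rw [← Module.End.mul_apply, ← Module.End.mul_apply, ← pow_succ', ← pow_succ'] at h1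
    rw [ih (j + 1) x y hx hy (by omega), chain_zero N hN hNW hk (i + 1) (j + 1) x y hx hy (by omega), add_zero] at h1
    rw [pow_succ (-1 : F), mul_neg_one, neg_mul]
    exact eq_neg_of_add_eq_zero_left h1

include hA hN in
/-- A family of chains with invertible top pairing spans a non-degenerate invariant piece. -/
theorem exists_span {W : Submodule F V} (hNW : ∀ x ∈ W, N x ∈ W) {k : ℕ} (hk : ∀ x ∈ W, (N ^ k) x = 0) {r : ℕ}
    (v : Fin r → V) (hv : ∀ a, v a ∈ W)
    (hM : ∀ c : Fin r → F, (∀ a, ∑ b, c b * B (v a) ((N ^ (k - 1)) (v b)) = 0) → c = 0) :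
    ∃ P ≤ W, Nd B P ∧ (∀ x ∈ P, N x ∈ P) ∧ finrank F P = k * r := by
  classical
  have hpw : ∀ (j : ℕ), ∀ x ∈ W, (N ^ j) x ∈ W := fun j => by
    induction j with
    | zero => exact fun x hx => hx
    | succ j ih => intro x hx; rw [pow_succ', Module.End.mul_apply]; exact hNW _ (ih x hx)
  let w : Fin k × Fin r → V := fun p => (N ^ (p.1 : ℕ)) (v p.2)
  let L : (Fin k × Fin r → F) →ₗ[F] V := Fintype.linearCombination F w
  have hsep : ∀ c, c ≠ 0 → ∃ p, B (w p) (L c) ≠ 0 := by
    intro c hc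
    obtain ⟨j₀, hj₀⟩ : ∃ j : Fin k, (∃ a, c (j, a) ≠ 0) ∧ ∀ l : Fin k, l < j → ∀ a, c (l, a) = 0 := by
      obtain ⟨p, hp⟩ := Function.ne_iff.1 hc
      let S : Finset (Fin k) := Finset.univ.filter fun j => ∃ a, c (j, a) ≠ 0
      have hS : S.Nonempty := ⟨p.1, Finset.mem_filter.2 ⟨Finset.mem_univ _, p.2, hp⟩⟩
      refine ⟨S.min' hS, (Finset.mem_filter.1 (S.min'_mem hS)).2, fun l hl a => ?_⟩
      by_contra hla
      exact absurd (S.min'_le l (Finset.mem_filter.2 ⟨Finset.mem_univ _, a, hla⟩)) (not_le.2 hl)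
    obtain ⟨⟨a₀, ha₀⟩, hmin⟩ := hj₀
    by_contra hno
    push Not at hno
    have hc0 := hM (fun b => c (j₀, b)) fun a => by
      have hlt : k - 1 - (j₀ : ℕ) < k := by have := j₀.isLt; omega
      have h := hno (⟨k - 1 - (j₀ : ℕ), hlt⟩, a)
      simp only [L, Fintype.linearCombination_apply, map_sum, map_smul, smul_eq_mul, Fintype.sum_prod_type, w] at h
      rw [Finset.sum_eq_single j₀ (fun l _ hl => Finset.sum_eq_zero fun b _ => by
        rcases lt_or_gt_of_ne hl with hl | hl
        · rw [hmin l hl b, zero_mul]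
        · rw [chain_zero N hN hNW hk _ _ _ _ (hv a) (hv b) (by have : (j₀ : ℕ) < l := hl; omega), mul_zero])
        (fun h0 => absurd (Finset.mem_univ j₀) h0)] at h
      rw [Finset.sum_congr rfl (fun b _ => by
        rw [chain_top N hN hNW hk _ _ _ _ (hv a) (hv b) (by have := j₀.isLt; omega),
          mul_left_comm]), ← Finset.mul_sum] at h
      exact (mul_eq_zero.1 h).resolve_left (pow_ne_zero _ (neg_ne_zero.2 one_ne_zero))
    exact ha₀ (congrFun hc0 a₀)
  have hinj : Function.Injective L := (injective_iff_map_eq_zero L).2 fun c hc => by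
    by_contra hne
    obtain ⟨p, hp⟩ := hsep c hne
    exact hp (by rw [hc, map_zero])
  have hmem : ∀ p, w p ∈ LinearMap.range L := fun p => ⟨Pi.single p 1, by
    simp [L, Fintype.linearCombination_apply_single]⟩
  refine ⟨LinearMap.range L, ?_, ?_, ?_, ?_⟩
  · rintro _ ⟨c, rfl⟩
    simp only [L, Fintype.linearCombination_apply]
    exact Submodule.sum_mem _ fun p _ => W.smul_mem _ (hpw _ _ (hv p.2))
  · rintro _ ⟨c, rfl⟩ hx
    obtain ⟨p, hp⟩ := hsep c fun e => hx (by rw [e, map_zero])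
    exact ⟨w p, hmem p, fun e => hp (by rw [swap hA, e, neg_zero])⟩
  · rintro _ ⟨c, rfl⟩
    simp only [L, Fintype.linearCombination_apply, map_sum, map_smul]
    refine Submodule.sum_mem _ fun p _ => Submodule.smul_mem _ _ ?_
    show N ((N ^ (p.1 : ℕ)) (v p.2)) ∈ LinearMap.range (Fintype.linearCombination F w)
    rw [← Module.End.mul_apply, ← pow_succ']
    rcases Nat.lt_or_ge ((p.1 : ℕ) + 1) k with h | h
    · exact hmem (⟨_, h⟩, p.2)
    · rw [show (p.1 : ℕ) + 1 = k by have := p.1.isLt; omega, hk _ (hv p.2)]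
      exact Submodule.zero_mem _
  · rw [LinearMap.finrank_range_of_inj hinj, Module.finrank_pi, Fintype.card_prod, Fintype.card_fin, Fintype.card_fin]

include hA hN in
/-- A chain piece in a non-trivial invariant non-degenerate subspace. -/
theorem exists_piece {W : Submodule F V} (hW : Nd B W) (hNW : ∀ x ∈ W, N x ∈ W) (hne : W ≠ ⊥) {K : ℕ}
    (hK : ∀ x ∈ W, (N ^ K) x = 0) :
    ∃ k, ∃ P ≤ W, 0 < k ∧ k ≤ K ∧ Nd B P ∧ (∀ x ∈ P, N x ∈ P) ∧
      ((finrank F P = k ∧ Even k) ∨ (finrank F P = 2 * k ∧ (Odd k ∨ (2 : F) = 0))) := by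
  classical
  have hex : ∃ k, ∀ x ∈ W, (N ^ k) x = 0 := ⟨K, hK⟩
  set k := Nat.find hex
  have hk : ∀ x ∈ W, (N ^ k) x = 0 := Nat.find_spec hex
  have hk0 : 0 < k := Nat.pos_of_ne_zero fun h => hne ((Submodule.eq_bot_iff _).2 fun x hx => by
    have := hk x hx; rwa [h, pow_zero] at this)
  obtain ⟨y, hy, hy0⟩ : ∃ y ∈ W, (N ^ (k - 1)) y ≠ 0 := by
    have := Nat.find_min hex (show k - 1 < k by omega)
    push Not at this
    exact this
  have hkK : k ≤ K := Nat.find_le hK
  have hpw : ∀ (j : ℕ), ∀ x ∈ W, (N ^ j) x ∈ W := fun j => by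
    induction j with
    | zero => exact fun x hx => hx
    | succ j ih => intro x hx; rw [pow_succ', Module.End.mul_apply]; exact hNW _ (ih x hx)
  obtain ⟨z, hz, hzy⟩ := hW _ (hpw _ y hy) hy0
  have hzy' : B z ((N ^ (k - 1)) y) ≠ 0 := fun e => hzy (by rw [swap hA, e, neg_zero])
  have hswap : ∀ a ∈ W, ∀ b ∈ W, B b ((N ^ (k - 1)) a) = (-1 : F) ^ k * B a ((N ^ (k - 1)) b) := by
    intro a ha b hb
    have h := chain_top N hN hNW hk (k - 1) 0 a b ha hb (by omega)
    rw [show (N ^ 0) b = b from rfl] at h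
    rw [swap hA, h]
    conv_rhs => rw [show k = (k - 1) + 1 by omega, pow_succ]
    simp only [Nat.add_sub_cancel]
    ring
  have hodd : Odd k → ∀ a ∈ W, B a ((N ^ (k - 1)) a) = 0 := fun ho a ha => by
    obtain ⟨h, hh⟩ := ho
    have h1 := chain_top N hN hNW hk h h a a ha ha (by omega)
    rw [hA] at h1
    exact (mul_eq_zero.1 h1.symm).resolve_left (pow_ne_zero _ (neg_ne_zero.2 one_ne_zero))
  by_cases hd : ∃ a ∈ W, B a ((N ^ (k - 1)) a) ≠ 0
  · obtain ⟨a, ha, ha0⟩ := hd
    obtain ⟨P, hPW, hP, hNP, hPd⟩ := exists_span hA N hN hNW hk ![a] (fun _ => by simpa using ha) fun c hc => by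
      have h := hc 0
      simp at h
      funext b
      fin_cases b
      exact h.resolve_right ha0
    exact ⟨k, P, hPW, hk0, hkK, hP, hNP, Or.inl ⟨by simpa using hPd,
      Nat.not_odd_iff_even.1 fun ho => ha0 (hodd ho a ha)⟩⟩
  push Not at hd
  obtain ⟨P, hPW, hP, hNP, hPd⟩ := exists_span hA N hN hNW hk ![z, y]
    (fun b => by fin_cases b; exacts [hz, hy]) fun c hc => by
      have h0 := hc 0
      have h1 := hc 1
      simp [Fin.sum_univ_two, hd z hz, hd y hy, hswap z hz y hy] at h0 h1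
      funext b
      fin_cases b
      · exact h1.resolve_right hzy'
      · exact h0.resolve_right hzy'
  refine ⟨k, P, hPW, hk0, hkK, hP, hNP, Or.inr ⟨hPd.trans (Nat.mul_comm _ _), ?_⟩⟩
  rcases Nat.even_or_odd k with he | ho
  · refine Or.inr ?_
    have h := hd (z + y) (W.add_mem hz hy)
    rw [map_add, map_add, map_add, LinearMap.add_apply, LinearMap.add_apply, hd z hz, hd y hy, hswap z hz y hy,
      he.neg_one_pow, one_mul, zero_add, add_zero, ← two_mul] at h
    exact (mul_eq_zero.1 h).resolve_right hzy'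
  · exact Or.inl ho

include hA hN in
/-- The invariant non-degenerate subspaces from a decomposition into chains. -/
theorem decomp (g : Module.End F V) (hgN : ∀ x, g x = x + N x) (hg : ∀ x y, B (g x) (g y) = B x y) {K : ℕ} :
    ∀ (n : ℕ) (W : Submodule F V), finrank F W = n → Nd B W → (∀ x ∈ W, N x ∈ W) → (∀ x ∈ W, (N ^ K) x = 0) →
      ∃ S D : Multiset ℕ, (∀ a ∈ S, Even a ∧ 0 < a ∧ a ≤ K) ∧ (∀ a ∈ D, 0 < a ∧ a ≤ K ∧ (Odd a ∨ (2 : F) = 0)) ∧
        S.sum + 2 * D.sum = n ∧ ∀ S' ≤ S, ∀ D' ≤ D,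
          ∃ U ≤ W, Nd B U ∧ (∀ x ∈ U, N x ∈ U) ∧ finrank F U = S'.sum + 2 * D'.sum := by
  classical
  intro n
  induction n using Nat.strong_induction_on with
  | _ n ih =>
  intro W hn hW hNW hK
  rcases eq_or_ne W ⊥ with rfl | hne
  · rw [finrank_bot] at hn
    refine ⟨0, 0, by simp, by simp, by simpa using hn, fun S' hS' D' hD' => ⟨⊥, le_rfl, nd_bot, fun x hx => ?_, ?_⟩⟩
    · rw [(Submodule.mem_bot F).1 hx, map_zero]; exact Submodule.zero_mem _
    · simp [Multiset.le_zero.1 hS', Multiset.le_zero.1 hD']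
  obtain ⟨k, P, hPW, hk0, hkK, hP, hNP, hPd⟩ := exists_piece hA N hN hW hNW hne hK
  have hgi : ∀ (U : Submodule F V), (∀ x ∈ U, N x ∈ U) → ∀ x ∈ U, g x ∈ U := fun U hU x hx => by
    rw [hgN]; exact U.add_mem hx (hU x hx)
  obtain ⟨R, hRW, hR, hgR, horth, hdim⟩ := exists_rest hA hPW hW hP g hg (hgi W hNW) (hgi P hNP)
  have hNR : ∀ x ∈ R, N x ∈ R := fun x hx => by
    rw [show N x = g x - x by rw [hgN]; abel]; exact R.sub_mem (hgR x hx) hx
  obtain ⟨S, D, hS, hD, hsum, hU⟩ := ih (finrank F R) (by rcases hPd with h | h <;> omega) R rfl hR hNR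
    (fun x hx => hK x (hRW hx))
  have hglue : ∀ U ≤ R, Nd B U → (∀ x ∈ U, N x ∈ U) → ∃ U' ≤ W, Nd B U' ∧ (∀ x ∈ U', N x ∈ U') ∧
      finrank F U' = finrank F P + finrank F U := fun U hUR hUn hUi => by
    have ho : ∀ p ∈ P, ∀ u ∈ U, B p u = 0 := fun p hp u hu => horth p hp u (hUR hu)
    refine ⟨P ⊔ U, sup_le hPW (hUR.trans hRW), nd_sup hA hP hUn ho, fun x hx => ?_, finrank_sup_orth hA hP ho⟩
    obtain ⟨p, hp, u, hu, rfl⟩ := Submodule.mem_sup.1 hx
    rw [map_add]
    exact Submodule.add_mem_sup (hNP p hp) (hUi u hu)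
  rcases hPd with ⟨hPd, hke⟩ | ⟨hPd, hko⟩
  · refine ⟨k ::ₘ S, D, ?_, hD, by rw [Multiset.sum_cons]; omega, fun S' hS' D' hD' => ?_⟩
    · intro a ha
      rcases Multiset.mem_cons.1 ha with rfl | ha
      exacts [⟨hke, hk0, hkK⟩, hS a ha]
    by_cases hk : k ∈ S'
    · obtain ⟨S₁, rfl⟩ := Multiset.exists_cons_of_mem hk
      obtain ⟨U, hUR, hUn, hUi, hUd⟩ := hU S₁ ((Multiset.cons_le_cons_iff k).1 hS') D' hD'
      obtain ⟨U', h1, h3, h4, h5⟩ := hglue U hUR hUn hUi
      exact ⟨U', h1, h3, h4, by rw [h5, hUd, hPd, Multiset.sum_cons]; omega⟩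
    · obtain ⟨U, hUR, hUn, hUi, hUd⟩ := hU S' ((Multiset.le_cons_of_notMem hk).1 hS') D' hD'
      exact ⟨U, hUR.trans hRW, hUn, hUi, hUd⟩
  · refine ⟨S, k ::ₘ D, hS, ?_, by rw [Multiset.sum_cons]; omega, fun S' hS' D' hD' => ?_⟩
    · intro a ha
      rcases Multiset.mem_cons.1 ha with rfl | ha
      exacts [⟨hk0, hkK, hko⟩, hD a ha]
    by_cases hk : k ∈ D'
    · obtain ⟨D₁, rfl⟩ := Multiset.exists_cons_of_mem hk
      obtain ⟨U, hUR, hUn, hUi, hUd⟩ := hU S' hS' D₁ ((Multiset.cons_le_cons_iff k).1 hD')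
      obtain ⟨U', h1, h3, h4, h5⟩ := hglue U hUR hUn hUi
      exact ⟨U', h1, h3, h4, by rw [h5, hUd, hPd, Multiset.sum_cons]; omega⟩
    · obtain ⟨U, hUR, hUn, hUi, hUd⟩ := hU S' hS' D' ((Multiset.le_cons_of_notMem hk).1 hD')
      exact ⟨U, hUR.trans hRW, hUn, hUi, hUd⟩

end Chain

include hA in
/-- Isometries squaring to `±1` in odd characteristic fix non-degenerate subspaces of every even dimension. -/
theorem of_sq (h2 : (2 : F) ≠ 0) (g : Module.End F V) (hg : ∀ x y, B (g x) (g y) = B x y) {e : F} (he : e = 1 ∨ e = -1)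
    (hgg : ∀ x, g (g x) = e • x) :
    ∀ (j : ℕ) (W : Submodule F V), Nd B W → (∀ x ∈ W, g x ∈ W) → 2 * j ≤ finrank F W →
      ∃ U ≤ W, Nd B U ∧ (∀ x ∈ U, g x ∈ U) ∧ finrank F U = 2 * j := by
  intro j
  induction j with
  | zero =>
    intro W _ _ _
    exact ⟨⊥, bot_le, nd_bot, fun x hx => by rw [(Submodule.mem_bot F).1 hx, map_zero]; exact Submodule.zero_mem _,
      by rw [finrank_bot]⟩
  | succ j ih =>
    intro W hW hgW hj
    have hpair : ∀ u ∈ W, ∀ v ∈ W, B u v ≠ 0 → g u ∈ Submodule.span F {u, v} → g v ∈ Submodule.span F {u, v} →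
        ∃ P ≤ W, Nd B P ∧ (∀ x ∈ P, g x ∈ P) ∧ finrank F P = 2 := by
      intro u hu v hv huv hgu hgv
      have hli : LinearIndependent F ![u, v] := LinearIndependent.pair_iff.2 fun s t h => by
        have h1 := congrArg (fun x => B x v) h
        have h3 := congrArg (fun x => B u x) h
        simp [hA u, hA v] at h1 h3
        exact ⟨h1.resolve_right huv, h3.resolve_right huv⟩
      refine ⟨Submodule.span F {u, v}, Submodule.span_le.2 (by simp [Set.insert_subset_iff, hu, hv]), ?_, ?_, ?_⟩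
      · intro x hx hx0
        obtain ⟨s, t, rfl⟩ := Submodule.mem_span_pair.1 hx
        by_cases hs : s = 0
        · subst hs
          refine ⟨u, Submodule.subset_span (by simp), ?_⟩
          rw [zero_smul, zero_add] at hx0 ⊢
          rw [map_smul, LinearMap.smul_apply, smul_eq_mul, swap hA]
          exact mul_ne_zero (fun h => hx0 (by rw [h, zero_smul])) (neg_ne_zero.2 huv)
        · refine ⟨v, Submodule.subset_span (by simp), ?_⟩
          rw [map_add, LinearMap.add_apply, map_smul, map_smul, LinearMap.smul_apply, LinearMap.smul_apply, hA v,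
            smul_zero, add_zero, smul_eq_mul]
          exact mul_ne_zero hs huv
      · intro x hx
        obtain ⟨s, t, rfl⟩ := Submodule.mem_span_pair.1 hx
        rw [map_add, map_smul, map_smul]
        exact Submodule.add_mem _ (Submodule.smul_mem _ _ hgu) (Submodule.smul_mem _ _ hgv)
      · rw [show ({u, v} : Set V) = Set.range ![u, v] by simp [Matrix.range_cons, Matrix.range_empty, Set.pair_comm],
          finrank_span_eq_card hli, Fintype.card_fin]
    obtain ⟨a, ha, ha0⟩ := Submodule.exists_mem_ne_zero_of_ne_bot (p := W) fun h => by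
      rw [h, finrank_bot] at hj; omega
    have hP : ∃ P ≤ W, Nd B P ∧ (∀ x ∈ P, g x ∈ P) ∧ finrank F P = 2 := by
      rcases he with he | he
      · -- an eigenvector and a partner in the same eigenspace
        obtain ⟨u, hu, hu0, ε, hε, hgu⟩ : ∃ u ∈ W, u ≠ 0 ∧ ∃ ε : F, ε * ε = 1 ∧ g u = ε • u := by
          by_cases h : a + g a = 0
          · exact ⟨a, ha, ha0, -1, by ring, by rw [neg_one_smul]; exact eq_neg_of_add_eq_zero_right h⟩
          · refine ⟨a + g a, W.add_mem ha (hgW a ha), h, 1, one_mul 1, ?_⟩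
            rw [map_add, hgg, he, one_smul, one_smul, add_comm]
        obtain ⟨v, hv, huv⟩ := hW u hu hu0
        have hgv : B u (g v) = ε * B u v := by
          have h := hg u v
          rw [hgu, map_smul, LinearMap.smul_apply, smul_eq_mul] at h
          linear_combination ε * h - (B u (g v)) * hε
        refine hpair u hu (v + ε • g v) (W.add_mem hv (W.smul_mem _ (hgW v hv))) ?_
          (hgu ▸ Submodule.smul_mem _ _ (Submodule.subset_span (by simp))) ?_
        · rw [map_add, map_smul, smul_eq_mul, hgv, ← mul_assoc, hε, one_mul, ← two_mul]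
          exact mul_ne_zero h2 huv
        · rw [show g (v + ε • g v) = ε • (v + ε • g v) by
            rw [map_add, map_smul, hgg, he, one_smul, smul_add, smul_smul, hε, one_smul, add_comm]]
          exact Submodule.smul_mem _ _ (Submodule.subset_span (by simp))
      · obtain ⟨u, hu, huu⟩ : ∃ u ∈ W, B u (g u) ≠ 0 := by
          by_contra hno
          push Not at hno
          obtain ⟨v, hv, hav⟩ := hW a ha ha0
          have hsym : B (g v) (g a) = B v a := hg v a
          have h3 := hno (a + g v) (W.add_mem ha (hgW v hv))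
          rw [map_add, map_add, map_add, LinearMap.add_apply, LinearMap.add_apply, hno a ha, hno (g v) (hgW v hv),
            hgg, he, neg_one_smul, map_neg, hsym, swap hA v a, zero_add, add_zero] at h3
          exact hav ((mul_eq_zero.1 (show (2 : F) * B a v = 0 by linear_combination -h3)).resolve_left h2)
        refine hpair u hu (g u) (hgW u hu) huu (Submodule.subset_span (by simp)) ?_
        rw [hgg, he, neg_one_smul]
        exact Submodule.neg_mem _ (Submodule.subset_span (by simp))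
    obtain ⟨P, hPW, hPn, hPi, hPd⟩ := hP
    obtain ⟨R, hRW, hR, hgR, horth, hdim⟩ := exists_rest hA hPW hW hPn g hg hgW hPi
    obtain ⟨U, hUR, hU, hgU, hUd⟩ := ih R hR hgR (by omega)
    have ho : ∀ p ∈ P, ∀ u ∈ U, B p u = 0 := fun p hp u hu => horth p hp u (hUR hu)
    refine ⟨P ⊔ U, sup_le hPW (hUR.trans hRW), nd_sup hA hPn hU ho, fun x hx => ?_,
      by rw [finrank_sup_orth hA hPn ho, hPd, hUd]; ring⟩
    obtain ⟨p, hp, u, hu, rfl⟩ := Submodule.mem_sup.1 hx
    rw [map_add]
    exact Submodule.add_mem_sup (hPi p hp) (hgU u hu)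

end Cfsg.Agent.SympNondegDecomp
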