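import Cfsg.Agent.Lib.Classical.SympIsoDerange
import Cfsg.Agent.Lib.Classical.SympNondegDecomp
import Cfsg.Agent.Lib.Classical.SympGen

/-! The number of non-degenerate subspaces of given dimension of a symplectic space. -/

set_option autoImplicit false
set_option linter.unusedSectionVars false

namespace Cfsg.Agent.SympNondegCount

open Matrix Module Cfsg.Agent.SympIsoDerange Cfsg.Agent.SympNondegDecomp

variable {F : Type*} [Field F]

/-- The left summand. -/
def leftSpace (F : Type*) [Field F] (a b : ℕ) : Submodule F (Fin (a + b) ⊕ Fin (a + b) → F) :=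
  LinearMap.range ((pairEquiv (F := F) a b).toLinearMap ∘ₗ LinearMap.inl F _ _)

theorem mem_left {a b : ℕ} {w : Fin (a + b) ⊕ Fin (a + b) → F} :
    w ∈ leftSpace F a b ↔ ∃ u, pairEquiv a b (u, (0 : Fin b ⊕ Fin b → F)) = w := Iff.rfl

theorem left_props (a b : ℕ) : finrank F (leftSpace F a b) = 2 * a ∧
    Nd (Classical.sympB (a + b) F) (leftSpace F a b) := by
  constructor
  · rw [leftSpace, LinearMap.finrank_range_of_inj (show Function.Injective ((pairEquiv (F := F) a b).toLinearMap ∘ₗ LinearMap.inl F _ _) from (pairEquiv (F := F) a b).injective.comp LinearMap.inl_injective),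
      Module.finrank_pi, Fintype.card_sum, Fintype.card_fin, two_mul]
  · intro w hw hw0
    obtain ⟨u, rfl⟩ := mem_left.1 hw
    obtain ⟨v, hv⟩ := Classical.exists_sympForm_eq_one (u := u) fun h => hw0 (by
      rw [h, show ((0 : Fin a ⊕ Fin a → F), (0 : Fin b ⊕ Fin b → F)) = 0 from rfl, map_zero])
    refine ⟨_, mem_left.2 ⟨v, rfl⟩, ?_⟩
    rw [Classical.sympB_apply, sympForm_pair, hv, Classical.sympForm_zero_left, add_zero]
    exact one_ne_zero

theorem mulVec_block {a b : ℕ} (p : Matrix.symplecticGroup (Fin a) F × Matrix.symplecticGroup (Fin b) F)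
    (u : Fin a ⊕ Fin a → F) (v : Fin b ⊕ Fin b → F) :
    (Classical.sympBlock a b p).1 *ᵥ pairEquiv a b (u, v) =
      pairEquiv a b ((p.1).1 *ᵥ u, (p.2).1 *ᵥ v) :=
  blockMat_mulVec _ _ u v

theorem sp_injective {m : ℕ} (x : Matrix.symplecticGroup (Fin m) F) : Function.Injective fun w => (x).1 *ᵥ w :=
  fun u v h => by
    have := congrArg ((x⁻¹ : Matrix.symplecticGroup (Fin m) F) : Matrix (Fin m ⊕ Fin m) (Fin m ⊕ Fin m) F).mulVec h
    simpa [Matrix.mulVec_mulVec, ← Submonoid.coe_mul] using this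

/-- An element fixing the left summand is a block element. -/
theorem exists_block {a b : ℕ} (x : Matrix.symplecticGroup (Fin (a + b)) F)
    (hx : ∀ w ∈ leftSpace F a b, (x).1 *ᵥ w ∈ leftSpace F a b) :
    ∃ p, Classical.sympBlock a b p = x := by
  classical
  let e := pairEquiv (F := F) a b
  let X := Matrix.toLin' (x : Matrix (Fin (a + b) ⊕ Fin (a + b)) (Fin (a + b) ⊕ Fin (a + b)) F)
  let f : (Fin a ⊕ Fin a → F) →ₗ[F] (Fin a ⊕ Fin a → F) :=
    LinearMap.fst F _ _ ∘ₗ e.symm.toLinearMap ∘ₗ X ∘ₗ e.toLinearMap ∘ₗ LinearMap.inl F _ _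
  let h : (Fin b ⊕ Fin b → F) →ₗ[F] (Fin b ⊕ Fin b → F) :=
    LinearMap.snd F _ _ ∘ₗ e.symm.toLinearMap ∘ₗ X ∘ₗ e.toLinearMap ∘ₗ LinearMap.inr F _ _
  have hf : ∀ u, (x).1 *ᵥ e (u, (0 : Fin b ⊕ Fin b → F)) = e (f u, 0) := fun u => by
    obtain ⟨u', hu'⟩ := mem_left.1 (hx _ (mem_left.2 ⟨u, rfl⟩))
    have : f u = u' := by
      show (e.symm ((x).1 *ᵥ e (u, 0))).1 = u'
      rw [← hu', e.symm_apply_apply]
    rw [this]; exact hu'.symm
  have hfinj : Function.Injective f := fun u u' huu => by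
    have := sp_injective x (show (x).1 *ᵥ e (u, (0 : Fin b ⊕ Fin b → F)) = (x).1 *ᵥ e (u', 0) by
      rw [hf, hf, huu])
    exact congrArg Prod.fst (e.injective this)
  have hh : ∀ v, (x).1 *ᵥ e ((0 : Fin a ⊕ Fin a → F), v) = e (0, h v) := fun v => by
    obtain ⟨⟨c, c'⟩, hc⟩ := e.surjective ((x).1 *ᵥ e ((0 : Fin a ⊕ Fin a → F), v))
    have h1 : h v = c' := by
      show (e.symm ((x).1 *ᵥ e (0, v))).2 = c'
      rw [← hc, e.symm_apply_apply]
    have h0 : c = 0 := Classical.eq_zero_of_sympForm_eq_zero fun z => by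
      obtain ⟨u, rfl⟩ := LinearMap.surjective_of_injective hfinj z
      have h2 := Classical.sympForm_map x (e ((0 : Fin a ⊕ Fin a → F), v)) (e (u, (0 : Fin b ⊕ Fin b → F)))
      rw [← hc, hf, sympForm_pair, sympForm_pair, Classical.sympForm_zero_right, add_zero, Classical.sympForm_zero_left,
        Classical.sympForm_zero_right, add_zero] at h2
      exact h2
    rw [← hc, h0, h1]
  have hA : LinearMap.toMatrix' f ∈ Matrix.symplecticGroup (Fin a) F :=
    Classical.mem_symplecticGroup_iff_form.2 fun u v => by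
      have h2 := Classical.sympForm_map x (e (u, (0 : Fin b ⊕ Fin b → F))) (e (v, 0))
      rw [hf, hf, sympForm_pair, sympForm_pair, Classical.sympForm_zero_left, add_zero, add_zero] at h2
      rw [LinearMap.toMatrix'_mulVec, LinearMap.toMatrix'_mulVec]
      exact h2
  have hB : LinearMap.toMatrix' h ∈ Matrix.symplecticGroup (Fin b) F :=
    Classical.mem_symplecticGroup_iff_form.2 fun u v => by
      have h2 := Classical.sympForm_map x (e ((0 : Fin a ⊕ Fin a → F), u)) (e (0, v))
      rw [hh, hh, sympForm_pair, sympForm_pair, Classical.sympForm_zero_left, zero_add, zero_add] at h2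
      rw [LinearMap.toMatrix'_mulVec, LinearMap.toMatrix'_mulVec]
      exact h2
  refine ⟨(⟨_, hA⟩, ⟨_, hB⟩), Subtype.ext (Matrix.ext_iff_mulVec.2 fun w => ?_)⟩
  obtain ⟨⟨u, v⟩, rfl⟩ := e.surjective w
  rw [mulVec_block]
  show e (LinearMap.toMatrix' f *ᵥ u, LinearMap.toMatrix' h *ᵥ v) = _
  rw [LinearMap.toMatrix'_mulVec, LinearMap.toMatrix'_mulVec, show (u, v) = (u, (0 : Fin b ⊕ Fin b → F)) + (0, v) by simp,
    map_add, Matrix.mulVec_add, hf, hh, ← map_add]
  simp

variable [Fintype F]

/-- The symplectic group is transitive on non-degenerate subspaces of one dimension. -/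
theorem exists_map {a b : ℕ} {W : Submodule F (Fin (a + b) ⊕ Fin (a + b) → F)} (hW : finrank F W = 2 * a)
    (hWn : Nd (Classical.sympB (a + b) F) W) :
    ∃ x : Matrix.symplecticGroup (Fin (a + b)) F,
      (leftSpace F a b).map (Matrix.toLin' (x).1) = W := by
  classical
  set B := Classical.sympB (a + b) F
  have hA : B.IsAlt := fun v => by rw [Classical.sympB_apply, Classical.sympForm_self]
  have hWr : (B.restrict W).Nondegenerate := by
    constructor
    · intro x hx
      by_contra hne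
      obtain ⟨v, hv, h⟩ := hWn x x.2 fun e => hne (Subtype.ext e)
      exact h (hx ⟨v, hv⟩)
    · intro x hx
      by_contra hne
      obtain ⟨v, hv, h⟩ := hWn x x.2 fun e => hne (Subtype.ext e)
      exact h (hA.isRefl _ _ (hx ⟨v, hv⟩))
  have hc := LinearMap.BilinForm.isCompl_orthogonal_of_restrict_nondegenerate hA.isRefl hWr
  set U := B.orthogonal W
  have hUd : finrank F U = 2 * b := by
    have := Submodule.finrank_add_eq_of_isCompl hc
    rw [hW, Module.finrank_pi, Fintype.card_sum, Fintype.card_fin] at this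
    omega
  obtain ⟨L, hL⟩ := Classical.exists_symp_coords (B.restrict W) (fun v => hA v.1) hWr.1 hW
  obtain ⟨L', hL'⟩ := Classical.exists_symp_coords (B.restrict U) (fun v => hA v.1) (fun v hv => Subtype.ext
      (Classical.sympB_nondegenerate.1 _ fun z => by
        obtain ⟨w, hw, u, hu, rfl⟩ := Submodule.mem_sup.1 (hc.sup_eq_top.symm ▸ Submodule.mem_top : z ∈ W ⊔ U)
        show B v.1 (w + u) = 0
        rw [map_add, hA.isRefl _ _ (v.2 w hw), zero_add]
        exact hv ⟨u, hu⟩)) hUd
  let T := ((pairEquiv (F := F) a b).symm.trans (L.prodCongr L')).trans (Submodule.prodEquivOfIsCompl W U hc)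
  have hT : ∀ u v, T (pairEquiv a b (u, v)) = (L u : Fin (a + b) ⊕ Fin (a + b) → F) + (L' v : _) := fun u v => by
    simp [T]
  have hmem : LinearMap.toMatrix' T.toLinearMap ∈ Matrix.symplecticGroup (Fin (a + b)) F :=
    Classical.mem_symplecticGroup_iff_form.2 fun z z' => by
      rw [LinearMap.toMatrix'_mulVec, LinearMap.toMatrix'_mulVec]
      obtain ⟨⟨u, v⟩, rfl⟩ := (pairEquiv (F := F) a b).surjective z
      obtain ⟨⟨u', v'⟩, rfl⟩ := (pairEquiv (F := F) a b).surjective z'
      show sympForm (a + b) F (T (pairEquiv a b (u, v))) (T (pairEquiv a b (u', v'))) = _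
      rw [hT, hT, sympForm_pair, ← Classical.sympB_apply, map_add, map_add, LinearMap.add_apply, LinearMap.add_apply,
        ← hL, ← hL']
      have h1 : B (L u : _) (L' v' : _) = 0 := (L' v').2 _ (L u).2
      have h3 : B (L' v : _) (L u' : _) = 0 := hA.isRefl _ _ ((L' v).2 _ (L u').2)
      rw [h1, h3, add_zero, zero_add]
      rfl
  refine ⟨⟨_, hmem⟩, Submodule.eq_of_le_of_finrank_eq ?_ ?_⟩
  · rintro _ ⟨w, hw, rfl⟩
    obtain ⟨u, rfl⟩ := mem_left.1 hw
    show LinearMap.toMatrix' T.toLinearMap *ᵥ _ ∈ W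
    rw [LinearMap.toMatrix'_mulVec]
    show T _ ∈ W
    rw [hT, map_zero, ZeroMemClass.coe_zero, add_zero]
    exact (L u).2
  · rw [hW, ← (left_props (F := F) a b).1]
    exact (Submodule.equivMapOfInjective _ (sp_injective ⟨_, hmem⟩) _).finrank_eq.symm

/-- The orbit equation. -/
theorem card_mul (a b : ℕ) :
    Nat.card (Matrix.symplecticGroup (Fin (a + b)) F) =
      Nat.card {W : Submodule F (Fin (a + b) ⊕ Fin (a + b) → F) // finrank F W = 2 * a ∧ Nd (Classical.sympB (a + b) F) W} *
        (Nat.card (Matrix.symplecticGroup (Fin a) F) * Nat.card (Matrix.symplecticGroup (Fin b) F)) := by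
  classical
  set S := {W : Submodule F (Fin (a + b) ⊕ Fin (a + b) → F) // finrank F W = 2 * a ∧ Nd (Classical.sympB (a + b) F) W}
  haveI : Finite (Submodule F (Fin (a + b) ⊕ Fin (a + b) → F)) := Finite.of_injective SetLike.coe SetLike.coe_injective
  haveI := Fintype.ofFinite S
  let f : Matrix.symplecticGroup (Fin (a + b)) F → S := fun x =>
    ⟨(leftSpace F a b).map (Matrix.toLin' (x).1),
      (Submodule.equivMapOfInjective _ (sp_injective x) _).finrank_eq.symm.trans (left_props a b).1, by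
        rintro _ ⟨w, hw, rfl⟩ hw0
        obtain ⟨v, hv, h⟩ := (left_props a b).2 w hw fun e => hw0 (by rw [e, map_zero])
        refine ⟨_, ⟨v, hv, rfl⟩, ?_⟩
        rw [Classical.sympB_apply, Matrix.toLin'_apply, Matrix.toLin'_apply, Classical.sympForm_map]
        rwa [Classical.sympB_apply] at h⟩
  have hfib : ∀ W : S, Nat.card {x // f x = W} =
      Nat.card (Matrix.symplecticGroup (Fin a) F) * Nat.card (Matrix.symplecticGroup (Fin b) F) := by
    intro W
    obtain ⟨g, hg⟩ := exists_map W.2.1 W.2.2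
    rw [← Nat.card_prod]
    refine (Nat.card_congr (Equiv.ofBijective (fun p => (⟨g * Classical.sympBlock a b p, Subtype.ext ?_⟩ : {x // f x = W}))
      ⟨fun p p' h => Classical.sympBlock_injective (mul_left_cancel (congrArg Subtype.val h)), fun x => ?_⟩)).symm
    · show (leftSpace F a b).map (Matrix.toLin' (g * Classical.sympBlock a b p : Matrix.symplecticGroup (Fin (a + b)) F).1) = _
      rw [Submonoid.coe_mul, Matrix.toLin'_mul, Submodule.map_comp]
      rw [show (leftSpace F a b).map (Matrix.toLin' (Classical.sympBlock a b p).1) = leftSpace F a b from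
        Submodule.eq_of_le_of_finrank_eq (by
          rintro _ ⟨w, hw, rfl⟩
          obtain ⟨u, rfl⟩ := mem_left.1 hw
          rw [Matrix.toLin'_apply, mulVec_block, Matrix.mulVec_zero]
          exact mem_left.2 ⟨_, rfl⟩) (Submodule.equivMapOfInjective _ (sp_injective _) _).finrank_eq.symm]
      exact hg
    · obtain ⟨x, hx⟩ := x
      have hx' : (leftSpace F a b).map (Matrix.toLin' (x).1) = W.1 := congrArg Subtype.val hx
      obtain ⟨p, hp⟩ := exists_block (g⁻¹ * x) fun w hw => by
        have h1 : (x).1 *ᵥ w ∈ W.1 := hx' ▸ ⟨w, hw, rfl⟩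
        rw [← hg] at h1
        obtain ⟨z, hz, hz'⟩ := h1
        rw [Submonoid.coe_mul, ← Matrix.mulVec_mulVec, ← hz', Matrix.toLin'_apply, Matrix.mulVec_mulVec,
          ← Submonoid.coe_mul, inv_mul_cancel, OneMemClass.coe_one, Matrix.one_mulVec]
        exact hz
      exact ⟨p, Subtype.ext (show g * Classical.sympBlock a b p = x by rw [hp, mul_inv_cancel_left])⟩
  rw [← Nat.card_congr (Equiv.sigmaFiberEquiv f), Nat.card_sigma, Finset.sum_congr rfl fun W _ => hfib W,
    Finset.sum_const, Finset.card_univ, Nat.card_eq_fintype_card (α := S), smul_eq_mul]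

/-- A prime dividing the number of non-degenerate subspaces. -/
theorem exists_exponent {a b r : ℕ} (hr : r.Prime) (hrq : ¬ r ∣ Fintype.card F)
    (h : r ∣ Nat.card {W : Submodule F (Fin (a + b) ⊕ Fin (a + b) → F) // finrank F W = 2 * a ∧
      Nd (Classical.sympB (a + b) F) W}) :
    ∃ j, b < j ∧ j ≤ a + b ∧ r ∣ Fintype.card F ^ (2 * j) - 1 := by
  have hc := card_mul (F := F) a b
  set N := Nat.card {W : Submodule F (Fin (a + b) ⊕ Fin (a + b) → F) // finrank F W = 2 * a ∧
    Nd (Classical.sympB (a + b) F) W}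
  simp only [Classical.natCard_symplecticGroup, Nat.card_eq_fintype_card (α := F)] at hc
  rw [show ∏ i ∈ Finset.range (a + b), (Fintype.card F ^ (2 * (i + 1)) - 1) =
    (∏ i ∈ Finset.range b, (Fintype.card F ^ (2 * (i + 1)) - 1)) *
      ∏ i ∈ Finset.range a, (Fintype.card F ^ (2 * (b + i + 1)) - 1) by
    rw [← Finset.prod_range_add, add_comm b a]] at hc
  set A := ∏ i ∈ Finset.range b, (Fintype.card F ^ (2 * (i + 1)) - 1)
  set S := ∏ i ∈ Finset.range a, (Fintype.card F ^ (2 * (b + i + 1)) - 1)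
  have hA : 0 < A := Finset.prod_pos fun i _ =>
    Nat.sub_pos_of_lt (Nat.one_lt_pow (by omega) Fintype.one_lt_card)
  have hkey : r ∣ Fintype.card F ^ ((a + b) ^ 2) * S := by
    obtain ⟨k, hk⟩ := h
    refine ⟨k * (Fintype.card F ^ (a ^ 2) * (∏ i ∈ Finset.range a, (Fintype.card F ^ (2 * (i + 1)) - 1)) *
      Fintype.card F ^ (b ^ 2)), Nat.eq_of_mul_eq_mul_left hA ?_⟩
    rw [hk] at hc
    linear_combination hc
  rcases hr.dvd_mul.1 hkey with h' | h'
  · exact absurd (hr.dvd_of_dvd_pow h') hrq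
  · obtain ⟨i, hi, hd⟩ := (Nat.prime_iff.1 hr).exists_mem_finset_dvd h'
    exact ⟨b + i + 1, by omega, by have := Finset.mem_range.1 hi; omega, hd⟩

end Cfsg.Agent.SympNondegCount
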