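import Cfsg.Agent.Lib.Classical.SympNondegCount

/-! Elements of odd prime order (other than the characteristic) of symplectic groups fixing non-degenerate subspaces. -/

set_option autoImplicit false
set_option linter.unusedSectionVars false

namespace Cfsg.Agent.SympNondegDerange

open Polynomial Matrix Module Cfsg.Agent.SelfReciprocalFactors Cfsg.Agent.SelfRecipDivisors
  Cfsg.Agent.UnitaryDetCentralizer Cfsg.Agent.SympNondegCount Cfsg.Agent.SympNondegDecomp

variable {F : Type*} [Field F] [Fintype F]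

theorem rdual_restrict {d a : ℕ} (x : Matrix.symplecticGroup (Fin d) F) {W : Submodule F (Fin d ⊕ Fin d → F)}
    (hWn : Nd (Classical.sympB d F) W) (hW : finrank F W = 2 * a) (hinv : ∀ w ∈ W, x.1 *ᵥ w ∈ W) :
    rdual ((Matrix.toLin' x.1).restrict (p := W) (q := W) hinv).charpoly =
      ((Matrix.toLin' x.1).restrict (p := W) (q := W) hinv).charpoly := by
  classical
  set B := (Classical.sympB d F).restrict W
  have hA : B.IsAlt := fun v => by
    show Classical.sympB d F v.1 v.1 = 0
    rw [Classical.sympB_apply, Classical.sympForm_self]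
  obtain ⟨L, hL⟩ := Classical.exists_symp_coords B hA (fun v hv => by
    by_contra hne
    obtain ⟨u, hu, h⟩ := hWn v.1 v.2 fun e => hne (Subtype.ext e)
    exact h (hv ⟨u, hu⟩)) hW
  set G := (Matrix.toLin' x.1).restrict (p := W) (q := W) hinv
  set T := L.symm.conj G
  have hT : LinearMap.toMatrix' T ∈ Matrix.symplecticGroup (Fin a) F :=
    Classical.mem_symplecticGroup_iff_form.2 fun u v => by
      rw [LinearMap.toMatrix'_mulVec, LinearMap.toMatrix'_mulVec, ← hL, ← hL]
      simp only [T, LinearEquiv.conj_apply_apply, LinearEquiv.symm_symm, LinearEquiv.apply_symm_apply]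
      show Classical.sympB d F (x.1 *ᵥ (L u).1) (x.1 *ᵥ (L v).1) = Classical.sympB d F (L u).1 (L v).1
      rw [Classical.sympB_apply, Classical.sympB_apply, Classical.sympForm_map]
  have h := SympPrimeOrderClasses.rdual_charpoly ⟨_, hT⟩
  have e : (LinearMap.toMatrix' T).charpoly = G.charpoly := by
    rw [show (LinearMap.toMatrix' T).charpoly = T.charpoly from
      (Matrix.charpoly_toLin' _).symm.trans (by rw [Matrix.toLin'_toMatrix'])]
    exact LinearEquiv.charpoly_conj _ _
  rw [show ((⟨_, hT⟩ : Matrix.symplecticGroup (Fin a) F).1) = LinearMap.toMatrix' T from rfl, e] at h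
  exact h

variable {r i t : ℕ}

theorem small (h : Ctx F r i t) {a b : ℕ} (hrq : ¬ r ∣ Fintype.card F)
    (hr : r ∣ Nat.card {W : Submodule F (Fin (a + b) ⊕ Fin (a + b) → F) //
      finrank F W = 2 * a ∧ Nd (Classical.sympB (a + b) F) W}) :
    2 * (a + b) % basicDeg i < 2 * a ∧ basicDeg i ≤ 2 * (a + b) := by
  haveI := Fact.mk h.prime
  obtain ⟨j, hj1, hj2, hd⟩ := exists_exponent h.prime hrq hr
  have h1 : (Fintype.card F : ZMod r) ^ (2 * j) = 1 := by
    rwa [← ZMod.natCast_eq_zero_iff, Nat.cast_sub (Nat.one_le_pow _ _ Fintype.card_pos), Nat.cast_pow, Nat.cast_one,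
      sub_eq_zero] at hd
  have hdvd : i ∣ 2 * j := by
    rw [h.hi]
    exact orderOf_dvd_of_pow_eq_one h1
  obtain ⟨w, hw⟩ : basicDeg i ∣ 2 * j := by
    unfold basicDeg
    split_ifs with he
    · exact hdvd
    · exact Nat.mul_dvd_mul_left 2 ((Nat.Coprime.dvd_of_dvd_mul_left (Nat.coprime_two_right.2 (Nat.not_even_iff_odd.1 he))) hdvd)
  refine ⟨?_, ?_⟩
  · have := Nat.mod_le (2 * (a + b) - basicDeg i * w) (basicDeg i)
    rw [show 2 * (a + b) = (2 * (a + b) - basicDeg i * w) + basicDeg i * w by omega, Nat.add_mul_mod_self_left]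
    omega
  · have : 0 < w := Nat.pos_of_ne_zero fun e => by subst e; omega
    have := Nat.le_mul_of_pos_right (basicDeg i) this
    omega

theorem criterion (h : Ctx F r i t) {p : ℕ} [Fact p.Prime] [CharP F p] (hrp : r ≠ p) {a b : ℕ} (hd : 1 ≤ a + b)
    (hrq : ¬ r ∣ Fintype.card F)
    (hr : r ∣ Nat.card {W : Submodule F (Fin (a + b) ⊕ Fin (a + b) → F) //
      finrank F W = 2 * a ∧ Nd (Classical.sympB (a + b) F) W}) :
    (∀ x : Matrix.symplecticGroup (Fin (a + b)) F,
      (∃ z : F, x.1 ^ r = z • 1) → (∀ z : F, x.1 ≠ z • 1) →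
      ∃ W : Submodule F (Fin (a + b) ⊕ Fin (a + b) → F), finrank F W = 2 * a ∧ Nd (Classical.sympB (a + b) F) W ∧
        ∀ w ∈ W, x.1 *ᵥ w ∈ W) ↔
      2 * a % basicDeg i ≤ 2 * (a + b) % basicDeg i := by
  classical
  obtain ⟨hsm, hcd⟩ := small h hrq hr
  obtain ⟨hh, hhe⟩ := even_basicDeg i
  have hc0 := basicDeg_pos h
  have hcop : ∀ g : Matrix.symplecticGroup (Fin (a + b)) F, g ^ r = 1 → (orderOf g).Coprime p := fun g hg =>
    ((Nat.coprime_primes h.prime Fact.out).2 hrp).coprime_dvd_left (orderOf_dvd_of_pow_eq_one hg)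
  constructor
  · intro H
    obtain ⟨f, hf⟩ : (factorSet F r).Nonempty := by
      rw [← Finset.card_pos, card_factorSet h]
      rcases Nat.eq_zero_or_pos t with rfl | ht
      · have := h.ht; have := h.prime.two_le; have := h.odd; omega
      · exact ht
    set n := 2 * (a + b) / basicDeg i
    set N := Multiset.replicate n (basic i f)
    have hN : ∀ u ∈ N, u ∈ basics F r i := fun u hu => by
      rw [Multiset.eq_of_mem_replicate hu]; exact mem_basics.2 ⟨f, hf, rfl⟩
    have hP := mem_selfRecip h hN (2 * (a + b) % basicDeg i)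
    rw [Multiset.card_replicate, Nat.div_add_mod] at hP
    obtain ⟨e, x, hx, hxd, hxP⟩ := SympPrimeOrderClasses.real_selfRecip h hP
    obtain rfl : e = a + b := by have := hP.2.1; omega
    have hns : ∀ z : F, x.1 ≠ z • 1 := fun z hz => by
      have hm : (z • 1 : Matrix _ _ F) ∈ Matrix.symplecticGroup (Fin (a + b)) F := hz ▸ x.2
      rcases SympIsoDerange.exists_normalise.sq_eq_one_cases (r := 1) hd (x := x) (z := z) (by rw [pow_one, hz]) with
        rfl | rfl
      · rw [hz, one_smul, Matrix.charpoly_one, ← map_one Polynomial.C, Fintype.card_sum, Fintype.card_fin] at hxP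
        have h0 := congrArg (fun Q : F[X] => Q.rootMultiplicity 1) hxP
        simp only [rootMultiplicity_mul_X_sub_C_pow (basic_monic h hN).1.ne_zero,
          rootMultiplicity_eq_zero (fun e => (basic_monic h hN).2.2 e), rootMultiplicity_X_sub_C_pow, zero_add] at h0
        have := Nat.mod_lt (2 * (a + b)) hc0
        omega
      · have h1 : (x.1 : Matrix _ _ F) ^ r = 1 := by rw [← SubmonoidClass.coe_pow, hx]; rfl
        rw [hz, neg_one_smul, Odd.neg_pow (h.prime.odd_of_ne_two h.odd), one_pow] at h1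
        have h2 := congrFun (congrFun h1 (Sum.inl ⟨0, hd⟩)) (Sum.inl ⟨0, hd⟩)
        simp only [Matrix.neg_apply, Matrix.one_apply_eq] at h2
        have hp2 : (2 : F) = 0 := by linear_combination -h2
        -- `-1 = 1` in even characteristic
        have h3 : x.1 = (1 : F) • 1 := by rw [hz, show (-1 : F) = 1 by linear_combination -hp2]
        rw [h3, one_smul, Matrix.charpoly_one, ← map_one Polynomial.C, Fintype.card_sum, Fintype.card_fin] at hxP
        have h0 := congrArg (fun Q : F[X] => Q.rootMultiplicity 1) hxP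
        simp only [rootMultiplicity_mul_X_sub_C_pow (basic_monic h hN).1.ne_zero,
          rootMultiplicity_eq_zero (fun e => (basic_monic h hN).2.2 e), rootMultiplicity_X_sub_C_pow, zero_add] at h0
        have := Nat.mod_lt (2 * (a + b)) hc0
        omega
    obtain ⟨W, hWd, hWn, hW⟩ := H x ⟨1, by rw [← SubmonoidClass.coe_pow, hx, one_smul]; rfl⟩ hns
    have hdvd : ((Matrix.toLin' x.1).restrict (p := W) (q := W) hW).charpoly ∣ N.prod * (X - Polynomial.C 1) ^ (2 * (a + b) % basicDeg i) := by
      rw [← hxP, ← Matrix.charpoly_toLin']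
      exact InvCharpoly.charpoly_restrict_dvd_self (fun w hw => by rw [Submodule.mem_comap, Matrix.toLin'_apply]; exact hW w hw)
    have hR : ((Matrix.toLin' x.1).restrict (p := W) (q := W) hW).charpoly ∈ selfRecip F r (2 * a) :=
      ⟨LinearMap.charpoly_monic _, by rw [LinearMap.charpoly_natDegree, hWd], rdual_restrict x hWn hWd hW,
        fun g hg hirr hgd => hP.2.2.2 g hg hirr (hgd.trans hdvd)⟩
    obtain ⟨N₁, l, hN₁, hRl, hl⟩ := shape h hR
    rw [hRl] at hdvd
    have h3 := (le_rootMultiplicity_iff (mul_ne_zero (basic_monic h hN).1.ne_zero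
      (pow_ne_zero _ (X_sub_C_ne_zero (1 : F))))).2 ((dvd_mul_left _ _).trans hdvd)
    rw [rootMultiplicity_mul_X_sub_C_pow (basic_monic h hN).1.ne_zero,
      rootMultiplicity_eq_zero (fun e => (basic_monic h hN).2.2 e), zero_add] at h3
    have := Nat.mod_lt (2 * (a + b)) hc0
    rw [show 2 * a = 2 * l + basicDeg i * N₁.card by omega, Nat.add_mul_mod_self_left, Nat.mod_eq_of_lt (by omega)]
    exact h3
  · intro hC x ⟨z, hz⟩ _
    obtain ⟨y, hy, hxy⟩ := SympIsoDerange.exists_normalise hd (h.prime.odd_of_ne_two h.odd) x hz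
    have hmem : y.1.charpoly ∈ selfRecip F r (2 * (a + b)) := by
      refine ⟨Matrix.charpoly_monic _, by rw [Matrix.charpoly_natDegree_eq_dim, Fintype.card_sum, Fintype.card_fin,
        two_mul], SympPrimeOrderClasses.rdual_charpoly _, fun f hf hirr hdvd => ?_⟩
      obtain ⟨G, hG⟩ : ∃ G : GL (Fin ((a + b) + (a + b))) F, (G : Matrix (Fin ((a + b) + (a + b))) (Fin ((a + b) + (a + b))) F) =
          Matrix.reindexAlgEquiv F F finSumFinEquiv y.1 :=
        ((Matrix.isUnit_iff_isUnit_det _).2 (SymplecticGroup.symplectic_det y.2)).map _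
      refine GLPrimeOrderClasses.factor_dvd (g := G) (Units.ext ?_) hf hirr ?_
      · rw [Units.val_pow_eq_pow_val, hG, ← map_pow, ← SubmonoidClass.coe_pow, hy, OneMemClass.coe_one, map_one,
          Units.val_one]
      · rw [hG, Matrix.reindexAlgEquiv_apply, Matrix.charpoly_reindex]; exact hdvd
    obtain ⟨N, j, hN, hPN, hA⟩ := shape h hmem
    set e := min N.card (2 * a / basicDeg i)
    have heM : basicDeg i * e ≤ 2 * a := (Nat.mul_le_mul_left _ (min_le_right _ _)).trans (Nat.mul_div_le _ _)
    obtain ⟨l, hl⟩ : ∃ l, 2 * a = basicDeg i * e + 2 * l :=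
      ⟨a - hh * e, by rw [hhe, add_mul] at heM ⊢; omega⟩
    have hlj : l ≤ j := by
      rcases le_total N.card (2 * a / basicDeg i) with hle | hle
      · rw [show e = N.card from min_eq_left hle] at hl
        omega
      · rw [show e = 2 * a / basicDeg i from min_eq_right hle] at hl
        have h5 := Nat.div_add_mod (2 * a) (basicDeg i)
        have h7 : 2 * (a + b) % basicDeg i ≤ 2 * j := by
          rw [show 2 * (a + b) = 2 * j + basicDeg i * N.card by omega, Nat.add_mul_mod_self_left]
          exact Nat.mod_le _ _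
        omega
    set N₁ : Multiset F[X] := ↑(N.toList.take e) with hN₁def
    set N₂ : Multiset F[X] := ↑(N.toList.drop e) with hN₂def
    have hsplit : N = N₁ + N₂ := by
      rw [hN₁def, hN₂def, Multiset.coe_add, List.take_append_drop, Multiset.coe_toList]
    have hm₁ : ∀ u ∈ N₁, u ∈ basics F r i := fun u hu => hN u (hsplit ▸ Multiset.mem_add.2 (Or.inl hu))
    have hm₂ : ∀ u ∈ N₂, u ∈ basics F r i := fun u hu => hN u (hsplit ▸ Multiset.mem_add.2 (Or.inr hu))
    have hc₁ : N₁.card = e := by
      rw [hN₁def, Multiset.coe_card, List.length_take, Multiset.length_toList]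
      exact min_eq_left (min_le_left _ _)
    have hc₂ : N₂.card = N.card - e := by
      rw [hN₂def, Multiset.coe_card, List.length_drop, Multiset.length_toList]
    have eA : basicDeg i * N.card = basicDeg i * e + basicDeg i * (N.card - e) := by
      rw [← Nat.mul_add, Nat.add_sub_cancel' (min_le_left _ _)]
    have h₁ := mem_selfRecip h hm₁ (2 * l)
    have h₂ := mem_selfRecip h hm₂ (2 * (j - l))
    rw [hc₁, show basicDeg i * e + 2 * l = 2 * a by omega] at h₁
    rw [hc₂, show basicDeg i * (N.card - e) + 2 * (j - l) = 2 * b by omega] at h₂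
    obtain ⟨a', x₁, hx₁, had₁, hP₁⟩ := SympPrimeOrderClasses.real_selfRecip h h₁
    obtain ⟨b', x₂, hx₂, had₂, hP₂⟩ := SympPrimeOrderClasses.real_selfRecip h h₂
    obtain rfl : a = a' := by have := h₁.2.1; omega
    obtain rfl : b = b' := by have := h₂.2.1; omega
    set x₀ := Classical.sympBlock a b (x₁, x₂)
    have hx₀ : x₀ ^ r = 1 := by rw [← map_pow, Prod.pow_mk, hx₁, hx₂, ← Prod.one_eq_mk, map_one]
    have hch : x₀.1.charpoly = y.1.charpoly := by
      show (Classical.blockMat _ _).charpoly = _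
      rw [Classical.blockMat, ← Matrix.reindex_apply, Matrix.charpoly_reindex, Matrix.charpoly_fromBlocks_zero₁₂,
        hP₁, hP₂, hPN, hsplit, Multiset.prod_add, show 2 * j = 2 * l + 2 * (j - l) by omega, pow_add]
      ring
    obtain ⟨g, hg⟩ := isConj_iff.1
      (SympSemisimpleClasses.symp_isConj_of_charpoly x₀ y (hcop _ hx₀) (hcop _ hy) hch)
    obtain ⟨hLd, hLn⟩ := left_props (F := F) a b
    refine ⟨(leftSpace F a b).map (Matrix.toLin' g.1),
      (Submodule.equivMapOfInjective _ (sp_injective g) _).finrank_eq.symm.trans hLd, ?_, hxy _ ?_⟩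
    · rintro _ ⟨w, hw, rfl⟩ hw0
      obtain ⟨v, hv, h'⟩ := hLn w hw fun e => hw0 (by rw [e, map_zero])
      refine ⟨_, ⟨v, hv, rfl⟩, ?_⟩
      rw [Classical.sympB_apply, Matrix.toLin'_apply, Matrix.toLin'_apply, Classical.sympForm_map]
      rwa [Classical.sympB_apply] at h'
    · rintro _ ⟨w, hw, rfl⟩
      obtain ⟨u, rfl⟩ := mem_left.1 hw
      refine ⟨x₀.1 *ᵥ SympIsoDerange.pairEquiv a b (u, 0), ?_, ?_⟩
      · rw [mulVec_block, Matrix.mulVec_zero]
        exact mem_left.2 ⟨_, rfl⟩
      · have e' : g * x₀ = y * g := by rw [← hg, inv_mul_cancel_right]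
        rw [Matrix.toLin'_apply, Matrix.toLin'_apply, Matrix.mulVec_mulVec, Matrix.mulVec_mulVec, ← Submonoid.coe_mul,
          ← Submonoid.coe_mul, e']

end Cfsg.Agent.SympNondegDerange
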