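import Cfsg.Agent.Lib.Classical.SympNondegDerange
import Cfsg.Agent.Lib.Classical.UnipotentRealisation
import Cfsg.Agent.Lib.Classical.GLUnipotentTypes

/-! Elements of order `p` of symplectic groups fixing non-degenerate subspaces. -/

set_option autoImplicit false
set_option linter.unusedSectionVars false

namespace Cfsg.Agent.SympNondegUnipotent

open Matrix Module Cfsg.Agent.SympNondegDecomp

variable {F : Type*} [Field F] [Fintype F] {d : ℕ}

/-- The property in the statements. -/
def FixesNd (r d m : ℕ) (F : Type*) [Field F] : Prop :=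
  ∀ x : Matrix.symplecticGroup (Fin d) F, (∃ z : F, x.1 ^ r = z • 1) → (∀ z : F, x.1 ≠ z • 1) →
    ∃ W : Submodule F (Fin d ⊕ Fin d → F), finrank F W = m ∧ Nd (Classical.sympB d F) W ∧ ∀ w ∈ W, x.1 *ᵥ w ∈ W

theorem exists_half (M : Multiset ℕ) (h : ∀ a, Even (M.count a)) : ∃ H : Multiset ℕ, H + H = M := by
  classical
  induction M using Multiset.strongInductionOn with
  | _ M ih =>
    rcases eq_or_ne M 0 with rfl | hne
    · exact ⟨0, rfl⟩
    obtain ⟨a, ha⟩ := Multiset.exists_mem_of_ne_zero hne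
    obtain ⟨M₁, rfl⟩ := Multiset.exists_cons_of_mem ha
    have hc := h a
    rw [Multiset.count_cons_self] at hc
    have ha2 : a ∈ M₁ := Multiset.count_pos.1 (by rcases hc with ⟨r, hr⟩; omega)
    obtain ⟨M₂, rfl⟩ := Multiset.exists_cons_of_mem ha2
    obtain ⟨H, hH⟩ := ih M₂ ((Multiset.lt_cons_self M₂ a).trans (Multiset.lt_cons_self _ a)) fun b => by
      have := h b
      rw [Multiset.count_cons, Multiset.count_cons] at this
      split_ifs at this with e
      · obtain ⟨r, hr⟩ := this; exact ⟨r - 1, by omega⟩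
      · simpa using this
    exact ⟨a ::ₘ H, by rw [Multiset.cons_add, Multiset.add_cons, hH]⟩

/-- The chain decomposition of a unipotent symplectic matrix. -/
theorem decomp_of (x : Matrix.symplecticGroup (Fin d) F) {K : ℕ} (hK : (x.1 - 1) ^ K = 0) :
    ∃ S D : Multiset ℕ, (∀ a ∈ S, Even a ∧ 0 < a ∧ a ≤ K) ∧ (∀ a ∈ D, 0 < a ∧ a ≤ K ∧ (Odd a ∨ (2 : F) = 0)) ∧
      S.sum + 2 * D.sum = 2 * d ∧ ∀ S' ≤ S, ∀ D' ≤ D,
        ∃ W : Submodule F (Fin d ⊕ Fin d → F), Nd (Classical.sympB d F) W ∧ (∀ w ∈ W, x.1 *ᵥ w ∈ W) ∧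
          finrank F W = S'.sum + 2 * D'.sum := by
  set B := Classical.sympB d F
  set N : Module.End F (Fin d ⊕ Fin d → F) := Matrix.toLinAlgEquiv' (x.1 - 1)
  set g : Module.End F (Fin d ⊕ Fin d → F) := Matrix.toLinAlgEquiv' x.1
  have hgN : ∀ v, g v = v + N v := fun v => by
    simp only [g, N, Matrix.toLinAlgEquiv'_apply, Matrix.sub_mulVec, Matrix.one_mulVec, add_sub_cancel]
  have hg : ∀ u v, B (g u) (g v) = B u v := fun u v => by
    simp only [B, g, Matrix.toLinAlgEquiv'_apply, Classical.sympB_apply, Classical.sympForm_map]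
  have hN : ∀ u v, B (N u) v + B u (N v) + B (N u) (N v) = 0 := fun u v => by
    have h := hg u v
    rw [hgN, hgN] at h
    simp only [map_add, LinearMap.add_apply] at h
    linear_combination h
  have hA : B.IsAlt := fun v => by rw [Classical.sympB_apply, Classical.sympForm_self]
  obtain ⟨S, D, hS, hD, hsum, hU⟩ := decomp hA N hN g hgN hg (K := K) (2 * d) ⊤
    (by rw [finrank_top, Module.finrank_pi, Fintype.card_sum, Fintype.card_fin, two_mul])
    (fun u _ hu => by
      obtain ⟨v, hv⟩ := Classical.exists_sympForm_eq_one hu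
      exact ⟨v, Submodule.mem_top, by rw [Classical.sympB_apply, hv]; exact one_ne_zero⟩)
    (fun _ _ => Submodule.mem_top) (fun v _ => by rw [← map_pow, hK, map_zero]; rfl)
  refine ⟨S, D, hS, hD, hsum, fun S' hS' D' hD' => ?_⟩
  obtain ⟨U, -, hUn, hUi, hUd⟩ := hU S' hS' D' hD'
  exact ⟨U, hUn, fun w hw => by
    have := U.add_mem hw (hUi w hw)
    rwa [← hgN] at this, hUd⟩

/-- An invariant non-degenerate subspace gives a sub-partition. -/
theorem subpartition (x : Matrix.symplecticGroup (Fin d) F) (hn : IsNilpotent (x.1 - 1))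
    {W : Submodule F (Fin d ⊕ Fin d → F)} (hWn : Nd (Classical.sympB d F) W) (hW : ∀ w ∈ W, x.1 *ᵥ w ∈ W) :
    ∃ ν : Multiset ℕ, ν ≤ GLUnipotentTypes.mparts (x.1 - 1) ∧ ν.sum = finrank F W ∧
      ∀ a : ℕ, Odd a → Even (ν.count a) := by
  classical
  set B := Classical.sympB d F
  have hA : B.IsAlt := fun v => by rw [Classical.sympB_apply, Classical.sympForm_self]
  set g : Module.End F (Fin d ⊕ Fin d → F) := Matrix.toLinAlgEquiv' x.1
  set g' : Module.End F (Fin d ⊕ Fin d → F) := Matrix.toLinAlgEquiv' (x⁻¹).1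
  have hg'g : g' * g = 1 := by rw [← map_mul, ← Submonoid.coe_mul, inv_mul_cancel, OneMemClass.coe_one, map_one]
  have hgg' : g * g' = 1 := by rw [← map_mul, ← Submonoid.coe_mul, mul_inv_cancel, OneMemClass.coe_one, map_one]
  have hg : ∀ u v, B (g u) (g v) = B u v := fun u v => by
    simp only [B, g, Matrix.toLinAlgEquiv'_apply, Classical.sympB_apply, Classical.sympForm_map]
  have hgW : ∀ w ∈ W, g w ∈ W := fun w hw => by simpa [g] using hW w hw
  have hmapW : W.map g = W := Submodule.eq_of_le_of_finrank_eq (by rintro _ ⟨w, hw, rfl⟩; exact hgW w hw)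
    (Submodule.equivMapOfInjective g (fun u v e => by
      rw [show u = (g' * g) u by rw [hg'g]; rfl, show v = (g' * g) v by rw [hg'g]; rfl]
      exact congrArg g' e) W).finrank_eq.symm
  have hg'W : ∀ w ∈ W, g' w ∈ W := fun w hw => by
    obtain ⟨y, hy, rfl⟩ : w ∈ W.map g := by rwa [hmapW]
    rwa [show g' (g y) = (g' * g) y from rfl, hg'g]
  obtain ⟨R, -, -, hgR, horth, hdim⟩ := exists_rest hA (W := (⊤ : Submodule F (Fin d ⊕ Fin d → F))) le_top
    (fun u _ hu => by
      obtain ⟨v, hv⟩ := Classical.exists_sympForm_eq_one hu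
      exact ⟨v, Submodule.mem_top, by rw [Classical.sympB_apply, hv]; exact one_ne_zero⟩)
    hWn g hg (fun _ _ => Submodule.mem_top) hgW
  have hinf : W ⊓ R = ⊥ := by
    rw [Submodule.eq_bot_iff]
    rintro v ⟨hvW, hvR⟩
    by_contra hne
    obtain ⟨u, hu, huv⟩ := hWn v hvW hne
    exact huv (by rw [swap hA, horth u hu v hvR, neg_zero])
  have hc : IsCompl W R := ⟨disjoint_iff.2 hinf, codisjoint_iff.2 (Submodule.eq_top_of_finrank_eq (by
    have h := Submodule.finrank_sup_add_finrank_inf_eq W R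
    rw [hinf, finrank_bot, add_zero, hdim, finrank_top] at h
    exact h))⟩
  set N := g - 1
  have hNA : N = Matrix.toLinAlgEquiv' (x.1 - 1) := by rw [map_sub, map_one]
  have hNn : IsNilpotent N := hNA ▸ GLUnipotentTypes.nil_end hn
  have hN1 : ∀ v ∈ W, N v ∈ W := fun v hv => W.sub_mem (hgW v hv) hv
  have hN2 : ∀ v ∈ R, N v ∈ R := fun v hv => R.sub_mem (hgR v hv) hv
  have hres : ∀ (S : Submodule F (Fin d ⊕ Fin d → F)) (hS : ∀ v ∈ S, N v ∈ S), IsNilpotent (N.restrict hS) := by
    intro S hS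
    obtain ⟨l, hl⟩ := hNn
    refine ⟨l, LinearMap.ext fun v => Subtype.ext ?_⟩
    have : ∀ (j : ℕ) (v : S), ((N.restrict hS ^ j) v : Fin d ⊕ Fin d → F) = (N ^ j) v.1 := fun j => by
      induction j with
      | zero => intro v; rfl
      | succ j ihj => intro v; rw [JordanChains.pow_succ_apply, JordanChains.pow_succ_apply, ← ihj]; rfl
    rw [this, hl]; rfl
  have hsum : JordanChains.parts N = JordanChains.parts (N.restrict hN1) + JordanChains.parts (N.restrict hN2) := by
    rw [← UnipotentRealisation.parts_prod (hres W hN1) (hres R hN2)]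
    refine JordanChains.parts_congr ?_ (Submodule.prodEquivOfIsCompl W R hc) fun v => ?_
    · obtain ⟨a, ha⟩ := hres W hN1
      obtain ⟨b, hb⟩ := hres R hN2
      refine ⟨a + b, ?_⟩
      have hp : ∀ j : ℕ, ((N.restrict hN1).prodMap (N.restrict hN2) : Module.End F (W × R)) ^ j =
          (N.restrict hN1 ^ j).prodMap (N.restrict hN2 ^ j) := fun j => by
        induction j with
        | zero => rfl
        | succ j ih => rw [pow_succ, ih]; rfl
      rw [hp, pow_eq_zero_of_le (Nat.le_add_right a b) ha, pow_eq_zero_of_le (Nat.le_add_left b a) hb,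
        LinearMap.prodMap_zero]
    · rw [Submodule.coe_prodEquivOfIsCompl', Submodule.coe_prodEquivOfIsCompl']
      simp [map_add]
  let gr : Module.End F W := g.restrict hgW
  let gr' : Module.End F W := g'.restrict hg'W
  have hgr : gr - 1 = N.restrict hN1 := LinearMap.ext fun v => Subtype.ext rfl
  have hnd : (B.restrict W).Nondegenerate := by
    constructor
    · intro v hv
      by_contra hne
      obtain ⟨u, hu, h⟩ := hWn v v.2 fun e => hne (Subtype.ext e)
      exact h (hv ⟨u, hu⟩)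
    · intro v hv
      by_contra hne
      obtain ⟨u, hu, h⟩ := hWn v v.2 fun e => hne (Subtype.ext e)
      exact h (hA.isRefl _ _ (hv ⟨u, hu⟩))
  refine ⟨JordanChains.parts (N.restrict hN1), ?_, JordanChains.sum_parts (hres W hN1), fun a ha => ?_⟩
  · rw [GLUnipotentTypes.mparts, ← hNA, hsum]; exact Multiset.le_add_right _ _
  · rw [← hgr]
    exact UnipotentParity.even_count (B.restrict W) hnd gr gr'
      (LinearMap.ext fun v => Subtype.ext (LinearMap.congr_fun hg'g v.1))
      (LinearMap.ext fun v => Subtype.ext (LinearMap.congr_fun hgg' v.1))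
      (fun u v => hg u.1 v.1) (hgr ▸ hres W hN1) ha.pos (Or.inl ⟨fun v => hA v.1, ha⟩)

/-- The criterion for `r = p > 2`. -/
theorem odd_iff (p : ℕ) [Fact p.Prime] [CharP F p] (hp : 2 < p) (hd : 1 ≤ d) {m : ℕ} (hm : Even m) (hmd : m ≤ 2 * d) :
    FixesNd p d m F ↔ ∀ μ : Multiset ℕ, (∀ a ∈ μ, 0 < a ∧ a ≤ p) → (∀ a : ℕ, Odd a → Even (μ.count a)) → μ.sum = 2 * d →
      ∃ ν : Multiset ℕ, ν ≤ μ ∧ ν.sum = m ∧ ∀ a : ℕ, Odd a → Even (ν.count a) := by
  classical
  haveI : Nonempty (Fin d ⊕ Fin d) := ⟨Sum.inl ⟨0, hd⟩⟩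
  have hodd : Odd p := (Fact.out : p.Prime).odd_of_ne_two (by omega)
  have h2 : (2 : F) ≠ 0 := fun h => by
    have h' : ((2 : ℕ) : F) = 0 := by exact_mod_cast h
    rw [CharP.cast_eq_zero_iff F p] at h'
    have := Nat.le_of_dvd two_pos h'
    omega
  constructor
  · intro H μ h1 h3 hs
    by_cases hone : ∀ a ∈ μ, a = 1
    · have hμ := Multiset.eq_replicate_card.2 hone
      rw [hμ, Multiset.sum_replicate, smul_eq_mul, mul_one] at hs
      refine ⟨Multiset.replicate m 1, ?_, by simp, fun a _ => ?_⟩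
      · rw [hμ, hs, Multiset.replicate_le_replicate]; exact hmd
      · rw [Multiset.count_replicate]
        split_ifs
        exacts [hm, Even.zero]
    obtain ⟨A, hA, hAn, hAp⟩ := UnipotentRealisation.exists_sform (F := F) p μ (fun a ha => (h1 a ha).1)
      (fun a _ ha => h3 a (Nat.not_even_iff_odd.1 ha)) d hs
    have hA0 : (A - 1) ^ p = 0 := (GLUnipotentTypes.pow_eq_zero_iff hAn p).2 (hAp ▸ fun a ha => (h1 a ha).2)
    have hAp1 : A ^ p = 1 := by
      rw [← add_sub_cancel 1 A, add_pow_char_of_commute p (Commute.one_left _), one_pow, hA0, add_zero]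
    obtain ⟨W, hWd, hWn, hW⟩ := H ⟨A, hA⟩ ⟨1, by rw [hAp1, one_smul]⟩ fun z hz => hone (by
      have hz' : A = z • 1 := hz
      have hz1 : A - 1 = (z - 1) • (1 : Matrix (Fin d ⊕ Fin d) (Fin d ⊕ Fin d) F) := by rw [hz', sub_smul, one_smul]
      have hz0 : z - 1 = 0 := by
        by_contra hne
        rw [hz1, _root_.smul_pow, one_pow] at hA0
        exact pow_ne_zero p hne ((smul_eq_zero.1 hA0).resolve_right one_ne_zero)
      exact fun a ha => (GLUnipotentTypes.eq_zero_iff hAn).1 (by rw [hz1, hz0, zero_smul]) a (hAp.symm ▸ ha))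
    obtain ⟨ν, hν, hνs, hνe⟩ := subpartition ⟨A, hA⟩ hAn hWn hW
    exact ⟨ν, hAp ▸ hν, hνs.trans hWd, hνe⟩
  · rintro H x ⟨z, hz⟩ -
    obtain ⟨y, hy, hxy⟩ := SympIsoDerange.exists_normalise hd hodd x hz
    have hy0 : (y.1 - 1) ^ p = 0 := by
      rw [sub_pow_char_of_commute p (Commute.one_right _), one_pow, ← SubmonoidClass.coe_pow, hy, OneMemClass.coe_one,
        sub_self]
    obtain ⟨S, D, hS, hD, hsum, hU⟩ := decomp_of y hy0
    have hSc : ∀ a, Odd a → S.count a = 0 := fun a ha =>
      Multiset.count_eq_zero.2 fun h => Nat.not_even_iff_odd.2 ha (hS a h).1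
    have hDc : ∀ a, Even a → D.count a = 0 := fun a ha =>
      Multiset.count_eq_zero.2 fun h => ((hD a h).2.2.resolve_right h2).not_two_dvd_nat (even_iff_two_dvd.1 ha)
    obtain ⟨ν, hν, hνs, hνe⟩ := H (S + (D + D)) (fun a ha => by
      rcases Multiset.mem_add.1 ha with h | h
      · exact ⟨(hS a h).2.1, (hS a h).2.2⟩
      · have h' : a ∈ D := (Multiset.mem_add.1 h).elim id id
        exact ⟨(hD a h').1, (hD a h').2.1⟩)
      (fun a ha => ⟨D.count a, by rw [Multiset.count_add, Multiset.count_add, hSc a ha, zero_add]⟩)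
      (by rw [Multiset.sum_add, Multiset.sum_add]; omega)
    obtain ⟨H', hH'⟩ := exists_half (ν.filter fun a => ¬ Even a) fun a => by
      rw [Multiset.count_filter]
      by_cases h : Even a
      · rw [if_neg (not_not.2 h)]; exact Even.zero
      · rw [if_pos h]; exact hνe a (Nat.not_even_iff_odd.1 h)
    obtain ⟨W, hWn, hW, hWd⟩ := hU (ν.filter fun a => Even a) (Multiset.le_iff_count.2 fun a => by
      rw [Multiset.count_filter]
      split_ifs with h
      · have := Multiset.le_iff_count.1 hν a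
        rw [Multiset.count_add, Multiset.count_add, hDc a h] at this
        omega
      · exact Nat.zero_le _) H' (Multiset.le_iff_count.2 fun a => by
      have h1 := congrArg (Multiset.count a) hH'
      rw [Multiset.count_add, Multiset.count_filter] at h1
      by_cases h : Even a
      · rw [if_neg (not_not.2 h)] at h1; omega
      · rw [if_pos h] at h1
        have := Multiset.le_iff_count.1 hν a
        rw [Multiset.count_add, Multiset.count_add, hSc a (Nat.not_even_iff_odd.1 h)] at this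
        omega)
    refine ⟨W, ?_, hWn, hxy W hW⟩
    rw [hWd, two_mul, ← Multiset.sum_add, hH', ← Multiset.sum_add, Multiset.filter_add_not, hνs]

/-- The criterion for `r = p = 2`. -/
theorem two_iff [CharP F 2] (hd : 1 ≤ d) {m : ℕ} (hm : Even m) (hmd : m < 2 * d) :
    FixesNd 2 d m F ↔ ((2 * d) % 4 = 2 ∨ m % 4 = 0) := by
  classical
  constructor
  · intro H
    by_contra hC
    obtain ⟨hd4, hm4⟩ := not_or.1 hC
    obtain ⟨e, rfl⟩ : ∃ e, d = e + e := ⟨d / 2, by omega⟩
    let E : Matrix (Fin (e + e)) (Fin (e + e)) F :=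
      Matrix.reindex finSumFinEquiv finSumFinEquiv (Matrix.fromBlocks (0 : Matrix (Fin e) (Fin e) F) 1 0 0)
    have hEE : E * E = 0 := by
      simp only [E, Matrix.reindex_apply, Matrix.submatrix_mul_equiv, Matrix.fromBlocks_multiply]
      simp
    have hgg : (1 + E) * (1 + E) = 1 := by
      rw [add_mul, mul_add, mul_add, hEE, one_mul, one_mul, mul_one, add_zero, add_assoc]
      ext i j
      simp [CharTwo.add_self_eq_zero]
    let G : GL (Fin (e + e)) F := ⟨1 + E, 1 + E, hgg, hgg⟩
    set x := Classical.sympLevi (e + e) G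
    have hx : x.1 = Matrix.fromBlocks (1 + E) 0 0 (1 + E)ᵀ := rfl
    have happ : ∀ u : Fin (e + e) ⊕ Fin (e + e) → F,
        x.1 *ᵥ u - u = Sum.elim (E *ᵥ (u ∘ Sum.inl)) (Eᵀ *ᵥ (u ∘ Sum.inr)) := fun u => by
      funext k
      rw [hx, Matrix.fromBlocks_mulVec]
      rcases k with k | k <;>
        simp [Matrix.add_mulVec, Matrix.transpose_add, Matrix.one_mulVec]
    have hsq : x.1 * x.1 = 1 := by
      rw [hx, Matrix.fromBlocks_multiply, hgg, ← Matrix.transpose_mul, hgg, Matrix.transpose_one]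
      simp
    let φ : Fin e ⊕ Fin e ≃ Fin (e + e) := finSumFinEquiv
    have hEv : ∀ (v : Fin (e + e) → F) (i : Fin e),
        (E *ᵥ v) (φ (Sum.inl i)) = v (φ (Sum.inr i)) ∧ (E *ᵥ v) (φ (Sum.inr i)) = 0 ∧
          (Eᵀ *ᵥ v) (φ (Sum.inl i)) = 0 ∧ (Eᵀ *ᵥ v) (φ (Sum.inr i)) = v (φ (Sum.inl i)) := fun v i => by
      simp only [E, Matrix.reindex_apply, Matrix.transpose_submatrix, Matrix.fromBlocks_transpose,
        Matrix.submatrix_mulVec_equiv, Matrix.fromBlocks_mulVec, Function.comp_apply, φ, Equiv.symm_symm,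
        Equiv.symm_apply_apply, Sum.elim_inl, Sum.elim_inr, Matrix.transpose_zero, Matrix.transpose_one,
        Matrix.zero_mulVec, Matrix.one_mulVec, zero_add, add_zero, Pi.zero_apply, and_self]
    have hs : ∀ z : F, x.1 ≠ z • 1 := fun z hz => by
      have h := congrFun (happ (Pi.single (Sum.inl (φ (Sum.inr ⟨0, by omega⟩))) 1)) (Sum.inl (φ (Sum.inl ⟨0, by omega⟩)))
      rw [hz, Matrix.smul_mulVec, Matrix.one_mulVec, Sum.elim_inl, (hEv _ _).1, Pi.sub_apply, Pi.smul_apply,
        Function.comp_apply, Pi.single_eq_same, Pi.single_eq_of_ne (fun h' => by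
          have := φ.injective (Sum.inl.inj h'); simp at this)] at h
      simp at h
    obtain ⟨W, hWd, hWn, hW⟩ := H x ⟨1, by rw [pow_two, hsq, one_smul]⟩ hs
    set B := Classical.sympB (e + e) F
    have hA : B.IsAlt := fun v => by rw [Classical.sympB_apply, Classical.sympForm_self]
    set N : Module.End F (Fin (e + e) ⊕ Fin (e + e) → F) := Matrix.toLin' x.1 - 1
    have hNv : ∀ u, N u = x.1 *ᵥ u - u := fun u => by simp [N]
    have hNi : ∀ w ∈ W, N w ∈ W := fun w hw => by rw [hNv]; exact W.sub_mem (hW w hw) hw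
    have halt : ∀ u, B u (N u) = 0 := fun u => by
      rw [hNv, happ, Classical.sympB_apply, Classical.sympForm_eq_sum]
      simp only [Sum.elim_inl, Sum.elim_inr, Finset.sum_sub_distrib]
      rw [show ∑ i, u (Sum.inr i) * (E *ᵥ (u ∘ Sum.inl)) i = (u ∘ Sum.inr) ⬝ᵥ (E *ᵥ (u ∘ Sum.inl)) from rfl,
        show ∑ i, u (Sum.inl i) * (Eᵀ *ᵥ (u ∘ Sum.inr)) i = (u ∘ Sum.inl) ⬝ᵥ (Eᵀ *ᵥ (u ∘ Sum.inr)) from rfl,
        Matrix.dotProduct_mulVec (u ∘ Sum.inl), Matrix.vecMul_transpose, dotProduct_comm (E *ᵥ _), sub_self]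
    have hker : ∀ u, N u = 0 → ∃ y, N y = u := by
      intro u hu
      rw [hNv, happ] at hu
      have hl : E *ᵥ (u ∘ Sum.inl) = 0 := funext fun i => congrFun hu (Sum.inl i)
      have hr : Eᵀ *ᵥ (u ∘ Sum.inr) = 0 := funext fun i => congrFun hu (Sum.inr i)
      have hl0 : ∀ i : Fin e, u (Sum.inl (φ (Sum.inr i))) = 0 := fun i =>
        (hEv (u ∘ Sum.inl) i).1.symm.trans (congrFun hl _)
      have hr0 : ∀ i : Fin e, u (Sum.inr (φ (Sum.inl i))) = 0 := fun i =>
        (hEv (u ∘ Sum.inr) i).2.2.2.symm.trans (congrFun hr _)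
      refine ⟨Sum.elim (fun k => Sum.elim 0 (fun i => u (Sum.inl (φ (Sum.inl i)))) (φ.symm k))
        (fun k => Sum.elim (fun i => u (Sum.inr (φ (Sum.inr i)))) 0 (φ.symm k)), ?_⟩
      rw [hNv, happ]
      funext k
      rcases k with k | k <;> obtain ⟨(i | i), rfl⟩ := φ.surjective k <;> simp only [Sum.elim_inl, Sum.elim_inr]
      · rw [(hEv _ i).1]; simp
      · rw [(hEv _ i).2.1, hl0 i]
      · rw [(hEv _ i).2.2.1, hr0 i]
      · rw [(hEv _ i).2.2.2]; simp
    have hN : ∀ u v, B (N u) v + B u (N v) + B (N u) (N v) = 0 := fun u v => by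
      have h := Classical.sympForm_map x u v
      have hu : x.1 *ᵥ u = u + N u := by rw [hNv, add_sub_cancel]
      have hv : x.1 *ᵥ v = v + N v := by rw [hNv, add_sub_cancel]
      rw [hu, hv, ← Classical.sympB_apply, ← Classical.sympB_apply] at h
      simp only [map_add, LinearMap.add_apply] at h
      linear_combination h
    have hNN : ∀ u, N (N u) = 0 := fun u => by
      rw [hNv, hNv, Matrix.mulVec_sub, Matrix.mulVec_mulVec, hsq, Matrix.one_mulVec]
      funext k
      simp [CharTwo.sub_eq_add, add_comm (u k), CharTwo.add_self_eq_zero]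
    have hperp : ∀ z, N z = 0 → ∀ v, B z (N v) = 0 := fun z hz v => by
      have h := hN z v
      rwa [hz, map_zero, LinearMap.zero_apply, LinearMap.zero_apply, zero_add, add_zero] at h
    let M : Module.End F W := N.restrict hNi
    have hkr : LinearMap.ker M = LinearMap.range M := by
      refine le_antisymm (fun w hw => ?_) (fun w hw => ?_)
      · obtain ⟨y, hy⟩ := hker w.1 (congrArg Subtype.val (LinearMap.mem_ker.1 hw))
        obtain ⟨R, -, -, hgR, horth, hdim⟩ := exists_rest hA (W := (⊤ : Submodule F (Fin (e + e) ⊕ Fin (e + e) → F)))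
          le_top (fun u _ hu => by
            obtain ⟨v, hv⟩ := Classical.exists_sympForm_eq_one hu
            exact ⟨v, Submodule.mem_top, by rw [Classical.sympB_apply, hv]; exact one_ne_zero⟩)
          hWn (Matrix.toLin' x.1) (fun u v => by
            simp only [B, Matrix.toLin'_apply, Classical.sympB_apply, Classical.sympForm_map])
          (fun _ _ => Submodule.mem_top) (fun u hu => by rw [Matrix.toLin'_apply]; exact hW u hu)
        have hinf : W ⊓ R = ⊥ := by
          rw [Submodule.eq_bot_iff]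
          rintro v ⟨hvW, hvR⟩
          by_contra hne
          obtain ⟨u, hu, huv⟩ := hWn v hvW hne
          exact huv (by rw [swap hA, horth u hu v hvR, neg_zero])
        have hsup : W ⊔ R = ⊤ := Submodule.eq_top_of_finrank_eq (by
          have h := Submodule.finrank_sup_add_finrank_inf_eq W R
          rw [hinf, finrank_bot, add_zero, hdim, finrank_top] at h
          exact h)
        obtain ⟨a, ha, b, hb, rfl⟩ := Submodule.mem_sup.1 (hsup.symm ▸ Submodule.mem_top : y ∈ W ⊔ R)
        refine ⟨⟨a, ha⟩, Subtype.ext ?_⟩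
        have hbR : N b ∈ R := by rw [hNv]; exact R.sub_mem (by simpa using hgR b hb) hb
        have hb0 : N b = 0 := by
          rw [← Submodule.mem_bot F, ← hinf]
          refine ⟨?_, hbR⟩
          rw [show N b = w.1 - N a by rw [← hy, map_add]; abel]
          exact W.sub_mem w.2 (hNi a ha)
        show N a = w.1
        rw [← hy, map_add, hb0, add_zero]
      · obtain ⟨v, rfl⟩ := hw
        exact LinearMap.mem_ker.2 (Subtype.ext (hNN v.1))
    have hrk := LinearMap.finrank_range_add_finrank_ker M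
    rw [hkr, hWd] at hrk
    let Dform : LinearMap.BilinForm F W := (B.restrict W).compl₁₂ LinearMap.id M
    have hDA : Dform.IsAlt := fun w => halt w.1
    obtain ⟨l, hl⟩ := Cfsg.Agent.Lie.alt_rank_even Dform hDA _ ⊤ rfl
    have hrad : (⊤ : Submodule F W) ⊓ Dform.orthogonal ⊤ = LinearMap.ker M := by
      ext v
      rw [Submodule.mem_inf, LinearMap.BilinForm.mem_orthogonal_iff, LinearMap.mem_ker]
      refine ⟨fun h => ?_, fun h => ⟨Submodule.mem_top, fun u _ => ?_⟩⟩
      · by_contra hne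
        obtain ⟨u, hu, h'⟩ := hWn (N v.1) (hNi v.1 v.2) fun e => hne (Subtype.ext e)
        exact h' (by rw [swap hA]; exact neg_eq_zero.2 (h.2 ⟨u, hu⟩ Submodule.mem_top))
      · show B u.1 (M v).1 = 0
        rw [h]; simp
    rw [hrad, finrank_top, hWd, hkr] at hl
    omega
  · rintro hC x ⟨z, hz⟩ -
    haveI : Nonempty (Fin d ⊕ Fin d) := ⟨Sum.inl ⟨0, hd⟩⟩
    have hz1 : z = 1 := by
      rcases SympIsoDerange.exists_normalise.sq_eq_one_cases hd hz with h | h
      · exact h
      · rw [h]; exact CharTwo.neg_eq 1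
    have hx0 : (x.1 - 1) ^ 2 = 0 := by
      rw [sub_pow_char_of_commute 2 (Commute.one_right _), one_pow, hz, hz1, one_smul, sub_self]
    obtain ⟨S, D, hS, hD, hsum, hU⟩ := decomp_of x hx0
    obtain ⟨k, rfl⟩ := hm
    have hS2 : S = Multiset.replicate S.card 2 := Multiset.eq_replicate_card.2 fun a ha => by
      obtain ⟨⟨l, hl⟩, h1, h3⟩ := hS a ha
      omega
    set o := D.count 1
    set t := D.count 2
    have hD2 : D = Multiset.replicate o 1 + Multiset.replicate t 2 := by
      refine Multiset.ext.2 fun a => ?_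
      rw [Multiset.count_add, Multiset.count_replicate, Multiset.count_replicate]
      by_cases ha : a ∈ D
      · obtain ⟨h1, h3, -⟩ := hD a ha
        rcases (show a = 1 ∨ a = 2 by omega) with rfl | rfl <;> simp [o, t]
      · rw [Multiset.count_eq_zero.2 ha]
        split_ifs with h1 h3 h3
        · omega
        · subst h1; simp [o, Multiset.count_eq_zero.2 ha]
        · subst h3; simp [t, Multiset.count_eq_zero.2 ha]
        · rfl
    have hsum' : 2 * S.card + 2 * (o + 2 * t) = 2 * d := by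
      rw [hS2, hD2] at hsum
      simp only [Multiset.sum_add, Multiset.sum_replicate, smul_eq_mul, Multiset.card_replicate] at hsum ⊢
      omega
    obtain ⟨t', s', o', ht', hs', ho', heq⟩ : ∃ t' s' o', t' ≤ t ∧ s' ≤ S.card ∧ o' ≤ o ∧ 2 * t' + s' + o' = k := by
      by_cases h : 2 * t ≤ k
      · exact ⟨t, min (k - 2 * t) S.card, k - 2 * t - min (k - 2 * t) S.card, le_rfl, min_le_right _ _, by omega, by omega⟩
      · exact ⟨k / 2, min (k % 2) S.card, k % 2 - min (k % 2) S.card, by omega, min_le_right _ _, by omega, by omega⟩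
    obtain ⟨W, hWn, hW, hWd⟩ := hU (Multiset.replicate s' 2) (by rw [hS2, Multiset.replicate_le_replicate]; exact hs')
      (Multiset.replicate o' 1 + Multiset.replicate t' 2)
      (hD2 ▸ add_le_add ((Multiset.replicate_le_replicate 1).2 ho') ((Multiset.replicate_le_replicate 2).2 ht'))
    refine ⟨W, ?_, hWn, hW⟩
    rw [hWd]
    simp only [Multiset.sum_add, Multiset.sum_replicate, smul_eq_mul]
    omega

/-- Involutions in odd characteristic always fix such subspaces. -/
theorem fixes_two (h2 : (2 : F) ≠ 0) (hd : 1 ≤ d) {m : ℕ} (hm : Even m) (hmd : m ≤ 2 * d) : FixesNd 2 d m F := by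
  rintro x ⟨z, hz⟩ -
  obtain ⟨k, rfl⟩ := hm
  have hA : (Classical.sympB d F).IsAlt := fun v => by rw [Classical.sympB_apply, Classical.sympForm_self]
  obtain ⟨U, -, hUn, hUi, hUd⟩ := of_sq hA h2 (Matrix.toLin' x.1)
    (fun u v => by rw [Classical.sympB_apply, Classical.sympB_apply, Matrix.toLin'_apply, Matrix.toLin'_apply, Classical.sympForm_map])
    (SympIsoDerange.exists_normalise.sq_eq_one_cases hd hz)
    (fun v => by rw [Matrix.toLin'_apply, Matrix.toLin'_apply, Matrix.mulVec_mulVec, ← pow_two, hz, Matrix.smul_mulVec,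
      Matrix.one_mulVec]) k ⊤
    (fun u _ hu => by
      obtain ⟨v, hv⟩ := Classical.exists_sympForm_eq_one hu
      exact ⟨v, Submodule.mem_top, by rw [Classical.sympB_apply, hv]; exact one_ne_zero⟩)
    (fun _ _ => Submodule.mem_top)
    (by rw [finrank_top, Module.finrank_pi, Fintype.card_sum, Fintype.card_fin]; omega)
  exact ⟨U, by omega, hUn, fun w hw => by simpa using hUi w hw⟩

end Cfsg.Agent.SympNondegUnipotent
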