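import Cfsg.Agent.Lib.Classical.UnitaryConjugacy
import Cfsg.Agent.Lib.Classical.NormalForms
import Cfsg.Agent.Lib.Classical.Symp

/-! The centraliser in `Sp_2m(q)`, `q ≡ 2 (mod 3)`, of a fixed-point-free element of order three is `GU_m(q)`. -/

set_option autoImplicit false

namespace Cfsg.Agent.SympOrderThree

open Matrix Polynomial Cfsg.Agent.Classical Cfsg.Agent.UnitaryConjugacy

universe u

variable {F : Type u} [Field F] [Fintype F] {q m : ℕ}

theorem natCard_centralizer (hF : Fintype.card F = q) (hq : q % 3 = 2)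
    (x : Matrix.symplecticGroup (Fin m) F) (hx3 : x ^ 3 = 1)
    (hfpf : IsUnit ((x : Matrix (Fin m ⊕ Fin m) (Fin m ⊕ Fin m) F) - 1)) :
    (Nat.card (Subgroup.centralizer ({x} : Set (Matrix.symplecticGroup (Fin m) F))) : ℤ) =
      (q : ℤ) ^ (m * (m - 1) / 2) * ∏ i ∈ Finset.range m, ((q : ℤ) ^ (i + 1) + (-1) ^ i) := by
  classical
  set X' : Matrix (Fin m ⊕ Fin m) (Fin m ⊕ Fin m) F := (x : Matrix (Fin m ⊕ Fin m) (Fin m ⊕ Fin m) F) with hX'
  have hX3 : X' ^ 3 = 1 := by rw [hX', ← SubmonoidClass.coe_pow, hx3, OneMemClass.coe_one]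
  have hquad : X' * X' + X' + 1 = 0 := by
    refine hfpf.mul_right_injective ?_
    show (X' - 1) * (X' * X' + X' + 1) = (X' - 1) * 0
    rw [mul_zero, sub_mul, one_mul, mul_add, mul_add, mul_one, ← mul_assoc, show X' * X' * X' = X' ^ 3 by rw [pow_succ, pow_two], hX3]
    abel
  -- the field of `q ^ 2` elements
  set f : F[X] := X ^ 2 + X + 1
  have hfm : f.Monic := by
    show (X ^ 2 + X + 1 : F[X]).Monic
    monicity!
  have hfd : f.natDegree = 2 := by
    show (X ^ 2 + X + 1 : F[X]).natDegree = 2
    compute_degree!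
  have hfi : Irreducible f := by
    rw [hfm.irreducible_iff_roots_eq_zero_of_degree_le_three (by omega) (by omega), Multiset.eq_zero_iff_forall_notMem]
    intro a ha
    rw [mem_roots hfm.ne_zero, IsRoot.def] at ha
    simp only [f, eval_add, eval_pow, eval_X, eval_one] at ha
    have ha3 : a ^ 3 = 1 := by linear_combination (a - 1) * ha
    have ha1 : a = 1 := by
      have h2 := hF ▸ FiniteField.pow_card a
      rw [← Nat.div_add_mod q 3, hq, pow_add, pow_mul, ha3, one_pow, one_mul] at h2
      have ha0 : a ≠ 0 := fun h => by rw [h] at ha; simp at ha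
      refine mul_left_cancel₀ ha0 ?_
      rw [mul_one, ← sq, h2]
    rw [ha1] at ha
    have h3 : (3 : F) = 0 := by linear_combination ha
    obtain ⟨e, hp, he⟩ := FiniteField.card F (ringChar F)
    have h3' : ringChar F = 3 := (Nat.prime_dvd_prime_iff_eq hp Nat.prime_three).1
      ((ringChar.spec F 3).1 (by exact_mod_cast h3))
    have : q % 3 = 0 := by rw [← hF, he, h3', Nat.pow_mod]; simp
    omega
  haveI := Fact.mk hfi
  haveI := hfm.finite_adjoinRoot
  haveI : Finite (AdjoinRoot f) := Module.finite_of_finite F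
  letI := Fintype.ofFinite (AdjoinRoot f)
  set K := AdjoinRoot f
  have hK : Fintype.card K = q ^ 2 := by
    rw [← Nat.card_eq_fintype_card, Module.natCard_eq_pow_finrank (K := F), Nat.card_eq_fintype_card, hF,
      (AdjoinRoot.powerBasis hfm.ne_zero).finrank, AdjoinRoot.powerBasis_dim, hfd]
  set σ := qFrob hK
  set z : K := AdjoinRoot.root f
  have hz : z ^ 2 + z + 1 = 0 := by
    have hmk : AdjoinRoot.mk f (X ^ 2 + X + 1) = 0 := AdjoinRoot.mk_self
    rw [map_add, map_add, map_pow, AdjoinRoot.mk_X, map_one] at hmk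
    exact hmk
  have hσz : σ z = -z - 1 := by
    have h3 : z ^ 3 = 1 := by linear_combination (z - 1) * hz
    rw [qFrob_apply, ← Nat.div_add_mod q 3, hq, pow_add, pow_mul, h3, one_pow, one_mul]
    linear_combination hz
  have hσF : ∀ c : F, σ (algebraMap F K c) = algebraMap F K c := fun c => by
    rw [qFrob_apply, ← map_pow, ← hF, FiniteField.pow_card]
  -- the vector space over it
  let V := Fin m ⊕ Fin m → F
  let T : Module.End F V := Matrix.toLinAlgEquiv' X'
  have hT : aeval T f = 0 := by
    show aeval (Matrix.toLinAlgEquiv' X') f = 0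
    rw [Polynomial.aeval_algHom_apply]
    simp only [f, map_add, map_pow, aeval_X, map_one]
    rw [← map_pow, ← map_add, ← map_one (Matrix.toLinAlgEquiv' (R := F) (n := Fin m ⊕ Fin m)), ← map_add, sq, hquad, map_zero]
  let φ : K →ₐ[F] Module.End F V := Ideal.Quotient.liftₐ (Ideal.span {f}) (aeval T) (fun a ha => by
    obtain ⟨b, rfl⟩ := Ideal.mem_span_singleton'.1 ha
    rw [map_mul, hT, mul_zero])
  have hφz : ∀ v : V, φ z v = X' *ᵥ v := fun v => by
    rw [show φ z = T from aeval_X T]
    rfl
  letI instM : Module K V := Module.compHom V φ.toRingHom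
  have hsm : ∀ (k : K) (v : V), k • v = φ k v := fun k v => rfl
  haveI : IsScalarTower F K V := ⟨fun c k v => by
    rw [hsm, hsm, map_smul, LinearMap.smul_apply]⟩
  haveI : Finite V := inferInstance
  haveI : Module.Finite K V := Module.Finite.of_finite
  have hrank : Module.finrank K V = m := by
    have h := Module.natCard_eq_pow_finrank (K := K) (V := V)
    rw [Nat.card_eq_fintype_card, Nat.card_eq_fintype_card, hK, Fintype.card_fun, Fintype.card_sum, Fintype.card_fin,
      hF, ← pow_mul] at h
    have := Nat.pow_right_injective (by rw [← hF]; exact Fintype.one_lt_card) h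
    omega
  -- the Hermitian form
  set B := sympForm m F
  have hBx : ∀ u v, B (X' *ᵥ u) (X' *ᵥ v) = B u v := sympForm_map x
  let h : V → V → K := fun u v => algebraMap F K (B (X' *ᵥ u) v) - z * algebraMap F K (B u v)
  have hxx : ∀ v : V, X' *ᵥ (X' *ᵥ v) = -(X' *ᵥ v) - v := fun v => by
    have := congrArg (· *ᵥ v) hquad
    simp only [Matrix.add_mulVec, ← Matrix.mulVec_mulVec, Matrix.one_mulVec, Matrix.zero_mulVec] at this
    linear_combination (norm := module) this
  have hBt : ∀ u v, B (X' *ᵥ u) v = -B u (X' *ᵥ v) - B u v := fun u v => by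
    have e : X' *ᵥ (X' *ᵥ (X' *ᵥ v)) = v := by
      rw [Matrix.mulVec_mulVec, Matrix.mulVec_mulVec, show X' * X' * X' = X' ^ 3 by rw [pow_succ, pow_two], hX3, Matrix.one_mulVec]
    conv_lhs => rw [← e]
    rw [hBx, hxx, show -(X' *ᵥ v) - v = (-1 : F) • (X' *ᵥ v) + (-1 : F) • v by module]
    show sympForm m F u _ = -sympForm m F u _ - sympForm m F u v
    rw [sympForm_add_right, sympForm_smul_right, sympForm_smul_right]
    ring
  have hswap : ∀ u v, σ (h u v) = h v u := fun u v => by
    show σ (algebraMap F K (B (X' *ᵥ u) v) - z * algebraMap F K (B u v)) =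
      algebraMap F K (B (X' *ᵥ v) u) - z * algebraMap F K (B v u)
    rw [map_sub σ, map_mul σ, hσF, hσF, hσz, hBt u v, show B (X' *ᵥ v) u = -B u (X' *ᵥ v) from sympForm_swap _ _,
      show B v u = -B u v from sympForm_swap _ _]
    simp only [map_sub, map_neg]
    ring
  have hadd : ∀ u v w, h u (v + w) = h u v + h u w := fun u v w => by
    simp only [h, show ∀ a b c, B a (b + c) = B a b + B a c from sympForm_add_right, map_add]; ring
  have hzsm : ∀ u v, h u (X' *ᵥ v) = z * h u v := fun u v => by
    show algebraMap F K (B (X' *ᵥ u) (X' *ᵥ v)) - z * algebraMap F K (B u (X' *ᵥ v)) =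
      z * (algebraMap F K (B (X' *ᵥ u) v) - z * algebraMap F K (B u v))
    rw [hBx, hBt u v, map_sub, map_neg]
    linear_combination algebraMap F K (B u v) * hz
  have hsmul : ∀ (k : K) u v, h u (k • v) = k * h u v := by
    intro k u v
    induction k using AdjoinRoot.induction_on with
    | ih g =>
      induction g using Polynomial.induction_on with
      | C c =>
        rw [AdjoinRoot.mk_C, hsm, show AdjoinRoot.of f c = algebraMap F K c from rfl, φ.commutes,
          Module.algebraMap_end_apply]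
        simp only [h, show ∀ (c : F) a b, B a (c • b) = c * B a b from fun c a b => sympForm_smul_right c a b, map_mul]
        ring
      | add a b ha hb => rw [map_add, add_smul, hadd, ha, hb, add_mul]
      | monomial k c ih =>
        rw [pow_succ, ← mul_assoc, map_mul, AdjoinRoot.mk_X, mul_comm (AdjoinRoot.mk f _) (AdjoinRoot.root f), mul_smul,
          hsm, hφz, hzsm, ih, mul_assoc]
  let hB : V →ₛₗ[σ] V →ₗ[K] K := LinearMap.mk₂'ₛₗ σ (RingHom.id K) h
    (fun u u' v => by rw [← hswap, hadd, map_add, hswap, hswap])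
    (fun k u v => by rw [← hswap, hsmul, map_mul, hswap]; rfl)
    hadd (fun k u v => hsmul k u v)
  have hBh : ∀ u v, B u v = 0 → B (X' *ᵥ u) v = 0 → h u v = 0 := fun u v h1 h2 => by simp [h, h1, h2]
  have hcoord : ∀ u v u' v', h u v = h u' v' → B u v = B u' v' := fun u v u' v' e => by
    set a := B (X' *ᵥ u) v - B (X' *ᵥ u') v'
    set b := B u v - B u' v'
    have e' : AdjoinRoot.mk f (Polynomial.C a - X * Polynomial.C b) = 0 := by
      rw [map_sub, map_mul, AdjoinRoot.mk_X, AdjoinRoot.mk_C, AdjoinRoot.mk_C]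
      show algebraMap F K a - z * algebraMap F K b = 0
      simp only [a, b, map_sub]
      linear_combination (norm := (simp only [h]; ring)) e
    have h0 : Polynomial.C a - X * Polynomial.C b = 0 := by
      by_contra hne
      have h1 := natDegree_le_of_dvd (AdjoinRoot.mk_eq_zero.1 e') hne
      rw [hfd] at h1
      have h2 : (Polynomial.C a - X * Polynomial.C b).natDegree ≤ 1 :=
        (natDegree_sub_le _ _).trans (max_le (by simp) (natDegree_mul_le.trans (by simp)))
      omega
    have h1 := congrArg (fun P => Polynomial.coeff P 1) h0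
    simp at h1
    exact sub_eq_zero.1 h1
  have hnd : ∀ w ∈ (⊤ : Submodule K V), w ≠ 0 → ∃ u ∈ (⊤ : Submodule K V), hB w u ≠ 0 := fun w _ hw => by
    obtain ⟨v, hv⟩ := exists_sympForm_eq_one hw
    refine ⟨v, trivial, fun h0 => one_ne_zero (hv.symm.trans ((hcoord w v 0 v ?_).trans (sympForm_zero_left v)))⟩
    rw [show h w v = 0 from h0]
    simp [h, B]
  obtain ⟨b, -, hb⟩ := exists_orthonormal_family_herm hB (qFrob_ne_id hK) (qFrob_qFrob hK) ⟨hswap⟩ m ⊤ hnd
    (by rw [finrank_top, hrank])
  have hli : LinearIndependent K b := by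
    refine Fintype.linearIndependent_iff.2 fun c hc i => ?_
    have := congrArg (hB (b i)) hc
    simpa [map_sum, hb] using this
  let bs : Module.Basis (Fin m) K V :=
    Module.Basis.mk hli (top_le_iff.2 (hli.span_eq_top_of_card_eq_finrank' (by simp [hrank])))
  have hbs : ∀ i, bs i = b i := fun i => by simp [bs]
  -- the bijection
  let E := bs.equivFun
  have hE : ∀ u v, h u v = hermForm m K q (E v) (E u) := fun u v => by
    show hB u v = _
    conv_lhs => rw [← bs.sum_equivFun u, ← bs.sum_equivFun v]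
    simp [map_sum, LinearMap.sum_apply, hbs, hb, hermForm, E, σ, qFrob_apply]
  let toK : (g : Matrix.symplecticGroup (Fin m) F) → g ∈ Subgroup.centralizer ({x} : Set (Matrix.symplecticGroup (Fin m) F)) →
      V →ₗ[K] V := fun g hg =>
    { toFun := fun v => (g : Matrix (Fin m ⊕ Fin m) (Fin m ⊕ Fin m) F) *ᵥ v
      map_add' := fun v w => Matrix.mulVec_add _ v w
      map_smul' := fun k v => by
        have hc : (g : Matrix (Fin m ⊕ Fin m) (Fin m ⊕ Fin m) F) * X' = X' * (g : Matrix (Fin m ⊕ Fin m) (Fin m ⊕ Fin m) F) :=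
          congrArg Subtype.val (Subgroup.mem_centralizer_singleton_iff.1 hg)
        induction k using AdjoinRoot.induction_on with
        | ih p =>
          induction p using Polynomial.induction_on with
          | C c =>
            simp only [AdjoinRoot.mk_C, hsm, RingHom.id_apply, show AdjoinRoot.of f c = algebraMap F K c from rfl,
              φ.commutes, Module.algebraMap_end_apply]
            exact Matrix.mulVec_smul _ c v
          | add a b ha hb => simp only [map_add, add_smul, RingHom.id_apply] at ha hb ⊢; rw [show ∀ a b : V, (g : Matrix (Fin m ⊕ Fin m) (Fin m ⊕ Fin m) F) *ᵥ (a + b) = (g : Matrix (Fin m ⊕ Fin m) (Fin m ⊕ Fin m) F) *ᵥ a + (g : Matrix (Fin m ⊕ Fin m) (Fin m ⊕ Fin m) F) *ᵥ b from Matrix.mulVec_add _, ha, hb]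
          | monomial k c ih =>
            simp only [RingHom.id_apply] at ih ⊢
            rw [pow_succ, ← mul_assoc, map_mul, AdjoinRoot.mk_X, mul_comm (AdjoinRoot.mk f _) (AdjoinRoot.root f), mul_smul,
              mul_smul, hsm (AdjoinRoot.root f), hsm (AdjoinRoot.root f), hφz, hφz, Matrix.mulVec_mulVec, hc,
              ← Matrix.mulVec_mulVec, ih] }
  have hcard : Nat.card (Subgroup.centralizer ({x} : Set (Matrix.symplecticGroup (Fin m) F))) = uCard m K q := by
    symm
    have hinjg : ∀ g : {g : (Fin m → K) ≃ₗ[K] (Fin m → K) // ∀ u v, hermForm m K q (g u) (g v) = hermForm m K q u v},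
        ∀ v, X' *ᵥ (E.symm (g.1 (E v))) = E.symm (g.1 (E (X' *ᵥ v))) := fun g v => by
      rw [← hφz, ← hφz, ← hsm, ← hsm, map_smul, map_smul, map_smul]
    let M : {g : (Fin m → K) ≃ₗ[K] (Fin m → K) // ∀ u v, hermForm m K q (g u) (g v) = hermForm m K q u v} →
        Matrix (Fin m ⊕ Fin m) (Fin m ⊕ Fin m) F := fun g =>
      LinearMap.toMatrix' ((((E.trans g.1).trans E.symm).restrictScalars F : V ≃ₗ[F] V) : V →ₗ[F] V)
    have hM : ∀ g v, M g *ᵥ v = E.symm (g.1 (E v)) := fun g v => by
      show Matrix.toLin' (LinearMap.toMatrix' _) v = _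
      rw [Matrix.toLin'_toMatrix']
      rfl
    have hMmem : ∀ g, M g ∈ Matrix.symplecticGroup (Fin m) F := fun g => mem_symplecticGroup_iff_form.2 fun u v =>
      hcoord _ _ _ _ (by rw [hM, hM, hE, hE, LinearEquiv.apply_symm_apply, LinearEquiv.apply_symm_apply, g.2])
    refine Nat.card_eq_of_bijective (fun g => ⟨⟨M g, hMmem g⟩, Subgroup.mem_centralizer_singleton_iff.2
      (Subtype.ext (Matrix.ext_iff_mulVec.2 fun v => ?_))⟩) ⟨?_, ?_⟩
    · show (M g * X') *ᵥ v = (X' * M g) *ᵥ v
      rw [← Matrix.mulVec_mulVec, ← Matrix.mulVec_mulVec, hM, hM, hinjg]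
    · intro g g' e
      refine Subtype.ext (LinearEquiv.ext fun w => ?_)
      obtain ⟨v, rfl⟩ := E.surjective w
      have h1 : M g = M g' := congrArg (fun t => (t.1.1)) e
      exact E.symm.injective (by rw [← hM, h1, hM])
    · rintro ⟨g, hg⟩
      have hinj : Function.Injective (toK g hg) := fun u v e => by
        have h1 := congrArg (fun w => (g⁻¹ : Matrix.symplecticGroup (Fin m) F).1 *ᵥ w) e
        simp only [toK, LinearMap.coe_mk, AddHom.coe_mk, Matrix.mulVec_mulVec, ← Submonoid.coe_mul,
          inv_mul_cancel, OneMemClass.coe_one, Matrix.one_mulVec] at h1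
        exact h1
      let ge := LinearEquiv.ofBijective (toK g hg) ⟨hinj, Finite.surjective_of_injective hinj⟩
      refine ⟨⟨(E.symm.trans ge).trans E, fun u v => ?_⟩, Subtype.ext (Subtype.ext (Matrix.ext_iff_mulVec.2 fun v => ?_))⟩
      · obtain ⟨u', rfl⟩ := E.surjective u
        obtain ⟨v', rfl⟩ := E.surjective v
        simp only [LinearEquiv.trans_apply, LinearEquiv.symm_apply_apply, ← hE]
        show h ((g : Matrix (Fin m ⊕ Fin m) (Fin m ⊕ Fin m) F) *ᵥ v') ((g : Matrix (Fin m ⊕ Fin m) (Fin m ⊕ Fin m) F) *ᵥ u') = h v' u'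
        have hc : (g : Matrix (Fin m ⊕ Fin m) (Fin m ⊕ Fin m) F) * X' = X' * (g : Matrix (Fin m ⊕ Fin m) (Fin m ⊕ Fin m) F) :=
          congrArg Subtype.val (Subgroup.mem_centralizer_singleton_iff.1 hg)
        simp only [h, B, Matrix.mulVec_mulVec, ← hc]
        rw [← Matrix.mulVec_mulVec, sympForm_map, sympForm_map]
      · show M _ *ᵥ v = _
        rw [hM]
        simp only [LinearEquiv.trans_apply, LinearEquiv.symm_apply_apply]
        rfl
  rw [hcard, ← natCard_GU, order_GU hK]

end Cfsg.Agent.SympOrderThree
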