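import Cfsg.Agent.Lib.Classical.SympBlocks

/-! A regular unipotent element of the symplectic group, with its nilpotency. -/

set_option autoImplicit false

namespace Cfsg.Agent.Classical

open Matrix

variable {F : Type*} [Field F]

local notation "Sp(" m ")" => Matrix.symplecticGroup (Fin m) F

/-- A regular unipotent element. -/
theorem exists_symp_regular_nilpotent (p : ℕ) [Fact p.Prime] [CharP F p] {j : ℕ} (hj : 1 ≤ j) :
    ∃ x : Sp(j), ((x : Matrix (Fin j ⊕ Fin j) (Fin j ⊕ Fin j) F) - 1) ^ (2 * j) = 0 ∧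
      ((x : Matrix (Fin j ⊕ Fin j) (Fin j ⊕ Fin j) F) - 1) ^ (2 * j - 1) ≠ 0 := by
  classical
  have hp2 : 1 < p := (Fact.out : p.Prime).one_lt
  haveI : Nonempty (Fin j) := ⟨⟨0, hj⟩⟩
  set N := shiftMatrix F j j
  have hNj : N ^ j = 0 := shiftMatrix_pow_eq_zero le_rfl (by omega)
  have hdetC : (1 + N).det ≠ 0 := by
    intro h
    have h1 : (1 + N) ^ p ^ j = 1 := by
      rw [add_pow_char_pow_of_commute _ _ (Commute.one_left _), one_pow,
        shiftMatrix_pow_eq_zero (Nat.lt_pow_self hp2).le (pow_ne_zero _ (by omega)), add_zero]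
    have h2 := congrArg Matrix.det h1
    rw [Matrix.det_pow, h, zero_pow (pow_ne_zero _ (by omega)), Matrix.det_one] at h2
    exact zero_ne_one h2
  let g : GL (Fin j) F := Matrix.GeneralLinearGroup.mkOfDetNeZero (1 + N) hdetC
  have hg : (g : Matrix (Fin j) (Fin j) F) = 1 + N := rfl
  set W := ((g⁻¹ : GL (Fin j) F) : Matrix (Fin j) (Fin j) F)
  have hCW : (1 + N) * W = 1 := by rw [← hg]; exact g.mul_inv
  have hWC : W * (1 + N) = 1 := by rw [← hg]; exact g.inv_mul
  have hNW : Commute N W := by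
    have h : Commute (1 + N) W := hCW.trans hWC.symm
    simpa using h.sub_left (Commute.one_left W)
  set E : Matrix (Fin j) (Fin j) F := Matrix.single ⟨j - 1, by omega⟩ ⟨j - 1, by omega⟩ 1
  have hE : Eᵀ = E := Matrix.transpose_single _ _ _
  have hup : Matrix.fromBlocks 1 E 0 1 ∈ Sp(j) := by
    rw [SymplecticGroup.mem_iff, Matrix.fromBlocks_transpose, Matrix.J, Matrix.fromBlocks_multiply,
      Matrix.fromBlocks_multiply]
    simp [hE]
  let x : Sp(j) := sympLevi j g * ⟨_, hup⟩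
  set X := (1 + N) * E
  set M := Wᵀ - 1
  have hx : (x : Matrix _ _ F) = 1 + Matrix.fromBlocks N X 0 M := by
    show Matrix.fromBlocks (g : Matrix (Fin j) (Fin j) F) 0 0 Wᵀ * Matrix.fromBlocks 1 E 0 1 = _
    rw [Matrix.fromBlocks_multiply, ← Matrix.fromBlocks_one, Matrix.fromBlocks_add]
    simp [hg, X, M]
  have hM : M = (-(N * W))ᵀ := by
    have : W - 1 = -(N * W) := by rw [← hCW, add_mul, one_mul]; abel
    rw [← this, Matrix.transpose_sub, Matrix.transpose_one]
  have hNW1 : ∀ k, N ^ (j - 1) * W ^ k = N ^ (j - 1) := by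
    have h1 : N ^ (j - 1) * W = N ^ (j - 1) := by
      have h2 : N ^ (j - 1) * (1 + N) = N ^ (j - 1) := by
        rw [mul_add, mul_one, ← pow_succ, Nat.sub_add_cancel hj, hNj, add_zero]
      conv_lhs => rw [← h2, mul_assoc, hCW, mul_one]
    intro k
    induction k with
    | zero => simp
    | succ k ih => rw [pow_succ, ← mul_assoc, ih, h1]
  have hMj : M ^ j = 0 := by
    rw [hM, ← Matrix.transpose_pow, neg_pow, hNW.mul_pow, hNj]; simp
  have hM1 : M ^ (j - 1) = (-1 : Matrix (Fin j) (Fin j) F) ^ (j - 1) * (N ^ (j - 1))ᵀ := by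
    rw [hM, ← Matrix.transpose_pow, neg_pow, hNW.mul_pow, hNW1, Matrix.transpose_mul,
      Matrix.transpose_pow ((-1) : Matrix (Fin j) (Fin j) F), Matrix.transpose_neg, Matrix.transpose_one]
    exact ((Commute.one_left _).neg_left.pow_left _).eq.symm
  set D := Matrix.fromBlocks N X 0 M
  obtain ⟨P₁, hP₁⟩ := fromBlocks_upper_pow N X M (j - 1)
  obtain ⟨P₂, hP₂⟩ := fromBlocks_upper_pow N X M j
  have htop : D ^ (2 * j) = 0 := by
    rw [two_mul, pow_add, hP₂, hNj, hMj, Matrix.fromBlocks_multiply]; simp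
  have hmid : D ^ (2 * j - 1) ≠ 0 := by
    intro h0
    rw [show 2 * j - 1 = (j - 1) + 1 + (j - 1) by omega, pow_add, pow_succ, hP₁,
      Matrix.fromBlocks_multiply, Matrix.fromBlocks_multiply] at h0
    have h1 := congrArg Matrix.toBlocks₁₂ h0
    simp only [Matrix.toBlocks_fromBlocks₁₂, Matrix.mul_zero, Matrix.zero_mul, add_zero, zero_add] at h1
    have h2 : N ^ (j - 1) * N * P₁ + (N ^ (j - 1) * X + P₁ * M) * M ^ (j - 1) = 0 := h1
    rw [← pow_succ, Nat.sub_add_cancel hj, hNj, Matrix.zero_mul, zero_add, add_mul, mul_assoc P₁ M,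
      ← pow_succ', Nat.sub_add_cancel hj, hMj, Matrix.mul_zero, add_zero, hM1] at h2
    have hNC : N ^ (j - 1) * X = N ^ (j - 1) * E := by
      rw [← mul_assoc, mul_add, mul_one, ← pow_succ, Nat.sub_add_cancel hj, hNj, add_zero]
    rw [hNC] at h2
    have hsgn : ∀ k : ℕ, (-1 : Matrix (Fin j) (Fin j) F) ^ k = ((-1 : F) ^ k) • 1 := fun k => by
      rw [← neg_one_smul F (1 : Matrix (Fin j) (Fin j) F), smul_pow, one_pow]
    rw [hsgn, smul_one_mul, mul_smul_comm, smul_eq_zero] at h2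
    have h3 := congrFun (congrFun (h2.resolve_left (pow_ne_zero _ (neg_ne_zero.2 one_ne_zero)))
      ⟨0, hj⟩) ⟨0, hj⟩
    rw [Matrix.mul_apply, Finset.sum_eq_single ⟨j - 1, by omega⟩] at h3
    · rw [Matrix.mul_apply, Finset.sum_eq_single ⟨j - 1, by omega⟩] at h3
      · simp [E, N, shiftMatrix_pow, hj] at h3
        exact absurd (h3 (Or.inr hj)).2 (by omega)
      · intro b _ hb; simp [E, Ne.symm hb]
      · simp
    · intro b _ hb
      simp [E, Matrix.mul_apply, Ne.symm hb]
    · simp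
  exact ⟨x, by rw [hx, add_sub_cancel_left]; exact ⟨htop, hmid⟩⟩

end Cfsg.Agent.Classical
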