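import Cfsg.Agent.Lib.Classical.SympTwoCount

/-!
Bounds for the number of weighted labels in characteristic two.
-/

set_option autoImplicit false

namespace Cfsg.Agent.Classical.IsometryTwo

open Polynomial Module
open Cfsg.Agent.Classical.IsometryClasses

universe u

variable {F : Type u} [Field F] {o : Bool} {n : ℕ}

attribute [local instance] Classical.propDecidable

theorem ext_val {K : ℕ} (a : Fin K → Bool) (i : Fin K) : ext a ((i : ℕ) + 1) = a i := by
  rw [ext, dif_pos ⟨by omega, i.2⟩]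
  rfl

theorem patW_eq (o : Bool) (y : ℝ) {K : ℕ} (a : Fin K → Bool) :
    patW o y a = (2 : ℝ) ^ (bitsC o a).card * ∏ i : Fin K, fnum o y ((i : ℕ) + 1) (a i) := by
  simp only [patW, fwt, Finset.prod_mul_distrib, ext_val]
  rw [mul_comm, Finset.prod_ite, Finset.prod_const, Finset.prod_const_one, mul_one]
  congr 2
  simp only [bitsC, ext_val]

/-- The weight of exponent `k ≥ 2` with `m` free coefficients and option `e`. -/
noncomputable def gW (o : Bool) (y : ℝ) (k : ℕ) (m : ℕ) (e : Fin 3) : ℝ :=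
  if ¬ Even k ∧ (1 < (e : ℕ) ∨ (e ≠ 0 ∧ m = 0)) then 0
  else y ^ ((k - 1) * m + k / 2 * bOf k e) *
    if ¬ Even k ∧ lev o ≤ k / 2 ∧ 1 ≤ m then (if e ≠ 0 then y else 1 - y) else 1

theorem gW_nonneg {y : ℝ} (h0 : 0 ≤ y) (h1 : y ≤ 1) (k m : ℕ) (e : Fin 3) : 0 ≤ gW o y k m e := by
  simp only [gW]
  split_ifs <;> first | exact le_rfl | (refine mul_nonneg (pow_nonneg h0 _) ?_; linarith)

theorem geom_le {r : ℝ} (h0 : 0 ≤ r) (h1 : r < 1) (M : ℕ) :
    ∑ m : Fin M, r ^ (m : ℕ) ≤ 1 / (1 - r) ∧ ∑ m : Fin M, (if (m : ℕ) = 0 then 0 else r ^ (m : ℕ)) ≤ r / (1 - r) := by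
  have hg : ∀ M : ℕ, ∑ m ∈ Finset.range M, r ^ m ≤ 1 / (1 - r) := fun M => by
    rw [le_div_iff₀ (by linarith), geom_sum_mul_neg]
    linarith [pow_nonneg h0 M]
  refine ⟨by rw [Fin.sum_univ_eq_sum_range (fun m => r ^ m)]; exact hg M, ?_⟩
  rw [Fin.sum_univ_eq_sum_range (fun m => if m = 0 then 0 else r ^ m)]
  rcases M with _ | M
  · simp only [Finset.range_zero, Finset.sum_empty]
    exact div_nonneg h0 (by linarith)
  rw [Finset.sum_range_succ', if_pos rfl, add_zero, Finset.sum_congr rfl fun m _ => if_neg (Nat.succ_ne_zero m)]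
  simp only [pow_succ']
  rw [← Finset.mul_sum, show r / (1 - r) = r * (1 / (1 - r)) by rw [mul_one_div]]
  exact mul_le_mul_of_nonneg_left (hg M) h0

/-- The weights of one exponent. -/
theorem sum_gW_le {y : ℝ} (h0 : 0 ≤ y) (h1 : y ≤ 1 / 2) {k : ℕ} (hk : 2 ≤ k) (M : ℕ) (a : Bool) :
    ∑ z : Fin M × Fin 3, (if decide (z.2 ≠ 0) = a then gW o y k (z.1 : ℕ) z.2 else 0) ≤
      fnum o y k a / (1 - y ^ (k - 1)) := by
  classical
  set r := y ^ (k - 1) with hr
  have hr0 : 0 ≤ r := pow_nonneg h0 _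
  have hr1 : r < 1 := pow_lt_one₀ h0 (by linarith) (by omega)
  have hk1 : k ≠ 1 := by omega
  obtain ⟨hg, hg'⟩ := geom_le hr0 hr1 M
  have hy : y * r = y ^ k := by rw [hr, ← pow_succ']; congr 1; omega
  have hlev : lev o ≤ k / 2 := le_trans (by unfold lev; split_ifs <;> omega) (show 1 ≤ k / 2 by omega)
  rw [Fintype.sum_prod_type]
  simp only [Fin.sum_univ_three]
  by_cases he : Even k
  · have hterm : ∀ (m : Fin M) (e : Fin 3), gW o y k (m : ℕ) e = r ^ (m : ℕ) * y ^ (k / 2 * (e : ℕ)) := fun m e => by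
      simp only [gW, he, not_true, false_and, if_false, bOf, if_true, mul_one]
      rw [pow_add, pow_mul]
    cases a
    · simp only [hterm, fnum, if_neg hk1, if_pos he, Bool.false_eq_true, if_false]
      refine le_trans (le_of_eq (Finset.sum_congr rfl fun m _ => ?_)) hg
      simp
    · simp only [hterm, fnum, if_neg hk1, if_pos he, if_true]
      calc _ = ∑ m : Fin M, r ^ (m : ℕ) * (y ^ (k / 2) + y ^ k) := by
            refine Finset.sum_congr rfl fun m _ => ?_
            obtain ⟨l, hl⟩ := he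
            simp [show k / 2 * 2 = k by omega, mul_add]
        _ ≤ _ := by
            rw [← Finset.sum_mul, div_eq_mul_one_div, mul_comm]
            exact mul_le_mul_of_nonneg_left hg (by positivity)
  · cases a
    · simp only [fnum, if_neg hk1, if_neg he, Bool.false_eq_true, if_false]
      calc _ = ∑ m : Fin M, (r ^ (m : ℕ) - y * (if (m : ℕ) = 0 then 0 else r ^ (m : ℕ))) := by
            refine Finset.sum_congr rfl fun m _ => ?_
            rcases Nat.eq_zero_or_pos (m : ℕ) with hm | hm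
            · simp [gW, he, bOf, hm]
            · simp [gW, he, bOf, hlev, hm.ne', Nat.one_le_iff_ne_zero, pow_mul, ← hr]
              ring
        _ ≤ _ := by
            rcases M with _ | M
            · simp only [Finset.univ_eq_empty, Finset.sum_empty]
              refine div_nonneg ?_ (by linarith)
              linarith [pow_le_one₀ (n := k) h0 (by linarith)]
            rw [Fin.sum_univ_succ, Finset.sum_congr rfl fun i _ => show
              (r ^ (Fin.succ i : ℕ) - y * if (Fin.succ i : ℕ) = 0 then 0 else r ^ (Fin.succ i : ℕ)) =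
                ((1 - y) * r) * r ^ (i : ℕ) by rw [Fin.val_succ, if_neg (Nat.succ_ne_zero _), pow_succ]; ring]
            rw [← Finset.mul_sum, Fin.val_zero, if_pos rfl, pow_zero, mul_zero, sub_zero, le_div_iff₀ (by linarith),
              add_mul, one_mul, mul_assoc]
            have h2 := (geom_le hr0 hr1 M).1
            rw [le_div_iff₀ (by linarith)] at h2
            nlinarith [mul_nonneg (sub_nonneg.2 (show y ≤ 1 by linarith)) hr0]
    · simp only [fnum, if_neg hk1, if_neg he, if_true]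
      calc _ = ∑ m : Fin M, y * (if (m : ℕ) = 0 then 0 else r ^ (m : ℕ)) := by
            refine Finset.sum_congr rfl fun m _ => ?_
            rcases Nat.eq_zero_or_pos (m : ℕ) with hm | hm
            · simp [gW, he, bOf, hm]
            · simp [gW, he, bOf, hlev, hm.ne', Nat.one_le_iff_ne_zero, pow_mul, ← hr]
              ring
        _ ≤ _ := by
            rw [← Finset.mul_sum, ← hy, mul_div_assoc]
            exact mul_le_mul_of_nonneg_left hg' h0

variable (hn : 1 ≤ n)

include hn

/-- The first exponent. -/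
def i0 : Fin (2 * n) := ⟨0, by omega⟩

/-- Forgetting the first exponent. -/
def setFirst (c : Cfg n) (e : Fin 3) : Cfg n := Function.update c (i0 hn) (0, e)

/-- The slot weights after forgetting the first exponent. -/
noncomputable def hW (o : Bool) (y : ℝ) (i : Fin (2 * n)) (z : Fin (2 * n + 1) × Fin 3) : ℝ :=
  if (i : ℕ) = 0 then (if z.1 = 0 then (if z.2 = 0 then fnum o y 1 false else if z.2 = 1 then fnum o y 1 true else 0) else 0)
  else gW o y ((i : ℕ) + 1) (z.1 : ℕ) z.2

omit hn in
theorem hW_nonneg {y : ℝ} (h0 : 0 ≤ y) (h1 : y ≤ 1 / 2) (i : Fin (2 * n)) (z : Fin (2 * n + 1) × Fin 3) :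
    0 ≤ hW o y i z := by
  simp only [hW]
  split_ifs <;> first | exact le_rfl | exact fnum_nonneg h0 h1 _ _ | exact gW_nonneg h0 (by linarith) _ _ _

theorem sum_hW_le {y : ℝ} (h0 : 0 ≤ y) (h1 : y ≤ 1 / 2) :
    ∑ c : Cfg n, (2 : ℝ) ^ (bitsC o (actC c)).card * ∏ i, hW o y i (c i) ≤ total o y (2 * n) := by
  classical
  have hbound : ∀ (i : Fin (2 * n)) (a : Bool), ∑ z, (if decide (z.2 ≠ 0) = a then hW o y i z else 0) ≤
      fnum o y ((i : ℕ) + 1) a / (if (i : ℕ) = 0 then 1 else 1 - y ^ (i : ℕ)) := fun i a => by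
    by_cases hi : (i : ℕ) = 0
    · simp only [hW, hi, if_true, zero_add, div_one]
      rw [Fintype.sum_prod_type, Finset.sum_eq_single (0 : Fin (2 * n + 1)) (fun m _ hm => by simp [hm]) (by simp)]
      cases a <;> simp [Fin.sum_univ_three]
    · simp only [hW, if_neg hi]
      have := sum_gW_le (o := o) h0 h1 (k := (i : ℕ) + 1) (by omega) (2 * n + 1) a
      simpa using this
  calc _ = ∑ c : Cfg n, ∑ a : Fin (2 * n) → Bool,
        (if actC c = a then (2 : ℝ) ^ (bitsC o a).card * ∏ i, hW o y i (c i) else 0) :=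
        Finset.sum_congr rfl fun c _ => by rw [Finset.sum_ite_eq, if_pos (Finset.mem_univ _)]
    _ = ∑ a : Fin (2 * n) → Bool, (2 : ℝ) ^ (bitsC o a).card *
        ∑ c : Cfg n, ∏ i, (if decide ((c i).2 ≠ 0) = a i then hW o y i (c i) else 0) := by
        rw [Finset.sum_comm]
        refine Finset.sum_congr rfl fun a _ => ?_
        rw [Finset.mul_sum]
        refine Finset.sum_congr rfl fun c _ => ?_
        by_cases h : actC c = a
        · subst h
          rw [if_pos rfl]
          congr 1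
          exact Finset.prod_congr rfl fun i _ => (if_pos rfl).symm
        · obtain ⟨i, hi⟩ : ∃ i, decide ((c i).2 ≠ 0) ≠ a i := by
            by_contra hall
            push Not at hall
            exact h (funext hall)
          rw [if_neg h, Finset.prod_eq_zero (Finset.mem_univ i) (if_neg hi), mul_zero]
    _ ≤ ∑ a : Fin (2 * n) → Bool, (2 : ℝ) ^ (bitsC o a).card *
        ∏ i : Fin (2 * n), (fnum o y ((i : ℕ) + 1) (a i) / (if (i : ℕ) = 0 then 1 else 1 - y ^ (i : ℕ))) := by
        refine Finset.sum_le_sum fun a _ => mul_le_mul_of_nonneg_left ?_ (by positivity)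
        rw [← Fintype.prod_sum (fun (i : Fin (2 * n)) z => if decide (z.2 ≠ 0) = a i then hW o y i z else 0)]
        refine Finset.prod_le_prod (fun i _ => Finset.sum_nonneg fun z _ => ?_) fun i _ => hbound i (a i)
        split_ifs <;> first | exact le_rfl | exact hW_nonneg h0 h1 _ _
    _ = _ := by
        have hden : ∏ i : Fin (2 * n), (if (i : ℕ) = 0 then (1 : ℝ) else 1 - y ^ (i : ℕ)) = den y (2 * n) := by
          rw [Fin.prod_univ_eq_prod_range (fun i => if i = 0 then (1 : ℝ) else 1 - y ^ i) (2 * n), den]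
          rw [show 2 * n = 2 * n - 1 + 1 by omega, Finset.prod_range_succ', if_pos rfl, mul_one,
            Nat.add_sub_cancel]
          exact Finset.prod_congr rfl fun i _ => if_neg (Nat.succ_ne_zero i)
        simp only [Finset.prod_div_distrib, hden, ← mul_div_assoc, ← patW_eq]
        rw [← Finset.sum_div, pattern_sum, total]

theorem actC_setFirst (c : Cfg n) (e : Fin 3) :
    actC (setFirst hn c e) = Function.update (actC c) (i0 hn) (decide (e ≠ 0)) := by
  funext i
  by_cases hi : i = i0 hn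
  · subst hi; simp [actC, setFirst]
  · simp [actC, setFirst, Function.update_of_ne hi]

theorem bits_mono (a : Fin (2 * n) → Bool) (hf : a (i0 hn) = false) :
    (bitsC true a).card ≤ (bitsC true (Function.update a (i0 hn) true)).card := by
  classical
  set b := Function.update a (i0 hn) true with hb
  have hext : ∀ j, j ≠ 1 → ext b j = ext a j := fun j hj => by
    simp only [ext]
    split_ifs with h
    · exact Function.update_of_ne (fun hi => hj (by
        have := congrArg (fun i : Fin (2 * n) => (i : ℕ)) hi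
        simp only [i0] at this
        omega)) _ _
    · rfl
  have h0b : i0 hn ∈ bitsC true b := by
    simp only [bitsC, Finset.mem_filter, Finset.mem_univ, true_and]
    have e1 : ext b ((i0 hn : ℕ) + 1) = true := by rw [ext_val, hb, Function.update_self]
    simp [bitB, i0, lev, ext, show 1 ≤ 2 * n by omega] at e1 ⊢
    exact e1
  have hsub : (bitsC true a).erase ⟨1, by omega⟩ ⊆ (bitsC true b).erase (i0 hn) := by
    intro i hi
    obtain ⟨hi1, hi2⟩ := Finset.mem_erase.1 hi
    simp only [bitsC, Finset.mem_filter, Finset.mem_univ, true_and] at hi2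
    have hi0 : i ≠ i0 hn := fun h => by
      subst h
      simp [bitB, ext_val, hf] at hi2
    refine Finset.mem_erase.2 ⟨hi0, ?_⟩
    simp only [bitsC, Finset.mem_filter, Finset.mem_univ, true_and]
    have hge : 2 ≤ (i : ℕ) := by
      have a1 : (i : ℕ) ≠ 0 := fun h => hi0 (Fin.ext h)
      have a2 : (i : ℕ) ≠ 1 := fun h => hi1 (Fin.ext h)
      omega
    by_cases h3 : (i : ℕ) = 2
    · rw [hext _ (by omega), hext _ (by omega), bitB]
      rw [bitB, h3] at hi2
      simp [show ¬ Even (2 + 1) by decide, h3] at hi2 ⊢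
      exact hi2
    · rwa [hext _ (by omega), hext _ (by omega), hext _ (by omega)]
  have h1 := Finset.card_le_card hsub
  rw [Finset.card_erase_of_mem h0b] at h1
  have h2 := Finset.pred_card_le_card_erase (a := (⟨1, by omega⟩ : Fin (2 * n))) (s := bitsC true a)
  have h3 : 1 ≤ (bitsC true b).card := Finset.card_pos.2 ⟨_, h0b⟩
  omega

theorem setFirst_self (c : Cfg n) (i : Fin (2 * n)) (hi : (i : ℕ) ≠ 0) (e : Fin 3) : setFirst hn c e i = c i :=
  Function.update_of_ne (fun h => hi (by rw [h]; rfl)) _ _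

omit hn in
theorem setFirst_inj (hn : 1 ≤ n) {c c' : Cfg n} (hc : Valid o n c) (hc' : Valid o n c') {e e' : Fin 3}
    (h : setFirst hn c e = setFirst hn c' e') : (c (i0 hn)).1 = (c' (i0 hn)).1 ∧ ∀ i, i ≠ i0 hn → c i = c' i := by
  have hne : ∀ i, i ≠ i0 hn → c i = c' i := fun i hi => by
    have := congrFun h i
    rwa [setFirst, setFirst, Function.update_of_ne hi, Function.update_of_ne hi] at this
  refine ⟨?_, hne⟩
  have h1 := hc.1
  have h3 := hc'.1
  rw [← Finset.add_sum_erase _ _ (Finset.mem_univ (i0 hn))] at h1 h3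
  rw [Finset.sum_congr rfl (fun j hj => by rw [hne j (Finset.mem_erase.1 hj).1])] at h1
  have e1 : bOf ((i0 hn : ℕ) + 1) (c (i0 hn)).2 = 0 := if_neg (by simp [i0])
  have e2 : bOf ((i0 hn : ℕ) + 1) (c' (i0 hn)).2 = 0 := if_neg (by simp [i0])
  rw [e1] at h1
  rw [e2] at h3
  simp only [show (i0 hn : ℕ) = 0 from rfl, zero_add, one_mul, add_zero] at h1 h3
  exact Fin.ext (by omega)

variable [Fintype F] [CharP F 2]

omit hn in
/-- The value of a shape. -/
theorem shape_value (c : Cfg n) (hc : Valid o n c) :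
    (Nat.card (∀ i : Fin (2 * n), Coef o F ((i : ℕ) + 1) ((c i).1 : ℕ) (c i).2) : ℝ) =
      (Fintype.card F : ℝ) ^ n * ∏ i : Fin (2 * n), gW o (Fintype.card F : ℝ)⁻¹ ((i : ℕ) + 1) ((c i).1 : ℕ) (c i).2 := by
  classical
  set q := (Fintype.card F : ℝ) with hq
  have hq0 : q ≠ 0 := Nat.cast_ne_zero.2 Fintype.card_ne_zero
  have hN : (∑ i : Fin (2 * n), ((c i).1 : ℕ)) +
      ∑ i : Fin (2 * n), (((i : ℕ) + 1 - 1) * ((c i).1 : ℕ) + ((i : ℕ) + 1) / 2 * bOf ((i : ℕ) + 1) (c i).2) = n := by
    refine Nat.eq_of_mul_eq_mul_left (show 0 < 2 by norm_num) ?_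
    rw [← Finset.sum_add_distrib, Finset.mul_sum]
    conv_rhs => rw [← hc.1]
    refine Finset.sum_congr rfl fun i _ => ?_
    rw [Nat.add_sub_cancel]
    by_cases he : Even ((i : ℕ) + 1)
    · obtain ⟨j, hj⟩ := he
      rw [show ((i : ℕ) + 1) / 2 = j by omega, hj]
      have hij : (i : ℕ) + 1 = j + j := hj
      nlinarith
    · rw [bOf, if_neg he]
      ring
  simp only [Nat.card_pi, Nat.cast_prod, card_Coef]
  rw [Finset.prod_mul_distrib, Finset.prod_pow_eq_pow_sum]
  have hg : ∀ i : Fin (2 * n), gW o q⁻¹ ((i : ℕ) + 1) ((c i).1 : ℕ) (c i).2 =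
      q⁻¹ ^ (((i : ℕ) + 1 - 1) * ((c i).1 : ℕ) + ((i : ℕ) + 1) / 2 * bOf ((i : ℕ) + 1) (c i).2) *
        if ¬ Even ((i : ℕ) + 1) ∧ lev o ≤ ((i : ℕ) + 1) / 2 ∧ 1 ≤ ((c i).1 : ℕ) then
          (if (c i).2 ≠ 0 then q⁻¹ else 1 - q⁻¹) else 1 := fun i => by
    rw [gW, if_neg]
    rintro ⟨he, h | ⟨h1, h2⟩⟩
    · have := (hc.2 i he).1; omega
    · have := ((hc.2 i he).2 h1).2; omega
  rw [Finset.prod_congr rfl fun i _ => hg i, Finset.prod_mul_distrib, Finset.prod_pow_eq_pow_sum, ← mul_assoc]
  congr 1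
  · rw [inv_pow]
    set a := ∑ i : Fin (2 * n), ((c i).1 : ℕ)
    set b := ∑ i : Fin (2 * n), (((i : ℕ) + 1 - 1) * ((c i).1 : ℕ) + ((i : ℕ) + 1) / 2 * bOf ((i : ℕ) + 1) (c i).2)
    rw [← hN, pow_add, mul_assoc, mul_inv_cancel₀ (pow_ne_zero _ hq0), mul_one]

/-- The weighted shapes. -/
noncomputable def shapeSum (o : Bool) (F : Type u) [Field F] (n : ℕ) (φ : ℕ → ℝ) : ℝ :=
  ∑ c ∈ (Finset.univ : Finset (Cfg n)).filter (Valid o n),
    φ (bitsC o (actC c)).card * (Nat.card (∀ i : Fin (2 * n), Coef o F ((i : ℕ) + 1) ((c i).1 : ℕ) (c i).2) : ℝ)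

theorem shapeSum_two_pow :
    shapeSum o F n (fun b => (2 : ℝ) ^ b) ≤ (Fintype.card F : ℝ) ^ n * total o (Fintype.card F : ℝ)⁻¹ (2 * n) := by
  classical
  set y := (Fintype.card F : ℝ)⁻¹ with hy
  have hy0 : 0 ≤ y := by positivity
  have hy1 : y ≤ 1 / 2 := by
    rw [hy, one_div]
    gcongr
    exact_mod_cast Fintype.one_lt_card
  refine le_trans ?_ (mul_le_mul_of_nonneg_left (sum_hW_le (o := o) hn hy0 hy1) (by positivity))
  rw [shapeSum, Finset.sum_congr rfl fun c hc => by
    rw [shape_value c (Finset.mem_filter.1 hc).2, mul_left_comm], ← Finset.mul_sum]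
  refine mul_le_mul_of_nonneg_left ?_ (by positivity)
  -- the targets of a shape
  let tg : Cfg n → Finset (Cfg n) := fun c =>
    if ((c (i0 hn)).1 : ℕ) = 0 then {setFirst hn c 0, setFirst hn c 1} else {setFirst hn c (c (i0 hn)).2}
  let H : Cfg n → ℝ := fun c => (2 : ℝ) ^ (bitsC o (actC c)).card * ∏ i, hW o y i (c i)
  have hH : ∀ c, 0 ≤ H c := fun c => mul_nonneg (by positivity) (Finset.prod_nonneg fun i _ => hW_nonneg hy0 hy1 _ _)
  have hi0 : (i0 hn : ℕ) = 0 := rfl
  have hfirst : ∀ (c : Cfg n) (e : Fin 3), ∏ i, hW o y i (setFirst hn c e i) =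
      hW o y (i0 hn) (0, e) * ∏ i ∈ Finset.univ.erase (i0 hn), gW o y ((i : ℕ) + 1) ((c i).1 : ℕ) (c i).2 := fun c e => by
    rw [← Finset.mul_prod_erase _ _ (Finset.mem_univ (i0 hn))]
    refine congrArg₂ (· * ·) ?_ ?_
    · rw [setFirst, Function.update_self]
    · refine Finset.prod_congr rfl fun i hi => ?_
      have hne : (i : ℕ) ≠ 0 := fun h => (Finset.mem_erase.1 hi).1 (Fin.ext h)
      rw [setFirst_self hn c i hne, hW, if_neg hne]
  have hle : ∀ c, Valid o n c → (2 : ℝ) ^ (bitsC o (actC c)).card *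
      ∏ i : Fin (2 * n), gW o y ((i : ℕ) + 1) ((c i).1 : ℕ) (c i).2 ≤ ∑ t ∈ tg c, H t := by
    intro c hc
    rw [← Finset.mul_prod_erase _ _ (Finset.mem_univ (i0 hn))]
    obtain ⟨h1, h2⟩ := hc.2 (i0 hn) (by simp [i0])
    rw [hi0] at h2
    set P := ∏ i ∈ Finset.univ.erase (i0 hn), gW o y ((i : ℕ) + 1) ((c i).1 : ℕ) (c i).2 with hP
    have hP0 : 0 ≤ P := Finset.prod_nonneg fun i _ => gW_nonneg hy0 (by linarith) _ _ _
    by_cases hm : ((c (i0 hn)).1 : ℕ) = 0
    · have he : (c (i0 hn)).2 = 0 := by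
        by_contra he
        have := (h2 he).2
        omega
      have hne : setFirst hn c 0 ≠ setFirst hn c 1 := fun h => by
        have := congrArg Prod.snd (congrFun h (i0 hn))
        simp [setFirst] at this
      simp only [tg, if_pos hm]
      rw [Finset.sum_insert (by simp [hne]), Finset.sum_singleton]
      simp only [H, hfirst, actC_setFirst]
      have hact : Function.update (actC c) (i0 hn) (decide ((0 : Fin 3) ≠ 0)) = actC c := by
        rw [Function.update_eq_self_iff]
        simp [actC, he]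
      rw [hact, hi0, hm, he]
      have e0 : gW o y (0 + 1) 0 0 = 1 := by simp [gW, bOf]
      have e1 : hW o y (i0 hn) (0, (0 : Fin 3)) = fnum o y 1 false := by simp [hW, i0]
      have e2 : hW o y (i0 hn) (0, (1 : Fin 3)) = fnum o y 1 true := by simp [hW, i0]
      rw [e0, e1, e2, ← hP, one_mul]
      simp only [show decide ((1 : Fin 3) ≠ 0) = true from rfl]
      cases o
      · simp [fnum]
      · have hb := bits_mono hn (actC c) (by simp [actC, he])
        have hpw : (2 : ℝ) ^ (bitsC true (actC c)).card ≤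
            (2 : ℝ) ^ (bitsC true (Function.update (actC c) (i0 hn) true)).card := pow_le_pow_right₀ one_le_two hb
        simp only [fnum, if_true, Bool.false_eq_true, if_false]
        nlinarith [mul_le_mul_of_nonneg_left hpw (mul_nonneg hy0 hP0)]
    · simp only [tg, if_neg hm, Finset.sum_singleton, H, hfirst, actC_setFirst]
      have hact : Function.update (actC c) (i0 hn) (decide ((c (i0 hn)).2 ≠ 0)) = actC c := by
        rw [Function.update_eq_self_iff]; rfl
      rw [hact, ← hP, hi0]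
      refine le_of_eq ?_
      congr 2
      have he3 : ((c (i0 hn)).2 : ℕ) ≤ 1 := h1
      generalize (c (i0 hn)).2 = e at h2 he3
      have hm' : (c (i0 hn)).1 ≠ 0 := fun h => hm (by rw [h]; rfl)
      generalize (c (i0 hn)).1 = m at hm hm' h2
      fin_cases e
      · cases o <;> simp [gW, hW, i0, bOf, fnum, lev, hm', Nat.one_le_iff_ne_zero]
      · cases o
        · exact absurd (h2 (by decide)).1 (by simp [lev])
        · simp [gW, hW, i0, bOf, fnum, lev, hm', Nat.one_le_iff_ne_zero]
      · exact absurd he3 (by decide)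
  refine (Finset.sum_le_sum fun c hc => hle c (Finset.mem_filter.1 hc).2).trans ?_
  rw [← Finset.sum_biUnion]
  · exact Finset.sum_le_sum_of_subset_of_nonneg (Finset.subset_univ _) fun c _ _ => hH c
  intro c hc c' hc' hne
  simp only [Function.onFun]
  rw [Finset.disjoint_left]
  intro t ht ht'
  have hv := (Finset.mem_filter.1 (Finset.mem_coe.1 hc)).2
  have hv' := (Finset.mem_filter.1 (Finset.mem_coe.1 hc')).2
  have hex : ∀ c, t ∈ tg c → ∃ e, t = setFirst hn c e ∧ (((c (i0 hn)).1 : ℕ) ≠ 0 → e = (c (i0 hn)).2) := fun c ht => by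
    simp only [tg] at ht
    split_ifs at ht with hm
    · simp only [Finset.mem_insert, Finset.mem_singleton] at ht
      rcases ht with h | h
      · exact ⟨0, h, fun h => absurd hm h⟩
      · exact ⟨1, h, fun h => absurd hm h⟩
    · exact ⟨_, Finset.mem_singleton.1 ht, fun _ => rfl⟩
  obtain ⟨e, he, he'⟩ := hex c ht
  obtain ⟨f, hf, hf'⟩ := hex c' ht'
  obtain ⟨h1, h2⟩ := setFirst_inj hn hv hv' (he.symm.trans hf)
  refine hne (funext fun i => ?_)
  by_cases hi : i = i0 hn
  · subst hi
    refine Prod.ext h1 ?_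
    by_cases hm : ((c (i0 hn)).1 : ℕ) = 0
    · have z : ∀ c : Cfg n, Valid o n c → ((c (i0 hn)).1 : ℕ) = 0 → (c (i0 hn)).2 = 0 := fun c hv hm => by
        by_contra h0
        have := ((hv.2 (i0 hn) (by simp [i0])).2 h0).2
        omega
      rw [z c hv hm, z c' hv' (h1 ▸ hm)]
    · rw [← he' hm, ← hf' (h1 ▸ hm)]
      have := congrArg Prod.snd (congrFun (he.symm.trans hf) (i0 hn))
      simpa [setFirst] using this
  · exact h2 i hi

theorem shapeSum_inactive :
    shapeSum true F n (fun b => if b = 0 then 1 else 0) ≤ 4 * (Fintype.card F : ℝ) ^ n := by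
  classical
  set y := (Fintype.card F : ℝ)⁻¹ with hy
  have hy0 : 0 ≤ y := by positivity
  have hy1 : y ≤ 1 / 2 := by
    rw [hy, one_div]
    gcongr
    exact_mod_cast Fintype.one_lt_card
  -- no activity
  have hinact : ∀ c : Cfg n, (bitsC true (actC c)).card = 0 → ∀ i, (c i).2 = 0 := fun c hc => by
    by_contra hne
    push Not at hne
    have hs : (Finset.univ.filter fun i => (c i).2 ≠ 0).Nonempty := by
      obtain ⟨i, hi⟩ := hne
      exact ⟨i, Finset.mem_filter.2 ⟨Finset.mem_univ _, hi⟩⟩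
    obtain ⟨i, hi, hmin⟩ := Finset.exists_min_image _ (fun i : Fin (2 * n) => (i : ℕ)) hs
    have hlow : ∀ j, j ≤ (i : ℕ) → ext (actC c) j = false := fun j hj => by
      simp only [ext]
      split_ifs with h
      · by_contra hh
        have := hmin ⟨j - 1, by omega⟩ (Finset.mem_filter.2 ⟨Finset.mem_univ _, by simpa [actC] using hh⟩)
        simp only at this
        omega
      · rfl
    refine Finset.card_ne_zero.2 ⟨i, ?_⟩ hc
    have e1 : ext (actC c) ((i : ℕ) + 1) = true := by
      rw [ext_val]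
      simpa [actC] using (Finset.mem_filter.1 hi).2
    simp [bitsC, bitB, e1, hlow _ le_rfl, hlow _ (Nat.sub_le _ _), lev]
  let Z : Fin (2 * n) → Fin (2 * n + 1) × Fin 3 → ℝ := fun i z =>
    if z.2 = 0 then (if (i : ℕ) = 0 then (if z.1 = 0 then 1 else 0) else gW true y ((i : ℕ) + 1) (z.1 : ℕ) z.2) else 0
  have hZ : ∀ i z, 0 ≤ Z i z := fun i z => by
    simp only [Z]
    split_ifs <;> first | exact le_rfl | exact zero_le_one | exact gW_nonneg hy0 (by linarith) _ _ _
  set V := ((Finset.univ : Finset (Cfg n)).filter (Valid true n)).filter fun c => (bitsC true (actC c)).card = 0 with hV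
  have hsum : shapeSum true F n (fun b => if b = 0 then 1 else 0) =
      (Fintype.card F : ℝ) ^ n * ∑ c ∈ V, ∏ i : Fin (2 * n), gW true y ((i : ℕ) + 1) ((c i).1 : ℕ) (c i).2 := by
    rw [shapeSum, Finset.mul_sum, hV, Finset.sum_filter (p := fun c : Cfg n => (bitsC true (actC c)).card = 0)]
    refine Finset.sum_congr rfl fun c hc => ?_
    rw [shape_value c (Finset.mem_filter.1 hc).2]
    split_ifs <;> simp [hy]
  rw [hsum, mul_comm (4 : ℝ)]
  refine mul_le_mul_of_nonneg_left ?_ (by positivity)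
  have hinj : Set.InjOn (fun c => setFirst hn c 0) (V : Set (Cfg n)) := fun c hc c' hc' h => by
    obtain ⟨hv, hb⟩ := Finset.mem_filter.1 (Finset.mem_coe.1 hc)
    obtain ⟨hv', hb'⟩ := Finset.mem_filter.1 (Finset.mem_coe.1 hc')
    obtain ⟨h1, h2⟩ := setFirst_inj hn (Finset.mem_filter.1 hv).2 (Finset.mem_filter.1 hv').2 h
    funext i
    by_cases hi : i = i0 hn
    · subst hi
      exact Prod.ext h1 (by rw [hinact c hb, hinact c' hb'])
    · exact h2 i hi
  calc ∑ c ∈ V, ∏ i : Fin (2 * n), gW true y ((i : ℕ) + 1) ((c i).1 : ℕ) (c i).2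
      ≤ ∑ c ∈ V, ∏ i, Z i (setFirst hn c 0 i) := by
        refine Finset.sum_le_sum fun c hc => Finset.prod_le_prod (fun i _ => gW_nonneg hy0 (by linarith) _ _ _) fun i _ => ?_
        have he := hinact c (Finset.mem_filter.1 hc).2
        by_cases hi : (i : ℕ) = 0
        · have : i = i0 hn := Fin.ext hi
          subst this
          simp only [Z, setFirst, Function.update_self, if_true, if_pos hi]
          rw [he, hi]
          simp only [gW, bOf]
          split_ifs <;> simp at * <;> linarith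
        · rw [setFirst_self hn c i hi]
          simp only [Z, he i, if_true, if_neg hi, le_refl]
    _ = ∑ c ∈ V.image fun c => setFirst hn c 0, ∏ i, Z i (c i) :=
        (Finset.sum_image (f := fun c : Cfg n => ∏ i, Z i (c i)) (fun c hc c' hc' h => hinj hc hc' h)).symm
    _ ≤ ∑ c : Cfg n, ∏ i, Z i (c i) :=
        Finset.sum_le_sum_of_subset_of_nonneg (Finset.subset_univ _) fun c _ _ => Finset.prod_nonneg fun i _ => hZ _ _
    _ = ∏ i, ∑ z, Z i z := (Fintype.prod_sum Z).symm
    _ ≤ ∏ i : Fin (2 * n), (if (i : ℕ) = 0 then 1 else 1 / (1 - y ^ (i : ℕ))) := by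
        refine Finset.prod_le_prod (fun i _ => Finset.sum_nonneg fun z _ => hZ i z) fun i _ => ?_
        by_cases hi : (i : ℕ) = 0
        · simp only [Z, hi, if_true]
          rw [Fintype.sum_prod_type, Finset.sum_eq_single (0 : Fin (2 * n + 1)) (fun m _ hm => by simp [hm]) (by simp)]
          simp [Fin.sum_univ_three]
        · rw [if_neg hi]
          have h := sum_gW_le (o := true) hy0 hy1 (k := (i : ℕ) + 1) (by omega) (2 * n + 1) false
          rw [Nat.add_sub_cancel] at h
          refine le_trans (le_trans (le_of_eq (Finset.sum_congr rfl fun z _ => ?_)) h) ?_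
          · by_cases hz : z.2 = 0
            · simp only [Z, if_pos hz, if_neg hi, decide_eq_false_iff_not, ne_eq, not_not, hz, if_true]
            · simp only [Z, if_neg hz, decide_eq_false_iff_not, ne_eq, not_not, hz, if_false]
          · have hp : y ^ (i : ℕ) < 1 := pow_lt_one₀ hy0 (by linarith) hi
            refine div_le_div_of_nonneg_right ?_ (by linarith)
            simp only [fnum, Bool.false_eq_true, if_false]
            split_ifs <;> linarith [pow_nonneg hy0 ((i : ℕ) + 1)]
    _ ≤ 4 := by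
        refine le_trans (le_of_eq ?_) (inactive_le hy0 hy1 (2 * n))
        rw [Fin.prod_univ_eq_prod_range (fun i => if i = 0 then (1 : ℝ) else 1 / (1 - y ^ i)) (2 * n), den,
          show 2 * n = 2 * n - 1 + 1 by omega, Finset.prod_range_succ', if_pos rfl, mul_one, Nat.add_sub_cancel, one_div,
          ← Finset.prod_inv_distrib]
        exact Finset.prod_congr rfl fun i _ => by rw [if_neg (Nat.succ_ne_zero i), one_div]

omit hn in
/-- The labels inject into the weighted shapes. -/
theorem card_Lbl_le (φ : ℕ → ℕ) : Finite (Lbl o F n φ) ∧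
    (Nat.card (Lbl o F n φ) : ℝ) ≤ shapeSum o F n (fun b => (φ b : ℝ)) := by
  classical
  obtain ⟨ψ, hψ⟩ := exists_encode (F := F) (o := o) n φ
  haveI : ∀ (k m : ℕ) (e : Fin 3), Finite (Coef o F k m e) := fun k m e => Subtype.finite
  refine ⟨Finite.of_injective ψ hψ, ?_⟩
  refine le_trans (Nat.cast_le.2 (Nat.card_le_card_of_injective ψ hψ)) (le_of_eq ?_)
  haveI hF : Fintype (Subtype (Valid o n)) := Fintype.ofFinite _
  rw [Nat.card_sigma, Nat.cast_sum, shapeSum]
  rw [Finset.sum_subtype ((Finset.univ : Finset (Cfg n)).filter (Valid o n)) (p := Valid o n) (F := hF) (fun c => by simp)]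
  refine Finset.sum_congr (by ext; simp) fun c _ => ?_
  rw [Nat.card_prod, Nat.card_eq_fintype_card (α := Fin _), Fintype.card_fin, Nat.cast_mul]

omit hn in
theorem card_two_or_four : Fintype.card F = 2 ∨ 4 ≤ Fintype.card F := by
  obtain ⟨n, hprime, hn⟩ := FiniteField.card F 2
  rw [hn]
  rcases Nat.lt_or_ge (n : ℕ) 2 with h | h
  · left
    have := n.pos
    rw [show (n : ℕ) = 1 by omega, pow_one]
  · right
    calc 4 = 2 ^ 2 := rfl
      _ ≤ _ := Nat.pow_le_pow_right two_pos h

theorem card_Lbl_symp : Finite (Lbl false F n (2 ^ ·)) ∧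
    5 * Nat.card (Lbl false F n (2 ^ ·)) ≤ 76 * Fintype.card F ^ n := by
  obtain ⟨h1, h2⟩ := card_Lbl_le (F := F) (o := false) (n := n) (2 ^ ·)
  refine ⟨h1, ?_⟩
  push_cast at h2
  have h3 := h2.trans (shapeSum_two_pow (o := false) hn)
  have h4 := total_sp_le (q := Fintype.card F) Fintype.one_lt_card card_two_or_four (2 * n) (by omega)
  have hq : (0 : ℝ) ≤ (Fintype.card F : ℝ) ^ n := by positivity
  have : (5 : ℝ) * Nat.card (Lbl false F n (2 ^ ·)) ≤ 76 * (Fintype.card F : ℝ) ^ n := by
    nlinarith [mul_le_mul_of_nonneg_left h4 hq]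
  exact_mod_cast this

theorem card_Lbl_orth : Finite (Lbl true F n (fun b => 2 ^ (b - 1))) ∧
    Nat.card (Lbl true F n (fun b => 2 ^ (b - 1))) ≤ 15 * Fintype.card F ^ n := by
  obtain ⟨h1, h2⟩ := card_Lbl_le (F := F) (o := true) (n := n) (fun b => 2 ^ (b - 1))
  refine ⟨h1, ?_⟩
  have h3 : 2 * shapeSum true F n (fun b => ((2 ^ (b - 1) : ℕ) : ℝ)) ≤
      shapeSum true F n (fun b => (2 : ℝ) ^ b) + shapeSum true F n (fun b => if b = 0 then 1 else 0) := by
    simp only [shapeSum, Finset.mul_sum, ← Finset.sum_add_distrib]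
    refine Finset.sum_le_sum fun c _ => ?_
    rw [← add_mul, ← mul_assoc]
    refine mul_le_mul_of_nonneg_right ?_ (Nat.cast_nonneg _)
    rcases (bitsC true (actC c)).card with _ | b
    · norm_num
    · rw [Nat.add_sub_cancel, if_neg (Nat.succ_ne_zero b), add_zero, pow_succ]
      push_cast
      linarith
  have h4 := shapeSum_two_pow (F := F) (o := true) hn
  have h5 := shapeSum_inactive (F := F) hn
  have h6 := total_orth_le (q := Fintype.card F) Fintype.one_lt_card card_two_or_four (2 * n) (by omega)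
  have hq : (0 : ℝ) ≤ (Fintype.card F : ℝ) ^ n := by positivity
  have : (Nat.card (Lbl true F n (fun b => 2 ^ (b - 1))) : ℝ) ≤ 15 * (Fintype.card F : ℝ) ^ n := by
    nlinarith [mul_le_mul_of_nonneg_left h6 hq]
  exact_mod_cast this

end Cfsg.Agent.Classical.IsometryTwo
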