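import Mathlib

/-!
The numerical bounds for the class numbers of `Sp(2n, q)` and `O(2n, q)`, `q` even: a transfer matrix over the
exponents, exact for `q = 2`.
-/

set_option autoImplicit false

namespace Cfsg.Agent.Classical.IsometryTwo

open Finset

/-- The numerator of exponent `k`. -/
def fnum {R : Type*} [Ring R] (o : Bool) (y : R) (k : ℕ) (a : Bool) : R :=
  if k = 1 then (if o then (if a then y else 1 - y) else (if a then 0 else 1))
  else if Even k then (if a then y ^ (k / 2) + y ^ k else 1)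
  else (if a then y ^ k else 1 - y ^ k)

/-- The lowest level. -/
def lev (o : Bool) : ℕ := if o then 0 else 1

/-- Whether exponent `k` carries a bit, from the activity at `k`, `k - 1` and `k - 2`. -/
def bitB (o : Bool) (k : ℕ) (a p₁ p₂ : Bool) : Bool :=
  a && decide (lev o ≤ (k - 1) / 2) && !p₁ && !(decide (Even k) && p₂)

/-- The weight of exponent `k`. -/
def fwt {R : Type*} [Ring R] (o : Bool) (y : R) (k : ℕ) (a p₁ p₂ : Bool) : R :=
  fnum o y k a * if bitB o k a p₁ p₂ then 2 else 1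

/-- The transfer matrix. -/
noncomputable def DP (o : Bool) (y : ℝ) : ℕ → Bool → Bool → ℝ
  | 0, a, b => if a || b then 0 else 1
  | k + 1, a, p => fwt o y (k + 1) a p false * DP o y k p false + fwt o y (k + 1) a p true * DP o y k p true

/-- The total weight. -/
noncomputable def tot (o : Bool) (y : ℝ) (K : ℕ) : ℝ :=
  DP o y K false false + DP o y K false true + DP o y K true false + DP o y K true true

/-- The activity at exponent `j`. -/
def ext {K : ℕ} (a : Fin K → Bool) (j : ℕ) : Bool := if h : 1 ≤ j ∧ j ≤ K then a ⟨j - 1, by omega⟩ else false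

/-- The weight of a pattern. -/
noncomputable def patW (o : Bool) (y : ℝ) {K : ℕ} (a : Fin K → Bool) : ℝ :=
  ∏ i : Fin K, fwt o y ((i : ℕ) + 1) (ext a ((i : ℕ) + 1)) (ext a (i : ℕ)) (ext a ((i : ℕ) - 1))

theorem ext_snoc {K : ℕ} (a : Fin K → Bool) (b : Bool) (j : ℕ) :
    ext (Fin.snoc a b : Fin (K + 1) → Bool) j = if j = K + 1 then b else ext a j := by
  simp only [ext]
  split_ifs with h1 h2 h2 <;> try omega
  · subst h2
    exact Fin.snoc_last (α := fun _ => Bool) b a
  · exact Fin.snoc_castSucc (α := fun _ => Bool) b a ⟨j - 1, by omega⟩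
  all_goals rfl

theorem patW_snoc (o : Bool) (y : ℝ) {K : ℕ} (a : Fin K → Bool) (b : Bool) :
    patW o y (Fin.snoc a b : Fin (K + 1) → Bool) = fwt o y (K + 1) b (ext a K) (ext a (K - 1)) * patW o y a := by
  rw [patW, Fin.prod_univ_castSucc, mul_comm]
  congr 1
  · simp only [Fin.val_last, ext_snoc, if_true]
    rw [if_neg (by omega), if_neg (by omega)]
  · refine Finset.prod_congr rfl fun i _ => ?_
    have := i.2
    simp only [Fin.val_castSucc, ext_snoc]
    rw [if_neg (by omega), if_neg (by omega), if_neg (by omega)]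

theorem pattern_state (o : Bool) (y : ℝ) : ∀ (K : ℕ) (p q : Bool),
    ∑ a : Fin K → Bool, (if ext a K = p ∧ ext a (K - 1) = q then patW o y a else 0) = DP o y K p q := by
  intro K
  induction K with
  | zero =>
    intro p q
    cases p <;> cases q <;> simp [DP, ext, patW]
  | succ K ih =>
    intro p q
    rw [← (Fin.snocEquiv fun _ : Fin (K + 1) => Bool).sum_comp, Fintype.sum_prod_type, DP, ← ih q false, ← ih q true,
      Finset.mul_sum, Finset.mul_sum, ← Finset.sum_add_distrib, Finset.sum_comm]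
    refine Finset.sum_congr rfl fun a _ => ?_
    have e : ∀ b, (Fin.snocEquiv fun _ : Fin (K + 1) => Bool) (b, a) = (Fin.snoc a b : Fin (K + 1) → Bool) := fun b => rfl
    simp only [e, patW_snoc, ext_snoc, Nat.add_sub_cancel, if_true, if_neg (show ¬ K = K + 1 by omega),
      Fintype.sum_bool]
    cases ext a K <;> cases ext a (K - 1) <;> cases p <;> cases q <;> simp

theorem pattern_sum (o : Bool) (y : ℝ) (K : ℕ) : ∑ a : Fin K → Bool, patW o y a = tot o y K := by
  simp only [tot, ← pattern_state, ← Finset.sum_add_distrib]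
  refine Finset.sum_congr rfl fun a _ => ?_
  cases ext a K <;> cases ext a (K - 1) <;> simp

variable {o : Bool} {y : ℝ}

theorem fnum_nonneg (h0 : 0 ≤ y) (h1 : y ≤ 1 / 2) (k : ℕ) (a : Bool) : 0 ≤ fnum o y k a := by
  have hp : y ^ k ≤ 1 := pow_le_one₀ h0 (by linarith)
  simp only [fnum]
  split_ifs <;> first | positivity | linarith

theorem fwt_nonneg (h0 : 0 ≤ y) (h1 : y ≤ 1 / 2) (k : ℕ) (a p q : Bool) : 0 ≤ fwt o y k a p q :=
  mul_nonneg (fnum_nonneg h0 h1 k a) (by split_ifs <;> norm_num)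

theorem DP_nonneg (h0 : 0 ≤ y) (h1 : y ≤ 1 / 2) : ∀ (K : ℕ) (p q : Bool), 0 ≤ DP o y K p q := by
  intro K
  induction K with
  | zero => intro p q; simp only [DP]; split_ifs <;> norm_num
  | succ K ih =>
    intro p q
    exact add_nonneg (mul_nonneg (fwt_nonneg h0 h1 _ _ _ _) (ih _ _)) (mul_nonneg (fwt_nonneg h0 h1 _ _ _ _) (ih _ _))

theorem tot_succ (K : ℕ) : tot o y (K + 1) =
    (fwt o y (K + 1) false false false + fwt o y (K + 1) true false false) * DP o y K false false +
    (fwt o y (K + 1) false false true + fwt o y (K + 1) true false true) * DP o y K false true +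
    (fwt o y (K + 1) false true false + fwt o y (K + 1) true true false) * DP o y K true false +
    (fwt o y (K + 1) false true true + fwt o y (K + 1) true true true) * DP o y K true true := by
  simp only [tot, DP]
  ring

theorem tot_succ_le (h0 : 0 ≤ y) (h1 : y ≤ 1 / 2) (K : ℕ) :
    tot o y (K + 1) ≤ (fnum o y (K + 1) false + 2 * fnum o y (K + 1) true) * tot o y K := by
  have hb : ∀ p q, fwt o y (K + 1) false p q + fwt o y (K + 1) true p q ≤
      fnum o y (K + 1) false + 2 * fnum o y (K + 1) true := fun p q => by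
    have := fnum_nonneg (o := o) h0 h1 (K + 1) true
    simp only [fwt]
    rw [show bitB o (K + 1) false p q = false by simp [bitB]]
    cases bitB o (K + 1) true p q <;> norm_num <;> linarith
  rw [tot_succ, tot, mul_add, mul_add, mul_add]
  exact add_le_add (add_le_add (add_le_add (mul_le_mul_of_nonneg_right (hb _ _) (DP_nonneg h0 h1 _ _ _))
    (mul_le_mul_of_nonneg_right (hb _ _) (DP_nonneg h0 h1 _ _ _))) (mul_le_mul_of_nonneg_right (hb _ _) (DP_nonneg h0 h1 _ _ _)))
    (mul_le_mul_of_nonneg_right (hb _ _) (DP_nonneg h0 h1 _ _ _))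

theorem tot_succ_ge (h0 : 0 ≤ y) (h1 : y ≤ 1 / 2) (K : ℕ) :
    (fnum o y (K + 1) false + fnum o y (K + 1) true) * tot o y K ≤ tot o y (K + 1) := by
  have hb : ∀ p q, fnum o y (K + 1) false + fnum o y (K + 1) true ≤
      fwt o y (K + 1) false p q + fwt o y (K + 1) true p q := fun p q => by
    have := fnum_nonneg (o := o) h0 h1 (K + 1) true
    simp only [fwt]
    rw [show bitB o (K + 1) false p q = false by simp [bitB]]
    cases bitB o (K + 1) true p q <;> norm_num <;> linarith
  rw [tot_succ, tot, mul_add, mul_add, mul_add]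
  exact add_le_add (add_le_add (add_le_add (mul_le_mul_of_nonneg_right (hb _ _) (DP_nonneg h0 h1 _ _ _))
    (mul_le_mul_of_nonneg_right (hb _ _) (DP_nonneg h0 h1 _ _ _))) (mul_le_mul_of_nonneg_right (hb _ _) (DP_nonneg h0 h1 _ _ _)))
    (mul_le_mul_of_nonneg_right (hb _ _) (DP_nonneg h0 h1 _ _ _))

theorem tot_nonneg (h0 : 0 ≤ y) (h1 : y ≤ 1 / 2) (K : ℕ) : 0 ≤ tot o y K := by
  have := fun p q => DP_nonneg (o := o) h0 h1 K p q
  rw [tot]
  exact add_nonneg (add_nonneg (add_nonneg (this _ _) (this _ _)) (this _ _)) (this _ _)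

/-- The denominators. -/
noncomputable def den (y : ℝ) (K : ℕ) : ℝ := ∏ i ∈ range (K - 1), (1 - y ^ (i + 1))

theorem den_pos (h0 : 0 ≤ y) (h1 : y ≤ 1 / 2) (K : ℕ) : 0 < den y K :=
  prod_pos fun i _ => by
    have : y ^ (i + 1) < 1 := pow_lt_one₀ h0 (by linarith) (by omega)
    linarith

/-- The normalised total. -/
noncomputable def total (o : Bool) (y : ℝ) (K : ℕ) : ℝ := tot o y K / den y K

theorem den_succ {K : ℕ} (hK : 1 ≤ K) : den y (K + 1) = den y K * (1 - y ^ K) := by
  rw [den, den, show K + 1 - 1 = K - 1 + 1 by omega, prod_range_succ, show K - 1 + 1 = K by omega]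

theorem fnum_sum_ge (h0 : 0 ≤ y) {k : ℕ} (hk : 1 ≤ k) : 1 ≤ fnum o y k false + fnum o y k true := by
  have h2 : 0 ≤ y ^ (k / 2) + y ^ k := by positivity
  simp only [fnum, Bool.false_eq_true, if_false, if_true]
  split_ifs <;> linarith

theorem total_mono (h0 : 0 ≤ y) (h1 : y ≤ 1 / 2) {K L : ℕ} (hK : 1 ≤ K) (hKL : K ≤ L) :
    total o y K ≤ total o y L := by
  induction L, hKL using Nat.le_induction with
  | base => exact le_rfl
  | succ L hL ih =>
    refine ih.trans ?_
    have hd := den_pos h0 h1 L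
    have hd' := den_pos h0 h1 (L + 1)
    rw [total, total, div_le_div_iff₀ hd hd', den_succ (by omega)]
    have h := (le_mul_of_one_le_left (tot_nonneg h0 h1 L) (fnum_sum_ge (o := o) (k := L + 1) h0 (by omega))).trans
      (tot_succ_ge h0 h1 L)
    have hy : 0 ≤ y ^ L := by positivity
    calc tot o y L * (den y L * (1 - y ^ L)) ≤ tot o y L * den y L := by
          refine mul_le_mul_of_nonneg_left (mul_le_of_le_one_right hd.le (by linarith)) (tot_nonneg h0 h1 L)
      _ ≤ _ := mul_le_mul_of_nonneg_right h hd.le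

theorem pair_step (h0 : 0 ≤ y) (h1 : y ≤ 1 / 2) {j : ℕ} (hj : 1 ≤ j) (hs : y ^ (j - 1) ≤ 1 / 16) :
    total o y (2 * (j + 1)) ≤ total o y (2 * j) * (1 + 3 * y ^ (j + 1)) := by
  set t := y ^ (j + 1) with ht
  have ht0 : 0 ≤ t := by positivity
  have ht1 : t ≤ 1 / 64 := by
    rw [ht, show j + 1 = j - 1 + 2 by omega, pow_add]
    calc y ^ (j - 1) * y ^ 2 ≤ 1 / 16 * (1 / 2) ^ 2 :=
          mul_le_mul hs (pow_le_pow_left₀ h0 h1 2) (by positivity) (by norm_num)
      _ = _ := by norm_num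
  have ha : y ^ (2 * j) ≤ t / 16 := by
    rw [show 2 * j = j + 1 + (j - 1) by omega, pow_add, ← ht]
    nlinarith
  have hb : y ^ (2 * j + 1) ≤ t / 16 := le_trans (pow_le_pow_of_le_one h0 (by linarith) (Nat.le_succ _)) ha
  have hA : fnum o y (2 * j + 1) false + 2 * fnum o y (2 * j + 1) true ≤ 1 + t / 16 := by
    simp only [fnum, if_neg (show ¬ (2 * j + 1 = 1) by omega), Bool.false_eq_true, if_false, if_true,
      if_neg (show ¬ Even (2 * j + 1) by simp [parity_simps])]
    linarith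
  have hB : fnum o y (2 * j + 2) false + 2 * fnum o y (2 * j + 2) true = 1 + 2 * (t + t * t) := by
    simp only [fnum, if_neg (show ¬ (2 * j + 2 = 1) by omega), Bool.false_eq_true, if_false, if_true,
      if_pos (show Even (2 * j + 2) by simp [parity_simps]), show (2 * j + 2) / 2 = j + 1 by omega]
    rw [ht, show 2 * j + 2 = (j + 1) + (j + 1) by omega]
    ring
  have hfA : 0 ≤ fnum o y (2 * j + 1) false + 2 * fnum o y (2 * j + 1) true := by
    have := fnum_nonneg (o := o) h0 h1 (2 * j + 1) false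
    have := fnum_nonneg (o := o) h0 h1 (2 * j + 1) true
    linarith
  have e : 2 * (j + 1) = 2 * j + 1 + 1 := by omega
  have htt : tot o y (2 * (j + 1)) ≤ (1 + 2 * (t + t * t)) * (1 + t / 16) * tot o y (2 * j) := by
    rw [e]
    refine (tot_succ_le h0 h1 _).trans ?_
    rw [hB, mul_assoc]
    refine mul_le_mul_of_nonneg_left ((tot_succ_le h0 h1 _).trans
      (mul_le_mul_of_nonneg_right hA (tot_nonneg h0 h1 _))) (by positivity)
  have hd : den y (2 * j) * ((1 - t / 16) * (1 - t / 16)) ≤ den y (2 * (j + 1)) := by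
    rw [e, den_succ (by omega), den_succ (by omega), mul_assoc]
    exact mul_le_mul_of_nonneg_left (mul_le_mul (by linarith) (by linarith) (by linarith) (by linarith))
      (den_pos h0 h1 _).le
  have hp : 0 < den y (2 * j) * ((1 - t / 16) * (1 - t / 16)) :=
    mul_pos (den_pos h0 h1 _) (mul_pos (by linarith) (by linarith))
  rw [total, total]
  refine (div_le_div₀ (by have := tot_nonneg (o := o) h0 h1 (2 * j); positivity) htt hp hd).trans ?_
  rw [mul_comm _ (tot o y (2 * j)), ← div_mul_div_comm]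
  refine mul_le_mul_of_nonneg_left ?_ (div_nonneg (tot_nonneg h0 h1 _) (den_pos h0 h1 _).le)
  rw [div_le_iff₀ (mul_pos (by linarith) (by linarith))]
  nlinarith [mul_le_mul_of_nonneg_left ht1 ht0, mul_nonneg ht0 (mul_nonneg ht0 ht0)]

theorem tail_total (h0 : 0 ≤ y) (h1 : y ≤ 1 / 2) {j : ℕ} (hj : 1 ≤ j) (hs : y ^ (j - 1) ≤ 1 / 16) : ∀ d : ℕ,
    total o y (2 * (j + d)) * (1 - 6 * (y ^ (j + 1) - y ^ (j + d + 1))) ≤ total o y (2 * j) := by
  intro d
  induction d with
  | zero => simp
  | succ d ih =>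
    set u := y ^ (j + d + 1) with hu
    have hu0 : 0 ≤ u := by positivity
    have hun : y ^ (j + (d + 1) + 1) = u * y := by rw [hu, ← pow_succ]; congr 1
    have hlt : y ^ (j + 1) ≤ 1 / 64 := by
      rw [show j + 1 = j - 1 + 2 by omega, pow_add]
      calc y ^ (j - 1) * y ^ 2 ≤ 1 / 16 * (1 / 2) ^ 2 :=
            mul_le_mul hs (pow_le_pow_left₀ h0 h1 2) (by positivity) (by norm_num)
        _ = _ := by norm_num
    have huy : u * y ≤ u / 2 := by nlinarith
    have hule : u ≤ y ^ (j + 1) := pow_le_pow_of_le_one h0 (by linarith) (by omega)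
    have hnn : 0 ≤ total o y (2 * (j + d)) := div_nonneg (tot_nonneg h0 h1 _) (den_pos h0 h1 _).le
    have hstep := pair_step (o := o) h0 h1 (j := j + d) (by omega)
      (le_trans (pow_le_pow_of_le_one h0 (by linarith) (by omega)) hs)
    rw [← hu] at hstep
    rw [hun]
    refine (mul_le_mul_of_nonneg_right (show total o y (2 * (j + (d + 1))) ≤ total o y (2 * (j + d)) * (1 + 3 * u) from
      hstep) (by nlinarith)).trans (le_trans ?_ ih)
    rw [mul_assoc]
    refine mul_le_mul_of_nonneg_left ?_ hnn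
    nlinarith

theorem total_le_of (h0 : 0 ≤ y) (h1 : y ≤ 1 / 2) {j : ℕ} (hj : 1 ≤ j) (hs : y ^ (j - 1) ≤ 1 / 16) {B : ℝ}
    (hB : total o y (2 * j) ≤ B * (1 - 6 * y ^ (j + 1))) (K : ℕ) (hK : 1 ≤ K) : total o y K ≤ B := by
  refine (total_mono h0 h1 hK (show K ≤ 2 * (j + K) by omega)).trans ?_
  have h := tail_total (o := o) h0 h1 hj hs K
  have hlt : y ^ (j + 1) ≤ 1 / 64 := by
    rw [show j + 1 = j - 1 + 2 by omega, pow_add]
    calc y ^ (j - 1) * y ^ 2 ≤ 1 / 16 * (1 / 2) ^ 2 :=
          mul_le_mul hs (pow_le_pow_left₀ h0 h1 2) (by positivity) (by norm_num)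
      _ = _ := by norm_num
  have hu0 : 0 ≤ y ^ (j + K + 1) := by positivity
  have hnn : 0 ≤ total o y (2 * (j + K)) := div_nonneg (tot_nonneg h0 h1 _) (den_pos h0 h1 _).le
  refine le_of_mul_le_mul_right (le_trans ?_ (h.trans hB)) (by linarith)
  exact mul_le_mul_of_nonneg_left (by linarith) hnn

/-! ## The case `y = 1 / 2` in integers -/

/-- Scaled numerators. -/
def numN (o : Bool) (k : ℕ) (a : Bool) : ℕ :=
  if k = 1 then (if o then 1 else (if a then 0 else 2))
  else if k % 2 = 0 then (if a then 2 ^ (k / 2) + 1 else 2 ^ k)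
  else (if a then 1 else 2 ^ k - 1)

/-- Scaled weights. -/
def fwtN (o : Bool) (k : ℕ) (a p₁ p₂ : Bool) : ℕ :=
  numN o k a * if a && decide (lev o ≤ (k - 1) / 2) && !p₁ && !(decide (k % 2 = 0) && p₂) then 2 else 1

/-- The scaled transfer vector. -/
def DPN (o : Bool) : ℕ → ℕ × ℕ × ℕ × ℕ
  | 0 => (1, 0, 0, 0)
  | k + 1 =>
    match DPN o k with
    | (a, b, c, d) =>
      (fwtN o (k + 1) false false false * a + fwtN o (k + 1) false false true * b,
       fwtN o (k + 1) false true false * c + fwtN o (k + 1) false true true * d,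
       fwtN o (k + 1) true false false * a + fwtN o (k + 1) true false true * b,
       fwtN o (k + 1) true true false * c + fwtN o (k + 1) true true true * d)

/-- The scale. -/
def scale : ℕ → ℕ
  | 0 => 1
  | k + 1 => scale k * 2 ^ (k + 1)

theorem numN_cast {k : ℕ} (hk : 1 ≤ k) (a : Bool) : (numN o k a : ℝ) = 2 ^ k * fnum o (1 / 2) k a := by
  by_cases h1 : k = 1
  · subst h1
    cases o <;> cases a <;> norm_num [numN, fnum]
  have e2 : (2 : ℝ) ^ k * (1 / 2) ^ k = 1 := by rw [← mul_pow]; norm_num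
  rcases Nat.even_or_odd k with he | ho
  · have hm : k % 2 = 0 := Nat.even_iff.1 he
    cases a <;> simp only [numN, fnum, if_neg h1, if_pos hm, if_pos he, Bool.false_eq_true, if_false, if_true,
      Nat.cast_pow, Nat.cast_ofNat, Nat.cast_add, Nat.cast_one, mul_one]
    obtain ⟨m, rfl⟩ := he
    rw [show (m + m) / 2 = m by omega, mul_add, e2, pow_add, mul_assoc, ← mul_pow (2 : ℝ) (1 / 2) m]
    norm_num
  · have hm : ¬ k % 2 = 0 := by have := Nat.odd_iff.1 ho; omega
    have he : ¬ Even k := Nat.not_even_iff_odd.2 ho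
    cases a <;> simp only [numN, fnum, if_neg h1, if_neg hm, if_neg he, Bool.false_eq_true, if_false, if_true,
      Nat.cast_one, e2]
    rw [Nat.cast_sub Nat.one_le_two_pow, Nat.cast_pow, Nat.cast_ofNat, Nat.cast_one, mul_sub, mul_one, e2]

theorem fwtN_cast {k : ℕ} (hk : 1 ≤ k) (a p q : Bool) : (fwtN o k a p q : ℝ) = 2 ^ k * fwt o (1 / 2) k a p q := by
  have hd : decide (k % 2 = 0) = decide (Even k) := decide_eq_decide.2 Nat.even_iff.symm
  rw [fwtN, fwt, bitB, hd, ← mul_assoc, ← numN_cast hk]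
  push_cast
  rfl

theorem DPN_cast : ∀ K : ℕ,
    ((DPN o K).1 : ℝ) = scale K * DP o (1 / 2) K false false ∧
    ((DPN o K).2.1 : ℝ) = scale K * DP o (1 / 2) K false true ∧
    ((DPN o K).2.2.1 : ℝ) = scale K * DP o (1 / 2) K true false ∧
    ((DPN o K).2.2.2 : ℝ) = scale K * DP o (1 / 2) K true true := by
  intro K
  induction K with
  | zero => simp [DPN, DP, scale]
  | succ K ih =>
    obtain ⟨h1, h2, h3, h4⟩ := ih
    simp only [DPN, DP, scale, Nat.cast_add, Nat.cast_mul, Nat.cast_pow, Nat.cast_ofNat, h1, h2, h3, h4,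
      fwtN_cast (k := K + 1) (by omega)]
    refine ⟨?_, ?_, ?_, ?_⟩ <;> ring

/-- The scaled denominator. -/
def denN : ℕ → ℕ
  | 0 => 1
  | k + 1 => denN k * if k = 0 then 2 else 2 * (2 ^ k - 1)

theorem denN_cast : ∀ K : ℕ, (denN K : ℝ) = scale K * den (1 / 2) K := by
  intro K
  induction K with
  | zero => simp [denN, scale, den]
  | succ K ih =>
    rcases Nat.eq_zero_or_pos K with rfl | hK
    · simp [denN, scale, den]
    · rw [denN, scale, den_succ hK, if_neg hK.ne', Nat.cast_mul, ih, Nat.cast_mul, Nat.cast_mul,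
        Nat.cast_sub Nat.one_le_two_pow, Nat.cast_pow, Nat.cast_pow, Nat.cast_ofNat, Nat.cast_one]
      have e2 : (2 : ℝ) ^ K * (1 / 2) ^ K = 1 := by rw [← mul_pow]; norm_num
      linear_combination (2 * (scale K : ℝ) * den (1 / 2) K) * e2

theorem scale_pos : ∀ K, 0 < scale K
  | 0 => Nat.one_pos
  | k + 1 => Nat.mul_pos (scale_pos k) (Nat.two_pow_pos _)

theorem total_half_le {K num den' : ℕ}
    (h : den' * ((DPN o K).1 + (DPN o K).2.1 + (DPN o K).2.2.1 + (DPN o K).2.2.2) * 8192 ≤ num * denN K * 8189) :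
    (den' : ℝ) * total o (1 / 2) K ≤ num * (1 - 6 * (1 / 2) ^ 14) := by
  have h' : ((den' * ((DPN o K).1 + (DPN o K).2.1 + (DPN o K).2.2.1 + (DPN o K).2.2.2) * 8192 : ℕ) : ℝ) ≤
      ((num * denN K * 8189 : ℕ) : ℝ) := Nat.cast_le.2 h
  obtain ⟨h1, h2, h3, h4⟩ := DPN_cast (o := o) K
  push_cast at h'
  rw [h1, h2, h3, h4, denN_cast] at h'
  have hd : 0 < den (1 / 2) K := den_pos (by norm_num) le_rfl K
  have hs : (0 : ℝ) < scale K := Nat.cast_pos.2 (scale_pos K)
  rw [total, ← mul_div_assoc, div_le_iff₀ hd, tot, show (1 : ℝ) - 6 * (1 / 2) ^ 14 = 8189 / 8192 by norm_num]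
  nlinarith

theorem half_sp : 5 * ((DPN false 26).1 + (DPN false 26).2.1 + (DPN false 26).2.2.1 + (DPN false 26).2.2.2) * 8192 ≤
    76 * denN 26 * 8189 := by
  decide +kernel

theorem half_orth : 1 * ((DPN true 26).1 + (DPN true 26).2.1 + (DPN true 26).2.2.1 + (DPN true 26).2.2.2) * 8192 ≤
    26 * denN 26 * 8189 := by
  decide +kernel

/-- The bound for `y ≤ 1 / 4`. -/
theorem total_quarter_le (h0 : 0 ≤ y) (h1 : y ≤ 1 / 4) (K : ℕ) (hK : 1 ≤ K) : total o y K ≤ 10 := by
  have h2 : y ≤ 1 / 2 := by linarith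
  have hp : ∀ i, y ^ i ≤ (1 / 4 : ℝ) ^ i := fun i => pow_le_pow_left₀ h0 h1 i
  have hn : ∀ i, 0 ≤ y ^ i := fun i => pow_nonneg h0 i
  refine total_le_of h0 h2 (j := 3) (by norm_num) ?_ ?_ K hK
  · exact (hp 2).trans (by norm_num)
  have step : ∀ {k : ℕ} {c B : ℝ}, fnum o y (k + 1) false + 2 * fnum o y (k + 1) true ≤ c → 0 ≤ c →
      tot o y k ≤ B → tot o y (k + 1) ≤ c * B := fun {k c B} hc hc0 hB =>
    (tot_succ_le h0 h2 k).trans (mul_le_mul hc hB (tot_nonneg h0 h2 k) hc0)
  have e0 : tot o y 0 ≤ 1 := by simp [tot, DP]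
  have e1 : fnum o y 1 false + 2 * fnum o y 1 true ≤ 5 / 4 := by
    cases o <;> simp [fnum] <;> linarith
  have e2 : fnum o y 2 false + 2 * fnum o y 2 true ≤ 13 / 8 := by
    simp [fnum]; nlinarith [hp 2]
  have e3 : fnum o y 3 false + 2 * fnum o y 3 true ≤ 65 / 64 := by
    simp [fnum, show ¬ Even 3 by decide]; nlinarith [hp 3]
  have e4 : fnum o y 4 false + 2 * fnum o y 4 true ≤ 5 / 4 := by
    simp [fnum, show Even 4 by decide]; nlinarith [hp 2, hp 4]
  have e5 : fnum o y 5 false + 2 * fnum o y 5 true ≤ 65 / 64 := by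
    simp [fnum, show ¬ Even 5 by decide]; nlinarith [hp 5]
  have e6 : fnum o y 6 false + 2 * fnum o y 6 true ≤ 17 / 16 := by
    simp [fnum, show Even 6 by decide]; nlinarith [hp 3, hp 6]
  have ht := step e6 (by norm_num) (step e5 (by norm_num) (step e4 (by norm_num) (step e3 (by norm_num)
    (step e2 (by norm_num) (step e1 (by norm_num) e0)))))
  have hd : 2 / 3 ≤ den y 6 := by
    refine le_trans (b := ∏ i ∈ range (6 - 1), (1 - (1 / 4 : ℝ) ^ (i + 1))) ?_ (prod_le_prod (fun i _ => ?_) fun i _ => ?_)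
    · simp only [Finset.prod_range_succ, Finset.prod_range_zero]
      norm_num
    · have : (1 / 4 : ℝ) ^ (i + 1) ≤ 1 := pow_le_one₀ (by norm_num) (by norm_num)
      linarith
    · linarith [hp (i + 1)]
  have h4 := hp 4
  rw [show 2 * 3 = 6 from rfl, total, div_le_iff₀ (den_pos h0 h2 6)]
  norm_num at ht h4 ⊢
  nlinarith

theorem total_sp_le {q : ℕ} (hq : 2 ≤ q) (h3 : q = 2 ∨ 4 ≤ q) (K : ℕ) (hK : 1 ≤ K) :
    5 * total false ((q : ℝ)⁻¹) K ≤ 76 := by
  rcases h3 with rfl | h4
  · have h := total_half_le half_sp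
    have := total_le_of (o := false) (y := 1 / 2) (by norm_num) le_rfl (j := 13) (by norm_num) (by norm_num)
      (B := 76 / 5) (by rw [show 2 * 13 = 26 from rfl]; push_cast at h; linarith) K hK
    norm_num at this ⊢
    linarith
  · have := total_quarter_le (o := false) (y := (q : ℝ)⁻¹) (by positivity) (by
      rw [one_div]; gcongr; exact_mod_cast h4) K hK
    linarith

theorem total_orth_le {q : ℕ} (hq : 2 ≤ q) (h3 : q = 2 ∨ 4 ≤ q) (K : ℕ) (hK : 1 ≤ K) :
    total true ((q : ℝ)⁻¹) K ≤ 26 := by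
  rcases h3 with rfl | h4
  · have h := total_half_le half_orth
    have := total_le_of (o := true) (y := 1 / 2) (by norm_num) le_rfl (j := 13) (by norm_num) (by norm_num)
      (B := 26) (by rw [show 2 * 13 = 26 from rfl]; push_cast at h; linarith) K hK
    norm_num at this ⊢
    linarith
  · have := total_quarter_le (o := true) (y := (q : ℝ)⁻¹) (by positivity) (by
      rw [one_div]; gcongr; exact_mod_cast h4) K hK
    linarith

/-- The patterns without activity. -/
theorem inactive_le (h0 : 0 ≤ y) (h1 : y ≤ 1 / 2) (K : ℕ) : 1 / den y K ≤ 4 := by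
  rw [div_le_iff₀ (den_pos h0 h1 K), den]
  suffices key : ∀ n, (∏ i ∈ range 4, (1 - (1 / 2 : ℝ) ^ (i + 1))) * (1 - (1 / 16 - (1 / 2) ^ (4 + n))) ≤
      ∏ i ∈ range (4 + n), (1 - y ^ (i + 1)) by
    have hle : ∏ i ∈ range (4 + (K - 1)), (1 - y ^ (i + 1)) ≤ ∏ i ∈ range (K - 1), (1 - y ^ (i + 1)) := by
      rw [add_comm 4, prod_range_add]
      refine mul_le_of_le_one_right (prod_nonneg fun i _ => ?_) (prod_le_one (fun i _ => ?_) fun i _ => ?_)
      · have : y ^ (i + 1) ≤ 1 := pow_le_one₀ h0 (by linarith)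
        linarith
      · have : y ^ (K - 1 + i + 1) ≤ 1 := pow_le_one₀ h0 (by linarith)
        linarith
      · linarith [pow_nonneg h0 (K - 1 + i + 1)]
    have h := (key (K - 1)).trans hle
    have hu : (0 : ℝ) < (1 / 2) ^ (4 + (K - 1)) := by positivity
    simp only [prod_range_succ, prod_range_zero] at h
    norm_num at h
    nlinarith
  intro n
  induction n with
  | zero =>
    rw [add_zero, show (1 : ℝ) - (1 / 16 - (1 / 2) ^ 4) = 1 by norm_num, mul_one]
    exact prod_le_prod (fun i _ => by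
      have : (1 / 2 : ℝ) ^ (i + 1) ≤ 1 := pow_le_one₀ (by norm_num) (by norm_num)
      linarith) fun i _ => by linarith [pow_le_pow_left₀ h0 h1 (i + 1)]
  | succ n ih =>
    rw [← add_assoc, prod_range_succ _ (4 + n)]
    set u : ℝ := (1 / 2) ^ (4 + n) with hu
    have hu0 : 0 < u := by positivity
    have hu1 : u ≤ 1 / 16 := by
      calc u ≤ (1 / 2 : ℝ) ^ 4 := pow_le_pow_of_le_one (by norm_num) (by norm_num) (by omega)
        _ = _ := by norm_num
    have hy : y ^ (4 + n + 1) ≤ u / 2 := by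
      refine (pow_le_pow_left₀ h0 h1 _).trans_eq ?_
      rw [pow_succ, ← hu]; ring
    have hP : 0 ≤ ∏ i ∈ range 4, (1 - (1 / 2 : ℝ) ^ (i + 1)) := prod_nonneg fun i _ => by
      have : (1 / 2 : ℝ) ^ (i + 1) ≤ 1 := pow_le_one₀ (by norm_num) (by norm_num)
      linarith
    refine le_trans ?_ (mul_le_mul ih (show 1 - u / 2 ≤ 1 - y ^ (4 + n + 1) by linarith) (by linarith)
      (prod_nonneg fun i _ => ?_))
    · rw [pow_succ, ← hu, mul_assoc]
      refine mul_le_mul_of_nonneg_left ?_ hP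
      nlinarith
    · have : y ^ (i + 1) ≤ 1 := pow_le_one₀ h0 (by linarith)
      linarith

end Cfsg.Agent.Classical.IsometryTwo
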