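import Cfsg.Agent.Lib.Classical.IsometryTwoCode
import Cfsg.Agent.Lib.Classical.SympTwoNumeric
import Cfsg.Agent.Lib.Classical.SympClassCount

/-!
Counting elementary divisors with flags and bits in characteristic two.
-/

set_option autoImplicit false

namespace Cfsg.Agent.Classical.IsometryTwo

open Polynomial Module UniqueFactorizationMonoid
open Cfsg.Agent.Classical.SLClasses Cfsg.Agent.Classical.UnitClasses Cfsg.Agent.Classical.IsometryClasses
  Cfsg.Agent.UnitaryDetCentralizer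
open Cfsg.Agent.Classical.SympClasses (rd_coeff cdual_prod')

universe u

variable {F : Type u} [Field F]

attribute [local instance] Classical.propDecidable

theorem lo_eq_lev (o : Bool) : lo o = lev o := rfl

/-- The possible elementary divisors with flags. -/
def Good (F : Type u) [Field F] (n : ℕ) (p : Multiset (F[X] × ℕ) × Finset ℕ) : Prop :=
  (∀ x ∈ p.1, x.1.Monic ∧ Irreducible x.1 ∧ x.1.coeff 0 ≠ 0 ∧ 1 ≤ x.2) ∧
    (p.1.map fun x => x.2 * x.1.natDegree).sum = 2 * n ∧ p.1.map (cd (RingHom.id F)) = p.1 ∧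
    (∀ l ∈ p.2, Even l ∧ (f1 F, l) ∈ p.1) ∧ ∀ l, l ∉ p.2 → Even (p.1.count (f1 F, l))

/-- The number of linear parts recorded by the option. -/
def bOf (k : ℕ) (e : Fin 3) : ℕ := if Even k then (e : ℕ) else 0

/-- The shape of one part. -/
def PartRel (o : Bool) (p : Multiset (F[X] × ℕ) × Finset ℕ) (k m : ℕ) (e : Fin 3) (P : F[X]) : Prop :=
  P.Monic ∧ P.natDegree = 2 * m ∧ P.coeff 0 = 1 ∧ (∀ u ≤ 2 * m, P.coeff u = P.coeff (2 * m - u)) ∧
    part p.1 k = normalizedFactors P + Multiset.replicate (bOf k e) (f1 F) ∧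
    ((part p.1 k).map natDegree).sum = 2 * m + bOf k e ∧
    (e ≠ 0 ↔ Act o p.1 p.2 k) ∧ (¬ Even k → (e : ℕ) ≤ 1) ∧ (¬ Even k → e ≠ 0 → 1 ≤ m) ∧
    (¬ Even k → lev o ≤ k / 2 → 1 ≤ m → (e ≠ 0 ↔ P.coeff m = 0))

theorem eval_one_palindrome [CharP F 2] {P : F[X]} {m : ℕ} (hd : P.natDegree = 2 * m)
    (hs : ∀ u ≤ 2 * m, P.coeff u = P.coeff (2 * m - u)) : P.eval 1 = P.coeff m := by
  rw [eval_eq_sum_range, hd]
  simp only [one_pow, mul_one]
  rw [show 2 * m + 1 = m + (1 + m) by omega, Finset.sum_range_add, add_comm 1 m, Finset.sum_range_succ']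
  rw [show (∑ i ∈ Finset.range m, P.coeff (m + (i + 1))) = ∑ i ∈ Finset.range m, P.coeff i by
    rw [← Finset.sum_range_reflect]
    refine Finset.sum_congr rfl fun i hi => ?_
    have := Finset.mem_range.1 hi
    rw [hs i (by omega)]
    congr 1
    omega]
  rw [← add_assoc, CharTwo.add_self_eq_zero, zero_add, add_zero]

theorem even_degree [CharP F 2] {R : F[X]} (hs : rd R = R) (h0 : R.coeff 0 ≠ 0) (hm : R.Monic)
    (h1 : R.eval 1 ≠ 0) : R.coeff 0 = 1 ∧ Even R.natDegree := by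
  have hsym : ∀ u ≤ R.natDegree, R.coeff u = (R.coeff 0)⁻¹ * R.coeff (R.natDegree - u) := fun u hu => by
    conv_lhs => rw [← hs, rd, cdual, RingHom.id_apply, Polynomial.map_id, coeff_C_mul, coeff_reverse, revAt_le hu]
  have hsum : R.eval 1 = (R.coeff 0)⁻¹ * R.eval 1 := by
    rw [eval_eq_sum_range, Finset.mul_sum]
    simp only [one_pow, mul_one]
    conv_rhs => rw [← Finset.sum_range_reflect]
    refine Finset.sum_congr rfl fun u hu => ?_
    have hu' : u ≤ R.natDegree := by have := Finset.mem_range.1 hu; omega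
    rw [show R.natDegree + 1 - 1 - u = R.natDegree - u by omega, hsym u hu']
  have hc : R.coeff 0 = 1 := by
    have h := mul_right_cancel₀ h1 ((one_mul _).trans hsum)
    exact inv_eq_one.1 h.symm
  refine ⟨hc, Nat.not_odd_iff_even.1 fun ⟨i, hi⟩ => h1 ?_⟩
  rw [eval_eq_sum_range]
  simp only [one_pow, mul_one]
  rw [hi, show 2 * i + 1 + 1 = (i + 1) + (i + 1) by omega, Finset.sum_range_add,
    show (∑ x ∈ Finset.range (i + 1), R.coeff (i + 1 + x)) = ∑ x ∈ Finset.range (i + 1), R.coeff x by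
      rw [← Finset.sum_range_reflect]
      refine Finset.sum_congr rfl fun u hu => ?_
      have := Finset.mem_range.1 hu
      rw [hsym u (by omega), hc, inv_one, one_mul, hi]
      congr 1
      omega]
  exact CharTwo.add_self_eq_zero _

variable [Finite F] [CharP F 2] {o : Bool}

theorem part_rel {n : ℕ} (p : {p : Multiset (F[X] × ℕ) × Finset ℕ // Good F n p}) (k : ℕ) :
    ∃ (m : ℕ) (e : Fin 3) (P : F[X]), PartRel o p.1 k m e P := by
  obtain ⟨⟨S, Fl⟩, hmem, -, hself, hFl, hbal⟩ := p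
  dsimp only at hmem hself hFl hbal ⊢
  set M := part S k with hM
  have hMmem : ∀ f ∈ M, f.Monic ∧ Irreducible f ∧ f.coeff 0 ≠ 0 := fun f hf => by
    obtain ⟨x, hx, rfl⟩ := Multiset.mem_map.1 hf
    obtain ⟨a, b, c, -⟩ := hmem x (Multiset.mem_filter.1 hx).1
    exact ⟨a, b, c⟩
  have hMself : M.map rd = M := by
    rw [hM, part, Multiset.map_map]
    conv_rhs => rw [← hself, Multiset.filter_map, Multiset.map_map]
    rfl
  have hcount : ∀ f, M.count f = S.count (f, k) := fun f => by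
    rw [hM, ← Multiset.count_map_eq_count' (fun g => (g, k)) (part S k) (fun a b hab => congrArg Prod.fst hab),
      ← filter_eq_part, Multiset.count_filter_of_pos]
    rfl
  set a := M.count (f1 F) with ha
  -- the removed copies
  obtain ⟨e, a', ha', hea, he0, heo⟩ : ∃ (e : Fin 3) (a' : ℕ), Even a' ∧ a = bOf k e + a' ∧
      (e ≠ 0 ↔ Act o S Fl k) ∧ (¬ Even k → (e : ℕ) ≤ 1) := by
    have hak : k ∉ Fl → Even a := fun h => by rw [ha, hcount]; exact hbal k h
    by_cases hk : Even k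
    · by_cases hkF : k ∈ Fl
      · have h1 : 1 ≤ a := by rw [ha, hcount]; exact Multiset.count_pos.2 (hFl k hkF).2
        rcases Nat.even_or_odd a with ⟨c, hc⟩ | ⟨c, hc⟩
        · exact ⟨2, a - 2, ⟨c - 1, by omega⟩, by rw [bOf, if_pos hk]; simp; omega,
            iff_of_true (by decide) ((act_even hk).2 hkF), fun h => absurd hk h⟩
        · exact ⟨1, a - 1, ⟨c, by omega⟩, by rw [bOf, if_pos hk]; simp; omega,
            iff_of_true (by decide) ((act_even hk).2 hkF), fun h => absurd hk h⟩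
      · exact ⟨0, a, hak hkF, by rw [bOf, if_pos hk]; simp,
          iff_of_false (by decide) fun h => hkF ((act_even hk).1 h), fun h => absurd hk h⟩
    · have hkF : k ∉ Fl := fun h => hk (hFl k h).1
      by_cases hA : Act o S Fl k
      · exact ⟨1, a, hak hkF, by rw [bOf, if_neg hk, zero_add], iff_of_true (by decide) hA, fun _ => le_rfl⟩
      · exact ⟨0, a, hak hkF, by rw [bOf, if_neg hk, zero_add], iff_of_false (by decide) hA, fun _ => Nat.zero_le _⟩
  -- the rest
  set R := M.filter fun f => f ≠ f1 F with hR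
  have hdecomp : M = R + Multiset.replicate a (f1 F) := by
    refine Multiset.ext.2 fun f => ?_
    rw [Multiset.count_add, Multiset.count_replicate, hR, Multiset.count_filter]
    by_cases hf1 : f = f1 F
    · subst hf1; rw [if_neg (fun h => h rfl), if_pos rfl, zero_add]
    · rw [if_pos hf1, if_neg (Ne.symm hf1), add_zero]
  have hRself : R.map rd = R := by
    rw [hR]
    conv_rhs => rw [← hMself, Multiset.filter_map]
    refine congrArg _ (Multiset.filter_congr fun f hf => ?_)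
    obtain ⟨b, -, c⟩ := hMmem f hf
    refine not_congr ⟨fun h => by rw [h]; exact rd_f1, fun h => ?_⟩
    rw [← cdual_cdual (RingHom.id F) (fun _ => rfl) b c, ← rd, ← rd, show rd f = f1 F from h]
    exact rd_f1
  have hRmem : ∀ f ∈ R, f.Monic ∧ Irreducible f := fun f hf =>
    ⟨(hMmem f (Multiset.mem_of_mem_filter hf)).1, (hMmem f (Multiset.mem_of_mem_filter hf)).2.1⟩
  have hReval : R.prod.eval 1 ≠ 0 := fun h => by
    obtain ⟨f, hf, hf0⟩ : ∃ f ∈ R, f.eval 1 = 0 := by
      rw [eval_multiset_prod, Multiset.prod_eq_zero_iff] at h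
      simpa using h
    obtain ⟨hfm, hfi⟩ := hRmem f hf
    exact (Multiset.mem_filter.1 hf).2 (eq_of_monic_of_associated hfm (monic_X_sub_C 1)
      ((irreducible_X_sub_C 1).associated_of_dvd hfi (dvd_iff_isRoot.2 hf0)).symm)
  have hRm : R.prod.Monic := by
    have := monic_multiset_prod_of_monic R (fun f => f) fun f hf => (hRmem f hf).1
    rwa [Multiset.map_id'] at this
  have hR00 : R.prod.coeff 0 ≠ 0 := by
    rw [coeff_zero_eq_eval_zero, eval_multiset_prod]
    intro h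
    obtain ⟨f, hf, hf0⟩ := Multiset.mem_map.1 (Multiset.prod_eq_zero_iff.1 h)
    exact (hMmem f (Multiset.mem_of_mem_filter hf)).2.2 (by rwa [coeff_zero_eq_eval_zero])
  have hRrd : rd R.prod = R.prod := by rw [cdual_prod', hRself]
  obtain ⟨hR0, hRev⟩ := even_degree hRrd hR00 hRm hReval
  set M' := R + Multiset.replicate a' (f1 F) with hM'
  have hM'mem : ∀ f ∈ M', f.Monic ∧ Irreducible f := fun f hf => by
    rcases Multiset.mem_add.1 hf with hf | hf
    · exact hRmem f hf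
    · rw [Multiset.eq_of_mem_replicate hf]; exact ⟨monic_X_sub_C _, irreducible_f1⟩
  have hPm : M'.prod.Monic := by
    have := monic_multiset_prod_of_monic M' (fun f => f) fun f hf => (hM'mem f hf).1
    rwa [Multiset.map_id'] at this
  have hP : M'.prod = R.prod * f1 F ^ a' := by
    rw [hM', Multiset.prod_add, Multiset.prod_replicate]
  have hPd : M'.prod.natDegree = R.prod.natDegree + a' := by
    rw [hP, hRm.natDegree_mul (monic_f1 a'), natDegree_pow, natDegree_X_sub_C, mul_one]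
  have hP0 : M'.prod.coeff 0 = 1 := by
    rw [hP, mul_coeff_zero, hR0, one_mul, coeff_zero_eq_eval_zero]
    simp [ha'.neg_one_pow]
  have hPrd : rd M'.prod = M'.prod := by
    rw [hP]
    conv_lhs => rw [rd, cdual_mul, cdual_pow, ← rd, ← rd, hRrd, rd_f1]
  obtain ⟨m, hm⟩ : ∃ m, M'.prod.natDegree = 2 * m := by
    rw [hPd]; exact (hRev.add ha').two_dvd
  have hsymm : ∀ u ≤ 2 * m, M'.prod.coeff u = M'.prod.coeff (2 * m - u) := fun u hu => by
    rw [← hm] at hu ⊢
    conv_lhs => rw [← hPrd, rd_coeff hP0 hu]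
  have hnf : normalizedFactors M'.prod = M' := by
    rw [normalizedFactors_prod_eq _ fun f hf => (hM'mem f hf).2]
    conv_rhs => rw [← Multiset.map_id' M']
    exact Multiset.map_congr rfl fun f hf => (hM'mem f hf).1.normalize_eq_self
  have hsum : (M.map natDegree).sum = R.prod.natDegree + a := by
    conv_lhs => rw [hdecomp]
    rw [Multiset.map_add, Multiset.sum_add, Multiset.map_replicate, Multiset.sum_replicate, natDegree_X_sub_C,
      smul_eq_mul, mul_one, natDegree_multiset_prod_of_monic _ fun f hf => (hRmem f hf).1]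
  have hb : ¬ Even k → bOf k e = 0 := fun h => if_neg h
  have hroot : M'.prod.eval 1 = 0 ↔ a' ≠ 0 := by
    rw [hP, eval_mul, mul_eq_zero, eval_pow, eval_sub, eval_X, eval_C, sub_self]
    constructor
    · rintro (h | h) h0
      · exact hReval h
      · rw [h0, pow_zero] at h; exact one_ne_zero h
    · exact fun h => Or.inr (zero_pow h)
  refine ⟨m, e, M'.prod, hPm, hm, hP0, hsymm, ?_, ?_, he0, heo, ?_, ?_⟩
  · rw [hnf, hM']
    conv_lhs => rw [← hM, hdecomp, hea, add_comm (bOf k e), Multiset.replicate_add, ← add_assoc]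
  · rw [hsum, hea, ← hm, hPd]; omega
  · intro hk hne
    have h1 : 1 ≤ a := by
      rw [ha, hcount]
      exact Multiset.count_pos.2 ((act_odd hk).1 (he0.1 hne)).2
    rw [hea, hb hk] at h1
    rw [hPd] at hm
    omega
  · intro hk hlev _
    rw [← eval_one_palindrome hm hsymm, hroot, he0, act_odd hk, ← Multiset.count_pos, ← hcount, ← ha, hea, hb hk,
      lo_eq_lev]
    constructor
    · exact fun h => by omega
    · exact fun h => ⟨hlev, by omega⟩

/-! ## Shapes -/

/-- Shapes. -/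
abbrev Cfg (n : ℕ) : Type := Fin (2 * n) → Fin (2 * n + 1) × Fin 3

/-- The activity pattern of a shape. -/
def actC {n : ℕ} (c : Cfg n) : Fin (2 * n) → Bool := fun i => decide ((c i).2 ≠ 0)

/-- The bits of a pattern. -/
def bitsC (o : Bool) {K : ℕ} (a : Fin K → Bool) : Finset (Fin K) :=
  Finset.univ.filter fun i : Fin K => bitB o ((i : ℕ) + 1) (ext a ((i : ℕ) + 1)) (ext a (i : ℕ)) (ext a ((i : ℕ) - 1)) = true

/-- A valid shape. -/
def Valid (o : Bool) (n : ℕ) (c : Cfg n) : Prop :=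
  (∑ i : Fin (2 * n), ((i : ℕ) + 1) * (2 * ((c i).1 : ℕ) + bOf ((i : ℕ) + 1) (c i).2) = 2 * n) ∧
    ∀ i : Fin (2 * n), ¬ Even ((i : ℕ) + 1) →
      ((c i).2 : ℕ) ≤ 1 ∧ ((c i).2 ≠ 0 → lev o ≤ ((i : ℕ) + 1) / 2 ∧ 1 ≤ ((c i).1 : ℕ))

/-- The free coefficients. -/
def Coef (o : Bool) (F : Type u) [Field F] (k m : ℕ) (e : Fin 3) : Type u :=
  {c : Fin m → F // ∀ h : ¬ Even k ∧ lev o ≤ k / 2 ∧ 1 ≤ m, e ≠ 0 ↔ c ⟨m - 1, by have := h.2.2; omega⟩ = 0}

/-- Elementary divisors with flags, weighted by a function of the bits. -/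
abbrev Lbl (o : Bool) (F : Type u) [Field F] (n : ℕ) (φ : ℕ → ℕ) : Type u :=
  Σ p : {p : Multiset (F[X] × ℕ) × Finset ℕ // Good F n p}, Fin (φ (bits o p.1.1 p.1.2).card)

omit [Finite F] [CharP F 2] in
theorem part_sum {n : ℕ} {p : Multiset (F[X] × ℕ) × Finset ℕ} (hS : Good F n p) :
    ∑ i : Fin (2 * n), ((i : ℕ) + 1) * ((part p.1 ((i : ℕ) + 1)).map natDegree).sum = 2 * n := by
  obtain ⟨hmem, hsum, -⟩ := hS
  have hle : ∀ x ∈ p.1, 1 ≤ x.2 ∧ x.2 ≤ 2 * n := fun x hx => by
    obtain ⟨-, hi, -, hk⟩ := hmem x hx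
    refine ⟨hk, le_trans ?_ (hsum ▸ Multiset.le_sum_of_mem (Multiset.mem_map_of_mem _ hx))⟩
    exact Nat.le_mul_of_pos_right _ hi.natDegree_pos
  conv_rhs => rw [← hsum]
  rw [Fin.sum_univ_eq_sum_range (fun i => (i + 1) * ((part p.1 (i + 1)).map natDegree).sum) (2 * n)]
  have key : ∀ T : Multiset (F[X] × ℕ), (∀ x ∈ T, 1 ≤ x.2 ∧ x.2 ≤ 2 * n) →
      ∑ i ∈ Finset.range (2 * n), (i + 1) * ((part T (i + 1)).map natDegree).sum =
        (T.map fun x => x.2 * x.1.natDegree).sum := by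
    intro T hT
    induction T using Multiset.induction with
    | empty => simp [part]
    | cons x T ih =>
      have h1 : ∀ i, ((part (x ::ₘ T) (i + 1)).map natDegree).sum =
          (if x.2 = i + 1 then x.1.natDegree else 0) + ((part T (i + 1)).map natDegree).sum := fun i => by
        by_cases hx : x.2 = i + 1
        · rw [part, Multiset.filter_cons_of_pos (p := fun y : F[X] × ℕ => y.2 = i + 1) T hx, if_pos hx]; simp [part]
        · rw [part, Multiset.filter_cons_of_neg (p := fun y : F[X] × ℕ => y.2 = i + 1) T hx, if_neg hx]; simp [part]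
      simp only [h1, mul_add, Finset.sum_add_distrib, ih fun y hy => hT y (Multiset.mem_cons_of_mem hy),
        Multiset.map_cons, Multiset.sum_cons, add_left_inj]
      obtain ⟨hx1, hx2⟩ := hT x (Multiset.mem_cons_self _ _)
      rw [Finset.sum_eq_single (x.2 - 1), if_pos (by omega), show x.2 - 1 + 1 = x.2 by omega]
      · intro i _ hi; rw [if_neg (by omega), mul_zero]
      · intro hi; exact absurd (Finset.mem_range.2 (by omega)) hi
  exact key p.1 hle

/-- Labels are determined by their shapes and half of the coefficients of each part. -/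
theorem exists_encode (n : ℕ) (φ : ℕ → ℕ) :
    ∃ ψ : Lbl o F n φ → Σ c : {c : Cfg n // Valid o n c},
        Fin (φ (bitsC o (actC c.1)).card) × ∀ i : Fin (2 * n), Coef o F ((i : ℕ) + 1) ((c.1 i).1 : ℕ) (c.1 i).2,
      Function.Injective ψ := by
  choose m e P hR using part_rel (F := F) (o := o) (n := n)
  have hsum : ∀ p : {p : Multiset (F[X] × ℕ) × Finset ℕ // Good F n p},
      ∑ i : Fin (2 * n), ((i : ℕ) + 1) * (2 * m p ((i : ℕ) + 1) + bOf ((i : ℕ) + 1) (e p ((i : ℕ) + 1))) = 2 * n := by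
    intro p
    refine Eq.trans (Finset.sum_congr rfl fun i _ => ?_) (part_sum p.2)
    rw [(hR p ((i : ℕ) + 1)).2.2.2.2.2.1]
  have hlt : ∀ p (i : Fin (2 * n)), m p ((i : ℕ) + 1) < 2 * n + 1 := fun p i => by
    have h1 := Finset.single_le_sum (f := fun i : Fin (2 * n) => ((i : ℕ) + 1) * (2 * m p ((i : ℕ) + 1) + bOf ((i : ℕ) + 1) (e p ((i : ℕ) + 1))))
      (fun i _ => Nat.zero_le _) (Finset.mem_univ i)
    rw [hsum p] at h1
    have h3 := Nat.le_mul_of_pos_left (2 * m p ((i : ℕ) + 1) + bOf ((i : ℕ) + 1) (e p ((i : ℕ) + 1))) (Nat.succ_pos (i : ℕ))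
    rw [Nat.succ_eq_add_one] at h3
    omega
  let cf : {p : Multiset (F[X] × ℕ) × Finset ℕ // Good F n p} → {c : Cfg n // Valid o n c} := fun p =>
    ⟨fun i => (⟨m p ((i : ℕ) + 1), hlt p i⟩, e p ((i : ℕ) + 1)), hsum p, fun i hi => by
      obtain ⟨-, -, -, -, -, -, h7, h8, h9, -⟩ := hR p ((i : ℕ) + 1)
      exact ⟨h8 hi, fun hne => ⟨((act_odd hi).1 (h7.1 hne)).1, h9 hi hne⟩⟩⟩
  have hrange : ∀ p : {p : Multiset (F[X] × ℕ) × Finset ℕ // Good F n p}, ∀ x ∈ p.1.1, 1 ≤ x.2 ∧ x.2 ≤ 2 * n := by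
    intro p x hx
    obtain ⟨-, hi, -, hk⟩ := p.2.1 x hx
    exact ⟨hk, le_trans (Nat.le_mul_of_pos_right _ hi.natDegree_pos)
      ((Multiset.le_sum_of_mem (Multiset.mem_map_of_mem (fun y : F[X] × ℕ => y.2 * y.1.natDegree) hx)).trans_eq p.2.2.1)⟩
  have hact : ∀ p j, ext (actC (cf p).1) j = true ↔ Act o p.1.1 p.1.2 j := fun p j => by
    by_cases hj : 1 ≤ j ∧ j ≤ 2 * n
    · rw [ext, dif_pos hj]
      simp only [actC, cf, decide_eq_true_eq]
      rw [show j - 1 + 1 = j by omega]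
      exact (hR p j).2.2.2.2.2.2.1
    · rw [ext, dif_neg hj]
      refine iff_of_false Bool.false_ne_true fun h => hj ?_
      by_cases he : Even j
      · exact hrange p (f1 F, j) (p.2.2.2.2.1 j ((act_even he).1 h)).2
      · exact hrange p (f1 F, j) ((act_odd he).1 h).2
  have hbits : ∀ p : {p : Multiset (F[X] × ℕ) × Finset ℕ // Good F n p},
      (bits o p.1.1 p.1.2).card = (bitsC o (actC (cf p).1)).card := fun p => by
    have hbit : ∀ k, Bit o p.1.1 p.1.2 k ↔
        bitB o k (ext (actC (cf p).1) k) (ext (actC (cf p).1) (k - 1)) (ext (actC (cf p).1) (k - 2)) = true := fun k => by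
      simp only [Bit, bitB, Bool.and_eq_true, decide_eq_true_eq, Bool.not_eq_true', ← hact p, lo_eq_lev]
      cases ext (actC (cf p).1) k <;> cases ext (actC (cf p).1) (k - 1) <;> cases ext (actC (cf p).1) (k - 2) <;>
        by_cases hk : Even k <;> simp [hk]
    refine (Finset.card_bij (fun (i : Fin (2 * n)) _ => (i : ℕ) + 1) (fun i hi => ?_)
      (fun i _ i' _ h => Fin.ext (Nat.add_right_cancel h)) fun k hk => ?_).symm
    · simp only [bitsC, Finset.mem_filter, Finset.mem_univ, true_and] at hi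
      have hb : Bit o p.1.1 p.1.2 ((i : ℕ) + 1) := by
        rw [hbit, show (i : ℕ) + 1 - 1 = (i : ℕ) by omega, show (i : ℕ) + 1 - 2 = (i : ℕ) - 1 by omega]
        exact hi
      refine Finset.mem_filter.2 ⟨mem_exps.2 ?_, hb⟩
      by_cases he : Even ((i : ℕ) + 1)
      · exact (p.2.2.2.2.1 _ ((act_even he).1 hb.1)).2
      · exact ((act_odd he).1 hb.1).2
    · obtain ⟨hk1, hk2⟩ := Finset.mem_filter.1 hk
      obtain ⟨h1, h2⟩ := hrange p _ (mem_exps.1 hk1)
      dsimp only at h1 h2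
      refine ⟨⟨k - 1, by omega⟩, ?_, by simp; omega⟩
      simp only [bitsC, Finset.mem_filter, Finset.mem_univ, true_and]
      rw [hbit] at hk2
      rwa [show k - 1 + 1 = k by omega, show k - 1 - 1 = k - 2 by omega]
  let coef : ∀ p (i : Fin (2 * n)), Coef o F ((i : ℕ) + 1) (m p ((i : ℕ) + 1)) (e p ((i : ℕ) + 1)) := fun p i =>
    ⟨fun t => (P p ((i : ℕ) + 1)).coeff ((t : ℕ) + 1), fun h => by
      obtain ⟨-, -, -, -, -, -, -, -, -, h10⟩ := hR p ((i : ℕ) + 1)
      rw [h10 h.1 h.2.1 h.2.2]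
      show _ ↔ (P p ((i : ℕ) + 1)).coeff (m p ((i : ℕ) + 1) - 1 + 1) = 0
      rw [Nat.sub_add_cancel h.2.2]⟩
  refine ⟨fun p => ⟨cf p.1, ⟨Fin.cast (congrArg φ (hbits p.1)) p.2, coef p.1⟩⟩, fun p p' hpp => ?_⟩
  obtain ⟨p, x⟩ := p
  obtain ⟨p', x'⟩ := p'
  have hc := congrArg (fun z => z.1.1) hpp
  have hshape : ∀ i : Fin (2 * n), m p ((i : ℕ) + 1) = m p' ((i : ℕ) + 1) ∧ e p ((i : ℕ) + 1) = e p' ((i : ℕ) + 1) := fun i => by
    have h := congrFun hc i
    exact ⟨congrArg (fun z => (z.1 : ℕ)) h, congrArg Prod.snd h⟩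
  have hcoeff : ∀ (i : Fin (2 * n)) (t : ℕ), t < m p ((i : ℕ) + 1) →
      (P p ((i : ℕ) + 1)).coeff (t + 1) = (P p' ((i : ℕ) + 1)).coeff (t + 1) := fun i t ht => by
    have h := congrArg (fun (z : Σ c : {c : Cfg n // Valid o n c},
        Fin (φ (bitsC o (actC c.1)).card) × ∀ i : Fin (2 * n), Coef o F ((i : ℕ) + 1) ((c.1 i).1 : ℕ) (c.1 i).2) =>
      if h : t < ((z.1.1 i).1 : ℕ) then (z.2.2 i).1 ⟨t, h⟩ else 0) hpp
    simpa [cf, coef, ht, (hshape i).1 ▸ ht] using h
  have hP : ∀ i : Fin (2 * n), P p ((i : ℕ) + 1) = P p' ((i : ℕ) + 1) := fun i => by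
    obtain ⟨-, hd, h0, hs, -⟩ := hR p ((i : ℕ) + 1)
    obtain ⟨-, hd', h0', hs', -⟩ := hR p' ((i : ℕ) + 1)
    rw [← (hshape i).1] at hd' hs'
    set M := m p ((i : ℕ) + 1)
    have hlow : ∀ u ≤ M, (P p ((i : ℕ) + 1)).coeff u = (P p' ((i : ℕ) + 1)).coeff u := fun u hu => by
      rcases u with _ | t
      · rw [h0, h0']
      · exact hcoeff i t (by omega)
    refine Polynomial.ext fun u => ?_
    rcases lt_or_ge (2 * M) u with hu | hu
    · rw [coeff_eq_zero_of_natDegree_lt (hd.trans_lt hu), coeff_eq_zero_of_natDegree_lt (hd'.trans_lt hu)]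
    rcases le_or_gt u M with hu' | hu'
    · exact hlow u hu'
    · rw [hs u hu, hs' u hu, hlow _ (by omega)]
  have hpart : ∀ i : Fin (2 * n), part p.1.1 ((i : ℕ) + 1) = part p'.1.1 ((i : ℕ) + 1) := fun i => by
    have a := (hR p ((i : ℕ) + 1)).2.2.2.2.1
    have b := (hR p' ((i : ℕ) + 1)).2.2.2.2.1
    rw [← hP i, ← (hshape i).2] at b
    exact a.trans b.symm
  have hSS : p.1.1 = p'.1.1 := Multiset.ext.2 fun x => by
    by_cases hx : ∃ i : Fin (2 * n), x.2 = (i : ℕ) + 1
    · obtain ⟨i, hi⟩ := hx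
      rw [← Multiset.count_filter_of_pos (p := fun y : F[X] × ℕ => y.2 = (i : ℕ) + 1) (s := p.1.1) hi,
        ← Multiset.count_filter_of_pos (p := fun y : F[X] × ℕ => y.2 = (i : ℕ) + 1) (s := p'.1.1) hi,
        filter_eq_part, filter_eq_part, hpart i]
    · have key : ∀ q : {p : Multiset (F[X] × ℕ) × Finset ℕ // Good F n p}, x ∉ q.1.1 := fun q h => by
        obtain ⟨h1, h2⟩ := hrange q x h
        exact hx ⟨⟨x.2 - 1, by omega⟩, by simp; omega⟩
      rw [Multiset.count_eq_zero.2 (key p), Multiset.count_eq_zero.2 (key p')]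
  have hFF : p.1.2 = p'.1.2 := Finset.ext fun l => by
    by_cases he : Even l
    · rw [← act_even (o := o) (S := p.1.1) he, ← act_even (o := o) (S := p'.1.1) he, ← hact, ← hact, hc]
    · exact iff_of_false (fun h => he (p.2.2.2.2.1 l h).1) (fun h => he (p'.2.2.2.2.1 l h).1)
  obtain rfl : p = p' := Subtype.ext (Prod.ext hSS hFF)
  have hx := congrArg (fun z => (z.2.1 : ℕ)) hpp
  exact Sigma.ext rfl (heq_of_eq (Fin.ext hx))

theorem card_Coef [Fintype F] (k m : ℕ) (e : Fin 3) :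
    (Nat.card (Coef o F k m e) : ℝ) = (Fintype.card F : ℝ) ^ m *
      (if ¬ Even k ∧ lev o ≤ k / 2 ∧ 1 ≤ m then (if e ≠ 0 then (Fintype.card F : ℝ)⁻¹ else 1 - (Fintype.card F : ℝ)⁻¹)
        else 1) := by
  classical
  have hq : (Fintype.card F : ℝ) ≠ 0 := Nat.cast_ne_zero.2 Fintype.card_ne_zero
  by_cases h : ¬ Even k ∧ lev o ≤ k / 2 ∧ 1 ≤ m
  swap
  · rw [if_neg h, mul_one, Coef, Nat.card_congr (Equiv.subtypeUnivEquiv
      (p := fun c : Fin m → F => ∀ h : ¬ Even k ∧ lev o ≤ k / 2 ∧ 1 ≤ m, e ≠ 0 ↔ c ⟨m - 1, by have := h.2.2; omega⟩ = 0)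
      fun c h' => absurd h' h)]
    simp
  rw [if_pos h]
  obtain ⟨l, rfl⟩ : ∃ l, m = l + 1 := ⟨m - 1, by have := h.2.2; omega⟩
  let E : Coef o F k (l + 1) e ≃ {z : F // e ≠ 0 ↔ z = 0} × (Fin l → F) :=
    { toFun := fun c => ⟨⟨c.1 (Fin.last l), c.2 h⟩, Fin.init c.1⟩
      invFun := fun z => ⟨Fin.snoc z.2 z.1.1, fun _ => by
        have := z.1.2
        rwa [show (⟨l + 1 - 1, by omega⟩ : Fin (l + 1)) = Fin.last l from Fin.ext (by simp),
          Fin.snoc_last]⟩
      left_inv := fun c => Subtype.ext (Fin.snoc_init_self c.1)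
      right_inv := fun z => by simp }
  rw [Nat.card_congr E, Nat.card_prod]
  have hfun : Nat.card (Fin l → F) = Fintype.card F ^ l := by simp
  rw [hfun]
  by_cases he : e ≠ 0
  · rw [if_pos he, show Nat.card {z : F // e ≠ 0 ↔ z = 0} = 1 by
      rw [Nat.card_congr (Equiv.subtypeEquivRight (q := fun z => z = 0) fun z => ⟨fun h => h.1 he, fun h => iff_of_true he h⟩)]
      simp]
    push_cast
    rw [pow_succ, mul_assoc, mul_inv_cancel₀ hq, mul_one, one_mul]
  · rw [if_neg he, show Nat.card {z : F // e ≠ 0 ↔ z = 0} = Fintype.card F - 1 by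
      rw [Nat.card_congr (Equiv.subtypeEquivRight (q := fun z => z ≠ 0) fun z =>
        ⟨fun h h0 => he (h.2 h0), fun h => iff_of_false he h⟩), Nat.card_eq_fintype_card,
        Fintype.card_subtype_compl, Fintype.card_subtype_eq]]
    rw [Nat.cast_mul, Nat.cast_sub Fintype.card_pos, Nat.cast_pow, Nat.cast_one, pow_succ]
    field_simp

end Cfsg.Agent.Classical.IsometryTwo
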