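import Cfsg.Agent.Lib.Classical.SympClassCount

/-!
The cyclic form of a palindromic polynomial in characteristic two.
-/

set_option autoImplicit false

namespace Cfsg.Agent.Classical.IsometryTwo

open Polynomial Module Matrix Cfsg.Agent.Classical Cfsg.Agent.Classical.SLClasses Cfsg.Agent.Classical.UnitClasses
  Cfsg.Agent.Classical.IsometryClasses Cfsg.Agent.UnitaryDetCentralizer

universe u

variable {F : Type u} [Field F] {n : ℕ}

attribute [local instance] Classical.propDecidable

/-- The form data of a cyclic module. -/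
structure Cyc (P : F[X]) (n : ℕ) where
  w : AdjoinRoot P
  τ : AdjoinRoot P →ₐ[F] AdjoinRoot P
  φ : AdjoinRoot P →ₗ[F] F
  zw : AdjoinRoot.root P * w = 1
  τz : τ (AdjoinRoot.root P) = w
  ττ : ∀ a, τ (τ a) = a
  faith : Faithful φ
  low : ∀ m < n, φ (AdjoinRoot.root P ^ m) = 0
  at_n : φ (AdjoinRoot.root P ^ n) = 1
  φτ : ∀ c, φ (τ c) = φ c

theorem exists_cyc [Finite F] [CharP F 2] {P : F[X]} (hP : P.Monic) (hn : 1 ≤ n) (hd : P.natDegree = 2 * n)
    (h0 : P.coeff 0 = 1) (hs : rd P = P) : Nonempty (Cyc P n) := by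
  classical
  have hP0 : P.coeff 0 ≠ 0 := by rw [h0]; exact one_ne_zero
  have h : aeval (rinv P) P = 0 := by
    have := aeval_rinv_cdual hP0
    rwa [← rd, hs] at this
  set τ := dmap P P h with hτ
  set z := AdjoinRoot.root P with hz
  set w := rinv P with hw
  have hzw : z * w = 1 := root_mul_rinv hP0
  have hττ : ∀ a, τ (τ a) = a := dmap_dmap hP0 hP0 h h
  have hτz : τ z = w := dmap_root h
  let top : AdjoinRoot P →ₗ[F] F := (Polynomial.lcoeff F (2 * n - 1)).comp (AdjoinRoot.modByMonicHom hP)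
  have hmk : ∀ R : F[X], R.natDegree < 2 * n → top (AdjoinRoot.mk P R) = R.coeff (2 * n - 1) := fun R hR => by
    show (AdjoinRoot.modByMonicHom hP (AdjoinRoot.mk P R)).coeff _ = _
    rw [AdjoinRoot.modByMonicHom_mk hP, (Polynomial.modByMonic_eq_self_iff hP).2]
    exact degree_lt_degree (hd ▸ hR)
  have htop : ∀ j : ℕ, j < 2 * n → top (z ^ j) = if j = 2 * n - 1 then 1 else 0 := fun j hj => by
    rw [hz, ← AdjoinRoot.mk_X, ← map_pow, hmk _ (by rw [natDegree_X_pow]; exact hj), coeff_X_pow]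
    split_ifs with h1 h2 h2 <;> first | rfl | omega
  let φ : AdjoinRoot P →ₗ[F] F := top.comp (LinearMap.mulLeft F (z ^ (n - 1)))
  have hφd : ∀ c, φ c = top (z ^ (n - 1) * c) := fun c => rfl
  have hφ : Faithful φ := fun a ha => by
    obtain ⟨R, hR⟩ := AdjoinRoot.mk_surjective (z ^ (n - 1) * a)
    have hz' : z ^ (n - 1) * a = 0 := by
      rw [← hR, AdjoinRoot.mk_eq_mk.2 (show P ∣ R - R %ₘ P from ⟨R /ₘ P, by linear_combination -(modByMonic_add_div R P)⟩)]
      by_contra hne
      have hr0 : R %ₘ P ≠ 0 := fun h1 => hne (by rw [h1, map_zero])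
      have hlt : (R %ₘ P).natDegree < 2 * n := hd ▸ natDegree_modByMonic_lt R hP (fun h1 => by
        rw [h1, natDegree_one] at hd; omega)
      have h1 := ha (z ^ (2 * n - 1 - (R %ₘ P).natDegree))
      rw [hφd, mul_left_comm, ← hR,
        AdjoinRoot.mk_eq_mk.2 (show P ∣ R - R %ₘ P from ⟨R /ₘ P, by linear_combination -(modByMonic_add_div R P)⟩),
        hz, ← AdjoinRoot.mk_X, ← map_pow, ← map_mul, hmk _ (by
          rw [natDegree_mul (pow_ne_zero _ X_ne_zero) hr0, natDegree_X_pow]; omega),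
        show 2 * n - 1 = (R %ₘ P).natDegree + (2 * n - 1 - (R %ₘ P).natDegree) by omega,
        Nat.add_sub_cancel_left, coeff_X_pow_mul] at h1
      exact hr0 (leadingCoeff_eq_zero.1 h1)
    calc a = w ^ (n - 1) * (z ^ (n - 1) * a) := by rw [← mul_assoc, ← mul_pow, mul_comm w, hzw, one_pow, one_mul]
      _ = 0 := by rw [hz', mul_zero]
  have hzwp : ∀ a b : ℕ, z ^ (a + b) * w ^ a = z ^ b := fun a b => by
    rw [add_comm, pow_add, mul_assoc, ← mul_pow, hzw, one_pow, mul_one]
  have hanti : ∀ c, φ (τ c) = -φ c := by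
    suffices key : φ.comp τ.toLinearMap = -φ from fun c => LinearMap.congr_fun key c
    have hunit : Function.Surjective (LinearMap.mulLeft F (w ^ (n - 1)) : AdjoinRoot P →ₗ[F] AdjoinRoot P) :=
      fun c => ⟨z ^ (n - 1) * c, by simp [← mul_assoc, ← mul_pow, mul_comm w, hzw]⟩
    refine LinearMap.cancel_right hunit |>.1 (Module.Basis.ext (AdjoinRoot.powerBasis' hP).basis fun i => ?_)
    have hi : (i : ℕ) < 2 * n := lt_of_lt_of_eq i.2 ((AdjoinRoot.powerBasis'_dim hP).trans hd)
    simp only [LinearMap.comp_apply, LinearMap.neg_apply, LinearMap.mulLeft_apply, PowerBasis.coe_basis,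
      AdjoinRoot.powerBasis'_gen, AlgHom.toLinearMap_apply, hφd]
    rw [← hz, map_mul τ, map_pow τ, map_pow τ, hτz, show τ w = z from (congrArg τ hτz.symm).trans (hττ z), ← mul_assoc (z ^ (n - 1)) (w ^ (n - 1)),
      ← mul_pow z w, hzw, one_pow, one_mul, ← mul_assoc, ← pow_add, htop _ hi]
    rcases Nat.lt_or_ge (i : ℕ) (2 * n - 1) with hlt | hge
    · rw [show n - 1 + (n - 1) = (i : ℕ) + (2 * n - 2 - (i : ℕ)) by omega, hzwp, htop _ (by omega),
        if_neg (by omega), if_neg (by omega), neg_zero]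
    · rw [show (i : ℕ) = (n - 1 + (n - 1)) + 1 by omega, if_pos (by omega)]
      -- the one wrap-around term
      have hwrap : z ^ (n - 1 + (n - 1)) * w ^ (n - 1 + (n - 1) + 1) = w := by
        rw [pow_succ, ← mul_assoc, ← mul_pow, hzw, one_pow, one_mul]
      rw [hwrap]
      have hw1 : w = -AdjoinRoot.mk P P.divX := by
        have h1 : z * AdjoinRoot.mk P P.divX = -1 := by
          have := congrArg (AdjoinRoot.mk P) (X_mul_divX_add P)
          rw [h0, map_add, map_mul, AdjoinRoot.mk_X, AdjoinRoot.mk_self, map_one C, map_one] at this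
          exact eq_neg_of_add_eq_zero_left this
        linear_combination w * h1 - AdjoinRoot.mk P P.divX * hzw
      have hdx : P.divX.natDegree < 2 * n := by rw [natDegree_divX_eq_natDegree_tsub_one]; omega
      rw [hw1, map_neg, hmk _ hdx, coeff_divX, show 2 * n - 1 + 1 = P.natDegree by omega, hP.coeff_natDegree]
  refine ⟨⟨w, τ, φ, hzw, hτz, hττ, hφ, fun m hm => ?_, ?_, fun c => (hanti c).trans (CharTwo.neg_eq _)⟩⟩
  · rw [hφd, ← pow_add, htop _ (by omega), if_neg (by omega)]
  · rw [hφd, ← pow_add, htop _ (by omega), if_pos (by omega)]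

namespace Cyc

variable {P : F[X]} (C : Cyc P n)

/-- The form `(a, b) ↦ φ (a τ b)`. -/
noncomputable def B : LinearMap.BilinForm F (AdjoinRoot P) := LinearMap.mk₂ F (fun a b => C.φ (a * C.τ b))
  (fun a a' b => by rw [add_mul, map_add]) (fun c a b => by rw [smul_mul_assoc, map_smul])
  (fun a b b' => by rw [map_add C.τ, mul_add, map_add]) (fun c a b => by rw [map_smul C.τ, mul_smul_comm, map_smul])

theorem B_def (a b : AdjoinRoot P) : C.B a b = C.φ (a * C.τ b) := rfl

theorem B_comm (a b : AdjoinRoot P) : C.B a b = C.B b a := by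
  rw [B_def, B_def, ← C.φτ (a * C.τ b), map_mul, C.ττ, mul_comm]

theorem B_root_mul (a b : AdjoinRoot P) : C.B (AdjoinRoot.root P * a) (AdjoinRoot.root P * b) = C.B a b := by
  rw [B_def, B_def, map_mul C.τ, C.τz, mul_mul_mul_comm, C.zw, one_mul]

theorem B_left_inj (a : AdjoinRoot P) (ha : ∀ b, C.B a b = 0) : a = 0 := C.faith a fun c => by
  rw [mul_comm, ← C.ττ c, ← B_def]
  exact ha _

theorem pow_mul_w_pow (m : ℕ) : AdjoinRoot.root P ^ m * C.w ^ m = 1 := by
  rw [← mul_pow, C.zw, one_pow]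

theorem τ_pow (m : ℕ) : C.τ (AdjoinRoot.root P ^ m) = C.w ^ m := by rw [map_pow, C.τz]

theorem φ_w_pow (m : ℕ) : C.φ (C.w ^ m) = C.φ (AdjoinRoot.root P ^ m) := by rw [← C.τ_pow, C.φτ]

theorem B_alt [CharP F 2] (hP : P.Monic) (hn : 1 ≤ n) (a : AdjoinRoot P) : C.B a a = 0 := by
  let K : Submodule F (AdjoinRoot P) :=
    { carrier := {x | C.B x x = 0}
      zero_mem' := by simp
      add_mem' := fun {x y} (hx : C.B x x = 0) (hy : C.B y y = 0) => by
        show C.B (x + y) (x + y) = 0
        simp only [map_add, LinearMap.add_apply, hx, hy, C.B_comm y x, zero_add, add_zero]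
        exact CharTwo.add_self_eq_zero _
      smul_mem' := fun c x (hx : C.B x x = 0) => by
        show C.B (c • x) (c • x) = 0
        simp [map_smul, hx] }
  have h : ⊤ ≤ K := by
    rw [← (AdjoinRoot.powerBasis' hP).basis.span_eq, Submodule.span_le]
    rintro _ ⟨i, rfl⟩
    show C.B _ _ = 0
    rw [PowerBasis.coe_basis, AdjoinRoot.powerBasis'_gen, B_def, C.τ_pow, C.pow_mul_w_pow, ← pow_zero (AdjoinRoot.root P),
      C.low 0 hn]
  exact h (Submodule.mem_top : a ∈ ⊤)

end Cyc

/-- Every palindromic polynomial is the characteristic polynomial of a symplectic matrix in characteristic two. -/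
theorem exists_charpoly [Finite F] [CharP F 2] {P : F[X]} (hP : P.Monic) (hn : 1 ≤ n) (hd : P.natDegree = 2 * n)
    (h0 : P.coeff 0 = 1) (hs : rd P = P) :
    ∃ g : Matrix.symplecticGroup (Fin n) F, (g : Matrix (Fin n ⊕ Fin n) (Fin n ⊕ Fin n) F).charpoly = P := by
  classical
  obtain ⟨C⟩ := exists_cyc hP hn hd h0 hs
  set z := AdjoinRoot.root P with hz
  haveI : Module.Finite F (AdjoinRoot P) := (AdjoinRoot.powerBasis' hP).finite
  have hfr : Module.finrank F (AdjoinRoot P) = 2 * n := by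
    rw [(AdjoinRoot.powerBasis' hP).finrank, AdjoinRoot.powerBasis'_dim, hd]
  obtain ⟨L, hL⟩ := exists_symp_coords C.B (C.B_alt hP hn) C.B_left_inj hfr
  let T : Module.End F (Fin n ⊕ Fin n → F) := L.symm.conj (LinearMap.mulLeft F z)
  have hT : ∀ v, LinearMap.toMatrix' T *ᵥ v = L.symm (z * L v) := fun v => by
    rw [← Matrix.toLin'_apply, Matrix.toLin'_toMatrix']; rfl
  have hmem : LinearMap.toMatrix' T ∈ Matrix.symplecticGroup (Fin n) F := mem_symplecticGroup_iff_form.2 fun u v => by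
    rw [← hL, ← hL, hT, hT, L.apply_symm_apply, L.apply_symm_apply, C.B_root_mul]
  refine ⟨⟨_, hmem⟩, ?_⟩
  show (LinearMap.toMatrix' T).charpoly = P
  rw [← LinearMap.toMatrix_eq_toMatrix', LinearMap.charpoly_toMatrix, LinearEquiv.charpoly_conj,
    ← LinearMap.charpoly_toMatrix (LinearMap.mulLeft F z) (AdjoinRoot.powerBasis' hP).basis,
    show (LinearMap.mulLeft F z) = Algebra.lmul F (AdjoinRoot P) z from rfl]
  show (Algebra.leftMulMatrix (AdjoinRoot.powerBasis' hP).basis z).charpoly = P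
  rw [hz, ← AdjoinRoot.powerBasis'_gen hP, charpoly_leftMulMatrix, AdjoinRoot.powerBasis'_gen,
    AdjoinRoot.minpoly_root hP.ne_zero, hP.leadingCoeff, inv_one, map_one, mul_one]

theorem le_card_classes [Fintype F] [CharP F 2] (hn : 1 ≤ n) :
    Fintype.card F ^ n ≤ Nat.card (ConjClasses (Matrix.symplecticGroup (Fin n) F)) := by
  classical
  let c : (Fin n → F) → ℕ → F := fun m u =>
    if h : 1 ≤ u ∧ u ≤ n then m ⟨u - 1, by omega⟩ else 1
  let P : (Fin n → F) → F[X] := fun m =>
    X ^ (2 * n) + ∑ u ∈ Finset.range (2 * n), monomial u (c m (min u (2 * n - u)))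
  have hdeg : ∀ m, (∑ u ∈ Finset.range (2 * n), monomial u (c m (min u (2 * n - u)))).degree < (2 * n : ℕ) := fun m =>
    lt_of_le_of_lt (degree_sum_le _ _) ((Finset.sup_lt_iff (WithBot.bot_lt_coe _)).2 fun u hu =>
      (degree_monomial_le _ _).trans_lt (WithBot.coe_lt_coe.2 (Finset.mem_range.1 hu)))
  have hmon : ∀ m, (P m).Monic := fun m => monic_X_pow_add (hdeg m)
  have hnd : ∀ m, (P m).natDegree = 2 * n := fun m => natDegree_eq_of_degree_eq_some (by
    simp only [P]
    rw [degree_add_eq_left_of_degree_lt (by rw [degree_X_pow]; exact hdeg m), degree_X_pow])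
  have hco : ∀ m u, u ≤ 2 * n → (P m).coeff u = c m (min u (2 * n - u)) := fun m u hu => by
    simp only [P, coeff_add, finset_sum_coeff, coeff_monomial, Finset.sum_ite_eq', Finset.mem_range, coeff_X_pow]
    rcases Nat.lt_or_ge u (2 * n) with h | h
    · rw [if_neg (by omega), if_pos h, zero_add]
    · rw [if_pos (by omega), if_neg (by omega), add_zero, show min u (2 * n - u) = 0 by omega]
      simp [c]
  have h0 : ∀ m, (P m).coeff 0 = 1 := fun m => by rw [hco m 0 (Nat.zero_le _)]; simp [c]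
  have key : ∀ m, ∃ g : Matrix.symplecticGroup (Fin n) F,
      (g : Matrix (Fin n ⊕ Fin n) (Fin n ⊕ Fin n) F).charpoly = P m := fun m =>
    exists_charpoly (hmon m) hn (hnd m) (h0 m) (SympClasses.rd_eq_of_symm (h0 m) fun u hu => by
      rw [hnd] at hu ⊢
      rw [hco m u hu, hco m _ (Nat.sub_le _ _), show 2 * n - (2 * n - u) = u by omega, min_comm])
  choose g hg using key
  have hcard : Nat.card (Fin n → F) = Fintype.card F ^ n := by simp
  rw [← hcard]
  refine Nat.card_le_card_of_injective (fun m => ConjClasses.mk (g m)) fun m m' h => funext fun i => ?_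
  obtain ⟨x, hx⟩ := (Submonoid.subtype (Matrix.symplecticGroup (Fin n) F)).map_isConj
    (ConjClasses.mk_eq_mk_iff_isConj.1 h)
  have hPP : P m' = P m := by
    rw [← hg, ← hg, ← Matrix.charpoly_units_conj x ((g m).1), ← Matrix.coe_units_inv]
    congr 1
    rw [show (x : Matrix (Fin n ⊕ Fin n) (Fin n ⊕ Fin n) F) * (g m).1 = (g m').1 * x from hx.eq, mul_assoc,
      Units.mul_inv, mul_one]
  have h1 := congrArg (fun R : F[X] => R.coeff ((i : ℕ) + 1)) hPP
  simp only [hco _ _ (show (i : ℕ) + 1 ≤ 2 * n by omega), show min ((i : ℕ) + 1) (2 * n - ((i : ℕ) + 1)) = (i : ℕ) + 1 by omega] at h1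
  simpa [c, Nat.succ_le_of_lt i.2] using h1.symm

end Cfsg.Agent.Classical.IsometryTwo
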