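import Cfsg.Agent.Lib.Classical.SympTwoBound
import Cfsg.Agent.Lib.Classical.SympTwoCyclic
import Cfsg.Agent.Lib.Classical.SympClassNumber

/-!
`q ^ n ≤ k(Sp(2n, q)) ≤ 76 / 5 * q ^ n` for even `q`.
-/

set_option autoImplicit false

namespace Cfsg.Agent.Classical.IsometryTwo

open Polynomial Module
open Cfsg.Agent.Classical Cfsg.Agent.Classical.SLClasses Cfsg.Agent.Classical.UnitClasses
  Cfsg.Agent.Classical.IsometryClasses Cfsg.Agent.UnitaryDetCentralizer
open Cfsg.Agent.Classical.SympClasses (coords triOf)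

universe u

variable {F : Type u} [Field F] [CharP F 2] {n : ℕ}

attribute [local instance] Classical.propDecidable

/-- The elementary divisors and flags of a triple are good. -/
theorem good_of_key [Finite F] {o : Bool} {T : Tw F o} (hT : T.n = 2 * n) {S : Multiset (F[X] × ℕ)}
    (hS : Labels T.g S) : Good F n (S, flags T S) := by
  obtain ⟨h1, h2⟩ := key_props S (flags T S) T ⟨hS, rfl⟩
  refine ⟨labels_mem (det_ne_zero T.toTri) hS, ?_, h1, fun l hl => ?_, h2⟩
  · rw [labels_sum hS]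
    exact (Module.finrank_fin_fun F).trans hT
  · obtain ⟨h3, h4⟩ := Finset.mem_filter.1 hl
    exact ⟨h4.1, mem_exps.1 h3⟩

/-- The twisted triple attached to a symplectic matrix. -/
noncomputable def twOf (g : Matrix.symplecticGroup (Fin n) F) : Tw F false where
  n := n + n
  B := (triOf g).B
  g := (triOf g).g
  nondeg := (triOf g).nondeg
  sym x y := by
    show (sympB n F) (coords n F x) (coords n F y) = 1 * (sympB n F) (coords n F y) (coords n F x)
    rw [one_mul, sympB_apply, sympB_apply, sympForm_swap, CharTwo.neg_eq]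
  isom := (triOf g).isom
  alt x := by
    show (sympB n F) (coords n F x) (coords n F x) = 0
    rw [sympB_apply, sympForm_self]
  Q _ := 0
  Q_add _ _ := by simp
  Q_smul _ _ := by simp
  Q_g _ := rfl
  Q_off _ _ := rfl

theorem exists_inj_symp [Finite F] :
    ∃ f : ConjClasses (Matrix.symplecticGroup (Fin n) F) → Lbl false F n (2 ^ ·), Function.Injective f := by
  classical
  choose g hg using fun C : ConjClasses (Matrix.symplecticGroup (Fin n) F) => ConjClasses.mk_surjective C
  choose S hS using fun C => exists_labels (twOf (g C)).g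
  choose χ hχ using fun (S : Multiset (F[X] × ℕ)) (Fl : Finset ℕ) => exists_code (F := F) (o := false) S Fl
  refine ⟨fun C => ⟨⟨(S C, flags (twOf (g C)) (S C)), good_of_key (by show n + n = 2 * n; omega) (hS C)⟩,
    χ _ _ (twOf (g C))⟩, fun C C' h => ?_⟩
  have hp := congrArg (fun z : Lbl false F n (2 ^ ·) => z.1.1) h
  have h1 : S C = S C' := congrArg Prod.fst hp
  have h2 : flags (twOf (g C)) (S C) = flags (twOf (g C')) (S C') := congrArg Prod.snd hp
  have hv := congrArg (fun z : Lbl false F n (2 ^ ·) => (z.2 : ℕ)) h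
  have key : ∀ (S₁ S₂ : Multiset (F[X] × ℕ)) (F₁ F₂ : Finset ℕ) (T T' : Tw F false), S₁ = S₂ → F₁ = F₂ →
      (χ S₁ F₁ T : ℕ) = (χ S₂ F₂ T' : ℕ) → χ S₁ F₁ T = χ S₁ F₁ T' := by
    rintro _ _ _ _ T T' rfl rfl he
    exact Fin.ext he
  obtain ⟨e, hB, hg', -⟩ := hχ _ _ _ _ ⟨hS C, rfl⟩ ⟨h1 ▸ hS C', h1 ▸ h2.symm⟩ (key _ _ _ _ _ _ h1 h2 hv)
  rw [← hg C, ← hg C']
  exact ConjClasses.mk_eq_mk_iff_isConj.2 (SympClasses.isConj_of_iso ⟨e, hB, hg'⟩)

theorem card_classes_le [Fintype F] (hn : 1 ≤ n) :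
    5 * Nat.card (ConjClasses (Matrix.symplecticGroup (Fin n) F)) ≤ 76 * Fintype.card F ^ n := by
  obtain ⟨f, hf⟩ := exists_inj_symp (F := F) (n := n)
  obtain ⟨hfin, hbd⟩ := card_Lbl_symp (F := F) hn
  exact le_trans (Nat.mul_le_mul_left 5 (Nat.card_le_card_of_injective f hf)) hbd

end Cfsg.Agent.Classical.IsometryTwo
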