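import Cfsg.Agent.Lib.Classical.SympTwoOrthUpper
import Cfsg.Agent.Lib.Classical.QuadModels

/-!
The two types of quadratic forms in even dimension and characteristic two, separated by their character sums.
-/

set_option autoImplicit false

namespace Cfsg.Agent.Classical.IsometryTwo

open Module Cfsg Cfsg.Agent.Classical

universe u v

variable {F : Type u} [Field F] [Fintype F] [CharP F 2]

attribute [local instance] Classical.propDecidable

theorem qGauss_eq_sum {V : Type v} [Fintype V] (Q : V → F) : qGauss Q = ∑ x, chi (Q x) :=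
  finsum_eq_sum_of_fintype _

theorem qGauss_congr {V : Type v} {W : Type*} {Q : V → F} {Q' : W → F} (e : V ≃ W) (h : ∀ x, Q' (e x) = Q x) :
    qGauss Q' = qGauss Q :=
  (finsum_eq_of_bijective e e.bijective fun x => congrArg chi (h x).symm).symm

/-- Vectors supported on the image of an index map. -/
theorem coord_card {κ ι : Type} [Fintype κ] [Fintype ι] [DecidableEq ι] (f : κ → ι) (hf : Function.Injective f)
    (L : Submodule F (ι → F)) (hL : ∀ v, v ∈ L ↔ ∀ i, (∀ k, f k ≠ i) → v i = 0) :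
    Fintype.card L = Fintype.card F ^ Fintype.card κ := by
  classical
  rw [← Fintype.card_fun]
  refine Fintype.card_congr
    { toFun := fun v k => v.1 (f k)
      invFun := fun c => ⟨Function.extend f c 0, (hL _).2 fun i hi => ?_⟩
      left_inv := fun v => Subtype.ext (funext fun i => ?_)
      right_inv := fun c => funext fun k => hf.extend_apply _ _ k }
  · rw [Function.extend_apply' _ _ _ fun ⟨k, hk⟩ => hi k hk, Pi.zero_apply]
  · show Function.extend f (fun k => v.1 (f k)) 0 i = v.1 i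
    by_cases hi : ∃ k, f k = i
    · obtain ⟨k, rfl⟩ := hi
      rw [hf.extend_apply]
    · rw [Function.extend_apply' _ _ _ hi, Pi.zero_apply, (hL _).1 v.2 i fun k hk => hi ⟨k, hk⟩]

theorem gauss_plus (n : ℕ) : qGauss ⇑(qfPlus n F) = (Fintype.card F : ℤ) ^ n := by
  classical
  let L : Submodule F (Fin n ⊕ Fin n → F) := ⨅ i : Fin n, LinearMap.ker (LinearMap.proj (Sum.inr i))
  have hmem : ∀ v, v ∈ L ↔ ∀ i, v (Sum.inr i) = 0 := fun v => by simp [L, Submodule.mem_iInf]
  have hQ0 : ∀ x ∈ L, qfPlus n F x = 0 := fun x hx => by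
    simp [qfPlus_apply, quadFormPlus, (hmem x).1 hx]
  rw [qGauss_eq_sum, complete _ (QuadraticMap.polarBilin (qfPlus n F))
    (fun x y => by rw [QuadraticMap.map_add ⇑(qfPlus n F), QuadraticMap.polarBilin_apply_apply])
    (fun c x => by rw [QuadraticMap.map_smul, smul_eq_mul]) L ?_ ?_ (y₀ := 0) ?_]
  · rw [map_zero, chi_zero, mul_one, coord_card Sum.inl Sum.inl_injective L fun v => by
      rw [hmem]
      constructor
      · rintro h (i | i) hi
        · exact absurd rfl (hi i)
        · exact h i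
      · exact fun h i => h _ fun k => Sum.inl_ne_inr]
    simp
  · intro x hx y hy
    rw [QuadraticMap.polarBilin_apply_apply, polar_qfPlus]
    simp [(hmem x).1 hx, (hmem y).1 hy]
  · intro y hy
    refine (hmem y).2 fun i => ?_
    have h := hy (Pi.single (Sum.inl i) 1) ((hmem _).2 fun j => by simp)
    rw [QuadraticMap.polarBilin_apply_apply, polar_qfPlus, Finset.sum_eq_single i
      (fun j _ hj => by simp [hj]) (by simp)] at h
    simpa using h
  · intro x hx
    rw [hQ0 x hx, map_zero, mul_zero]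

theorem a_ne_zero {a b : F} (hab : ∀ z₁ z₂ : F, z₁ ^ 2 + a * z₁ * z₂ + b * z₂ ^ 2 = 0 → z₁ = 0 ∧ z₂ = 0) : a ≠ 0 := by
  intro ha
  refine binary_disc_ne_zero hab ?_
  rw [ha]
  linear_combination 2 * b * (CharTwo.two_eq_zero (R := F))

theorem chi_aniso {a b : F} (hab : ∀ z₁ z₂ : F, z₁ ^ 2 + a * z₁ * z₂ + b * z₂ ^ 2 = 0 → z₁ = 0 ∧ z₂ = 0) :
    chi (b / (a * a)) = -1 := by
  refine if_neg fun ⟨t, ht⟩ => one_ne_zero (hab (t * a) 1 ?_).2
  have ha := a_ne_zero hab
  field_simp at ht
  linear_combination ht + b * (CharTwo.two_eq_zero (R := F))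

theorem gauss_minus (m : ℕ) {a b : F} (hab : ∀ z₁ z₂ : F, z₁ ^ 2 + a * z₁ * z₂ + b * z₂ ^ 2 = 0 → z₁ = 0 ∧ z₂ = 0) :
    qGauss ⇑(qfMinus m F a b) = -(Fintype.card F : ℤ) ^ (m + 1) := by
  classical
  have ha := a_ne_zero hab
  let L : Submodule F ((Fin m ⊕ Fin m) ⊕ Fin 2 → F) :=
    (⨅ i : Fin m, LinearMap.ker (LinearMap.proj (Sum.inl (Sum.inr i)))) ⊓ LinearMap.ker (LinearMap.proj (Sum.inr 1))
  have hmem : ∀ v, v ∈ L ↔ (∀ i, v (Sum.inl (Sum.inr i)) = 0) ∧ v (Sum.inr 1) = 0 := fun v => by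
    simp [L, Submodule.mem_iInf]
  let y₀ : (Fin m ⊕ Fin m) ⊕ Fin 2 → F := Pi.single (Sum.inr 1) a⁻¹
  rw [qGauss_eq_sum, complete _ (QuadraticMap.polarBilin (qfMinus m F a b))
    (fun x y => by rw [QuadraticMap.map_add ⇑(qfMinus m F a b), QuadraticMap.polarBilin_apply_apply])
    (fun c x => by rw [QuadraticMap.map_smul, smul_eq_mul]) L ?_ ?_ (y₀ := y₀) ?_]
  · rw [show qfMinus m F a b y₀ = b / (a * a) by
      simp [y₀, qfMinus_apply, quadFormMinus]
      field_simp, chi_aniso hab]
    rw [coord_card (Sum.elim (fun i => Sum.inl (Sum.inl i)) (fun _ : Unit => Sum.inr 0) :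
        Fin m ⊕ Unit → (Fin m ⊕ Fin m) ⊕ Fin 2) ?_ L fun v => by
      rw [hmem]
      constructor
      · rintro ⟨h1, h2⟩ ((i | i) | j) hi
        · exact absurd rfl (hi (Sum.inl i))
        · exact h1 i
        · fin_cases j
          · exact absurd rfl (hi (Sum.inr ()))
          · exact h2
      · intro h
        exact ⟨fun i => h _ (by rintro (k | k) <;> simp), h _ (by rintro (k | k) <;> simp)⟩]
    · simp
    · rintro (i | i) (j | j) <;> simp
  · intro x hx y hy
    obtain ⟨h1, h2⟩ := (hmem x).1 hx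
    obtain ⟨h3, h4⟩ := (hmem y).1 hy
    rw [QuadraticMap.polarBilin_apply_apply, polar_qfMinus]
    simp [h1, h2, h3, h4, CharTwo.two_eq_zero]
  · intro y hy
    refine (hmem y).2 ⟨fun i => ?_, ?_⟩
    · have h := hy (Pi.single (Sum.inl (Sum.inl i)) 1) ((hmem _).2 ⟨fun j => by simp, by simp⟩)
      rw [QuadraticMap.polarBilin_apply_apply, polar_qfMinus, Finset.sum_eq_single i
        (fun j _ hj => by simp [hj]) (by simp)] at h
      simpa using h
    · have h := hy (Pi.single (Sum.inr 0) 1) ((hmem _).2 ⟨fun j => by simp, by simp⟩)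
      rw [QuadraticMap.polarBilin_apply_apply, polar_qfMinus] at h
      simpa [CharTwo.two_eq_zero, ha] using h
  · intro x hx
    obtain ⟨h1, h2⟩ := (hmem x).1 hx
    rw [QuadraticMap.polarBilin_apply_apply, polar_qfMinus, qfMinus_apply, quadFormMinus]
    simp [y₀, h1, h2, CharTwo.two_eq_zero, ha]
    field_simp

variable {V : Type v} [AddCommGroup V] [Module F V] [FiniteDimensional F V]

/-- Every non-degenerate form in dimension `2n` is hyperbolic or elliptic. -/
theorem isometric_model {n : ℕ} (hdim : finrank F V = 2 * n) {Q : QuadraticForm F V}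
    (hQ : (QuadraticMap.polarBilin Q).Nondegenerate) {a b : F}
    (hab : ∀ z₁ z₂ : F, z₁ ^ 2 + a * z₁ * z₂ + b * z₂ ^ 2 = 0 → z₁ = 0 ∧ z₂ = 0) :
    (∃ e : V ≃ₗ[F] (Fin n ⊕ Fin n → F), ∀ x, qfPlus n F (e x) = Q x) ∨
      (1 ≤ n ∧ ∃ e : V ≃ₗ[F] ((Fin (n - 1) ⊕ Fin (n - 1)) ⊕ Fin 2 → F), ∀ x, qfMinus (n - 1) F a b (e x) = Q x) := by
  classical
  have h2 : (2 : F) = 0 := CharTwo.two_eq_zero
  have hsym := QuadraticMap.polar_comm ⇑Q
  have hself : ∀ x, QuadraticMap.polar ⇑Q x x = 0 := fun x => by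
    rw [QuadraticMap.polar_self]; simp [h2]
  obtain ⟨k, r, bb, hr, hsing, hef, hee, her, haniso⟩ := exists_witt_basis Q hQ
  have hkr : k + k + r = 2 * n := by
    rw [← hdim, finrank_eq_card_basis bb]; simp
  rcases (show r = 0 ∨ r = 2 by omega) with rfl | rfl
  · left
    obtain rfl : k = n := by omega
    obtain ⟨g, hg⟩ := exists_isometry_of_bases (Q := Q) (Q' := qfPlus k F)
      (bb.reindex (Equiv.sumEmpty _ _)) (Pi.basisFun F (Fin k ⊕ Fin k))
      (fun i => by
        rw [qfPlus_apply, quadFormPlus]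
        rcases i with i | i
        · simp [Basis.reindex_apply, (hsing i).1]
        · simp [Basis.reindex_apply, (hsing i).2])
      (fun i j => by
        rw [polar_qfPlus]
        rcases i with i | i <;> rcases j with j | j
        · simp [Basis.reindex_apply, (hee i j).1, Pi.single_apply]
        · simp [Basis.reindex_apply, hef i j, Pi.single_apply, eq_comm]
        · simp [Basis.reindex_apply, hsym _ (bb (Sum.inl (Sum.inl j))), hef j i, Pi.single_apply, eq_comm]
        · simp [Basis.reindex_apply, (hee i j).2, Pi.single_apply])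
    exact ⟨g, hg⟩
  right
  refine ⟨by omega, ?_⟩
  obtain rfl : k = n - 1 := by omega
  set u := bb (Sum.inr 0) with hu
  set w := bb (Sum.inr 1) with hw
  have han : ∀ s t : F, Q (s • u + t • w) = 0 → s = 0 ∧ t = 0 := fun s t h => by
    have := haniso ![s, t] (by simpa [Fin.sum_univ_two] using h)
    exact ⟨congrFun this 0, congrFun this 1⟩
  obtain ⟨s₀, t₀, h1⟩ := exists_value_one Q han
  set u' := s₀ • u + t₀ • w with hu'
  have hval : ∀ x y : V, ∀ s t : F, Q (s • x + t • y) = s * s * Q x + t * t * Q y + s * t * QuadraticMap.polar ⇑Q x y := by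
    intro x y s t
    rw [QuadraticMap.map_add ⇑Q, QuadraticMap.map_smul, QuadraticMap.map_smul, QuadraticMap.polar_smul_left,
      QuadraticMap.polar_smul_right, smul_eq_mul, smul_eq_mul, smul_eq_mul, smul_eq_mul]
    ring
  have hne : s₀ ≠ 0 ∨ t₀ ≠ 0 := by
    by_contra hc
    push Not at hc
    rw [hu', hc.1, hc.2] at h1
    simp at h1
  set p := QuadraticMap.polar ⇑Q u w with hp
  have hp0 : p ≠ 0 := fun hp0 => by
    obtain ⟨ρ, hρ⟩ := FiniteField.isSquare_of_char_two (ringChar.eq F 2) (Q w)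
    obtain ⟨σ, hσ⟩ := FiniteField.isSquare_of_char_two (ringChar.eq F 2) (Q u)
    have hσ0 : σ ≠ 0 := fun h0 => one_ne_zero (han 1 0 (by simp [hσ, h0])).1
    refine hσ0 (han ρ σ ?_).2
    rw [hval, ← hp, hp0, hρ, hσ]
    linear_combination (ρ * ρ * σ * σ) * h2
  -- a partner for `u'`
  obtain ⟨v, hv, hvu⟩ : ∃ v, (∃ c d : F, v = c • u + d • w) ∧ QuadraticMap.polar ⇑Q u' v = a := by
    rcases hne with hs | ht
    · refine ⟨(a / (s₀ * p)) • w, ⟨0, a / (s₀ * p), by simp⟩, ?_⟩
      rw [hu', QuadraticMap.polar_smul_right, QuadraticMap.polar_add_left, QuadraticMap.polar_smul_left,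
        QuadraticMap.polar_smul_left, hself, ← hp]
      simp only [smul_eq_mul]
      field_simp
      ring
    · refine ⟨(a / (t₀ * p)) • u, ⟨a / (t₀ * p), 0, by simp⟩, ?_⟩
      rw [hu', QuadraticMap.polar_smul_right, QuadraticMap.polar_add_left, QuadraticMap.polar_smul_left,
        QuadraticMap.polar_smul_left, hself, hsym w u, ← hp]
      simp only [smul_eq_mul]
      field_simp
      ring
  obtain ⟨c, d, hcd⟩ := hv
  have ha := a_ne_zero hab
  have hplane : ∀ s t : F, Q (s • u' + t • v) = s * s + t * t * Q v + s * t * a := fun s t => by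
    rw [hval, h1, hvu]; ring
  have hdet : s₀ * d + t₀ * c ≠ 0 := fun h0 => ha (by
    rw [← hvu, hu', hcd]
    simp only [QuadraticMap.polar_add_left, QuadraticMap.polar_add_right, QuadraticMap.polar_smul_left,
      QuadraticMap.polar_smul_right, hself, hsym w u, ← hp, smul_eq_mul]
    linear_combination p * h0)
  have hχ : chi (Q v / (a * a)) = -1 := by
    refine if_neg fun ⟨t, ht⟩ => ?_
    have h0 : Q ((t * a) • u' + (1 : F) • v) = 0 := by
      rw [hplane]
      field_simp at ht
      linear_combination ht + Q v * h2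
    rw [hu', hcd, smul_add, smul_smul, smul_smul, one_smul,
      show (t * a * s₀) • u + (t * a * t₀) • w + (c • u + d • w) = (t * a * s₀ + c) • u + (t * a * t₀ + d) • w by
        rw [add_smul, add_smul]; abel] at h0
    obtain ⟨e1, e2⟩ := han _ _ h0
    exact hdet (by linear_combination t₀ * e1 + s₀ * e2 - (t * a * s₀ * t₀) * h2)
  obtain ⟨t, ht⟩ : ∃ t : F, t * t + t = (b + Q v) / (a * a) := by
    by_contra hc
    have h3 : chi ((b + Q v) / (a * a)) = -1 := if_neg hc
    rw [add_div, chi_add, chi_aniso hab, hχ] at h3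
    norm_num at h3
  set w' := (t * a) • u' + (1 : F) • v with hw'
  have hQw : Q w' = b := by
    rw [hw', hplane]
    field_simp at ht
    linear_combination ht + Q v * h2
  have hpuw : QuadraticMap.polar ⇑Q u' w' = a := by
    rw [hw', QuadraticMap.polar_add_right, QuadraticMap.polar_smul_right, QuadraticMap.polar_smul_right, hself, hvu]
    simp
  let nb : (Fin (n - 1) ⊕ Fin (n - 1)) ⊕ Fin 2 → V := Sum.elim (fun i => bb (Sum.inl i)) ![u', w']
  have hspanP : u ∈ Submodule.span F (Set.range nb) ∧ w ∈ Submodule.span F (Set.range nb) := by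
    have hu'm : u' ∈ Submodule.span F (Set.range nb) := Submodule.subset_span ⟨Sum.inr 0, rfl⟩
    have hw'm : w' ∈ Submodule.span F (Set.range nb) := Submodule.subset_span ⟨Sum.inr 1, rfl⟩
    have hvm : v ∈ Submodule.span F (Set.range nb) := by
      have := Submodule.add_mem _ hw'm (Submodule.smul_mem _ (-(t * a)) hu'm)
      rwa [hw', neg_smul, one_smul, add_comm ((t * a) • u') v, add_neg_cancel_right] at this
    constructor
    · have e : d • u' + (-t₀) • v = (s₀ * d + t₀ * c) • u := by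
        rw [show s₀ * d + t₀ * c = d * s₀ + -t₀ * c + (t₀ * c) * 2 by ring, h2, mul_zero, add_zero, hu', hcd,
          smul_add, smul_add, smul_smul, smul_smul, smul_smul, smul_smul, add_smul,
          show -t₀ * d = -(d * t₀) by ring, neg_smul]
        abel
      rw [← inv_smul_smul₀ hdet u, ← e]
      exact Submodule.smul_mem _ _ (Submodule.add_mem _ (Submodule.smul_mem _ _ hu'm) (Submodule.smul_mem _ _ hvm))
    · have e : c • u' + (-s₀) • v = (s₀ * d + t₀ * c) • w := by
        rw [show s₀ * d + t₀ * c = c * t₀ + -s₀ * d + (s₀ * d) * 2 by ring, h2, mul_zero, add_zero, hu', hcd,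
          smul_add, smul_add, smul_smul, smul_smul, smul_smul, smul_smul, add_smul,
          show -s₀ * c = -(c * s₀) by ring, neg_smul]
        abel
      rw [← inv_smul_smul₀ hdet w, ← e]
      exact Submodule.smul_mem _ _ (Submodule.add_mem _ (Submodule.smul_mem _ _ hu'm) (Submodule.smul_mem _ _ hvm))
  have hsp : ⊤ ≤ Submodule.span F (Set.range nb) := by
    rw [← bb.span_eq, Submodule.span_le]
    rintro _ ⟨i | j, rfl⟩
    · exact Submodule.subset_span ⟨Sum.inl i, rfl⟩
    · fin_cases j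
      · exact hspanP.1
      · exact hspanP.2
  have hcard : Fintype.card ((Fin (n - 1) ⊕ Fin (n - 1)) ⊕ Fin 2) = finrank F V := by
    rw [finrank_eq_card_basis bb]
  let B' := basisOfTopLeSpanOfCardEqFinrank nb hsp hcard
  have hB' : ⇑B' = nb := coe_basisOfTopLeSpanOfCardEqFinrank nb hsp hcard
  have hx : ∀ i : Fin (n - 1) ⊕ Fin (n - 1), QuadraticMap.polar ⇑Q (bb (Sum.inl i)) u' = 0 ∧
      QuadraticMap.polar ⇑Q (bb (Sum.inl i)) w' = 0 := fun i => by
    have e : ∀ x : V, (∃ c d : F, x = c • u + d • w) → QuadraticMap.polar ⇑Q (bb (Sum.inl i)) x = 0 := by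
      rintro x ⟨c, d, rfl⟩
      rw [QuadraticMap.polar_add_right, QuadraticMap.polar_smul_right, QuadraticMap.polar_smul_right, hu, hw]
      rcases i with i | i <;> simp [(her i 0).1, (her i 0).2, (her i 1).1, (her i 1).2]
    exact ⟨e _ ⟨s₀, t₀, rfl⟩, e _ ⟨t * a * s₀ + c, t * a * t₀ + d, by
      rw [hw', hu', hcd, one_smul, smul_add, smul_smul, smul_smul, add_smul, add_smul]; abel⟩⟩
  obtain ⟨g, hg⟩ := exists_isometry_of_bases (Q := Q) (Q' := qfMinus (n - 1) F a b) B'
    (Pi.basisFun F _)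
    (fun i => by
      rw [qfMinus_apply, quadFormMinus, hB']
      rcases i with (i | i) | j
      · simp [nb, (hsing i).1]
      · simp [nb, (hsing i).2]
      · fin_cases j
        · simp [nb, h1]
        · simp [nb, hQw])
    (fun i j => by
      rw [polar_qfMinus, hB']
      rcases i with (i | i) | i <;> rcases j with (j | j) | j
      · simp [nb, (hee i j).1, Pi.single_apply, h2]
      · simp [nb, hef i j, Pi.single_apply, h2, eq_comm]
      · fin_cases j <;> simp [nb, Pi.single_apply, h2, (hx (Sum.inl i)).1, (hx (Sum.inl i)).2]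
      · simp [nb, hsym _ (bb (Sum.inl (Sum.inl j))), hef j i, Pi.single_apply, h2, eq_comm]
      · simp [nb, (hee i j).2, Pi.single_apply, h2]
      · fin_cases j <;> simp [nb, Pi.single_apply, h2, (hx (Sum.inr i)).1, (hx (Sum.inr i)).2]
      · fin_cases i <;>
          simp [nb, Pi.single_apply, h2, hsym _ (bb (Sum.inl (Sum.inl j))), (hx (Sum.inl j)).1, (hx (Sum.inl j)).2]
      · fin_cases i <;>
          simp [nb, Pi.single_apply, h2, hsym _ (bb (Sum.inl (Sum.inr j))), (hx (Sum.inr j)).1, (hx (Sum.inr j)).2]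
      · fin_cases i <;> fin_cases j <;> simp [nb, Pi.single_apply, h2, hself, hpuw, hsym w' u'])
  exact ⟨g, hg⟩

/-- Non-degenerate forms in dimension `2n` with equal character sums are isometric. -/
theorem isometric_of_gauss {n : ℕ} {W : Type*} [AddCommGroup W] [Module F W] [FiniteDimensional F W]
    (hV : finrank F V = 2 * n) (hW : finrank F W = 2 * n) {Q : QuadraticForm F V} {Q' : QuadraticForm F W}
    (hQ : (QuadraticMap.polarBilin Q).Nondegenerate) (hQ' : (QuadraticMap.polarBilin Q').Nondegenerate) {a b : F}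
    (hab : ∀ z₁ z₂ : F, z₁ ^ 2 + a * z₁ * z₂ + b * z₂ ^ 2 = 0 → z₁ = 0 ∧ z₂ = 0)
    (hG : qGauss ⇑Q = qGauss ⇑Q') : ∃ e : V ≃ₗ[F] W, ∀ x, Q' (e x) = Q x := by
  have hpos : (0 : ℤ) < (Fintype.card F : ℤ) ^ n := pow_pos (Int.natCast_pos.2 Fintype.card_pos) n
  rcases isometric_model hV hQ hab with ⟨e, he⟩ | ⟨h1, e, he⟩ <;>
    rcases isometric_model hW hQ' hab with ⟨e', he'⟩ | ⟨h1', e', he'⟩
  · exact ⟨e.trans e'.symm, fun x => by rw [← he', LinearEquiv.trans_apply, e'.apply_symm_apply, he]⟩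
  · rw [← qGauss_congr e.toEquiv he, ← qGauss_congr e'.toEquiv he', gauss_plus, gauss_minus _ hab,
      Nat.sub_add_cancel h1'] at hG
    omega
  · rw [← qGauss_congr e.toEquiv he, ← qGauss_congr e'.toEquiv he', gauss_plus, gauss_minus _ hab,
      Nat.sub_add_cancel h1] at hG
    omega
  · exact ⟨e.trans e'.symm, fun x => by rw [← he', LinearEquiv.trans_apply, e'.apply_symm_apply, he]⟩

end Cfsg.Agent.Classical.IsometryTwo
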