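import Cfsg.Agent.Lib.Classical.SympTwoQuad
import Cfsg.Agent.Lib.Classical.SympTwoOrthTypes

/-!
`q ^ n ≤ 2 * k(O(Q))` for a non-degenerate quadratic form in dimension `2n`, `q` even.
-/

set_option autoImplicit false

namespace Cfsg.Agent.Classical.IsometryTwo

open Polynomial Module Matrix Cfsg Cfsg.Agent.Classical

universe u

variable {F : Type u} [Field F] [Fintype F] [CharP F 2] {n : ℕ}

attribute [local instance] Classical.propDecidable

/-- A cyclic isometry with prescribed characteristic polynomial. -/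
theorem exists_element {ι : Type} [Fintype ι] [DecidableEq ι] (h : Fintype.card ι = 2 * n)
    {Q : QuadraticForm F (ι → F)} (hQ : (QuadraticMap.polarBilin Q).Nondegenerate) {a b : F}
    (hab : ∀ z₁ z₂ : F, z₁ ^ 2 + a * z₁ * z₂ + b * z₂ ^ 2 = 0 → z₁ = 0 ∧ z₂ = 0)
    {P : F[X]} (hP : P.Monic) (hn : 1 ≤ n) (hd : P.natDegree = 2 * n) (h0 : P.coeff 0 = 1)
    (hsym : ∀ u ≤ 2 * n, P.coeff u = P.coeff (2 * n - u)) (q₀ : F) (hq : P.coeff n * P.coeff n * q₀ = P.coeff n)
    (hG : (Fintype.card F : ℤ) ^ n * chi (q₀ * typeSum P n) = qGauss ⇑Q) :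
    ∃ g : isometryGroup F ⇑Q, ((g : GL ι F) : Matrix ι ι F).charpoly = P := by
  classical
  obtain ⟨C⟩ := exists_cyc hP hn hd h0 (SympClasses.rd_eq_of_symm h0 fun u hu => by
    rw [hd] at hu ⊢; exact hsym u hu)
  obtain ⟨Qc, hpol, hinv, hgauss⟩ := C.exists_quad hP hn hd h0 hsym q₀ hq
  haveI : Module.Finite F (AdjoinRoot P) := (AdjoinRoot.powerBasis' hP).finite
  haveI : Finite (AdjoinRoot P) := Module.finite_of_finite F
  haveI := Fintype.ofFinite (AdjoinRoot P)
  have hfr : finrank F (AdjoinRoot P) = 2 * n := by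
    rw [(AdjoinRoot.powerBasis' hP).finrank, AdjoinRoot.powerBasis'_dim, hd]
  have hnd : (QuadraticMap.polarBilin Qc).Nondegenerate :=
    nondegenerate_of_separatingLeft Qc fun u hu => C.B_left_inj u fun v => by
      rw [← hpol, ← QuadraticMap.polarBilin_apply_apply]; exact hu v
  obtain ⟨L, hL⟩ := isometric_of_gauss hfr ((Module.finrank_pi F).trans h) hnd hQ hab (by
    rw [qGauss_eq_sum, hgauss, hG])
  let T : Module.End F (ι → F) := L.conj (LinearMap.mulLeft F (AdjoinRoot.root P))
  have hT : ∀ v, LinearMap.toMatrix' T *ᵥ v = L (AdjoinRoot.root P * L.symm v) := fun v => by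
    rw [← Matrix.toLin'_apply, Matrix.toLin'_toMatrix']; rfl
  have hTd : (LinearMap.toMatrix' T).det ≠ 0 := by
    rw [LinearMap.det_toMatrix']
    have hu : IsUnit T := (LinearMap.isUnit_iff_ker_eq_bot T).2 (LinearMap.ker_eq_bot'.2 fun v hv => ?_)
    · exact (hu.map LinearMap.det).ne_zero
    have h1 : AdjoinRoot.root P * L.symm v = 0 := L.injective (by rw [map_zero]; exact hv)
    have h2 : L.symm v = 0 := by
      calc L.symm v = (C.w * AdjoinRoot.root P) * L.symm v := by rw [mul_comm C.w, C.zw, one_mul]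
        _ = 0 := by rw [mul_assoc, h1, mul_zero]
    exact L.symm.injective (h2.trans (map_zero _).symm)
  refine ⟨mkIsometry _ hTd (fun v => by rw [hT, hL, hinv, ← hL, L.apply_symm_apply]), ?_⟩
  rw [coe_mkIsometry, ← LinearMap.toMatrix_eq_toMatrix', LinearMap.charpoly_toMatrix, LinearEquiv.charpoly_conj,
    ← LinearMap.charpoly_toMatrix (LinearMap.mulLeft F (AdjoinRoot.root P)) (AdjoinRoot.powerBasis' hP).basis,
    show (LinearMap.mulLeft F (AdjoinRoot.root P)) = Algebra.lmul F (AdjoinRoot P) (AdjoinRoot.root P) from rfl]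
  show (Algebra.leftMulMatrix (AdjoinRoot.powerBasis' hP).basis (AdjoinRoot.root P)).charpoly = P
  rw [← AdjoinRoot.powerBasis'_gen hP, charpoly_leftMulMatrix, AdjoinRoot.powerBasis'_gen,
    AdjoinRoot.minpoly_root hP.ne_zero, hP.leadingCoeff, inv_one, map_one, mul_one]

theorem le_card_classes_orth {ι : Type} [Fintype ι] [DecidableEq ι] (hn : 2 ≤ n) (h : Fintype.card ι = 2 * n)
    {Q : QuadraticForm F (ι → F)} (hQ : (QuadraticMap.polarBilin Q).Nondegenerate) {a b : F}
    (hab : ∀ z₁ z₂ : F, z₁ ^ 2 + a * z₁ * z₂ + b * z₂ ^ 2 = 0 → z₁ = 0 ∧ z₂ = 0)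
    {ε : ℤ} (hε : ε = 1 ∨ ε = -1) (hG : qGauss ⇑Q = (Fintype.card F : ℤ) ^ n * ε) :
    Fintype.card F ^ n ≤ 2 * Nat.card (ConjClasses (isometryGroup F ⇑Q)) := by
  classical
  let c : (Fin n → F) → ℕ → F := fun m u => if h : 1 ≤ u ∧ u ≤ n then m ⟨u - 1, by omega⟩ else 1
  let P : (Fin n → F) → F[X] := fun m =>
    X ^ (2 * n) + ∑ u ∈ Finset.range (2 * n), monomial u (c m (min u (2 * n - u)))
  have hdeg : ∀ m, (∑ u ∈ Finset.range (2 * n), monomial u (c m (min u (2 * n - u)))).degree < (2 * n : ℕ) := fun m =>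
    lt_of_le_of_lt (degree_sum_le _ _) ((Finset.sup_lt_iff (WithBot.bot_lt_coe _)).2 fun u hu =>
      (degree_monomial_le _ _).trans_lt (WithBot.coe_lt_coe.2 (Finset.mem_range.1 hu)))
  have hmon : ∀ m, (P m).Monic := fun m => monic_X_pow_add (hdeg m)
  have hnd : ∀ m, (P m).natDegree = 2 * n := fun m => natDegree_eq_of_degree_eq_some (by
    simp only [P]
    rw [degree_add_eq_left_of_degree_lt (by rw [degree_X_pow]; exact hdeg m), degree_X_pow])
  have hco : ∀ m u, u ≤ 2 * n → (P m).coeff u = c m (min u (2 * n - u)) := fun m u hu => by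
    simp only [P, coeff_add, finset_sum_coeff, coeff_monomial, Finset.sum_ite_eq', Finset.mem_range, coeff_X_pow]
    rcases Nat.lt_or_ge u (2 * n) with h | h
    · rw [if_neg (by omega), if_pos h, zero_add]
    · rw [if_pos (by omega), if_neg (by omega), add_zero, show min u (2 * n - u) = 0 by omega]
      simp [c]
  have h0 : ∀ m, (P m).coeff 0 = 1 := fun m => by rw [hco m 0 (Nat.zero_le _)]; simp [c]
  have hsym : ∀ m, ∀ u ≤ 2 * n, (P m).coeff u = (P m).coeff (2 * n - u) := fun m u hu => by
    rw [hco m u hu, hco m _ (Nat.sub_le _ _), show 2 * n - (2 * n - u) = u by omega, min_comm]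
  -- the two coordinates that matter
  let jn : Fin n := ⟨n - 1, by omega⟩
  let jd : Fin n := ⟨n - 2, by omega⟩
  have hjne : jn ≠ jd := fun h => by
    have := congrArg Fin.val h
    simp only [jn, jd] at this
    omega
  have hmid : ∀ m, (P m).coeff n = m jn := fun m => by
    rw [hco m n (by omega), show min n (2 * n - n) = n by omega]
    simp [c, jn, show 1 ≤ n by omega]
  let D : (Fin n → F) → F := fun m => typeSum (P m) n
  have hlow : ∀ m d, ∀ u < n, (P (Function.update m jd (m jd + d))).coeff u =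
      (P m).coeff u + if u = n - 1 then d else 0 := fun m d u hu => by
    rw [hco _ u (by omega), hco _ u (by omega), show min u (2 * n - u) = u by omega]
    simp only [c]
    by_cases hu1 : u = n - 1
    · subst hu1
      rw [dif_pos ⟨by omega, by omega⟩, dif_pos ⟨by omega, by omega⟩, if_pos rfl,
        show (⟨n - 1 - 1, by omega⟩ : Fin n) = jd from Fin.ext (by simp [jd]; omega), Function.update_self]
    · rw [if_neg hu1, add_zero]
      split_ifs with hu2
      · rw [Function.update_of_ne fun h => hu1 (by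
          have := congrArg Fin.val h
          simp only [jd] at this
          omega)]
      · rfl
  have hD : ∀ m d, D (Function.update m jd (m jd + d)) = D m + d := fun m d => by
    simp only [D, typeSum, lowSum]
    rw [Finset.sum_congr rfl fun l hl => Finset.sum_congr rfl fun u hu => hlow m d u (by
      have := Finset.mem_range.1 hu; omega)]
    simp only [Finset.sum_add_distrib, Finset.sum_ite_eq', Finset.mem_range]
    rw [Finset.sum_eq_single 0 (fun l _ hl => if_neg (by omega)) (fun h => absurd (Finset.mem_range.2 (by omega)) h),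
      if_pos (by omega)]
  let ok : (Fin n → F) → Prop := fun m =>
    if m jn = 0 then D m ≠ 0 else chi ((m jn)⁻¹ * D m) = ε
  let δ : F → F := fun x => if x = 0 then 1 else tau F * x
  have hfix : ∀ m, ¬ ok m → ok (Function.update m jd (m jd + δ (m jn))) := fun m hm => by
    simp only [ok, hD, Function.update_of_ne hjne] at hm ⊢
    by_cases hx : m jn = 0
    · rw [if_pos hx] at hm ⊢
      rw [not_ne_iff.1 hm, zero_add]
      simp only [δ, if_pos hx]
      exact one_ne_zero
    · rw [if_neg hx] at hm ⊢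
      simp only [δ, if_neg hx]
      rw [mul_add, show (m jn)⁻¹ * (tau F * m jn) = tau F by field_simp, chi_add, chi_tau]
      have h1 : chi ((m jn)⁻¹ * D m) = 1 ∨ chi ((m jn)⁻¹ * D m) = -1 := by
        unfold chi; split_ifs <;> simp
      rcases h1 with h1 | h1 <;> rcases hε with hε | hε <;> rw [h1] at hm ⊢ <;> omega
  let fix' : (Fin n → F) → Bool × {m // ok m} := fun m =>
    if hm : ok m then (true, ⟨m, hm⟩) else (false, ⟨_, hfix m hm⟩)
  have hinj' : Function.Injective fix' := fun m m' hz => by
    simp only [fix'] at hz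
    split_ifs at hz <;> simp only [Prod.mk.injEq, Subtype.mk.injEq, reduceCtorEq, false_and, true_and] at hz
    · exact hz
    · have hj : m jn = m' jn := by
        have := congrFun hz jn
        rwa [Function.update_of_ne hjne, Function.update_of_ne hjne] at this
      funext i
      by_cases hi : i = jd
      · subst hi
        have := congrFun hz jd
        rw [Function.update_self, Function.update_self, hj] at this
        exact add_right_cancel this
      · have := congrFun hz i
        rwa [Function.update_of_ne hi, Function.update_of_ne hi] at this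
  have key : ∀ m : {m // ok m}, ∃ g : isometryGroup F ⇑Q, ((g : GL ι F) : Matrix ι ι F).charpoly = P m.1 := by
    rintro ⟨m, hm⟩
    show ∃ g : isometryGroup F ⇑Q, ((g : GL ι F) : Matrix ι ι F).charpoly = P m
    simp only [ok] at hm
    by_cases hx : m jn = 0
    · rw [if_pos hx] at hm
      obtain ⟨t, ht⟩ : ∃ t : F, chi t = ε := by
        rcases hε with rfl | rfl
        · exact ⟨0, chi_zero⟩
        · exact ⟨tau F, chi_tau⟩
      refine exists_element h hQ hab (hmon m) (by omega) (hnd m) (h0 m) (hsym m) (t / D m) ?_ ?_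
      · rw [hmid, hx, zero_mul, zero_mul]
      · rw [hG, show t / D m * typeSum (P m) n = t from div_mul_cancel₀ t hm, ht]
    · rw [if_neg hx] at hm
      refine exists_element h hQ hab (hmon m) (by omega) (hnd m) (h0 m) (hsym m) (m jn)⁻¹ ?_ ?_
      · rw [hmid]; field_simp
      · rw [hG, show chi ((m jn)⁻¹ * typeSum (P m) n) = ε from hm]
  choose g hg using key
  have hinj : Function.Injective fun z => ConjClasses.mk (g z) := fun z z' hzz => by
    obtain ⟨x, hx⟩ := isConj_iff.1 (ConjClasses.mk_eq_mk_iff_isConj.1 hzz)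
    have h1 := hg z'
    rw [← hx] at h1
    simp only [Subgroup.coe_mul, Subgroup.coe_inv, Units.val_mul] at h1
    rw [Matrix.coe_units_inv, Matrix.charpoly_units_conj, hg z] at h1
    refine Subtype.ext (funext fun i => ?_)
    have h3 := congrArg (fun R : F[X] => R.coeff ((i : ℕ) + 1)) h1
    simp only [hco _ _ (show (i : ℕ) + 1 ≤ 2 * n by omega),
      show min ((i : ℕ) + 1) (2 * n - ((i : ℕ) + 1)) = (i : ℕ) + 1 by omega, c,
      dif_pos (show 1 ≤ (i : ℕ) + 1 ∧ (i : ℕ) + 1 ≤ n by omega), Nat.add_sub_cancel] at h3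
    exact h3
  calc Fintype.card F ^ n = Nat.card (Fin n → F) := by simp
    _ ≤ Nat.card (Bool × {m // ok m}) := Nat.card_le_card_of_injective fix' hinj'
    _ = 2 * Nat.card {m // ok m} := by rw [Nat.card_prod, Nat.card_eq_fintype_card (α := Bool), Fintype.card_bool]
    _ ≤ _ := Nat.mul_le_mul_left 2 (Nat.card_le_card_of_injective _ hinj)

end Cfsg.Agent.Classical.IsometryTwo
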