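import Cfsg.Agent.Lib.Classical.SympTwoNumber
import Cfsg.Agent.Lib.Classical.OrthClassNumber

/-!
`k(O(Q)) ≤ 15 * q ^ n` for a non-degenerate quadratic form in dimension `2n`, `q` even.
-/

set_option autoImplicit false

namespace Cfsg.Agent.Classical.IsometryTwo

open Polynomial Module Matrix
open Cfsg Cfsg.Agent.Classical Cfsg.Agent.Classical.SLClasses Cfsg.Agent.Classical.UnitClasses
  Cfsg.Agent.Classical.IsometryClasses Cfsg.Agent.UnitaryDetCentralizer
open Cfsg.Agent.Classical.OrthClasses (ocoords triO)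

universe u

variable {F : Type u} [Field F] [CharP F 2] {ι : Type} [Fintype ι] [DecidableEq ι] {n : ℕ}

attribute [local instance] Classical.propDecidable

/-- The character sum of a quadratic form. -/
noncomputable def qGauss [Finite F] {V : Type*} (Q : V → F) : ℤ := ∑ᶠ v, chi (Q v)

/-- The twisted triple of an orthogonal transformation. -/
noncomputable def twO (h : Fintype.card ι = 2 * n) {Q : QuadraticForm F (ι → F)}
    (hQ : (QuadraticMap.polarBilin Q).Nondegenerate) (g : isometryGroup F ⇑Q) : Tw F true where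
  toTri := triO h hQ g
  alt x := by
    show QuadraticMap.polarBilin Q (ocoords h F x) (ocoords h F x) = 0
    rw [QuadraticMap.polarBilin_apply_apply, QuadraticMap.polar_self]
    simp [CharTwo.two_eq_zero]
  Q := fun x => Q (ocoords h F x)
  Q_add x y := by
    have key : ∀ u v : Fin (2 * n) → F, Q (ocoords h F (u + v)) = Q (ocoords h F u) + Q (ocoords h F v) +
        QuadraticMap.polarBilin Q (ocoords h F u) (ocoords h F v) := fun u v => by
      rw [map_add, QuadraticMap.map_add ⇑Q, QuadraticMap.polarBilin_apply_apply]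
    exact key x y
  Q_smul c x := by
    have key : ∀ u : Fin (2 * n) → F, Q (ocoords h F (c • u)) = c * c * Q (ocoords h F u) := fun u => by
      rw [map_smul, QuadraticMap.map_smul, smul_eq_mul]
    exact key x
  Q_g x := by
    show Q (ocoords h F ((ocoords h F).symm (Matrix.toLin' _ (ocoords h F x)))) = Q (ocoords h F x)
    rw [LinearEquiv.apply_symm_apply, Matrix.toLin'_apply]
    exact mem_isometryGroup.1 g.2 _
  Q_off := fun h => Bool.noConfusion h

theorem gauss_twO [Finite F] (h : Fintype.card ι = 2 * n) {Q : QuadraticForm F (ι → F)}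
    (hQ : (QuadraticMap.polarBilin Q).Nondegenerate) (g : isometryGroup F ⇑Q) :
    (twO h hQ g).gauss = qGauss ⇑Q :=
  finsum_eq_of_bijective (ocoords h F) (ocoords h F).bijective fun _ => rfl

theorem isConj_of_twO (h : Fintype.card ι = 2 * n) {Q : QuadraticForm F (ι → F)}
    (hQ : (QuadraticMap.polarBilin Q).Nondegenerate) {g g' : isometryGroup F ⇑Q}
    (e : (twO h hQ g).Iso (twO h hQ g')) : IsConj g g' := by
  obtain ⟨φ, -, hg, hq⟩ := e
  change ((Fin (2 * n) → F) ≃ₗ[F] (Fin (2 * n) → F)) at φ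
  let L : (ι → F) ≃ₗ[F] (ι → F) := (ocoords h F).symm.trans (φ.trans (ocoords h F))
  have hL : ∀ v, (LinearMap.toMatrix' L.toLinearMap) *ᵥ v = L v := fun v => by
    rw [← Matrix.toLin'_apply, Matrix.toLin'_toMatrix']; rfl
  have hQL : ∀ v, Q (L v) = Q v := fun v => by
    have h1 : Q (ocoords h F (φ ((ocoords h F).symm v))) = Q (ocoords h F ((ocoords h F).symm v)) := hq _
    rw [LinearEquiv.apply_symm_apply] at h1
    exact h1
  have hd : (LinearMap.toMatrix' L.toLinearMap).det ≠ 0 := by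
    rw [LinearMap.det_toMatrix']
    exact L.isUnit_det'.ne_zero
  refine isConj_iff.2 ⟨mkIsometry _ hd (fun v => by rw [hL]; exact hQL v), mul_inv_eq_iff_eq_mul.2
    (Subtype.ext (Units.ext (Matrix.ext_iff_mulVec.2 fun v => ?_)))⟩
  show (LinearMap.toMatrix' L.toLinearMap * ((g : GL ι F) : Matrix ι ι F)) *ᵥ v =
    (((g' : GL ι F) : Matrix ι ι F) * LinearMap.toMatrix' L.toLinearMap) *ᵥ v
  rw [← Matrix.mulVec_mulVec, ← Matrix.mulVec_mulVec, hL, hL]
  have h1 : φ ((ocoords h F).symm (Matrix.toLin' ((g : GL ι F) : Matrix ι ι F) (ocoords h F ((ocoords h F).symm v)))) =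
      (ocoords h F).symm (Matrix.toLin' ((g' : GL ι F) : Matrix ι ι F) (ocoords h F (φ ((ocoords h F).symm v)))) := hg _
  rw [LinearEquiv.apply_symm_apply, Matrix.toLin'_apply, Matrix.toLin'_apply] at h1
  show (ocoords h F) (φ ((ocoords h F).symm (((g : GL ι F) : Matrix ι ι F) *ᵥ v))) =
    ((g' : GL ι F) : Matrix ι ι F) *ᵥ (ocoords h F) (φ ((ocoords h F).symm v))
  rw [h1, LinearEquiv.apply_symm_apply]

/-- The character sum leaves one bit fewer for each label. -/
theorem exists_inj_orth [Finite F] (h : Fintype.card ι = 2 * n) {Q : QuadraticForm F (ι → F)}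
    (hQ : (QuadraticMap.polarBilin Q).Nondegenerate) :
    ∃ f : ConjClasses (isometryGroup F ⇑Q) → Lbl true F n (fun b => 2 ^ (b - 1)), Function.Injective f := by
  classical
  choose g hg using fun C : ConjClasses (isometryGroup F ⇑Q) => ConjClasses.mk_surjective C
  choose S hS using fun C => exists_labels (twO h hQ (g C)).g
  choose χ hχ using fun (S : Multiset (F[X] × ℕ)) (Fl : Finset ℕ) =>
    exists_code_gauss (F := F) (o := true) rfl S Fl (qGauss ⇑Q)
  refine ⟨fun C => ⟨⟨(S C, flags (twO h hQ (g C)) (S C)), good_of_key rfl (hS C)⟩, χ _ _ (twO h hQ (g C))⟩,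
    fun C C' hC => ?_⟩
  have hp := congrArg (fun z : Lbl true F n (fun b => 2 ^ (b - 1)) => z.1.1) hC
  have h1 : S C = S C' := congrArg Prod.fst hp
  have h2 : flags (twO h hQ (g C)) (S C) = flags (twO h hQ (g C')) (S C') := congrArg Prod.snd hp
  have hv := congrArg (fun z : Lbl true F n (fun b => 2 ^ (b - 1)) => (z.2 : ℕ)) hC
  have key : ∀ (S₁ S₂ : Multiset (F[X] × ℕ)) (F₁ F₂ : Finset ℕ) (T T' : Tw F true), S₁ = S₂ → F₁ = F₂ →
      (χ S₁ F₁ T : ℕ) = (χ S₂ F₂ T' : ℕ) → χ S₁ F₁ T = χ S₁ F₁ T' := by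
    rintro _ _ _ _ T T' rfl rfl he
    exact Fin.ext he
  have hiso := hχ _ _ _ _ ⟨hS C, rfl⟩ ⟨h1 ▸ hS C', h1 ▸ h2.symm⟩ (gauss_twO h hQ _) (gauss_twO h hQ _)
    (key _ _ _ _ _ _ h1 h2 hv)
  rw [← hg C, ← hg C']
  exact ConjClasses.mk_eq_mk_iff_isConj.2 (isConj_of_twO h hQ hiso)

theorem card_classes_orth_le [Fintype F] (hn : 1 ≤ n) (h : Fintype.card ι = 2 * n) {Q : QuadraticForm F (ι → F)}
    (hQ : (QuadraticMap.polarBilin Q).Nondegenerate) :
    Nat.card (ConjClasses (isometryGroup F ⇑Q)) ≤ 15 * Fintype.card F ^ n := by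
  obtain ⟨f, hf⟩ := exists_inj_orth h hQ
  obtain ⟨hfin, hbd⟩ := card_Lbl_orth (F := F) hn
  exact le_trans (Nat.card_le_card_of_injective f hf) hbd

end Cfsg.Agent.Classical.IsometryTwo
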