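import Cfsg.Agent.Lib.Classical.SympTwoCyclic
import Cfsg.Agent.Lib.Classical.IsometryTwoGauss

/-!
Invariant quadratic forms on cyclic modules in characteristic two, with their character sums.
-/

set_option autoImplicit false

namespace Cfsg.Agent.Classical.IsometryTwo

open Polynomial Module

universe u

variable {F : Type u} [Field F] {P : F[X]} {n : ℕ}

attribute [local instance] Classical.propDecidable

/-- Partial sums of the lower coefficients. -/
noncomputable def lowSum (P : F[X]) (n l : ℕ) : F := ∑ m ∈ Finset.range (n - l), P.coeff m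

/-- The sum that decides the type of the invariant forms. -/
noncomputable def typeSum (P : F[X]) (n : ℕ) : F := ∑ l ∈ Finset.range n, lowSum P n l

namespace Cyc

variable (C : Cyc P n)

local notation "z" => AdjoinRoot.root P

theorem cancel (a b : ℕ) : z ^ (a + b) * C.w ^ a = z ^ b := by
  rw [pow_add, mul_right_comm, C.pow_mul_w_pow, one_mul]

theorem cancel' (a b : ℕ) : z ^ a * C.w ^ (a + b) = C.w ^ b := by
  rw [pow_add, ← mul_assoc, C.pow_mul_w_pow, one_mul]

theorem τ_w : C.τ C.w = z := by rw [← C.τz, C.ττ]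

theorem φ_mixed {a b : ℕ} (h1 : a < b + n) (h2 : b < a + n) : C.φ (z ^ a * C.w ^ b) = 0 := by
  rcases le_total b a with h | h
  · obtain ⟨d, rfl⟩ := Nat.exists_eq_add_of_le h
    rw [C.cancel, C.low d (by omega)]
  · obtain ⟨d, rfl⟩ := Nat.exists_eq_add_of_le h
    rw [C.cancel', C.φ_w_pow, C.low d (by omega)]

theorem φ_top {a b : ℕ} (h : a = b + n) : C.φ (z ^ a * C.w ^ b) = 1 := by
  rw [h, C.cancel, C.at_n]

omit C in
theorem root_relation (hP : P.natDegree = 2 * n) :
    ∑ u ∈ Finset.range (2 * n + 1), P.coeff u • z ^ u = 0 := by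
  have h : aeval z P = 0 := by rw [AdjoinRoot.aeval_eq, AdjoinRoot.mk_self]
  rwa [aeval_eq_sum_range, hP] at h

variable [Fintype F] [CharP F 2]

/-- The invariant quadratic forms. -/
theorem exists_quad (hP : P.Monic) (hn : 1 ≤ n) (hd : P.natDegree = 2 * n) (h0 : P.coeff 0 = 1)
    (hsym : ∀ u ≤ 2 * n, P.coeff u = P.coeff (2 * n - u)) (q₀ : F)
    (hq : P.coeff n * P.coeff n * q₀ = P.coeff n) :
    ∃ Q : QuadraticForm F (AdjoinRoot P), (∀ a b, QuadraticMap.polar ⇑Q a b = C.B a b) ∧
      (∀ a, Q (z * a) = Q a) ∧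
      ∀ [Fintype (AdjoinRoot P)], ∑ x, chi (Q x) = (Fintype.card F : ℤ) ^ n * chi (q₀ * typeSum P n) := by
  classical
  let pb := AdjoinRoot.powerBasis' hP
  have hdim : pb.dim = 2 * n := (AdjoinRoot.powerBasis'_dim hP).trans hd
  let E : AdjoinRoot P ≃ₗ[F] AdjoinRoot P := LinearEquiv.ofLinearMap
    (LinearMap.mulLeft F (C.w ^ n)) (LinearMap.mulLeft F (z ^ n))
    (LinearMap.ext fun x => by
      show C.w ^ n * (z ^ n * x) = x
      rw [← mul_assoc, mul_comm (C.w ^ n), C.pow_mul_w_pow, one_mul])
    (LinearMap.ext fun x => by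
      show z ^ n * (C.w ^ n * x) = x
      rw [← mul_assoc, C.pow_mul_w_pow, one_mul])
  let bs : Basis (Fin (2 * n)) F (AdjoinRoot P) := (pb.basis.reindex (finCongr hdim)).map E
  have hbs : ∀ i : Fin (2 * n), bs i = C.w ^ n * z ^ (i : ℕ) := fun i => by
    simp [bs, E, pb, PowerBasis.coe_basis, LinearEquiv.ofLinearMap]
  have hbs_hi : ∀ (i : Fin (2 * n)) (j : ℕ), (i : ℕ) = n + j → bs i = z ^ j := fun i j hij => by
    rw [hbs, hij, mul_comm, C.cancel]
  have hbs_lo : ∀ (i : Fin (2 * n)) (j : ℕ), (i : ℕ) + j = n → bs i = C.w ^ j := fun i j hij => by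
    rw [hbs, mul_comm]
    have h := C.cancel' (i : ℕ) j
    rwa [hij] at h
  have hBbs : ∀ i j : Fin (2 * n), (i : ℕ) < (j : ℕ) + n → (j : ℕ) < (i : ℕ) + n → C.B (bs i) (bs j) = 0 := by
    intro i j h1 h2
    rw [hbs, hbs, B_def, map_mul C.τ, map_pow C.τ, map_pow C.τ, C.τ_w, C.τz,
      show C.w ^ n * z ^ (i : ℕ) * (z ^ n * C.w ^ (j : ℕ)) = (z ^ n * C.w ^ n) * (z ^ (i : ℕ) * C.w ^ (j : ℕ)) by ring,
      C.pow_mul_w_pow, one_mul, C.φ_mixed h1 h2]
  let p : AdjoinRoot P →ₗ[F] AdjoinRoot P := bs.constr F fun i => if n ≤ (i : ℕ) then bs i else 0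
  let p' : AdjoinRoot P →ₗ[F] AdjoinRoot P := bs.constr F fun i => if n ≤ (i : ℕ) then 0 else bs i
  let s : AdjoinRoot P →ₗ[F] F := bs.constr F fun i => if n ≤ (i : ℕ) then 1 else 0
  let s' : AdjoinRoot P →ₗ[F] F := bs.constr F fun i => if n ≤ (i : ℕ) then 0 else 1
  have hp_bs : ∀ i, p (bs i) = if n ≤ (i : ℕ) then bs i else 0 := fun i => bs.constr_basis F _ i
  have hp'_bs : ∀ i, p' (bs i) = if n ≤ (i : ℕ) then 0 else bs i := fun i => bs.constr_basis F _ i
  have hs_bs : ∀ i, s (bs i) = if n ≤ (i : ℕ) then 1 else 0 := fun i => bs.constr_basis F _ i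
  have hs'_bs : ∀ i, s' (bs i) = if n ≤ (i : ℕ) then 0 else 1 := fun i => bs.constr_basis F _ i
  have hsplit : ∀ x, p x + p' x = x := fun x => by
    have : p + p' = LinearMap.id := bs.ext fun i => by
      simp only [LinearMap.add_apply, p, p', Basis.constr_basis, LinearMap.id_apply]
      split_ifs <;> simp
    exact LinearMap.congr_fun this x
  have hpp : ∀ x y, C.B (p x) (p y) = 0 := fun x y => by
    have : C.B.compl₁₂ p p = 0 := bs.ext fun i => bs.ext fun j => by
      simp only [LinearMap.compl₁₂_apply, p, Basis.constr_basis, LinearMap.zero_apply]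
      split_ifs with a b b
      · exact hBbs i j (by omega) (by omega)
      all_goals simp
    exact LinearMap.congr_fun (LinearMap.congr_fun this x) y
  have hpp' : ∀ x y, C.B (p' x) (p' y) = 0 := fun x y => by
    have : C.B.compl₁₂ p' p' = 0 := bs.ext fun i => bs.ext fun j => by
      simp only [LinearMap.compl₁₂_apply, p', Basis.constr_basis, LinearMap.zero_apply]
      split_ifs with a b b
      iterate 3 simp
      exact hBbs i j (by omega) (by omega)
    exact LinearMap.congr_fun (LinearMap.congr_fun this x) y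
  let β : LinearMap.BilinMap F (AdjoinRoot P) F :=
    s.smulRight (q₀ • s) + s'.smulRight (q₀ • s') + C.B.compl₁₂ p p'
  let Q : QuadraticForm F (AdjoinRoot P) := β.toQuadraticMap
  have hQd : ∀ x, Q x = q₀ * (s x * s x) + q₀ * (s' x * s' x) + C.B (p x) (p' x) := fun x => by
    show β x x = _
    simp only [β, LinearMap.add_apply, LinearMap.smulRight_apply, LinearMap.smul_apply, smul_eq_mul,
      LinearMap.compl₁₂_apply]
    ring
  have hpol : ∀ a b, QuadraticMap.polar ⇑Q a b = C.B a b := fun a b => by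
    show QuadraticMap.polar (⇑β.toQuadraticMap) a b = _
    rw [LinearMap.BilinMap.polar_toQuadraticMap]
    simp only [β, LinearMap.add_apply, LinearMap.smulRight_apply, LinearMap.smul_apply, smul_eq_mul,
      LinearMap.compl₁₂_apply]
    conv_rhs => rw [← hsplit a, ← hsplit b]
    simp only [map_add, LinearMap.add_apply, hpp, hpp', C.B_comm (p b) (p' a)]
    linear_combination (q₀ * s a * s b + q₀ * s' a * s' b) * (CharTwo.two_eq_zero (R := F))
  have hadd : ∀ x y, Q (x + y) = Q x + Q y + C.B x y := fun x y => by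
    rw [QuadraticMap.map_add ⇑Q x y, hpol]
  have hsmul : ∀ (c : F) x, Q (c • x) = c * c * Q x := fun c x => by
    rw [QuadraticMap.map_smul, smul_eq_mul]
  have hQbs : ∀ i, Q (bs i) = q₀ := fun i => by
    rw [hQd]
    simp only [p, p', s, s', Basis.constr_basis]
    split_ifs <;> simp
  -- combinations inside one half
  have hQhi : ∀ (c : ℕ → F) (m : ℕ), m ≤ n → ∀ e : ℕ, e + m ≤ n →
      Q (∑ j ∈ Finset.range m, c j • z ^ (e + j)) = q₀ * (∑ j ∈ Finset.range m, c j) ^ 2 := by
    intro c m hm e he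
    have h1 : ∀ j ∈ Finset.range m, p' (z ^ (e + j)) = 0 ∧ s (z ^ (e + j)) = 1 ∧ s' (z ^ (e + j)) = 0 := by
      intro j hj
      have := Finset.mem_range.1 hj
      rw [← hbs_hi ⟨n + (e + j), by omega⟩ (e + j) rfl]
      simp [hp'_bs, hs_bs, hs'_bs]
    set x := ∑ j ∈ Finset.range m, c j • z ^ (e + j) with hx
    have e1 : p' x = 0 := by
      rw [hx, map_sum]
      exact Finset.sum_eq_zero fun j hj => by rw [map_smul, (h1 j hj).1, smul_zero]
    have e2 : s x = ∑ j ∈ Finset.range m, c j := by
      rw [hx, map_sum]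
      exact Finset.sum_congr rfl fun j hj => by rw [map_smul, (h1 j hj).2.1, smul_eq_mul, mul_one]
    have e3 : s' x = 0 := by
      rw [hx, map_sum]
      exact Finset.sum_eq_zero fun j hj => by rw [map_smul, (h1 j hj).2.2, smul_zero]
    rw [hQd, e1, e2, e3, map_zero]
    ring
  have hQlo : ∀ (c : ℕ → F) (m : ℕ), m ≤ n →
      Q (∑ j ∈ Finset.range m, c j • C.w ^ (j + 1)) = q₀ * (∑ j ∈ Finset.range m, c j) ^ 2 := by
    intro c m hm
    have h1 : ∀ j ∈ Finset.range m,
        p (C.w ^ (j + 1)) = 0 ∧ s (C.w ^ (j + 1)) = 0 ∧ s' (C.w ^ (j + 1)) = 1 := by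
      intro j hj
      have := Finset.mem_range.1 hj
      rw [← hbs_lo ⟨n - (j + 1), by omega⟩ (j + 1) (by simp; omega)]
      have hlt : ¬ n ≤ n - (j + 1) := by omega
      simp [hp_bs, hs_bs, hs'_bs, hlt]
    set x := ∑ j ∈ Finset.range m, c j • C.w ^ (j + 1) with hx
    have e1 : p x = 0 := by
      rw [hx, map_sum]
      exact Finset.sum_eq_zero fun j hj => by rw [map_smul, (h1 j hj).1, smul_zero]
    have e2 : s x = 0 := by
      rw [hx, map_sum]
      exact Finset.sum_eq_zero fun j hj => by rw [map_smul, (h1 j hj).2.1, smul_zero]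
    have e3 : s' x = ∑ j ∈ Finset.range m, c j := by
      rw [hx, map_sum]
      exact Finset.sum_congr rfl fun j hj => by rw [map_smul, (h1 j hj).2.2, smul_eq_mul, mul_one]
    rw [hQd, e1, e2, e3, map_zero, LinearMap.zero_apply]
    ring
  -- the wrapping term
  have hQn : Q (z ^ n) = q₀ := by
    obtain ⟨k, rfl⟩ : ∃ k, n = k + 1 := ⟨n - 1, by omega⟩
    set Y := ∑ j ∈ Finset.range k, P.coeff (k + 1 + (j + 1)) • z ^ (1 + j) with hY
    have hτY : C.τ Y = ∑ j ∈ Finset.range k, P.coeff (k + 1 + (j + 1)) • C.w ^ (j + 1) := by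
      rw [hY, map_sum]
      exact Finset.sum_congr rfl fun j _ => by rw [map_smul, map_pow C.τ, C.τz, add_comm 1 j]
    set c := P.coeff (k + 1) with hc
    set S := c • (1 : AdjoinRoot P) + Y + C.τ Y with hS
    have hrel : z ^ (k + 1) + C.w ^ (k + 1) + S = 0 := by
      have h := congrArg (fun x => C.w ^ (k + 1) * x) (root_relation hd)
      simp only [mul_zero, Finset.mul_sum, mul_smul_comm] at h
      rw [show 2 * (k + 1) + 1 = (k + 1) + (1 + (k + 1)) by omega, Finset.sum_range_add _ (k + 1) (1 + (k + 1)),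
        Finset.sum_range_add _ 1 (k + 1),
        Finset.sum_range_one, add_zero, mul_comm (C.w ^ (k + 1)) (z ^ (k + 1)), C.pow_mul_w_pow, ← hc] at h
      have e1 : ∑ u ∈ Finset.range (k + 1), P.coeff u • (C.w ^ (k + 1) * z ^ u) = C.w ^ (k + 1) + C.τ Y := by
        rw [Finset.sum_range_succ', h0, one_smul, pow_zero, mul_one, hτY, add_comm (C.w ^ (k + 1))]
        congr 1
        rw [← Finset.sum_range_reflect]
        refine Finset.sum_congr rfl fun j hj => ?_
        have := Finset.mem_range.1 hj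
        obtain ⟨e, rfl⟩ : ∃ e, k = j + 1 + e := ⟨k - (j + 1), by omega⟩
        rw [show j + 1 + e - 1 - j + 1 = e + 1 by omega, hsym (e + 1) (by omega),
          show 2 * (j + 1 + e + 1) - (e + 1) = j + 1 + e + 1 + (j + 1) by omega]
        congr 1
        have hc' := C.cancel' (e + 1) (j + 1)
        rw [show e + 1 + (j + 1) = j + 1 + e + 1 by omega, mul_comm] at hc'
        exact hc'
      have e2 : ∑ x ∈ Finset.range (k + 1),
          P.coeff (k + 1 + (1 + x)) • (C.w ^ (k + 1) * z ^ (k + 1 + (1 + x))) = Y + z ^ (k + 1) := by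
        simp only [mul_comm (C.w ^ (k + 1)), C.cancel]
        rw [Finset.sum_range_succ, hY, show k + 1 + (1 + k) = P.natDegree by omega, hP.coeff_natDegree, one_smul,
          show 1 + k = k + 1 by omega]
        congr 1
        exact Finset.sum_congr rfl fun j _ => by rw [add_comm 1 j]
      rw [e1, e2] at h
      rw [hS, ← h]
      abel
    have hφY : C.φ Y = 0 := by
      rw [hY, map_sum]
      exact Finset.sum_eq_zero fun j hj => by
        rw [map_smul, C.low _ (by have := Finset.mem_range.1 hj; omega), smul_zero]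
    have hφτY : C.φ (z ^ (k + 1) * C.τ Y) = 0 := by
      rw [hτY, Finset.mul_sum, map_sum]
      exact Finset.sum_eq_zero fun j hj => by
        rw [mul_smul_comm, map_smul, C.φ_mixed (by omega) (by have := Finset.mem_range.1 hj; omega), smul_zero]
    have hφwY : C.φ (C.w ^ (k + 1) * Y) = 0 := by
      rw [← C.φτ, map_mul, map_pow C.τ, C.τ_w, hφτY]
    have hYY : C.φ (Y * C.τ Y) = 0 := C.B_alt hP hn Y
    have hcY : ∀ x, C.φ (c • (1 : AdjoinRoot P) * x) = c * C.φ x := fun x => by
      rw [smul_mul_assoc, one_mul, map_smul, smul_eq_mul]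
    have hτS : C.τ S = S := by
      rw [hS, map_add, map_add, map_smul, map_one, C.ττ]
      abel
    have hz : z ^ (k + 1) = C.w ^ (k + 1) + S := by
      have h2 : (2 : AdjoinRoot P) * (C.w ^ (k + 1) + S) = 0 := by
        rw [two_mul, ← two_smul F, CharTwo.two_eq_zero, zero_smul]
      linear_combination hrel - h2
    have hzS : C.φ (z ^ (k + 1) * S) = c + C.φ (Y * Y) := by
      have e : C.φ (z ^ (k + 1) * Y) = C.φ (Y * Y) := by
        rw [hz, add_mul, map_add, hφwY, zero_add, hS, add_mul, add_mul, map_add, map_add, hcY, hφY, mul_zero,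
          zero_add, mul_comm (C.τ Y), hYY, add_zero]
      rw [hS, mul_add, mul_add, map_add, map_add, hφτY, add_zero, mul_comm (z ^ (k + 1)) (c • 1), hcY, C.at_n,
        mul_one, e]
    have hwS : C.B (C.w ^ (k + 1)) S = c + C.φ (Y * Y) := by
      rw [B_def, hτS, ← hzS, ← C.φτ, map_mul, map_pow C.τ, C.τ_w, hτS]
    have hQS : Q S = c * c * q₀ + C.φ (Y * Y) := by
      have h1 : Q (1 : AdjoinRoot P) = q₀ := by
        rw [← pow_zero z, ← hbs_hi ⟨k + 1, by omega⟩ 0 rfl, hQbs]
      have hA : C.B (c • 1) (Y + C.τ Y) = 0 := by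
        rw [B_def, hcY, map_add C.τ, C.ττ, map_add, C.φτ, hφY, add_zero, mul_zero]
      rw [hS, add_assoc, hadd, hsmul, h1, hA, add_zero, hadd, B_def, C.ττ]
      rw [hτY, hQlo _ k (by omega), hY, hQhi _ k (by omega) 1 (by omega)]
      linear_combination (q₀ * (∑ j ∈ Finset.range k, P.coeff (k + 1 + (j + 1))) ^ 2) * (CharTwo.two_eq_zero (R := F))
    rw [hz, hadd, hQS, hwS, ← hbs_lo ⟨0, by omega⟩ (k + 1) (by simp), hQbs]
    linear_combination hq + (C.φ (Y * Y) + c) * (CharTwo.two_eq_zero (R := F))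
  have hinv : ∀ a, Q (z * a) = Q a := by
    let K : Submodule F (AdjoinRoot P) :=
      { carrier := {x | Q (z * x) = Q x}
        zero_mem' := by simp
        add_mem' := fun {x y} (hx : Q (z * x) = Q x) (hy : Q (z * y) = Q y) => by
          show Q (z * (x + y)) = Q (x + y)
          rw [mul_add, hadd, hadd, hx, hy, C.B_root_mul]
        smul_mem' := fun c x (hx : Q (z * x) = Q x) => by
          show Q (z * (c • x)) = Q (c • x)
          rw [mul_smul_comm, hsmul, hsmul, hx] }
    have h : ⊤ ≤ K := by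
      rw [← bs.span_eq, Submodule.span_le]
      rintro _ ⟨i, rfl⟩
      show Q (z * bs i) = Q (bs i)
      rw [hQbs, hbs, mul_left_comm, ← pow_succ']
      by_cases hi : (i : ℕ) + 1 < 2 * n
      · rw [← hbs ⟨(i : ℕ) + 1, hi⟩, hQbs]
      · rw [show (i : ℕ) + 1 = n + n by omega, mul_comm, C.cancel, hQn]
    exact fun a => h (Submodule.mem_top : a ∈ ⊤)
  refine ⟨Q, hpol, hinv, ?_⟩
  intro _
  -- the character sum
  let v : Fin n → AdjoinRoot P := fun i => bs ⟨n + (i : ℕ), by omega⟩
  let L := Submodule.span F (Set.range v)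
  have hL : ∀ x ∈ L, p' x = 0 := fun x hx => by
    have : L ≤ LinearMap.ker p' := Submodule.span_le.2 (by
      rintro _ ⟨i, rfl⟩
      show p' (v i) = 0
      simp [hp'_bs, v])
    exact this hx
  have hpL : ∀ x, p x ∈ L := fun x => by
    have : ⊤ ≤ L.comap p := by
      rw [← bs.span_eq, Submodule.span_le]
      rintro _ ⟨i, rfl⟩
      show p (bs i) ∈ L
      simp only [p, Basis.constr_basis]
      split_ifs with hi
      · refine Submodule.subset_span ⟨⟨(i : ℕ) - n, by omega⟩, ?_⟩
        show bs _ = bs i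
        congr 1
        exact Fin.ext (by simp; omega)
      · exact L.zero_mem
    exact this Submodule.mem_top
  have hpid : ∀ x ∈ L, p x = x := fun x hx => by
    conv_rhs => rw [← hsplit x, hL x hx, add_zero]
  have hiso : ∀ x ∈ L, ∀ y ∈ L, C.B x y = 0 := fun x hx y hy => by
    rw [← hpid x hx, ← hpid y hy, hpp]
  have hperp : ∀ y, (∀ x ∈ L, C.B x y = 0) → y ∈ L := fun y hy => by
    have h' : p' y = 0 := C.B_left_inj _ fun b => by
      rw [← hsplit b, map_add, hpp', add_zero, C.B_comm]
      have h1 := hy _ (hpL b)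
      rw [← hsplit y, map_add, hpp, zero_add] at h1
      exact h1
    rw [← hsplit y, h', add_zero]
    exact hpL y
  -- the completing vector
  let Z := ∑ l ∈ Finset.range n, lowSum P n l • C.w ^ (l + 1)
  have hpair : ∀ i < n, ∑ l ∈ Finset.range n, lowSum P n l * C.φ (z ^ (n + l) * C.w ^ i) = 1 := by
    intro i hi
    induction hk : n - 1 - i generalizing i with
    | zero =>
      have hi' : i = n - 1 := by omega
      rw [Finset.sum_eq_single (n - 1)]
      · rw [C.φ_top (by omega), mul_one, lowSum, show n - (n - 1) = 1 by omega, Finset.sum_range_one, h0]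
      · intro l hl hne
        have := Finset.mem_range.1 hl
        rw [C.φ_mixed (by omega) (by omega), mul_zero]
      · intro h; exact absurd (Finset.mem_range.2 (by omega)) h
    | succ r ih =>
      rw [← ih (i + 1) (by omega) (by omega), ← CharTwo.add_eq_zero]
      -- difference of two consecutive sums
      have hrel := congrArg (fun x => C.φ (C.w ^ (n - (r + 1)) * x)) (root_relation hd)
      simp only [mul_zero, map_zero, Finset.mul_sum, map_sum, mul_smul_comm, map_smul, smul_eq_mul] at hrel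
      have hterm : ∀ m ∈ Finset.range (2 * n + 1), m ≤ r + 1 ∨
          P.coeff (2 * n - m) * C.φ (C.w ^ (n - (r + 1)) * z ^ (2 * n - m)) = 0 := fun m hm => by
        have := Finset.mem_range.1 hm
        rcases Nat.lt_or_ge (r + 1) m with h | h
        · right; rw [mul_comm (C.w ^ _), C.φ_mixed (by omega) (by omega), mul_zero]
        · left; exact h
      rw [← Finset.sum_range_reflect, Nat.add_sub_cancel,
        ← Finset.sum_subset (Finset.range_subset_range.2 (show r + 2 ≤ 2 * n + 1 by omega))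
          (fun m hm hm' => (hterm m hm).resolve_left (fun h => hm' (Finset.mem_range.2 (by omega))))] at hrel
      rw [← hrel]
      have hsplit2 : ∀ l ∈ Finset.range n, lowSum P n l * C.φ (z ^ (n + l) * C.w ^ (i + 1)) =
          if l ≤ i then 0 else lowSum P n l * C.φ (z ^ (n + (l - 1)) * C.w ^ i) := fun l hl => by
        have := Finset.mem_range.1 hl
        split_ifs with h
        · rw [C.φ_mixed (by omega) (by omega), mul_zero]
        · congr 2
          rw [show n + l = (n + (l - 1)) + 1 by omega, pow_succ, pow_succ', mul_assoc, ← mul_assoc z, C.zw, one_mul]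
      have hsplit1 : ∀ l ∈ Finset.range n, lowSum P n l * C.φ (z ^ (n + l) * C.w ^ i) =
          if l < i then 0 else lowSum P n l * C.φ (z ^ (n + l) * C.w ^ i) := fun l hl => by
        split_ifs with h
        · rw [C.φ_mixed (by omega) (by omega), mul_zero]
        · rfl
      rw [Finset.sum_congr rfl hsplit1, Finset.sum_congr rfl hsplit2, Finset.sum_ite, Finset.sum_ite,
        Finset.sum_const_zero, Finset.sum_const_zero, zero_add, zero_add]
      have e1 : (Finset.range n).filter (fun l => ¬ l < i) = Finset.Ico i n := by ext; simp; omega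
      have e2 : (Finset.range n).filter (fun l => ¬ l ≤ i) = Finset.Ico (i + 1) n := by ext; simp; omega
      rw [e1, e2, Finset.sum_Ico_eq_sum_range, Finset.sum_Ico_eq_sum_range, show n - i = r + 2 by omega,
        show n - (i + 1) = r + 1 by omega, Finset.sum_range_succ, add_right_comm, ← Finset.sum_add_distrib]
      conv_rhs => rw [← Finset.sum_range_reflect, show r + 2 - 1 = r + 1 by omega, Finset.sum_range_succ]
      have hcoeff : ∀ t ≤ r + 1, P.coeff (2 * n - (r + 1 - t)) *
          C.φ (C.w ^ (n - (r + 1)) * z ^ (2 * n - (r + 1 - t))) = P.coeff (r + 1 - t) * C.φ (z ^ (n + t)) := fun t ht => by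
        rw [← hsym (r + 1 - t) (by omega), mul_comm (C.w ^ _),
          show 2 * n - (r + 1 - t) = n - (r + 1) + (n + t) by omega, C.cancel]
      have hφ : ∀ t, C.φ (z ^ (n + (i + t)) * C.w ^ i) = C.φ (z ^ (n + t)) := fun t => by
        rw [show n + (i + t) = i + (n + t) by omega, C.cancel]
      refine congrArg₂ (· + ·) (Finset.sum_congr rfl fun t ht => ?_) ?_
      · have := Finset.mem_range.1 ht
        rw [hcoeff t (by omega), hφ, show i + 1 + t - 1 = i + t by omega, hφ, lowSum, lowSum,
          show n - (i + t) = (r + 1 - t) + 1 by omega, show n - (i + 1 + t) = r + 1 - t by omega, Finset.sum_range_succ]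
        linear_combination (∑ x ∈ Finset.range (r + 1 - t), P.coeff x) * C.φ (z ^ (n + t)) * (CharTwo.two_eq_zero (R := F))
      · rw [hcoeff _ le_rfl, hφ, lowSum, show n - (i + (r + 1)) = 1 by omega, Finset.sum_range_one, Nat.sub_self]
  have hBZ : ∀ x ∈ L, C.B x Z = s x := fun x hx => by
    have : L ≤ LinearMap.eqLocus (C.B.flip Z) s := Submodule.span_le.2 (by
      rintro _ ⟨i, rfl⟩
      show C.B (v i) Z = s (v i)
      have hv : v i = z ^ (i : ℕ) := hbs_hi _ _ rfl
      have hs1 : s (v i) = 1 := by simp [hs_bs, v]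
      rw [hs1, hv, ← hpair (n - 1 - (i : ℕ)) (by omega), map_sum]
      refine Finset.sum_congr rfl fun l _ => ?_
      rw [map_smul, smul_eq_mul, B_def, map_pow C.τ, C.τ_w, ← pow_add]
      congr 2
      rw [show n + l = (n - 1 - (i : ℕ)) + ((i : ℕ) + (l + 1)) by omega, C.cancel])
    exact this hx
  obtain ⟨r, hr⟩ := FiniteField.isSquare_of_char_two (ringChar.eq F 2) q₀
  have hy₀ : ∀ x ∈ L, C.B x (r • Z) * C.B x (r • Z) = Q x := fun x hx => by
    rw [map_smul, hBZ x hx, hQd, hL x hx, map_zero, add_zero, smul_eq_mul]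
    have hs'0 : s' x = 0 := by
      have : L ≤ LinearMap.ker s' := Submodule.span_le.2 (by
        rintro _ ⟨i, rfl⟩
        show s' (v i) = 0
        simp [hs'_bs, v])
      exact this hx
    rw [hs'0, mul_zero, mul_zero, add_zero, hr]
    ring
  rw [complete (⇑Q) C.B hadd hsmul L hiso hperp hy₀]
  have hcard : Fintype.card L = Fintype.card F ^ n := by
    rw [Module.card_eq_pow_finrank (K := F), show Module.finrank F L = Fintype.card (Fin n) from
      finrank_span_eq_card (bs.linearIndependent.comp (fun i : Fin n => (⟨n + (i : ℕ), by omega⟩ : Fin (2 * n)))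
        fun a b h => Fin.ext (by simpa using congrArg Fin.val h)), Fintype.card_fin]
  rw [hcard, hsmul, hQlo _ n le_rfl, Nat.cast_pow, show r * r = q₀ from hr.symm]
  congr 1
  rw [← typeSum, ← chi_sq (q₀ * typeSum P n)]
  congr 1
  ring

end Cyc

end Cfsg.Agent.Classical.IsometryTwo
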