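import Cfsg.Agent.Lib.Classical.IsometryClassBound

/-!
Models of the unipotent classes of symplectic groups in odd characteristic: alternating forms on products of cyclic
modules, and the discriminant attached to an even exponent.
-/

set_option autoImplicit false

namespace Cfsg.Agent.Classical.SympUnipotent

open Polynomial Module Cfsg.Agent.Classical.SLClasses Cfsg.Agent.Classical.UnitClasses
  Cfsg.Agent.Classical.IsometryClasses Cfsg.Agent.UnitaryDetCentralizer

universe u

variable {F : Type u} [Field F]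

attribute [local instance] Classical.propDecidable

/-- `F[X] / (X - 1) ^ k`. -/
abbrev Blk (F : Type u) [Field F] (k : ℕ) : Type u := AdjoinRoot ((X - C (1 : F)) ^ k)

/-- The nilpotent generator. -/
noncomputable def pi1 (k : ℕ) : Blk F k := AdjoinRoot.mk _ (X - C 1)

/-- The socle generator. -/
noncomputable def top1 (k : ℕ) : Blk F k := AdjoinRoot.mk _ ((X - C 1) ^ (k - 1))

variable [Finite F]

/-- The duality of a block. -/
noncomputable def tau (k : ℕ) : Blk F k →ₐ[F] Blk F k :=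
  dmap _ _ (self_linear (one_mul (1 : F)) k).2

theorem tau_tau (k : ℕ) (a : Blk F k) : tau k (tau k a) = a :=
  dmap_dmap (self_linear (one_mul (1 : F)) k).1 (self_linear (one_mul (1 : F)) k).1 _ _ a

theorem tau_root (k : ℕ) : tau (F := F) k (AdjoinRoot.root _) = rinv _ := dmap_root _

theorem root_tau (k : ℕ) : AdjoinRoot.root ((X - C (1 : F)) ^ k) * tau k (AdjoinRoot.root _) = 1 := by
  rw [tau_root]; exact root_mul_rinv (self_linear (one_mul (1 : F)) k).1

theorem top1_eq (k : ℕ) : top1 (F := F) k = pi1 k ^ (k - 1) := by rw [top1, pi1, map_pow]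

theorem mk_eq_pi1 (k : ℕ) : AdjoinRoot.mk ((X - C (1 : F)) ^ k) (X - C 1) = pi1 k := rfl

theorem pi1_pow (k : ℕ) : pi1 (F := F) k ^ k = 0 := by rw [pi1, ← map_pow, AdjoinRoot.mk_self]

theorem top1_pi (k : ℕ) (hk : 1 ≤ k) : top1 (F := F) k * pi1 k = 0 := by
  rw [top1_eq, ← pow_succ, Nat.sub_add_cancel hk, pi1_pow]

theorem exists_dvd_tau_pi (k : ℕ) : ∃ e : Blk F k, tau k (pi1 k) = pi1 k * e ∧
    (1 ≤ k → top1 k * e ^ (k - 1) = top1 k * (-1) ^ (k - 1)) := by
  obtain ⟨h0, h⟩ := self_linear (one_mul (1 : F)) k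
  obtain ⟨-, e, he, hej⟩ := pi_facts (one_mul (1 : F)) h0 h
  exact ⟨e, he, fun hk => hej hk _⟩

theorem tau_top (k : ℕ) (hk : 1 ≤ k) : tau (F := F) k (top1 k) = top1 k * (-1) ^ (k - 1) := by
  obtain ⟨e, he, hej⟩ := exists_dvd_tau_pi (F := F) k
  rw [top1_eq, map_pow (tau k), he, mul_pow, ← top1_eq, hej hk]

theorem exists_mul_eq_top (k : ℕ) {a : Blk F k} (ha : a ≠ 0) : ∃ c, c * a = top1 k := by
  obtain ⟨R, rfl⟩ := AdjoinRoot.mk_surjective a
  have hR0 : R ≠ 0 := fun h => ha (by rw [h, map_zero])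
  obtain ⟨R', hR, hn⟩ := exists_eq_pow_rootMultiplicity_mul_and_not_dvd R hR0 1
  obtain ⟨j, hj⟩ : ∃ j, R.rootMultiplicity (1 : F) = j := ⟨_, rfl⟩
  rw [hj] at hR
  have hjk : j < k := by
    by_contra hge
    exact ha (AdjoinRoot.mk_eq_zero.2 (hR ▸ (pow_dvd_pow _ (not_lt.1 hge)).mul_right R'))
  obtain ⟨s, t, hst⟩ := (((irreducible_X_sub_C (1 : F)).coprime_iff_not_dvd).2 hn).pow_left (m := k)
  refine ⟨AdjoinRoot.mk _ (t * (X - C 1) ^ (k - 1 - j)), ?_⟩
  rw [← map_mul, top1, AdjoinRoot.mk_eq_mk]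
  refine ⟨-s * (X - C 1) ^ (k - 1), ?_⟩
  rw [hR]
  have e : ((X : F[X]) - C 1) ^ (k - 1 - j) * (X - C 1) ^ j = (X - C 1) ^ (k - 1) := by
    rw [← pow_add]; congr 1; omega
  linear_combination (t * R') * e + (X - C (1 : F)) ^ (k - 1) * hst

theorem faithful_of_top (k : ℕ) {φ : Blk F k →ₗ[F] F} (h : φ (top1 k) ≠ 0) : Faithful φ := fun a ha => by
  by_contra h0
  obtain ⟨c, hc⟩ := exists_mul_eq_top k h0
  exact h (hc ▸ ha c)

theorem top1_ne_zero (k : ℕ) (hk : 1 ≤ k) : top1 (F := F) k ≠ 0 :=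
  mk_pow_ne_zero (irreducible_X_sub_C 1) hk

/-- An antisymmetric functional with prescribed value at the socle. -/
theorem exists_phi (h2 : (2 : F) ≠ 0) {k : ℕ} (hk : 1 ≤ k) (hke : Even k) (c : F) :
    ∃ φ : Blk F k →ₗ[F] F, (∀ a, φ (tau k a) = -φ a) ∧ φ (top1 k) = c := by
  obtain ⟨ψ, hψ⟩ := exists_faithful ((monic_X_sub_C (1 : F)).pow k).ne_zero
  have hψt : ψ (top1 k) ≠ 0 := fun h => top1_ne_zero k hk (hψ _ fun d => by
    obtain ⟨d₀, d₁, hd⟩ := residue (δ := (1 : F)) (k := k) d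
    rw [hd, add_mul, ← pi1, mul_right_comm, mul_comm (pi1 k), top1_pi k hk, zero_mul, add_zero, ← Algebra.smul_def,
      map_smul, h, smul_zero])
  refine ⟨(c / (2 * ψ (top1 k))) • (ψ - ψ.comp (tau k).toLinearMap), fun a => ?_, ?_⟩
  · simp only [LinearMap.smul_apply, LinearMap.sub_apply, LinearMap.comp_apply, AlgHom.toLinearMap_apply, tau_tau,
      smul_eq_mul]
    ring
  · simp only [LinearMap.smul_apply, LinearMap.sub_apply, LinearMap.comp_apply, AlgHom.toLinearMap_apply, smul_eq_mul]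
    rw [tau_top k hk, (Nat.Even.sub_odd hk hke odd_one).neg_one_pow, mul_neg, mul_one, map_neg]
    field_simp
    ring

/-- The residue at `1`. -/
theorem exists_res (k : ℕ) (hk : 1 ≤ k) :
    ∃ r : Blk F k →ₗ[F] F, (∀ a, top1 k * a = algebraMap F _ (r a) * top1 k) ∧ r 1 = 1 := by
  have h : ∀ a : Blk F k, ∃! r : F, top1 k * a = algebraMap F _ r * top1 k := fun a => by
    obtain ⟨c₀, c₁, hc⟩ := residue (δ := (1 : F)) (k := k) a
    refine ⟨c₀, ?_, fun r hr => ?_⟩
    · simp only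
      rw [hc, mul_add, ← pi1, ← mul_assoc, top1_pi k hk, zero_mul, add_zero, mul_comm]
    · by_contra hne
      have h1 : algebraMap F (Blk F k) (r - c₀) * top1 k = 0 := by
        rw [map_sub, sub_mul, ← hr, hc, mul_add, ← pi1, ← mul_assoc, top1_pi k hk, zero_mul, add_zero, mul_comm, sub_self]
      rw [← Algebra.smul_def] at h1
      exact top1_ne_zero k hk ((smul_eq_zero.1 h1).resolve_left (sub_ne_zero.2 hne))
  choose r hr huniq using fun a => h a
  refine ⟨⟨⟨r, fun a b => ?_⟩, fun c a => ?_⟩, hr, ?_⟩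
  · refine (huniq _ _ ?_).symm
    simp only
    rw [mul_add, hr a, hr b, map_add, add_mul]
  · refine (huniq _ _ ?_).symm
    simp only [RingHom.id_apply, smul_eq_mul]
    rw [mul_smul_comm, hr a, map_mul, Algebra.smul_def, mul_assoc]
  · refine (huniq _ _ ?_).symm
    simp

section Model

variable {ι κ : Type} [Fintype ι] [Fintype κ] (kk : ι → ℕ) (ll : κ → ℕ)

/-- The space of a model. -/
abbrev Spc (F : Type u) [Field F] {ι κ : Type} (kk : ι → ℕ) (ll : κ → ℕ) : Type u :=
  (∀ i, Blk F (kk i)) × (∀ j, Blk F (ll j) × Blk F (ll j))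

/-- Multiplication by the root. -/
noncomputable def mulRoot (k : ℕ) : Blk F k →ₗ[F] Blk F k :=
  LinearMap.mulLeft F (AdjoinRoot.root ((X - C (1 : F)) ^ k))

/-- The transformation of a model. -/
noncomputable def gen : Module.End F (Spc F kk ll) :=
  LinearMap.prodMap (LinearMap.pi fun i => (mulRoot (kk i)).comp (LinearMap.proj i))
    (LinearMap.pi fun j => (LinearMap.prodMap (mulRoot (ll j)) (mulRoot (ll j))).comp (LinearMap.proj j))

omit [Finite F] [Fintype ι] [Fintype κ] in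
theorem gen_apply (x : Spc F kk ll) : gen kk ll x =
    (fun i => AdjoinRoot.root _ * x.1 i, fun j => (AdjoinRoot.root _ * (x.2 j).1, AdjoinRoot.root _ * (x.2 j).2)) := rfl

omit [Finite F] [Fintype ι] [Fintype κ] in
theorem aeval_gen (P : F[X]) : ∀ x : Spc F kk ll, aeval (gen kk ll) P x =
    (fun i => AdjoinRoot.mk _ P * x.1 i, fun j => (AdjoinRoot.mk _ P * (x.2 j).1, AdjoinRoot.mk _ P * (x.2 j).2)) := by
  induction P using Polynomial.induction_on' with
  | add p q hp hq =>
    intro x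
    rw [map_add, LinearMap.add_apply, hp, hq]
    refine Prod.ext (funext fun i => ?_) (funext fun j => Prod.ext ?_ ?_) <;> simp [add_mul]
  | monomial n c =>
    intro x
    have hk : ∀ (n : ℕ) (x : Spc F kk ll), (gen kk ll ^ n) x =
        (fun i => AdjoinRoot.root _ ^ n * x.1 i,
          fun j => (AdjoinRoot.root _ ^ n * (x.2 j).1, AdjoinRoot.root _ ^ n * (x.2 j).2)) := fun n => by
      induction n with
      | zero => intro x; simp
      | succ n ih => intro x; simp [pow_succ', Module.End.mul_apply, gen_apply, ih, mul_assoc]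
    rw [aeval_monomial, Module.End.mul_apply, Module.algebraMap_end_apply, hk]
    refine Prod.ext (funext fun i => ?_) (funext fun j => Prod.ext ?_ ?_) <;>
      simp [← C_mul_X_pow_eq_monomial, Algebra.smul_def, mul_assoc, AdjoinRoot.algebraMap_eq]

variable (φ : ∀ i, Blk F (kk i) →ₗ[F] F) (ψ : ∀ j, Blk F (ll j) →ₗ[F] F)

/-- The form of a model. -/
noncomputable def form : LinearMap.BilinForm F (Spc F kk ll) :=
  LinearMap.mk₂ F (fun x y => ∑ i, φ i (x.1 i * tau _ (y.1 i)) +
      ∑ j, (ψ j ((x.2 j).1 * tau _ (y.2 j).2) - ψ j ((y.2 j).1 * tau _ (x.2 j).2)))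
    (fun a a' b => by
      simp only [Prod.fst_add, Prod.snd_add, Pi.add_apply, add_mul, mul_add, map_add, Finset.sum_add_distrib,
        Finset.sum_sub_distrib]
      ring)
    (fun c a b => by
      simp only [Prod.smul_fst, Prod.smul_snd, Pi.smul_apply, map_smul, smul_mul_assoc, mul_smul_comm, smul_eq_mul,
        Finset.mul_sum, mul_add, mul_sub])
    (fun a b b' => by
      simp only [Prod.fst_add, Prod.snd_add, Pi.add_apply, add_mul, mul_add, map_add, Finset.sum_add_distrib,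
        Finset.sum_sub_distrib]
      ring)
    (fun c a b => by
      simp only [Prod.smul_fst, Prod.smul_snd, Pi.smul_apply, map_smul, smul_mul_assoc, mul_smul_comm, smul_eq_mul,
        Finset.mul_sum, mul_add, mul_sub])

theorem form_apply (x y : Spc F kk ll) : form kk ll φ ψ x y = ∑ i, φ i (x.1 i * tau _ (y.1 i)) +
    ∑ j, (ψ j ((x.2 j).1 * tau _ (y.2 j).2) - ψ j ((y.2 j).1 * tau _ (x.2 j).2)) := rfl

theorem form_gen (x y : Spc F kk ll) : form kk ll φ ψ (gen kk ll x) (gen kk ll y) = form kk ll φ ψ x y := by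
  have e : ∀ (k : ℕ) (a b : Blk F k),
      AdjoinRoot.root _ * a * tau k (AdjoinRoot.root _ * b) = a * tau k b := fun k a b => by
    rw [map_mul (tau k), show AdjoinRoot.root _ * a * (tau k (AdjoinRoot.root _) * tau k b) =
      AdjoinRoot.root _ * tau k (AdjoinRoot.root _) * (a * tau k b) by ring, root_tau, one_mul]
  simp only [form_apply, gen_apply, e]

variable (h2 : (2 : F) ≠ 0) (hφ : ∀ i a, φ i (tau _ a) = -φ i a)

include h2 hφ in
theorem form_isAlt : (form kk ll φ ψ).IsAlt := fun x => by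
  rw [form_apply]
  simp only [sub_self, Finset.sum_const_zero, add_zero]
  refine Finset.sum_eq_zero fun i _ => ?_
  have h := hφ i (x.1 i * tau _ (x.1 i))
  rw [map_mul (tau _), tau_tau, mul_comm] at h
  exact (mul_eq_zero.1 (show (2 : F) * φ i (x.1 i * tau _ (x.1 i)) = 0 by linear_combination h)).resolve_left h2

theorem form_nondeg (hφf : ∀ i, Faithful (φ i)) (hψf : ∀ j, Faithful (ψ j)) (x : Spc F kk ll)
    (hx : ∀ y, form kk ll φ ψ x y = 0) : x = 0 := by
  refine Prod.ext (funext fun i => hφf i _ fun c => ?_) (funext fun j => Prod.ext (hψf j _ fun c => ?_) ?_)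
  · have h := hx (Pi.single i (tau _ c), 0)
    rw [form_apply, Finset.sum_eq_single i (fun b _ hb => by simp [Pi.single_eq_of_ne hb]) (by simp)] at h
    simpa [tau_tau, mul_comm] using h
  · have h := hx (0, Pi.single j (0, tau _ c))
    rw [form_apply, Finset.sum_eq_single j (fun b _ hb => by simp [Pi.single_eq_of_ne hb]) (by simp)] at h
    simpa [tau_tau, mul_comm] using h
  · have h : tau _ (x.2 j).2 = 0 := hψf j _ fun c => by
      have h := hx (0, Pi.single j (c, 0))
      rw [form_apply, Finset.sum_eq_single j (fun b _ hb => by simp [Pi.single_eq_of_ne hb]) (by simp)] at h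
      simpa using h
    have h' := congrArg (tau (F := F) (ll j)) h
    rw [tau_tau, map_zero] at h'
    exact h'

omit [Fintype ι] [Fintype κ] in
theorem pi_pow_dvd {k l : ℕ} (hl : k ≤ l) {a : Blk F l} (ha : pi1 l ^ k * a = 0) :
    ∃ b, a = pi1 l ^ (l - k) * b := by
  obtain ⟨R, rfl⟩ := AdjoinRoot.mk_surjective a
  rw [pi1, ← map_pow, ← map_mul, AdjoinRoot.mk_eq_zero] at ha
  have hd : ((X : F[X]) - C 1) ^ (l - k) ∣ R := by
    refine (mul_dvd_mul_iff_left (pow_ne_zero k (X_sub_C_ne_zero (1 : F)))).1 ?_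
    rwa [← pow_add, Nat.add_sub_cancel' hl]
  obtain ⟨R', rfl⟩ := hd
  exact ⟨AdjoinRoot.mk _ R', by rw [map_mul, map_pow, pi1]⟩

omit [Fintype ι] [Fintype κ] in
theorem pair_zero {k l : ℕ} (hk : 1 ≤ k) (hkl : k ≠ l) {a b : Blk F l} (ha : pi1 l ^ k * a = 0) (hb : pi1 l ^ k * b = 0) :
    pi1 l ^ (k - 1) * a * tau l b = 0 := by
  rcases lt_or_gt_of_ne hkl with h | h
  · obtain ⟨a', rfl⟩ := pi_pow_dvd h.le ha
    obtain ⟨b', rfl⟩ := pi_pow_dvd h.le hb
    obtain ⟨e, he, -⟩ := exists_dvd_tau_pi (F := F) l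
    rw [map_mul (tau l), map_pow (tau l), he, mul_pow,
      show pi1 l ^ (k - 1) * (pi1 l ^ (l - k) * a') * (pi1 l ^ (l - k) * e ^ (l - k) * tau l b') =
        pi1 l ^ (k - 1 + (l - k) + (l - k)) * (a' * e ^ (l - k) * tau l b') by ring,
      pow_eq_zero_of_le (show l ≤ k - 1 + (l - k) + (l - k) by omega) (pi1_pow l), zero_mul]
  · rw [pow_eq_zero_of_le (show l ≤ k - 1 by omega) (pi1_pow l), zero_mul, zero_mul]

/-- The discriminant condition at an even exponent `k`. -/
def SquareAt {V : Type u} [AddCommGroup V] [Module F V] (B : LinearMap.BilinForm F V) (g : Module.End F V) (k : ℕ)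
    (I : Type) [Fintype I] : Prop :=
  ∀ v : I → V, (∀ s, aeval g ((X - C (1 : F)) ^ k) (v s) = 0) →
    (Matrix.of fun s t => B (aeval g ((X - C (1 : F)) ^ (k - 1)) (v s)) (v t)).det ≠ 0 →
    IsSquare (Matrix.of fun s t => B (aeval g ((X - C (1 : F)) ^ (k - 1)) (v s)) (v t)).det

omit [Finite F] in
theorem SquareAt.transport {V W : Type u} [AddCommGroup V] [Module F V] [AddCommGroup W] [Module F W]
    {B : LinearMap.BilinForm F V} {g : Module.End F V} {B' : LinearMap.BilinForm F W} {g' : Module.End F W}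
    (e : V ≃ₗ[F] W) (hB : ∀ x y, B' (e x) (e y) = B x y) (hg : ∀ x, e (g x) = g' (e x)) {k : ℕ} {I : Type}
    [Fintype I] (h : SquareAt B g k I) : SquareAt B' g' k I := fun v hv hd => by
  have hi : ∀ P x, aeval g' P (e x) = e (aeval g P x) := fun P x =>
    aeval_intertwine e.toLinearMap (fun y => (hg y).symm) P x
  have hw : ∀ s, v s = e (e.symm (v s)) := fun s => (e.apply_symm_apply _).symm
  have hm : (Matrix.of fun s t => B' (aeval g' ((X - C (1 : F)) ^ (k - 1)) (v s)) (v t)) =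
      Matrix.of fun s t => B (aeval g ((X - C (1 : F)) ^ (k - 1)) (e.symm (v s))) (e.symm (v t)) := by
    ext s t
    rw [Matrix.of_apply, Matrix.of_apply, hw s, hw t, hi, hB, e.symm_apply_apply, e.symm_apply_apply]
  rw [hm] at hd ⊢
  refine h _ (fun s => e.injective ?_) hd
  rw [← hi, e.apply_symm_apply, hv, map_zero]

theorem form_top (k : ℕ) (hk : 1 ≤ k) (hke : Even k) (hll : ∀ j, ll j ≠ k) (r : Blk F k →ₗ[F] F)
    (hr : ∀ a, top1 k * a = algebraMap F _ (r a) * top1 k) (x y : Spc F kk ll)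
    (hx : aeval (gen kk ll) ((X - C (1 : F)) ^ k) x = 0) (hy : aeval (gen kk ll) ((X - C (1 : F)) ^ k) y = 0) :
    form kk ll φ ψ (aeval (gen kk ll) ((X - C (1 : F)) ^ (k - 1)) x) y =
      ∑ i : {i // kk i = k}, φ i.1 (top1 (kk i.1)) * r (i.2 ▸ x.1 i.1) * r (i.2 ▸ y.1 i.1) := by
  rw [aeval_gen] at hx hy
  simp only [Prod.mk_eq_zero, funext_iff, Pi.zero_apply, map_pow, mk_eq_pi1] at hx hy
  rw [form_apply, aeval_gen]
  simp only [map_pow, mk_eq_pi1]
  rw [Finset.sum_eq_zero (s := (Finset.univ : Finset κ)) (fun j _ => ?_), add_zero]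
  swap
  · rw [pair_zero hk (hll j).symm (hx.2 j).1 (hy.2 j).2, map_zero, map_mul (tau _), ← mul_assoc, zero_sub, neg_eq_zero]
    obtain ⟨e, he, -⟩ := exists_dvd_tau_pi (F := F) (ll j)
    rw [map_pow (tau _), he, mul_pow, show (y.2 j).1 * (pi1 (ll j) ^ (k - 1) * e ^ (k - 1)) * tau _ (x.2 j).2 =
      pi1 (ll j) ^ (k - 1) * (y.2 j).1 * tau _ (x.2 j).2 * e ^ (k - 1) by ring,
      pair_zero hk (hll j).symm (hy.2 j).1 (hx.2 j).2, zero_mul, map_zero]
  have hoff : ∀ i : ι, kk i ≠ k → φ i (pi1 (kk i) ^ (k - 1) * x.1 i * tau _ (y.1 i)) = 0 := fun i hi => by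
    rw [pair_zero hk (Ne.symm hi) (hx.1 i) (hy.1 i), map_zero]
  rw [← Finset.sum_filter_of_ne (p := fun i => kk i = k) (fun i _ hi => by
    by_contra h; exact hi (hoff i h))]
  rw [Finset.sum_subtype (p := fun i => kk i = k) (f := fun i => φ i (pi1 (kk i) ^ (k - 1) * x.1 i * tau _ (y.1 i))) _ (by simp)]
  refine Finset.sum_congr rfl fun ⟨i, hi⟩ _ => ?_
  subst hi
  have hτ : top1 (kk i) * tau _ (y.1 i) = algebraMap F _ (r (y.1 i)) * top1 (kk i) := by
    obtain ⟨c₀, c₁, hc⟩ := residue (δ := (1 : F)) (k := kk i) (y.1 i)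
    obtain ⟨e, he, -⟩ := exists_dvd_tau_pi (F := F) (kk i)
    rw [← hr, hc, map_add (tau _), AlgHom.commutes, map_mul (tau _), ← pi1, he, mul_add, mul_add]
    simp only [← mul_assoc, top1_pi (kk i) hk, zero_mul]
  simp only
  rw [← top1_eq, hr, mul_assoc, hτ, ← mul_assoc, ← map_mul, ← Algebra.smul_def, map_smul, smul_eq_mul]
  ring

include h2 in
theorem squareAt_iff (k : ℕ) (hk : 1 ≤ k) (hke : Even k) (hll : ∀ j, ll j ≠ k) (I : Type) [Fintype I]
    (eI : I ≃ {i // kk i = k}) (hne : ∀ i, φ i (top1 (kk i)) ≠ 0) :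
    SquareAt (form kk ll φ ψ) (gen kk ll) k I ↔ IsSquare (∏ i : {i // kk i = k}, φ i.1 (top1 (kk i.1))) := by
  obtain ⟨r, hr, hr1⟩ := exists_res (F := F) k hk
  let D : I → F := fun s => φ (eI s).1 (top1 (kk (eI s).1))
  have hprod : ∏ s, D s = ∏ i : {i // kk i = k}, φ i.1 (top1 (kk i.1)) :=
    eI.prod_comp (fun i : {i // kk i = k} => φ i.1 (top1 (kk i.1)))
  have hgram : ∀ v : I → Spc F kk ll, (∀ s, aeval (gen kk ll) ((X - C (1 : F)) ^ k) (v s) = 0) →
      (Matrix.of fun s t => form kk ll φ ψ (aeval (gen kk ll) ((X - C (1 : F)) ^ (k - 1)) (v s)) (v t)) =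
        (Matrix.of fun s u => r ((eI u).2 ▸ (v s).1 (eI u).1)) * Matrix.diagonal D *
          (Matrix.of fun s u => r ((eI u).2 ▸ (v s).1 (eI u).1)).transpose := fun v hv => by
    ext s t
    rw [Matrix.of_apply, form_top kk ll φ ψ k hk hke hll r hr _ _ (hv s) (hv t), Matrix.mul_apply, ← eI.sum_comp]
    refine Finset.sum_congr rfl fun u _ => ?_
    rw [Matrix.mul_diagonal, Matrix.of_apply, Matrix.transpose_apply, Matrix.of_apply]
    ring
  constructor
  · intro h
    let v : I → Spc F kk ll := fun s => (Pi.single (eI s).1 1, 0)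
    have hv : ∀ s, aeval (gen kk ll) ((X - C (1 : F)) ^ k) (v s) = 0 := fun s => by
      rw [aeval_gen]
      refine Prod.ext (funext fun i => ?_) (funext fun j => Prod.ext ?_ ?_)
      · show AdjoinRoot.mk _ ((X - C (1 : F)) ^ k) * Pi.single (M := fun i => Blk F (kk i)) (eI s).1 1 i = 0
        by_cases hi : i = (eI s).1
        · subst hi
          rw [map_pow, ← pi1, pow_eq_zero_of_le (le_of_eq (eI s).2) (pi1_pow _), zero_mul]
        · rw [Pi.single_eq_of_ne hi, mul_zero]
      · simp [v]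
      · simp [v]
    have hM : (Matrix.of fun s u => r ((eI u).2 ▸ (v s).1 (eI u).1)) = (1 : Matrix I I F) := by
      ext s u
      rw [Matrix.of_apply]
      have key : ∀ (i : ι) (hi : kk i = k), r (hi ▸ Pi.single (M := fun i => Blk F (kk i)) (eI s).1 1 i) =
          if (eI s).1 = i then 1 else 0 := fun i hi => by
        by_cases h1 : (eI s).1 = i
        · subst h1
          rw [if_pos rfl, Pi.single_eq_same]
          have : ∀ (l : ℕ) (hl : l = k), r (hl ▸ (1 : Blk F l)) = 1 := by rintro l rfl; exact hr1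
          exact this _ hi
        · rw [if_neg h1, Pi.single_eq_of_ne (Ne.symm h1)]
          have : ∀ (l : ℕ) (hl : l = k), r (hl ▸ (0 : Blk F l)) = 0 := by rintro l rfl; exact map_zero r
          exact this _ hi
      rw [key, Matrix.one_apply]
      simp only [← Subtype.ext_iff, eI.injective.eq_iff]
    have h1 := h v hv
    rw [hgram v hv, hM, Matrix.one_mul, Matrix.transpose_one, Matrix.mul_one, Matrix.det_diagonal, hprod] at h1
    exact h1 (Finset.prod_ne_zero_iff.2 fun i _ => hne _)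
  · rintro ⟨c, hc⟩ v hv -
    refine ⟨(Matrix.of fun s u => r ((eI u).2 ▸ (v s).1 (eI u).1)).det * c, ?_⟩
    rw [hgram v hv, Matrix.det_mul, Matrix.det_mul, Matrix.det_diagonal, hprod, hc, Matrix.det_transpose]
    ring

end Model

end Cfsg.Agent.Classical.SympUnipotent
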