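import Cfsg.Agent.Lib.Classical.SympClassNumber
import Cfsg.Agent.Lib.Classical.SympUnipotentModel

/-!
The classes of elements of order dividing `p` in `Sp(2m, q)`, `q` a power of the odd prime `p`, correspond to
partitions with marked even parts.
-/

set_option autoImplicit false

namespace Cfsg.Agent.Classical.SympUnipotent

open Polynomial Module Matrix Cfsg.Agent.Classical Cfsg.Agent.Classical.SLClasses Cfsg.Agent.Classical.UnitClasses
  Cfsg.Agent.Classical.IsometryClasses Cfsg.Agent.Classical.SympClasses Cfsg.Agent.UnitaryDetCentralizer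

universe u

variable {F : Type u} [Field F] {p m : ℕ}

attribute [local instance] Classical.propDecidable

/-- The admissible partitions. -/
abbrev Adm (p m : ℕ) : Type :=
  {μ : Nat.Partition (2 * m) // (∀ a ∈ μ.parts, a ≤ p) ∧ ∀ j : ℕ, Odd j → Even (μ.parts.count j)}

/-- The distinct even parts. -/
def evenParts (μ : Nat.Partition (2 * m)) : Finset ℕ := μ.parts.toFinset.filter fun j => Even j

/-- The labels of a partition. -/
noncomputable def labelsOf (F : Type u) [Field F] (P : Multiset ℕ) : Multiset (F[X] × ℕ) :=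
  P.map fun k => (X - C (1 : F), k)

theorem count_labelsOf (P : Multiset ℕ) (k : ℕ) : (labelsOf F P).count (X - C (1 : F), k) = P.count k :=
  Multiset.count_map_eq_count' _ P (fun a b h => (Prod.mk.inj h).2) k

theorem numSigns_labelsOf (h2 : (2 : F) ≠ 0) (μ : Nat.Partition (2 * m)) :
    numSigns (-1 : F) (labelsOf F μ.parts) = (evenParts μ).card := by
  have hneg : (-1 : F) ≠ 1 := fun h => h2 (by linear_combination -h)
  refine (Finset.card_bij (fun k _ => (X - C (1 : F), k)) (fun k hk => ?_) (fun a _ b _ h => (Prod.mk.inj h).2)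
    (fun x hx => ?_)).symm
  · obtain ⟨hk1, hk2⟩ := Finset.mem_filter.1 hk
    refine Finset.mem_filter.2 ⟨Multiset.mem_toFinset.2 (Multiset.mem_map_of_mem _ (Multiset.mem_toFinset.1 hk1)),
      1, one_mul 1, rfl, ?_⟩
    have h1 : 1 ≤ k := μ.parts_pos (Multiset.mem_toFinset.1 hk1)
    rw [(Nat.Even.sub_odd h1 hk2 odd_one).neg_one_pow, neg_mul_neg, one_mul]
  · obtain ⟨hx1, δ, hδ, hf, hs⟩ := Finset.mem_filter.1 hx
    obtain ⟨k, hk, rfl⟩ := Multiset.mem_map.1 (Multiset.mem_toFinset.1 hx1)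
    refine ⟨k, Finset.mem_filter.2 ⟨Multiset.mem_toFinset.2 hk, ?_⟩, rfl⟩
    by_contra hodd
    obtain ⟨j, rfl⟩ := Nat.not_even_iff_odd.1 hodd
    simp only [Nat.add_sub_cancel, pow_mul, neg_one_sq, one_pow, mul_one] at hs
    exact hneg hs

theorem labels_transport {V W : Type u} [AddCommGroup V] [Module F V] [AddCommGroup W] [Module F W]
    (e : V ≃ₗ[F] W) {h : Module.End F V} {h' : Module.End F W} (he : ∀ x, e (h x) = h' (e x))
    {S : Multiset (F[X] × ℕ)} (hS : Labels h S) : Labels h' S := by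
  obtain ⟨r, c, hc, hc', φ, hφ⟩ := hS
  exact ⟨r, c, hc, hc', φ.trans e, fun x => by rw [LinearEquiv.trans_apply, LinearEquiv.trans_apply, ← he, hφ]⟩

theorem X_pow_sub_one_eq (p : ℕ) [Fact p.Prime] [CharP F p] : (X - C (1 : F)) ^ p = X ^ p - 1 := by
  rw [sub_pow_char, ← map_pow, one_pow, map_one]

/-- Elementary divisors of an element killed by `X ^ p - 1`. -/
theorem labels_of_pow_eq_one [Fact p.Prime] [CharP F p] {V : Type u} [AddCommGroup V] [Module F V]
    {h : Module.End F V} (hp : h ^ p = 1) {S : Multiset (F[X] × ℕ)} (hS : Labels h S) :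
    ∀ x ∈ S, x.1 = X - C (1 : F) ∧ x.2 ≤ p := by
  obtain ⟨r, c, rfl, hc, φ, hφ⟩ := hS
  intro x hx
  obtain ⟨i, -, rfl⟩ := Multiset.mem_map.1 hx
  have hit : ∀ (j : ℕ) (x : ∀ i, AdjoinRoot ((c i).1 ^ (c i).2)),
      (h ^ j) (φ x) = φ fun i => AdjoinRoot.root ((c i).1 ^ (c i).2) ^ j * x i := fun j => by
    induction j with
    | zero => intro x; simp
    | succ j ih => intro x; rw [pow_succ', Module.End.mul_apply, ih, hφ]; simp [pow_succ', mul_assoc]
  have h1 := congr_fun (φ.injective ((hit p fun _ => 1).symm.trans (by rw [hp, Module.End.one_apply]))) i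
  simp only [mul_one] at h1
  have hd : (c i).1 ^ (c i).2 ∣ (X - C (1 : F)) ^ p := by
    rw [X_pow_sub_one_eq, ← AdjoinRoot.mk_eq_zero, map_sub, map_pow, AdjoinRoot.mk_X, h1, map_one, sub_self]
  have hdd : (c i).1 ∣ (X - C (1 : F)) ^ p := (dvd_pow_self _ (by have := (hc i).2.2; omega)).trans hd
  have hf : (c i).1 = X - C 1 := Polynomial.eq_of_monic_of_associated (hc i).1 (monic_X_sub_C 1)
    (((hc i).2.1).associated_of_dvd (irreducible_X_sub_C 1) ((hc i).2.1.prime.dvd_of_dvd_pow hdd))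
  refine ⟨hf, ?_⟩
  rw [hf] at hd
  exact (pow_dvd_pow_iff (X_sub_C_ne_zero (1 : F)) (irreducible_X_sub_C (1 : F)).not_isUnit).1 hd

variable [Finite F]

theorem toLin_pow (g : Matrix.symplecticGroup (Fin m) F) (j : ℕ) :
    Matrix.toLin' ((g ^ j : Matrix.symplecticGroup (Fin m) F) : Matrix (Fin m ⊕ Fin m) (Fin m ⊕ Fin m) F) =
      Matrix.toLin' (g : Matrix (Fin m ⊕ Fin m) (Fin m ⊕ Fin m) F) ^ j :=
  (map_pow (Matrix.toLinAlgEquiv' (R := F) (n := Fin m ⊕ Fin m)) _ j).trans rfl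

theorem exists_code_classes [Fact p.Prime] [CharP F p] (h2 : (2 : F) ≠ 0) :
    ∃ f : {C : ConjClasses (Matrix.symplecticGroup (Fin m) F) // ∃ g, ConjClasses.mk g = C ∧ g ^ p = 1} →
      (μ : Adm p m) × Fin (2 ^ (evenParts μ.1).card), Function.Injective f := by
  classical
  have hεε : (-1 : F) * -1 = 1 := by ring
  choose g hgC hgp using fun C : {C : ConjClasses (Matrix.symplecticGroup (Fin m) F) //
    ∃ g, ConjClasses.mk g = C ∧ g ^ p = 1} => C.2
  choose S hS using fun C => exists_labels (triOf (g C)).g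
  have htri : ∀ C, (triOf (g C)).g ^ p = 1 := fun C => by
    have h1 := toLin_pow (g C) p
    rw [hgp, OneMemClass.coe_one, Matrix.toLin'_one] at h1
    refine LinearMap.ext fun v => (coords m F).injective ?_
    obtain ⟨W, hW⟩ : ∃ W : Module.End F (Fin (m + m) → F), W = (triOf (g C)).g := ⟨_, rfl⟩
    have key : ∀ (j : ℕ) (v : Fin (m + m) → F), coords m F ((W ^ j) v) =
        (Matrix.toLin' (g C).1 ^ j) (coords m F v) := fun j => by
      induction j with
      | zero => intro v; rfl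
      | succ j ih =>
        intro v
        rw [pow_succ', pow_succ', Module.End.mul_apply, Module.End.mul_apply, ← ih, hW]
        exact (coords m F).apply_symm_apply _
    refine (congrArg (coords m F) (LinearMap.congr_fun (congrArg (· ^ p) hW) v)).symm.trans ((key p v).trans ?_)
    rw [← h1]
    rfl
  have hlab := fun C => labels_of_pow_eq_one (htri C) (hS C)
  have hSmap : ∀ C, labelsOf F ((S C).map Prod.snd) = S C := fun C => by
    rw [labelsOf, Multiset.map_map]
    refine (Multiset.map_congr rfl fun x hx => ?_).trans (Multiset.map_id' (S C))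
    rw [Function.comp_apply, ← (hlab C x hx).1]
  have hsum : ∀ C, ((S C).map Prod.snd).sum = 2 * m := fun C => by
    have h1 := labels_sum (hS C)
    rw [Module.finrank_fin_fun] at h1
    rw [two_mul, ← show _ = m + m from h1]
    refine congrArg Multiset.sum (Multiset.map_congr rfl fun x hx => ?_)
    rw [(hlab C x hx).1, natDegree_X_sub_C, mul_one]
  let part : _ → Nat.Partition (2 * m) := fun C =>
    { parts := (S C).map Prod.snd
      parts_pos := fun {k} hk => by
        obtain ⟨x, hx, rfl⟩ := Multiset.mem_map.1 hk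
        exact (labels_mem (det_ne_zero _) (hS C) x hx).2.2.2
      parts_sum := hsum C }
  let μ : _ → Adm p m := fun C => ⟨part C, fun k hk => by
      obtain ⟨x, hx, rfl⟩ := Multiset.mem_map.1 hk
      exact (hlab C x hx).2, fun j hj => by
      rw [← count_labelsOf (F := F), show labelsOf F (part C).parts = S C from hSmap C]
      refine (labels_props hεε h2 _ _ (hS C)).2 _ ⟨1, one_mul 1, rfl⟩ fun ⟨δ, hδ, hf, hs⟩ => ?_
      obtain ⟨i, rfl⟩ := hj
      simp only [Nat.add_sub_cancel, pow_mul, neg_one_sq, one_pow, mul_one] at hs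
      exact h2 (by linear_combination -hs)⟩
  choose χ hχ using fun S : Multiset (F[X] × ℕ) => exists_code hεε h2 S
  refine ⟨fun C => ⟨μ C, Fin.cast (congrArg (2 ^ ·) (numSigns_labelsOf h2 (μ C).1))
    (χ (labelsOf F (μ C).1.parts) (triOf (g C)))⟩, fun C C' h => ?_⟩
  have key : ∀ (ν ν' : Adm p m) (T T' : Tri F (-1)),
      ((⟨ν, Fin.cast (congrArg (2 ^ ·) (numSigns_labelsOf h2 ν.1)) (χ (labelsOf F ν.1.parts) T)⟩ :
        (μ : Adm p m) × Fin (2 ^ (evenParts μ.1).card))) =
        ⟨ν', Fin.cast (congrArg (2 ^ ·) (numSigns_labelsOf h2 ν'.1)) (χ (labelsOf F ν'.1.parts) T')⟩ →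
      ν = ν' ∧ χ (labelsOf F ν.1.parts) T = χ (labelsOf F ν.1.parts) T' := fun ν ν' T T' h => by
    cases congrArg Sigma.fst h
    exact ⟨rfl, Fin.cast_injective _ (eq_of_heq (Sigma.mk.inj h).2)⟩
  obtain ⟨hμ, hc⟩ := key _ _ _ _ h
  have hl : labelsOf F (μ C).1.parts = S C := hSmap C
  have hl' : labelsOf F (μ C).1.parts = S C' := hμ ▸ hSmap C'
  have hiso := hχ _ _ _ (hl.symm ▸ hS C) (hl'.symm ▸ hS C') hc
  refine Subtype.ext ?_
  rw [← hgC C, ← hgC C']
  exact ConjClasses.mk_eq_mk_iff_isConj.2 (isConj_of_iso hiso)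

section Spaces

variable {ι κ : Type} [Fintype ι] [Fintype κ] (kk : ι → ℕ) (ll : κ → ℕ)

/-- The exponents of a model. -/
def expo : ι ⊕ κ × Bool → ℕ := Sum.elim kk fun a => ll a.1

omit [Finite F] in
theorem model_gen : Model (gen (F := F) kk ll) fun a => (X - C (1 : F)) ^ expo kk ll a :=
  ⟨{ toFun := fun x => (fun i => x (Sum.inl i), fun j => (x (Sum.inr (j, false)), x (Sum.inr (j, true))))
     map_add' := fun x y => rfl
     map_smul' := fun r x => rfl
     invFun := fun y a => match a with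
       | Sum.inl i => y.1 i
       | Sum.inr (j, false) => (y.2 j).1
       | Sum.inr (j, true) => (y.2 j).2
     left_inv := fun x => funext fun a => by rcases a with i | ⟨j, _ | _⟩ <;> rfl
     right_inv := fun y => rfl }, fun x => rfl⟩

omit [Finite F] in
theorem labels_gen (hk1 : ∀ i, 1 ≤ kk i) (hl1 : ∀ j, 1 ≤ ll j) :
    Labels (gen (F := F) kk ll) (labelsOf F (Finset.univ.val.map (expo kk ll))) := by
  classical
  let σ : Fin (Fintype.card (ι ⊕ κ × Bool)) ≃ ι ⊕ κ × Bool := (Fintype.equivFin _).symm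
  have hM : Model (gen (F := F) kk ll) (fun i => (X - C (1 : F)) ^ expo kk ll (σ i)) :=
    model_reindex (Q := fun a => (X - C (1 : F)) ^ expo kk ll a) σ (model_gen kk ll)
  refine ⟨_, fun i => (X - C (1 : F), expo kk ll (σ i)), ?_, fun i => ⟨monic_X_sub_C _, irreducible_X_sub_C _, ?_⟩, hM⟩
  · rw [labelsOf, Multiset.map_map, ← Multiset.map_univ_val_equiv σ, Multiset.map_map]
    rfl
  · show 1 ≤ expo kk ll (σ i)
    generalize σ i = a
    rcases a with i | ⟨j, b⟩
    exacts [hk1 i, hl1 j]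

omit [Finite F] in
theorem count_expo (k : ℕ) : (Finset.univ.val.map (expo kk ll)).count k =
    (∑ i, if k = kk i then 1 else 0) + ∑ j, ((if k = ll j then 1 else 0) + if k = ll j then 1 else 0) := by
  rw [Multiset.count_map, ← Finset.filter_val, ← Finset.card_def, Finset.card_filter, Fintype.sum_sum_type,
    Fintype.sum_prod_type]
  refine congrArg₂ (· + ·) (Finset.sum_congr rfl fun i _ => ?_) (Finset.sum_congr rfl fun j _ => ?_)
  · exact if_congr Iff.rfl rfl rfl
  · rw [Fintype.sum_bool]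
    exact congrArg₂ (· + ·) (if_congr Iff.rfl rfl rfl) (if_congr Iff.rfl rfl rfl)

theorem gen_pow [Fact p.Prime] [CharP F p] (hkp : ∀ i, kk i ≤ p) (hlp : ∀ j, ll j ≤ p) :
    gen (F := F) kk ll ^ p = 1 := by
  have h1 : aeval (gen (F := F) kk ll) ((X - C (1 : F)) ^ p) = 0 := LinearMap.ext fun x => by
    rw [aeval_gen, LinearMap.zero_apply]
    refine Prod.ext (funext fun i => ?_) (funext fun j => Prod.ext ?_ ?_) <;>
      simp only [map_pow, mk_eq_pi1, pow_eq_zero_of_le (hkp _) (pi1_pow _), pow_eq_zero_of_le (hlp _) (pi1_pow _),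
        zero_mul] <;> rfl
  have h : aeval (gen (F := F) kk ll) ((X : F[X]) ^ p - 1) = 0 := by rw [← X_pow_sub_one_eq]; exact h1
  simpa [sub_eq_zero] using h

set_option maxHeartbeats 1000000 in
theorem exists_sp [Fact p.Prime] [CharP F p] (h2 : (2 : F) ≠ 0) (hk1 : ∀ i, 1 ≤ kk i) (hl1 : ∀ j, 1 ≤ ll j)
    (hkp : ∀ i, kk i ≤ p) (hlp : ∀ j, ll j ≤ p) (φ : ∀ i, Blk F (kk i) →ₗ[F] F) (ψ : ∀ j, Blk F (ll j) →ₗ[F] F)
    (hφ : ∀ i a, φ i (tau _ a) = -φ i a) (hφf : ∀ i, Faithful (φ i)) (hψf : ∀ j, Faithful (ψ j))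
    (hsum : (Finset.univ.val.map (expo kk ll)).sum = 2 * m) :
    ∃ g : Matrix.symplecticGroup (Fin m) F, g ^ p = 1 ∧
      Labels (Matrix.toLin' (g : Matrix (Fin m ⊕ Fin m) (Fin m ⊕ Fin m) F))
        (labelsOf F (Finset.univ.val.map (expo kk ll))) ∧
      ∀ (k : ℕ) (I : Type) [Fintype I],
        SquareAt (sympB m F) (Matrix.toLin' (g : Matrix (Fin m ⊕ Fin m) (Fin m ⊕ Fin m) F)) k I ↔
          SquareAt (form kk ll φ ψ) (gen kk ll) k I := by
  classical
  obtain ⟨M, hM⟩ := model_gen (F := F) kk ll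
  haveI : FiniteDimensional F (Spc F kk ll) := by
    haveI : ∀ a, FiniteDimensional F (AdjoinRoot ((X - C (1 : F)) ^ expo kk ll a)) := fun a =>
      (AdjoinRoot.powerBasis ((monic_X_sub_C (1 : F)).pow _).ne_zero).finite
    exact Module.Finite.equiv M
  have hfr : Module.finrank F (Spc F kk ll) = 2 * m := by
    rw [← finrank_of_model (fun a => (monic_X_sub_C (1 : F)).pow _) ⟨M, hM⟩, ← hsum]
    exact Finset.sum_congr rfl fun a _ => by rw [natDegree_pow, natDegree_X_sub_C, mul_one]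
  obtain ⟨L, hL⟩ := exists_symp_coords _ (form_isAlt kk ll φ ψ h2 hφ) (form_nondeg kk ll φ ψ hφf hψf) hfr
  obtain ⟨T, hT⟩ : ∃ T : Module.End F (Fin m ⊕ Fin m → F), T = LinearEquiv.conjAlgEquiv F L.symm (gen kk ll) :=
    ⟨_, rfl⟩
  have hTv : ∀ v, T v = L.symm (gen kk ll (L v)) := fun v => by rw [hT]; rfl
  have hmem : LinearMap.toMatrix' T ∈ Matrix.symplecticGroup (Fin m) F := mem_symplecticGroup_iff_form.2 fun u v => by
    rw [← Matrix.toLin'_apply, ← Matrix.toLin'_apply, Matrix.toLin'_toMatrix', hTv, hTv, ← hL, ← hL,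
      L.apply_symm_apply, L.apply_symm_apply, form_gen]
  have hgT : Matrix.toLin' ((⟨_, hmem⟩ : Matrix.symplecticGroup (Fin m) F) :
      Matrix (Fin m ⊕ Fin m) (Fin m ⊕ Fin m) F) = T := Matrix.toLin'_toMatrix' T
  refine ⟨⟨_, hmem⟩, Subtype.ext (Matrix.toLin'.injective ?_), ?_, fun k I _ => ?_⟩
  · rw [toLin_pow, hgT, OneMemClass.coe_one, Matrix.toLin'_one, hT, ← map_pow, gen_pow kk ll hkp hlp, map_one, Module.End.one_eq_id]
  · rw [hgT]
    exact labels_transport L.symm (h := gen kk ll) (fun x => by rw [hTv, L.apply_symm_apply])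
      (labels_gen kk ll hk1 hl1)
  · rw [hgT]
    exact ⟨fun h => h.transport L (fun x y => by rw [hL, ← sympB_apply]) (fun x => by rw [hTv, L.apply_symm_apply]),
      fun h => h.transport L.symm (fun x y => by rw [sympB_apply, ← hL, L.apply_symm_apply, L.apply_symm_apply])
        (fun x => by rw [hTv, L.apply_symm_apply])⟩

end Spaces

/-- The distinct odd parts. -/
def oddParts (μ : Nat.Partition (2 * m)) : Finset ℕ := μ.parts.toFinset.filter fun j => ¬ Even j

omit [Finite F] in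
theorem map_expo (μ : Adm p m) :
    (Finset.univ.val.map (expo (fun i : (x : evenParts μ.1) × Fin (μ.1.parts.count x.1) => (i.1.1 : ℕ))
      (fun j : (x : oddParts μ.1) × Fin (μ.1.parts.count x.1 / 2) => (j.1.1 : ℕ)))) = μ.1.parts :=
  Multiset.ext.2 fun k => by
    have e1 : ∀ x n : ℕ, (∑ _ : Fin n, if k = x then 1 else 0) = n * if k = x then 1 else 0 := fun x n => by simp
    have e2 : ∀ x n : ℕ, (∑ _ : Fin n, ((if k = x then 1 else 0) + if k = x then 1 else 0)) =
        n * ((if k = x then 1 else 0) + if k = x then 1 else 0) := fun x n => by simp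
    rw [count_expo]
    refine (congrArg₂ (· + ·) ((Fintype.sum_sigma _).trans (Finset.sum_congr rfl fun x _ => e1 x.1 _))
      ((Fintype.sum_sigma _).trans (Finset.sum_congr rfl fun x _ => e2 x.1 _))).trans ?_
    rw [Finset.sum_coe_sort (evenParts μ.1) (fun x => μ.1.parts.count x * if k = x then 1 else 0),
      Finset.sum_coe_sort (oddParts μ.1)
        (fun x => μ.1.parts.count x / 2 * ((if k = x then 1 else 0) + if k = x then 1 else 0))]
    simp only [mul_ite, mul_one, mul_zero, mul_add, Finset.sum_add_distrib, Finset.sum_ite_eq]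
    by_cases hm : k ∈ μ.1.parts
    · by_cases he : Even k
      · simp [evenParts, oddParts, hm, he]
      · obtain ⟨t, ht⟩ := μ.2.2 k (Nat.not_even_iff_odd.1 he)
        simp [evenParts, oddParts, hm, he, Nat.not_even_iff_odd.1 he]
        omega
    · simp [evenParts, oddParts, hm]

set_option maxHeartbeats 1000000 in
theorem exists_model [Fact p.Prime] [CharP F p] (h2 : (2 : F) ≠ 0) (μ : Adm p m) (A : Finset ℕ) {ns : F}
    (hns : ¬ IsSquare ns) :
    ∃ g : Matrix.symplecticGroup (Fin m) F, g ^ p = 1 ∧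
      Labels (Matrix.toLin' (g : Matrix (Fin m ⊕ Fin m) (Fin m ⊕ Fin m) F)) (labelsOf F μ.1.parts) ∧
      ∀ k ∈ evenParts μ.1,
        (SquareAt (sympB m F) (Matrix.toLin' (g : Matrix (Fin m ⊕ Fin m) (Fin m ⊕ Fin m) F)) k
          (Fin (μ.1.parts.count k)) ↔ k ∉ A) := by
  classical
  have hev : ∀ x : evenParts μ.1, x.1 ∈ μ.1.parts ∧ Even x.1 := fun x =>
    (Finset.mem_filter.1 x.2).imp_left Multiset.mem_toFinset.1
  have hod : ∀ x : oddParts μ.1, x.1 ∈ μ.1.parts ∧ ¬ Even x.1 := fun x =>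
    (Finset.mem_filter.1 x.2).imp_left Multiset.mem_toFinset.1
  have hns0 : ns ≠ 0 := fun h => hns (h ▸ ⟨0, (mul_zero 0).symm⟩)
  choose φ hφ hφt using fun i : (x : evenParts μ.1) × Fin (μ.1.parts.count x.1) =>
    exists_phi (F := F) h2 (k := i.1.1) (μ.1.parts_pos (hev i.1).1) (hev i.1).2
      (if i.1.1 ∈ A ∧ (i.2 : ℕ) = 0 then ns else 1)
  choose ψ hψ using fun j : (x : oddParts μ.1) × Fin (μ.1.parts.count x.1 / 2) =>
    exists_faithful (F := F) ((monic_X_sub_C (1 : F)).pow j.1.1).ne_zero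
  have hne : ∀ i, φ i (top1 _) ≠ 0 := fun i => by
    rw [hφt]; split_ifs
    exacts [hns0, one_ne_zero]
  obtain ⟨g, hg1, hg2, hg3⟩ := exists_sp (m := m) (p := p)
    (fun i : (x : evenParts μ.1) × Fin (μ.1.parts.count x.1) => (i.1.1 : ℕ))
    (fun j : (x : oddParts μ.1) × Fin (μ.1.parts.count x.1 / 2) => (j.1.1 : ℕ)) h2 (fun i => μ.1.parts_pos (hev i.1).1)
    (fun j => μ.1.parts_pos (hod j.1).1) (fun i => μ.2.1 _ (hev i.1).1) (fun j => μ.2.1 _ (hod j.1).1) φ ψ hφ
    (fun i => faithful_of_top _ (hne i)) hψ (by rw [map_expo, μ.1.parts_sum])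
  rw [map_expo] at hg2
  refine ⟨g, hg1, hg2, fun k hk => ?_⟩
  obtain ⟨hk', hke⟩ := hev ⟨k, hk⟩
  have hk0 : 1 ≤ k := μ.1.parts_pos hk'
  let eI : Fin (μ.1.parts.count k) ≃
      {i : (x : evenParts μ.1) × Fin (μ.1.parts.count x.1) // (i.1.1 : ℕ) = k} :=
    Equiv.ofBijective (fun t => ⟨⟨⟨k, hk⟩, t⟩, rfl⟩)
      ⟨fun t t' h => eq_of_heq (Sigma.mk.inj (congrArg Subtype.val h)).2, fun y => by
        obtain ⟨⟨⟨x, hx⟩, t⟩, h⟩ := y
        obtain rfl : x = k := h
        exact ⟨t, rfl⟩⟩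
  rw [hg3, squareAt_iff _ _ φ ψ h2 k hk0 hke (fun j h => (hod j.1).2 (by rw [h]; exact hke)) _ eI hne]
  have hprod : ∏ i : {i : (x : evenParts μ.1) × Fin (μ.1.parts.count x.1) // (i.1.1 : ℕ) = k}, φ i.1 (top1 _) =
      if k ∈ A then ns else 1 := by
    simp only [hφt]
    rw [← eI.prod_comp]
    have hcnt : 0 < μ.1.parts.count k := Multiset.count_pos.2 hk'
    refine (Finset.prod_eq_single_of_mem ⟨0, hcnt⟩ (Finset.mem_univ _) fun t _ ht => ?_).trans ?_
    · show (if k ∈ A ∧ (t : ℕ) = 0 then ns else 1) = 1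
      exact if_neg fun h => ht (Fin.ext h.2)
    · show (if k ∈ A ∧ (0 : ℕ) = 0 then ns else 1) = _
      simp
  rw [hprod]
  by_cases hA : k ∈ A <;> simp [hA, hns]

theorem card_classes_pow_eq_one [Fact p.Prime] [CharP F p] (hp : p ≠ 2) :
    Nat.card {C : ConjClasses (Matrix.symplecticGroup (Fin m) F) // ∃ g, ConjClasses.mk g = C ∧ g ^ p = 1} =
      Nat.card ((μ : Adm p m) × Fin (2 ^ (evenParts μ.1).card)) := by
  classical
  have hrc : ringChar F ≠ 2 := by rwa [ringChar.eq F p]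
  have h2 : (2 : F) ≠ 0 := Ring.two_ne_zero hrc
  obtain ⟨f, hf⟩ := exists_code_classes (m := m) (F := F) (p := p) h2
  obtain ⟨ns, hns⟩ := FiniteField.exists_nonsquare (F := F) hrc
  refine le_antisymm (Nat.card_le_card_of_injective f hf) ?_
  choose g hg1 hg2 hg3 using fun (x : (μ : Adm p m) × ((evenParts μ.1).powerset : Finset _)) =>
    exists_model h2 x.1 x.2.1 hns
  have e : ((μ : Adm p m) × Fin (2 ^ (evenParts μ.1).card)) ≃ ((μ : Adm p m) × ((evenParts μ.1).powerset : Finset _)) :=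
    Equiv.sigmaCongrRight fun μ => (Fintype.equivFinOfCardEq (by simp)).symm
  rw [Nat.card_congr e]
  refine Nat.card_le_card_of_injective (fun x => ⟨ConjClasses.mk (g x), g x, rfl, hg1 x⟩) ?_
  rintro ⟨μ, A⟩ ⟨μ', A'⟩ h
  obtain ⟨z, hz⟩ := isConj_iff.1 (ConjClasses.mk_eq_mk_iff_isConj.1 (congrArg Subtype.val h))
  let Z : Matrix.symplecticGroup (Fin m) F → Module.End F (Fin m ⊕ Fin m → F) := fun y =>
    Matrix.toLin' (y : Matrix (Fin m ⊕ Fin m) (Fin m ⊕ Fin m) F)
  have hmul : ∀ y y' v, Z (y * y') v = Z y (Z y' v) := fun y y' v => by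
    simp only [Z, Submonoid.coe_mul, Matrix.toLin'_mul, LinearMap.comp_apply]
  have hone : ∀ v, Z 1 v = v := fun v => by simp [Z]
  let e : (Fin m ⊕ Fin m → F) ≃ₗ[F] (Fin m ⊕ Fin m → F) :=
    LinearEquiv.ofLinear (Z z) (Z z⁻¹)
      (LinearMap.ext fun v => by rw [LinearMap.comp_apply, ← hmul, mul_inv_cancel, hone]; rfl)
      (LinearMap.ext fun v => by rw [LinearMap.comp_apply, ← hmul, inv_mul_cancel, hone]; rfl)
  have he : ∀ v, e (Z (g ⟨μ, A⟩) v) = Z (g ⟨μ', A'⟩) (e v) := fun v => by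
    show Z z (Z (g ⟨μ, A⟩) v) = Z (g ⟨μ', A'⟩) (Z z v)
    rw [← hmul, ← hmul, ← hz, inv_mul_cancel_right]
  have heB : ∀ u v, sympB m F (e u) (e v) = sympB m F u v := fun u v => by
    rw [sympB_apply, sympB_apply]
    exact (congrArg₂ (sympForm m F) (Matrix.toLin'_apply z.1 u) (Matrix.toLin'_apply z.1 v)).trans (sympForm_map z u v)
  have hSS : labelsOf F μ.1.parts = labelsOf F μ'.1.parts :=
    labels_unique (labels_transport e he (hg2 ⟨μ, A⟩)) (hg2 ⟨μ', A'⟩)
  have hμ : μ = μ' := Subtype.ext (Nat.Partition.ext (by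
    have := congrArg (Multiset.map Prod.snd) hSS
    simpa [labelsOf, Multiset.map_map] using this))
  subst hμ
  refine Sigma.ext rfl (heq_of_eq (Subtype.ext (Finset.ext fun k => ?_)))
  by_cases hk : k ∈ evenParts μ.1
  · have h1 := hg3 ⟨μ, A⟩ k hk
    have h3 := hg3 ⟨μ, A'⟩ k hk
    have h4 : SquareAt (sympB m F) (Z (g ⟨μ, A⟩)) k (Fin (μ.1.parts.count k)) ↔
        SquareAt (sympB m F) (Z (g ⟨μ, A'⟩)) k (Fin (μ.1.parts.count k)) :=
      ⟨fun h => h.transport e heB he, fun h => h.transport e.symm (fun u v => by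
        rw [← heB (e.symm u) (e.symm v), e.apply_symm_apply, e.apply_symm_apply])
        (fun v => e.injective (by rw [he, e.apply_symm_apply, e.apply_symm_apply]))⟩
    exact not_iff_not.1 (h1.symm.trans (h4.trans h3))
  · exact iff_of_false (fun h => hk (Finset.mem_powerset.1 A.2 h)) (fun h => hk (Finset.mem_powerset.1 A'.2 h))

theorem card_classes_order (p m : ℕ) [Fact p.Prime] [CharP F p] (hp : p ≠ 2) :
    Nat.card {C : ConjClasses (Matrix.symplecticGroup (Fin m) F) // ∃ g, ConjClasses.mk g = C ∧ orderOf g = p} =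
      (∑ μ : Adm p m, 2 ^ (evenParts μ.1).card) - 1 := by
  classical
  rw [← Fintype.card_fin (∑ μ : Adm p m, 2 ^ (evenParts μ.1).card)]
  have h1 : Nat.card ((μ : Adm p m) × Fin (2 ^ (evenParts μ.1).card)) = ∑ μ : Adm p m, 2 ^ (evenParts μ.1).card := by
    rw [Nat.card_eq_fintype_card, Fintype.card_sigma]; simp
  rw [Fintype.card_fin, ← h1, ← card_classes_pow_eq_one (F := F) hp]
  let s : Set (ConjClasses (Matrix.symplecticGroup (Fin m) F)) := {C | ∃ g, ConjClasses.mk g = C ∧ g ^ p = 1}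
  have hs : {C : ConjClasses (Matrix.symplecticGroup (Fin m) F) | ∃ g, ConjClasses.mk g = C ∧ orderOf g = p} =
      s \ {ConjClasses.mk 1} := by
    ext C
    refine ⟨fun ⟨g, hg, ho⟩ => ⟨⟨g, hg, ho ▸ pow_orderOf_eq_one g⟩, fun h => ?_⟩, fun ⟨⟨g, hg, hgp⟩, h⟩ => ?_⟩
    · rw [Set.mem_singleton_iff, ← hg, ConjClasses.mk_eq_mk_iff_isConj, isConj_one_left] at h
      rw [h, orderOf_one] at ho
      exact (Fact.out : p.Prime).ne_one ho.symm
    · refine ⟨g, hg, orderOf_eq_prime hgp fun h1 => h ?_⟩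
      rw [Set.mem_singleton_iff, ← hg, h1]
  show Nat.card {C : ConjClasses (Matrix.symplecticGroup (Fin m) F) | ∃ g, ConjClasses.mk g = C ∧ orderOf g = p} = _
  rw [Nat.card_coe_set_eq, hs, Set.ncard_sdiff_singleton_of_mem (show ConjClasses.mk 1 ∈ s from ⟨1, rfl, one_pow p⟩)]
  rfl

end Cfsg.Agent.Classical.SympUnipotent
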