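import Cfsg.Agent.Lib.Classical.SzBinaryCount

/-!
# Binary actions of the Suzuki groups: subgroups without a split torus element

Subgroups of the radical with an element of order four, and subgroups normalising a fixed point free
torus, give actions that are not binary.
-/

set_option autoImplicit false

namespace Cfsg.Agent.SzBin

open Cfsg Cfsg.Agent.Suz Cfsg.Agent.BinAct Cfsg.Agent.SzTab Cfsg.Agent.Block.SzDeg

variable {F : Type*} [Field F] {m : ℕ} [Fintype F] (hS : SzField F m)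

local notation3 "Gp" => ↥(Cfsg.Sz F m)
set_option quotPrecheck false in
local notation "CS" x => Subgroup.centralizer ({x} : Set ↥(Cfsg.Sz F m))
set_option quotPrecheck false in
local notation "qq" => (2 ^ (2 * m + 1) : ℕ)

include hS

/-- Subgroups of the radical with an element of order four. -/
theorem not_isBin_unip_four {H : Subgroup Gp} (hH : H ≤ unip hS) (hZ : ¬ ∀ g ∈ H, ∃ b, g = uS hS 0 b) :
    ¬ IsBin H := by
  classical
  letI : Fintype Gp := Fintype.ofFinite _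
  push Not at hZ
  obtain ⟨x, hxH, hxZ⟩ := hZ
  obtain ⟨a, b, hab⟩ := (mem_unip hS).1 (hH hxH)
  have ha : a ≠ 0 := fun e => hxZ b (by rw [hab, e])
  have hx2 : x ^ 2 ≠ 1 := by
    rw [hab, uS_sq]
    exact uS_ne_one hS fun e => (mul_ne_zero (th_ne_zero ha) ha) e.2
  have hx1 : x ≠ 1 := fun e => hx2 (by rw [e, one_pow])
  have ho : orderOf x = 4 := by
    have h4 := orderOf_of_mem_unip hS (hH hxH)
    obtain ⟨k, hk, hk'⟩ := (Nat.dvd_prime_pow Nat.prime_two (m := 2)).1 (by simpa using h4)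
    interval_cases k
    · exact absurd (orderOf_eq_one_iff.1 hk') hx1
    · exact absurd (by rw [← pow_one 2, ← hk', pow_orderOf_eq_one]) hx2
    · exact hk'
  have hU : IsUnip hS 4 x := ⟨ho, 1, by simpa using hH hxH⟩
  have hC : Nat.card (CS x) = 2 * qq := by
    rcases exists_conj_of_order_four hS ho with h | h <;> obtain ⟨c, hc⟩ := isConj_iff.1 h
    · rw [← hc, card_centralizer_conj, card_centralizer_uS_one hS]
    · have he : (CS (uS hS 1 0)⁻¹) = (CS (uS hS 1 0)) := by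
        ext y
        simp only [Subgroup.mem_centralizer_singleton_iff]
        exact ⟨fun e => (Commute.inv_right_iff.1 (show Commute y (uS hS 1 0)⁻¹ from e)),
          fun e => Commute.inv_right (show Commute y (uS hS 1 0) from e)⟩
      rw [← hc, card_centralizer_conj, he, card_centralizer_uS_one hS]
  obtain ⟨D⟩ := exists_setup hS
  obtain ⟨T⟩ := exists_table D
  obtain ⟨v, hv, hvB⟩ : ∃ v ∈ sol x x, v ∉ borel m F := by
    by_contra hcon
    push Not at hcon
    have h1 : (sol x x).ncard ≤ Nat.card (borel m F) := by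
      rw [show Nat.card (borel m F) = (borel m F : Set Gp).ncard from Nat.card_coe_set_eq _]
      exact Set.ncard_le_ncard hcon (Set.toFinite _)
    rw [card_borel hS] at h1
    obtain ⟨h, h2, hh, hq, hq1, -, -⟩ := reals (hS := hS)
    have h1' : ((sol x x).ncard : ℝ) ≤ (2 * h ^ 2) ^ 2 * (2 * h ^ 2 - 1) := by
      rw [← hq1, ← hq]; exact_mod_cast h1
    have e := card_sol (hS := hS) x x
    have h3 := val_four T hU
    rw [hC, card_real (hS := hS) hq hq1, show ((2 * qq : ℕ) : ℝ) = 2 * (2 * h ^ 2) by rw [Nat.cast_mul, hq]; norm_num] at e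
    have hd : 0 < 2 * h ^ 2 - 1 := by nlinarith
    have hpos : 0 < (2 * h ^ 2) ^ 2 * (2 * h ^ 2 - 1) := by positivity
    have h4 : (2 * h ^ 2) ^ 2 * (2 * h ^ 2 - 1) * (((2 * h ^ 2) ^ 2 + 1) * (1 / 2)) ≤
        (2 * h ^ 2) ^ 2 * (2 * h ^ 2 - 1) * (2 * (2 * h ^ 2)) := by
      calc (2 * h ^ 2) ^ 2 * (2 * h ^ 2 - 1) * (((2 * h ^ 2) ^ 2 + 1) * (1 / 2))
          = (2 * h ^ 2) ^ 2 * ((2 * h ^ 2) ^ 2 + 1) * (2 * h ^ 2 - 1) * (1 / 2) := by ring
        _ ≤ (2 * h ^ 2) ^ 2 * ((2 * h ^ 2) ^ 2 + 1) * (2 * h ^ 2 - 1) * (sq2 x x).re :=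
            mul_le_mul_of_nonneg_left h3 (by positivity)
        _ = ((sol x x).ncard : ℝ) * (2 * (2 * h ^ 2)) := e.symm
        _ ≤ _ := mul_le_mul_of_nonneg_right h1' (by positivity)
    have h5 := le_of_mul_le_mul_left h4 hpos
    nlinarith [mul_le_mul h2 h2 zero_le_two (by linarith)]
  obtain ⟨u, hu⟩ := exists_of_mem_sol hv
  have triv : ∀ w, w ∉ borel m F → ∀ d ∈ H, d ∈ stab H w → d = 1 := by
    intro w hw d hd hds
    by_contra hd1
    rw [mem_stab] at hds
    refine hw ((Subgroup.inv_mem_iff _).1 (mem_borel_of_conj_mem hS (hH hd) hd1 ?_))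
    rw [inv_inv]
    exact hH hds
  have huB : u ∉ borel m F := by
    intro h
    have h1 : u * x * u⁻¹ ∈ unip hS :=
      (Subgroup.mem_normalizer_iff.1 (borel_le_normalizer hS h) _).1 (hH hxH)
    refine hvB (mem_borel_of_conj_mem hS (hH hxH) hx1 ?_)
    rw [show v * x * v⁻¹ = (u * x * u⁻¹)⁻¹ * ((u * x * u⁻¹) * (v * x * v⁻¹)) by group, ← hu]
    exact mul_mem (inv_mem h1) (hH hxH)
  exact not_isBin u v x x x hxH hxH hxH hu fun d e hd hda he heb heq =>
    hx1 (by rw [heq, triv u huB d hd hda, triv v hvB e he heb, one_mul])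

/-- Subgroups normalising the centraliser of one of their fixed point free elements. -/
theorem not_isBin_FPF {H : Subgroup Gp} {x : Gp} (hx : FPF m x) (hxH : x ∈ H)
    (hN : H ≤ Subgroup.normalizer ((CS x) : Set Gp)) : ¬ IsBin H := by
  classical
  letI : Fintype Gp := Fintype.ofFinite _
  haveI : Fact (Nat.Prime 2) := ⟨Nat.prime_two⟩
  set N := Subgroup.normalizer ((CS x) : Set Gp) with hNdef
  have hT : Suz.IsTor m (CS x) := Suz.isTor_of_FPF hS hx
  have hx1 : x ≠ 1 := hx.ne_one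
  have hnu : ∀ c, c * x * c⁻¹ ∉ unip hS := fun c h => (FPF.conj hS hx c) none (unip_le_borel hS h)
  have hc : Nat.card (CS x) = qq + 2 ^ (m + 1) + 1 ∨ Nat.card (CS x) = qq - 2 ^ (m + 1) + 1 := by
    rcases SzTab.classify (hS := hS) hx1 with h | h | ⟨c, z, hz, h⟩ | h | h
    · obtain ⟨c, hc⟩ := h.2; exact absurd hc (hnu c)
    · obtain ⟨c, hc⟩ := h.2; exact absurd hc (hnu c)
    · exact absurd ((show hTor hS z • pt m none = pt m none from hTor_inf hS z)) (h ▸ FPF.conj hS hx c none)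
    · exact Or.inl h.2
    · exact Or.inr h.2
  have hidx : torIdx m (Nat.card (CS x)) = 4 := by
    refine if_neg ?_
    have h1 : 4 ≤ 2 ^ (m + 1) := by
      calc 4 = 2 ^ 2 := rfl
        _ ≤ _ := Nat.pow_le_pow_right (by norm_num) (by have := hS.one_le; omega)
    have h2 : 2 ^ (m + 1) ≤ qq := Nat.pow_le_pow_right (by norm_num) (by omega)
    rcases hc with h | h <;> rw [h] <;> omega
  have hcardN : Nat.card N = 4 * Nat.card (CS x) := by rw [hNdef, hT.card_normalizer hS, hidx]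
  have hpow : ∀ n ∈ N, n ∉ (CS x) → n ^ 4 = 1 := fun n hn hn' => by
    have h := hT.pow_eq_one hS hn hn'
    rw [hidx] at h; exact h
  have hfpfT : ∀ n ∈ N, FPF m n → n ∈ (CS x) := by
    intro n hn hf
    by_contra hn'
    have h4 : orderOf n ∣ 4 := orderOf_dvd_of_pow_eq_one (hpow n hn hn')
    have hodd := (dvd_coprime (FPF.orderOf_dvd hS hf)).1
    have : orderOf n = 1 := by
      have h := Nat.le_of_dvd (by norm_num) h4
      rcases hodd with ⟨k, hk⟩
      interval_cases hn4 : orderOf n <;> omega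
    exact hf.ne_one (orderOf_eq_one_iff.1 this)
  have hTI : ∀ w, ∀ d ∈ (CS x), d ≠ 1 → w⁻¹ * d * w ∈ N → w ∈ N := by
    intro w d hd hd1 hw
    have hdF : FPF m d := FPF.of_comm hS hx (Subgroup.mem_centralizer_singleton_iff.1 hd) hd1
    have h1 : w⁻¹ * d * w⁻¹⁻¹ ∈ (CS x) := hfpfT _ (by rw [inv_inv]; exact hw) (FPF.conj hS hdF w⁻¹)
    exact (Subgroup.inv_mem_iff _).1 (FPF.TI hS hx w⁻¹ d hd hd1 h1)
  have hinT : ∀ w, w ∈ N → w * x * w⁻¹ ∈ (CS x) := fun w hw =>
    (Subgroup.mem_normalizer_iff.1 hw _).1 (self_mem_cs hS x)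
  obtain ⟨D⟩ := exists_setup hS
  obtain ⟨T⟩ := exists_table D
  by_cases hHT : H ≤ (CS x)
  · obtain ⟨v, hv, hvN⟩ : ∃ v ∈ sol x x, v ∉ N := by
      by_contra hcon
      push Not at hcon
      have h1 : (sol x x).ncard ≤ 4 * Nat.card (CS x) := by
        rw [← hcardN, show Nat.card N = (N : Set Gp).ncard from Nat.card_coe_set_eq _]
        exact Set.ncard_le_ncard hcon (Set.toFinite _)
      have h1' : ((sol x x).ncard : ℝ) ≤ 4 * (Nat.card (CS x) : ℝ) := by exact_mod_cast h1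
      have e := card_sol (hS := hS) x x
      obtain ⟨h, h2, hh, hq, hq1, hA, hB⟩ := reals (hS := hS)
      have hS10 : 1 / 10 ≤ (sq2 x x).re := by
        rcases hc with h' | h'
        · exact val_A T hx h'
        · exact val_B T hx h'
      have hcle : (Nat.card (CS x) : ℝ) ≤ 2 * (2 * h ^ 2) := by
        rcases hc with h' | h' <;> rw [h']
        · rw [hA]; nlinarith
        · rw [hB]; nlinarith
      rw [card_real (hS := hS) hq hq1] at e
      have hd : 0 < 2 * h ^ 2 - 1 := by nlinarith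
      have h4 : (2 * h ^ 2) ^ 2 * (((2 * h ^ 2) ^ 2 + 1) * (2 * h ^ 2 - 1) * (1 / 10)) ≤ (2 * h ^ 2) ^ 2 * 16 := by
        calc (2 * h ^ 2) ^ 2 * (((2 * h ^ 2) ^ 2 + 1) * (2 * h ^ 2 - 1) * (1 / 10))
            = (2 * h ^ 2) ^ 2 * ((2 * h ^ 2) ^ 2 + 1) * (2 * h ^ 2 - 1) * (1 / 10) := by ring
          _ ≤ (2 * h ^ 2) ^ 2 * ((2 * h ^ 2) ^ 2 + 1) * (2 * h ^ 2 - 1) * (sq2 x x).re :=
              mul_le_mul_of_nonneg_left hS10 (by positivity)
          _ = ((sol x x).ncard : ℝ) * (Nat.card (CS x) : ℝ) := e.symm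
          _ ≤ (4 * (2 * (2 * h ^ 2))) * (2 * (2 * h ^ 2)) :=
              mul_le_mul (h1'.trans (by linarith)) hcle (Nat.cast_nonneg _) (by positivity)
          _ = _ := by ring
      have h5 := le_of_mul_le_mul_left h4 (by positivity)
      have h8 : (8 : ℝ) ≤ 2 * h ^ 2 := by nlinarith
      have h65 : (65 : ℝ) ≤ (2 * h ^ 2) ^ 2 + 1 := by nlinarith
      nlinarith [mul_le_mul h65 (show (7 : ℝ) ≤ 2 * h ^ 2 - 1 by linarith) (by norm_num) (by positivity)]
    obtain ⟨u, hu⟩ := exists_of_mem_sol hv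
    have huN : u ∉ N := by
      intro h
      refine hvN (Subgroup.inv_mem_iff N |>.1 ?_)
      refine (Subgroup.inv_mem_iff N).2 (FPF.TI hS hx v x (self_mem_cs hS x) hx1 ?_)
      rw [show v * x * v⁻¹ = (u * x * u⁻¹)⁻¹ * ((u * x * u⁻¹) * (v * x * v⁻¹)) by group, ← hu]
      exact mul_mem (inv_mem (hinT u h)) (self_mem_cs hS x)
    have triv : ∀ w, w ∉ N → ∀ d ∈ H, d ∈ stab H w → d = 1 := fun w hw d hd hds => by
      by_contra hd1
      exact hw (hTI w d (hHT hd) hd1 (hN (mem_stab.1 hds)))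
    exact not_isBin u v x x x hxH hxH hxH hu fun d e hd hda he heb heq =>
      hx1 (by rw [heq, triv u huN d hd hda, triv v hvN e he heb, one_mul])
  -- the subgroup has an involution
  obtain ⟨s, hsH, hs⟩ : ∃ s ∈ H, orderOf s = 2 := by
    obtain ⟨n, hnH, hn⟩ := SetLike.not_le_iff_exists.1 hHT
    have h4 : orderOf n ∣ 2 ^ 2 := by
      simpa using orderOf_dvd_of_pow_eq_one (hpow n (hN hnH) hn)
    obtain ⟨k, hk, hk'⟩ := (Nat.dvd_prime_pow Nat.prime_two).1 h4
    interval_cases k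
    · exact absurd (orderOf_eq_one_iff.1 hk') fun e => hn (e ▸ one_mem _)
    · exact ⟨n, hnH, hk'⟩
    · refine ⟨n ^ 2, pow_mem hnH 2, ?_⟩
      rw [orderOf_pow, hk']; norm_num
  have hsU : IsUnip hS 2 s := by
    obtain ⟨c, hc⟩ := isConj_iff.1 (exists_conj_of_order_two hS hs)
    exact ⟨hs, c⁻¹, by rw [← hc]; simpa [mul_assoc] using uS_mem hS 0 1⟩
  have hsT : s ∉ (CS x) := hT.not_mem_of_sq hS (Or.inl hs)
  set x₀ := uS hS 1 0
  set Y : Set Gp := conjIn x₀ (CS x) with hY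
  have hYc : Y.ncard = Nat.card (CS x) := by
    have := conjIn_four hS hT
    rw [hidx] at this
    change Y.ncard * 2 = _ at this
    omega
  set Bad : Set Gp := {v | ∃ e ∈ Y, v⁻¹ * e * v ∈ Y}
  have hBad : Bad.ncard ≤ 2 * qq * Nat.card (CS x) ^ 2 := by
    have hfib : ∀ e ∈ Y, ∀ e' : Gp, {v : Gp | v⁻¹ * e * v = e'}.ncard ≤ 2 * qq := by
      intro e he e'
      by_cases hne : ∃ v₀, v₀⁻¹ * e * v₀ = e'
      · obtain ⟨v₀, hv₀⟩ := hne
        obtain ⟨c, hc⟩ := isConj_iff.1 he.2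
        rw [← card_centralizer_uS_one hS, ← card_centralizer_conj c (uS hS 1 0), show c * uS hS 1 0 * c⁻¹ = e from hc,
          show Nat.card (CS e) = ((CS e) : Set Gp).ncard from Nat.card_coe_set_eq _]
        refine Set.ncard_le_ncard_of_injOn (fun v => v * v₀⁻¹) (fun v hv => ?_)
          (fun v _ w _ h => mul_right_cancel h) (Set.toFinite _)
        rw [SetLike.mem_coe, Subgroup.mem_centralizer_singleton_iff]
        calc v * v₀⁻¹ * e = v * (v₀⁻¹ * e * v₀) * v₀⁻¹ := by group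
          _ = v * (v⁻¹ * e * v) * v₀⁻¹ := by rw [hv₀, show v⁻¹ * e * v = e' from hv]
          _ = e * (v * v₀⁻¹) := by group
      · push Not at hne
        rw [show {v : Gp | v⁻¹ * e * v = e'} = ∅ from Set.eq_empty_iff_forall_notMem.2 fun v hv => hne v hv]
        simp
    have hsub : Bad ⊆ ⋃ p ∈ (Y.toFinset ×ˢ Y.toFinset), {v : Gp | v⁻¹ * p.1 * v = p.2} := by
      rintro v ⟨e, he, he'⟩
      simp only [Set.mem_iUnion]
      exact ⟨(e, v⁻¹ * e * v), by simp [he, he'], rfl⟩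
    refine (Set.ncard_le_ncard hsub (Set.toFinite _)).trans ?_
    refine (Finset.set_ncard_biUnion_le _ _).trans ?_
    refine (Finset.sum_le_card_nsmul _ _ (2 * qq) fun p hp => ?_).trans ?_
    · exact hfib p.1 (Set.mem_toFinset.1 (Finset.mem_product.1 hp).1) p.2
    · rw [Finset.card_product, ← Set.ncard_eq_toFinset_card', hYc, smul_eq_mul]
      exact le_of_eq (by ring)
  obtain ⟨v, hv, hvB⟩ : ∃ v ∈ sol x s, v ∉ Bad := by
    by_contra hcon
    push Not at hcon
    have h1 := (Set.ncard_le_ncard hcon (Set.toFinite _)).trans hBad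
    have h1' : ((sol x s).ncard : ℝ) ≤ 2 * ((qq : ℕ) : ℝ) * (Nat.card (CS x) : ℝ) ^ 2 := by exact_mod_cast h1
    have e := card_sol (hS := hS) x s
    have hbig : 2 * ((qq : ℕ) : ℝ) * (Nat.card (CS x) : ℝ) ^ 3 < (Nat.card Gp : ℝ) * (sq2 x s).re := by
      rcases hc with h | h
      · exact big_A T hx h hsU
      · exact big_B T hx h hsU
    have h2 : ((sol x s).ncard : ℝ) * (Nat.card (CS x) : ℝ) ≤ 2 * ((qq : ℕ) : ℝ) * (Nat.card (CS x) : ℝ) ^ 2 *
        (Nat.card (CS x) : ℝ) := mul_le_mul_of_nonneg_right h1' (Nat.cast_nonneg _)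
    rw [mul_assoc (2 * ((qq : ℕ) : ℝ)), ← pow_succ, show (2 : ℕ) + 1 = 3 from rfl] at h2
    linarith
  obtain ⟨u, hu⟩ := exists_of_mem_sol hv
  have nonN : ∀ g : Gp, ∀ p ∈ (CS x), g * x * g⁻¹ = s * p ∨ g * x * g⁻¹ = p * s → False := by
    intro g p hp h
    have hmem : g * x * g⁻¹ ∈ (CS x) := hfpfT _ (by
      rcases h with h | h <;> rw [h]
      · exact mul_mem (hN hsH) (Subgroup.le_normalizer hp)
      · exact mul_mem (Subgroup.le_normalizer hp) (hN hsH)) (FPF.conj hS hx g)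
    rcases h with h | h <;> rw [h] at hmem
    · exact hsT ((Subgroup.mul_mem_cancel_right _ hp).1 hmem)
    · exact hsT ((Subgroup.mul_mem_cancel_left _ hp).1 hmem)
  have huN : u ∉ N := fun h => nonN v _ (inv_mem (hinT u h)) (Or.inr (by rw [hu]; group))
  have hvN : v ∉ N := fun h => nonN u _ (inv_mem (hinT v h)) (Or.inl (by rw [hu]; group))
  have hnot : ∀ w w', (s = (w * x * w⁻¹) * (w' * x * w'⁻¹) ∨ s = (w' * x * w'⁻¹) * (w * x * w⁻¹)) →
      s ∉ stab H w := by
    intro w w' heq hs'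
    rw [mem_stab] at hs'
    have hk := hN hs'
    set k := w⁻¹ * s * w with hkdef
    have hk2 : orderOf k = 2 := by
      rw [hkdef, show w⁻¹ * s * w = w⁻¹ * s * w⁻¹⁻¹ by group, orderOf_conj' hS, hs]
    have hF : FPF m ((w⁻¹ * w') * x * (w⁻¹ * w')⁻¹) := FPF.conj hS hx _
    rcases heq with e | e
    · have e' : k = x * ((w⁻¹ * w') * x * (w⁻¹ * w')⁻¹) := by rw [hkdef, e]; group
      have hmem := hfpfT _ (by
        rw [show (w⁻¹ * w') * x * (w⁻¹ * w')⁻¹ = x⁻¹ * k by rw [e']; group]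
        exact mul_mem (inv_mem (Subgroup.le_normalizer (self_mem_cs hS x))) hk) hF
      exact hT.not_mem_of_sq hS (Or.inl hk2) (e' ▸ mul_mem (self_mem_cs hS x) hmem)
    · have e' : k = ((w⁻¹ * w') * x * (w⁻¹ * w')⁻¹) * x := by rw [hkdef, e]; group
      have hmem := hfpfT _ (by
        rw [show (w⁻¹ * w') * x * (w⁻¹ * w')⁻¹ = k * x⁻¹ by rw [e']; group]
        exact mul_mem hk (inv_mem (Subgroup.le_normalizer (self_mem_cs hS x)))) hF
      exact hT.not_mem_of_sq hS (Or.inl hk2) (e' ▸ mul_mem hmem (self_mem_cs hS x))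
  refine not_isBin u v s x x hsH hxH hxH hu fun d e hd hda he heb heq => ?_
  have notT : ∀ w, w ∉ N → ∀ g ∈ H, g ∈ stab H w → g ∈ (CS x) → g = 1 := fun w hw g hg hgs hgT => by
    by_contra hg1
    exact hw (hTI w g hgT hg1 (hN (mem_stab.1 hgs)))
  by_cases he1 : e = 1
  · rw [he1, mul_one] at heq
    exact hnot u v (Or.inl hu) (heq ▸ hda)
  have heT : e ∉ (CS x) := fun h => he1 (notT v hvN e he heb h)
  have he2 : orderOf e = 2 := by
    have h4 : orderOf e ∣ 2 ^ 2 := by simpa using orderOf_dvd_of_pow_eq_one (hpow e (hN he) heT)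
    obtain ⟨k, hk, hk'⟩ := (Nat.dvd_prime_pow Nat.prime_two).1 h4
    interval_cases k
    · exact absurd (orderOf_eq_one_iff.1 hk') he1
    · exact hk'
    · exfalso
      refine hvB ?_
      have hconj : ∀ g : Gp, g ∈ N → IsConj x₀ g → g ∈ Y := fun g h1 h2 => ⟨h1, h2⟩
      rcases exists_conj_of_order_four hS (g := e) (by simpa using hk') with h | h
      · exact ⟨e, hconj e (hN he) h, hconj _ (hN (mem_stab.1 heb)) (h.trans (isConj_iff.2 ⟨v⁻¹, by group⟩))⟩
      · obtain ⟨c, hc⟩ := isConj_iff.1 h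
        have h' : IsConj x₀ e⁻¹ := isConj_iff.2 ⟨c, by rw [← hc]; show c * uS hS 1 0 * c⁻¹ = _; group⟩
        refine ⟨e⁻¹, hconj _ (inv_mem (hN he)) h', hconj _ ?_ (h'.trans (isConj_iff.2 ⟨v⁻¹, by group⟩))⟩
        rw [show v⁻¹ * e⁻¹ * v = (v⁻¹ * e * v)⁻¹ by group]
        exact inv_mem (hN (mem_stab.1 heb))
  have hdT : d ∈ (CS x) := by
    obtain ⟨h, hh, hconj⟩ := (hT.card_involutions hS).2 s e (hN hsH) hs (hN he) he2
    have hinv := hT.invert hS (hN hsH) hs (inv_mem hh)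
    rw [inv_inv] at hinv
    have hei : e⁻¹ = e := inv_eq_of_mul_eq_one_right (by rw [← sq, ← he2, pow_orderOf_eq_one])
    have hsi : s * s = 1 := by rw [← sq, ← hs, pow_orderOf_eq_one]
    have hsi' : s⁻¹ = s := inv_eq_of_mul_eq_one_right hsi
    rw [show d = s * e⁻¹ by rw [heq]; group, hei, ← hconj]
    have : s * (h * s * h⁻¹) = s * h * s⁻¹ * (s * s) * h⁻¹ := by group
    rw [this, hsi, mul_one]
    refine mul_mem ?_ (inv_mem hh)
    have := hT.invert hS (hN hsH) hs hh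
    rw [this]; exact inv_mem hh
  rw [notT u huN d hd hda hdT, one_mul] at heq
  exact hnot v u (Or.inr hu) (heq ▸ heb)

end Cfsg.Agent.SzBin
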