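import Cfsg.Agent.Lib.Classical.BinaryAction
import Cfsg.Agent.Lib.Lie.Sz.Subgroups
import Cfsg.Agent.Lib.Lie.Sz.Solvable

/-!
# Binary actions of the Suzuki groups: explicit witnesses

Three witnesses against binarity: subfield subgroups, subgroups of the Borel subgroup meeting the
torus or containing the radical, and subgroups of the normaliser of the split torus.
-/

set_option autoImplicit false

namespace Cfsg.Agent.SzBin

open Cfsg Cfsg.Agent.Suz Cfsg.Agent.BinAct

variable {F : Type*} [Field F] {m : ℕ} [Fintype F] (hS : SzField F m)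

local notation3 "Gp" => ↥(Cfsg.Sz F m)

include hS

theorem uS0_inv (c : F) : (uS hS 0 c)⁻¹ = uS hS 0 c := by
  rw [uS_inv, th_zero, zero_mul, add_zero]

theorem uS0_mul (a p r : F) : uS hS 0 a * uS hS p r = uS hS p (a + r) := by
  rw [uS_mul, th_zero, zero_mul, add_zero, zero_add]

theorem th_unit_inv (z : Fˣ) : th m ((z⁻¹ : Fˣ) : F) = (th m (z : F))⁻¹ := by
  rw [Units.val_inv_eq_inv_val, th_inv]

theorem add_inv_ne_zero {x : F} (hx : x ≠ 0) (h1 : x ≠ 1) : x + x⁻¹ ≠ 0 := by
  intro e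
  field_simp at e
  exact h1 (sq_inj hS (by linear_combination e - (1 : F) * two hS))

theorem th_ne_one {z : Fˣ} (hz : z ≠ 1) : th m (z : F) ≠ 1 := fun e =>
  hz (Units.ext (th_inj hS (e.trans th_one.symm)))

/-- Conjugating by a central unipotent element. -/
theorem conj_borel_elt (c : F) (p r : F) (s : Fˣ) :
    uS hS 0 c * (uS hS p r * hTor hS s) * uS hS 0 c =
      uS hS 0 (c + th m (s : F) * c) * (uS hS p r * hTor hS s) := by
  rw [mul_assoc (uS hS 0 c), mul_assoc (uS hS p r), hTor_uS, mul_zero, ← mul_assoc, ← mul_assoc,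
    uS_mul, uS_mul, ← mul_assoc, uS_mul]
  congr 2
  · ring
  · simp only [th_zero, mul_zero, zero_mul, add_zero, zero_add]
    ring

/-- A witness made of a torus element and two central unipotent elements. -/
theorem witness_zen {H : Subgroup Gp} {z : Fˣ} (ht : hTor hS z ∈ H) (c : F)
    (hn : uS hS 0 (c * (th m (z : F) + (th m (z : F))⁻¹)) ∉ H)
    (hD : ∀ g ∈ H, uS hS 0 c * g * uS hS 0 c ∈ H →
      uS hS 0 (c / th m (z : F)) * g * uS hS 0 (c / th m (z : F)) ∈ H) : ¬ IsBin H := by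
  set l := th m (z : F) with hl
  have hl0 : l ≠ 0 := th_ne_zero z.ne_zero
  set t := hTor hS z with htdef
  have key : ∀ a : F, uS hS 0 a * t * (uS hS 0 a)⁻¹ = uS hS 0 (a + l * a) * t := by
    intro a
    rw [uS0_inv, mul_assoc, htdef, hTor_uS, mul_zero, ← mul_assoc, uS0_mul]
  have hld : l * (c / l) = c := mul_div_cancel₀ _ hl0
  refine not_isBin_of_le (uS hS 0 c) (uS hS 0 (c / l)) t t ht ht ?_ ?_ ?_
  · rw [key, key, hld, mul_assoc, ← mul_assoc t, htdef, hTor_uS, mul_zero, ← mul_assoc, ← mul_assoc,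
      uS0_mul]
    rw [show c + l * c + th m (z : F) * (c / l + c) = 0 by
      rw [← hl, mul_add, hld]; linear_combination (c + l * c) * two hS, uS_zero, one_mul]
    exact mul_mem ht ht
  · intro g hg hga
    rw [mem_stab, uS0_inv] at hga ⊢
    exact hD g hg hga
  · intro hmem
    refine hn ?_
    rw [mem_stab, key, uS0_inv, ← mul_assoc, uS0_mul, mul_assoc, htdef, hTor_uS, mul_zero, ← mul_assoc,
      uS0_mul, ← hl, hld, ← htdef] at hmem
    have h := mul_mem hmem (inv_mem ht)
    rw [mul_inv_cancel_right] at h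
    rwa [show c * (l + l⁻¹) = c / l + (c + l * c) + c by linear_combination -c * two hS]

/-- The subfield subgroups. -/
theorem not_isBin_subfield {H : Subgroup Gp} {k : ℕ} (hk : 1 ≤ k) {W : Set F}
    (hWc : W.ncard = 2 ^ (2 * k + 1)) (hWp : ∀ x ∈ W, x ^ (2 ^ (2 * k + 1)) = x) (hne : W ≠ Set.univ)
    (hW : ∀ x, x ∈ H ↔ ((∃ a ∈ W, ∃ b ∈ W, ∃ z : Fˣ, (z : F) ∈ W ∧ x = uS hS a b * hTor hS z) ∨
      (∃ a ∈ W, ∃ b ∈ W, ∃ c ∈ W, ∃ d ∈ W, ∃ z : Fˣ, (z : F) ∈ W ∧
        x = uS hS a b * wS hS * (uS hS c d * hTor hS z)))) : ¬ IsBin H := by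
  classical
  set N := 2 ^ (2 * k + 1) with hN
  have hN8 : 8 ≤ N := by
    calc 8 = 2 ^ 3 := rfl
      _ ≤ _ := Nat.pow_le_pow_right (by norm_num) (by omega)
  have hfix : ∀ x : F, x ^ N = x → x ∈ W := by
    have hle : {y : F | y ^ N = y}.ncard ≤ N := by
      have hs : {y : F | y ^ N = y} ⊆
          ((Polynomial.X ^ N - Polynomial.X : Polynomial F).roots.toFinset : Set F) := by
        intro y hy
        rw [Finset.mem_coe, Multiset.mem_toFinset,
          Polynomial.mem_roots (FiniteField.X_pow_card_sub_X_ne_zero F (by omega : 1 < N))]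
        simp only [Polynomial.IsRoot, Polynomial.eval_sub, Polynomial.eval_pow, Polynomial.eval_X]
        exact sub_eq_zero.2 hy
      refine (Set.ncard_le_ncard hs (Finset.finite_toSet _)).trans ?_
      rw [Set.ncard_coe_finset]
      exact (Multiset.toFinset_card_le _).trans ((Polynomial.card_roots' _).trans
        (le_of_eq (FiniteField.X_pow_card_sub_X_natDegree_eq F (by omega))))
    have he : W = {y : F | y ^ N = y} :=
      Set.eq_of_subset_of_ncard_le (fun y hy => hWp y hy) (hle.trans hWc.ge) (Set.toFinite _)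
    intro x hx
    rw [he]; exact hx
  have hmul : ∀ x ∈ W, ∀ y ∈ W, x * y ∈ W := fun x hx y hy => hfix _ (by rw [mul_pow, hWp x hx, hWp y hy])
  have hadd : ∀ x ∈ W, ∀ y ∈ W, x + y ∈ W := fun x hx y hy => hfix _ (by
    haveI := charP hS
    haveI : Fact (Nat.Prime 2) := ⟨Nat.prime_two⟩
    rw [hN, add_pow_char_pow x y 2, ← hN, hWp x hx, hWp y hy])
  have hinv : ∀ x ∈ W, x⁻¹ ∈ W := fun x hx => hfix _ (by rw [inv_pow, hWp x hx])
  have hth : ∀ x ∈ W, th m x ∈ W := fun x hx => hfix _ (by rw [← th_pow, hWp x hx])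
  have h0 : (0 : F) ∈ W := hfix _ (zero_pow (by omega))
  have h1 : (1 : F) ∈ W := hfix _ (one_pow _)
  obtain ⟨c, hc⟩ := (Set.ne_univ_iff_exists_notMem W).1 hne
  obtain ⟨y, hyW, hy01⟩ : ∃ y ∈ W, y ∉ ({0, 1} : Set F) := by
    by_contra hh
    push Not at hh
    have := Set.ncard_le_ncard (fun y hy => hh y hy) (Set.toFinite ({0, 1} : Set F))
    have h2 : ({0, 1} : Set F).ncard ≤ 2 := (Set.ncard_insert_le _ _).trans (by simp)
    omega
  simp only [Set.mem_insert_iff, Set.mem_singleton_iff, not_or] at hy01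
  set z := Units.mk0 y hy01.1 with hz
  have hzW : (z : F) ∈ W := hyW
  have hz1 : z ≠ 1 := fun e => hy01.2 (by simpa [hz] using congrArg Units.val e)
  have ht : hTor hS z ∈ H := (hW _).2 (Or.inl ⟨0, h0, 0, h0, z, hzW, by rw [uS_zero, one_mul]⟩)
  have cell : ∀ a b : F, ∀ g ∈ borel m F, (uS hS a b * wS hS * g) • suzukiPointInfinity F = pt m (some (a, b)) := by
    intro a b g hg
    rw [mul_smul, mul_smul, show g • suzukiPointInfinity F = suzukiPointInfinity F from hg, wS_inf,
      uS_pt_zero]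
  have hB : ∀ (a b : F) (s : Fˣ), uS hS a b * hTor hS s ∈ borel m F := fun a b s =>
    mul_mem (uS_mem_borel hS a b) (hTor_mem_borel hS s)
  have hzero : ∀ b : F, uS hS 0 b ∈ H → b ∈ W := by
    intro b hb
    rcases (hW _).1 hb with ⟨a', -, b', hb', z', -, e⟩ | ⟨a', -, b', -, c', -, d', -, z', -, e⟩
    · obtain ⟨-, e2, -⟩ := uS_hTor_inj hS (a := (0 : F)) (b := b) (a' := a') (b' := b') (z := 1) (z' := z')
        (by rw [hTor_one, mul_one, e])
      exact e2 ▸ hb'
    · have h := cell a' b' _ (hB c' d' z')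
      rw [← e, uS_inf] at h
      exact (pt_ne hS (o := none) (o' := some (a', b')) (by simp) h).elim
  refine witness_zen hS ht c (fun hmem => hc ?_) ?_
  · have hne0 := add_inv_ne_zero hS (th_ne_zero (m := m) z.ne_zero) (th_ne_one hS hz1)
    have := hmul _ (hzero _ hmem) _ (hinv _ (hadd _ (hth _ hzW) _ (hinv _ (hth _ hzW))))
    rwa [mul_inv_cancel_right₀ hne0] at this
  · intro g hg hga
    rcases (hW _).1 hg with ⟨p, -, r, -, s, hs, rfl⟩ | ⟨p, -, r, hr, c', -, d', -, s, -, rfl⟩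
    · rw [conj_borel_elt] at hga ⊢
      have hmem := mul_mem hga (inv_mem hg)
      rw [mul_inv_cancel_right] at hmem
      have h2 := hzero _ hmem
      by_cases hs1 : 1 + th m (s : F) = 0
      · rw [show th m (s : F) = 1 by linear_combination hs1 - (1 : F) * two hS, one_mul,
          show c / th m (z : F) + c / th m (z : F) = 0 by linear_combination (c / th m (z : F)) * two hS,
          uS_zero, one_mul]
        exact hg
      · refine absurd ?_ hc
        have := hmul _ h2 _ (hinv _ (hadd _ h1 _ (hth _ hs)))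
        rwa [show c + th m (s : F) * c = c * (1 + th m (s : F)) by ring, mul_inv_cancel_right₀ hs1] at this
    · exfalso
      have h : (uS hS 0 c * (uS hS p r * wS hS * (uS hS c' d' * hTor hS s)) * uS hS 0 c) •
          suzukiPointInfinity F = pt m (some (p, r + c)) := by
        rw [mul_smul, mul_smul, uS_inf, cell p r _ (hB c' d' s), uS_pt]
        simp [th_zero]
      rcases (hW _).1 hga with ⟨a', -, b', -, z', -, e⟩ | ⟨a', -, b', hb', c'', -, d'', -, z', -, e⟩
      · rw [e, show (uS hS a' b' * hTor hS z') • suzukiPointInfinity F = suzukiPointInfinity F from hB a' b' z'] at h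
        exact pt_ne hS (o := none) (o' := some (p, r + c)) (by simp) h
      · rw [e, cell a' b' _ (hB c'' d'' z')] at h
        have e' : b' = r + c := by simpa using (congrArg Prod.snd (Option.some.inj (pt_injective h)))
        refine hc ?_
        have := hadd _ hb' _ hr
        rwa [e', show r + c + r = c by linear_combination r * two hS] at this

/-- Subgroups of the Borel subgroup containing a torus element, not containing the centre. -/
theorem not_isBin_borel_one {H : Subgroup Gp} (hB : H ≤ borel m F) {z : Fˣ} (hz : z ≠ 1)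
    (ht : hTor hS z ∈ H) {c : F} (hc : uS hS 0 c ∉ H) : ¬ IsBin H := by
  set l := th m (z : F) with hl
  set K : Set F := {b | uS hS 0 b ∈ H}
  have hlK : ∀ b ∈ K, l * b ∈ K := fun b hb => by
    have h := mul_mem (mul_mem ht (show uS hS 0 b ∈ H from hb)) (inv_mem ht)
    rwa [hTor_conj, mul_zero] at h
  have hliK : ∀ b ∈ K, l⁻¹ * b ∈ K := fun b hb => by
    have h := mul_mem (mul_mem (inv_mem ht) (show uS hS 0 b ∈ H from hb)) ht
    rw [show hTor hS z = (hTor hS z⁻¹)⁻¹ by rw [hTor_inv, inv_inv], inv_inv, hTor_conj, mul_zero,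
      th_unit_inv hS] at h
    exact h
  have hne0 : l + l⁻¹ ≠ 0 := add_inv_ne_zero hS (th_ne_zero z.ne_zero) (th_ne_one hS hz)
  refine witness_zen hS ht c (fun hmem => hc ?_) ?_
  · refine closed_preimage K (f := fun b => (l + l⁻¹) * b) (mul_right_injective₀ hne0) (fun b hb => ?_) ?_
    · show uS hS 0 ((l + l⁻¹) * b) ∈ H
      rw [add_mul, ← uS0_mul hS (l * b) 0 (l⁻¹ * b)]
      exact mul_mem (hlK b hb) (hliK b hb)
    · show uS hS 0 ((l + l⁻¹) * c) ∈ H
      rw [mul_comm]; exact hmem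
  · intro g hg hga
    obtain ⟨p, r, s, rfl⟩ := borel_eq hS (hB hg)
    rw [conj_borel_elt] at hga ⊢
    have h2 := mul_mem hga (inv_mem hg)
    rw [mul_inv_cancel_right] at h2
    refine mul_mem ?_ hg
    have h3 : uS hS 0 (l⁻¹ * (c + th m (s : F) * c)) ∈ H := hliK _ h2
    rwa [show c / th m (z : F) + th m (s : F) * (c / th m (z : F)) = l⁻¹ * (c + th m (s : F) * c) by
      rw [hl, div_eq_mul_inv]; ring]

theorem conj_tor (c r : F) (s : Fˣ) (p r' : F) :
    ∃ r'', uS hS c r * (uS hS p r' * hTor hS s) * (uS hS c r)⁻¹ =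
      uS hS (c + p + par m (s : F) * c) r'' * hTor hS s := by
  rw [uS_inv, mul_assoc (uS hS c r), mul_assoc (uS hS p r'), hTor_uS, ← mul_assoc, ← mul_assoc, uS_mul, uS_mul]
  exact ⟨_, rfl⟩

/-- Subgroups of the Borel subgroup containing a torus element and the centre, not the radical. -/
theorem not_isBin_borel_two {H : Subgroup Gp} (hB : H ≤ borel m F) {z : Fˣ} (hz : z ≠ 1)
    (ht : hTor hS z ∈ H) (hZ : ∀ b, uS hS 0 b ∈ H) {c : F} (hc : uS hS c 0 ∉ H) : ¬ IsBin H := by
  set p := par m (z : F) with hp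
  have hp0 : p ≠ 0 := div_ne_zero (pow_ne_zero _ z.ne_zero) (th_ne_zero z.ne_zero)
  set K : Set F := {a | uS hS a 0 ∈ H}
  have hK : ∀ a r, uS hS a r ∈ H ↔ a ∈ K := by
    intro a r
    show _ ↔ uS hS a 0 ∈ H
    rw [← Subgroup.mul_mem_cancel_left H (hZ r) (y := uS hS a 0), uS0_mul, add_zero]
  have hadd : ∀ a ∈ K, ∀ b ∈ K, a + b ∈ K := fun a ha b hb => by
    have h := mul_mem (show uS hS a 0 ∈ H from ha) (show uS hS b 0 ∈ H from hb)
    rw [uS_mul, hK] at h
    exact h
  have hpK : ∀ a ∈ K, p * a ∈ K := fun a ha => by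
    have h := mul_mem (mul_mem ht (show uS hS a 0 ∈ H from ha)) (inv_mem ht)
    rw [hTor_conj, hK] at h
    exact h
  have hpiK : ∀ a ∈ K, p⁻¹ * a ∈ K := fun a ha => by
    have h := mul_mem (mul_mem (inv_mem ht) (show uS hS a 0 ∈ H from ha)) ht
    rw [show hTor hS z = (hTor hS z⁻¹)⁻¹ by rw [hTor_inv, inv_inv], inv_inv, hTor_conj, hK] at h
    rwa [show par m ((z⁻¹ : Fˣ) : F) = p⁻¹ by rw [hp, par, par, th_unit_inv hS, Units.val_inv_eq_inv_val]; ring] at h
  have hne0 : p + p⁻¹ ≠ 0 := add_inv_ne_zero hS hp0 fun e => hz (par_eq_one hS e)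
  have hT : ∀ a r, ∃ r'', uS hS a r * hTor hS z * (uS hS a r)⁻¹ = uS hS (a + p * a) r'' * hTor hS z := by
    intro a r
    obtain ⟨r'', e⟩ := conj_tor hS a r z 0 0
    rw [uS_zero, one_mul, add_zero] at e
    exact ⟨r'', e⟩
  have hpd : p * (c / p) = c := mul_div_cancel₀ _ hp0
  obtain ⟨ra, hra⟩ := hT c 0
  obtain ⟨rk, hrk⟩ := hT (c / p) 0
  refine not_isBin_of_le (uS hS c 0) (uS hS (c / p) 0) _ _ ht ht ?_ ?_ ?_
  · rw [hra, hrk, mul_assoc, ← mul_assoc (hTor hS z), hTor_uS, ← mul_assoc, ← mul_assoc, uS_mul, ← hp]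
    refine mul_mem (mul_mem ((hK _ _).2 ?_) ht) ht
    rw [show c + p * c + p * (c / p + p * (c / p)) = 0 by
      rw [hpd, mul_add, hpd]; linear_combination (c + p * c) * two hS]
    exact (hK 0 0).1 (hZ 0)
  · intro g hg hga
    obtain ⟨a, b, s, rfl⟩ := borel_eq hS (hB hg)
    rw [mem_stab, uS_inv] at hga ⊢
    have hconj : ∀ d, uS hS d (0 + th m d * d) * (uS hS a b * hTor hS s) * uS hS d 0 ∈ H ↔
        d + par m (s : F) * d ∈ K := by
      intro d
      obtain ⟨r, e⟩ := conj_tor hS d (0 + th m d * d) s a b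
      rw [uS_inv, show 0 + th m d * d + th m d * d = 0 by linear_combination (th m d * d) * two hS] at e
      rw [e, show uS hS (d + a + par m (s : F) * d) r * hTor hS s =
          uS hS (d + a + par m (s : F) * d) r * (uS hS a b)⁻¹ * (uS hS a b * hTor hS s) by group,
        Subgroup.mul_mem_cancel_right H hg, uS_inv, uS_mul, hK,
        show d + a + par m (s : F) * d + a = d + par m (s : F) * d by linear_combination a * two hS]
    rw [hconj] at hga ⊢
    rw [show c / p + par m (s : F) * (c / p) = p⁻¹ * (c + par m (s : F) * c) by rw [div_eq_mul_inv]; ring]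
    exact hpiK _ hga
  · intro hmem
    rw [mem_stab, hra, uS_inv] at hmem
    obtain ⟨r, e⟩ := conj_tor hS (c / p) (0 + th m (c / p) * (c / p)) z (c + p * c) ra
    rw [uS_inv, show 0 + th m (c / p) * (c / p) + th m (c / p) * (c / p) = 0 by
      linear_combination (th m (c / p) * (c / p)) * two hS] at e
    rw [e, Subgroup.mul_mem_cancel_right H ht, hK, ← hp, hpd] at hmem
    refine hc (closed_preimage K (f := fun a => (p + p⁻¹) * a) (mul_right_injective₀ hne0) (fun a ha => ?_) ?_)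
    · show (p + p⁻¹) * a ∈ K
      rw [add_mul]; exact hadd _ (hpK a ha) _ (hpiK a ha)
    · show (p + p⁻¹) * c ∈ K
      rwa [show (p + p⁻¹) * c = c / p + (c + p * c) + c by linear_combination -c * two hS]

theorem wS_unip_not_borel {u : Gp} (hu : u ∈ unip hS) (h1 : u ≠ 1) : wS hS * u * wS hS ∉ borel m F := by
  intro h
  obtain ⟨a, b, rfl⟩ := (mem_unip hS).1 hu
  have h' : (wS hS * uS hS a b * wS hS) • suzukiPointInfinity F = suzukiPointInfinity F := h
  rw [mul_smul, mul_smul, wS_inf, uS_pt_zero] at h'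
  have hfo : fo m a b ≠ 0 := fun e => by
    obtain ⟨rfl, rfl⟩ := fo_eq_zero hS e
    exact h1 (uS_zero hS)
  rw [show wS hS • pt m (some (a, b)) = pt m (some (b / fo m a b, a / fo m a b)) from wEl_pt hS hfo] at h'
  exact pt_ne hS (o := some (b / fo m a b, a / fo m a b)) (o' := none) (by simp) h'

/-- Subgroups of the Borel subgroup containing the radical. -/
theorem not_isBin_borel_three {H : Subgroup Gp} (hB : H ≤ borel m F) (hU : unip hS ≤ H) : ¬ IsBin H := by
  classical
  have hcell : ∀ u : {u : Gp // u ∈ unip hS ∧ u ≠ 1}, ∃ f ∈ unip hS, ∃ e₁ ∈ unip hS, ∃ d : Fˣ,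
      wS hS * u.1 * wS hS = f * wS hS * (e₁ * hTor hS d) := by
    intro u
    obtain ⟨a, b, k, hk, e⟩ := big_cell hS (wS_unip_not_borel hS u.2.1 u.2.2)
    obtain ⟨p, r, d, rfl⟩ := borel_eq hS hk
    exact ⟨_, uS_mem hS a b, _, uS_mem hS p r, d, e⟩
  choose f hf e₁ he₁ d hd using hcell
  set T : Subgroup Fˣ := H.comap (torHom hS) with hT
  have hTmem : ∀ s, s ∈ T ↔ hTor hS s ∈ H := fun s => Iff.rfl
  obtain ⟨u, u', hdd, hnc⟩ : ∃ u u', (d u)⁻¹ * d u' ∈ T ∧
      ∀ t ∈ T, u'.1 ≠ hTor hS t * u.1 * (hTor hS t)⁻¹ := by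
    by_contra hcon
    push Not at hcon
    set P := {κ : Fˣ ⧸ T // ∃ u, QuotientGroup.mk (d u) = κ}
    have hsurj : ∀ u : {u : Gp // u ∈ unip hS ∧ u ≠ 1}, ∃ κt : P × T,
        u.1 = hTor hS (κt.2 : Fˣ) * (κt.1.2.choose).1 * (hTor hS (κt.2 : Fˣ))⁻¹ := by
      intro u
      set κ : P := ⟨QuotientGroup.mk (d u), u, rfl⟩
      obtain ⟨t, ht, e⟩ := hcon κ.2.choose u (QuotientGroup.eq.1 κ.2.choose_spec)
      exact ⟨(κ, ⟨t, ht⟩), e⟩
    choose φ hφ using hsurj
    have hinj : Function.Injective φ := fun u v e => Subtype.ext (by rw [hφ u, hφ v, e])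
    have h1 := Nat.card_le_card_of_injective φ hinj
    have h2 : Nat.card P ≤ Nat.card (Fˣ ⧸ T) := Nat.card_le_card_of_injective Subtype.val Subtype.val_injective
    have h3 : Nat.card {u : Gp // u ∈ unip hS ∧ u ≠ 1} + 1 = (2 ^ (2 * m + 1)) ^ 2 := by
      rw [← card_unip hS, show Nat.card {u : Gp // u ∈ unip hS ∧ u ≠ 1} =
        ((unip hS : Set Gp) \ {1}).ncard from Nat.card_coe_set_eq _, Set.ncard_diff_singleton_add_one (one_mem _),
        ← Nat.card_coe_set_eq]
      rfl
    rw [Nat.card_prod] at h1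
    have h4 : Nat.card (Fˣ ⧸ T) * Nat.card T = 2 ^ (2 * m + 1) - 1 := by
      rw [← Subgroup.card_eq_card_quotient_mul_card_subgroup, Nat.card_units, Nat.card_eq_fintype_card, hS.card]
    have h5 := Nat.mul_le_mul_right (Nat.card T) h2
    have h8 : 8 ≤ 2 ^ (2 * m + 1) := hS.card ▸ eight_le hS
    have h9 : 2 ^ (2 * m + 1) * 8 ≤ (2 ^ (2 * m + 1)) ^ 2 := by
      rw [sq]; exact Nat.mul_le_mul_left _ h8
    omega
  set w := wS hS with hw
  have hww : w * w = 1 := wS_sq hS
  have hwi : w⁻¹ = w := inv_eq_of_mul_eq_one_right hww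
  refine not_isBin w (u.1 * w) (u'.1 * u.1⁻¹) (f u' * (f u)⁻¹)
    ((e₁ u * hTor hS (d u))⁻¹ * (e₁ u' * hTor hS (d u')))
    (mul_mem (hU u'.2.1) (inv_mem (hU u.2.1))) (mul_mem (hU (hf u')) (inv_mem (hU (hf u)))) ?_ ?_ ?_
  · have h1 : (e₁ u * hTor hS (d u))⁻¹ * (e₁ u' * hTor hS (d u')) =
        ((hTor hS (d u))⁻¹ * ((e₁ u)⁻¹ * e₁ u') * hTor hS (d u)) * hTor hS ((d u)⁻¹ * d u') := by
      rw [← hTor_mul, ← hTor_inv]; group
    rw [h1]
    refine mul_mem (hU ?_) hdd
    have h := (Subgroup.mem_normalizer_iff.1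
      (inv_mem (borel_le_normalizer hS (hTor_mem_borel hS (d u)))) _).1 (mul_mem (inv_mem (he₁ u)) (he₁ u'))
    rwa [inv_inv] at h
  · have h1 := hd u
    have h2 := hd u'
    symm
    calc w * (f u' * (f u)⁻¹) * w⁻¹ * (u.1 * w * ((e₁ u * hTor hS (d u))⁻¹ * (e₁ u' * hTor hS (d u'))) * (u.1 * w)⁻¹)
        = w * f u' * (f u)⁻¹ * (w * u.1 * w) * (e₁ u * hTor hS (d u))⁻¹ * (e₁ u' * hTor hS (d u')) * w * u.1⁻¹ := by
          simp only [_root_.mul_inv_rev, hwi, mul_assoc]
      _ = w * (f u' * w * (e₁ u' * hTor hS (d u'))) * w * u.1⁻¹ := by rw [h1]; group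
      _ = (w * w) * u'.1 * (w * w) * u.1⁻¹ := by rw [← h2]; group
      _ = u'.1 * u.1⁻¹ := by rw [hww, one_mul, mul_one]
  · intro x y hx hxs hy hys e
    have inT : ∀ g ∈ H, w * g * w ∈ H → ∃ t ∈ T, g = hTor hS t := by
      intro g hg hgw
      have h0 : g • pt m (some ((0 : F), 0)) = pt m (some (0, 0)) := by
        have := congrArg (w • ·) (show (w * g * w) • suzukiPointInfinity F = suzukiPointInfinity F from hB hgw)
        simp only [← mul_smul] at this
        rw [← mul_assoc, ← mul_assoc, hww, one_mul, mul_smul, wS_inf] at this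
        exact this
      obtain ⟨t, rfl⟩ := fix_two hS (hB hg) h0
      exact ⟨t, hg, rfl⟩
    rw [mem_stab, hwi] at hxs
    obtain ⟨t₁, ht₁, rfl⟩ := inT x hx hxs
    have hy' : w * (u.1⁻¹ * y * u.1) * w ∈ H := by
      rw [mem_stab, _root_.mul_inv_rev, hwi] at hys
      simpa only [mul_assoc] using hys
    obtain ⟨t₂, ht₂, hy2⟩ := inT _ (mul_mem (mul_mem (inv_mem (hU u.2.1)) hy) (hU u.2.1)) hy'
    rw [show y = u.1 * hTor hS t₂ * u.1⁻¹ by rw [← hy2]; group] at e
    have e' : u'.1 = hTor hS t₁ * u.1 * (hTor hS t₁)⁻¹ * (hTor hS t₁ * hTor hS t₂) :=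
      calc u'.1 = u'.1 * u.1⁻¹ * u.1 := by group
        _ = _ := by rw [e]; group
    refine hnc t₁ ht₁ ?_
    obtain ⟨a, b, hab⟩ := (mem_unip hS).1 u'.2.1
    obtain ⟨a', b', hab'⟩ := (mem_unip hS).1 u.2.1
    have h3 := e'
    rw [hab, hab', hTor_conj, hTor_mul] at h3
    obtain ⟨-, -, hz⟩ := uS_hTor_inj hS (z := (1 : Fˣ)) (z' := t₁ * t₂) (by rw [hTor_one, mul_one]; exact h3)
    rw [e', hTor_mul, ← hz, hTor_one, mul_one]

/-- An element of the normaliser of the split torus preserves the two fixed points. -/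
theorem normalizer_torus_inf {n : Gp} (hn : n ∈ Subgroup.normalizer (torus hS : Set Gp)) :
    n • suzukiPointInfinity F = suzukiPointInfinity F ∨ n • suzukiPointInfinity F = pt m (some (0, 0)) := by
  obtain ⟨y, hy0, hy1⟩ := exists_ne_zero_one hS (F := F)
  set z := Units.mk0 y hy0
  have hz1 : z ≠ 1 := fun e => hy1 (congrArg Units.val e)
  obtain ⟨z', hz'⟩ := mem_torus hS
    ((Subgroup.mem_normalizer_iff.1 (inv_mem hn) _).1 (hTor_mem_torus hS z))
  rw [inv_inv] at hz'
  have hfix : hTor hS z • (n • suzukiPointInfinity F) = n • suzukiPointInfinity F := by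
    rw [show hTor hS z = n * hTor hS z' * n⁻¹ by rw [← hz']; group, mul_smul, mul_smul, inv_smul_smul,
      hTor_inf]
  obtain ⟨o, ho⟩ := exists_pt_smul hS n none
  have ho' : n • suzukiPointInfinity F = pt m o := ho
  rw [ho'] at hfix ⊢
  rcases eq_one_or_of_fix hS hz1 hfix with rfl | rfl
  · exact Or.inl rfl
  · exact Or.inr rfl

theorem uS0_normalizer {b : F} (h : uS hS 0 b ∈ Subgroup.normalizer (torus hS : Set Gp)) : b = 0 := by
  obtain ⟨y, hy0, hy1⟩ := exists_ne_zero_one hS (F := F)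
  set z := Units.mk0 y hy0
  have hz1 : z ≠ 1 := fun e => hy1 (congrArg Units.val e)
  obtain ⟨s, hs⟩ := mem_torus hS ((Subgroup.mem_normalizer_iff.1 h _).1 (hTor_mem_torus hS z))
  rw [uS0_inv, mul_assoc, hTor_uS, mul_zero, ← mul_assoc, uS0_mul] at hs
  obtain ⟨-, h2, -⟩ := uS_hTor_inj hS (a := (0 : F)) (b := b + th m (z : F) * b) (z := z) (a' := (0 : F)) (b' := 0) (z' := s) (by rw [uS_zero, one_mul]; exact hs)
  have : b * (1 + th m (z : F)) = 0 := by linear_combination h2
  refine (mul_eq_zero.1 this).resolve_right fun e => th_ne_one hS hz1 ?_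
  linear_combination e - (1 : F) * two hS

/-- Subgroups of the normaliser of the split torus. -/
theorem not_isBin_split {H : Subgroup Gp} (hN : H ≤ Subgroup.normalizer (torus hS : Set Gp)) {z : Fˣ}
    (hz : z ≠ 1) (ht : hTor hS z ∈ H) : ¬ IsBin H := by
  refine witness_zen hS ht 1 (fun hmem => ?_) ?_
  · have := uS0_normalizer hS (hN hmem)
    rw [one_mul] at this
    exact add_inv_ne_zero hS (th_ne_zero z.ne_zero) (th_ne_one hS hz) this
  · intro g hg hga
    rcases normalizer_torus_inf hS (hN hga) with h | h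
    · rw [mul_smul, mul_smul, uS_inf] at h
      have hginf : g • suzukiPointInfinity F = suzukiPointInfinity F := by
        rw [smul_eq_iff_eq_inv_smul, uS0_inv, uS_inf] at h
        exact h
      obtain ⟨p, r, s, rfl⟩ := borel_eq hS hginf
      have hmem : uS hS p r * hTor hS s ∈ Subgroup.normalizer (torus hS : Set Gp) := hN hg
      rw [conj_borel_elt] at hga
      have h2 := mul_mem (hN hga) (inv_mem hmem)
      rw [mul_inv_cancel_right] at h2
      have h3 : th m (s : F) = 1 := by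
        have := uS0_normalizer hS h2
        linear_combination this - (1 : F) * two hS
      rw [conj_borel_elt, h3, one_mul,
        show (1 : F) / th m (z : F) + 1 / th m (z : F) = 0 by linear_combination (1 / th m (z : F)) * two hS,
        uS_zero, one_mul]
      exact hg
    · exfalso
      rw [mul_smul, mul_smul, uS_inf] at h
      rcases normalizer_torus_inf hS (hN hg) with h' | h' <;> rw [h'] at h
      · rw [uS_inf] at h
        exact pt_ne hS (o := none) (o' := some ((0 : F), 0)) (by simp) h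
      · rw [uS_pt_zero] at h
        simpa using pt_injective h

end Cfsg.Agent.SzBin
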