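import Cfsg.Agent.Lib.Classical.SzBinaryCenter
import Cfsg.Agent.Lib.Classical.SzBinaryWitness
import Cfsg.Agent.Lib.Classical.SzBinaryFPF

/-!
# Binary coset actions of the Suzuki groups

The action on the cosets of a proper subgroup is binary exactly when the subgroup is trivial or the
centre of a Sylow 2-subgroup.
-/

set_option autoImplicit false

namespace Cfsg.Agent.SzBin

open Cfsg Cfsg.Agent.Suz Cfsg.Agent.BinAct

variable {F : Type*} [Field F] {m : ℕ} [Fintype F] (hS : SzField F m)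

local notation3 "Gp" => ↥(Cfsg.Sz F m)
set_option quotPrecheck false in
local notation "CS" x => Subgroup.centralizer ({x} : Set ↥(Cfsg.Sz F m))

theorem mem_map_conj {G : Type*} [Group G] {H : Subgroup G} {g x : G} :
    x ∈ H.map (MulAut.conj g).toMonoidHom ↔ g⁻¹ * x * g ∈ H := by
  rw [Subgroup.mem_map_equiv, MulAut.conj_symm_apply]

include hS

/-- Inside the Borel subgroup. -/
theorem eq_zen_of_isBin {H : Subgroup Gp} (hB : H ≤ borel m F) (h0 : H ≠ ⊥) (hb : IsBin H) :
    ∃ g, H = (zen hS).map (MulAut.conj g).toMonoidHom := by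
  by_cases hU : H ≤ unip hS
  · refine ⟨1, ?_⟩
    have hle : H ≤ zen hS := fun g hg => by
      rw [mem_zen]
      by_contra hne
      exact not_isBin_unip_four hS hU (fun h => hne (h g hg)) hb
    rw [show (zen hS).map (MulAut.conj (1 : Gp)).toMonoidHom = zen hS by
      ext x; rw [mem_map_conj]; simp]
    by_contra hne
    exact not_isBin_zen_lt hS hle h0 hne hb
  exfalso
  obtain ⟨g, hgH, hgU⟩ := SetLike.not_le_iff_exists.1 hU
  obtain ⟨a, b, z, rfl⟩ := borel_eq hS (hB hgH)
  have hz : z ≠ 1 := fun e => hgU (by rw [e, hTor_one, mul_one]; exact uS_mem hS a b)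
  obtain ⟨v, hv, hvz⟩ := exists_conj_torus hS (⊤ : Subgroup Gp) (uS_mem hS a b) hz trivial trivial
  have hvB : v ∈ borel m F := unip_le_borel hS (Subgroup.mem_inf.1 hv).2
  set H₁ := H.map (MulAut.conj v⁻¹).toMonoidHom with hH₁
  have hb₁ : IsBin H₁ := (isBin_conj_iff H v⁻¹).2 hb
  have hB₁ : H₁ ≤ borel m F := fun x hx => by
    rw [hH₁, mem_map_conj] at hx
    have := mul_mem (mul_mem (inv_mem hvB) (hB hx)) hvB
    simpa [mul_assoc] using this
  have ht : hTor hS z ∈ H₁ := by
    rw [hH₁, mem_map_conj, inv_inv, hvz]; exact hgH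
  by_cases hU₁ : unip hS ≤ H₁
  · exact not_isBin_borel_three hS hB₁ hU₁ hb₁
  by_cases hZ : ∀ c, uS hS 0 c ∈ H₁
  · obtain ⟨c, hc⟩ : ∃ c, uS hS c 0 ∉ H₁ := by
      by_contra hh
      push Not at hh
      refine hU₁ fun x hx => ?_
      obtain ⟨p, r, rfl⟩ := (mem_unip hS).1 hx
      rw [show uS hS p r = uS hS 0 r * uS hS p 0 by rw [uS0_mul, add_zero]]
      exact mul_mem (hZ r) (hh p)
    exact not_isBin_borel_two hS hB₁ hz ht hZ hc hb₁
  · push Not at hZ
    obtain ⟨c, hc⟩ := hZ
    exact not_isBin_borel_one hS hB₁ hz ht hc hb₁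

theorem borel_of_fix {H : Subgroup Gp} {o : Option (F × F)} (ho : ∀ k ∈ H, k • pt m o = pt m o) :
    ∃ c, H.map (MulAut.conj c).toMonoidHom ≤ borel m F := by
  obtain ⟨c, hc⟩ := (orbit_inf hS).symm ▸ (mem_ovoid_iff (m := m) (p := pt m o)).2 ⟨o, rfl⟩
  refine ⟨c⁻¹, fun x hx => ?_⟩
  rw [mem_map_conj, inv_inv] at hx
  have h := ho _ hx
  have hc' : c • suzukiPointInfinity F = pt m o := hc
  rw [← hc', mul_smul, mul_smul, inv_smul_smul, smul_left_cancel_iff] at h
  exact h

/-- The classification of the binary coset actions. -/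
theorem isBin_cases {H : Subgroup Gp} (hH : H ≠ ⊤) (h0 : H ≠ ⊥) (hb : IsBin H) :
    ∃ g, H = (zen hS).map (MulAut.conj g).toMonoidHom := by
  classical
  by_cases hsol : Group.IsSolvable H
  swap
  · exfalso
    obtain ⟨k, hk, hkd, g, W, hWc, hWp, hW⟩ := exists_subfieldForm hS H hsol
    refine not_isBin_subfield hS hk hWc hWp (fun hu => hH ?_) hW ((isBin_conj_iff H g).2 hb)
    have hall : ∀ x, x ∈ H.map (MulAut.conj g).toMonoidHom := by
      intro x
      rw [hW, hu]
      by_cases hx : x ∈ borel m F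
      · obtain ⟨a, b, z, rfl⟩ := borel_eq hS hx
        exact Or.inl ⟨a, trivial, b, trivial, z, trivial, rfl⟩
      · obtain ⟨a, b, k', hk', rfl⟩ := big_cell hS hx
        obtain ⟨c, d, z, rfl⟩ := borel_eq hS hk'
        exact Or.inr ⟨a, trivial, b, trivial, c, trivial, d, trivial, z, trivial, rfl⟩
    refine (Subgroup.eq_top_iff' H).2 fun x => ?_
    have := hall (g * x * g⁻¹)
    rw [mem_map_conj] at this
    simpa [mul_assoc] using this
  have fromBorel : (∃ c, H.map (MulAut.conj c).toMonoidHom ≤ borel m F) →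
      ∃ g, H = (zen hS).map (MulAut.conj g).toMonoidHom := by
    rintro ⟨c, hc⟩
    obtain ⟨g, hg⟩ := eq_zen_of_isBin hS hc (fun e => h0 ((Subgroup.map_eq_bot_iff_of_injective _
      (MulAut.conj c).injective).1 e)) ((isBin_conj_iff H c).2 hb)
    refine ⟨c⁻¹ * g, ?_⟩
    rw [← map_conj_map_conj hS, ← hg, map_conj_map_conj hS, inv_mul_cancel]
    ext x; rw [mem_map_conj]; simp
  rcases solvable_cases hS H hsol with ⟨o, ho⟩ | ⟨T, hT, hN⟩
  · exact fromBorel (borel_of_fix hS ho)
  by_cases hD : ∀ u ∈ H, u ∈ T → u = 1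
  · haveI : Fact (Nat.Prime 2) := ⟨Nat.prime_two⟩
    have hP : IsPGroup 2 H := by
      intro k
      refine ⟨2, Subtype.ext ?_⟩
      rw [SubmonoidClass.coe_pow]
      by_cases hk : (k : Gp) ∈ T
      · rw [hD _ k.2 hk, one_pow]; rfl
      · have h := hT.pow_eq_one hS (hN k.2) hk
        unfold torIdx at h
        split_ifs at h
        · rw [show 2 ^ 2 = 2 * 2 from rfl, pow_mul, h, one_pow]; rfl
        · exact h
    obtain ⟨P, hP'⟩ := hP.exists_le_sylow
    obtain ⟨g, hg⟩ := exists_conj_unip hS P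
    refine fromBorel ⟨g⁻¹, fun x hx => ?_⟩
    rw [mem_map_conj, inv_inv] at hx
    have h := hP' hx
    rw [hg, mem_map_conj] at h
    refine unip_le_borel hS ?_
    simpa [mul_assoc] using h
  exfalso
  push Not at hD
  obtain ⟨u, huH, huT, hu1⟩ := hD
  rcases trichotomy hS u with ⟨c, hc⟩ | ⟨c, z, hz, hc⟩ | hF
  · exact hT.not_unip hS huT hu1 c hc
  · refine not_isBin_split hS (H := H.map (MulAut.conj c).toMonoidHom) ?_ hz ?_ ((isBin_conj_iff H c).2 hb)
    · intro x hx
      rw [mem_map_conj] at hx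
      have hTc : T.map (MulAut.conj c).toMonoidHom = torus hS := by
        rw [← centralizer_torus hS hz, ← hc, centralizer_conj, hT.cent u huT hu1]
      rw [← hTc, ← Subgroup.map_equiv_normalizer_eq T (MulAut.conj c), mem_map_conj]
      exact hN hx
    · rw [mem_map_conj, ← hc]
      simpa [mul_assoc] using huH
  · exact not_isBin_FPF hS hF huH (by rw [hT.cent u huT hu1]; exact hN) hb

/-- Binary coset actions of the Suzuki groups. -/
theorem isBin_iff {H : Subgroup Gp} (hH : H ≠ ⊤) :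
    IsBin H ↔ H = ⊥ ∨ ∃ g, H = (zen hS).map (MulAut.conj g).toMonoidHom := by
  refine ⟨fun hb => ?_, ?_⟩
  · by_cases h0 : H = ⊥
    · exact Or.inl h0
    · exact Or.inr (isBin_cases hS hH h0 hb)
  · rintro (rfl | ⟨g, rfl⟩)
    · exact isBin_bot
    · exact (isBin_conj_iff _ g).2 (isBin_zen hS)

omit hS in
/-- The centre, as a subgroup of the group, commutes with isomorphisms. -/
theorem center_map_map {G G' : Type*} [Group G] [Group G'] (e : G ≃* G') (K : Subgroup G) :
    ((Subgroup.center K).map K.subtype).map e.toMonoidHom =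
      (Subgroup.center (K.map e.toMonoidHom)).map (K.map e.toMonoidHom).subtype := by
  ext x
  constructor
  · rintro ⟨y, ⟨z, hz, rfl⟩, rfl⟩
    refine ⟨⟨e z, z, z.2, rfl⟩, Subgroup.mem_center_iff.2 ?_, rfl⟩
    rintro ⟨-, w, hw, rfl⟩
    refine Subtype.ext ?_
    show e w * e z = e z * e w
    rw [← map_mul, ← map_mul]
    exact congrArg e (congrArg Subtype.val (Subgroup.mem_center_iff.1 hz ⟨w, hw⟩))
  · rintro ⟨⟨-, z, hz, rfl⟩, hc, rfl⟩
    refine ⟨z, ⟨⟨z, hz⟩, Subgroup.mem_center_iff.2 fun w => ?_, rfl⟩, rfl⟩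
    refine Subtype.ext (e.injective ?_)
    show e ((w : G) * z) = e (z * (w : G))
    rw [map_mul, map_mul]
    exact congrArg Subtype.val (Subgroup.mem_center_iff.1 hc ⟨e w, w, w.2, rfl⟩)

end Cfsg.Agent.SzBin
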