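import Cfsg.Agent.Lib.Classical.SzTable

/-!
# Squares of conjugacy classes in the Suzuki groups

The square of the class of an element of order greater than two contains every nontrivial element.
-/

set_option autoImplicit false

namespace Cfsg.Agent.SzTab

open scoped ComplexConjugate
open Cfsg Cfsg.Agent.Suz Cfsg.Agent.Char Cfsg.Agent.Block.SzDeg

variable {F : Type*} [Field F] {m : ℕ} [Fintype F] [DecidableEq F] {hS : SzField F m}
variable [Fintype ↥(Cfsg.Sz F m)]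

set_option quotPrecheck false in
local notation "CS" x => Subgroup.centralizer ({x} : Set ↥(Cfsg.Sz F m))
set_option quotPrecheck false in
local notation "qq" => (2 ^ (2 * m + 1) : ℕ)
set_option quotPrecheck false in
local notation "aa" => (2 ^ (2 * m + 1) + 2 ^ (m + 1) + 1 : ℕ)
set_option quotPrecheck false in
local notation "bb" => (2 ^ (2 * m + 1) - 2 ^ (m + 1) + 1 : ℕ)
set_option quotPrecheck false in
local notation "Irr" => IrrCharacter ↥(Cfsg.Sz F m)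

variable (hS) in
/-- Conjugate to a nontrivial element of the split torus. -/
def IsTor (t : ↥(Cfsg.Sz F m)) : Prop := ∃ c z, z ≠ 1 ∧ c * t * c⁻¹ = hTor hS z

include hS in
theorem classify {g : ↥(Cfsg.Sz F m)} (hg : g ≠ 1) :
    IsUnip hS 2 g ∨ IsUnip hS 4 g ∨ IsTor hS g ∨ (FPF m g ∧ Nat.card (CS g) = aa) ∨
      (FPF m g ∧ Nat.card (CS g) = bb) := by
  rcases trichotomy hS g with ⟨c, hc⟩ | h | h
  · have h4 := orderOf_of_mem_unip hS hc
    rw [orderOf_conj' hS] at h4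
    rcases (Nat.dvd_prime_pow Nat.prime_two (i := orderOf g) (m := 2)).1 (by simpa using h4) with ⟨k, hk, hk'⟩
    interval_cases k
    · exact absurd (orderOf_eq_one_iff.1 hk') hg
    · exact Or.inl ⟨hk', c, hc⟩
    · exact Or.inr (Or.inl ⟨hk', c, hc⟩)
  · exact Or.inr (Or.inr (Or.inl h))
  · obtain ⟨x, y, ⟨hxF, hxa, -⟩, ⟨hyF, hyb, -⟩, hall⟩ := exists_tori hS
    have : ∀ v, FPF m v → g ∈ conjSet (CS v) → Nat.card (CS g) = Nat.card (CS v) := by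
      intro v hv hmem
      obtain ⟨k, hk⟩ := FPF.eq_of_mem_conjSet hS hv hmem
      rw [hk]; exact Subgroup.card_map_of_injective (MulAut.conj k).injective
    rcases hall g h with h' | h'
    · exact Or.inr (Or.inr (Or.inr (Or.inl ⟨h, (this x hxF h').trans hxa⟩)))
    · exact Or.inr (Or.inr (Or.inr (Or.inr ⟨h, (this y hyF h').trans hyb⟩)))

/-- The structure constant, up to a positive factor. -/
noncomputable def sq2 (x g : ↥(Cfsg.Sz F m)) : ℂ :=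
  ∑ χ : Irr, (χ : ↥(Cfsg.Sz F m) → ℂ) g * conj ((χ : ↥(Cfsg.Sz F m) → ℂ) x) ^ 2 /
    (χ : ↥(Cfsg.Sz F m) → ℂ) 1

include hS in
theorem exists_of_sq2_ne_zero {x g : ↥(Cfsg.Sz F m)} (h : sq2 x g ≠ 0) :
    ∃ u v : ↥(Cfsg.Sz F m), g = (u * x * u⁻¹) * (v * x * v⁻¹) := by
  classical
  by_contra hcon
  push Not at hcon
  set f : ↥(Cfsg.Sz F m) → ℂ := fun y => if IsConj x y then 1 else 0 with hf
  have hcf : IsClassFunction ↥(Cfsg.Sz F m) f := by
    intro y c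
    simp only [hf]
    by_cases hy : IsConj x y
    · rw [if_pos hy, if_pos (hy.trans (isConj_iff.2 ⟨c, rfl⟩))]
    · rw [if_neg hy, if_neg (fun e => hy (e.trans (isConj_iff.2 ⟨c, rfl⟩).symm))]
  have h0 : ∀ v : ↥(Cfsg.Sz F m), f (g * (v * x⁻¹ * v⁻¹)) = 0 := by
    intro v
    simp only [hf]
    rw [if_neg]
    intro e
    obtain ⟨u, hu⟩ := isConj_iff.1 e
    exact hcon u v (by rw [hu]; group)
  have hsum := Cfsg.Agent.Block.sum_classFun_mul_conj hcf g x⁻¹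
  rw [Finset.sum_eq_zero (fun v _ => h0 v), mul_zero] at hsum
  set cnt : ℕ := (Finset.univ.filter fun y => IsConj x y).card with hcnt
  have hinner : ∀ χ : Irr, classInner f (χ : ↥(Cfsg.Sz F m) → ℂ) =
      ((cnt : ℂ) / (Nat.card ↥(Cfsg.Sz F m) : ℂ)) * conj ((χ : ↥(Cfsg.Sz F m) → ℂ) x) := by
    intro χ
    simp only [classInner, hf, ite_mul, one_mul, zero_mul]
    rw [← Finset.sum_filter,
      Finset.sum_congr rfl (g := fun _ => conj ((χ : ↥(Cfsg.Sz F m) → ℂ) x)) (fun y hy => by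
        obtain ⟨c, rfl⟩ := isConj_iff.1 (Finset.mem_filter.1 hy).2
        rw [IsIrr.classFun χ.2 x c]), Finset.sum_const, nsmul_eq_mul, hcnt]
    ring
  rw [Finset.sum_congr rfl (g := fun χ : Irr => ((cnt : ℂ) / (Nat.card ↥(Cfsg.Sz F m) : ℂ)) *
      ((χ : ↥(Cfsg.Sz F m) → ℂ) g * conj ((χ : ↥(Cfsg.Sz F m) → ℂ) x) ^ 2 /
        (χ : ↥(Cfsg.Sz F m) → ℂ) 1)) (fun χ _ => by rw [hinner, IsIrr.apply_inv χ.2]; ring),
    ← Finset.mul_sum] at hsum
  have hne : ((cnt : ℂ) / (Nat.card ↥(Cfsg.Sz F m) : ℂ)) ≠ 0 :=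
    div_ne_zero (Nat.cast_ne_zero.2 (Finset.card_pos.2
      ⟨x, Finset.mem_filter.2 ⟨Finset.mem_univ _, IsConj.refl x⟩⟩).ne')
      (Nat.cast_ne_zero.2 Nat.card_pos.ne')
  exact h ((mul_eq_zero.1 hsum.symm).resolve_left hne)

variable {D : Setup hS} (T : Table D)

include hS in
/-- The real numbers `q`, `q - 1`, `a`, `b` in terms of `h`. -/
theorem reals : ∃ h : ℝ, 2 ≤ h ∧ (((2 ^ m : ℕ) : ℤ) : ℝ) = h ∧ ((qq : ℕ) : ℝ) = 2 * h ^ 2 ∧
    ((qq - 1 : ℕ) : ℝ) = 2 * h ^ 2 - 1 ∧ ((aa : ℕ) : ℝ) = 2 * h ^ 2 + 2 * h + 1 ∧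
    ((bb : ℕ) : ℝ) = 2 * h ^ 2 - 2 * h + 1 := by
  obtain ⟨hq, hq1, ha, hb, h2⟩ := casts (hS := hS)
  exact ⟨_, by exact_mod_cast h2, rfl, by exact_mod_cast congrArg (fun z : ℤ => (z : ℝ)) hq,
    by exact_mod_cast congrArg (fun z : ℤ => (z : ℝ)) hq1,
    by exact_mod_cast congrArg (fun z : ℤ => (z : ℝ)) ha,
    by exact_mod_cast congrArg (fun z : ℤ => (z : ℝ)) hb⟩

theorem expand (x g : ↥(Cfsg.Sz F m)) {h : ℝ} (hh : (((2 ^ m : ℕ) : ℤ) : ℝ) = h)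
    (hq : ((qq : ℕ) : ℝ) = 2 * h ^ 2) (hq1 : ((qq - 1 : ℕ) : ℝ) = 2 * h ^ 2 - 1)
    (ha : ((aa : ℕ) : ℝ) = 2 * h ^ 2 + 2 * h + 1) (hb : ((bb : ℕ) : ℝ) = 2 * h ^ 2 - 2 * h + 1) :
    sq2 x g = 1 +
      (stIrr hS : ↥(Cfsg.Sz F m) → ℂ) g * conj ((stIrr hS : ↥(Cfsg.Sz F m) → ℂ) x) ^ 2 /
        (((2 * h ^ 2) ^ 2 : ℝ) : ℂ) +
      (∑ χ ∈ D.B, (χ : ↥(Cfsg.Sz F m) → ℂ) g * conj ((χ : ↥(Cfsg.Sz F m) → ℂ) x) ^ 2) /
        (((2 * h ^ 2) ^ 2 + 1 : ℝ) : ℂ) +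
      (∑ χ ∈ T.EA, (χ : ↥(Cfsg.Sz F m) → ℂ) g * conj ((χ : ↥(Cfsg.Sz F m) → ℂ) x) ^ 2) /
        (((2 * h ^ 2 - 1) * (2 * h ^ 2 - 2 * h + 1) : ℝ) : ℂ) +
      (∑ χ ∈ T.EB, (χ : ↥(Cfsg.Sz F m) → ℂ) g * conj ((χ : ↥(Cfsg.Sz F m) → ℂ) x) ^ 2) /
        (((2 * h ^ 2 - 1) * (2 * h ^ 2 + 2 * h + 1) : ℝ) : ℂ) +
      ((T.W₁ : ↥(Cfsg.Sz F m) → ℂ) g * conj ((T.W₁ : ↥(Cfsg.Sz F m) → ℂ) x) ^ 2 +
       (T.W₂ : ↥(Cfsg.Sz F m) → ℂ) g * conj ((T.W₂ : ↥(Cfsg.Sz F m) → ℂ) x) ^ 2) /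
        (((2 * h ^ 2 - 1) * h : ℝ) : ℂ) := by
  have key : ∀ χ : Irr, χ ∈ D.rest → ∀ k : ℝ, (((cof χ : ℤ)) : ℝ) = k →
      (χ : ↥(Cfsg.Sz F m) → ℂ) 1 = (((2 * h ^ 2 - 1) * k : ℝ) : ℂ) := by
    intro χ hχ k hk
    rw [D.val1 hχ, ← hk, ← hq1]
    push_cast
    rfl
  rw [sq2, D.split, T.split,
    show (triv : Irr).1 g = (1 : ℂ) from rfl, show (triv : Irr).1 x = (1 : ℂ) from rfl,
    show (triv : Irr).1 1 = (1 : ℂ) from rfl,
    show (stIrr hS).1 1 = ((((qq : ℕ) : ℝ) ^ 2 : ℝ) : ℂ) from by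
      show stF hS 1 = _; rw [stF_one hS]; push_cast; rfl,
    hq, Finset.sum_congr rfl (fun χ (hχ : χ ∈ D.B) => by
      rw [show (χ : ↥(Cfsg.Sz F m) → ℂ) 1 = (((2 * h ^ 2) ^ 2 + 1 : ℝ) : ℂ) from by
        rw [D.hB.deg χ hχ, ← hq]; push_cast; rfl]),
    Finset.sum_congr rfl (fun χ (hχ : χ ∈ T.EA) => by
      rw [key χ (T.memA χ hχ).1 _ (by rw [(T.memA χ hχ).2, Int.cast_natCast, hb])]),
    Finset.sum_congr rfl (fun χ (hχ : χ ∈ T.EB) => by
      rw [key χ (T.memB χ hχ).1 _ (by rw [(T.memB χ hχ).2, Int.cast_natCast, ha])]),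
    key T.W₁ T.hW₁ h (by rw [T.cof₁, hh]), key T.W₂ T.hW₂ h (by rw [T.cof₂, hh]),
    Finset.sum_div, Finset.sum_div, Finset.sum_div, map_one]
  ring

include hS in
theorem conj_of_FPF (χ : Irr) {k : ↥(Cfsg.Sz F m)} (hk : FPF m k) :
    conj ((χ : ↥(Cfsg.Sz F m) → ℂ) k) = (χ : ↥(Cfsg.Sz F m) → ℂ) k := by
  rw [← IsIrr.apply_inv χ.2]
  obtain ⟨c, hc⟩ := isConj_iff.1 (isConj_inv_of_FPF hS hk)
  rw [← hc, IsIrr.classFun χ.2]

theorem side_norm {c : ℕ} {E O W : Finset Irr} {w : ℤ} (H : Side c E O W w)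
    {k : ↥(Cfsg.Sz F m)} (hk : FPF m k) (hkc : Nat.card (CS k) = c) :
    ∑ χ ∈ E, ‖(χ : ↥(Cfsg.Sz F m) → ℂ) k‖ ^ 2 = (c : ℝ) - 4 := by
  have h := congrArg Complex.re (H.sumSq k hk hkc)
  rw [Complex.re_sum] at h
  rw [Finset.sum_congr rfl (g := fun χ : Irr =>
    ((χ : ↥(Cfsg.Sz F m) → ℂ) k * conj ((χ : ↥(Cfsg.Sz F m) → ℂ) k)).re) (fun χ _ => by
      rw [Complex.mul_conj, Complex.normSq_eq_norm_sq]; simp [sq]), h]
  simp

theorem side_bound {c : ℕ} {E O W : Finset Irr} {w : ℤ} (H : Side c E O W w)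
    {x g : ↥(Cfsg.Sz F m)} (hx : FPF m x) (hxc : Nat.card (CS x) = c) (hg : FPF m g)
    (hgc : Nat.card (CS g) = c) :
    -(((c : ℝ) - 4) * ((c : ℝ) + 5) / 6) ≤
      (∑ χ ∈ E, (χ : ↥(Cfsg.Sz F m) → ℂ) g * conj ((χ : ↥(Cfsg.Sz F m) → ℂ) x) ^ 2).re := by
  have hsx := side_norm H hx hxc
  have hsg := side_norm H hg hgc
  refine le_trans (neg_le_neg ?_) ((abs_le.1 (Complex.abs_re_le_norm _)).1)
  refine (norm_sum_le _ _).trans ?_
  calc ∑ χ ∈ E, ‖(χ : ↥(Cfsg.Sz F m) → ℂ) g * conj ((χ : ↥(Cfsg.Sz F m) → ℂ) x) ^ 2‖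
      ≤ ∑ χ ∈ E, ((c : ℝ) + 5) / 6 * ‖(χ : ↥(Cfsg.Sz F m) → ℂ) x‖ ^ 2 := by
        refine Finset.sum_le_sum fun χ hχ => ?_
        rw [norm_mul, norm_pow, Complex.norm_conj]
        refine mul_le_mul_of_nonneg_right ?_ (sq_nonneg _)
        have h1 : ‖(χ : ↥(Cfsg.Sz F m) → ℂ) g‖ ^ 2 ≤ (c : ℝ) - 4 := hsg ▸
          Finset.single_le_sum (f := fun ψ : Irr => ‖(ψ : ↥(Cfsg.Sz F m) → ℂ) g‖ ^ 2)
            (fun ψ _ => sq_nonneg _) hχ
        nlinarith [sq_nonneg (‖(χ : ↥(Cfsg.Sz F m) → ℂ) g‖ - 3)]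
    _ = _ := by rw [← Finset.mul_sum, hsx]; ring

include hS in
theorem sum_sq_FPF {c : ℕ} {E O W : Finset Irr} {w : ℤ} (H : Side c E O W w)
    {x : ↥(Cfsg.Sz F m)} (hx : FPF m x) (hxc : Nat.card (CS x) = c) :
    ∑ χ ∈ E, conj ((χ : ↥(Cfsg.Sz F m) → ℂ) x) ^ 2 = (((c : ℝ) - 4 : ℝ) : ℂ) := by
  rw [Finset.sum_congr rfl (g := fun χ : Irr =>
    (χ : ↥(Cfsg.Sz F m) → ℂ) x * conj ((χ : ↥(Cfsg.Sz F m) → ℂ) x)) (fun χ _ => by
      rw [conj_of_FPF χ hx (hS := hS), sq]), H.sumSq x hx hxc]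
  push_cast
  rfl

include hS in
theorem st_FPF {g : ↥(Cfsg.Sz F m)} (hg : FPF m g) :
    (stIrr hS : ↥(Cfsg.Sz F m) → ℂ) g = -1 := st_fpf hS hg

include hS in
theorem st_isUnip {g : ↥(Cfsg.Sz F m)} {d : ℕ} (hg : IsUnip hS d g) (hd : 1 < d) :
    (stIrr hS : ↥(Cfsg.Sz F m) → ℂ) g = 0 := by
  obtain ⟨c, hc⟩ := hg.2
  exact st_unip hc (IsUnip.ne_one hg hd)

theorem B_isUnip {χ : Irr} (hχ : χ ∈ D.B) {g : ↥(Cfsg.Sz F m)} {d : ℕ} (hg : IsUnip hS d g)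
    (hd : 1 < d) : (χ : ↥(Cfsg.Sz F m) → ℂ) g = 1 := by
  obtain ⟨c, hc⟩ := hg.2
  exact B_unip D hχ hc (IsUnip.ne_one hg hd)

theorem B_norm_le {χ : Irr} (hχ : χ ∈ D.B) {g : ↥(Cfsg.Sz F m)} (hg : g ≠ 1) :
    ‖(χ : ↥(Cfsg.Sz F m) → ℂ) g‖ ≤ 2 := by
  rcases classify (hS := hS) hg with h | h | ⟨c, z, hz, h⟩ | ⟨h, -⟩ | ⟨h, -⟩
  · rw [B_isUnip hχ h (by norm_num)]; norm_num
  · rw [B_isUnip hχ h (by norm_num)]; norm_num
  · exact B_tor_norm_le D hχ hz h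
  · rw [D.hB.fpf χ hχ g h]; norm_num
  · rw [D.hB.fpf χ hχ g h]; norm_num

include T in
theorem pos_tor {x g : ↥(Cfsg.Sz F m)} (hx : IsTor hS x) (hg : g ≠ 1) : 0 < (sq2 x g).re := by
  obtain ⟨h, h2, hh, hq, hq1, ha, hb⟩ := reals (hS := hS)
  obtain ⟨c, z, hz, hc⟩ := hx
  have hB : 2 * (D.B.card : ℝ) + 2 = 2 * h ^ 2 := by
    rw [← hq]; exact_mod_cast D.hB.card
  have hst : |((stIrr hS : ↥(Cfsg.Sz F m) → ℂ) g).re| ≤ 1 := by
    rcases classify (hS := hS) hg with h | h | ⟨c', z', hz', h⟩ | ⟨h, -⟩ | ⟨h, -⟩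
    · rw [st_isUnip h (by norm_num)]; simp
    · rw [st_isUnip h (by norm_num)]; simp
    · rw [st_tor hz' h]; simp
    · rw [st_FPF h]; simp
    · rw [st_FPF h]; simp
  rw [expand T x g hh hq hq1 ha hb, st_tor hz hc,
    Finset.sum_eq_zero (s := T.EA) (fun χ hχ => by rw [rest_tor D (T.memA χ hχ).1 hz hc]; simp),
    Finset.sum_eq_zero (s := T.EB) (fun χ hχ => by rw [rest_tor D (T.memB χ hχ).1 hz hc]; simp),
    rest_tor D T.hW₁ hz hc, rest_tor D T.hW₂ hz hc]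
  simp only [map_one, map_zero, one_pow, mul_one, zero_pow, ne_eq, OfNat.ofNat_ne_zero,
    not_false_eq_true, mul_zero, zero_div, add_zero, Complex.add_re, Complex.div_ofReal_re,
    Complex.one_re]
  set X := (∑ χ ∈ D.B, (χ : ↥(Cfsg.Sz F m) → ℂ) g * conj ((χ : ↥(Cfsg.Sz F m) → ℂ) x) ^ 2).re
  have hX : -((D.B.card : ℝ) * 8) ≤ X := by
    refine le_trans (neg_le_neg ?_) ((abs_le.1 (Complex.abs_re_le_norm _)).1)
    refine (norm_sum_le _ _).trans ((Finset.sum_le_card_nsmul _ _ 8 fun χ hχ => ?_).trans (by simp))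
    rw [norm_mul, norm_pow, Complex.norm_conj]
    calc ‖(χ : ↥(Cfsg.Sz F m) → ℂ) g‖ * ‖(χ : ↥(Cfsg.Sz F m) → ℂ) x‖ ^ 2 ≤ 2 * 2 ^ 2 := by
          gcongr
          · exact B_norm_le hχ hg
          · exact B_norm_le hχ (fun e => hz (by
              rw [e] at hc
              have h1 : hTor hS z = 1 := by rw [← hc]; group
              exact hTor_eq_inv hS (by rw [h1, inv_one])))
      _ = 8 := by norm_num
  obtain ⟨hs1, -⟩ := abs_le.1 hst
  have e1 : -(1 / (2 * h ^ 2) ^ 2) ≤ ((stIrr hS : ↥(Cfsg.Sz F m) → ℂ) g).re / (2 * h ^ 2) ^ 2 := by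
    rw [neg_div' ]; gcongr
  have e2 : -(8 * (h ^ 2 - 1) / ((2 * h ^ 2) ^ 2 + 1)) ≤ X / ((2 * h ^ 2) ^ 2 + 1) := by
    rw [neg_div']; gcongr; linarith
  have e3 : 1 / (2 * h ^ 2) ^ 2 ≤ 1 / 4 := by
    gcongr
    nlinarith
  have e4 : 8 * (h ^ 2 - 1) / ((2 * h ^ 2) ^ 2 + 1) ≤ 1 / 2 := by
    rw [div_le_iff₀ (by positivity)]
    nlinarith [sq_nonneg (h ^ 2 - 2)]
  linarith

include T in
theorem pos_four {x g : ↥(Cfsg.Sz F m)} (hx : IsUnip hS 4 x) (hg : g ≠ 1) : 0 < (sq2 x g).re := by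
  obtain ⟨h, h2, hh, hq, hq1, ha, hb⟩ := reals (hS := hS)
  obtain ⟨hA, hB, hW2, hW1⟩ := T.four hx
  obtain ⟨nA, nB, nD⟩ := T.cards
  have nA' : (T.EA.card : ℝ) * 2 = h ^ 2 + h := by rw [← hh]; exact_mod_cast nA
  have nB' : (T.EB.card : ℝ) * 2 = h ^ 2 - h := by rw [← hh]; exact_mod_cast nB
  have nD' : 2 * (D.B.card : ℝ) + 2 = 2 * h ^ 2 := by rw [← hh]; exact_mod_cast nD
  have hBx : ∀ χ ∈ D.B, conj ((χ : ↥(Cfsg.Sz F m) → ℂ) x) ^ 2 = 1 := fun χ hχ => by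
    rw [B_isUnip hχ hx (by norm_num), map_one, one_pow]
  have hw : conj ((T.W₁ : ↥(Cfsg.Sz F m) → ℂ) x) ^ 2 = ((-h ^ 2 : ℝ) : ℂ) := by
    rw [← map_pow, hW1, ← hh]; push_cast; simp [map_ofNat]
  have hd1 : 0 < 2 * h ^ 2 - 1 := by nlinarith
  have hb0 : 0 < 2 * h ^ 2 - 2 * h + 1 := by nlinarith
  rw [expand T x g hh hq hq1 ha hb, st_isUnip hx (by norm_num),
    Finset.sum_congr rfl (g := fun χ : Irr => (χ : ↥(Cfsg.Sz F m) → ℂ) g)
      (fun χ (hχ : χ ∈ D.B) => by rw [hBx χ hχ, mul_one]),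
    Finset.sum_congr rfl (g := fun χ : Irr => (χ : ↥(Cfsg.Sz F m) → ℂ) g)
      (fun χ (hχ : χ ∈ T.EA) => by rw [hA χ hχ, map_neg, map_one, neg_one_sq, mul_one]),
    Finset.sum_congr rfl (g := fun χ : Irr => (χ : ↥(Cfsg.Sz F m) → ℂ) g)
      (fun χ (hχ : χ ∈ T.EB) => by rw [hB χ hχ, map_neg, map_one, neg_one_sq, mul_one]),
    hW2, map_neg, neg_sq, hw, map_zero, zero_pow two_ne_zero, mul_zero, zero_div, add_zero]
  simp only [Complex.add_re, Complex.div_ofReal_re, Complex.one_re, Complex.re_sum,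
    Complex.re_mul_ofReal]
  rcases classify (hS := hS) hg with h' | h' | ⟨c, z, hz, h'⟩ | ⟨h', hc⟩ | ⟨h', hc⟩
  · obtain ⟨s1, s2, sA, sB⟩ := T.invol h'
    rw [Finset.sum_congr rfl (g := fun _ => (1 : ℝ)) (fun χ (hχ : χ ∈ D.B) => by
        rw [B_isUnip hχ h' (by norm_num)]; simp),
      Finset.sum_congr rfl (g := fun _ => 2 * h - 1) (fun χ (hχ : χ ∈ T.EA) => by
        rw [sA χ hχ]
        simp only [Complex.sub_re, Complex.mul_re, Complex.re_ofNat, Complex.im_ofNat, Complex.intCast_re,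
          Complex.intCast_im, Complex.one_re, hh, mul_zero, sub_zero]),
      Finset.sum_congr rfl (g := fun _ => -2 * h - 1) (fun χ (hχ : χ ∈ T.EB) => by
        rw [sB χ hχ]
        simp only [Complex.sub_re, Complex.mul_re, Complex.re_ofNat, Complex.im_ofNat, Complex.neg_re, Complex.neg_im,
          Complex.intCast_re, Complex.intCast_im, Complex.one_re, hh, mul_zero, neg_zero, sub_zero]),
      s1, s2, Finset.sum_const, Finset.sum_const, Finset.sum_const]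
    simp only [Complex.neg_re, Complex.intCast_re, hh, nsmul_eq_mul, mul_one]
    have t1 : 0 ≤ (D.B.card : ℝ) / ((2 * h ^ 2) ^ 2 + 1) := by positivity
    have t2 : 0 ≤ (T.EA.card : ℝ) * (2 * h - 1) / ((2 * h ^ 2 - 1) * (2 * h ^ 2 - 2 * h + 1)) :=
      div_nonneg (mul_nonneg (Nat.cast_nonneg _) (by linarith)) (by positivity)
    have t3 : -1 < (T.EB.card : ℝ) * (-2 * h - 1) / ((2 * h ^ 2 - 1) * (2 * h ^ 2 + 2 * h + 1)) := by
      rw [lt_div_iff₀ (by positivity), show (T.EB.card : ℝ) = (h ^ 2 - h) / 2 by linarith]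
      nlinarith
    have t4 : 0 ≤ (-h * -h ^ 2 + -h * -h ^ 2) / ((2 * h ^ 2 - 1) * h) :=
      div_nonneg (by nlinarith) (by positivity)
    linarith
  · obtain ⟨gA, gB, gW, -⟩ := T.four h'
    rw [Finset.sum_congr rfl (g := fun _ => (1 : ℝ)) (fun χ (hχ : χ ∈ D.B) => by
        rw [B_isUnip hχ h' (by norm_num)]; simp),
      Finset.sum_congr rfl (g := fun _ => (-1 : ℝ)) (fun χ (hχ : χ ∈ T.EA) => by rw [gA χ hχ]; simp),
      Finset.sum_congr rfl (g := fun _ => (-1 : ℝ)) (fun χ (hχ : χ ∈ T.EB) => by rw [gB χ hχ]; simp),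
      gW, Finset.sum_const, Finset.sum_const, Finset.sum_const]
    simp only [Complex.neg_re, nsmul_eq_mul, mul_one, neg_mul, add_neg_cancel, zero_div, add_zero]
    have t1 : 0 ≤ (D.B.card : ℝ) / ((2 * h ^ 2) ^ 2 + 1) := by positivity
    have t2 : -(1 / 2) < (T.EA.card : ℝ) * -1 / ((2 * h ^ 2 - 1) * (2 * h ^ 2 - 2 * h + 1)) := by
      rw [lt_div_iff₀ (by positivity), show (T.EA.card : ℝ) = (h ^ 2 + h) / 2 by linarith]
      nlinarith
    have t3 : -(1 / 2) < (T.EB.card : ℝ) * -1 / ((2 * h ^ 2 - 1) * (2 * h ^ 2 + 2 * h + 1)) := by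
      rw [lt_div_iff₀ (by positivity), show (T.EB.card : ℝ) = (h ^ 2 - h) / 2 by linarith]
      nlinarith
    linarith
  · rw [Finset.sum_eq_zero (s := T.EA) (fun χ hχ => by rw [rest_tor D (T.memA χ hχ).1 hz h']; simp),
      Finset.sum_eq_zero (s := T.EB) (fun χ hχ => by rw [rest_tor D (T.memB χ hχ).1 hz h']; simp),
      rest_tor D T.hW₁ hz h', rest_tor D T.hW₂ hz h']
    simp only [Complex.zero_re, zero_mul, add_zero, zero_div]
    have hX : -((D.B.card : ℝ) * 2) ≤ ∑ χ ∈ D.B, ((χ : ↥(Cfsg.Sz F m) → ℂ) g).re := by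
      have := Finset.card_nsmul_le_sum D.B (fun χ => ((χ : ↥(Cfsg.Sz F m) → ℂ) g).re) (-2)
        (fun χ hχ => le_trans (neg_le_neg (B_norm_le hχ hg)) (abs_le.1 (Complex.abs_re_le_norm _)).1)
      simp at this ⊢
      linarith
    have t1 : -1 < (∑ χ ∈ D.B, ((χ : ↥(Cfsg.Sz F m) → ℂ) g).re) / ((2 * h ^ 2) ^ 2 + 1) := by
      rw [lt_div_iff₀ (by positivity)]
      nlinarith
    linarith
  · rw [Finset.sum_eq_zero (s := D.B) (fun χ hχ => by rw [D.hB.fpf χ hχ g h']; simp),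
      ← Complex.re_sum T.EA, T.sideA.sum g h' hc,
      Finset.sum_eq_zero (s := T.EB) (fun χ hχ => by rw [T.sideA.other χ hχ g h' hc]; simp),
      T.sideA.wval _ (Finset.mem_insert_self _ _) g h' hc,
      T.sideA.wval _ (Finset.mem_insert_of_mem (Finset.mem_singleton_self _)) g h' hc]
    simp only [Complex.one_re, Complex.intCast_re, zero_div, add_zero, Int.cast_one, one_mul]
    have t1 : 0 ≤ 1 / ((2 * h ^ 2 - 1) * (2 * h ^ 2 - 2 * h + 1)) := by positivity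
    have t2 : -1 < (-h ^ 2 + -h ^ 2) / ((2 * h ^ 2 - 1) * h) := by
      rw [lt_div_iff₀ (by positivity)]
      nlinarith
    linarith
  · rw [Finset.sum_eq_zero (s := D.B) (fun χ hχ => by rw [D.hB.fpf χ hχ g h']; simp),
      ← Complex.re_sum T.EB, T.sideB.sum g h' hc,
      Finset.sum_eq_zero (s := T.EA) (fun χ hχ => by rw [T.sideB.other χ hχ g h' hc]; simp),
      T.sideB.wval _ (Finset.mem_insert_self _ _) g h' hc,
      T.sideB.wval _ (Finset.mem_insert_of_mem (Finset.mem_singleton_self _)) g h' hc]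
    simp only [Complex.one_re, Complex.intCast_re, Complex.neg_re, zero_div, add_zero, Int.cast_neg, Int.cast_one,
      neg_mul, one_mul, neg_neg]
    have t1 : 0 ≤ 1 / ((2 * h ^ 2 - 1) * (2 * h ^ 2 + 2 * h + 1)) :=
      div_nonneg zero_le_one (by nlinarith)
    have t2 : 0 ≤ (h ^ 2 + h ^ 2) / ((2 * h ^ 2 - 1) * h) := div_nonneg (by positivity) (by positivity)
    linarith

include T in
theorem pos_A {x g : ↥(Cfsg.Sz F m)} (hx : FPF m x) (hxc : Nat.card (CS x) = aa) (hg : g ≠ 1) :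
    0 < (sq2 x g).re := by
  obtain ⟨h, h2, hh, hq, hq1, ha, hb⟩ := reals (hS := hS)
  have hd1 : 0 < 2 * h ^ 2 - 1 := by nlinarith
  have hb0 : 0 < 2 * h ^ 2 - 2 * h + 1 := by nlinarith
  rw [expand T x g hh hq hq1 ha hb, st_FPF hx,
    Finset.sum_eq_zero (s := D.B) (fun χ hχ => by rw [D.hB.fpf χ hχ x hx]; simp),
    Finset.sum_eq_zero (s := T.EB) (fun χ hχ => by rw [T.sideA.other χ hχ x hx hxc]; simp),
    T.sideA.wval _ (Finset.mem_insert_self _ _) x hx hxc,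
    T.sideA.wval _ (Finset.mem_insert_of_mem (Finset.mem_singleton_self _)) x hx hxc]
  simp only [map_neg, map_one, map_intCast, Int.cast_one, neg_one_sq, one_pow, mul_one, zero_div,
    add_zero, Complex.add_re, Complex.div_ofReal_re, Complex.one_re]
  rcases classify (hS := hS) hg with h' | h' | ⟨c, z, hz, h'⟩ | ⟨h', hc⟩ | ⟨h', hc⟩
  · obtain ⟨s1, s2, sA, -⟩ := T.invol h'
    rw [st_isUnip h' (by norm_num),
      Finset.sum_congr rfl (fun χ (hχ : χ ∈ T.EA) => by rw [sA χ hχ]), ← Finset.mul_sum,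
      sum_sq_FPF (hS := hS) T.sideA hx hxc, ha, s1, s2]
    simp only [Complex.re_mul_ofReal, Complex.ofReal_re, Complex.ofReal_im, Complex.sub_re, Complex.mul_re, Complex.re_ofNat, Complex.im_ofNat,
      Complex.intCast_re, Complex.intCast_im, Complex.neg_re, Complex.one_re, Complex.zero_re, hh,
      mul_zero, sub_zero, zero_div, add_zero]
    have t1 : 0 ≤ (2 * h - 1) * (2 * h ^ 2 + 2 * h + 1 - 4) /
        ((2 * h ^ 2 - 1) * (2 * h ^ 2 - 2 * h + 1)) :=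
      div_nonneg (by nlinarith) (by positivity)
    have t2 : -1 < (-h + -h) / ((2 * h ^ 2 - 1) * h) := by
      rw [lt_div_iff₀ (by positivity)]
      nlinarith
    linarith
  · obtain ⟨gA, -, gW, -⟩ := T.four h'
    rw [st_isUnip h' (by norm_num),
      Finset.sum_congr rfl (fun χ (hχ : χ ∈ T.EA) => by rw [gA χ hχ]), ← Finset.mul_sum,
      sum_sq_FPF (hS := hS) T.sideA hx hxc, ha, gW]
    simp only [Complex.re_mul_ofReal, Complex.neg_re, Complex.one_re, Complex.zero_re, zero_div,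
      add_neg_cancel, add_zero]
    have t1 : -1 < -1 * (2 * h ^ 2 + 2 * h + 1 - 4) / ((2 * h ^ 2 - 1) * (2 * h ^ 2 - 2 * h + 1)) := by
      rw [lt_div_iff₀ (by positivity)]
      nlinarith
    linarith
  · rw [st_tor hz h',
      Finset.sum_eq_zero (s := T.EA) (fun χ hχ => by rw [rest_tor D (T.memA χ hχ).1 hz h']; simp),
      rest_tor D T.hW₁ hz h', rest_tor D T.hW₂ hz h']
    simp only [Complex.zero_re, Complex.one_re, zero_div, add_zero]
    positivity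
  · rw [st_FPF h', T.sideA.wval _ (Finset.mem_insert_self _ _) g h' hc,
      T.sideA.wval _ (Finset.mem_insert_of_mem (Finset.mem_singleton_self _)) g h' hc]
    simp only [Complex.neg_re, Complex.one_re, Complex.intCast_re, Int.cast_one]
    have hX := side_bound T.sideA hx hxc h' hc
    rw [ha] at hX
    set X := (∑ χ ∈ T.EA, (χ : ↥(Cfsg.Sz F m) → ℂ) g * conj ((χ : ↥(Cfsg.Sz F m) → ℂ) x) ^ 2).re
    have t1 : -(1 / 64 : ℝ) ≤ -1 / (2 * h ^ 2) ^ 2 := by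
      rw [le_div_iff₀ (by positivity)]
      nlinarith [mul_le_mul h2 h2 zero_le_two (by linarith)]
    have t2 : -(41 / 42 : ℝ) < X / ((2 * h ^ 2 - 1) * (2 * h ^ 2 - 2 * h + 1)) := by
      rw [lt_div_iff₀ (by positivity)]
      nlinarith [mul_le_mul h2 h2 zero_le_two (by linarith), mul_nonneg (sub_nonneg.2 h2) (sq_nonneg h),
        mul_nonneg (mul_nonneg (sub_nonneg.2 h2) (sub_nonneg.2 h2)) (sq_nonneg h)]
    have t3 : 0 ≤ (1 + 1) / ((2 * h ^ 2 - 1) * h) := by positivity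
    linarith
  · rw [st_FPF h', Finset.sum_eq_zero (s := T.EA) (fun χ hχ => by
        rw [T.sideB.other χ hχ g h' hc]; simp),
      T.sideB.wval _ (Finset.mem_insert_self _ _) g h' hc,
      T.sideB.wval _ (Finset.mem_insert_of_mem (Finset.mem_singleton_self _)) g h' hc]
    simp only [Complex.neg_re, Complex.one_re, Complex.intCast_re, Complex.zero_re, Int.cast_neg,
      Int.cast_one, zero_div, add_zero]
    have t1 : -(1 / 2 : ℝ) < -1 / (2 * h ^ 2) ^ 2 := by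
      rw [lt_div_iff₀ (by positivity)]
      nlinarith [mul_le_mul h2 h2 zero_le_two (by linarith)]
    have t2 : -(1 / 2 : ℝ) < (-1 + -1) / ((2 * h ^ 2 - 1) * h) := by
      rw [lt_div_iff₀ (by positivity)]
      nlinarith [mul_le_mul h2 h2 zero_le_two (by linarith)]
    linarith

include T in
theorem pos_B {x g : ↥(Cfsg.Sz F m)} (hx : FPF m x) (hxc : Nat.card (CS x) = bb) (hg : g ≠ 1) :
    0 < (sq2 x g).re := by
  obtain ⟨h, h2, hh, hq, hq1, ha, hb⟩ := reals (hS := hS)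
  have hd1 : 0 < 2 * h ^ 2 - 1 := by nlinarith
  rw [expand T x g hh hq hq1 ha hb, st_FPF hx,
    Finset.sum_eq_zero (s := D.B) (fun χ hχ => by rw [D.hB.fpf χ hχ x hx]; simp),
    Finset.sum_eq_zero (s := T.EA) (fun χ hχ => by rw [T.sideB.other χ hχ x hx hxc]; simp),
    T.sideB.wval _ (Finset.mem_insert_self _ _) x hx hxc,
    T.sideB.wval _ (Finset.mem_insert_of_mem (Finset.mem_singleton_self _)) x hx hxc]
  simp only [map_neg, map_one, map_intCast, Int.cast_neg, Int.cast_one, neg_one_sq, mul_one,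
    zero_div, add_zero, Complex.add_re, Complex.div_ofReal_re, Complex.one_re]
  rcases classify (hS := hS) hg with h' | h' | ⟨c, z, hz, h'⟩ | ⟨h', hc⟩ | ⟨h', hc⟩
  · obtain ⟨s1, s2, -, sB⟩ := T.invol h'
    rw [st_isUnip h' (by norm_num),
      Finset.sum_congr rfl (fun χ (hχ : χ ∈ T.EB) => by rw [sB χ hχ]), ← Finset.mul_sum,
      sum_sq_FPF (hS := hS) T.sideB hx hxc, hb, s1, s2]
    simp only [Complex.re_mul_ofReal, Complex.ofReal_re, Complex.ofReal_im, Complex.sub_re, Complex.mul_re, Complex.re_ofNat, Complex.im_ofNat,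
      Complex.intCast_re, Complex.intCast_im, Complex.neg_re, Complex.neg_im, Complex.one_re,
      Complex.zero_re, hh, mul_zero, neg_zero, sub_zero, zero_div, add_zero]
    have t1 : -(1 / 2 : ℝ) < (-2 * h - 1) * (2 * h ^ 2 - 2 * h + 1 - 4) /
        ((2 * h ^ 2 - 1) * (2 * h ^ 2 + 2 * h + 1)) := by
      rw [lt_div_iff₀ (by positivity)]
      nlinarith [mul_nonneg (sub_nonneg.2 h2) (sq_nonneg h),
        mul_nonneg (mul_nonneg (sub_nonneg.2 h2) (sub_nonneg.2 h2)) (sq_nonneg h)]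
    have t2 : -(1 / 2 : ℝ) < (-h + -h) / ((2 * h ^ 2 - 1) * h) := by
      rw [lt_div_iff₀ (by positivity)]
      nlinarith [mul_nonneg (sub_nonneg.2 h2) (sq_nonneg h)]
    linarith
  · obtain ⟨-, gB, gW, -⟩ := T.four h'
    rw [st_isUnip h' (by norm_num),
      Finset.sum_congr rfl (fun χ (hχ : χ ∈ T.EB) => by rw [gB χ hχ]), ← Finset.mul_sum,
      sum_sq_FPF (hS := hS) T.sideB hx hxc, hb, gW]
    simp only [Complex.re_mul_ofReal, Complex.neg_re, Complex.one_re, Complex.zero_re, zero_div,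
      add_neg_cancel, add_zero]
    have t1 : -1 < -1 * (2 * h ^ 2 - 2 * h + 1 - 4) / ((2 * h ^ 2 - 1) * (2 * h ^ 2 + 2 * h + 1)) := by
      rw [lt_div_iff₀ (by positivity)]
      nlinarith
    linarith
  · rw [st_tor hz h',
      Finset.sum_eq_zero (s := T.EB) (fun χ hχ => by rw [rest_tor D (T.memB χ hχ).1 hz h']; simp),
      rest_tor D T.hW₁ hz h', rest_tor D T.hW₂ hz h']
    simp only [Complex.zero_re, Complex.one_re, zero_div, add_zero]
    positivity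
  · rw [st_FPF h', Finset.sum_eq_zero (s := T.EB) (fun χ hχ => by
        rw [T.sideA.other χ hχ g h' hc]; simp),
      T.sideA.wval _ (Finset.mem_insert_self _ _) g h' hc,
      T.sideA.wval _ (Finset.mem_insert_of_mem (Finset.mem_singleton_self _)) g h' hc]
    simp only [Complex.neg_re, Complex.one_re, Complex.intCast_re, Complex.zero_re, Int.cast_one,
      zero_div, add_zero]
    have t1 : -(1 / 2 : ℝ) < -1 / (2 * h ^ 2) ^ 2 := by
      rw [lt_div_iff₀ (by positivity)]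
      nlinarith [mul_le_mul h2 h2 zero_le_two (by linarith)]
    have t2 : 0 ≤ (1 + 1) / ((2 * h ^ 2 - 1) * h) := by positivity
    linarith
  · rw [st_FPF h', T.sideB.wval _ (Finset.mem_insert_self _ _) g h' hc,
      T.sideB.wval _ (Finset.mem_insert_of_mem (Finset.mem_singleton_self _)) g h' hc]
    simp only [Complex.neg_re, Complex.one_re, Complex.intCast_re, Int.cast_neg, Int.cast_one]
    have hX := side_bound T.sideB hx hxc h' hc
    rw [hb] at hX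
    set X := (∑ χ ∈ T.EB, (χ : ↥(Cfsg.Sz F m) → ℂ) g * conj ((χ : ↥(Cfsg.Sz F m) → ℂ) x) ^ 2).re
    have t1 : -(1 / 64 : ℝ) ≤ -1 / (2 * h ^ 2) ^ 2 := by
      rw [le_div_iff₀ (by positivity)]
      nlinarith [mul_le_mul h2 h2 zero_le_two (by linarith)]
    have t2 : -(1 / 3 : ℝ) < X / ((2 * h ^ 2 - 1) * (2 * h ^ 2 + 2 * h + 1)) := by
      rw [lt_div_iff₀ (by positivity)]
      nlinarith [mul_le_mul h2 h2 zero_le_two (by linarith), mul_nonneg (sub_nonneg.2 h2) (sq_nonneg h),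
        mul_nonneg (mul_nonneg (sub_nonneg.2 h2) (sub_nonneg.2 h2)) (sq_nonneg h)]
    have t3 : -(1 / 2 : ℝ) < (-1 + -1) / ((2 * h ^ 2 - 1) * h) := by
      rw [lt_div_iff₀ (by positivity)]
      nlinarith [mul_le_mul h2 h2 zero_le_two (by linarith)]
    linarith

include hS in
/-- The square of the class of an element of order at least three covers the nontrivial elements. -/
theorem class_square {x : ↥(Cfsg.Sz F m)} (hx : 2 < orderOf x) {g : ↥(Cfsg.Sz F m)} (hg : g ≠ 1) :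
    ∃ u v : ↥(Cfsg.Sz F m), g = (u * x * u⁻¹) * (v * x * v⁻¹) := by
  obtain ⟨D⟩ := exists_setup hS
  obtain ⟨T⟩ := exists_table D
  refine exists_of_sq2_ne_zero (hS := hS) fun e => ?_
  have hx1 : x ≠ 1 := fun e => by rw [e, orderOf_one] at hx; omega
  have hpos : 0 < (sq2 x g).re := by
    rcases classify (hS := hS) hx1 with h | h | h | ⟨h, hc⟩ | ⟨h, hc⟩
    · exact absurd h.1 (by omega)
    · exact pos_four T h hg
    · exact pos_tor T h hg
    · exact pos_A T h hc hg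
    · exact pos_B T h hc hg
  rw [e] at hpos
  simp at hpos

end Cfsg.Agent.SzTab
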