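import Cfsg.Agent.Lib.Classical.BinaryAction
import Cfsg.Agent.Lib.Classical.SzClassSquare
import Cfsg.Agent.Lib.Lie.Sz.Solubilizer

/-!
# Binary actions of the Suzuki groups: counting witnesses

Witnesses against binarity obtained from structure constants: for subgroups of the radical with an
element of order four, and for subgroups normalising a fixed point free torus.
-/

set_option autoImplicit false

namespace Cfsg.Agent.SzBin

open Cfsg Cfsg.Agent.Suz Cfsg.Agent.BinAct Cfsg.Agent.SzTab Cfsg.Agent.Char Cfsg.Agent.Block.SzDeg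
open scoped ComplexConjugate

variable {F : Type*} [Field F] {m : ℕ} [Fintype F] [DecidableEq F] {hS : SzField F m}
variable [Fintype ↥(Cfsg.Sz F m)]

local notation3 "Gp" => ↥(Cfsg.Sz F m)
set_option quotPrecheck false in
local notation "CS" x => Subgroup.centralizer ({x} : Set ↥(Cfsg.Sz F m))

/-- The solutions of `h = (u x u⁻¹) (v x v⁻¹)` in the variable `v`. -/
def sol (x h : Gp) : Set Gp := {v | IsConj x (h * (v * x⁻¹ * v⁻¹))}

omit [DecidableEq F] [Fintype ↥(Cfsg.Sz F m)] in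
theorem exists_of_mem_sol {x h v : Gp} (hv : v ∈ sol x h) :
    ∃ u, h = (u * x * u⁻¹) * (v * x * v⁻¹) := by
  obtain ⟨u, hu⟩ := isConj_iff.1 hv
  exact ⟨u, by rw [hu]; group⟩

include hS in
/-- The number of solutions. -/
theorem card_sol (x h : Gp) :
    ((sol x h).ncard : ℝ) * (Nat.card (CS x) : ℝ) = (Nat.card Gp : ℝ) * (sq2 x h).re := by
  classical
  set f : Gp → ℂ := fun y => if IsConj x y then 1 else 0 with hf
  have hcf : IsClassFunction Gp f := by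
    intro y c
    simp only [hf]
    by_cases hy : IsConj x y
    · rw [if_pos hy, if_pos (hy.trans (isConj_iff.2 ⟨c, rfl⟩))]
    · rw [if_neg hy, if_neg (fun e => hy (e.trans (isConj_iff.2 ⟨c, rfl⟩).symm))]
  have hsum := Cfsg.Agent.Block.sum_classFun_mul_conj hcf h x⁻¹
  have hN : ∑ v : Gp, f (h * (v * x⁻¹ * v⁻¹)) = ((sol x h).ncard : ℂ) := by
    simp only [hf]
    rw [Finset.sum_boole, ← Set.ncard_coe_finset]
    congr 2
    ext v
    rw [Finset.mem_coe, Finset.mem_filter]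
    exact ⟨fun hv => hv.2, fun hv => ⟨Finset.mem_univ v, hv⟩⟩
  rw [hN] at hsum
  set cnt : ℕ := (Finset.univ.filter fun y => IsConj x y).card with hcnt
  have hcard : cnt * Nat.card (CS x) = Nat.card Gp := by
    have h1 : cnt = Nat.card {y : Gp // IsConj x y} := by
      rw [hcnt, Nat.card_eq_fintype_card, Fintype.card_subtype]
    rw [h1, Cfsg.Agent.Char.card_conjClass, mul_comm, Subgroup.card_mul_index]
  have hinner : ∀ χ : IrrCharacter Gp, classInner f (χ : Gp → ℂ) =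
      ((cnt : ℂ) / (Nat.card Gp : ℂ)) * conj ((χ : Gp → ℂ) x) := by
    intro χ
    simp only [classInner, hf, ite_mul, one_mul, zero_mul]
    rw [← Finset.sum_filter,
      Finset.sum_congr rfl (g := fun _ => conj ((χ : Gp → ℂ) x)) (fun y hy => by
        obtain ⟨c, rfl⟩ := isConj_iff.1 (Finset.mem_filter.1 hy).2
        rw [IsIrr.classFun χ.2 x c]), Finset.sum_const, nsmul_eq_mul, hcnt]
    ring
  rw [Finset.sum_congr rfl (g := fun χ : IrrCharacter Gp => ((cnt : ℂ) / (Nat.card Gp : ℂ)) *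
      ((χ : Gp → ℂ) h * conj ((χ : Gp → ℂ) x) ^ 2 / (χ : Gp → ℂ) 1))
      (fun χ _ => by rw [hinner, IsIrr.apply_inv χ.2]; ring), ← Finset.mul_sum,
    show (∑ χ : IrrCharacter Gp, (χ : Gp → ℂ) h * conj ((χ : Gp → ℂ) x) ^ 2 / (χ : Gp → ℂ) 1) = sq2 x h from rfl] at hsum
  have hG : (Nat.card Gp : ℂ) ≠ 0 := Nat.cast_ne_zero.2 Nat.card_pos.ne'
  field_simp at hsum
  have key : ((sol x h).ncard : ℂ) * (Nat.card (CS x) : ℂ) = (Nat.card Gp : ℂ) * sq2 x h := by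
    rw [hsum, ← hcard]; push_cast; ring
  simpa using congrArg Complex.re key

include hS in
theorem card_real {h : ℝ} (hq : ((2 ^ (2 * m + 1) : ℕ) : ℝ) = 2 * h ^ 2)
    (hq1 : ((2 ^ (2 * m + 1) - 1 : ℕ) : ℝ) = 2 * h ^ 2 - 1) :
    (Nat.card Gp : ℝ) = (2 * h ^ 2) ^ 2 * ((2 * h ^ 2) ^ 2 + 1) * (2 * h ^ 2 - 1) := by
  rw [card_Sz hS, Nat.cast_mul, Nat.cast_mul, Nat.cast_add, Nat.cast_pow, Nat.cast_one, hq1, hq]

variable {D : Setup hS} (T : Table D)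

include T in
theorem val_four {x : Gp} (hx : IsUnip hS 4 x) : 1 / 2 ≤ (sq2 x x).re := by
  obtain ⟨h, h2, hh, hq, hq1, ha, hb⟩ := reals (hS := hS)
  obtain ⟨hA, hB, hW2, hW1⟩ := T.four hx
  obtain ⟨nA, nB, nD⟩ := T.cards
  have nA' : (T.EA.card : ℝ) * 2 = h ^ 2 + h := by rw [← hh]; exact_mod_cast nA
  have nB' : (T.EB.card : ℝ) * 2 = h ^ 2 - h := by rw [← hh]; exact_mod_cast nB
  have hw : conj ((T.W₁ : Gp → ℂ) x) ^ 2 = ((-h ^ 2 : ℝ) : ℂ) := by
    rw [← map_pow, hW1, ← hh]; push_cast; simp [map_ofNat]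
  rw [expand T x x hh hq hq1 ha hb, st_isUnip hx (by norm_num),
    Finset.sum_congr rfl (g := fun _ => (1 : ℂ))
      (fun χ (hχ : χ ∈ D.B) => by rw [B_isUnip hχ hx (by norm_num), map_one, one_pow, mul_one]),
    Finset.sum_congr rfl (g := fun _ => (-1 : ℂ))
      (fun χ (hχ : χ ∈ T.EA) => by rw [hA χ hχ, map_neg, map_one, neg_one_sq, mul_one]),
    Finset.sum_congr rfl (g := fun _ => (-1 : ℂ))
      (fun χ (hχ : χ ∈ T.EB) => by rw [hB χ hχ, map_neg, map_one, neg_one_sq, mul_one]),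
    hW2, map_neg, neg_sq, hw, neg_mul, add_neg_cancel, zero_div, add_zero, Finset.sum_const,
    Finset.sum_const, Finset.sum_const]
  simp only [nsmul_eq_mul, mul_one, mul_neg, zero_mul, zero_div, add_zero, Complex.add_re,
    Complex.div_ofReal_re, Complex.one_re, Complex.natCast_re, Complex.neg_re, map_zero, ne_eq,
    OfNat.ofNat_ne_zero, not_false_eq_true, zero_pow, mul_zero, Complex.zero_re]
  have hd1 : 0 < 2 * h ^ 2 - 1 := by nlinarith
  have hb0 : 0 < 2 * h ^ 2 - 2 * h + 1 := by nlinarith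
  have t1 : 0 ≤ (D.B.card : ℝ) / ((2 * h ^ 2) ^ 2 + 1) := by positivity
  have t2 : -(1 / 4) ≤ -(T.EA.card : ℝ) / ((2 * h ^ 2 - 1) * (2 * h ^ 2 - 2 * h + 1)) := by
    rw [le_div_iff₀ (by positivity), show (T.EA.card : ℝ) = (h ^ 2 + h) / 2 by linarith]
    nlinarith
  have t3 : -(1 / 4) ≤ -(T.EB.card : ℝ) / ((2 * h ^ 2 - 1) * (2 * h ^ 2 + 2 * h + 1)) := by
    rw [le_div_iff₀ (by positivity), show (T.EB.card : ℝ) = (h ^ 2 - h) / 2 by linarith]
    nlinarith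
  linarith

include T in
theorem val_A {x : Gp} (hx : FPF m x) (hxc : Nat.card (CS x) = 2 ^ (2 * m + 1) + 2 ^ (m + 1) + 1) :
    1 / 10 ≤ (sq2 x x).re := by
  obtain ⟨h, h2, hh, hq, hq1, ha, hb⟩ := reals (hS := hS)
  have hd1 : 0 < 2 * h ^ 2 - 1 := by nlinarith
  have hb0 : 0 < 2 * h ^ 2 - 2 * h + 1 := by nlinarith
  rw [expand T x x hh hq hq1 ha hb, st_FPF hx,
    Finset.sum_eq_zero (s := D.B) (fun χ hχ => by rw [D.hB.fpf χ hχ x hx]; simp),
    Finset.sum_eq_zero (s := T.EB) (fun χ hχ => by rw [T.sideA.other χ hχ x hx hxc]; simp),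
    T.sideA.wval _ (Finset.mem_insert_self _ _) x hx hxc,
    T.sideA.wval _ (Finset.mem_insert_of_mem (Finset.mem_singleton_self _)) x hx hxc]
  simp only [map_neg, map_one, map_intCast, Int.cast_one, neg_one_sq, one_pow, mul_one, zero_div,
    add_zero, Complex.add_re, Complex.div_ofReal_re, Complex.one_re, Complex.neg_re]
  have hX := side_bound T.sideA hx hxc hx hxc
  rw [ha] at hX
  set X := (∑ χ ∈ T.EA, (χ : Gp → ℂ) x * conj ((χ : Gp → ℂ) x) ^ 2).re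
  have t1 : -(1 / 64 : ℝ) ≤ -1 / (2 * h ^ 2) ^ 2 := by
    rw [le_div_iff₀ (by positivity)]
    nlinarith [mul_le_mul h2 h2 zero_le_two (by linarith)]
  have t2 : -(4 / 5 : ℝ) ≤ X / ((2 * h ^ 2 - 1) * (2 * h ^ 2 - 2 * h + 1)) := by
    rw [le_div_iff₀ (by positivity)]
    nlinarith [mul_le_mul h2 h2 zero_le_two (by linarith), mul_nonneg (sub_nonneg.2 h2) (sq_nonneg h),
      mul_nonneg (mul_nonneg (sub_nonneg.2 h2) (sub_nonneg.2 h2)) (sq_nonneg h)]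
  have t3 : 0 ≤ (1 + 1) / ((2 * h ^ 2 - 1) * h) := by positivity
  linarith

include T in
theorem val_B {x : Gp} (hx : FPF m x) (hxc : Nat.card (CS x) = 2 ^ (2 * m + 1) - 2 ^ (m + 1) + 1) :
    1 / 10 ≤ (sq2 x x).re := by
  obtain ⟨h, h2, hh, hq, hq1, ha, hb⟩ := reals (hS := hS)
  have hd1 : 0 < 2 * h ^ 2 - 1 := by nlinarith
  rw [expand T x x hh hq hq1 ha hb, st_FPF hx,
    Finset.sum_eq_zero (s := D.B) (fun χ hχ => by rw [D.hB.fpf χ hχ x hx]; simp),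
    Finset.sum_eq_zero (s := T.EA) (fun χ hχ => by rw [T.sideB.other χ hχ x hx hxc]; simp),
    T.sideB.wval _ (Finset.mem_insert_self _ _) x hx hxc,
    T.sideB.wval _ (Finset.mem_insert_of_mem (Finset.mem_singleton_self _)) x hx hxc]
  simp only [map_neg, map_one, map_intCast, Int.cast_neg, Int.cast_one, neg_one_sq, mul_one,
    zero_div, add_zero, Complex.add_re, Complex.div_ofReal_re, Complex.one_re, Complex.neg_re]
  have hX := side_bound T.sideB hx hxc hx hxc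
  rw [hb] at hX
  set X := (∑ χ ∈ T.EB, (χ : Gp → ℂ) x * conj ((χ : Gp → ℂ) x) ^ 2).re
  have t1 : -(1 / 64 : ℝ) ≤ -1 / (2 * h ^ 2) ^ 2 := by
    rw [le_div_iff₀ (by positivity)]
    nlinarith [mul_le_mul h2 h2 zero_le_two (by linarith)]
  have t2 : -(1 / 3 : ℝ) ≤ X / ((2 * h ^ 2 - 1) * (2 * h ^ 2 + 2 * h + 1)) := by
    rw [le_div_iff₀ (by positivity)]
    nlinarith [mul_le_mul h2 h2 zero_le_two (by linarith), mul_nonneg (sub_nonneg.2 h2) (sq_nonneg h),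
      mul_nonneg (mul_nonneg (sub_nonneg.2 h2) (sub_nonneg.2 h2)) (sq_nonneg h)]
  have t3 : -(1 / 2 : ℝ) ≤ (-1 + -1) / ((2 * h ^ 2 - 1) * h) := by
    rw [le_div_iff₀ (by positivity)]
    nlinarith [mul_le_mul h2 h2 zero_le_two (by linarith)]
  linarith

include T in
theorem big_A {x s : Gp} (hx : FPF m x) (hxc : Nat.card (CS x) = 2 ^ (2 * m + 1) + 2 ^ (m + 1) + 1)
    (hs : IsUnip hS 2 s) :
    2 * ((2 ^ (2 * m + 1) : ℕ) : ℝ) * (Nat.card (CS x) : ℝ) ^ 3 < (Nat.card Gp : ℝ) * (sq2 x s).re := by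
  obtain ⟨h, h2, hh, hq, hq1, ha, hb⟩ := reals (hS := hS)
  have hd1 : 0 < 2 * h ^ 2 - 1 := by nlinarith
  have hb0 : 0 < 2 * h ^ 2 - 2 * h + 1 := by nlinarith
  obtain ⟨s1, s2, sA, -⟩ := T.invol hs
  have hval : (sq2 x s).re = 1 + (2 * h - 1) * (2 * h ^ 2 + 2 * h - 3) /
      ((2 * h ^ 2 - 1) * (2 * h ^ 2 - 2 * h + 1)) - 2 / (2 * h ^ 2 - 1) := by
    rw [expand T x s hh hq hq1 ha hb, st_FPF hx, st_isUnip hs (by norm_num),
      Finset.sum_eq_zero (s := D.B) (fun χ hχ => by rw [D.hB.fpf χ hχ x hx]; simp),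
      Finset.sum_eq_zero (s := T.EB) (fun χ hχ => by rw [T.sideA.other χ hχ x hx hxc]; simp),
      T.sideA.wval _ (Finset.mem_insert_self _ _) x hx hxc,
      T.sideA.wval _ (Finset.mem_insert_of_mem (Finset.mem_singleton_self _)) x hx hxc,
      Finset.sum_congr rfl (fun χ (hχ : χ ∈ T.EA) => by rw [sA χ hχ]), ← Finset.mul_sum,
      sum_sq_FPF (hS := hS) T.sideA hx hxc, ha, s1, s2]
    simp only [map_intCast, Int.cast_one, one_pow, mul_one, zero_mul, zero_div, add_zero, Complex.add_re,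
      Complex.div_ofReal_re, Complex.one_re, Complex.re_mul_ofReal, Complex.sub_re, Complex.mul_re,
      Complex.re_ofNat, Complex.im_ofNat, Complex.intCast_re, Complex.intCast_im, Complex.neg_re, hh,
      map_one, Complex.ofReal_re, Complex.ofReal_im,
      mul_zero, sub_zero]
    field_simp
    ring
  rw [hxc, card_real (hS := hS) hq hq1, hq, ha, hval]
  have e1 : ((2 * h ^ 2) ^ 2 + 1) = (2 * h ^ 2 + 2 * h + 1) * (2 * h ^ 2 - 2 * h + 1) := by ring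
  have e2 : (2 * h ^ 2) ^ 2 * ((2 * h ^ 2) ^ 2 + 1) * (2 * h ^ 2 - 1) *
      (1 + (2 * h - 1) * (2 * h ^ 2 + 2 * h - 3) / ((2 * h ^ 2 - 1) * (2 * h ^ 2 - 2 * h + 1)) - 2 / (2 * h ^ 2 - 1)) =
      (2 * h ^ 2) * (2 * h ^ 2 + 2 * h + 1) * ((2 * h ^ 2) *
        ((2 * h ^ 2 - 3) * (2 * h ^ 2 - 2 * h + 1) + (2 * h - 1) * (2 * h ^ 2 + 2 * h - 3))) := by
    rw [e1, show 1 + (2 * h - 1) * (2 * h ^ 2 + 2 * h - 3) / ((2 * h ^ 2 - 1) * (2 * h ^ 2 - 2 * h + 1)) -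
        2 / (2 * h ^ 2 - 1) = (((2 * h ^ 2 - 3) * (2 * h ^ 2 - 2 * h + 1) + (2 * h - 1) * (2 * h ^ 2 + 2 * h - 3))) /
          ((2 * h ^ 2 - 1) * (2 * h ^ 2 - 2 * h + 1)) by
        rw [eq_div_iff (by positivity), sub_mul, add_mul, div_mul_cancel₀ _ (by positivity),
          ← mul_assoc (2 / (2 * h ^ 2 - 1)), div_mul_cancel₀ _ hd1.ne']
        ring, mul_div_assoc', div_eq_iff (by positivity)]
    ring
  have e3 : 2 * (2 * h ^ 2 + 2 * h + 1) ^ 2 <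
      (2 * h ^ 2) * ((2 * h ^ 2 - 3) * (2 * h ^ 2 - 2 * h + 1) + (2 * h - 1) * (2 * h ^ 2 + 2 * h - 3)) := by
    nlinarith [mul_nonneg (sub_nonneg.2 h2) (sq_nonneg h), mul_le_mul h2 h2 zero_le_two (by linarith),
      mul_nonneg (mul_nonneg (sub_nonneg.2 h2) (sub_nonneg.2 h2)) (sq_nonneg h),
      mul_nonneg (mul_nonneg (sub_nonneg.2 h2) (sq_nonneg h)) (sq_nonneg h)]
  rw [e2]
  calc 2 * (2 * h ^ 2) * (2 * h ^ 2 + 2 * h + 1) ^ 3
      = (2 * h ^ 2) * (2 * h ^ 2 + 2 * h + 1) * (2 * (2 * h ^ 2 + 2 * h + 1) ^ 2) := by ring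
    _ < _ := mul_lt_mul_of_pos_left e3 (by positivity)

include T in
theorem big_B {x s : Gp} (hx : FPF m x) (hxc : Nat.card (CS x) = 2 ^ (2 * m + 1) - 2 ^ (m + 1) + 1)
    (hs : IsUnip hS 2 s) :
    2 * ((2 ^ (2 * m + 1) : ℕ) : ℝ) * (Nat.card (CS x) : ℝ) ^ 3 < (Nat.card Gp : ℝ) * (sq2 x s).re := by
  obtain ⟨h, h2, hh, hq, hq1, ha, hb⟩ := reals (hS := hS)
  have hd1 : 0 < 2 * h ^ 2 - 1 := by nlinarith
  have hb0 : 0 < 2 * h ^ 2 - 2 * h + 1 := by nlinarith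
  obtain ⟨s1, s2, -, sB⟩ := T.invol hs
  have hval : (sq2 x s).re = 1 + (-2 * h - 1) * (2 * h ^ 2 - 2 * h - 3) /
      ((2 * h ^ 2 - 1) * (2 * h ^ 2 + 2 * h + 1)) - 2 / (2 * h ^ 2 - 1) := by
    rw [expand T x s hh hq hq1 ha hb, st_FPF hx, st_isUnip hs (by norm_num),
      Finset.sum_eq_zero (s := D.B) (fun χ hχ => by rw [D.hB.fpf χ hχ x hx]; simp),
      Finset.sum_eq_zero (s := T.EA) (fun χ hχ => by rw [T.sideB.other χ hχ x hx hxc]; simp),
      T.sideB.wval _ (Finset.mem_insert_self _ _) x hx hxc,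
      T.sideB.wval _ (Finset.mem_insert_of_mem (Finset.mem_singleton_self _)) x hx hxc,
      Finset.sum_congr rfl (fun χ (hχ : χ ∈ T.EB) => by rw [sB χ hχ]), ← Finset.mul_sum,
      sum_sq_FPF (hS := hS) T.sideB hx hxc, hb, s1, s2]
    simp only [map_intCast, map_neg, map_one, Int.cast_neg, Int.cast_one, neg_one_sq, one_pow, mul_one, zero_mul,
      zero_div, add_zero, Complex.add_re, Complex.div_ofReal_re, Complex.one_re, Complex.re_mul_ofReal,
      Complex.sub_re, Complex.mul_re, Complex.re_ofNat, Complex.im_ofNat, Complex.intCast_re, Complex.intCast_im,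
      Complex.neg_re, Complex.neg_im, hh, map_one, Complex.ofReal_re, Complex.ofReal_im, mul_zero, neg_zero, sub_zero]
    field_simp
    ring
  rw [hxc, card_real (hS := hS) hq hq1, hq, hb, hval]
  have e1 : ((2 * h ^ 2) ^ 2 + 1) = (2 * h ^ 2 + 2 * h + 1) * (2 * h ^ 2 - 2 * h + 1) := by ring
  have e2 : (2 * h ^ 2) ^ 2 * ((2 * h ^ 2) ^ 2 + 1) * (2 * h ^ 2 - 1) *
      (1 + (-2 * h - 1) * (2 * h ^ 2 - 2 * h - 3) / ((2 * h ^ 2 - 1) * (2 * h ^ 2 + 2 * h + 1)) - 2 / (2 * h ^ 2 - 1)) =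
      (2 * h ^ 2) * (2 * h ^ 2 - 2 * h + 1) * ((2 * h ^ 2) *
        ((2 * h ^ 2 - 3) * (2 * h ^ 2 + 2 * h + 1) + (-2 * h - 1) * (2 * h ^ 2 - 2 * h - 3))) := by
    rw [e1, show 1 + (-2 * h - 1) * (2 * h ^ 2 - 2 * h - 3) / ((2 * h ^ 2 - 1) * (2 * h ^ 2 + 2 * h + 1)) -
        2 / (2 * h ^ 2 - 1) = (((2 * h ^ 2 - 3) * (2 * h ^ 2 + 2 * h + 1) + (-2 * h - 1) * (2 * h ^ 2 - 2 * h - 3))) /
          ((2 * h ^ 2 - 1) * (2 * h ^ 2 + 2 * h + 1)) by
        rw [eq_div_iff (by positivity), sub_mul, add_mul, div_mul_cancel₀ _ (by positivity),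
          ← mul_assoc (2 / (2 * h ^ 2 - 1)), div_mul_cancel₀ _ hd1.ne']
        ring, mul_div_assoc', div_eq_iff (by positivity)]
    ring
  have e3 : 2 * (2 * h ^ 2 - 2 * h + 1) ^ 2 <
      (2 * h ^ 2) * ((2 * h ^ 2 - 3) * (2 * h ^ 2 + 2 * h + 1) + (-2 * h - 1) * (2 * h ^ 2 - 2 * h - 3)) := by
    nlinarith [mul_nonneg (sub_nonneg.2 h2) (sq_nonneg h), mul_le_mul h2 h2 zero_le_two (by linarith),
      mul_nonneg (mul_nonneg (sub_nonneg.2 h2) (sub_nonneg.2 h2)) (sq_nonneg h),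
      mul_nonneg (mul_nonneg (sub_nonneg.2 h2) (sq_nonneg h)) (sq_nonneg h)]
  rw [e2]
  calc 2 * (2 * h ^ 2) * (2 * h ^ 2 - 2 * h + 1) ^ 3
      = (2 * h ^ 2) * (2 * h ^ 2 - 2 * h + 1) * (2 * (2 * h ^ 2 - 2 * h + 1) ^ 2) := by ring
    _ < _ := mul_lt_mul_of_pos_left e3 (by positivity)

end Cfsg.Agent.SzBin
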