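import Cfsg.Agent.Lib.Classical.SzTableSide

/-!
# The character table of the Suzuki groups

Writing `h = 2 ^ m`, `q = 2 h ^ 2`, the remaining characters fall into three families: those of
degree `(q - 1) b`, those of degree `(q - 1) a` and two of degree `(q - 1) h`.  Their values on
all classes are determined up to the exceptional values on the tori.
-/

set_option autoImplicit false

namespace Cfsg.Agent.SzTab

open scoped ComplexConjugate
open Cfsg Cfsg.Agent.Suz Cfsg.Agent.Char Cfsg.Agent.Block.SzDeg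

variable {F : Type*} [Field F] {m : ℕ} [Fintype F] [DecidableEq F] {hS : SzField F m}
variable [Fintype ↥(Cfsg.Sz F m)]

set_option quotPrecheck false in
local notation "CS" x => Subgroup.centralizer ({x} : Set ↥(Cfsg.Sz F m))
set_option quotPrecheck false in
local notation "qq" => (2 ^ (2 * m + 1) : ℕ)
set_option quotPrecheck false in
local notation "aa" => (2 ^ (2 * m + 1) + 2 ^ (m + 1) + 1 : ℕ)
set_option quotPrecheck false in
local notation "bb" => (2 ^ (2 * m + 1) - 2 ^ (m + 1) + 1 : ℕ)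
set_option quotPrecheck false in
local notation "hh" => (((2 ^ m : ℕ) : ℤ))
set_option quotPrecheck false in
local notation "Irr" => IrrCharacter ↥(Cfsg.Sz F m)

variable (hS) in
/-- Conjugate into the radical, of the given order. -/
def IsUnip (d : ℕ) (u : ↥(Cfsg.Sz F m)) : Prop :=
  orderOf u = d ∧ ∃ c, c * u * c⁻¹ ∈ unip hS

/-- The table. -/
structure Table (D : Setup hS) where
  EA : Finset Irr
  EB : Finset Irr
  W₁ : Irr
  W₂ : Irr
  hW₁ : W₁ ∈ D.rest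
  hW₂ : W₂ ∈ D.rest
  split : ∀ f : Irr → ℂ, ∑ χ ∈ D.rest, f χ = ∑ χ ∈ EA, f χ + ∑ χ ∈ EB, f χ + f W₁ + f W₂
  memA : ∀ χ ∈ EA, χ ∈ D.rest ∧ cof χ = (bb : ℤ)
  memB : ∀ χ ∈ EB, χ ∈ D.rest ∧ cof χ = (aa : ℤ)
  cof₁ : cof W₁ = hh
  cof₂ : cof W₂ = hh
  sideA : Side aa EA EB {W₁, W₂} 1
  sideB : Side bb EB EA {W₁, W₂} (-1)

theorem pow_facts : qq = 2 * (2 ^ m) ^ 2 ∧ 2 ^ (m + 1) = 2 * 2 ^ m := by
  refine ⟨?_, pow_succ' 2 m⟩
  rw [← pow_mul, ← pow_succ']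
  congr 1
  ring

include hS in
theorem two_le_h : 2 ≤ 2 ^ m := by
  calc 2 = 2 ^ 1 := rfl
    _ ≤ 2 ^ m := Nat.pow_le_pow_right (by norm_num) hS.one_le

include hS in
theorem casts : ((qq : ℕ) : ℤ) = 2 * hh ^ 2 ∧ ((qq - 1 : ℕ) : ℤ) = 2 * hh ^ 2 - 1 ∧
    ((aa : ℕ) : ℤ) = 2 * hh ^ 2 + 2 * hh + 1 ∧ ((bb : ℕ) : ℤ) = 2 * hh ^ 2 - 2 * hh + 1 ∧
    (2 : ℤ) ≤ hh := by
  obtain ⟨h1, h2⟩ := pow_facts (m := m)
  have h3 := two_le_h (hS := hS)
  rw [h1, h2]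
  generalize 2 ^ m = h at h3
  have h4 : 2 * h ≤ 2 * h ^ 2 := by nlinarith
  refine ⟨by push_cast; ring, ?_, by push_cast; ring, ?_, by exact_mod_cast h3⟩
  · rw [Nat.cast_sub (by omega)]; push_cast; ring
  · rw [Nat.cast_add, Nat.cast_sub h4]; push_cast; ring

variable (D : Setup hS)

theorem exists_table : Nonempty (Table D) := by
  classical
  obtain ⟨hq, hq1, ha, hb, h2⟩ := casts (hS := hS)
  obtain ⟨hxy, hxF, hxa, hxN, hyF, hyb, hyN⟩ :
      (∀ z : ↥(Cfsg.Sz F m), FPF m z → z ∈ conjSet (CS D.x) ∨ z ∈ conjSet (CS D.y)) ∧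
        FPF m D.x ∧ Nat.card (CS D.x) = aa ∧
        Nat.card (Subgroup.normalizer ((CS D.x) : Set ↥(Cfsg.Sz F m))) = 4 * Nat.card (CS D.x) ∧
        FPF m D.y ∧ Nat.card (CS D.y) = bb ∧
        Nat.card (Subgroup.normalizer ((CS D.y) : Set ↥(Cfsg.Sz F m))) = 4 * Nat.card (CS D.y) := by
    refine ⟨?_, D.hxF, D.hxa, D.hxN, D.hyF, D.hyb, D.hyN⟩
    obtain ⟨x, y, ⟨h1, h1', -⟩, ⟨h2', h2'', -⟩, hall⟩ := exists_tori hS
    have move : ∀ (u v z : ↥(Cfsg.Sz F m)), FPF m u → u ∈ conjSet (CS v) → FPF m v →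
        z ∈ conjSet (CS u) → z ∈ conjSet (CS v) := by
      intro u v z _ hmem hv hz
      obtain ⟨g, hg⟩ := FPF.eq_of_mem_conjSet hS hv hmem
      obtain ⟨k, a, ha, ha1, rfl⟩ := hz
      rw [hg] at ha
      obtain ⟨a', ha', rfl⟩ := ha
      exact ⟨k * g, a', ha', fun e => ha1 (by rw [e]; simp), by simp [mul_assoc]⟩
    have card_eq : ∀ (u v : ↥(Cfsg.Sz F m)), FPF m v → u ∈ conjSet (CS v) →
        Nat.card (CS u) = Nat.card (CS v) := by
      intro u v hv hmem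
      obtain ⟨g, hg⟩ := FPF.eq_of_mem_conjSet hS hv hmem
      rw [hg]; exact Subgroup.card_map_of_injective (MulAut.conj g).injective
    have hne : aa ≠ bb := by omega
    have hx' : x ∈ conjSet (CS D.x) := by
      by_contra hcon
      have hd := FPF.disjoint hS D.hxF h1 hcon
      rcases hall D.x D.hxF with h | h
      · exact Set.disjoint_left.1 hd (mem_conjSet_of_mem (self_mem_cs hS D.x) D.hxF.ne_one) h
      · exact hne (D.hxa.symm.trans ((card_eq _ _ h2' h).trans h2''))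
    have hy' : y ∈ conjSet (CS D.y) := by
      by_contra hcon
      have hd := FPF.disjoint hS D.hyF h2' hcon
      rcases hall D.y D.hyF with h | h
      · exact hne (((card_eq _ _ h1 h).trans h1').symm.trans D.hyb)
      · exact Set.disjoint_left.1 hd (mem_conjSet_of_mem (self_mem_cs hS D.y) D.hyF.ne_one) h
    intro z hz
    rcases hall z hz with h | h
    · exact Or.inl (move x D.x z h1 hx' D.hxF h)
    · exact Or.inr (move y D.y z h2' hy' D.hyF h)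
  have hcls : ∀ (u v : ↥(Cfsg.Sz F m)), FPF m v →
      (∀ z, FPF m z → z ∈ conjSet (CS u) ∨ z ∈ conjSet (CS v)) →
      Nat.card (CS u) ≠ Nat.card (CS v) →
      ∀ k : ↥(Cfsg.Sz F m), FPF m k → Nat.card (CS k) = Nat.card (CS u) →
        ∃ g a : ↥(Cfsg.Sz F m), a ∈ (CS u) ∧ a ≠ 1 ∧ k = g * a * g⁻¹ := by
    intro u v hv hall hne k hk hkc
    rcases hall k hk with h | h
    · exact h
    · refine absurd ?_ hne
      obtain ⟨g, hg⟩ := FPF.eq_of_mem_conjSet hS hv h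
      rw [← hkc, hg]
      exact Subgroup.card_map_of_injective (MulAut.conj g).injective
  have hmem : ∀ χ ∈ D.rest, cof χ = (bb : ℤ) ∨ cof χ = (aa : ℤ) ∨ cof χ = hh := by
    intro χ hχ
    obtain ⟨hd, -⟩ := degrees (m := m) hS
    have h := hd χ
    have h8 := one_lt_q hS
    have hdd : (qq - 1) ∣ charDegree (χ : ↥(Cfsg.Sz F m) → ℂ) :=
      D.hB.rest χ ((D.mem_rest χ).1 hχ).1 ((D.mem_rest χ).1 hχ).2.1 ((D.mem_rest χ).1 hχ).2.2
    simp only [Set.mem_insert_iff, Set.mem_singleton_iff] at h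
    have hcof : ∀ k : ℕ, charDegree (χ : ↥(Cfsg.Sz F m) → ℂ) = (qq - 1) * k → cof χ = (k : ℤ) :=
      fun k e => by rw [cof, e, Nat.mul_div_cancel_left _ (by omega)]
    have hsq : ¬ (qq - 1) ∣ qq ^ 2 := by
      intro h'
      have hco : Nat.Coprime (qq - 1) (qq ^ 2) :=
        Nat.Coprime.pow_right _ (by
          have : Nat.Coprime (qq - 1) (qq - 1 + 1) := by simp
          rwa [Nat.sub_add_cancel (by omega : 1 ≤ qq)] at this)
      have := Nat.eq_one_of_dvd_coprimes hco dvd_rfl h'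
      omega
    rcases h with h | h | h | h | h | h
    · rw [h] at hdd; have := Nat.le_of_dvd one_pos hdd; omega
    · exact absurd (h ▸ hdd) hsq
    · exact absurd (h ▸ hdd) (not_dvd_succ hS)
    · exact Or.inr (Or.inl (hcof _ h))
    · exact Or.inl (hcof _ h)
    · exact Or.inr (Or.inr (hcof _ h))
  have hsq : (2 : ℤ) * hh ≤ 2 * hh ^ 2 - 2 * hh + 1 := by nlinarith
  have hne : (bb : ℤ) ≠ (aa : ℤ) ∧ (bb : ℤ) ≠ hh ∧ (aa : ℤ) ≠ hh := by
    rw [ha, hb]; omega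
  have HA : SideHyp D D.x aa (bb : ℤ) (aa : ℤ) 1 := by
    refine ⟨hxF, hxN, hxa, fun k hk hkc => hcls D.x D.y hyF hxy ?_ k hk (hkc.trans hxa.symm),
      hmem, hne, ?_, dvd_mul_left _ _, ?_, Or.inl rfl⟩
    · rw [hxa, hyb]; omega
    · exact ⟨(2 * hh ^ 2 - 4 * hh + 3), by rw [hq1, ha, hb]; ring⟩
    · exact ⟨hh - 1, by rw [hq1, ha]; ring⟩
  have HB : SideHyp D D.y bb (aa : ℤ) (bb : ℤ) (-1) := by
    refine ⟨hyF, hyN, hyb, fun k hk hkc => hcls D.y D.x hxF (fun z hz => (hxy z hz).symm) ?_ k hk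
      (hkc.trans hyb.symm), fun χ hχ => ?_, ⟨hne.1.symm, hne.2.2, hne.2.1⟩, ?_, dvd_mul_left _ _, ?_,
      Or.inr rfl⟩
    · rw [hxa, hyb]; omega
    · rcases hmem χ hχ with h | h | h
      exacts [Or.inr (Or.inl h), Or.inl h, Or.inr (Or.inr h)]
    · exact ⟨(2 * hh ^ 2 + 4 * hh + 3), by rw [hq1, ha, hb]; ring⟩
    · exact ⟨hh + 1, by rw [hq1, hb]; ring⟩
  obtain ⟨hA, hW⟩ := side_large D HA (Int.ofNat_le.1 (by rw [ha, Nat.cast_ofNat]; nlinarith))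
  have hB : Side bb (D.rest.filter fun χ => cof χ = (aa : ℤ)) (D.rest.filter fun χ => cof χ = (bb : ℤ))
      (D.rest.filter fun χ => cof χ = hh) (-1) := by
    rcases eq_or_lt_of_le h2 with h | h
    · refine side_five D HB ?_ hW
      exact Nat.cast_injective (R := ℤ) (by rw [hb, ← h]; norm_num)
    · refine (side_large D HB ?_).1
      exact Int.ofNat_le.1 (by rw [hb, Nat.cast_ofNat]; nlinarith)
  obtain ⟨W₁, W₂, hne12, hWe⟩ := Finset.card_eq_two.1 hW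
  have hW₁ : W₁ ∈ D.rest.filter fun χ => cof χ = hh := by rw [hWe]; simp
  have hW₂ : W₂ ∈ D.rest.filter fun χ => cof χ = hh := by rw [hWe]; simp
  refine ⟨⟨D.rest.filter fun χ => cof χ = (bb : ℤ), D.rest.filter fun χ => cof χ = (aa : ℤ), W₁, W₂,
    (Finset.mem_filter.1 hW₁).1, (Finset.mem_filter.1 hW₂).1, fun f => ?_,
    fun χ h => Finset.mem_filter.1 h, fun χ h => Finset.mem_filter.1 h,
    (Finset.mem_filter.1 hW₁).2, (Finset.mem_filter.1 hW₂).2, by rw [← hWe]; exact hA,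
    by rw [← hWe]; exact hB⟩⟩
  rw [add_assoc (∑ χ ∈ _, f χ + ∑ χ ∈ _, f χ), ← Finset.sum_pair hne12, ← hWe,
    Finset.sum_filter, Finset.sum_filter, Finset.sum_filter, ← Finset.sum_add_distrib,
    ← Finset.sum_add_distrib]
  refine Finset.sum_congr rfl fun χ hχ => ?_
  obtain ⟨n1, n2, n3⟩ := hne
  rcases hmem χ hχ with h | h | h
  · rw [if_pos h, if_neg (h ▸ n1), if_neg (h ▸ n2), add_zero, add_zero]
  · rw [if_pos h, if_neg (h ▸ n1.symm), if_neg (h ▸ n3), zero_add, add_zero]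
  · rw [if_pos h, if_neg (h ▸ n2.symm), if_neg (h ▸ n3.symm), zero_add, zero_add]

variable {D}
variable (T : Table D)

theorem Table.cards : (T.EA.card : ℤ) * 2 = hh ^ 2 + hh ∧ (T.EB.card : ℤ) * 2 = hh ^ 2 - hh ∧
    2 * (D.B.card : ℤ) + 2 = 2 * hh ^ 2 := by
  obtain ⟨hq, -, ha, hb, -⟩ := casts (hS := hS)
  have h1 : (T.EA.card : ℤ) * 4 + 1 = (aa : ℤ) := by exact_mod_cast T.sideA.card
  have h2 : (T.EB.card : ℤ) * 4 + 1 = (bb : ℤ) := by exact_mod_cast T.sideB.card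
  have h3 : 2 * (D.B.card : ℤ) + 2 = (qq : ℤ) := by exact_mod_cast D.hB.card
  rw [ha] at h1; rw [hb] at h2; rw [hq] at h3
  exact ⟨by linarith, by linarith, h3⟩

include hS in
theorem IsUnip.ne_one {u : ↥(Cfsg.Sz F m)} {d : ℕ} (h : IsUnip hS d u) (hd : 1 < d) : u ≠ 1 :=
  fun e => by rw [e] at h; have := h.1; rw [orderOf_one] at this; omega

include hS in
theorem IsUnip.card_ne {u : ↥(Cfsg.Sz F m)} {d : ℕ} (h : IsUnip hS d u) (hd : 1 < d) :
    Nat.card (CS u) ≠ aa ∧ Nat.card (CS u) ≠ bb := by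
  obtain ⟨ho, c, hc⟩ := h
  have h4 := orderOf_of_mem_unip hS hc
  rw [orderOf_conj' hS, ho] at h4
  have hev : 2 ∣ d := by
    rcases (Nat.dvd_prime_pow Nat.prime_two (i := d) (m := 2)).1 (by simpa using h4) with ⟨k, hk, rfl⟩
    rcases Nat.eq_zero_or_pos k with rfl | hk0
    · simp at hd
    · exact dvd_pow_self 2 hk0.ne'
  have h2 : 2 ∣ Nat.card (CS u) := by
    rw [← ho] at hev
    exact hev.trans (Subgroup.orderOf_dvd_natCard _ (self_mem_cs hS u))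
  have hodd : ∀ n : ℕ, n ∣ qq ^ 2 + 1 → ¬ 2 ∣ n := fun n hn hn2 =>
    (Nat.not_even_iff_odd.2 (dvd_coprime hn).1) (even_iff_two_dvd.2 hn2)
  obtain ⟨hprod, -⟩ := ab_props hS
  exact ⟨fun e => hodd _ (hprod ▸ dvd_mul_right _ _) (e ▸ h2),
    fun e => hodd _ (hprod ▸ dvd_mul_left _ _) (e ▸ h2)⟩

/-- The column relations with the tori. -/
theorem Table.col {u : ↥(Cfsg.Sz F m)} {d : ℕ} (h : IsUnip hS d u) (hd : 1 < d) :
    (∀ χ ∈ T.EA, (χ : ↥(Cfsg.Sz F m) → ℂ) u =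
      -1 - ((T.W₁ : ↥(Cfsg.Sz F m) → ℂ) u + (T.W₂ : ↥(Cfsg.Sz F m) → ℂ) u)) ∧
    (∀ χ ∈ T.EB, (χ : ↥(Cfsg.Sz F m) → ℂ) u =
      -1 + ((T.W₁ : ↥(Cfsg.Sz F m) → ℂ) u + (T.W₂ : ↥(Cfsg.Sz F m) → ℂ) u)) := by
  classical
  obtain ⟨hneA, hneB⟩ := IsUnip.card_ne h hd
  have hu1 := IsUnip.ne_one h hd
  obtain ⟨-, c, hc⟩ := h
  have hcol : ∀ g, FPF m g → ¬ IsConj g u →
      ∑ χ ∈ D.rest, (χ : ↥(Cfsg.Sz F m) → ℂ) g * conj ((χ : ↥(Cfsg.Sz F m) → ℂ) u) = -1 := by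
    intro g hg hnc
    rw [D.Rcol g u hg, if_neg hnc, st_unip hc hu1, map_zero]
    ring
  have hnc : ∀ g, Nat.card (CS g) ≠ Nat.card (CS u) → ¬ IsConj g u := by
    intro g hne e
    obtain ⟨k, hk⟩ := isConj_iff.1 e
    exact hne (by rw [← hk, card_centralizer_conj])
  have h1 := hcol D.x D.hxF (hnc _ (by rw [D.hxa]; exact hneA.symm))
  have h2 := hcol D.y D.hyF (hnc _ (by rw [D.hyb]; exact hneB.symm))
  rw [T.split, Finset.sum_eq_zero (s := T.EB) (fun χ hχ => by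
      rw [T.sideA.other χ hχ _ D.hxF D.hxa, zero_mul]),
    T.sideA.wval _ (Finset.mem_insert_self _ _) _ D.hxF D.hxa,
    T.sideA.wval _ (Finset.mem_insert_of_mem (Finset.mem_singleton_self _)) _ D.hxF D.hxa] at h1
  rw [T.split, Finset.sum_eq_zero (s := T.EA) (fun χ hχ => by
      rw [T.sideB.other χ hχ _ D.hyF D.hyb, zero_mul]),
    T.sideB.wval _ (Finset.mem_insert_self _ _) _ D.hyF D.hyb,
    T.sideB.wval _ (Finset.mem_insert_of_mem (Finset.mem_singleton_self _)) _ D.hyF D.hyb] at h2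
  constructor
  · intro χ hχ
    have e := h1
    rw [Finset.sum_congr rfl (g := fun ψ : Irr => (ψ : ↥(Cfsg.Sz F m) → ℂ) D.x *
        conj ((χ : ↥(Cfsg.Sz F m) → ℂ) u)) (fun ψ hψ => by rw [T.sideA.eq_out ψ hψ χ hχ u hneA]),
      ← Finset.sum_mul, T.sideA.sum _ D.hxF D.hxa] at e
    have e' := congrArg conj e
    simp only [map_add, map_mul, map_one, map_neg, map_zero, map_intCast, Complex.conj_conj] at e'
    push_cast at e'
    linear_combination e'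
  · intro χ hχ
    have e := h2
    rw [Finset.sum_congr rfl (g := fun ψ : Irr => (ψ : ↥(Cfsg.Sz F m) → ℂ) D.y *
        conj ((χ : ↥(Cfsg.Sz F m) → ℂ) u)) (fun ψ hψ => by rw [T.sideB.eq_out ψ hψ χ hχ u hneB]),
      ← Finset.sum_mul, T.sideB.sum _ D.hyF D.hyb] at e
    have e' := congrArg conj e
    simp only [map_add, map_mul, map_one, map_neg, map_zero, map_intCast, Complex.conj_conj] at e'
    push_cast at e'
    linear_combination e'

include hS in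
theorem exists_int_of_invol {s : ↥(Cfsg.Sz F m)} (hs : orderOf s = 2) (χ : Irr) :
    ∃ z : ℤ, (χ : ↥(Cfsg.Sz F m) → ℂ) s = (z : ℂ) := by
  classical
  letI : Fintype (Subgroup.zpowers s) := Fintype.ofFinite _
  have hs1 : s ≠ 1 := fun e => by rw [e, orderOf_one] at hs; omega
  obtain ⟨N, hN⟩ := IsChar.classInner_nat
    (IsChar.res (IsIrr.isCharacter χ.2) (Subgroup.zpowers s)) IsChar.one
  have hcard : Nat.card (Subgroup.zpowers s) = 2 := by rw [Nat.card_zpowers, hs]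
  have hne : (1 : Subgroup.zpowers s) ≠ ⟨s, Subgroup.mem_zpowers s⟩ :=
    fun e => hs1 (congrArg Subtype.val e).symm
  have huniv : (Finset.univ : Finset (Subgroup.zpowers s)) = {1, ⟨s, Subgroup.mem_zpowers s⟩} := by
    refine (Finset.eq_univ_of_card _ ?_).symm
    rw [Finset.card_pair hne, ← Nat.card_eq_fintype_card, hcard]
  rw [classInner, huniv, Finset.sum_pair hne, hcard] at hN
  simp only [map_one, mul_one, Subgroup.coe_one, Cfsg.Agent.Block.charDeg_spec' χ] at hN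
  refine ⟨2 * (N : ℤ) - charDegree (χ : ↥(Cfsg.Sz F m) → ℂ), ?_⟩
  push_cast at hN ⊢
  linear_combination 2 * hN

include hS in
theorem sum_center_dvd (χ : Irr) {s : ↥(Cfsg.Sz F m)} (hs : IsUnip hS 2 s) {z : ℤ}
    (hz : (χ : ↥(Cfsg.Sz F m) → ℂ) s = (z : ℂ)) :
    (qq : ℤ) ∣ (charDegree (χ : ↥(Cfsg.Sz F m) → ℂ) : ℤ) + ((qq : ℤ) - 1) * z := by
  classical
  obtain ⟨ho, c, hc⟩ := hs
  obtain ⟨b₀, hb₀, hcb⟩ := unip_invol hc (by rw [orderOf_conj' hS, ho])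
  letI : Fintype (Multiplicative F) := Fintype.ofFinite _
  let f : Multiplicative F →* ↥(Cfsg.Sz F m) := MonoidHom.mk' (fun b => uS hS 0 b.toAdd) (fun b b' => by
    simp only [toAdd_mul, uS_mul, th_zero, zero_mul, add_zero])
  obtain ⟨N, hN⟩ := IsChar.classInner_nat (IsChar.comp f (IsIrr.isCharacter χ.2)) IsChar.one
  rw [classInner, inv_mul_eq_iff_eq_mul₀ (Nat.cast_ne_zero.2 Nat.card_pos.ne')] at hN
  simp only [map_one, mul_one] at hN
  rw [← Finset.sum_erase_add _ _ (Finset.mem_univ (1 : Multiplicative F)),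
    Finset.sum_congr rfl (g := fun _ => (z : ℂ)) (fun b hb => by
      have hb' : b.toAdd ≠ 0 := fun e => (Finset.mem_erase.1 hb).1 (toAdd_eq_zero.1 e)
      obtain ⟨g, hg⟩ := isConj_iff.1 (invol_conj hb₀ hb' (hS := hS))
      show (χ : ↥(Cfsg.Sz F m) → ℂ) (uS hS 0 b.toAdd) = _
      rw [← hg, IsIrr.classFun χ.2, ← hcb, IsIrr.classFun χ.2, hz]),
    Finset.sum_const, Finset.card_erase_of_mem (Finset.mem_univ _), Finset.card_univ,
    show f 1 = 1 from map_one f, Cfsg.Agent.Block.charDeg_spec' χ, nsmul_eq_mul,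
    show Nat.card (Multiplicative F) = qq from by
      rw [Nat.card_congr Multiplicative.toAdd, Nat.card_eq_fintype_card, hS.card],
    show Fintype.card (Multiplicative F) = qq from by
      rw [← Nat.card_eq_fintype_card, Nat.card_congr Multiplicative.toAdd, Nat.card_eq_fintype_card,
        hS.card],
    Nat.cast_sub (by have := one_lt_q hS; omega : 1 ≤ qq), Nat.cast_one] at hN
  refine ⟨(N : ℤ), ?_⟩
  apply Int.cast_injective (α := ℂ)
  push_cast at hN ⊢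
  linear_combination hN

set_option maxHeartbeats 800000 in
theorem Table.invol {s : ↥(Cfsg.Sz F m)} (hs : IsUnip hS 2 s) :
    (T.W₁ : ↥(Cfsg.Sz F m) → ℂ) s = -(hh : ℂ) ∧ (T.W₂ : ↥(Cfsg.Sz F m) → ℂ) s = -(hh : ℂ) ∧
    (∀ χ ∈ T.EA, (χ : ↥(Cfsg.Sz F m) → ℂ) s = 2 * (hh : ℂ) - 1) ∧
    (∀ χ ∈ T.EB, (χ : ↥(Cfsg.Sz F m) → ℂ) s = -2 * (hh : ℂ) - 1) := by
  classical
  obtain ⟨hq, hq1, -, -, h2⟩ := casts (hS := hS)
  obtain ⟨hnA, hnB, hnD⟩ := T.cards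
  obtain ⟨hA, hB⟩ := T.col hs one_lt_two
  obtain ⟨w₁, hw₁⟩ := exists_int_of_invol (hS := hS) hs.1 T.W₁
  obtain ⟨w₂, hw₂⟩ := exists_int_of_invol (hS := hS) hs.1 T.W₂
  have hs1 := IsUnip.ne_one hs one_lt_two
  have hdv : ∀ (W : Irr) (w : ℤ), W ∈ D.rest → cof W = hh → (W : ↥(Cfsg.Sz F m) → ℂ) s = (w : ℂ) →
      2 * hh ^ 2 ∣ hh + w := by
    intro W w hW hcW hw
    have h := sum_center_dvd W hs hw
    rw [D.deg hW, hcW, hq, hq1] at h
    obtain ⟨k, hk⟩ := h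
    exact ⟨hh + w - k, by linear_combination (-1 : ℤ) * hk⟩
  have hd1 := hdv _ _ T.hW₁ T.cof₁ hw₁
  have hd2 := hdv _ _ T.hW₂ T.cof₂ hw₂
  -- the norm
  have hcen : Nat.card (CS s) ≤ qq ^ 2 := by
    obtain ⟨-, c, hc⟩ := hs
    rw [← card_centralizer_conj c s, ← card_unip hS]
    exact Nat.le_of_dvd Nat.card_pos (Subgroup.card_dvd_of_le
      (centralizer_unip_le hS hc (fun e => hs1 (by simpa using e))))
  have hnorm := sum_irr_mul_conj (G := ↥(Cfsg.Sz F m)) s s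
  obtain ⟨-, c, hc⟩ := hs
  rw [if_pos (IsConj.refl s), D.split, T.split, st_unip hc hs1,
    Finset.sum_congr rfl (g := fun _ => (1 : ℂ)) (fun χ (hχ : χ ∈ D.B) => by
      rw [B_unip D hχ hc hs1, map_one, mul_one]),
    Finset.sum_congr rfl (g := fun _ => ((((-1 - (w₁ + w₂)) ^ 2 : ℤ)) : ℂ)) (fun χ (hχ : χ ∈ T.EA) => by
      rw [hA χ hχ, hw₁, hw₂]; push_cast; simp only [map_sub, map_add, map_neg, map_one, map_intCast]; ring),
    Finset.sum_congr rfl (g := fun _ => ((((-1 + (w₁ + w₂)) ^ 2 : ℤ)) : ℂ)) (fun χ (hχ : χ ∈ T.EB) => by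
      rw [hB χ hχ, hw₁, hw₂]; push_cast; simp only [map_add, map_neg, map_one, map_intCast]; ring),
    hw₁, hw₂, Finset.sum_const, Finset.sum_const, Finset.sum_const,
    show (triv : Irr).1 s = (1 : ℂ) from rfl] at hnorm
  simp only [map_one, map_zero, map_intCast, nsmul_eq_mul, mul_one, mul_zero, add_zero] at hnorm
  have hnZ : 1 + (D.B.card : ℤ) + ((T.EA.card : ℤ) * (-1 - (w₁ + w₂)) ^ 2 +
      (T.EB.card : ℤ) * (-1 + (w₁ + w₂)) ^ 2 + w₁ * w₁ + w₂ * w₂) ≤ (2 * hh ^ 2) ^ 2 := by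
    have : (Nat.card (CS s) : ℤ) ≤ (2 * hh ^ 2) ^ 2 := by
      rw [← hq]; exact_mod_cast hcen
    refine le_trans (le_of_eq ?_) this
    apply Int.cast_injective (α := ℂ)
    push_cast at hnorm ⊢
    linear_combination hnorm
  set h := hh
  set S := w₁ + w₂ with hSdef
  have hnZ' : 2 * h ^ 2 + h ^ 2 * (1 + S ^ 2) * 2 + 4 * h * S + 2 * w₁ * w₁ + 2 * w₂ * w₂ ≤
      2 * (2 * h ^ 2) ^ 2 := by
    have e : (2 : ℤ) * h ^ 2 + h ^ 2 * (1 + S ^ 2) * 2 + 4 * h * S + 2 * w₁ * w₁ + 2 * w₂ * w₂ =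
        2 * (1 + (D.B.card : ℤ) + ((T.EA.card : ℤ) * (-1 - S) ^ 2 +
          (T.EB.card : ℤ) * (-1 + S) ^ 2 + w₁ * w₁ + w₂ * w₂)) := by
      linear_combination (-1 : ℤ) * hnD - (-1 - S) ^ 2 * hnA - (-1 + S) ^ 2 * hnB
    nlinarith
  -- each value is `-h` or large
  have hkey : ∀ w : ℤ, 2 * h ^ 2 ∣ h + w → w * w ≤ (2 * h ^ 2) ^ 2 → w = -h ∨ w = 2 * h ^ 2 - h := by
    intro w ⟨k, hk⟩ hw
    have hle : -(2 * h ^ 2) ≤ w ∧ w ≤ 2 * h ^ 2 := by constructor <;> nlinarith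
    have hh2 : h < 2 * h ^ 2 := by nlinarith
    rcases lt_trichotomy k 0 with hk0 | rfl | hk0
    · exfalso; nlinarith [mul_le_mul_of_nonneg_left (show k ≤ -1 by omega) (show (0 : ℤ) ≤ 2 * h ^ 2 by positivity)]
    · left; linarith
    · rcases eq_or_lt_of_le (show 1 ≤ k by omega) with rfl | hk1
      · right; linarith
      · exfalso; nlinarith [mul_le_mul_of_nonneg_left (show 2 ≤ k by omega) (show (0 : ℤ) ≤ 2 * h ^ 2 by positivity)]
  have hb1 : w₁ * w₁ ≤ (2 * h ^ 2) ^ 2 := by nlinarith [sq_nonneg (h * S + 1), sq_nonneg h, mul_self_nonneg w₂]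
  have hb2 : w₂ * w₂ ≤ (2 * h ^ 2) ^ 2 := by nlinarith [sq_nonneg (h * S + 1), sq_nonneg h, mul_self_nonneg w₁]
  have hboth : w₁ = -h ∧ w₂ = -h := by
    rcases hkey w₁ hd1 hb1 with e1 | e1 <;> rcases hkey w₂ hd2 hb2 with e2 | e2
    · exact ⟨e1, e2⟩
    all_goals
      exfalso
      have hS2 : 2 * h ≤ S := by rw [hSdef, e1, e2]; nlinarith
      have hS4 : 4 * h ^ 2 ≤ S ^ 2 := by nlinarith
      nlinarith [mul_le_mul_of_nonneg_left hS4 (sq_nonneg h), mul_self_nonneg w₁, mul_self_nonneg w₂]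
  refine ⟨by rw [hw₁, hboth.1]; push_cast; ring, by rw [hw₂, hboth.2]; push_cast; ring, fun χ hχ => ?_,
    fun χ hχ => ?_⟩
  · rw [hA χ hχ, hw₁, hw₂, hboth.1, hboth.2]; push_cast; ring
  · rw [hB χ hχ, hw₁, hw₂, hboth.1, hboth.2]; push_cast; ring

include hS in
theorem exists_invol : ∃ s : ↥(Cfsg.Sz F m), IsUnip hS 2 s := by
  haveI : Fact (Nat.Prime 2) := ⟨Nat.prime_two⟩
  refine ⟨uS hS 0 1, ?_, 1, by simpa using uS_mem hS 0 1⟩
  exact orderOf_eq_prime (by rw [sq, uS_mul, th_zero, zero_mul, add_zero, add_zero,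
    show (1 : F) + 1 = 0 by linear_combination two hS, uS_zero]) (uS_ne_one hS (by simp))

set_option maxHeartbeats 800000 in
theorem Table.four {u : ↥(Cfsg.Sz F m)} (hu : IsUnip hS 4 u) :
    (∀ χ ∈ T.EA, (χ : ↥(Cfsg.Sz F m) → ℂ) u = -1) ∧ (∀ χ ∈ T.EB, (χ : ↥(Cfsg.Sz F m) → ℂ) u = -1) ∧
    (T.W₂ : ↥(Cfsg.Sz F m) → ℂ) u = -(T.W₁ : ↥(Cfsg.Sz F m) → ℂ) u ∧
    (T.W₁ : ↥(Cfsg.Sz F m) → ℂ) u ^ 2 = -(hh : ℂ) ^ 2 := by
  classical
  obtain ⟨hnA, hnB, hnD⟩ := T.cards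
  have hnA' : (T.EA.card : ℂ) * 2 = (hh : ℂ) ^ 2 + (hh : ℂ) := by exact_mod_cast hnA
  have hnB' : (T.EB.card : ℂ) * 2 = (hh : ℂ) ^ 2 - (hh : ℂ) := by exact_mod_cast hnB
  have hnD' : 2 * (D.B.card : ℂ) + 2 = 2 * (hh : ℂ) ^ 2 := by exact_mod_cast hnD
  obtain ⟨hA, hB⟩ := T.col hu (by norm_num)
  obtain ⟨s, hs⟩ := exists_invol (hS := hS)
  obtain ⟨s1, s2, sA, sB⟩ := T.invol hs
  have hu1 := IsUnip.ne_one hu (by norm_num)
  have hs1 := IsUnip.ne_one hs one_lt_two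
  obtain ⟨ho, c, hc⟩ := hu
  obtain ⟨hso, cs, hcs⟩ := hs
  set S := (T.W₁ : ↥(Cfsg.Sz F m) → ℂ) u + (T.W₂ : ↥(Cfsg.Sz F m) → ℂ) u with hSdef
  have h := sum_irr_mul_conj (G := ↥(Cfsg.Sz F m)) u s
  rw [if_neg (fun e => by
      obtain ⟨k, hk⟩ := isConj_iff.1 e
      have := congrArg orderOf hk
      rw [orderOf_conj' hS, ho, hso] at this
      omega), D.split, T.split, st_unip hc hu1,
    Finset.sum_congr rfl (g := fun _ => (1 : ℂ)) (fun χ (hχ : χ ∈ D.B) => by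
      rw [B_unip D hχ hc hu1, B_unip D hχ hcs hs1, map_one, mul_one]),
    Finset.sum_congr rfl (g := fun _ => (-1 - S) * (2 * (hh : ℂ) - 1)) (fun χ (hχ : χ ∈ T.EA) => by
      rw [hA χ hχ, sA χ hχ]; simp [map_ofNat, map_intCast]),
    Finset.sum_congr rfl (g := fun _ => (-1 + S) * (-2 * (hh : ℂ) - 1)) (fun χ (hχ : χ ∈ T.EB) => by
      rw [hB χ hχ, sB χ hχ]; simp [map_ofNat, map_intCast]),
    s1, s2, Finset.sum_const, Finset.sum_const, Finset.sum_const,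
    show (triv : Irr).1 u = (1 : ℂ) from rfl, show (triv : Irr).1 s = (1 : ℂ) from rfl] at h
  simp only [map_one, map_neg, map_intCast, nsmul_eq_mul, mul_one, zero_mul, add_zero] at h
  have hS0 : S = 0 := by
    have : (hh : ℂ) ^ 3 * S = 0 := by
      linear_combination (-(1 : ℂ) / 2) * h + (1 / 4 : ℂ) * hnD' +
        (1 / 4 : ℂ) * (-1 - S) * (2 * (hh : ℂ) - 1) * hnA' +
        (1 / 4 : ℂ) * (-1 + S) * (-2 * (hh : ℂ) - 1) * hnB'
    rcases mul_eq_zero.1 this with e | e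
    · exfalso
      have := pow_eq_zero_iff (three_ne_zero) |>.1 e
      have h2 := (casts (hS := hS)).2.2.2.2
      rw [Int.cast_eq_zero] at this
      omega
    · exact e
  have hW2 : (T.W₂ : ↥(Cfsg.Sz F m) → ℂ) u = -(T.W₁ : ↥(Cfsg.Sz F m) → ℂ) u := by
    linear_combination hS0
  have hA' : ∀ χ ∈ T.EA, (χ : ↥(Cfsg.Sz F m) → ℂ) u = -1 := fun χ hχ => by rw [hA χ hχ, hS0, sub_zero]
  have hB' : ∀ χ ∈ T.EB, (χ : ↥(Cfsg.Sz F m) → ℂ) u = -1 := fun χ hχ => by rw [hB χ hχ, hS0, add_zero]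
  refine ⟨hA', hB', hW2, ?_⟩
  have hreal : ¬ IsConj u u⁻¹ := by
    intro e
    have h' : IsConj (c * u * c⁻¹) (c * u * c⁻¹)⁻¹ := by
      obtain ⟨k, hk⟩ := isConj_iff.1 e
      rw [isConj_iff]
      refine ⟨c * k * c⁻¹, ?_⟩
      rw [show c * k * c⁻¹ * (c * u * c⁻¹) * (c * k * c⁻¹)⁻¹ = c * (k * u * k⁻¹) * c⁻¹ by group, hk]
      group
    have := (real_iff hS hc (fun e => hu1 (by simpa using e))).1 h'
    rw [orderOf_conj' hS, ho] at this
    omega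
  have h' := sum_irr_mul_conj (G := ↥(Cfsg.Sz F m)) u u⁻¹
  rw [if_neg hreal] at h'
  simp only [IsIrr.apply_inv (Subtype.prop _), Complex.conj_conj] at h'
  rw [D.split, T.split, st_unip hc hu1,
    Finset.sum_congr rfl (g := fun _ => (1 : ℂ)) (fun χ (hχ : χ ∈ D.B) => by rw [B_unip D hχ hc hu1, mul_one]),
    Finset.sum_congr rfl (g := fun _ => (1 : ℂ)) (fun χ (hχ : χ ∈ T.EA) => by rw [hA' χ hχ]; norm_num),
    Finset.sum_congr rfl (g := fun _ => (1 : ℂ)) (fun χ (hχ : χ ∈ T.EB) => by rw [hB' χ hχ]; norm_num),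
    hW2, Finset.sum_const, Finset.sum_const, Finset.sum_const,
    show (triv : Irr).1 u = (1 : ℂ) from rfl] at h'
  simp only [nsmul_eq_mul, mul_one, zero_mul, add_zero] at h'
  linear_combination (1 / 2 : ℂ) * h' - (1 / 4 : ℂ) * hnD' - (1 / 4 : ℂ) * hnA' - (1 / 4 : ℂ) * hnB'

end Cfsg.Agent.SzTab
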