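import Cfsg.Agent.Lib.Block.SuzukiDegree.Main
import Cfsg.Agent.Lib.Lie.Sz.Sylow

/-!
# Preliminary facts for the character table of the Suzuki groups

Inversion inside the fixed point free tori, involutions of the radical, vanishing of the
remaining characters on the split torus and the shape of the characters of degree `q ^ 2 + 1`.
-/

set_option autoImplicit false

namespace Cfsg.Agent.SzTab

open scoped ComplexConjugate
open Cfsg Cfsg.Agent.Suz Cfsg.Agent.Char Cfsg.Agent.Block.SzDeg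
open Cfsg.Agent.Block.SL2Char (cv cv_mul cv_one cv_inv conj_cv sum_mul_conj_cv)

variable {F : Type*} [Field F] {m : ℕ} [Fintype F] [DecidableEq F] (hS : SzField F m)
variable [Fintype ↥(Cfsg.Sz F m)]

set_option quotPrecheck false in
local notation "CS" x => Subgroup.centralizer ({x} : Set ↥(Cfsg.Sz F m))
set_option quotPrecheck false in
local notation "qq" => (2 ^ (2 * m + 1) : ℕ)

include hS in
theorem isConj_inv_of_tor {x : ↥(Cfsg.Sz F m)} (hx : FPF m x)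
    (hN : Nat.card (Subgroup.normalizer ((CS x) : Set ↥(Cfsg.Sz F m))) = 4 * Nat.card (CS x))
    {k : ↥(Cfsg.Sz F m)} (hk : k ∈ (CS x)) : IsConj k k⁻¹ := by
  obtain ⟨hTI, hlt, hC, hab, -⟩ := torus_data hS hx hN
  haveI : Fact (Nat.Prime 2) := ⟨Nat.prime_two⟩
  obtain ⟨t, ht⟩ := exists_prime_orderOf_dvd_card'
    (G := ↥(Subgroup.normalizer ((CS x) : Set ↥(Cfsg.Sz F m)))) 2 (by rw [hN]; exact Dvd.intro_left _ (by ring : 2 * Nat.card (CS x) * 2 = 4 * Nat.card (CS x)))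
  have ht2 : ((t : ↥(Cfsg.Sz F m))) * t = 1 := by
    rw [← Subgroup.coe_mul, ← sq, ← ht, pow_orderOf_eq_one, Subgroup.coe_one]
  have hnot : (t : ↥(Cfsg.Sz F m)) ∉ (CS x) := by
    intro h
    have hdvd : 2 ∣ Nat.card (CS x) := by
      rw [← ht, ← Subgroup.orderOf_coe t]
      exact Subgroup.orderOf_dvd_natCard _ h
    have hd := card_dvd_of_FPF hS (CS x) fun j hj hj1 =>
      FPF.of_comm hS hx (Subgroup.mem_centralizer_singleton_iff.1 hj) hj1
    exact (Nat.not_even_iff_odd.2 (dvd_coprime hd).1) (even_iff_two_dvd.2 hdvd)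
  have hmem : (t : ↥(Cfsg.Sz F m)) * k * (t : ↥(Cfsg.Sz F m))⁻¹ ∈ (CS x) :=
    (Subgroup.mem_normalizer_iff.1 t.2 k).1 hk
  have hti : (t : ↥(Cfsg.Sz F m))⁻¹ = t := inv_eq_of_mul_eq_one_right ht2
  rw [hti] at hmem
  have hfix : (t : ↥(Cfsg.Sz F m)) * (k * ((t : ↥(Cfsg.Sz F m)) * k * t)) =
      (k * ((t : ↥(Cfsg.Sz F m)) * k * t)) * t := by
    have e1 : (t : ↥(Cfsg.Sz F m)) * (k * ((t : ↥(Cfsg.Sz F m)) * k * (t : ↥(Cfsg.Sz F m)))) = k * (t : ↥(Cfsg.Sz F m)) * k := by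
      rw [hab k hk _ hmem]
      calc (t : ↥(Cfsg.Sz F m)) * ((t : ↥(Cfsg.Sz F m)) * k * (t : ↥(Cfsg.Sz F m)) * k) = ((t : ↥(Cfsg.Sz F m)) * (t : ↥(Cfsg.Sz F m))) * k * (t : ↥(Cfsg.Sz F m)) * k := by simp only [mul_assoc]
        _ = _ := by rw [ht2, one_mul]
    have e2 : k * ((t : ↥(Cfsg.Sz F m)) * k * (t : ↥(Cfsg.Sz F m))) * (t : ↥(Cfsg.Sz F m)) = k * (t : ↥(Cfsg.Sz F m)) * k := by
      calc k * ((t : ↥(Cfsg.Sz F m)) * k * (t : ↥(Cfsg.Sz F m))) * (t : ↥(Cfsg.Sz F m)) = k * (t : ↥(Cfsg.Sz F m)) * k * ((t : ↥(Cfsg.Sz F m)) * (t : ↥(Cfsg.Sz F m))) := by simp only [mul_assoc]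
        _ = _ := by rw [ht2, mul_one]
    rw [e1, e2]
  have h1 : k * ((t : ↥(Cfsg.Sz F m)) * k * t) = 1 := by
    by_contra hne
    exact hnot (hC _ (mul_mem hk hmem) hne (Subgroup.mem_centralizer_singleton_iff.2 hfix))
  rw [isConj_iff]
  exact ⟨t, by rw [hti]; exact eq_inv_of_mul_eq_one_right h1⟩

include hS in
theorem isConj_inv_of_FPF {k : ↥(Cfsg.Sz F m)} (hk : FPF m k) : IsConj k k⁻¹ := by
  obtain ⟨x, y, ⟨hxF, -, hxN⟩, ⟨hyF, -, hyN⟩, hall⟩ := exists_tori hS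
  have key : ∀ u, FPF m u → Nat.card (Subgroup.normalizer ((CS u) : Set ↥(Cfsg.Sz F m))) =
      4 * Nat.card (CS u) → k ∈ conjSet (CS u) → IsConj k k⁻¹ := by
    intro u hu hN hmem
    obtain ⟨g, a, ha, -, rfl⟩ := hmem
    obtain ⟨c, hc⟩ := isConj_iff.1 (isConj_inv_of_tor hS hu hN ha)
    rw [isConj_iff]
    exact ⟨g * c * g⁻¹, by
      rw [show g * c * g⁻¹ * (g * a * g⁻¹) * (g * c * g⁻¹)⁻¹ = g * (c * a * c⁻¹) * g⁻¹ by group, hc]
      group⟩
  rcases hall k hk with h | h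
  exacts [key x hxF hxN h, key y hyF hyN h]

include hS in
/-- The characters that are not `triv`, `St` or induced from the stabiliser vanish on the torus. -/
theorem psi_or_vanish (χ : IrrCharacter ↥(Cfsg.Sz F m)) (h1 : χ ≠ triv) (h2 : χ ≠ stIrr hS) :
    (∃ l : Fˣ →* ℂˣ, l ≠ 1 ∧ (χ : ↥(Cfsg.Sz F m) → ℂ) = psi hS l) ∨
      ∀ z : Fˣ, z ≠ 1 → (χ : ↥(Cfsg.Sz F m) → ℂ) (hTor hS z) = 0 := by
  classical
  letI : Fintype (borel m F) := Fintype.ofFinite _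
  by_cases hp : ∃ l : Fˣ →* ℂˣ, l ≠ 1 ∧ (χ : ↥(Cfsg.Sz F m) → ℂ) = psi hS l
  · exact Or.inl hp
  right
  push Not at hp
  have horth : ∀ k : Fˣ →* ℂˣ, classInner (χ : ↥(Cfsg.Sz F m) → ℂ) (psi hS k) = 0 := by
    intro k
    by_cases hk : k = 1
    · subst hk
      rw [show psi hS 1 = (fun _ => (1 : ℂ)) + stF hS from by rw [stF]; abel, classInner_add_right,
        classInner_irr_ne χ.2 isIrr_one (fun e => h1 (Subtype.ext e)),
        classInner_irr_ne χ.2 (stF_irr hS) (fun e => h2 (Subtype.ext e)), add_zero]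
    · exact classInner_irr_ne χ.2 (psi_irr hS hk) (hp k hk)
  set T : Fˣ → ℂ := fun z => ∑ p : F × F, (χ : ↥(Cfsg.Sz F m) → ℂ) (bEquiv hS (p, z)) with hT
  have hT0 : T = 0 := by
    refine eq_zero_of_orth_irr (fun a b => by rw [mul_comm b a, mul_inv_cancel_right]) fun θ hθ => ?_
    obtain ⟨k, hk⟩ := linearHom_of_isCharacter (IsIrr.isCharacter hθ)
      (IsIrr.one_of_comm (fun a b => mul_comm a b) hθ)
    have hk' : θ = fun z => (k z : ℂ) := hk
    have e := horth k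
    rw [psi, classInner_indFun_right _ _ (IsIrr.classFun χ.2), classInner] at e
    have e' := (mul_eq_zero.1 e).resolve_left (inv_ne_zero (Nat.cast_ne_zero.2 Nat.card_pos.ne'))
    rw [← Equiv.sum_comp (bEquiv hS), Fintype.sum_prod_type, Finset.sum_comm] at e'
    rw [classInner, hk', mul_eq_zero]
    right
    rw [← e']
    refine Finset.sum_congr rfl fun z _ => ?_
    rw [hT, Finset.sum_mul]
    refine Finset.sum_congr rfl fun p _ => ?_
    show _ = _ * conj (cv k (pr hS (bEquiv hS (p, z))))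
    rw [pr_bEquiv]
  intro z hz
  have e := congrFun hT0 z
  rw [hT, Pi.zero_apply] at e
  simp only at e
  rw [Finset.sum_congr rfl (g := fun _ => (χ : ↥(Cfsg.Sz F m) → ℂ) (hTor hS z)) (fun p _ => by
    obtain ⟨v, -, hv⟩ := exists_unip_conj hS (b := bEquiv hS (p, z)) (pr_bEquiv hS (p, z)) hz
    rw [hv, IsIrr.classFun χ.2 (hTor hS z) v]), Finset.sum_const, nsmul_eq_mul] at e
  exact (mul_eq_zero.1 e).resolve_left
    (Nat.cast_ne_zero.2 (Finset.card_pos.2 ⟨(0, 0), Finset.mem_univ _⟩).ne')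

include hS in
theorem dvd_deg_of_vanish (χ : IrrCharacter ↥(Cfsg.Sz F m))
    (h : ∀ z : Fˣ, z ≠ 1 → (χ : ↥(Cfsg.Sz F m) → ℂ) (hTor hS z) = 0) :
    (qq - 1) ∣ charDegree (χ : ↥(Cfsg.Sz F m) → ℂ) := by
  classical
  obtain ⟨n, hn⟩ := IsChar.classInner_nat (IsChar.comp (torHom hS) (IsIrr.isCharacter χ.2)) IsChar.one
  rw [classInner, Fintype.sum_eq_single 1 (fun z hz => by
    show (χ : ↥(Cfsg.Sz F m) → ℂ) (hTor hS z) * _ = 0
    rw [h z hz, zero_mul]), map_one, map_one, mul_one, Cfsg.Agent.Block.charDeg_spec' χ, Nat.card_units,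
    Nat.card_eq_fintype_card, hS.card,
    inv_mul_eq_iff_eq_mul₀ (Nat.cast_ne_zero.2 (by have := one_lt_q hS; omega)), ← Nat.cast_mul,
    Nat.cast_inj] at hn
  exact ⟨n, hn⟩

include hS in
theorem not_dvd_succ : ¬ (qq - 1) ∣ qq ^ 2 + 1 := by
  intro h
  have hq : 8 ≤ qq := one_lt_q hS
  generalize qq = q at h hq
  obtain ⟨k, rfl⟩ : ∃ k, q = k + 1 := ⟨q - 1, by omega⟩
  rw [Nat.add_sub_cancel, show (k + 1) ^ 2 + 1 = k * (k + 2) + 2 by ring,
    Nat.dvd_add_right (dvd_mul_right _ _)] at h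
  have := Nat.le_of_dvd (by norm_num) h
  omega

variable {hS}
variable (D : Setup hS)

theorem exists_eq_psi {χ : IrrCharacter ↥(Cfsg.Sz F m)} (hχ : χ ∈ D.B) :
    ∃ l : Fˣ →* ℂˣ, (χ : ↥(Cfsg.Sz F m) → ℂ) = psi hS l := by
  have hq := one_lt_q hS
  have hd := D.hB.deg χ hχ
  have h1 : χ ≠ triv := by
    rintro rfl
    rw [show (triv : IrrCharacter ↥(Cfsg.Sz F m)).1 1 = (1 : ℂ) from rfl, eq_comm, Nat.cast_eq_one] at hd
    have : 0 < qq ^ 2 := by positivity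
    omega
  have h2 : χ ≠ stIrr hS := by
    rintro rfl
    rw [show (stIrr hS).1 1 = stF hS 1 from rfl, stF_one hS, Nat.cast_inj] at hd
    omega
  rcases psi_or_vanish hS χ h1 h2 with ⟨l, -, hl⟩ | h
  · exact ⟨l, hl⟩
  · refine absurd ?_ (not_dvd_succ hS)
    rw [← charDegree_of hd]
    exact dvd_deg_of_vanish hS χ h

theorem B_unip {χ : IrrCharacter ↥(Cfsg.Sz F m)} (hχ : χ ∈ D.B) {u c : ↥(Cfsg.Sz F m)}
    (hu : c * u * c⁻¹ ∈ unip hS) (hu1 : u ≠ 1) : (χ : ↥(Cfsg.Sz F m) → ℂ) u = 1 := by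
  obtain ⟨l, hl⟩ := exists_eq_psi D hχ
  rw [hl, ← psi_classFun hS l u c]
  exact psi_unip hS l hu (fun e => hu1 (by simpa using e))

theorem B_tor_norm_le {χ : IrrCharacter ↥(Cfsg.Sz F m)} (hχ : χ ∈ D.B) {t c : ↥(Cfsg.Sz F m)}
    {z : Fˣ} (hz : z ≠ 1) (ht : c * t * c⁻¹ = hTor hS z) :
    ‖(χ : ↥(Cfsg.Sz F m) → ℂ) t‖ ≤ 2 := by
  obtain ⟨l, hl⟩ := exists_eq_psi D hχ
  rw [hl, ← psi_classFun hS l t c, ht, psi_hTor hS l hz]
  have h1 : ∀ w : Fˣ, ‖cv l w‖ = 1 := fun w => by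
    refine Complex.norm_eq_one_of_pow_eq_one (n := Nat.card Fˣ) ?_ Nat.card_pos.ne'
    show ((l w : ℂˣ) : ℂ) ^ _ = 1
    rw [← Units.val_pow_eq_pow_val, ← map_pow, pow_card_eq_one', map_one, Units.val_one]
  exact (norm_add_le _ _).trans (by rw [h1, h1]; norm_num)

theorem rest_tor {χ : IrrCharacter ↥(Cfsg.Sz F m)} (hχ : χ ∈ D.rest) {t c : ↥(Cfsg.Sz F m)}
    {z : Fˣ} (hz : z ≠ 1) (ht : c * t * c⁻¹ = hTor hS z) :
    (χ : ↥(Cfsg.Sz F m) → ℂ) t = 0 := by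
  obtain ⟨h1, h2, h3⟩ := (D.mem_rest χ).1 hχ
  rw [← IsIrr.classFun χ.2 t c, ht]
  rcases psi_or_vanish hS χ h1 h2 with ⟨l, hl1, hl⟩ | h
  · exfalso
    have hq := one_lt_q hS
    have hd := D.hB.rest χ h1 h2 h3
    rw [hl, charDegree_of (psi_one hS l)] at hd
    exact not_dvd_succ hS hd
  · exact h z hz

theorem st_unip {u c : ↥(Cfsg.Sz F m)} (hu : c * u * c⁻¹ ∈ unip hS) (hu1 : u ≠ 1) :
    (stIrr hS : ↥(Cfsg.Sz F m) → ℂ) u = 0 := by
  show psi hS 1 u - 1 = 0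
  rw [← psi_classFun hS 1 u c, psi_unip hS 1 hu (fun e => hu1 (by simpa using e)), sub_self]

theorem st_tor {t c : ↥(Cfsg.Sz F m)} {z : Fˣ} (hz : z ≠ 1) (ht : c * t * c⁻¹ = hTor hS z) :
    (stIrr hS : ↥(Cfsg.Sz F m) → ℂ) t = 1 := by
  show psi hS 1 t - 1 = 1
  rw [← psi_classFun hS 1 t c, ht, psi_hTor hS 1 hz]
  simp [cv]

omit [DecidableEq F] [Fintype ↥(Cfsg.Sz F m)] in
/-- An involution of the radical has first coordinate zero. -/
theorem unip_invol {u : ↥(Cfsg.Sz F m)} (hu : u ∈ unip hS) (h2 : orderOf u = 2) :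
    ∃ b : F, b ≠ 0 ∧ u = uS hS 0 b := by
  obtain ⟨a, b, rfl⟩ := (mem_unip hS).1 hu
  have ha : a = 0 := by_contra fun ha => by
    have h1 : uS hS a b ≠ 1 := uS_ne_one hS (by simp [ha])
    exact not_real hS ha ((real_iff hS hu h1).2 h2)
  subst ha
  exact ⟨b, fun e => by rw [e, uS_zero, orderOf_one] at h2; omega, rfl⟩

omit [DecidableEq F] [Fintype ↥(Cfsg.Sz F m)] in
/-- Involutions of the radical are conjugate under the torus. -/
theorem invol_conj {b b' : F} (hb : b ≠ 0) (hb' : b' ≠ 0) :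
    IsConj (uS hS 0 b) (uS hS 0 b') := by
  classical
  obtain ⟨z, hz⟩ := Finite.surjective_of_injective
    (f := fun z : Fˣ => (Units.mk0 (th m (z : F)) (th_ne_zero z.ne_zero)))
    (fun z w e => Units.ext (th_inj hS (congrArg Units.val e))) (Units.mk0 (b' / b) (div_ne_zero hb' hb))
  rw [isConj_iff]
  refine ⟨hTor hS z, ?_⟩
  rw [hTor_conj, mul_zero]
  congr 1
  have := congrArg Units.val hz
  simp only [Units.val_mk0] at this
  rw [this, div_mul_cancel₀ _ hb]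

end Cfsg.Agent.SzTab
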