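import Cfsg.Agent.Lib.Classical.SzTableBase

/-!
# The character table of the Suzuki groups on the fixed point free tori
-/

set_option autoImplicit false

namespace Cfsg.Agent.SzTab

open scoped ComplexConjugate
open Cfsg Cfsg.Agent.Suz Cfsg.Agent.Char Cfsg.Agent.Block.SzDeg

variable {F : Type*} [Field F] {m : ℕ} [Fintype F] [DecidableEq F] {hS : SzField F m}
variable [Fintype ↥(Cfsg.Sz F m)]

set_option quotPrecheck false in
local notation "CS" x => Subgroup.centralizer ({x} : Set ↥(Cfsg.Sz F m))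
set_option quotPrecheck false in
local notation "qq" => (2 ^ (2 * m + 1) : ℕ)
set_option quotPrecheck false in
local notation "Irr" => IrrCharacter ↥(Cfsg.Sz F m)

/-- The values on the elements whose centraliser is a torus of order `c`. -/
structure Side (c : ℕ) (E O W : Finset Irr) (w : ℤ) : Prop where
  card : E.card * 4 + 1 = c
  eq_out : ∀ ψ ∈ E, ∀ φ ∈ E, ∀ g : ↥(Cfsg.Sz F m), Nat.card (CS g) ≠ c →
    (ψ : ↥(Cfsg.Sz F m) → ℂ) g = (φ : ↥(Cfsg.Sz F m) → ℂ) g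
  sum : ∀ k : ↥(Cfsg.Sz F m), FPF m k → Nat.card (CS k) = c →
    ∑ χ ∈ E, (χ : ↥(Cfsg.Sz F m) → ℂ) k = 1
  sumSq : ∀ k : ↥(Cfsg.Sz F m), FPF m k → Nat.card (CS k) = c →
    ∑ χ ∈ E, (χ : ↥(Cfsg.Sz F m) → ℂ) k * conj ((χ : ↥(Cfsg.Sz F m) → ℂ) k) = (((c : ℤ) - 4 : ℤ) : ℂ)
  other : ∀ χ ∈ O, ∀ k : ↥(Cfsg.Sz F m), FPF m k → Nat.card (CS k) = c →
    (χ : ↥(Cfsg.Sz F m) → ℂ) k = 0
  wval : ∀ χ ∈ W, ∀ k : ↥(Cfsg.Sz F m), FPF m k → Nat.card (CS k) = c →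
    (χ : ↥(Cfsg.Sz F m) → ℂ) k = (w : ℂ)

variable (D : Setup hS)

/-- The arithmetic input. -/
structure SideHyp (u : ↥(Cfsg.Sz F m)) (c : ℕ) (e o w : ℤ) : Prop where
  fpf : FPF m u
  hN : Nat.card (Subgroup.normalizer ((CS u) : Set ↥(Cfsg.Sz F m))) = 4 * Nat.card (CS u)
  hc : Nat.card (CS u) = c
  cls : ∀ k : ↥(Cfsg.Sz F m), FPF m k → Nat.card (CS k) = c →
    ∃ g a : ↥(Cfsg.Sz F m), a ∈ (CS u) ∧ a ≠ 1 ∧ k = g * a * g⁻¹
  mem : ∀ χ ∈ D.rest, cof χ = e ∨ cof χ = o ∨ cof χ = ((2 ^ m : ℕ) : ℤ)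
  ne : e ≠ o ∧ e ≠ ((2 ^ m : ℕ) : ℤ) ∧ o ≠ ((2 ^ m : ℕ) : ℤ)
  ce : (c : ℤ) ∣ ((qq - 1 : ℕ) : ℤ) * e + 4
  co : (c : ℤ) ∣ ((qq - 1 : ℕ) : ℤ) * o
  cw : (c : ℤ) ∣ ((qq - 1 : ℕ) : ℤ) * ((2 ^ m : ℕ) : ℤ) - w
  hw : w = 1 ∨ w = -1

theorem eq_zero_of_dvd_small {c : ℕ} {z : ℤ} (h : (c : ℤ) ∣ z) (hlt : |z| < c) : z = 0 :=
  Int.eq_zero_of_abs_lt_dvd h hlt

theorem dvd_of_dvd_eq {c a b : ℤ} (h : c ∣ a) (e : a = b) : c ∣ b := e ▸ h

theorem abs_le_one_of_sq_le {v : ℤ} (h : v ^ 2 ≤ 3) : -1 ≤ v ∧ v ≤ 1 := by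
  constructor <;> nlinarith

theorem side_large {u : ↥(Cfsg.Sz F m)} {c : ℕ} {e o w : ℤ} (H : SideHyp D u c e o w)
    (hc13 : 13 ≤ c) :
    Side c (D.rest.filter fun χ => cof χ = e) (D.rest.filter fun χ => cof χ = o)
      (D.rest.filter fun χ => cof χ = ((2 ^ m : ℕ) : ℤ)) w ∧
    (D.rest.filter fun χ => cof χ = ((2 ^ m : ℕ) : ℤ)).card = 2 := by
  classical
  obtain ⟨hu, hN, hc, hcls, hmem, ⟨heo, hew, how⟩, hce, hco, hcw, hw⟩ := H
  obtain ⟨hTI, hlt, hC, hab, hi⟩ := torus_data hS hu hN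
  obtain ⟨X⟩ := exists_excData (CS u) hTI hlt hC hab hi (by rw [hc]; omega) (by rw [hc]; omega)
  have hu1 : u ≠ 1 := hu.ne_one
  have humem := self_mem_cs hS u
  have hXS := D.exc_rest hu X
  have hn : X.E.card * 4 + 1 = c := hc ▸ X.card
  choose v hv using fun χ : {χ // χ ∉ X.E} => X.others χ.1 χ.2
  set vv : Irr → ℤ := fun χ => if h : χ ∉ X.E then v ⟨χ, h⟩ else 0 with hvv
  have hvx : ∀ χ, χ ∉ X.E → ∀ k ∈ (CS u), k ≠ 1 → (χ : ↥(Cfsg.Sz F m) → ℂ) k = (vv χ : ℂ) := by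
    intro χ hχ k hk hk1
    rw [hvv]; simp only [dif_pos hχ]
    exact hv ⟨χ, hχ⟩ k hk hk1
  have hcong : ∀ χ ∈ D.rest, χ ∉ X.E → (c : ℤ) ∣ ((qq - 1 : ℕ) : ℤ) * cof χ - vv χ := by
    intro χ hχ hχE
    have h := dvd_deg_sub (CS u) χ (v := vv χ) (hvx χ hχE)
    rwa [hc, D.deg hχ] at h
  -- the norm at `u`
  have hR := D.Rnorm hu
  rw [← Finset.sum_sdiff hXS, X.sumSq u humem hu1,
    Finset.sum_congr rfl (g := fun χ => ((vv χ ^ 2 : ℤ) : ℂ)) (fun χ hχ => by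
      rw [hvx χ (Finset.mem_sdiff.1 hχ).2 u humem hu1, map_intCast]; push_cast; ring),
    hc, ← Int.cast_sum, ← Int.cast_natCast (R := ℂ) c, ← Int.cast_ofNat (R := ℂ) 2,
    ← Int.cast_sub, ← Int.cast_add, Int.cast_inj] at hR
  push_cast at hR
  obtain ⟨ψ₀, hψ₀⟩ : X.E.Nonempty := Finset.card_pos.1 (by omega)
  have hdeg : ∀ ψ ∈ X.E, cof ψ = cof ψ₀ := fun ψ hψ => Setup.exc_cof hu X hψ hψ₀ D
  -- the congruence of the exceptional degree
  have hExc : (c : ℤ) ∣ ((qq - 1 : ℕ) : ℤ) * cof ψ₀ - 4 * X.ε - X.z := by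
    letI : Fintype (CS u) := Fintype.ofFinite _
    choose N hN' using fun ψ : Irr =>
      IsChar.classInner_nat (IsChar.res (IsIrr.isCharacter ψ.2) (CS u)) IsChar.one
    have hsum : ∀ ψ : Irr, ∑ k : (CS u), (ψ : ↥(Cfsg.Sz F m) → ℂ) k = (c : ℂ) * (N ψ : ℂ) := by
      intro ψ
      have h := hN' ψ
      rw [classInner, inv_mul_eq_iff_eq_mul₀ (Nat.cast_ne_zero.2 Nat.card_pos.ne'), hc] at h
      rw [← h]
      exact Finset.sum_congr rfl fun k _ => by simp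
    have h2 : ∑ k : (CS u), ∑ ψ ∈ X.E, (ψ : ↥(Cfsg.Sz F m) → ℂ) k =
        (X.E.card : ℂ) * (((qq - 1 : ℕ) : ℂ) * (cof ψ₀ : ℂ)) +
          ((c : ℂ) - 1) * ((-X.ε + X.E.card * X.z : ℤ) : ℂ) := by
      rw [← Finset.sum_erase_add _ _ (Finset.mem_univ (1 : (CS u))),
        Finset.sum_congr rfl (g := fun _ => ((-X.ε + X.E.card * X.z : ℤ) : ℂ)) (fun (k : ↥(CS u)) (hk : k ∈ Finset.univ.erase (1 : (CS u))) =>
          X.sum (k : ↥(Cfsg.Sz F m)) (show (k : ↥(Cfsg.Sz F m)) ∈ (CS u) from (k : (CS u)).2) fun e => (Finset.mem_erase.1 hk).1 (Subtype.ext e)),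
        Finset.sum_const, Finset.card_erase_of_mem (Finset.mem_univ _), Finset.card_univ,
        ← Nat.card_eq_fintype_card, hc, nsmul_eq_mul, Nat.cast_sub (by omega : 1 ≤ c), Nat.cast_one,
        show (∑ ψ ∈ X.E, (ψ : ↥(Cfsg.Sz F m) → ℂ) ((1 : (CS u)) : ↥(Cfsg.Sz F m))) =
          (X.E.card : ℂ) * (((qq - 1 : ℕ) : ℂ) * (cof ψ₀ : ℂ)) from by
            simp only [Subgroup.coe_one]
            rw [Finset.sum_congr rfl (g := fun _ => ((qq - 1 : ℕ) : ℂ) * (cof ψ₀ : ℂ)) (fun ψ hψ => by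
                rw [D.val1 (hXS ψ hψ), hdeg ψ hψ]), Finset.sum_const, nsmul_eq_mul]]
      ring
    rw [Finset.sum_comm, Finset.sum_congr rfl (fun ψ _ => hsum ψ), ← Finset.mul_sum] at h2
    have h3 : (c : ℤ) * ∑ ψ ∈ X.E, (N ψ : ℤ) =
        (X.E.card : ℤ) * (((qq - 1 : ℕ) : ℤ) * cof ψ₀) + ((c : ℤ) - 1) * (-X.ε + X.E.card * X.z) := by
      apply Int.cast_injective (α := ℂ)
      simp only [Int.cast_mul, Int.cast_sum, Int.cast_natCast, Int.cast_add, Int.cast_sub,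
        Int.cast_one] at h2 ⊢
      exact h2
    have hnZ : (X.E.card : ℤ) * 4 + 1 = c := by exact_mod_cast hn
    refine ⟨((qq - 1 : ℕ) : ℤ) * cof ψ₀ - 4 * (∑ ψ ∈ X.E, (N ψ : ℤ)) + 4 * X.E.card * X.z -
      4 * X.ε - X.z, ?_⟩
    linear_combination 4 * h3 + (((qq - 1 : ℕ) : ℤ) * cof ψ₀ - X.z) * hnZ
  have hψ₀r := hmem ψ₀ (hXS ψ₀ hψ₀)
  have hW0 : 0 ≤ ∑ χ ∈ D.rest \ X.E, vv χ ^ 2 := Finset.sum_nonneg fun _ _ => sq_nonneg _
  have hn3 : (3 : ℤ) ≤ X.E.card := by exact_mod_cast (show 3 ≤ X.E.card by omega)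
  have hzb : -1 ≤ X.z ∧ X.z ≤ 1 := by
    rcases X.sign with h | h <;> rw [h] at hR <;> constructor <;>
      nlinarith [mul_le_mul_of_nonneg_right hn3 (sq_nonneg X.z)]
  -- no small combination is divisible by `c`
  have hz : X.z = 0 := by
    by_contra hz
    obtain ⟨k, hk1, hk2⟩ : ∃ k : ℤ, |k| < (c : ℤ) ∧ k ≠ 0 ∧ (c : ℤ) ∣ k := by
      rcases hψ₀r with h | h | h <;> rw [h] at hExc
      · refine ⟨4 * X.ε + X.z + 4, ?_, ?_, ?_⟩
        · rcases X.sign with h' | h' <;> rw [h', abs_lt] <;> omega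
        · rcases X.sign with h' | h' <;> rw [h'] <;> omega
        · exact dvd_of_dvd_eq (dvd_sub hce hExc) (by ring)
      · refine ⟨4 * X.ε + X.z, ?_, ?_, ?_⟩
        · rcases X.sign with h' | h' <;> rw [h', abs_lt] <;> omega
        · rcases X.sign with h' | h' <;> rw [h'] <;> omega
        · exact dvd_of_dvd_eq (dvd_sub hco hExc) (by ring)
      · refine ⟨4 * X.ε + X.z - w, ?_, ?_, ?_⟩
        · rcases X.sign with h' | h' <;> rcases hw with h'' | h'' <;> rw [h', h'', abs_lt] <;> omega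
        · rcases X.sign with h' | h' <;> rcases hw with h'' | h'' <;> rw [h', h''] <;> omega
        · exact dvd_of_dvd_eq (dvd_sub hcw hExc) (by ring)
    exact hk2.1 (eq_zero_of_dvd_small hk2.2 hk1)
  rw [hz] at hR hExc
  have hε : X.ε = -1 ∧ cof ψ₀ = e := by
    rcases hψ₀r with h | h | h <;> rw [h] at hExc
    · refine ⟨?_, h⟩
      rcases X.sign with h' | h'
      · exfalso
        have := eq_zero_of_dvd_small (dvd_sub hce hExc) (by rw [h', abs_lt]; omega)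
        rw [h'] at this; omega
      · exact h'
    · exfalso
      have := eq_zero_of_dvd_small (dvd_sub hco hExc) (by
        rcases X.sign with h' | h' <;> rw [h', abs_lt] <;> omega)
      rcases X.sign with h' | h' <;> rw [h'] at this <;> omega
    · exfalso
      have := eq_zero_of_dvd_small (dvd_sub hcw hExc) (by
        rcases X.sign with h' | h' <;> rcases hw with h'' | h'' <;> rw [h', h'', abs_lt] <;> omega)
      rcases X.sign with h' | h' <;> rcases hw with h'' | h'' <;> rw [h', h''] at this <;> omega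
  have hsq2 : ∑ χ ∈ D.rest \ X.E, vv χ ^ 2 = 2 := by rw [hε.1] at hR; linarith
  have hsmall : ∀ χ ∈ D.rest, χ ∉ X.E → -1 ≤ vv χ ∧ vv χ ≤ 1 := fun χ h1 h2 =>
    abs_le_one_of_sq_le ((term_le (f := vv) (Finset.mem_sdiff.2 ⟨h1, h2⟩)).trans (by rw [hsq2]; norm_num))
  have hnotE : ∀ χ ∈ D.rest, χ ∉ X.E → cof χ ≠ e := by
    intro χ h1 h2 h3
    have hd := hcong χ h1 h2
    rw [h3] at hd
    have hb := hsmall χ h1 h2
    have := eq_zero_of_dvd_small (dvd_sub hce hd) (by rw [abs_lt]; omega)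
    omega
  have hEeq : (D.rest.filter fun χ => cof χ = e) = X.E := by
    ext χ
    simp only [Finset.mem_filter]
    exact ⟨fun h => by_contra fun h' => hnotE χ h.1 h' h.2, fun h => ⟨hXS χ h, (hdeg χ h).trans hε.2⟩⟩
  have hoval : ∀ χ ∈ D.rest, cof χ = o → χ ∉ X.E ∧ vv χ = 0 := by
    intro χ h1 h3
    have h2 : χ ∉ X.E := fun h => heo (((hdeg χ h).trans hε.2).symm.trans h3)
    have hd := hcong χ h1 h2
    rw [h3] at hd
    have hb := hsmall χ h1 h2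
    have := eq_zero_of_dvd_small (dvd_sub hco hd) (by rw [abs_lt]; omega)
    exact ⟨h2, by omega⟩
  have hwval : ∀ χ ∈ D.rest, cof χ = ((2 ^ m : ℕ) : ℤ) → χ ∉ X.E ∧ vv χ = w := by
    intro χ h1 h3
    have h2 : χ ∉ X.E := fun h => hew (((hdeg χ h).trans hε.2).symm.trans h3)
    have hd := hcong χ h1 h2
    rw [h3] at hd
    have hb := hsmall χ h1 h2
    have := eq_zero_of_dvd_small (dvd_sub hd hcw) (by rcases hw with h'' | h'' <;> rw [abs_lt] <;> omega)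
    exact ⟨h2, by omega⟩
  rw [hEeq]
  refine ⟨⟨hn, ?_, ?_, ?_, ?_, ?_⟩, ?_⟩
  · intro ψ hψ φ hφ g hg
    exact X.outside ψ hψ φ hφ g (hoff hS g u hu (Or.inr (hc ▸ hg)))
  · intro k hk hkc
    obtain ⟨g, a, ha, ha1, rfl⟩ := hcls k hk hkc
    rw [Finset.sum_congr rfl (fun χ _ => IsIrr.classFun χ.2 a g), X.sum a ha ha1, hε.1, hz]
    norm_num
  · intro k hk hkc
    obtain ⟨g, a, ha, ha1, rfl⟩ := hcls k hk hkc
    rw [Finset.sum_congr rfl (fun χ _ => by rw [IsIrr.classFun χ.2 a g]), X.sumSq a ha ha1, hz, hc]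
    push_cast
    ring
  · intro χ hχ k hk hkc
    obtain ⟨h1, h3⟩ := Finset.mem_filter.1 hχ
    obtain ⟨g, a, ha, ha1, rfl⟩ := hcls k hk hkc
    rw [IsIrr.classFun χ.2 a g, hvx χ (hoval χ h1 h3).1 a ha ha1, (hoval χ h1 h3).2, Int.cast_zero]
  · intro χ hχ k hk hkc
    obtain ⟨h1, h3⟩ := Finset.mem_filter.1 hχ
    obtain ⟨g, a, ha, ha1, rfl⟩ := hcls k hk hkc
    rw [IsIrr.classFun χ.2 a g, hvx χ (hwval χ h1 h3).1 a ha ha1, (hwval χ h1 h3).2]
  · have h := hsq2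
    rw [← Finset.sum_filter_add_sum_filter_not _ (fun χ => cof χ = ((2 ^ m : ℕ) : ℤ)),
      Finset.sum_eq_zero (s := (D.rest \ X.E).filter fun χ => ¬ cof χ = ((2 ^ m : ℕ) : ℤ)) (fun χ hχ => by
        obtain ⟨hχ', hne⟩ := Finset.mem_filter.1 hχ
        obtain ⟨h1, h2⟩ := Finset.mem_sdiff.1 hχ'
        rcases hmem χ h1 with h' | h' | h'
        · exact absurd h' (hnotE χ h1 h2)
        · rw [(hoval χ h1 h').2]; ring
        · exact absurd h' hne), add_zero,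
      show (D.rest \ X.E).filter (fun χ => cof χ = ((2 ^ m : ℕ) : ℤ)) =
        D.rest.filter (fun χ => cof χ = ((2 ^ m : ℕ) : ℤ)) from by
          ext χ
          simp only [Finset.mem_filter, Finset.mem_sdiff]
          exact ⟨fun h => ⟨h.1.1, h.2⟩, fun h => ⟨⟨h.1, (hwval χ h.1 h.2).1⟩, h.2⟩⟩,
      Finset.sum_congr rfl (g := fun _ => (1 : ℤ)) (fun χ hχ => by
        obtain ⟨h1, h3⟩ := Finset.mem_filter.1 hχ
        rw [(hwval χ h1 h3).2]
        rcases hw with h' | h' <;> rw [h'] <;> norm_num), Finset.sum_const, nsmul_eq_mul, mul_one] at h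
    exact_mod_cast h

theorem side_five {u : ↥(Cfsg.Sz F m)} {c : ℕ} {e o w : ℤ} (H : SideHyp D u c e o w)
    (hc5 : c = 5) (hW2 : (D.rest.filter fun χ => cof χ = ((2 ^ m : ℕ) : ℤ)).card = 2) :
    Side c (D.rest.filter fun χ => cof χ = e) (D.rest.filter fun χ => cof χ = o)
      (D.rest.filter fun χ => cof χ = ((2 ^ m : ℕ) : ℤ)) w := by
  classical
  obtain ⟨hu, hN, hc, hcls, hmem, ⟨heo, hew, how⟩, hce, hco, hcw, hw⟩ := H
  obtain ⟨hTI, hlt, hC, hab, hi⟩ := torus_data hS hu hN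
  have hu1 : u ≠ 1 := hu.ne_one
  have humem := self_mem_cs hS u
  choose v hv using fun χ : Irr => constInt_single (CS u) hC hab hi (by rw [hc, hc5]) χ
  have hcong : ∀ χ ∈ D.rest, (c : ℤ) ∣ ((qq - 1 : ℕ) : ℤ) * cof χ - v χ := by
    intro χ hχ
    have h := dvd_deg_sub (CS u) χ (v := v χ) (hv χ)
    rwa [hc, D.deg hχ] at h
  have hR := D.Rnorm hu
  rw [Finset.sum_congr rfl (g := fun χ => ((v χ ^ 2 : ℤ) : ℂ)) (fun χ _ => by
      rw [hv χ u humem hu1, map_intCast]; push_cast; ring),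
    hc, hc5, ← Int.cast_sum, show ((5 : ℕ) : ℂ) - 2 = ((3 : ℤ) : ℂ) by norm_num, Int.cast_inj] at hR
  have hsmall : ∀ χ ∈ D.rest, -1 ≤ v χ ∧ v χ ≤ 1 := fun χ h1 =>
    abs_le_one_of_sq_le ((term_le (f := v) h1).trans hR.le)
  have heval : ∀ χ ∈ D.rest, cof χ = e → v χ = 1 := by
    intro χ h1 h3
    have hd := hcong χ h1
    rw [h3] at hd
    have hb := hsmall χ h1
    subst hc5
    have : (5 : ℤ) ∣ 4 + v χ := by
      have := dvd_sub hce hd
      push_cast at this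
      exact dvd_of_dvd_eq this (by ring)
    omega
  have hoval : ∀ χ ∈ D.rest, cof χ = o → v χ = 0 := by
    intro χ h1 h3
    have hd := hcong χ h1
    rw [h3] at hd
    have hb := hsmall χ h1
    have := eq_zero_of_dvd_small (dvd_sub hco hd) (by rw [abs_lt]; omega)
    omega
  have hwval : ∀ χ ∈ D.rest, cof χ = ((2 ^ m : ℕ) : ℤ) → v χ = w := by
    intro χ h1 h3
    have hd := hcong χ h1
    rw [h3] at hd
    have hb := hsmall χ h1
    have := eq_zero_of_dvd_small (dvd_sub hd hcw) (by rcases hw with h'' | h'' <;> rw [abs_lt] <;> omega)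
    omega
  have hE1 : (D.rest.filter fun χ => cof χ = e).card = 1 := by
    have h := hR
    rw [Finset.sum_congr rfl (g := fun χ => (if cof χ = e then (1 : ℤ) else 0) +
      if cof χ = ((2 ^ m : ℕ) : ℤ) then 1 else 0) (fun χ h1 => by
        rcases hmem χ h1 with h' | h' | h'
        · rw [heval χ h1 h', if_pos h', if_neg (h' ▸ hew)]; norm_num
        · rw [hoval χ h1 h', if_neg (h' ▸ heo.symm), if_neg (h' ▸ how)]; norm_num
        · rw [hwval χ h1 h', if_neg (h' ▸ hew.symm), if_pos h']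
          rcases hw with h'' | h'' <;> rw [h''] <;> norm_num),
      Finset.sum_add_distrib, Finset.sum_boole, Finset.sum_boole, hW2] at h
    push_cast at h
    omega
  obtain ⟨φ, hφ⟩ := Finset.card_eq_one.1 hE1
  have hφm := Finset.mem_filter.1 (hφ.symm ▸ Finset.mem_singleton_self φ : φ ∈ D.rest.filter fun χ => cof χ = e)
  refine ⟨by rw [hE1, hc5], ?_, ?_, ?_, ?_, ?_⟩
  · intro ψ hψ ψ' hψ' g _
    rw [hφ, Finset.mem_singleton] at hψ hψ'
    rw [hψ, hψ']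
  · intro k hk hkc
    obtain ⟨g, a, ha, ha1, rfl⟩ := hcls k hk hkc
    rw [hφ, Finset.sum_singleton, IsIrr.classFun φ.2 a g, hv φ a ha ha1, heval φ hφm.1 hφm.2, Int.cast_one]
  · intro k hk hkc
    obtain ⟨g, a, ha, ha1, rfl⟩ := hcls k hk hkc
    rw [hφ, Finset.sum_singleton, IsIrr.classFun φ.2 a g, hv φ a ha ha1, heval φ hφm.1 hφm.2, hc5]
    norm_num
  · intro χ hχ k hk hkc
    obtain ⟨h1, h3⟩ := Finset.mem_filter.1 hχ
    obtain ⟨g, a, ha, ha1, rfl⟩ := hcls k hk hkc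
    rw [IsIrr.classFun χ.2 a g, hv χ a ha ha1, hoval χ h1 h3, Int.cast_zero]
  · intro χ hχ k hk hkc
    obtain ⟨h1, h3⟩ := Finset.mem_filter.1 hχ
    obtain ⟨g, a, ha, ha1, rfl⟩ := hcls k hk hkc
    rw [IsIrr.classFun χ.2 a g, hv χ a ha ha1, hwval χ h1 h3]

end Cfsg.Agent.SzTab
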