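import Cfsg.Agent.Lib.Classical.AschEvenType
import Mathlib.LinearAlgebra.BilinearForm.TensorProduct
import Mathlib.RingTheory.Flat.Basic

/-! The tensor product of two bilinear forms: Gram determinant, isotropic subspaces, type. -/

set_option autoImplicit false
set_option linter.unusedSectionVars false

namespace Cfsg.Agent.TensorFormType

open Module Matrix
open LinearMap (BilinForm)
open Cfsg.Agent.Classical
open scoped Kronecker TensorProduct

variable {F : Type*} [Field F] {U W : Type*} [AddCommGroup U] [Module F U] [FiniteDimensional F U]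
  [AddCommGroup W] [Module F W] [FiniteDimensional F W]

theorem tmul_apply (B₁ : BilinForm F U) (B₂ : BilinForm F W) (u u' : U) (w w' : W) :
    (B₁.tmul B₂) (u ⊗ₜ w) (u' ⊗ₜ w') = B₁ u u' * B₂ w w' := by
  rw [LinearMap.BilinForm.tensorDistrib_tmul, smul_eq_mul, mul_comm]

theorem det_tmul {ι κ : Type*} [Fintype ι] [DecidableEq ι] [Fintype κ] [DecidableEq κ]
    (B₁ : BilinForm F U) (B₂ : BilinForm F W) (b : Basis ι F U) (c : Basis κ F W) :
    (LinearMap.BilinForm.toMatrix (b.tensorProduct c) (LinearMap.BilinForm.tmul B₁ B₂)).det =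
      (LinearMap.BilinForm.toMatrix b B₁).det ^ Fintype.card κ * (LinearMap.BilinForm.toMatrix c B₂).det ^ Fintype.card ι := by
  rw [← det_kronecker]
  congr 1
  ext ⟨i, j⟩ ⟨i', j'⟩
  rw [LinearMap.BilinForm.toMatrix_apply, Basis.tensorProduct_apply, Basis.tensorProduct_apply, tmul_apply,
    kroneckerMap_apply, LinearMap.BilinForm.toMatrix_apply, LinearMap.BilinForm.toMatrix_apply]

theorem nondegenerate_tmul {B₁ : BilinForm F U} {B₂ : BilinForm F W} (h₁ : B₁.Nondegenerate)
    (h₂ : B₂.Nondegenerate) : (B₁.tmul B₂).Nondegenerate := by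
  classical
  let b := Module.finBasis F U
  let c := Module.finBasis F W
  refine (LinearMap.BilinForm.nondegenerate_iff_det_ne_zero (b.tensorProduct c)).2 ?_
  rw [det_tmul]
  exact mul_ne_zero (pow_ne_zero _ ((LinearMap.BilinForm.nondegenerate_iff_det_ne_zero b).1 h₁))
    (pow_ne_zero _ ((LinearMap.BilinForm.nondegenerate_iff_det_ne_zero c).1 h₂))

theorem exists_isotropic_half {B : BilinForm F U} (hB : B.Nondegenerate) (hA : B.IsAlt) (k : ℕ)
    (hU : finrank F U = 2 * k) :
    ∀ d, d ≤ k → ∃ X : Submodule F U, finrank F X = d ∧ ∀ x ∈ X, ∀ y ∈ X, B x y = 0 := by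
  intro d
  induction d with
  | zero => exact fun _ => ⟨⊥, by simp, fun x hx y _ => by simp [(Submodule.mem_bot F).1 hx]⟩
  | succ d ih =>
    intro hd
    obtain ⟨X, hX, hiso⟩ := ih (by omega)
    have hfr := LinearMap.BilinForm.finrank_orthogonal hB X
    obtain ⟨v, hv, hvX⟩ : ∃ v ∈ B.orthogonal X, v ∉ X :=
      SetLike.not_le_iff_exists.1 fun h => by
        have := Submodule.finrank_mono h
        omega
    refine ⟨X ⊔ F ∙ v, ?_, ?_⟩
    · rw [Submodule.finrank_sup_span_singleton hvX, hX]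
    · intro x hx y hy
      obtain ⟨a, ha, s, hs, rfl⟩ := Submodule.mem_sup.1 hx
      obtain ⟨b, hb, t, ht, rfl⟩ := Submodule.mem_sup.1 hy
      obtain ⟨r, rfl⟩ := Submodule.mem_span_singleton.1 hs
      obtain ⟨r', rfl⟩ := Submodule.mem_span_singleton.1 ht
      have h1 : B a v = 0 := hv a ha
      have h2 : B v b = 0 := hA.isRefl _ _ (hv b hb)
      simp [hiso a ha b hb, h1, h2, hA v]

theorem isotropic_tmul (B₁ : BilinForm F U) (B₂ : BilinForm F W) {X : Submodule F U}
    (hX : ∀ x ∈ X, ∀ y ∈ X, B₁ x y = 0) :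
    ∃ Y : Submodule F (U ⊗[F] W), finrank F Y = finrank F X * finrank F W ∧
      ∀ x ∈ Y, ∀ y ∈ Y, (B₁.tmul B₂) x y = 0 := by
  refine ⟨LinearMap.range (X.subtype.rTensor W), ?_, ?_⟩
  · rw [LinearMap.finrank_range_of_inj
      (Module.Flat.rTensor_preserves_injective_linearMap _ X.injective_subtype), finrank_tensorProduct]
  · rintro _ ⟨s, rfl⟩ _ ⟨t, rfl⟩
    induction s using TensorProduct.induction_on with
    | zero => simp
    | add a b ha hb => simp [ha, hb]
    | tmul a b =>
      induction t using TensorProduct.induction_on with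
      | zero => simp
      | add c d hc hd => rw [map_add, map_add, hc, hd, add_zero]
      | tmul c d =>
        rw [LinearMap.rTensor_tmul, LinearMap.rTensor_tmul, tmul_apply]
        simp [hX _ a.2 _ c.2]

section FiniteField

variable [Fintype F]

theorem half_isotropic_iff (h2 : (2 : F) ≠ 0) {B : BilinForm F U} (hB : B.Nondegenerate)
    (hS : B.IsSymm) {n : ℕ} (hn : 1 ≤ n) (hU : finrank F U = 2 * n) {ι : Type*} [Fintype ι]
    [DecidableEq ι] (b : Basis ι F U) :
    (∃ X : Submodule F U, finrank F X = n ∧ ∀ x ∈ X, ∀ y ∈ X, B x y = 0) ↔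
      IsSquare ((-1) ^ n * (LinearMap.BilinForm.toMatrix b B).det) := by
  let Q : QuadraticForm F U := B.toQuadraticMap
  have hQ : ∀ u, Q u = B u u := fun u => rfl
  have hp : QuadraticMap.polarBilin Q = (2 : F) • B := by
    ext x y
    simp only [QuadraticMap.polarBilin_apply_apply, QuadraticMap.polar, hQ, LinearMap.smul_apply, map_add,
      LinearMap.add_apply, smul_eq_mul, hS.eq y x]
    ring
  have hnd : (QuadraticMap.polarBilin Q).Nondegenerate := by
    rw [hp]
    refine (LinearMap.BilinForm.nondegenerate_iff_det_ne_zero (B := (2 : F) • B) b).2 ?_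
    rw [map_smul, Matrix.det_smul]
    exact mul_ne_zero (pow_ne_zero _ h2) ((LinearMap.BilinForm.nondegenerate_iff_det_ne_zero b).1 hB)
  obtain ⟨m, rfl⟩ : ∃ m, n = m + 1 := ⟨n - 1, by omega⟩
  have hiff : (∃ X : Submodule F U, finrank F X = m + 1 ∧ ∀ x ∈ X, ∀ y ∈ X, B x y = 0) ↔
      EvenType.Plus Q := by
    constructor
    · rintro ⟨X, hd, h⟩
      exact ⟨X, fun u hu => (hQ u).trans (h u hu u hu), by omega⟩
    · rintro ⟨X, h, hd⟩
      refine ⟨X, by omega, fun x hx y hy => ?_⟩
      have e := congrArg (fun f => f x y) hp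
      simp only [QuadraticMap.polarBilin_apply_apply, QuadraticMap.polar, LinearMap.smul_apply,
        smul_eq_mul, h x hx, h y hy, h (x + y) (X.add_mem hx hy), sub_zero] at e
      exact (mul_eq_zero.1 e.symm).resolve_left h2
  have hc : Fintype.card ι = 2 * (m + 1) := by rw [← finrank_eq_card_basis b, hU]
  rw [hiff, EvenType.plus_iff_disc h2 hnd hU b, hp, gramDet_smul, gramDet, hc, pow_mul', ← mul_assoc,
    mul_comm ((-1 : F) ^ (m + 1)), mul_assoc]
  exact isSquare_mul_sq (pow_ne_zero _ h2)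

/-- An even-dimensional factor tensored with any non-degenerate symmetric form. -/
theorem half_isotropic_tmul_iff (h2 : (2 : F) ≠ 0) {B₁ : BilinForm F U} {B₂ : BilinForm F W}
    (h₁ : B₁.Nondegenerate) (h₂ : B₂.Nondegenerate) (hS₁ : B₁.IsSymm) (hS₂ : B₂.IsSymm) {k e : ℕ}
    (hk : 1 ≤ k) (he : 1 ≤ e) (hU : finrank F U = 2 * k) (hW : finrank F W = e) :
    (∃ X : Submodule F (U ⊗[F] W), finrank F X = k * e ∧ ∀ x ∈ X, ∀ y ∈ X, (B₁.tmul B₂) x y = 0) ↔
      (Even e ∨ ∃ X : Submodule F U, finrank F X = k ∧ ∀ x ∈ X, ∀ y ∈ X, B₁ x y = 0) := by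
  let b := finBasisOfFinrankEq F U hU
  let c := finBasisOfFinrankEq F W hW
  have d2 := (LinearMap.BilinForm.nondegenerate_iff_det_ne_zero c).1 h₂
  have hsym : LinearMap.BilinForm.IsSymm (B₁.tmul B₂ : BilinForm F (U ⊗[F] W)) :=
    ⟨(LinearMap.IsSymm.tmul (⟨hS₁.eq⟩ : LinearMap.IsSymm B₁) (⟨hS₂.eq⟩ : LinearMap.IsSymm B₂)).eq⟩
  rw [half_isotropic_iff h2 (nondegenerate_tmul h₁ h₂) hsym (Nat.mul_pos hk he)
    (by rw [finrank_tensorProduct, hU, hW]; ring) (b.tensorProduct c), det_tmul,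
    half_isotropic_iff h2 h₁ hS₁ hk hU b, Fintype.card_fin, Fintype.card_fin, ← mul_assoc,
    pow_mul, ← mul_pow, mul_comm _ ((LinearMap.BilinForm.toMatrix c B₂).det ^ (2 * k)), pow_mul',
    isSquare_mul_sq (pow_ne_zero _ d2)]
  rcases Nat.even_or_odd' e with ⟨j, rfl | rfl⟩
  · simp only [even_two_mul, true_or, iff_true]
    exact ⟨((-1 : F) ^ k * (LinearMap.BilinForm.toMatrix b B₁).det) ^ j, by ring⟩
  · simp only [Nat.not_even_two_mul_add_one, false_or]
    set a := (-1 : F) ^ k * (LinearMap.BilinForm.toMatrix b B₁).det with ha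
    have a0 : a ≠ 0 := mul_ne_zero (pow_ne_zero _ (neg_ne_zero.2 one_ne_zero))
      ((LinearMap.BilinForm.nondegenerate_iff_det_ne_zero b).1 h₁)
    rw [show a ^ (2 * j + 1) = (a ^ j) ^ 2 * a by ring]
    exact isSquare_mul_sq (pow_ne_zero _ a0)

end FiniteField

end Cfsg.Agent.TensorFormType
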