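import Cfsg.Agent.Lib.Classical.TensorSpinData
import Cfsg.Agent.Lib.Classical.OrthSimple
import Cfsg.Agent.Lib.Classical.AschEven
import Cfsg.Agent.Lib.Classical.FormSimilitude

/-!
In characteristic two the stabiliser of a tensor power of symplectic planes, or of symplectic spaces of dimension
four, normalises a space of matrices with scalar squares; the normaliser of that space is strictly larger and still
proper in `Ω`.
-/

set_option autoImplicit false
set_option linter.unusedSectionVars false

namespace Cfsg.Agent.Classical.TensorSpin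

open Matrix Module Cfsg.Geo Cfsg.Agent.Classical.Asch Cfsg.Agent.Classical.OrthAut

variable {F : Type*} [Field F]

section Slots

variable {k t : ℕ}

theorem slot_mul (i : Fin t) (X Y : Matrix (Fin k) (Fin k) F) : slot i X * slot i Y = slot i (X * Y) := by
  simp only [slot_eq_pure, pureMat_mul]
  congr 1
  funext l
  by_cases h : l = i
  · subst h; simp
  · simp [h]

theorem slot_comm {i j : Fin t} (hij : i ≠ j) (X Y : Matrix (Fin k) (Fin k) F) :
    slot i X * slot j Y = slot j Y * slot i X := by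
  simp only [slot_eq_pure, pureMat_mul]
  congr 1
  funext l
  by_cases h : l = i
  · subst h; simp [hij]
  · simp [h]

theorem slot_add (i : Fin t) (X Y : Matrix (Fin k) (Fin k) F) : slot i (X + Y) = slot i X + slot i Y := by
  ext x y; simp only [slot, Matrix.add_apply, Matrix.of_apply]; split_ifs <;> simp

theorem slot_smul (i : Fin t) (c : F) (X : Matrix (Fin k) (Fin k) F) : slot i (c • X) = c • slot i X := by
  ext x y; simp only [slot, Matrix.smul_apply, Matrix.of_apply]; split_ifs <;> simp

theorem slot_one (i : Fin t) : slot i (1 : Matrix (Fin k) (Fin k) F) = 1 := by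
  rw [slot_eq_pure, Function.update_eq_self, pureMat_one]

theorem slot_zero (i : Fin t) : slot i (0 : Matrix (Fin k) (Fin k) F) = 0 := by
  ext x y; simp [slot]

theorem slot_scalar (i : Fin t) (c : F) : slot i (c • (1 : Matrix (Fin k) (Fin k) F)) = c • 1 := by
  rw [slot_smul, slot_one]

theorem pureMat_mulVec (gs : Fin t → Matrix (Fin k) (Fin k) F) (w : Fin t → Fin k → F) :
    pureMat gs *ᵥ pureVec w = pureVec fun i => gs i *ᵥ w i := by
  ext x
  simp only [pureVec, Matrix.mulVec, dotProduct, pureMat, Matrix.of_apply, ← Finset.prod_mul_distrib]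
  exact (Fintype.prod_sum fun i j => gs i (x i) j * w i j).symm

theorem two_pure {p q : Fin t} (hpq : p ≠ q) (A B : Matrix (Fin k) (Fin k) F) :
    slot p A * slot q B = pureMat (Function.update (Function.update (fun _ => 1) p A) q B) := by
  rw [slot_eq_pure, slot_eq_pure, pureMat_mul]
  congr 1
  funext l
  by_cases h : l = q
  · subst h; simp [hpq.symm]
  · simp [h]

theorem pair_mul {p q : Fin t} (hpq : p ≠ q) (A B A' B' : Matrix (Fin k) (Fin k) F) :
    slot p A * slot q B * (slot p A' * slot q B') = slot p (A * A') * slot q (B * B') := by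
  rw [mul_assoc, ← mul_assoc (slot q B) (slot p A'), ← slot_comm hpq, mul_assoc (slot p A'), slot_mul, ← mul_assoc,
    slot_mul]

theorem perm_of_wreath [Fintype F] {g : GL (Fin t → Fin k) F} (hg : g ∈ tensorWreathStandard k t F) :
    ∃ (σ : Equiv.Perm (Fin t)) (gs : Fin t → Matrix (Fin k) (Fin k) F),
      (g : Matrix (Fin t → Fin k) (Fin t → Fin k) F) = pureMat gs * permMat σ := by
  obtain ⟨σ, gs, h⟩ := mem_wreathStandard hg
  refine ⟨σ.symm, gs, Matrix.ext fun x y => ?_⟩
  rw [h, Matrix.mul_apply, Finset.sum_eq_single (y ∘ σ)]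
  · simp [permMat, pureMat, Function.comp_assoc]
  · intro z _ hz
    simp only [permMat, Matrix.of_apply]
    rw [if_neg, mul_zero]
    intro e
    exact hz (by rw [e]; ext l; simp)
  · simp

theorem rank_add (A B : Matrix (Fin t → Fin k) (Fin t → Fin k) F) : (A + B).rank ≤ A.rank + B.rank := by
  rw [Matrix.rank, Matrix.rank, Matrix.rank, Matrix.mulVecLin_add]
  refine (Submodule.finrank_mono ?_).trans (Submodule.finrank_add_le_finrank_add_finrank _ _)
  rintro _ ⟨v, rfl⟩
  exact Submodule.add_mem_sup ⟨v, rfl⟩ ⟨v, rfl⟩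

theorem quad_ext {Q₁ Q₂ : QuadraticForm F ((Fin t → Fin k) → F)}
    (hB : ∀ u v, QuadraticMap.polar ⇑Q₁ u v = QuadraticMap.polar ⇑Q₂ u v)
    (hb : ∀ x, Q₁ (Pi.single x 1) = Q₂ (Pi.single x 1)) (v : (Fin t → Fin k) → F) : Q₁ v = Q₂ v := by
  classical
  rw [← Finset.univ_sum_single v]
  induction (Finset.univ : Finset (Fin t → Fin k)) using Finset.induction_on with
  | empty => simp
  | insert a s ha ih =>
    rw [Finset.sum_insert ha, QuadraticMap.map_add ⇑Q₁, QuadraticMap.map_add ⇑Q₂, ih, hB,
      show (Pi.single a (v a) : (Fin t → Fin k) → F) = v a • Pi.single a 1 by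
        rw [← Pi.single_smul', smul_eq_mul, mul_one],
      QuadraticMap.map_smul, QuadraticMap.map_smul, hb]

end Slots

section Core

variable [Fintype F] {k t : ℕ} (Qc : QuadraticForm F ((Fin t → Fin k) → F))

local notation "Mκ" => Matrix (Fin t → Fin k) (Fin t → Fin k) F
local notation "GLκ" => GL (Fin t → Fin k) F
local notation "G₀" => pureMat (F := F) (k := t) (m := k) fun _ => rv F k

variable (D : Data F k)

/-- The sums over the sites. -/
def wSet (t : ℕ) : Submodule F (Matrix (Fin t → Fin k) (Fin t → Fin k) F) where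
  carrier := {w | ∃ X : Fin t → Matrix (Fin k) (Fin k) F, (∀ i, X i ∈ D.W) ∧ w = ∑ i, slot i (X i)}
  add_mem' := by
    rintro _ _ ⟨X, hX, rfl⟩ ⟨Y, hY, rfl⟩
    exact ⟨fun i => X i + Y i, fun i => D.W.add_mem (hX i) (hY i), by
      simp only [slot_add, Finset.sum_add_distrib]⟩
  zero_mem' := ⟨0, fun i => D.W.zero_mem, by simp [slot_zero]⟩
  smul_mem' := by
    rintro c _ ⟨X, hX, rfl⟩
    exact ⟨fun i => c • X i, fun i => D.W.smul_mem c (hX i), by simp only [slot_smul, Finset.smul_sum]⟩

theorem slot_mem {i : Fin t} {X : Matrix (Fin k) (Fin k) F} (hX : X ∈ D.W) : slot i X ∈ wSet D t := by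
  classical
  refine ⟨Function.update 0 i X, fun l => ?_, ?_⟩
  · by_cases h : l = i
    · subst h; simpa using hX
    · simp [h]
  · rw [Finset.sum_eq_single i]
    · simp
    · intro l _ hl; simp [hl, slot_zero]
    · simp

/-- The elements of `Ω` normalising the space. -/
def spinNorm : Subgroup GLκ where
  carrier := {g | g ∈ omegaGL ⇑Qc ∧ ∀ w ∈ wSet D t, (g : Mκ) * w * ((g⁻¹ : GLκ) : Mκ) ∈ wSet D t}
  mul_mem' := by
    rintro a b ⟨ha, ha'⟩ ⟨hb, hb'⟩
    refine ⟨mul_mem ha hb, fun w hw => ?_⟩
    simpa [mul_assoc] using ha' _ (hb' w hw)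
  one_mem' := ⟨one_mem _, fun w hw => by simpa using hw⟩
  inv_mem' := by
    rintro a ⟨ha, ha'⟩
    refine ⟨inv_mem ha, fun w hw => ?_⟩
    let L : wSet D t →ₗ[F] wSet D t :=
      { toFun := fun w => ⟨(a : Mκ) * w.1 * ((a⁻¹ : GLκ) : Mκ), ha' _ w.2⟩
        map_add' := fun u v => Subtype.ext (by simp [mul_add, add_mul])
        map_smul' := fun c v => Subtype.ext (by simp) }
    have hinj : Function.Injective L := fun u v h => Subtype.ext (by
      have := congrArg (fun z : wSet D t => ((a⁻¹ : GLκ) : Mκ) * z.1 * (a : Mκ)) h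
      simpa [L, ← mul_assoc, mul_assoc _ ((a⁻¹ : GLκ) : Mκ) (a : Mκ)] using this)
    obtain ⟨⟨v, hv⟩, hvw⟩ := LinearMap.injective_iff_surjective.1 hinj ⟨w, hw⟩
    have hvw' : (a : Mκ) * v * ((a⁻¹ : GLκ) : Mκ) = w := congrArg Subtype.val hvw
    rw [inv_inv, ← hvw']
    simpa [← mul_assoc, mul_assoc _ ((a⁻¹ : GLκ) : Mκ) (a : Mκ)] using hv

variable (h2 : (2 : F) = 0) {c : F} (hc : c ≠ 0)
  (hpol : ∀ u v, QuadraticMap.polar ⇑Qc u v = c * (u ⬝ᵥ (pureMat (fun _ : Fin t => rv F k) *ᵥ v)))
  (hpure : ∀ w, Qc (pureVec w) = 0)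

theorem G_apply (x y : Fin t → Fin k) : (G₀) x y = if y = Fin.rev ∘ x then 1 else 0 := by
  simp only [pureMat, Matrix.of_apply, rv_apply]
  by_cases h : y = Fin.rev ∘ x
  · subst h; simp
  · rw [if_neg h]
    obtain ⟨i, hi⟩ := Function.ne_iff.1 h
    exact Finset.prod_eq_zero (Finset.mem_univ i) (if_neg hi)

include hpol in
theorem polar_basis (x y : Fin t → Fin k) :
    QuadraticMap.polar ⇑Qc (Pi.single x 1) (Pi.single y 1) = if y = Fin.rev ∘ x then c else 0 := by
  rw [hpol, single_dotProduct, one_mul, Matrix.mulVec_single_one, Matrix.col_apply, G_apply]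
  split_ifs <;> simp

include hpure in
theorem quad_basis (x : Fin t → Fin k) : Qc (Pi.single x 1) = 0 := by
  rw [← pureVec_single]; exact hpure _

include hpol hpure in
theorem iso_of_pres (M : GLκ) (hG : (M : Mκ)ᵀ * ((G₀) * (M : Mκ)) = G₀)
    (hb : ∀ x, Qc ((M : Mκ) *ᵥ Pi.single x 1) = 0) : M ∈ isometryGroup F ⇑Qc := by
  refine mem_isometryGroup.2 fun v => ?_
  have h : ∀ u, Qc ((M : Mκ) *ᵥ u) = (Qc.comp (Matrix.mulVecLin (M : Mκ))) u := fun u => by
    rw [QuadraticMap.comp_apply, Matrix.mulVecLin_apply]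
  rw [h]
  refine quad_ext (fun a b => ?_) (fun x => by rw [← h, hb, quad_basis Qc hpure]) v
  have e : QuadraticMap.polar ⇑(Qc.comp (Matrix.mulVecLin (M : Mκ))) a b =
      QuadraticMap.polar ⇑Qc ((M : Mκ) *ᵥ a) ((M : Mκ) *ᵥ b) := by
    simp only [QuadraticMap.polar, QuadraticMap.comp_apply, Matrix.mulVecLin_apply, Matrix.mulVec_add]
  rw [e, hpol, hpol, Matrix.mulVec_mulVec, Matrix.dotProduct_mulVec, Matrix.vecMul_mulVec,
    ← Matrix.dotProduct_mulVec, hG]

include hpol hpure in
theorem pure_iso (u : GLκ) (hs : Fin t → GL (Fin k) F)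
    (hu : (u : Mκ) = pureMat fun i => (hs i : Matrix (Fin k) (Fin k) F))
    (hh : ∀ i, (hs i : Matrix (Fin k) (Fin k) F)ᵀ * (rv F k * (hs i : Matrix (Fin k) (Fin k) F)) = rv F k) :
    u ∈ isometryGroup F ⇑Qc := by
  refine iso_of_pres Qc hpol hpure u ?_ fun x => ?_
  · simp only [hu, pureMat_transpose, pureMat_mul, hh]
  · rw [hu, ← pureVec_single, pureMat_mulVec]; exact hpure _

/-- `1 + (slot p A)(slot q E)` as a unit. -/
theorem exists_gen (h2 : (2 : F) = 0) {p q : Fin t} (hpq : p ≠ q) {A E : Matrix (Fin k) (Fin k) F}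
    (hE : E * E = 0) : ∃ g : GLκ, (g : Mκ) = 1 + slot p A * slot q E ∧ g⁻¹ = g := by
  have hN : slot p A * slot q E * (slot p A * slot q E) = 0 := by
    rw [mul_assoc, ← mul_assoc (slot q E) (slot p A), ← slot_comm hpq, mul_assoc, slot_mul, hE, slot_zero,
      mul_zero, mul_zero]
  have h1 : (1 + slot p A * slot q E) * (1 + slot p A * slot q E) = 1 := by
    rw [add_mul, mul_add, mul_add, one_mul, one_mul, mul_one, hN, add_zero, add_assoc, ← two_smul F, h2, zero_smul,
      add_zero]
  exact ⟨⟨_, _, h1, h1⟩, rfl, inv_eq_of_mul_eq_one_right (Units.ext h1)⟩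

include hpol hpure h2 in
theorem gen_iso {p q : Fin t} (hpq : p ≠ q) {A E : Matrix (Fin k) (Fin k) F} (hA : A ∈ D.W) (hE : E ∈ D.W)
    (hE2 : E * E = 0) (hal : 3 ≤ t ∨ ∀ X ∈ D.W, ∀ a, X a.rev a = 0) {g : GLκ}
    (hg : (g : Mκ) = 1 + slot p A * slot q E) : g ∈ isometryGroup F ⇑Qc := by
  set gs := Function.update (Function.update (fun _ => (1 : Matrix (Fin k) (Fin k) F)) p A) q E with hgs
  have hN : slot p A * slot q E = pureMat gs := two_pure hpq A E
  have hgs' : ∀ l, (gs l)ᵀ * rv F k = rv F k * gs l := fun l => by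
    simp only [gs]
    by_cases hq : l = q
    · subst hq; simpa using D.adj E hE
    by_cases hp : l = p
    · subst hp; simpa [hq] using D.adj A hA
    · simp [hq, hp]
  have hadj : (pureMat gs)ᵀ * (G₀) = (G₀) * pureMat gs := by
    rw [pureMat_transpose, pureMat_mul, pureMat_mul]
    exact congrArg pureMat (funext hgs')
  have hsq : pureMat gs * pureMat gs = 0 := by
    rw [← hN, mul_assoc, ← mul_assoc (slot q E) (slot p A), ← slot_comm hpq, mul_assoc, slot_mul, hE2, slot_zero,
      mul_zero, mul_zero]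
  refine iso_of_pres Qc hpol hpure g ?_ fun x => ?_
  · rw [hg, hN, Matrix.transpose_add, Matrix.transpose_one, add_mul, one_mul, mul_add, mul_one, mul_add,
      ← mul_assoc (pureMat gs)ᵀ (G₀), hadj, mul_assoc, hsq, mul_zero, add_zero, add_assoc, ← two_smul F, h2,
      zero_smul, add_zero]
  · rw [hg, hN, Matrix.add_mulVec, Matrix.one_mulVec, QuadraticMap.map_add ⇑Qc, quad_basis Qc hpure]
    have h1 : Qc (pureMat gs *ᵥ Pi.single x 1) = 0 := by rw [← pureVec_single, pureMat_mulVec]; exact hpure _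
    have h3 : QuadraticMap.polar ⇑Qc (Pi.single x 1) (pureMat gs *ᵥ Pi.single x 1) = 0 := by
      rw [hpol, single_dotProduct, one_mul, Matrix.mulVec_mulVec, Matrix.mulVec_single_one, Matrix.col_apply]
      rw [pureMat_mul (fun _ => rv F k) gs]
      show c * ∏ l, (rv F k * gs l) (x l) (x l) = 0
      obtain ⟨l, hl⟩ : ∃ l, (rv F k * gs l) (x l) (x l) = 0 := by
        rcases hal with ht | hal
        · obtain ⟨l, -, hl⟩ : ∃ l, l ∈ (Finset.univ : Finset (Fin t)) ∧ l ∉ ({p, q} : Finset (Fin t)) :=
            Finset.exists_mem_notMem_of_card_lt_card (by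
              have : ({p, q} : Finset (Fin t)).card ≤ 2 := Finset.card_le_two
              rw [Finset.card_univ, Fintype.card_fin]; omega)
          simp only [Finset.mem_insert, Finset.mem_singleton, not_or] at hl
          refine ⟨l, ?_⟩
          simp only [gs]
          rw [Function.update_of_ne hl.2, Function.update_of_ne hl.1, mul_one, rv_apply,
            if_neg fun e => D.rev_ne (x l) e.symm]
        · exact ⟨q, by simp only [gs, Function.update_self, rv_mul_apply]; exact hal E hE _⟩
      rw [Finset.prod_eq_zero (Finset.mem_univ l) hl, mul_zero]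
    rw [h1, h3, add_zero, add_zero]


theorem omega_le_iso {g : GLκ} (hg : g ∈ omegaGL ⇑Qc) : g ∈ isometryGroup F ⇑Qc := by
  obtain ⟨s, -, rfl⟩ := hg
  exact s.2

include hpol hpure hc in
theorem slot_conj {g : GLκ} (hg : g ∈ tensorWreathStandard k t F) (hiso : g ∈ isometryGroup F ⇑Qc)
    (i : Fin t) {X : Matrix (Fin k) (Fin k) F} (hX : X ∈ D.W) :
    (g : Mκ) * slot i X * ((g⁻¹ : GLκ) : Mκ) ∈ wSet D t := by
  classical
  obtain ⟨σ, gs, hg'⟩ := perm_of_wreath hg
  have hperm : (permMat σ : Mκ)ᵀ * ((G₀) * permMat σ) = G₀ := by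
    ext x y
    rw [Matrix.mul_apply, Finset.sum_eq_single (x ∘ σ.symm) (fun z _ hz => by
      rw [Matrix.transpose_apply]
      have : ¬ x = z ∘ σ := fun e => hz (by rw [e]; ext l; simp)
      simp [permMat, this]) (fun h => absurd (Finset.mem_univ _) h),
      Matrix.mul_apply, Finset.sum_eq_single (y ∘ σ.symm) (fun z _ hz => by
      have : ¬ y = z ∘ σ := fun e => hz (by rw [e]; ext l; simp)
      simp [permMat, this]) (fun h => absurd (Finset.mem_univ _) h)]
    have hx : x = (x ∘ σ.symm) ∘ σ := by ext l; simp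
    have hy : y = (y ∘ σ.symm) ∘ σ := by ext l; simp
    simp only [permMat, Matrix.transpose_apply, Matrix.of_apply, if_pos hx, if_pos hy, one_mul, mul_one,
      pureMat, Function.comp_apply]
    exact Equiv.prod_comp σ.symm fun l => rv F k (x l) (y l)
  have hgG : (g : Mκ)ᵀ * ((G₀) * (g : Mκ)) = G₀ := by
    refine Matrix.ext fun x y => ?_
    have h := isometry_polar (Q := Qc) (g := (g : Mκ)) (mem_isometryGroup.1 hiso) (Pi.single x 1) (Pi.single y 1)
    rw [hpol, hpol] at h
    have h' := mul_left_cancel₀ hc h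
    rw [Matrix.mulVec_mulVec, Matrix.dotProduct_mulVec, Matrix.vecMul_mulVec, ← Matrix.dotProduct_mulVec,
      single_dotProduct, one_mul, Matrix.mulVec_single_one, single_dotProduct, one_mul,
      Matrix.mulVec_single_one] at h'
    exact h'
  have hP : IsUnit (permMat σ : Mκ) := by
    refine IsUnit.of_mul_eq_one (a := (permMat σ : Mκ)) (permMat σ.symm) ?_
    ext x y
    rw [Matrix.mul_apply, Finset.sum_eq_single (x ∘ σ) (fun z _ hz => by simp [permMat, hz])
      (fun h => absurd (Finset.mem_univ _) h)]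
    have hxy : (y = (x ∘ σ) ∘ σ.symm) ↔ x = y :=
      ⟨fun e => by rw [e]; ext l; simp, fun e => by rw [e]; ext l; simp⟩
    simp only [permMat, Matrix.of_apply, if_true, one_mul, Matrix.one_apply, hxy]
  have hcore : pureMat (fun l => (gs l)ᵀ * (rv F k * gs l)) = (1 : F) • (G₀ : Mκ) := by
    rw [one_smul, ← pureMat_mul, ← pureMat_mul, ← pureMat_transpose]
    refine ((Matrix.isUnit_transpose _).2 hP).mul_left_cancel (hP.mul_right_cancel ?_)
    rw [mul_assoc _ (G₀) (permMat σ), hperm]
    refine Eq.trans ?_ hgG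
    rw [hg', Matrix.transpose_mul]
    simp only [mul_assoc]
  have hrv : ∀ _ : Fin t, rv F k ≠ 0 := fun _ e => rv_det_ne (F := F) k (by
    haveI : Nonempty (Fin k) := ⟨D.a₀⟩
    rw [e, Matrix.det_zero])
  have hsim : ∀ l, ∃ d : Fˣ, (gs l)ᵀ * (rv F k * gs l) = (d : F) • rv F k := fun l =>
    pure_factor one_ne_zero hrv hcore l
  obtain ⟨d, hd⟩ := hsim (σ i)
  have hdet : (gs (σ i)).det ≠ 0 := fun h0 => by
    have h1 := congrArg Matrix.det hd
    rw [Matrix.det_mul, Matrix.det_mul, h0, mul_zero, mul_zero, Matrix.det_smul] at h1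
    exact mul_ne_zero (pow_ne_zero _ d.ne_zero) (rv_det_ne k) h1.symm
  let a : GL (Fin k) F := Matrix.GeneralLinearGroup.mkOfDetNeZero _ hdet
  set X' := (a : Matrix (Fin k) (Fin k) F) * X * ((a⁻¹ : GL (Fin k) F) : Matrix (Fin k) (Fin k) F)
  have hX' : X' ∈ D.W := D.conj a d d.ne_zero hd X hX
  have hkey : pureMat gs * slot (σ i) X = slot (σ i) X' * pureMat gs := by
    simp only [slot_eq_pure, pureMat_mul]
    congr 1
    funext l
    by_cases h : l = σ i
    · subst h
      simp only [Function.update_self, X', mul_assoc]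
      show _ = (a : Matrix (Fin k) (Fin k) F) * (X * (((a⁻¹ : GL (Fin k) F) : Matrix (Fin k) (Fin k) F) * (a : Matrix (Fin k) (Fin k) F)))
      rw [Units.inv_mul, mul_one]
      rfl
    · simp [h]
  have hfin : (g : Mκ) * slot i X = slot (σ i) X' * (g : Mκ) := by
    rw [hg', mul_assoc, permMat_mul_slot, ← mul_assoc, hkey, mul_assoc]
  rw [hfin, mul_assoc, Units.mul_inv, mul_one]
  exact slot_mem D hX'

include h2 in
theorem gen_conj {p q : Fin t} (hpq : p ≠ q) {A E : Matrix (Fin k) (Fin k) F} (hA : A ∈ D.W) (hE : E ∈ D.W)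
    (hE2 : E * E = 0) (i : Fin t) {X : Matrix (Fin k) (Fin k) F} (hX : X ∈ D.W) :
    (1 + slot p A * slot q E) * slot i X * (1 + slot p A * slot q E) ∈ wSet D t := by
  have hb : ∀ Y Z, Y ∈ D.W → Z ∈ D.W → ∃ b : F, Y * Z + Z * Y = b • (1 : Matrix (Fin k) (Fin k) F) := by
    intro Y Z hY hZ
    obtain ⟨s, hs⟩ := D.sq _ hY
    obtain ⟨s', hs'⟩ := D.sq _ hZ
    obtain ⟨s'', hs''⟩ := D.sq _ (D.W.add_mem hY hZ)
    refine ⟨s'' - s - s', ?_⟩
    rw [sub_smul, sub_smul, ← hs'', ← hs, ← hs']
    noncomm_ring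
  obtain ⟨sA, hsA⟩ := D.sq A hA
  set N := slot p A * slot q E with hN
  have hexp : (1 + N) * slot i X * (1 + N) = slot i X + (N * slot i X + slot i X * N) + N * slot i X * N := by
    noncomm_ring
  rw [hexp]
  rcases eq_or_ne i p with rfl | hip
  · obtain ⟨b, hb'⟩ := hb A X hA hX
    have e1 : N * slot i X + slot i X * N = b • slot q E := by
      rw [hN, mul_assoc, ← slot_comm hpq, ← mul_assoc, slot_mul, ← mul_assoc, slot_mul, ← add_mul,
        ← slot_add, hb', slot_scalar, Matrix.smul_mul, one_mul]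
    have e2 : N * slot i X * N = 0 := by
      rw [hN, show slot i X = slot i X * slot q (1 : Matrix (Fin k) (Fin k) F) by rw [slot_one, mul_one],
        pair_mul hpq, pair_mul hpq, mul_one, hE2, slot_zero, mul_zero]
    rw [e1, e2, add_zero]
    exact (wSet D t).add_mem (slot_mem D hX) ((wSet D t).smul_mem b (slot_mem D hE))
  rcases eq_or_ne i q with rfl | hiq
  · obtain ⟨b, hb'⟩ := hb E X hE hX
    have e1 : N * slot i X + slot i X * N = b • slot p A := by
      rw [hN, mul_assoc, slot_mul, ← mul_assoc, ← slot_comm hpq, mul_assoc, slot_mul, ← mul_add, ← slot_add,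
        hb', slot_scalar, Matrix.mul_smul, mul_one]
    have e2 : N * slot i X * N = (sA * b) • slot i E := by
      have he : E * X * E = b • E := by
        have : E * X * E = (E * X + X * E) * E := by rw [add_mul, mul_assoc X E E, hE2, mul_zero, add_zero]
        rw [this, hb', Matrix.smul_mul, one_mul]
      rw [hN, show slot i X = slot p (1 : Matrix (Fin k) (Fin k) F) * slot i X by rw [slot_one, one_mul],
        pair_mul hpq, pair_mul hpq, mul_one, hsA, slot_scalar, he, slot_smul, Matrix.smul_mul, one_mul, smul_smul]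
    rw [e1, e2]
    exact (wSet D t).add_mem ((wSet D t).add_mem (slot_mem D hX) ((wSet D t).smul_mem b (slot_mem D hA)))
      ((wSet D t).smul_mem _ (slot_mem D hE))
  · have hc' : N * slot i X = slot i X * N := by
      rw [hN, mul_assoc, ← slot_comm hiq, ← mul_assoc, ← slot_comm hip, mul_assoc]
    have hNN : N * N = 0 := by
      rw [hN, mul_assoc, ← mul_assoc (slot q E) (slot p A), ← slot_comm hpq, mul_assoc, slot_mul, hE2, slot_zero,
        mul_zero, mul_zero]
    have e1 : N * slot i X + slot i X * N = 0 := by rw [hc', ← two_smul F, h2, zero_smul]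
    rw [e1, hc', mul_assoc, hNN, mul_zero, add_zero, add_zero]
    exact slot_mem D hX

set_option maxHeartbeats 1000000 in
include hpol hpure hc h2 in
theorem core (ht : 2 ≤ t) (hn : 13 ≤ Fintype.card (Fin t → Fin k))
    (hal : 3 ≤ t ∨ ((∀ X ∈ D.W, ∀ a, X a.rev a = 0) ∧ D.a₁ ≠ D.a₀.rev)) :
    ∃ K : Subgroup GLκ, tensorWreathStandard k t F ⊓ omegaGL ⇑Qc < K ∧ K < omegaGL ⇑Qc := by
  classical
  have hle : tensorWreathStandard k t F ⊓ omegaGL ⇑Qc ≤ spinNorm Qc D := by
    rintro g ⟨hg, hgo⟩
    refine ⟨hgo, ?_⟩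
    rintro _ ⟨X, hX, rfl⟩
    rw [Finset.mul_sum, Finset.sum_mul]
    exact (wSet D t).sum_mem fun i _ => slot_conj Qc D hc hpol hpure hg (omega_le_iso Qc hgo) i (hX i)
  refine ⟨spinNorm Qc D, lt_of_le_of_ne hle ?_, lt_of_le_of_ne (fun g hg => hg.1) ?_⟩
  · -- an element of the normaliser outside the tensor stabiliser
    intro heq
    let p : Fin t := ⟨0, by omega⟩
    let q : Fin t := ⟨1, by omega⟩
    have hpq : p ≠ q := by simp [p, q, Fin.ext_iff]
    set E' := (D.h : Matrix (Fin k) (Fin k) F) * D.E * ((D.h⁻¹ : GL (Fin k) F) : Matrix (Fin k) (Fin k) F)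
    have hE' : E' ∈ D.W := D.conj D.h 1 one_ne_zero (by rw [D.h_iso, one_smul]) D.E D.E_mem
    set A := E' + D.E
    have hA : A ∈ D.W := D.W.add_mem hE' D.E_mem
    obtain ⟨g, hg, -⟩ := exists_gen (F := F) h2 hpq (A := A) D.E_sq
    obtain ⟨g1, hg1, hg1i⟩ := exists_gen (F := F) h2 hpq (A := D.E) D.E_sq
    obtain ⟨u, hu, -⟩ := pure_mem_standard (F := F) (Function.update (fun _ => (1 : GL (Fin k) F)) p D.h)
    have hus : (u : Mκ) = slot p (D.h : Matrix (Fin k) (Fin k) F) := by
      rw [hu, slot_eq_pure]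
      congr 1
      funext l
      by_cases h : l = p
      · subst h; simp
      · simp [h]
    have huiso : u ∈ isometryGroup F ⇑Qc := pure_iso Qc hpol hpure u _ hu fun l => by
      by_cases h : l = p
      · subst h; simpa using D.h_iso
      · simp [h]
    have hg1iso : g1 ∈ isometryGroup F ⇑Qc :=
      gen_iso Qc D h2 hpol hpure hpq D.E_mem D.E_mem D.E_sq (hal.imp id fun h => h.1) hg1
    have hcomm : g = u * g1 * u⁻¹ * g1⁻¹ := by
      rw [hg1i]
      refine Units.ext ?_
      have hui : ((u⁻¹ : GLκ) : Mκ) = slot p ((D.h⁻¹ : GL (Fin k) F) : Matrix (Fin k) (Fin k) F) := by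
        refine Units.inv_eq_of_mul_eq_one_right ?_
        rw [hus, slot_mul, Units.mul_inv, slot_one]
      rw [Units.val_mul, Units.val_mul, Units.val_mul, hg, hg1, hus, hui]
      have e0 : slot p (D.h : Matrix (Fin k) (Fin k) F) * (1 + slot p D.E * slot q D.E) *
          slot p ((D.h⁻¹ : GL (Fin k) F) : Matrix (Fin k) (Fin k) F) = 1 + slot p E' * slot q D.E := by
        rw [mul_add, mul_one, add_mul, slot_mul, Units.mul_inv, slot_one, ← mul_assoc, slot_mul,
          mul_assoc (slot p ((D.h : Matrix (Fin k) (Fin k) F) * D.E)), ← slot_comm hpq, ← mul_assoc, slot_mul]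
      rw [e0, mul_add, mul_one, add_mul (1 : Mκ), one_mul, pair_mul hpq, D.E_sq, slot_zero, mul_zero, add_zero]
      show 1 + slot p (E' + D.E) * slot q D.E = _
      rw [slot_add, add_mul]
      abel
    have hgo : g ∈ omegaGL ⇑Qc := by
      let U : isometryGroup F ⇑Qc := ⟨u, huiso⟩
      let G : isometryGroup F ⇑Qc := ⟨g1, hg1iso⟩
      have hmem : U * G * U⁻¹ * G⁻¹ ∈ Omega F ⇑Qc := by
        show U * G * U⁻¹ * G⁻¹ ∈ commutator (isometryGroup F ⇑Qc)
        rw [commutator_def, ← commutatorElement_def]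
        exact Subgroup.commutator_mem_commutator (Subgroup.mem_top U) (Subgroup.mem_top G)
      rw [hcomm]
      exact Subgroup.mem_map.2 ⟨_, hmem, by simp [U, G]⟩
    have hgK : g ∈ spinNorm Qc D := by
      refine ⟨hgo, ?_⟩
      have hgg : ((g⁻¹ : GLκ) : Mκ) = 1 + slot p A * slot q D.E := by
        obtain ⟨g', hg', hgi⟩ := exists_gen (F := F) h2 hpq (A := A) D.E_sq
        rw [show g = g' from Units.ext (hg.trans hg'.symm), hgi, hg']
      rintro _ ⟨X, hX, rfl⟩
      rw [Finset.mul_sum, Finset.sum_mul, hg, hgg]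
      exact (wSet D t).sum_mem fun i _ => gen_conj D h2 hpq hA D.E_mem D.E_sq i (hX i)
    have hgS : g ∈ tensorWreathStandard k t F := (heq.symm ▸ hgK : g ∈ tensorWreathStandard k t F ⊓ omegaGL ⇑Qc).1
    let x : Fin t → Fin k := Function.update (fun _ => D.a₀) q D.b₀
    obtain ⟨w, hw⟩ := standard_pureVec hgS _ ⟨_, pureVec_single x⟩
    let x₁ := Function.update x p D.a₁
    let x₂ := Function.update x q D.b₁
    let x₃ := Function.update x₁ q D.b₁
    have hv : ∀ z, pureVec w z = (1 : Mκ) z x + (slot p A * slot q D.E) z x := fun z => by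
      rw [hw, hg, Matrix.mulVec_single_one, Matrix.col_apply, Matrix.add_apply]
    have hN : ∀ z, (slot p A * slot q D.E) z x =
        ∏ l, Function.update (Function.update (fun _ => (1 : Matrix (Fin k) (Fin k) F)) p A) q D.E l (z l) (x l) :=
      fun z => by rw [two_pure hpq]; rfl
    have hxp : x p = D.a₀ := by simp [x, hpq]
    have hxq : x q = D.b₀ := by simp [x]
    have v0 : pureVec w x = 1 := by
      rw [hv, Matrix.one_apply_eq, hN, Finset.prod_eq_zero (Finset.mem_univ p) (by
        rw [Function.update_of_ne hpq, Function.update_self, hxp]; exact D.A00), add_zero]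
    have v1 : pureVec w x₁ = 0 := by
      have hne : x₁ ≠ x := fun e => D.a_ne (by simpa [x₁, hxp] using congrFun e p)
      rw [hv, Matrix.one_apply_ne hne, hN, zero_add, Finset.prod_eq_zero (Finset.mem_univ q)]
      rw [Function.update_self, show x₁ q = x q by simp [x₁, hpq.symm], hxq]
      exact D.E00
    have v3 : pureVec w x₃ ≠ 0 := by
      have hne : x₃ ≠ x := fun e => D.b_ne (by simpa [x₃, hxq] using congrFun e q)
      rw [hv, Matrix.one_apply_ne hne, hN, zero_add, Finset.prod_ne_zero_iff]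
      intro l _
      by_cases hq : l = q
      · subst hq; simpa [x₃, hxq] using D.E10
      by_cases hp : l = p
      · subst hp; simpa [x₃, x₁, hq, hxp, A, E'] using D.A10
      · simp [x₃, x₁, hq, hp]
    have hprod : pureVec w x * pureVec w x₃ = pureVec w x₁ * pureVec w x₂ := by
      simp only [pureVec, ← Finset.prod_mul_distrib]
      refine Finset.prod_congr rfl fun l _ => ?_
      by_cases hq : l = q
      · subst hq; simp [x₁, x₂, x₃, hpq.symm]
      · simp [x₁, x₂, x₃, hq, mul_comm]
    rw [v0, v1, one_mul, zero_mul] at hprod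
    exact v3 hprod
  · -- the normaliser is proper
    intro heq
    let i : Fin t := ⟨0, by omega⟩
    let j : Fin t := ⟨1, by omega⟩
    have hij : i ≠ j := by simp [i, j, Fin.ext_iff]
    let x : Fin t → Fin k := fun _ => D.a₀
    let y := Function.update x j D.a₁
    let x' := Function.update x i D.a₁
    set a : (Fin t → Fin k) → F := Pi.single x 1
    set b : (Fin t → Fin k) → F := Pi.single y 1
    have hnd : (QuadraticMap.polarBilin Qc).Nondegenerate := by
      refine nondegenerate_of_separatingLeft _ fun u hu => funext fun z => ?_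
      have h := hu (Pi.single (Fin.rev ∘ z) 1)
      rw [QuadraticMap.polarBilin_apply_apply, hpol, Matrix.mulVec_single_one, dotProduct,
        Finset.sum_eq_single z] at h
      · rw [Matrix.col_apply, G_apply, if_pos rfl, mul_one, mul_eq_zero] at h
        exact h.resolve_left hc
      · intro w _ hw
        rw [Matrix.col_apply, G_apply, if_neg, mul_zero]
        intro e
        exact hw (funext fun l => Fin.rev_injective (congrFun e l).symm)
      · simp
    have hind : ∀ (u v : Fin t → Fin k), u ≠ v → ∀ s s' : F,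
        s • (Pi.single u 1 : (Fin t → Fin k) → F) + s' • Pi.single v 1 = 0 → s = 0 ∧ s' = 0 := by
      intro u v huv s s' h
      exact ⟨by simpa [huv] using congrFun h u, by simpa [huv.symm] using congrFun h v⟩
    have hyx : x ≠ y := fun e => D.a_ne (by simpa [x, y] using (congrFun e j).symm)
    have hBxy : QuadraticMap.polar ⇑Qc a b = 0 := by
      rw [polar_basis Qc hpol, if_neg]
      intro e
      exact D.rev_ne D.a₀ (by simpa [x, y, hij] using (congrFun e i).symm)
    have hTS : TS Qc a b := ⟨quad_basis Qc hpure x, quad_basis Qc hpure y, hBxy, hind x y hyx⟩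
    have hxy' : x' ≠ y := fun e => D.a_ne (by simpa [x', y, x, hij, hij.symm] using congrFun e i)
    have hxx' : x' ≠ x := fun e => D.a_ne (by simpa [x', x] using congrFun e i)
    have hT : Tri Qc := by
      refine ⟨a, b, Pi.single x' 1, hTS, quad_basis Qc hpure _, ?_, ?_, ?_⟩
      · rw [polar_basis Qc hpol, if_neg]
        intro e
        exact D.rev_ne D.a₀ (by simpa [x, x', hij.symm] using (congrFun e j).symm)
      · rw [polar_basis Qc hpol, if_neg]
        intro e
        rcases hal with ht3 | ⟨-, hne⟩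
        · let l : Fin t := ⟨2, by omega⟩
          exact D.rev_ne D.a₀ (by
            simpa [x, y, x', l, i, j, Fin.ext_iff] using (congrFun e l).symm)
        · exact hne (by simpa [x, y, x', hij] using congrFun e i)
      · intro s s' s'' h
        refine ⟨?_, ?_, ?_⟩
        · simpa [a, b, hyx, hxx'.symm] using congrFun h x
        · simpa [a, b, hyx.symm, hxy'.symm] using congrFun h y
        · simpa [a, b, hxx', hxy'] using congrFun h x'
    obtain ⟨g, hgM, hgo⟩ : ∃ g : GLκ, (g : Mκ) = eMat Qc a b ∧ g ∈ omegaGL ⇑Qc :=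
      ⟨_, rfl, ⟨_, sR_le_omega hnd hT (root_mem_sR hTS), rfl⟩⟩
    have hgK : g ∈ spinNorm Qc D := heq.symm ▸ hgo
    set R : Mκ := Matrix.vecMulVec b (polarVec ⇑Qc a) + Matrix.vecMulVec a (polarVec ⇑Qc b) with hR
    have hneg : ∀ v : (Fin t → Fin k) → F, -v = v := fun v => funext fun z => by
      show -v z = v z
      linear_combination (-(v z)) * h2
    have hRv : ∀ v, R *ᵥ v = QuadraticMap.polar ⇑Qc a v • b + QuadraticMap.polar ⇑Qc b v • a := fun v => by
      rw [hR, Matrix.add_mulVec, Matrix.vecMulVec_mulVec, Matrix.vecMulVec_mulVec, polarVec_dotProduct,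
        polarVec_dotProduct, op_smul_eq_smul, op_smul_eq_smul]
    have hgR : (g : Mκ) = 1 + R := Matrix.ext_iff_mulVec.2 fun v => by
      rw [hgM, eMat_mulVec, hTS.2.1, zero_mul, zero_smul, sub_zero, Matrix.add_mulVec, Matrix.one_mulVec, hRv,
        sub_eq_add_neg, hneg, add_assoc]
    have hRR : R * R = 0 := Matrix.ext_iff_mulVec.2 fun v => by
      rw [← Matrix.mulVec_mulVec, hRv v, Matrix.mulVec_add, Matrix.mulVec_smul, Matrix.mulVec_smul, hRv, hRv,
        hBxy, QuadraticMap.polar_comm ⇑Qc b a, hBxy, polar_self' hTS.1, polar_self' hTS.2.1]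
      simp
    have hgg : ((g⁻¹ : GLκ) : Mκ) = 1 + R := by
      refine Units.inv_eq_of_mul_eq_one_right ?_
      rw [hgR, show (1 + R) * (1 + R) = 1 + (R + R) + R * R by noncomm_ring, hRR, ← two_smul F, h2, zero_smul,
        add_zero, add_zero]
    have hrank : R.rank ≤ 2 :=
      (rank_add _ _).trans (Nat.add_le_add (Matrix.rank_vecMulVec_le _ _) (Matrix.rank_vecMulVec_le _ _))
    -- the root element centralises the space
    have hfix : ∀ w ∈ wSet D t, R * w = w * R := by
      intro w hw
      set d := (g : Mκ) * w * ((g⁻¹ : GLκ) : Mκ) - w with hd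
      have hdW : d ∈ wSet D t := (wSet D t).sub_mem (hgK.2 w hw) hw
      have hd1 : d = (R * w - w * R) * ((g⁻¹ : GLκ) : Mκ) := by
        have e : R * w - w * R = (g : Mκ) * w - w * (g : Mκ) := by rw [hgR]; noncomm_ring
        rw [e, sub_mul, mul_assoc w (g : Mκ), Units.mul_inv, mul_one]
      have hdr : d.rank ≤ 4 := by
        rw [hd1, sub_eq_add_neg, ← neg_mul]
        refine (Matrix.rank_mul_le_left _ _).trans ((rank_add _ _).trans (Nat.add_le_add (a := _) (b := 2) (c := _)
          (d := 2) ((Matrix.rank_mul_le_left _ _).trans hrank) ((Matrix.rank_mul_le_right _ _).trans hrank)))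
      obtain ⟨X, hX, hdX⟩ := hdW
      have hscal : ∀ (s : F), s ≠ 0 → (s • (1 : Mκ)).rank = Fintype.card (Fin t → Fin k) := fun s hs =>
        Matrix.rank_of_isUnit _ ((Matrix.isUnit_iff_isUnit_det _).2 (by
          rw [Matrix.det_smul, Matrix.det_one, mul_one]; exact IsUnit.mk0 _ (pow_ne_zero _ hs)))
      have hcentral : ∀ l, ∃ r : F, X l = r • 1 := fun l => D.centre _ (hX l) fun Y hY => by
        obtain ⟨s, hs⟩ := D.sq _ (hX l)
        obtain ⟨s', hs'⟩ := D.sq _ hY
        obtain ⟨s'', hs''⟩ := D.sq _ (D.W.add_mem (hX l) hY)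
        have hb : X l * Y + Y * X l = (s'' - s - s') • 1 := by
          rw [sub_smul, sub_smul, ← hs'', ← hs, ← hs']; noncomm_ring
        have hdY : d * slot l Y + slot l Y * d = (s'' - s - s') • 1 := by
          rw [hdX, Finset.sum_mul, Finset.mul_sum, ← Finset.sum_add_distrib, Finset.sum_eq_single l]
          · rw [slot_mul, slot_mul, ← slot_add, hb, slot_scalar]
          · intro m _ hm
            rw [slot_comm hm, ← two_smul F, h2, zero_smul]
          · simp
        have hb0 : s'' - s - s' = 0 := by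
          by_contra hne
          have h := hscal _ hne
          rw [← hdY] at h
          have := (rank_add (d * slot l Y) (slot l Y * d)).trans (Nat.add_le_add
            ((Matrix.rank_mul_le_left _ _).trans hdr) ((Matrix.rank_mul_le_right _ _).trans hdr))
          omega
        rw [hb0, zero_smul] at hb
        refine eq_of_sub_eq_zero (Matrix.ext fun u v => ?_)
        have := congrFun (congrFun hb u) v
        rw [Matrix.add_apply, Matrix.zero_apply] at this
        rw [Matrix.sub_apply, Matrix.zero_apply]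
        linear_combination this - ((Y * X l) u v) * h2
      choose r hr using hcentral
      have hds : d = (∑ l, r l) • 1 := by
        rw [hdX, Finset.sum_smul]
        exact Finset.sum_congr rfl fun l _ => by rw [hr l, slot_scalar]
      have hr0 : ∑ l, r l = 0 := by
        by_contra hne
        have h := hscal _ hne
        rw [← hds] at h
        omega
      rw [hr0, zero_smul, hd1] at hds
      have := congrArg (· * (g : Mκ)) hds
      simp only [mul_assoc, Units.inv_mul, mul_one, zero_mul] at this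
      exact sub_eq_zero.1 this
    set A := (D.h : Matrix (Fin k) (Fin k) F) * D.E * ((D.h⁻¹ : GL (Fin k) F) : Matrix (Fin k) (Fin k) F) + D.E
    have hA : A ∈ D.W := D.W.add_mem (D.conj D.h 1 one_ne_zero (by rw [D.h_iso, one_smul]) D.E D.E_mem) D.E_mem
    have h := congrArg (fun M : Mκ => (M *ᵥ Pi.single (Fin.rev ∘ y) 1) x') (hfix _ (slot_mem (i := i) D hA))
    simp only [← Matrix.mulVec_mulVec] at h
    have hRz : R *ᵥ Pi.single (Fin.rev ∘ y) 1 = c • a := by
      rw [hRv, polar_basis Qc hpol, polar_basis Qc hpol, if_pos rfl, if_neg, zero_smul, zero_add]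
      intro e
      exact hyx (funext fun l => Fin.rev_injective (congrFun e l).symm)
    rw [hRz, hRv, Matrix.mulVec_smul] at h
    have hsl : (slot i A *ᵥ a) x' = A D.a₁ D.a₀ := by
      rw [Matrix.mulVec_single_one, Matrix.col_apply]
      simp +contextual [slot, x', x]
    simp only [Pi.add_apply, Pi.smul_apply, smul_eq_mul, hsl, a, b, Pi.single_eq_of_ne hxx',
      Pi.single_eq_of_ne hxy', mul_zero, add_zero] at h
    exact mul_ne_zero hc D.A10 h.symm

end Core

end Cfsg.Agent.Classical.TensorSpin
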