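import Cfsg.Agent.Lib.Classical.AschFormTensor

/-!
The five-dimensional (respectively three-dimensional) space of matrices with scalar squares attached to an
alternating form on a space of dimension four (respectively two) in characteristic two.
-/

set_option autoImplicit false
set_option linter.unusedSectionVars false

namespace Cfsg.Agent.Classical.TensorSpin

open Matrix Module

variable {F : Type*} [Field F]

/-- The antidiagonal form. -/
def rv (F : Type*) [Field F] (k : ℕ) : Matrix (Fin k) (Fin k) F := Matrix.of fun a b => if b = a.rev then 1 else 0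

theorem rv_apply (k : ℕ) (a b : Fin k) : rv F k a b = if b = a.rev then 1 else 0 := rfl

theorem rv_mul_apply {k : ℕ} (X : Matrix (Fin k) (Fin k) F) (a b : Fin k) : (rv F k * X) a b = X a.rev b := by
  simp [Matrix.mul_apply, rv_apply]

theorem mul_rv_apply {k : ℕ} (X : Matrix (Fin k) (Fin k) F) (a b : Fin k) : (X * rv F k) a b = X a b.rev := by
  rw [Matrix.mul_apply, Finset.sum_eq_single b.rev]
  · simp [rv_apply]
  · intro c _ hc
    rw [rv_apply, if_neg, mul_zero]
    intro e; exact hc (by rw [e, Fin.rev_rev])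
  · simp

theorem rv_sq (k : ℕ) : rv F k * rv F k = 1 := by
  ext a b; rw [rv_mul_apply, rv_apply, Fin.rev_rev, Matrix.one_apply]; simp [eq_comm]

theorem rv_transpose (k : ℕ) : (rv F k)ᵀ = rv F k := by
  ext a b; simp only [Matrix.transpose_apply, rv_apply]
  by_cases h : b = a.rev
  · subst h; simp
  · rw [if_neg h, if_neg fun e => h (by rw [e, Fin.rev_rev])]

theorem rv_det_ne (k : ℕ) : (rv F k).det ≠ 0 := fun h => by
  have := congrArg Matrix.det (rv_sq (F := F) k)
  rw [Matrix.det_mul, h, zero_mul, Matrix.det_one] at this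
  exact zero_ne_one this

/-- What is needed of the space of matrices. -/
structure Data (F : Type*) [Field F] (k : ℕ) where
  W : Submodule F (Matrix (Fin k) (Fin k) F)
  sq : ∀ X ∈ W, ∃ s : F, X * X = s • (1 : Matrix (Fin k) (Fin k) F)
  adj : ∀ X ∈ W, Xᵀ * rv F k = rv F k * X
  conj : ∀ (a : GL (Fin k) F) (l : F), l ≠ 0 →
    (a : Matrix (Fin k) (Fin k) F)ᵀ * (rv F k * (a : Matrix (Fin k) (Fin k) F)) = l • rv F k → ∀ X ∈ W,
      (a : Matrix (Fin k) (Fin k) F) * X * ((a⁻¹ : GL (Fin k) F) : Matrix (Fin k) (Fin k) F) ∈ W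
  centre : ∀ X ∈ W, (∀ Y ∈ W, X * Y = Y * X) → ∃ r : F, X = r • 1
  one : (1 : Matrix (Fin k) (Fin k) F) ∈ W
  h : GL (Fin k) F
  h_iso : (h : Matrix (Fin k) (Fin k) F)ᵀ * (rv F k * (h : Matrix (Fin k) (Fin k) F)) = rv F k
  E : Matrix (Fin k) (Fin k) F
  E_mem : E ∈ W
  E_sq : E * E = 0
  a₀ : Fin k
  a₁ : Fin k
  b₀ : Fin k
  b₁ : Fin k
  a_ne : a₁ ≠ a₀
  b_ne : b₁ ≠ b₀
  rev_ne : ∀ a : Fin k, a.rev ≠ a
  A00 : ((h : Matrix (Fin k) (Fin k) F) * E * ((h⁻¹ : GL (Fin k) F) : Matrix (Fin k) (Fin k) F) + E) a₀ a₀ = 0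
  A10 : ((h : Matrix (Fin k) (Fin k) F) * E * ((h⁻¹ : GL (Fin k) F) : Matrix (Fin k) (Fin k) F) + E) a₁ a₀ ≠ 0
  E00 : E b₀ b₀ = 0
  E10 : E b₁ b₀ ≠ 0

/-- The flip. -/
def rvGL (F : Type*) [Field F] (k : ℕ) : GL (Fin k) F := ⟨rv F k, rv F k, rv_sq k, rv_sq k⟩

theorem rvGL_iso (k : ℕ) :
    (rvGL F k : Matrix (Fin k) (Fin k) F)ᵀ * (rv F k * (rvGL F k : Matrix (Fin k) (Fin k) F)) = rv F k := by
  show (rv F k)ᵀ * (rv F k * rv F k) = rv F k
  rw [rv_sq, mul_one, rv_transpose]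

theorem neg_self (h2 : (2 : F) = 0) (x : F) : x + x = 0 := by linear_combination x * h2

section Two

/-- The trace zero matrices. -/
def W2 (F : Type*) [Field F] : Submodule F (Matrix (Fin 2) (Fin 2) F) where
  carrier := {X | X 0 0 = X 1 1}
  add_mem' := fun {a b} ha hb => by simp_all
  zero_mem' := by simp
  smul_mem' := fun c x hx => by simp_all

theorem mem_W2 {X : Matrix (Fin 2) (Fin 2) F} : X ∈ W2 F ↔ X 0 0 = X 1 1 := Iff.rfl

/-- The data in dimension two. -/
def data2 (h2 : (2 : F) = 0) : Data F 2 where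
  W := W2 F
  sq X hX := ⟨X 0 0 * X 0 0 + X 0 1 * X 1 0, by
    rw [mem_W2] at hX
    ext i j
    fin_cases i <;> fin_cases j <;> simp [Matrix.mul_apply, Fin.sum_univ_two, ← hX]
    · linear_combination (X 0 0 * X 0 1) * h2
    · linear_combination (X 0 0 * X 1 0) * h2
    · ring⟩
  adj X hX := by
    rw [mem_W2] at hX
    ext i j
    rw [rv_mul_apply, mul_rv_apply]
    fin_cases i <;> fin_cases j <;> simp [hX]
  conj a l _ _ X hX := by
    rw [mem_W2] at hX ⊢
    have h : Matrix.trace ((a : Matrix (Fin 2) (Fin 2) F) * X * ((a⁻¹ : GL (Fin 2) F) : Matrix (Fin 2) (Fin 2) F)) =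
        Matrix.trace X := Matrix.trace_units_conj a X
    rw [Matrix.trace_fin_two, Matrix.trace_fin_two, hX] at h
    linear_combination h + (X 1 1 - ((a : Matrix (Fin 2) (Fin 2) F) * X *
      ((a⁻¹ : GL (Fin 2) F) : Matrix (Fin 2) (Fin 2) F)) 1 1) * h2
  centre X hX h := by
    rw [mem_W2] at hX
    have e1 := congrFun (congrFun (h !![0, 1; 0, 0] (by simp [mem_W2])) 0) 0
    have e2 := congrFun (congrFun (h !![0, 0; 1, 0] (by simp [mem_W2])) 0) 0
    simp [Matrix.mul_apply, Fin.sum_univ_two] at e1 e2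
    refine ⟨X 0 0, ?_⟩
    ext i j; fin_cases i <;> fin_cases j <;> simp [hX, e1.symm, e2]
  one := by simp [mem_W2]
  h := rvGL F 2
  h_iso := rvGL_iso 2
  E := !![0, 1; 0, 0]
  E_mem := by simp [mem_W2]
  E_sq := by ext i j; fin_cases i <;> fin_cases j <;> simp
  a₀ := 0
  a₁ := 1
  b₀ := 1
  b₁ := 0
  a_ne := by decide
  b_ne := by decide
  rev_ne := by decide
  A00 := by simp [rvGL, Matrix.add_apply, rv_mul_apply, mul_rv_apply]
  A10 := by simp [rvGL, Matrix.add_apply, rv_mul_apply, mul_rv_apply]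
  E00 := by simp
  E10 := by simp

end Two

section Four

/-- A matrix of the five-dimensional space. -/
def m4 (p q r u v : F) : Matrix (Fin 4) (Fin 4) F := !![r, u, v, 0; q, r, 0, v; p, 0, r, u; 0, p, q, r]

/-- The five-dimensional space. -/
def W4 (F : Type*) [Field F] : Submodule F (Matrix (Fin 4) (Fin 4) F) where
  carrier := {X | ∃ p q r u v, X = m4 p q r u v}
  add_mem' := by
    rintro _ _ ⟨p, q, r, u, v, rfl⟩ ⟨p', q', r', u', v', rfl⟩
    exact ⟨p + p', q + q', r + r', u + u', v + v', by ext i j; fin_cases i <;> fin_cases j <;> simp [m4]⟩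
  zero_mem' := ⟨0, 0, 0, 0, 0, by ext i j; fin_cases i <;> fin_cases j <;> simp [m4]⟩
  smul_mem' := by
    rintro c _ ⟨p, q, r, u, v, rfl⟩
    exact ⟨c * p, c * q, c * r, c * u, c * v, by ext i j; fin_cases i <;> fin_cases j <;> simp [m4]⟩

theorem m4_sq (h2 : (2 : F) = 0) (p q r u v : F) :
    m4 p q r u v * m4 p q r u v = (r * r + u * q + v * p) • (1 : Matrix (Fin 4) (Fin 4) F) := by
  ext i j
  fin_cases i <;> fin_cases j <;> simp [m4, Matrix.mul_apply, Fin.sum_univ_four] <;>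
    first
      | ring1
      | linear_combination (r * u) * h2
      | linear_combination (r * v) * h2
      | linear_combination (r * q) * h2
      | linear_combination (r * p) * h2
      | linear_combination (u * v) * h2
      | linear_combination (q * v) * h2
      | linear_combination (p * u) * h2
      | linear_combination (p * q) * h2

theorem mem_W4 (h2 : (2 : F) = 0) {X : Matrix (Fin 4) (Fin 4) F} :
    X ∈ W4 F ↔ ((∀ a, X a.rev a = 0) ∧ ∀ a b, X a.rev b = X b.rev a) ∧ ∃ s : F, X * X = s • 1 := by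
  constructor
  · rintro ⟨p, q, r, u, v, rfl⟩
    refine ⟨⟨fun a => ?_, fun a b => ?_⟩, _, m4_sq h2 p q r u v⟩
    · fin_cases a <;> simp [m4, Fin.rev]
    · fin_cases a <;> fin_cases b <;> simp [m4, Fin.rev]
  · rintro ⟨⟨hd, hs⟩, s, hX⟩
    have e30 : X 3 0 = 0 := hd 0
    have e21 : X 2 1 = 0 := hd 1
    have e12 : X 1 2 = 0 := hd 2
    have e03 : X 0 3 = 0 := hd 3
    have e31 : X 3 1 = X 2 0 := hs 0 1
    have e32 : X 3 2 = X 1 0 := hs 0 2
    have e33 : X 3 3 = X 0 0 := hs 0 3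
    have e22 : X 2 2 = X 1 1 := hs 1 2
    have e23 : X 2 3 = X 0 1 := hs 1 3
    have e13 : X 1 3 = X 0 2 := hs 2 3
    have h0 := congrFun (congrFun hX 0) 0
    have h1 := congrFun (congrFun hX 1) 1
    simp [Matrix.mul_apply, Fin.sum_univ_four, e03, e30, e12, e21, e31, e13] at h0 h1
    have hr : X 1 1 = X 0 0 := by
      have : (X 1 1 + X 0 0) * (X 1 1 + X 0 0) = 0 := by
        linear_combination h0 + h1 - (X 0 1 * X 1 0 + X 0 2 * X 2 0 - X 0 0 * X 1 1 - s) * h2
      linear_combination mul_self_eq_zero.1 this - X 0 0 * h2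
    refine ⟨X 2 0, X 1 0, X 0 0, X 0 1, X 0 2, ?_⟩
    ext i j
    fin_cases i <;> fin_cases j <;> simp [m4, e03, e30, e12, e21, e31, e32, e33, e22, e23, e13, hr]

theorem congr_alt (h2 : (2 : F) = 0) (S M : Matrix (Fin 4) (Fin 4) F) (hd : ∀ a, S a a = 0)
    (hs : ∀ a b, S a b = S b a) : (∀ a, (Mᵀ * (S * M)) a a = 0) ∧ ∀ a b, (Mᵀ * (S * M)) a b = (Mᵀ * (S * M)) b a := by
  constructor
  · intro i
    simp only [Matrix.mul_apply, Matrix.transpose_apply, Fin.sum_univ_four, hd, hs 1 0, hs 2 0, hs 2 1, hs 3 0,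
      hs 3 1, hs 3 2]
    linear_combination (S 0 1 * M 0 i * M 1 i + S 0 2 * M 0 i * M 2 i + S 0 3 * M 0 i * M 3 i +
      S 1 2 * M 1 i * M 2 i + S 1 3 * M 1 i * M 3 i + S 2 3 * M 2 i * M 3 i) * h2
  · intro a b
    have : (Mᵀ * (S * M))ᵀ = Mᵀ * (S * M) := by
      rw [Matrix.transpose_mul, Matrix.transpose_mul, Matrix.transpose_transpose,
        show Sᵀ = S from Matrix.ext fun a b => hs b a, mul_assoc]
    exact (congrFun (congrFun this a) b).symm.trans rfl

/-- The data in dimension four. -/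
def data4 (h2 : (2 : F) = 0) : Data F 4 where
  W := W4 F
  sq X hX := ((mem_W4 h2).1 hX).2
  adj X hX := by
    ext i j
    rw [rv_mul_apply, mul_rv_apply]
    exact ((mem_W4 h2).1 hX).1.2 j i
  conj a l hl ha X hX := by
    obtain ⟨⟨hd, hs⟩, s, hX⟩ := (mem_W4 h2).1 hX
    set A := (a : Matrix (Fin 4) (Fin 4) F)
    set B := ((a⁻¹ : GL (Fin 4) F) : Matrix (Fin 4) (Fin 4) F)
    have hAB : A * B = 1 := Units.mul_inv a
    have hBA : B * A = 1 := Units.inv_mul a
    obtain ⟨c1, c2⟩ := congr_alt h2 (rv F 4 * X) B (fun a => by rw [rv_mul_apply, hd])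
      (fun a b => by rw [rv_mul_apply, rv_mul_apply, hs])
    have hDA : rv F 4 * A = l • (Bᵀ * rv F 4) := by
      rw [← Matrix.mul_smul, ← ha, ← mul_assoc, ← Matrix.transpose_mul, hAB, Matrix.transpose_one, one_mul]
    have hkey : rv F 4 * (A * X * B) = l • (Bᵀ * (rv F 4 * X * B)) := by
      rw [← mul_assoc, ← mul_assoc, hDA, Matrix.smul_mul, Matrix.smul_mul, mul_assoc, mul_assoc, mul_assoc]
    refine (mem_W4 h2).2 ⟨⟨fun i => ?_, fun i j => ?_⟩, s, ?_⟩
    · refine (rv_mul_apply (A * X * B) i i).symm.trans ?_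
      rw [hkey, Matrix.smul_apply, c1, smul_zero]
    · refine (rv_mul_apply (A * X * B) i j).symm.trans (Eq.trans ?_ (rv_mul_apply (A * X * B) j i))
      rw [hkey, Matrix.smul_apply, Matrix.smul_apply, c2]
    · calc A * X * B * (A * X * B) = A * (X * (B * A) * X) * B := by simp only [mul_assoc]
        _ = _ := by rw [hBA, mul_one, hX, Matrix.mul_smul, Matrix.smul_mul, mul_one, hAB]
  centre X hX h := by
    obtain ⟨p, q, r, u, v, rfl⟩ := hX
    refine ⟨r, ?_⟩
    have e1 := congrFun (congrFun (h (m4 1 0 0 0 0) ⟨_, _, _, _, _, rfl⟩) 0) 0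
    have e2 := congrFun (congrFun (h (m4 0 1 0 0 0) ⟨_, _, _, _, _, rfl⟩) 0) 0
    have e3 := congrFun (congrFun (h (m4 0 0 0 1 0) ⟨_, _, _, _, _, rfl⟩) 0) 0
    have e4 := congrFun (congrFun (h (m4 0 0 0 0 1) ⟨_, _, _, _, _, rfl⟩) 0) 0
    simp [m4, Matrix.mul_apply, Fin.sum_univ_four] at e1 e2 e3 e4
    subst e1 e2 e3 e4
    ext i j; fin_cases i <;> fin_cases j <;> simp [m4]
  one := ⟨0, 0, 1, 0, 0, by ext i j; fin_cases i <;> fin_cases j <;> simp [m4]⟩
  h := rvGL F 4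
  h_iso := rvGL_iso 4
  E := m4 1 0 0 0 0
  E_mem := ⟨_, _, _, _, _, rfl⟩
  E_sq := by rw [m4_sq h2]; simp
  a₀ := 0
  a₁ := 2
  b₀ := 0
  b₁ := 2
  a_ne := by decide
  b_ne := by decide
  rev_ne := by decide
  A00 := by simp [rvGL, m4, Matrix.add_apply, rv_mul_apply, mul_rv_apply, Fin.rev]
  A10 := by simp [rvGL, m4, Matrix.add_apply, rv_mul_apply, mul_rv_apply, Fin.rev]
  E00 := by simp [m4]
  E10 := by simp [m4]

end Four

end Cfsg.Agent.Classical.TensorSpin
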