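import Cfsg.Agent.Lib.Classical.TensorSpin

/-!
The stabiliser of a tensor power of symplectic spaces of dimension at most four is not maximal in `Ω` in
characteristic two.
-/

set_option autoImplicit false
set_option linter.unusedSectionVars false

namespace Cfsg.Agent.Classical.TensorSpin

open Matrix Module Cfsg.Geo Cfsg.Agent.Classical.Asch Cfsg.Agent.Classical.OrthAut

variable {F : Type*} [Field F]

theorem exists_congr_rv {k : ℕ} (hk : k = 2 ∨ k = 4) (h2 : (2 : F) = 0) {M : Matrix (Fin k) (Fin k) F} (hd : M.det ≠ 0)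
    (hA : ∀ v, FormSim.bf M v v = 0) :
    ∃ (T : GL (Fin k) F) (c : F), c ≠ 0 ∧
      (T : Matrix (Fin k) (Fin k) F)ᵀ * (M * (T : Matrix (Fin k) (Fin k) F)) = c • rv F k := by
  obtain ⟨m, hm⟩ : ∃ m, k = 2 * m := by rcases hk with rfl | rfl <;> [exact ⟨1, rfl⟩; exact ⟨2, rfl⟩]
  have hrA : ∀ v, FormSim.bf (rv F k) v v = 0 := by
    rcases hk with rfl | rfl <;> intro v <;>
      simp [FormSim.bf, Matrix.mulVec, dotProduct, Fin.sum_univ_two, Fin.sum_univ_four, rv_apply, Fin.rev]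
    · linear_combination (v 0 * v 1) * h2
    · linear_combination (v 0 * v 3 + v 1 * v 2) * h2
  obtain ⟨L, c, hc, hL⟩ := (FormSim.similar_J M (m := m) (by simp [hm]) hd hA).trans
    (FormSim.similar_J (rv F k) (m := m) (by simp [hm]) (rv_det_ne k) hrA).symm
  have hTd : (LinearMap.toMatrix' L.toLinearMap).det ≠ 0 := by
    rw [LinearMap.det_toMatrix']
    exact L.isUnit_det'.ne_zero
  refine ⟨Matrix.GeneralLinearGroup.mkOfDetNeZero _ hTd, c, hc, ?_⟩
  rw [← mul_assoc]
  refine FormSim.eq_of_bf fun u v => ?_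
  rw [FormSim.bf_congr, FormSim.bf_smul]
  show FormSim.bf M (LinearMap.toMatrix' L.toLinearMap *ᵥ u) (LinearMap.toMatrix' L.toLinearMap *ᵥ v) = _
  rw [← Matrix.toLin'_apply, ← Matrix.toLin'_apply, Matrix.toLin'_toMatrix']
  exact hL u v

variable [Fintype F] {ι : Type} [Fintype ι] [DecidableEq ι] (Q : QuadraticForm F (ι → F))

/-- Transport along a tensor frame. -/
theorem transport {k t : ℕ} (e : ι ≃ (Fin t → Fin k)) (P : GL ι F) {u : GL (Fin t → Fin k) F}
    (hu : u ∈ tensorWreathStandard k t F) {Qc : QuadraticForm F ((Fin t → Fin k) → F)}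
    (hQc : ∀ z, Qc z = Q ((P : Matrix ι ι F) *ᵥ (((u : Matrix (Fin t → Fin k) (Fin t → Fin k) F) *ᵥ z) ∘ e)))
    (h : ∃ K : Subgroup (GL (Fin t → Fin k) F),
      tensorWreathStandard k t F ⊓ omegaGL ⇑Qc < K ∧ K < omegaGL ⇑Qc) :
    ∃ K : Subgroup (GL ι F), tensorWreathSubgroup k t e P ⊓ omegaGL ⇑Q < K ∧ K < omegaGL ⇑Q := by
  obtain ⟨K, hK1, hK2⟩ := h
  let Φ : GL (Fin t → Fin k) F ≃* GL ι F :=
    ((MulAut.conj u).trans (glReindex e.symm)).trans (MulAut.conj P)
  have hre : ∀ (g : GL (Fin t → Fin k) F) (z : (Fin t → Fin k) → F),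
      ((glReindex e.symm g : GL ι F) : Matrix ι ι F) *ᵥ (z ∘ e) = ((g : Matrix (Fin t → Fin k) (Fin t → Fin k) F) *ᵥ z) ∘ e := fun g z => by
    show Matrix.reindexAlgEquiv F F e.symm (g : Matrix (Fin t → Fin k) (Fin t → Fin k) F) *ᵥ (z ∘ e) = _
    rw [Matrix.reindexAlgEquiv_apply, Matrix.reindex_apply, Matrix.submatrix_mulVec_equiv]
    simp [Function.comp_assoc]
  have hΦ : ∀ (g : GL (Fin t → Fin k) F) (z : (Fin t → Fin k) → F),
      Q ((Φ g : Matrix ι ι F) *ᵥ ((P : Matrix ι ι F) *ᵥ (((u : Matrix (Fin t → Fin k) (Fin t → Fin k) F) *ᵥ z) ∘ e))) =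
        Qc ((g : Matrix (Fin t → Fin k) (Fin t → Fin k) F) *ᵥ z) := fun g z => by
    rw [hQc]
    congr 1
    show ((P * glReindex e.symm (u * g * u⁻¹) * P⁻¹ : GL ι F) : Matrix ι ι F) *ᵥ _ = _
    rw [Units.val_mul, ← Matrix.mulVec_mulVec, Matrix.mulVec_mulVec _ ((P⁻¹ : GL ι F) : Matrix ι ι F),
      Units.inv_mul, Matrix.one_mulVec, Units.val_mul, ← Matrix.mulVec_mulVec, hre, Units.val_mul,
      ← Matrix.mulVec_mulVec, Matrix.mulVec_mulVec _ ((u⁻¹ : GL (Fin t → Fin k) F) : Matrix (Fin t → Fin k) (Fin t → Fin k) F), Units.inv_mul,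
      Matrix.one_mulVec, Units.val_mul, ← Matrix.mulVec_mulVec]
  have hiso : (isometryGroup F ⇑Qc).map Φ.toMonoidHom = isometryGroup F ⇑Q := by
    refine Subgroup.ext fun g => ?_
    obtain ⟨g, rfl⟩ := Φ.surjective g
    rw [Subgroup.mem_map_equiv, MulEquiv.symm_apply_apply, mem_isometryGroup, mem_isometryGroup]
    constructor
    · intro h v
      obtain ⟨z, rfl⟩ : ∃ z, (P : Matrix ι ι F) *ᵥ (((u : Matrix (Fin t → Fin k) (Fin t → Fin k) F) *ᵥ z) ∘ e) = v := by
        refine ⟨((u⁻¹ : GL (Fin t → Fin k) F) : Matrix (Fin t → Fin k) (Fin t → Fin k) F) *ᵥ ((((P⁻¹ : GL ι F) : Matrix ι ι F) *ᵥ v) ∘ e.symm), ?_⟩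
        rw [Matrix.mulVec_mulVec _ (u : Matrix (Fin t → Fin k) (Fin t → Fin k) F), Units.mul_inv, Matrix.one_mulVec, Function.comp_assoc,
          Equiv.symm_comp_self, Function.comp_id, Matrix.mulVec_mulVec, Units.mul_inv, Matrix.one_mulVec]
      rw [hΦ, h, hQc]
    · intro h z
      rw [← hΦ, h, hQc]
  have hom : (omegaGL ⇑Qc).map Φ.toMonoidHom = omegaGL ⇑Q := by
    simp only [omegaGL]
    show (Subgroup.map _ (commutator _)).map _ = Subgroup.map _ (commutator _)
    rw [Subgroup.map_subtype_commutator, Subgroup.map_subtype_commutator, Subgroup.map_commutator, hiso]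
  have hW : (tensorWreathStandard k t F).map Φ.toMonoidHom = tensorWreathSubgroup k t e P := by
    have hu' : (tensorWreathStandard k t F).map (MulAut.conj u).toMonoidHom = tensorWreathStandard k t F := by
      refine Subgroup.ext fun g => ?_
      rw [Subgroup.mem_map_equiv, MulAut.conj_symm_apply]
      exact ⟨fun h => by simpa [mul_assoc] using mul_mem (mul_mem hu h) (inv_mem hu),
        fun h => mul_mem (mul_mem (inv_mem hu) h) hu⟩
    rw [tensorWreathSubgroup]
    conv_rhs => rw [← hu', Subgroup.map_map, Subgroup.map_map]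
    rfl
  refine ⟨K.map Φ.toMonoidHom, ?_, ?_⟩
  · rw [← hW, ← hom, ← Subgroup.map_inf _ _ _ Φ.injective]
    exact Subgroup.map_lt_map_iff_of_injective Φ.injective |>.2 hK1
  · rw [← hom]
    exact Subgroup.map_lt_map_iff_of_injective Φ.injective |>.2 hK2

/-- The stabiliser of a tensor power of small symplectic spaces is not maximal in `Ω`. -/
theorem not_maximal (hQ : (QuadraticMap.polarBilin Q).Nondegenerate) (h2 : (2 : F) = 0)
    (hι : 13 ≤ Fintype.card ι) {k t : ℕ} (ht : 2 ≤ t) (hk : k ≤ 4) (e : ι ≃ (Fin t → Fin k)) (P : GL ι F)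
    {f₁ : (Fin k → F) → (Fin k → F) → F} (hf₁ : IsSymplecticForm f₁)
    (hT : IsTensorPowerFormStructure id (QuadraticMap.polar ⇑Q) f₁ e P)
    (hpure : ∀ xs : Fin t → (Fin k → F),
      Q ((P : Matrix ι ι F) *ᵥ ((fun a : Fin t → Fin k => ∏ i, xs i (a i)) ∘ e)) = 0) :
    ∃ K : Subgroup (GL ι F), tensorWreathSubgroup k t e P ⊓ omegaGL ⇑Q < K ∧ K < omegaGL ⇑Q := by
  classical
  obtain ⟨c, hc, hcf⟩ := hT
  have hcard : Fintype.card ι = k ^ t := by rw [Fintype.card_congr e, Fintype.card_fun, Fintype.card_fin, Fintype.card_fin]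
  have hs := Asch.sesq_of_bilinear hf₁.bilinear
  set M : Matrix (Fin k) (Fin k) F := gramMatrix f₁
  have hfM : ∀ v w, f₁ v w = FormSim.bf M v w := fun v w => by
    rw [hs.eq_gram]
    simp only [formOfGram, FormSim.bf, dotProduct, Matrix.mulVec, Finset.mul_sum, RingEquiv.refl_apply, M,
      gramMatrix, Matrix.of_apply, mul_assoc]
  have hA : ∀ v, FormSim.bf M v v = 0 := fun v => by rw [← hfM]; exact hf₁.alternating v
  have hMd : M.det ≠ 0 := fun h0 => by
    obtain ⟨v, hv, hMv⟩ := Matrix.exists_mulVec_eq_zero_iff.2 h0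
    obtain ⟨-, w, hw⟩ := hf₁.nondegenerate v hv
    refine hw ?_
    rw [hf₁.skew, hfM, FormSim.bf, hMv, dotProduct_zero, neg_zero]
  have hkk : k = 2 ∨ k = 4 := by
    have heven : k ≠ 1 ∧ k ≠ 3 := by
      constructor <;> rintro rfl
      · rw [hcard, one_pow] at hι; omega
      · refine hMd ?_
        have hsym : ∀ a b, M a b = M b a := fun a b => by
          have h := hA (Pi.single a 1 + Pi.single b 1)
          have ha := hA (Pi.single a 1)
          have hb := hA (Pi.single b 1)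
          simp only [FormSim.bf, Matrix.mulVec_add, add_dotProduct, dotProduct_add, Matrix.mulVec_single_one,
            single_dotProduct, one_mul, Matrix.col_apply] at h ha hb
          linear_combination h - ha - hb - M b a * h2
        have hdiag : ∀ a, M a a = 0 := fun a => by rw [← FormSim.bf_single M a a]; exact hA _
        rw [Matrix.det_fin_three, hdiag 0, hdiag 1, hdiag 2, hsym 1 0, hsym 2 0, hsym 2 1]
        linear_combination (M 0 1 * M 1 2 * M 0 2) * h2
    rcases Nat.eq_zero_or_pos k with rfl | hk0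
    · rw [hcard, zero_pow (by omega)] at hι; omega
    omega
  obtain ⟨T, d, hd, hTM⟩ := exists_congr_rv hkk h2 hMd hA
  obtain ⟨u, hu, humem⟩ := pure_mem_standard (F := F) (fun _ : Fin t => T)
  let Qc : QuadraticForm F ((Fin t → Fin k) → F) :=
    Q.comp ((Matrix.mulVecLin (P : Matrix ι ι F)).comp ((LinearMap.funLeft F F e).comp
      (Matrix.mulVecLin (u : Matrix (Fin t → Fin k) (Fin t → Fin k) F))))
  have hQc : ∀ z, Qc z = Q ((P : Matrix ι ι F) *ᵥ (((u : Matrix (Fin t → Fin k) (Fin t → Fin k) F) *ᵥ z) ∘ e)) := fun z => rfl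
  refine transport Q e P humem hQc ?_
  have hc' : c * d ^ t ≠ 0 := mul_ne_zero hc (pow_ne_zero _ hd)
  have hpol : ∀ x y, QuadraticMap.polar ⇑Qc x y =
      (c * d ^ t) * (x ⬝ᵥ (pureMat (fun _ : Fin t => rv F k) *ᵥ y)) := by
    intro x y
    have e1 : QuadraticMap.polar ⇑Qc x y = QuadraticMap.polar ⇑Q ((P : Matrix ι ι F) *ᵥ (((u : Matrix (Fin t → Fin k) (Fin t → Fin k) F) *ᵥ x) ∘ e))
        ((P : Matrix ι ι F) *ᵥ (((u : Matrix (Fin t → Fin k) (Fin t → Fin k) F) *ᵥ y) ∘ e)) := by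
      simp only [QuadraticMap.polar, hQc, Matrix.mulVec_add]
      rw [show (((u : Matrix (Fin t → Fin k) (Fin t → Fin k) F) *ᵥ x + (u : Matrix (Fin t → Fin k) (Fin t → Fin k) F) *ᵥ y) ∘ e) =
        ((u : Matrix (Fin t → Fin k) (Fin t → Fin k) F) *ᵥ x) ∘ e + ((u : Matrix (Fin t → Fin k) (Fin t → Fin k) F) *ᵥ y) ∘ e from rfl, Matrix.mulVec_add]
    have e2 : ∀ x y : (Fin t → Fin k) → F, ∑ a, ∑ b, x a * (∏ i, M (a i) (b i)) * id (y b) =
        x ⬝ᵥ (pureMat (fun _ : Fin t => M) *ᵥ y) := fun x y => by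
      simp only [dotProduct, Matrix.mulVec, pureMat, Matrix.of_apply, Finset.mul_sum, mul_assoc, id_eq]
    rw [e1, hcf, e2, Matrix.mulVec_mulVec, Matrix.dotProduct_mulVec, Matrix.vecMul_mulVec,
      ← Matrix.dotProduct_mulVec, hu, pureMat_transpose, pureMat_mul, pureMat_mul]
    simp only [hTM, pureMat_smul, Finset.prod_const, Finset.card_univ, Fintype.card_fin]
    rw [Matrix.smul_mulVec, dotProduct_smul, smul_eq_mul, mul_assoc]
  have hpure' : ∀ w, Qc (pureVec w) = 0 := fun w => by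
    rw [hQc, hu, pureMat_mulVec]; exact hpure _
  have hn : 13 ≤ Fintype.card (Fin t → Fin k) := by rwa [← Fintype.card_congr e]
  rcases hkk with rfl | rfl
  · refine core Qc (data2 h2) h2 hc' hpol hpure' ht hn (Or.inl ?_)
    by_contra h
    rw [hcard, show t = 2 by omega] at hι
    omega
  · exact core Qc (data4 h2) h2 hc' hpol hpure' ht hn (Or.inr ⟨fun X hX => ((mem_W4 h2).1 hX).1.1,
      show (2 : Fin 4) ≠ Fin.rev 0 by decide⟩)

end Cfsg.Agent.Classical.TensorSpin
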