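import Cfsg.Agent.Lib.Classical.UnitDichotomy
import Cfsg.Agent.Lib.Classical.UnitOrders
import Cfsg.Agent.Lib.Fus.PrimeGraphRoots
import Cfsg.Agent.Lib.Fus.PrimeGraphLinear
import Cfsg.Agent.Lib.Recog.Zsigmondy
import Mathlib

/-!
The largest torus of `PSL n` and `PSU n`: the order of an element whose order has a primitive prime divisor
divides `|1 + e + ⋯ + e ^ (n - 1)| / gcd (n, e - 1)`, `e = q` or `e = -q`.
-/

set_option autoImplicit false

namespace Cfsg.Agent.TorusBound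

open Matrix Polynomial Cfsg.Agent.Classical

/-- `|1 + e + ⋯ + e ^ (k - 1)|` -/
def gsum (e : ℤ) (k : ℕ) : ℕ := (∑ i ∈ Finset.range k, e ^ i).natAbs

/-- the order of the torus -/
def torus (e : ℤ) (n : ℕ) : ℕ := gsum e n / Nat.gcd n (e - 1).natAbs

theorem sum_modEq (e : ℤ) (k : ℕ) : (e - 1) ∣ (∑ i ∈ Finset.range k, e ^ i) - k := by
  rw [show (∑ i ∈ Finset.range k, e ^ i) - (k : ℤ) = ∑ i ∈ Finset.range k, (e ^ i - 1) by simp]
  exact Finset.dvd_sum fun i _ => sub_one_dvd_pow_sub_one e i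

theorem gcd_dvd_gsum_iff (e : ℤ) (n k : ℕ) :
    Nat.gcd n (e - 1).natAbs ∣ gsum e k ↔ Nat.gcd n (e - 1).natAbs ∣ k := by
  set d := Nat.gcd n (e - 1).natAbs
  have h : (d : ℤ) ∣ (∑ i ∈ Finset.range k, e ^ i) - k :=
    (Int.natCast_dvd.2 (Nat.gcd_dvd_right _ _)).trans (sum_modEq e k)
  rw [gsum, ← Int.natCast_dvd, dvd_iff_dvd_of_dvd_sub h, Int.natCast_dvd_natCast]

theorem gcd_dvd_gsum (e : ℤ) (n : ℕ) : Nat.gcd n (e - 1).natAbs ∣ gsum e n :=
  (gcd_dvd_gsum_iff e n n).2 (Nat.gcd_dvd_left _ _)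

theorem gcd_dvd_iff {m k : ℕ} (hm : 0 < m) (hk : 0 < k) :
    Nat.gcd (2 * m) k ∣ m ↔ padicValNat 2 k < padicValNat 2 (2 * m) := by
  haveI : Fact (Nat.Prime 2) := ⟨Nat.prime_two⟩
  have h2m : padicValNat 2 (2 * m) = padicValNat 2 m + 1 := by
    rw [padicValNat.mul (by norm_num) hm.ne', padicValNat.self (by norm_num), add_comm]
  rw [h2m]
  constructor
  · intro h
    by_contra hlt
    have h1 : 2 ^ (padicValNat 2 m + 1) ∣ Nat.gcd (2 * m) k :=
      Nat.dvd_gcd (by rw [pow_succ, mul_comm]; exact Nat.mul_dvd_mul_left 2 pow_padicValNat_dvd)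
        ((pow_dvd_pow 2 (by omega)).trans pow_padicValNat_dvd)
    exact pow_succ_padicValNat_not_dvd hm.ne' (h1.trans h)
  · intro hlt
    set d := Nat.gcd (2 * m) k with hd
    have hd0 : d ≠ 0 := (Nat.gcd_pos_of_pos_right _ hk).ne'
    obtain ⟨c, d', hd', hdd⟩ := Nat.exists_eq_pow_mul_and_not_dvd hd0 2 (by norm_num)
    have hc : 2 ^ c ∣ m := by
      have h1 : 2 ^ c ∣ k := (Dvd.intro d' hdd.symm).trans (Nat.gcd_dvd_right _ _)
      have h2 : c ≤ padicValNat 2 k := (padicValNat_dvd_iff_le hk.ne').1 h1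
      exact (pow_dvd_pow 2 (by omega)).trans pow_padicValNat_dvd
    have hco : Nat.Coprime 2 d' := Nat.prime_two.coprime_iff_not_dvd.2 hd'
    have hd'm : d' ∣ m := hco.symm.dvd_of_dvd_mul_left
      ((Dvd.intro_left _ hdd.symm).trans (Nat.gcd_dvd_left _ _))
    rw [hdd]
    exact (hco.pow_left c).mul_dvd_of_dvd_of_dvd hc hd'm

theorem target_dvd_torus_iff {e : ℤ} {m : ℕ} (hm : 0 < m) (hN : 0 < (e ^ m + 1).natAbs) (he : e ≠ 1) :
    (e ^ m + 1).natAbs ∣ torus e (2 * m) ↔ padicValNat 2 (e - 1).natAbs < padicValNat 2 (2 * m) := by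
  have hk : 0 < (e - 1).natAbs := by rw [Int.natAbs_pos]; exact sub_ne_zero.2 he
  have hsplit : gsum e (2 * m) = (e ^ m + 1).natAbs * gsum e m := by
    rw [gsum, gsum, two_mul, Finset.sum_range_add, ← Int.natAbs_mul, add_mul, one_mul, Finset.mul_sum,
      add_comm]
    congr 2
    exact Finset.sum_congr rfl fun i _ => pow_add e m i
  rw [torus, ← gcd_dvd_iff hm hk, ← gcd_dvd_gsum_iff e (2 * m) m,
    Nat.dvd_div_iff_mul_dvd (gcd_dvd_gsum e (2 * m)), hsplit, mul_comm]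
  exact Nat.mul_dvd_mul_iff_left hN

variable {F : Type*} [Field F] [Fintype F] {K : Type*} [Field K] [IsAlgClosed K] [Algebra F K]

/-- the eigenvalues form one orbit, so a power is nearly scalar -/
theorem pow_torus_scalar (p : ℕ) [Fact p.Prime] [CharP F p] {n : ℕ} (hn : 0 < n) {e : ℤ} (he : e ≠ 1)
    {A : Matrix (Fin n) (Fin n) F} (hdet : A.det = 1) {r : ℕ} (hr : r.Prime) (hrp : r ≠ p) {N0 : ℕ}
    (hN0 : N0 ≠ 0) (hA : A ^ (r * N0) = 1) (hAs : A ^ N0 ≠ 1)
    (hmem : ∀ y ∈ eigRoots K A, y ^ e ∈ eigRoots K A)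
    (hfix : ∀ y : K, y ≠ 0 → y ^ e = y → y ^ Fintype.card F = y)
    (hre : ¬ (r : ℤ) ∣ e) (hprim : ∀ δ, 0 < δ → δ < n → ¬ (r : ℤ) ∣ e ^ δ - 1) :
    ∃ i, ∃ c : F, A ^ (torus e n * p ^ i) = Matrix.scalar (Fin n) c := by
  classical
  haveI : Nonempty (Fin n) := ⟨⟨0, hn⟩⟩
  haveI := charP_of_injective_algebraMap (algebraMap F K).injective p
  obtain ⟨x, hx, hrx⟩ := Cfsg.Agent.Fus.PrimeGraph.exists_root_dvd p K hr hrp hN0 hA hAs
  have hne : r * N0 ≠ 0 := Nat.mul_ne_zero hr.ne_zero hN0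
  have hx0 : x ≠ 0 := (Cfsg.Agent.Fus.PrimeGraph.root_facts hne hA hx).1
  set u : Kˣ := Units.mk0 x hx0
  have hu : orderOf u = orderOf x := by rw [← orderOf_units]; rfl
  have horb : ∀ i : ℕ, x ^ (e ^ i) ∈ eigRoots K A := by
    intro i
    induction i with
    | zero => simpa using hx
    | succ i ih => rw [pow_succ, _root_.zpow_mul]; exact hmem _ ih
  -- the orbit has `n` members
  have hne' : ∀ i j, i < j → j < n → x ^ (e ^ i) ≠ x ^ (e ^ j) := by
    intro i j hlt hj h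
    have hu2 : u ^ (e ^ j - e ^ i) = 1 := Units.ext (by
      rw [Units.val_zpow_eq_zpow_val, Units.val_mk0, zpow_sub₀ hx0]
      rw [← h, div_self (zpow_ne_zero _ hx0), Units.val_one])
    have h3 : (r : ℤ) ∣ e ^ j - e ^ i :=
      (Int.natCast_dvd_natCast.2 (hu ▸ hrx)).trans (orderOf_dvd_iff_zpow_eq_one.2 hu2)
    rw [show e ^ j - e ^ i = e ^ i * (e ^ (j - i) - 1) by
      rw [mul_sub, mul_one, ← pow_add, Nat.add_sub_cancel' hlt.le]] at h3
    rcases (Nat.prime_iff_prime_int.1 hr).dvd_mul.1 h3 with h4 | h4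
    · exact hre ((Nat.prime_iff_prime_int.1 hr).dvd_of_dvd_pow h4)
    · exact hprim (j - i) (by omega) (by omega) h4
  have hinj : Set.InjOn (fun i : ℕ => x ^ (e ^ i)) (Finset.range n) := by
    intro i hi j hj h
    simp only [Finset.coe_range, Set.mem_Iio] at hi hj
    rcases lt_trichotomy i j with h' | h' | h'
    · exact absurd h (hne' i j h' hj)
    · exact h'
    · exact absurd h.symm (hne' j i h' hi)
  set P := (Finset.range n).image fun i : ℕ => x ^ (e ^ i)
  have hR : eigRoots K A = P.val := by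
    refine (Multiset.eq_of_le_of_card_le ((Multiset.le_iff_subset P.nodup).2 fun y hy => ?_) ?_).symm
    · obtain ⟨i, -, rfl⟩ := Finset.mem_image.1 (show y ∈ P from hy)
      exact horb i
    · rw [card_eigRoots, Fintype.card_fin, ← Finset.card_def, Finset.card_image_of_injOn hinj,
        Finset.card_range]
  have hprod : u ^ (∑ i ∈ Finset.range n, e ^ i) = 1 := by
    have h1 : (A.map (algebraMap F K)).det = (eigRoots K A).prod := Matrix.det_eq_prod_roots_charpoly _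
    rw [← RingHom.mapMatrix_apply, ← RingHom.map_det, hdet, map_one, hR] at h1
    have h2 : ∏ y ∈ P, y = (1 : K) := by
      rw [Finset.prod_eq_multiset_prod, Multiset.map_id']; exact h1.symm
    rw [Finset.prod_image hinj] at h2
    have key : ∀ t : Finset ℕ, ∏ i ∈ t, x ^ (e ^ i) = x ^ (∑ i ∈ t, e ^ i) := fun t => by
      induction t using Finset.induction with
      | empty => simp
      | insert i t hi ih => rw [Finset.prod_insert hi, Finset.sum_insert hi, zpow_add₀ hx0, ih]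
    exact Units.ext (by rw [Units.val_zpow_eq_zpow_val, Units.val_mk0, ← key, h2, Units.val_one])
  have hu1 : orderOf u ∣ gsum e n := Int.natCast_dvd.1 (orderOf_dvd_iff_zpow_eq_one.2 hprod)
  set T := torus e n with hT
  have hTd : T * Nat.gcd n (e - 1).natAbs = gsum e n := Nat.div_mul_cancel (gcd_dvd_gsum e n)
  have hue : u ^ ((e - 1) * (T : ℤ)) = 1 := by
    refine orderOf_dvd_iff_zpow_eq_one.1 (Int.natCast_dvd.2 (hu1.trans ?_))
    rw [← hTd, Int.natAbs_mul, Int.natAbs_natCast, mul_comm]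
    exact Nat.mul_dvd_mul_right (Nat.gcd_dvd_right _ _) _
  have hy0 : x ^ T ≠ 0 := pow_ne_zero _ hx0
  have hey : (x ^ T) ^ e = x ^ T := by
    rw [← zpow_natCast, ← _root_.zpow_mul, show (T : ℤ) * e = (T : ℤ) + (e - 1) * (T : ℤ) by ring, zpow_add₀ hx0]
    have := congrArg Units.val hue
    rw [Units.val_zpow_eq_zpow_val, Units.val_mk0, Units.val_one] at this
    rw [this, mul_one]
  have hall : ∀ y ∈ eigRoots K A, y ^ T = x ^ T := by
    intro y hy
    rw [hR] at hy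
    obtain ⟨i, -, rfl⟩ := Finset.mem_image.1 (show y ∈ P from hy)
    clear hy
    induction i with
    | zero => simp
    | succ i ih =>
      show (x ^ (e ^ (i + 1))) ^ T = _
      rw [pow_succ, _root_.zpow_mul, ← zpow_natCast, ← _root_.zpow_mul, mul_comm, _root_.zpow_mul, zpow_natCast,
        ih, hey]
  obtain ⟨c, hc⟩ := exists_algebraMap_of_pow_card (hfix _ hy0 hey)
  refine ⟨Nat.clog p n, c ^ p ^ Nat.clog p n, ?_⟩
  have hnil : (aeval A (X ^ T - Polynomial.C c)) ^ Fintype.card (Fin n) = 0 :=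
    aeval_pow_eq_zero_of_eigRoots (K := K) A _ fun y hy => by simp [hall y hy, hc]
  rw [Fintype.card_fin] at hnil
  have h2 : (aeval A (X ^ T - Polynomial.C c)) ^ p ^ Nat.clog p n = 0 :=
    pow_eq_zero_of_le (Nat.le_pow_clog (Fact.out : p.Prime).one_lt n) hnil
  rw [map_sub, map_pow, aeval_X, aeval_C, sub_pow_char_pow_of_commute _ _ (Algebra.commutes c _).symm,
    sub_eq_zero, ← pow_mul, ← map_pow] at h2
  exact h2

/-- a primitive prime for `e ^ m + 1` -/
theorem exists_prime {q m : ℕ} (hq : 3 ≤ q) (hodd : Odd q) (hm : 2 ≤ m) {e : ℤ} (he : e = q ∨ e = -(q : ℤ)) :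
    ∃ r : ℕ, r.Prime ∧ (r : ℤ) ∣ e ^ m + 1 ∧ ¬ (r : ℤ) ∣ e ∧
      ∀ δ, 0 < δ → δ < 2 * m → ¬ (r : ℤ) ∣ e ^ δ - 1 := by
  obtain ⟨k, hk2, hk⟩ : ∃ k, 2 ≤ k ∧ ((k = 2 * m ∧ e ^ m = (q : ℤ) ^ m) ∨ (k = m ∧ Odd m ∧ e ^ m = -(q : ℤ) ^ m)) := by
    rcases he with rfl | rfl
    · exact ⟨2 * m, by omega, Or.inl ⟨rfl, rfl⟩⟩
    · rcases Nat.even_or_odd m with h | h
      · exact ⟨2 * m, by omega, Or.inl ⟨rfl, h.neg_pow _⟩⟩
      · exact ⟨m, hm, Or.inr ⟨rfl, h, h.neg_pow _⟩⟩
  have hk3 : k ≠ 2 := by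
    rcases hk with ⟨rfl, -⟩ | ⟨rfl, ho, -⟩
    · omega
    · obtain ⟨a, ha⟩ := ho; omega
  obtain ⟨r, hr, hdvd, hmin⟩ := Recog.Zsigmondy.exists_primitive (a := q) (n := k) (by omega) hk2
    (fun h => by omega) (fun h => hk3 h.1)
  haveI := Fact.mk hr
  have hr2 : r ≠ 2 := by
    rintro rfl
    refine hmin 1 le_rfl (by omega) ?_
    obtain ⟨a, ha⟩ := hodd
    rw [pow_one]; exact ⟨a, by omega⟩
  set y : ZMod r := (q : ZMod r) with hy
  have hyk : y ^ k = 1 := (Recog.Zsigmondy.dvd_pow_sub_one_iff (by omega)).1 hdvd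
  have hord : orderOf y = k := by
    refine (orderOf_eq_iff (by omega)).2 ⟨hyk, fun i hi hi0 h => ?_⟩
    exact hmin i hi0 hi ((Recog.Zsigmondy.dvd_pow_sub_one_iff (by omega)).2 h)
  have hneg : (-1 : ZMod r) ≠ 1 := by
    intro h
    haveI : Fact (2 < r) := ⟨by have := hr.two_le; omega⟩
    exact ZMod.neg_one_ne_one h
  set z : ZMod r := (e : ZMod r) with hz
  have hz2 : z ^ 2 = y ^ 2 := by
    rcases he with rfl | rfl <;> simp [z, y]
  have hzm : z ^ m = -1 := by
    rcases hk with ⟨rfl, hem⟩ | ⟨rfl, -, hem⟩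
    · have h1 : z ^ m = y ^ m := by rw [hz, ← Int.cast_pow, hem]; simp [y]
      rw [h1]
      refine (sq_eq_one_iff.1 (by rw [← pow_mul, mul_comm, hyk] : (y ^ m) ^ 2 = 1)).resolve_left fun h => ?_
      have := Nat.le_of_dvd (by omega) (hord ▸ orderOf_dvd_of_pow_eq_one h)
      omega
    · rw [hz, ← Int.cast_pow, hem, Int.cast_neg, Int.cast_pow, Int.cast_natCast, ← hy, hyk]
  refine ⟨r, hr, ?_, ?_, ?_⟩
  · rw [← ZMod.intCast_zmod_eq_zero_iff_dvd, Int.cast_add, Int.cast_pow, ← hz, hzm, Int.cast_one, neg_add_cancel]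
  · intro h
    rw [← ZMod.intCast_zmod_eq_zero_iff_dvd, ← hz] at h
    rw [h, zero_pow (by omega)] at hzm
    exact one_ne_zero (α := ZMod r) (by linear_combination hzm)
  · intro δ h0 hlt h
    rw [← ZMod.intCast_zmod_eq_zero_iff_dvd, Int.cast_sub, Int.cast_pow, ← hz, Int.cast_one, sub_eq_zero] at h
    have h2 : k ∣ 2 * δ := by
      rw [← hord]
      refine orderOf_dvd_of_pow_eq_one ?_
      rw [pow_mul, ← hz2, ← pow_mul, mul_comm, pow_mul, h, one_pow]
    have hmδ : m ∣ δ := by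
      rcases hk with ⟨rfl, -⟩ | ⟨rfl, ho, -⟩
      · exact Nat.dvd_of_mul_dvd_mul_left two_pos h2
      · exact (Nat.coprime_two_right.2 ho).dvd_of_dvd_mul_left h2
    obtain ⟨c, rfl⟩ := hmδ
    have : c = 1 := by
      rcases c with _ | _ | c
      · simp at h0
      · rfl
      · nlinarith
    subst this
    rw [mul_one, hzm] at h
    exact hneg h

theorem coprime_target {p q m : ℕ} {e : ℤ} (hp : p.Prime) (hpq : p ∣ q) (hm : 1 ≤ m)
    (he : e = q ∨ e = -(q : ℤ)) : Nat.Coprime (e ^ m + 1).natAbs p := by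
  refine (hp.coprime_iff_not_dvd.2 fun h => ?_).symm
  rw [← Int.natCast_dvd] at h
  have h1 : (p : ℤ) ∣ e ^ m := by
    refine Dvd.dvd.trans ?_ (dvd_pow_self e (by omega))
    rcases he with rfl | rfl <;> simp [Int.natCast_dvd_natCast, hpq]
  have h2 : (p : ℤ) ∣ 1 := (dvd_add_right h1).1 h
  exact hp.ne_one (Nat.dvd_one.1 (Int.natCast_dvd_natCast.1 (by simpa using h2)))

section linear

variable {q : ℕ} (hF : Fintype.card F = q)

include hF in
theorem exists_psl_torus {n : ℕ} (hn : 0 < n) :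
    ∃ g : Matrix.ProjectiveSpecialLinearGroup (Fin n) F, torus (q : ℤ) n ∣ orderOf g := by
  classical
  have hq2 : 2 ≤ q := hF ▸ Fintype.one_lt_card
  have hk : ((q : ℤ) - 1).natAbs = q - 1 := by omega
  obtain ⟨X, hX⟩ := Fus.PrimeGraph.exists_matrix_order (F := F) (e := n) (M := q ^ n - 1) hn (by rw [hF])
  have hpos : 0 < q ^ n - 1 := by
    have := Nat.le_self_pow (show n ≠ 0 by omega) q; omega
  have hdet0 : X.det ≠ 0 := by
    intro h
    have h1 := congrArg Matrix.det (hX ▸ pow_orderOf_eq_one X)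
    rw [Matrix.det_pow, h, zero_pow hpos.ne', Matrix.det_one] at h1
    exact zero_ne_one h1
  let A : Matrix.SpecialLinearGroup (Fin n) F :=
    ⟨X ^ (q - 1), by rw [Matrix.det_pow, ← hF, FiniteField.pow_card_sub_one_eq_one _ hdet0]⟩
  refine ⟨slToPSL n F A, ?_⟩
  set j := orderOf (slToPSL n F A)
  obtain ⟨c, hc⟩ := (slToPSL_pow_eq_one_iff A j).1 (pow_orderOf_eq_one _)
  change (X ^ (q - 1)) ^ j = Matrix.scalar (Fin n) c at hc
  haveI : Nonempty (Fin n) := ⟨⟨0, hn⟩⟩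
  have hcn : c ^ n = 1 := by
    have h := congrArg Matrix.det hc
    rw [Matrix.det_pow, Matrix.det_pow, ← hF, FiniteField.pow_card_sub_one_eq_one _ hdet0, one_pow,
      Matrix.scalar_apply, Matrix.det_diagonal, Fin.prod_const] at h
    exact h.symm
  have hc0 : c ≠ 0 := fun h => by rw [h, zero_pow hn.ne'] at hcn; exact zero_ne_one hcn
  have hcq : c ^ (q - 1) = 1 := hF ▸ FiniteField.pow_card_sub_one_eq_one c hc0
  set d := Nat.gcd n ((q : ℤ) - 1).natAbs with hd
  have hcd : c ^ d = 1 := by rw [hd, hk]; exact pow_gcd_eq_one.2 ⟨hcn, hcq⟩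
  have h1 : X ^ ((q - 1) * j * d) = 1 := by rw [pow_mul, pow_mul, hc, ← map_pow, hcd, map_one]
  have h2 : q ^ n - 1 ∣ (q - 1) * j * d := hX ▸ orderOf_dvd_of_pow_eq_one h1
  have hg : gsum (q : ℤ) n * (q - 1) = q ^ n - 1 := by
    rw [gsum, ← hk, ← Int.natAbs_mul, geom_sum_mul]
    have hle : 1 ≤ q ^ n := Nat.one_le_pow _ _ (by omega)
    rw [show (q : ℤ) ^ n - 1 = ((q ^ n - 1 : ℕ) : ℤ) by rw [Nat.cast_sub hle]; push_cast; rfl, Int.natAbs_natCast]
  rw [← hg, mul_comm, mul_assoc] at h2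
  have h3 : gsum (q : ℤ) n ∣ j * d := Nat.dvd_of_mul_dvd_mul_left (by omega) h2
  rw [torus, Nat.div_dvd_iff_dvd_mul (gcd_dvd_gsum _ n) (Nat.gcd_pos_of_pos_left _ hn), mul_comm]
  exact h3

include hF in
theorem psl_order_iff (hodd : Odd q) {m : ℕ} (hm : 2 ≤ m) :
    (∃ g : Matrix.ProjectiveSpecialLinearGroup (Fin (2 * m)) F, orderOf g = q ^ m + 1) ↔
      padicValNat 2 (q - 1) < padicValNat 2 (2 * m) := by
  classical
  have hq2 : 2 ≤ q := hF ▸ Fintype.one_lt_card
  have hq3 : 3 ≤ q := by obtain ⟨a, ha⟩ := hodd; omega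
  have hN : (((q : ℤ)) ^ m + 1).natAbs = q ^ m + 1 := by
    rw [show (q : ℤ) ^ m + 1 = ((q ^ m + 1 : ℕ) : ℤ) by push_cast; rfl, Int.natAbs_natCast]
  have hk : ((q : ℤ) - 1).natAbs = q - 1 := by omega
  have hiff := target_dvd_torus_iff (e := (q : ℤ)) (m := m) (by omega) (by omega) (by omega)
  rw [hN, hk] at hiff
  rw [← hiff]
  constructor
  · rintro ⟨g, hg⟩
    obtain ⟨p, hp⟩ := CharP.exists F
    haveI : Fact p.Prime := ⟨CharP.char_is_prime F p⟩
    have hpq : p ∣ q := by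
      obtain ⟨a, -, ha⟩ := FiniteField.card F p
      rw [← hF, ha]; exact dvd_pow_self _ a.pos.ne'
    obtain ⟨r, hr, hrN, hre, hprim⟩ := exists_prime hq3 hodd hm (e := (q : ℤ)) (Or.inl rfl)
    have hrN' : r ∣ q ^ m + 1 := by rw [← hN]; exact Int.natCast_dvd.1 hrN
    have hrp : r ≠ p := fun h => hre (Int.natCast_dvd_natCast.2 (h ▸ hpq))
    obtain ⟨A, rfl⟩ := slToPSL_surjective g
    obtain ⟨N0, hN0⟩ : r ∣ orderOf A := hrN'.trans (hg ▸ orderOf_map_dvd _ A)
    have hpos := orderOf_pos A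
    have hN0' : 0 < N0 := by rw [hN0] at hpos; exact Nat.pos_of_mul_pos_left hpos
    obtain ⟨i, c, hc⟩ := pow_torus_scalar (K := AlgebraicClosure F) p (n := 2 * m) (e := (q : ℤ))
      (by omega) (by omega) A.2 hr hrp hN0'.ne'
      (by rw [← hN0, ← Matrix.SpecialLinearGroup.coe_pow, pow_orderOf_eq_one, Matrix.SpecialLinearGroup.coe_one])
      (fun h => by
        have h1 : A ^ N0 = 1 := Subtype.ext (by rw [Matrix.SpecialLinearGroup.coe_pow, h]; rfl)
        have := Nat.le_of_dvd hN0' (orderOf_dvd_of_pow_eq_one h1)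
        have := hr.two_le
        nlinarith)
      (fun y hy => by rw [zpow_natCast, ← hF]; exact pow_card_mem_eigRoots hy)
      (fun y _ hy => by rw [zpow_natCast] at hy; rw [hF]; exact hy) hre hprim
    have h1 := orderOf_dvd_of_pow_eq_one ((slToPSL_pow_eq_one_iff A _).2 ⟨c, hc⟩)
    rw [hg] at h1
    exact ((hN ▸ coprime_target (Fact.out : p.Prime) hpq (by omega) (Or.inl rfl) : (q ^ m + 1).Coprime p).pow_right
      i).dvd_of_dvd_mul_right h1
  · intro h
    obtain ⟨g, hg⟩ := exists_psl_torus hF (n := 2 * m) (by omega)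
    exact ⟨_, orderOf_pow_orderOf_div (orderOf_pos g).ne' (h.trans hg)⟩

end linear

section unitary

variable {q : ℕ} (hF : Fintype.card F = q ^ 2)

include hF in
theorem zpow_neg_mem_eigRoots {n : ℕ} (s : SU n F q) {y : K} (hy : y ∈ eigRoots K (suVal s)) :
    y ^ (-(q : ℤ)) ∈ eigRoots K (suVal s) := by
  classical
  obtain ⟨p, hp⟩ := CharP.exists F
  haveI : Fact p.Prime := ⟨CharP.char_is_prime F p⟩
  obtain ⟨k, -, hk⟩ := FiniteField.card F p
  obtain ⟨a, -, ha⟩ := (Nat.dvd_prime_pow (Fact.out : p.Prime)).1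
    (show q ∣ p ^ (k : ℕ) by rw [← hk, hF]; exact dvd_pow_self q two_ne_zero)
  haveI : CharP K p := charP_of_injective_algebraMap (algebraMap F K).injective p
  set A : Matrix (Fin n) (Fin n) F := suVal s with hA
  have hadjA : (A.map (qFrob hF))ᵀ * A = 1 := by
    have := congrArg Matrix.transpose (suVal_transpose_mul hF s)
    simpa [hA] using this
  let Q : K →+* K := iterateFrobenius K p a
  have hQ : ∀ y, Q y = y ^ q := fun y => by rw [ha]; exact iterateFrobenius_def p a y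
  have hQalg : Q.comp (algebraMap F K) = (algebraMap F K).comp (qFrob hF) := RingHom.ext fun c => by
    show Q (algebraMap F K c) = algebraMap F K (qFrob hF c)
    rw [hQ, qFrob_apply, map_pow]
  set R := eigRoots K A with hR
  have h1 : (((A.map (qFrob hF))ᵀ).map (algebraMap F K)).charpoly.roots = R.map (fun y => y⁻¹) := by
    refine roots_charpoly_inv ?_
    rw [← Matrix.map_mul, hadjA]
    simp
  have h2 : (((A.map (qFrob hF))ᵀ).map (algebraMap F K)).charpoly.roots = R.map Q := by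
    rw [Matrix.charpoly_map, Matrix.charpoly_transpose, Matrix.charpoly_map, Polynomial.map_map, ← hQalg,
      ← Polynomial.map_map, ← Matrix.charpoly_map]
    conv_lhs => rw [(IsAlgClosed.splits _).eq_prod_roots_of_monic (Matrix.charpoly_monic (A.map (algebraMap F K)))]
    rw [Polynomial.map_multiset_prod, Multiset.map_map]
    have : (Polynomial.map Q ∘ fun a => Polynomial.X - Polynomial.C a) = (fun b => Polynomial.X - Polynomial.C b) ∘ Q :=
      funext fun b => by simp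
    rw [this, ← Multiset.map_map, Polynomial.roots_multiset_prod_X_sub_C]
    rfl
  have h3 : Q y ∈ R.map (fun y => y⁻¹) := (h2.symm.trans h1) ▸ Multiset.mem_map_of_mem Q hy
  obtain ⟨w, hw, hwy⟩ := Multiset.mem_map.1 h3
  rw [_root_.zpow_neg, zpow_natCast, ← hQ, ← hwy, inv_inv]
  exact hw

include hF in
theorem psu_order_iff (hodd : Odd q) {m : ℕ} (hm : 2 ≤ m) :
    (∃ g : PSU (2 * m) F q, orderOf g = if Even m then q ^ m + 1 else q ^ m - 1) ↔
      padicValNat 2 (q + 1) < padicValNat 2 (2 * m) := by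
  classical
  have hq2 : 2 ≤ q := two_le_q hF
  have hq3 : 3 ≤ q := by obtain ⟨a, ha⟩ := hodd; omega
  have hN : ((-(q : ℤ)) ^ m + 1).natAbs = if Even m then q ^ m + 1 else q ^ m - 1 := by
    split_ifs with he
    · rw [he.neg_pow, show (q : ℤ) ^ m + 1 = ((q ^ m + 1 : ℕ) : ℤ) by push_cast; rfl, Int.natAbs_natCast]
    · rw [(Nat.not_even_iff_odd.1 he).neg_pow]
      have hle : 1 ≤ q ^ m := Nat.one_le_pow _ _ (by omega)
      rw [show -(q : ℤ) ^ m + 1 = -((q ^ m - 1 : ℕ) : ℤ) by rw [Nat.cast_sub hle]; push_cast; ring,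
        Int.natAbs_neg, Int.natAbs_natCast]
  have hNpos : 0 < ((-(q : ℤ)) ^ m + 1).natAbs := by
    rw [hN]
    have := Nat.le_self_pow (show m ≠ 0 by omega) q
    split_ifs <;> omega
  have hk : (-(q : ℤ) - 1).natAbs = q + 1 := by omega
  have hiff := target_dvd_torus_iff (e := -(q : ℤ)) (m := m) (by omega) hNpos (by omega)
  rw [hk] at hiff
  rw [← hiff, ← hN]
  obtain ⟨p, hp⟩ := CharP.exists F
  haveI : Fact p.Prime := ⟨CharP.char_is_prime F p⟩
  obtain ⟨k, -, hk'⟩ := FiniteField.card F p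
  obtain ⟨a, -, ha⟩ := (Nat.dvd_prime_pow (Fact.out : p.Prime)).1
    (show q ∣ p ^ (k : ℕ) by rw [← hk', hF]; exact dvd_pow_self q two_ne_zero)
  constructor
  · rintro ⟨g, hg⟩
    have hpq : p ∣ q := by
      rcases Nat.eq_zero_or_pos a with h | h
      · rw [h, pow_zero] at ha; omega
      · rw [ha]; exact dvd_pow_self p h.ne'
    obtain ⟨r, hr, hrN, hre, hprim⟩ := exists_prime hq3 hodd hm (e := -(q : ℤ)) (Or.inr rfl)
    have hrp : r ≠ p := fun h => hre (by rw [dvd_neg]; exact Int.natCast_dvd_natCast.2 (h ▸ hpq))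
    obtain ⟨s, rfl⟩ : ∃ s, suToPSU (2 * m) F q s = g := QuotientGroup.mk'_surjective _ g
    haveI : Finite (SU (2 * m) F q) := Finite.of_injective suVal fun a b h => suVal_ext h
    obtain ⟨N0, hN0⟩ : r ∣ orderOf s := (Int.natCast_dvd.1 hrN).trans (hg ▸ orderOf_map_dvd _ s)
    have hpos := orderOf_pos s
    have hN0' : 0 < N0 := by rw [hN0] at hpos; exact Nat.pos_of_mul_pos_left hpos
    obtain ⟨i, c, hc⟩ := pow_torus_scalar (K := AlgebraicClosure F) p (n := 2 * m) (e := -(q : ℤ))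
      (by omega) (by omega) (A := suVal s) s.1.2 hr hrp hN0'.ne'
      (by rw [← hN0, ← suVal_pow, pow_orderOf_eq_one]; rfl)
      (fun h => by
        have h1 : s ^ N0 = 1 := suVal_ext (by rw [suVal_pow, h]; rfl)
        have := Nat.le_of_dvd hN0' (orderOf_dvd_of_pow_eq_one h1)
        have := hr.two_le
        nlinarith)
      (fun y hy => zpow_neg_mem_eigRoots hF s hy)
      (fun y _ hy => by
        rw [_root_.zpow_neg, zpow_natCast] at hy
        have h1 : y ^ q = y⁻¹ := by rw [← inv_inv (y ^ q), hy]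
        rw [hF, sq, pow_mul, h1, inv_pow, h1, inv_inv]) hre hprim
    have h1 := orderOf_dvd_of_pow_eq_one ((suToPSU_pow_eq_one_iff hF s _).2 ⟨c, hc⟩)
    rw [hg] at h1
    exact ((coprime_target (Fact.out : p.Prime) hpq (by omega) (Or.inr rfl)).pow_right i).dvd_of_dvd_mul_right h1
  · intro h
    obtain ⟨g, hg⟩ := exists_psu_torus hF ha (n := 2 * m) (by omega)
    haveI : Finite (SU (2 * m) F q) := Finite.of_injective suVal fun a b h => suVal_ext h
    refine ⟨_, orderOf_pow_orderOf_div (orderOf_pos g).ne' (h.trans ?_)⟩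
    rw [torus, hk]
    exact hg

end unitary

end Cfsg.Agent.TorusBound
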