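import Cfsg.Agent.Lib.Classical.TwistMultPPart

/-!
A criterion for a central extension of a unipotent group to split over the derived group: a
filtration with commutative layers permuted trivially by an abelian group `T`, such that for two
different layers some element of `T` centralises the first and has no fixed points on the second.
-/

set_option autoImplicit false
set_option linter.unusedSectionVars false

namespace Cfsg.Agent.Classical.TorusSplit

open scoped commutatorElement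
open Cfsg.Agent.Classical.UnitMult (ker_comm comm_congr)
open Cfsg.Agent.Classical.TwistMult (Norm Cover sep_mem exists_comm_eq comm_mul_right comm_mul_left
  comm_inv_left map_comm)

variable {E H : Type*} [Group E] [Group H] {π : E →* H}

/-- An element moved by `t` commutes with a lift of an element fixed by `t`. -/
theorem commute_of_moved [Finite H] (hπ : Function.Surjective π) (hc : π.ker ≤ Subgroup.center E)
    {t a : E} {V : Subgroup H} (hta : Commute (π t) (π a)) (hV : ∀ v ∈ V, Commute (π a) v)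
    (htV : ∀ v ∈ V, π t * v * (π t)⁻¹ ∈ V) (hfp : ∀ v ∈ V, π t * v * (π t)⁻¹ = v → v = 1)
    {b : E} (hb : π b ∈ V) : Commute a b := by
  have h := sep_mem hc (U := V) hπ (S := (⊥ : Subgroup E)) (W := (⊥ : Subgroup H))
    (fun u _ s hs => by rw [Subgroup.mem_bot.1 hs, mul_one, mul_inv_cancel]; exact one_mem _)
    (fun x hx => ⟨x, 1, Subgroup.mem_bot.1 hx, one_mem _, (mul_one x).symm⟩) hta
    (fun s hs => by rw [Subgroup.mem_bot.1 hs, mul_one, mul_inv_cancel]; exact one_mem _)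
    le_rfl htV (fun x hx => exists_comm_eq htV hfp hx)
    (fun v hv => by
      rw [map_comm, commutatorElement_eq_one_iff_commute.2 (hV _ hv)]; exact one_mem _) hb
  exact commutatorElement_eq_one_iff_commute.1 (Subgroup.mem_bot.1 h)

/-- The layers and the torus. -/
structure Data (U : Subgroup H) (X W : ℕ → Subgroup H) (n : ℕ) (T : Subgroup H) : Prop where
  top : W 0 = U
  bot : W n = ⊥
  mono : ∀ j, j < n → W (j + 1) ≤ W j
  X_le : ∀ j, j < n → X j ≤ W j
  dec : ∀ j, j < n → ∀ w ∈ W j, ∃ x ∈ X j, ∃ v ∈ W (j + 1), w = x * v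
  disj : ∀ j, j < n → ∀ x ∈ X j, x ∈ W (j + 1) → x = 1
  comm : ∀ j, j < n → ∀ u ∈ U, ∀ w ∈ W j, ⁅u, w⁆ ∈ W (j + 1)
  stab : ∀ t ∈ T, ∀ j, j < n → ∀ x ∈ X j, t * x * t⁻¹ ∈ X j
  tt : ∀ t ∈ T, ∀ t' ∈ T, Commute t t'
  fp : ∀ j, j < n → ∃ t ∈ T, ∀ x ∈ X j, t * x * t⁻¹ = x → x = 1
  pair : ∀ k, k < n → ∀ j, j < n → k ≠ j →
    ∃ t ∈ T, (∀ a ∈ X k, Commute t a) ∧ ∀ x ∈ X j, t * x * t⁻¹ = x → x = 1

variable {U : Subgroup H} {X W : ℕ → Subgroup H} {n : ℕ} {T : Subgroup H}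

theorem Data.le_U (D : Data U X W n T) : ∀ {j}, j ≤ n → W j ≤ U
  | 0, _ => D.top.le
  | j + 1, h => (D.mono j (by omega)).trans (D.le_U (by omega))

theorem Data.le_closure (D : Data U X W n T) :
    U ≤ Subgroup.closure {x | ∃ k, k < n ∧ x ∈ X k} := by
  suffices H : ∀ d j, j + d = n → W j ≤ Subgroup.closure {x | ∃ k, k < n ∧ x ∈ X k} by
    rw [← D.top]; exact H n 0 (zero_add n)
  intro d
  induction d with
  | zero =>
    rintro j rfl
    intro w hw
    rw [add_zero] at D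
    rw [D.bot, Subgroup.mem_bot] at hw
    rw [hw]
    exact one_mem _
  | succ d ih =>
    intro j hj w hw
    obtain ⟨x, hx, v, hv, rfl⟩ := D.dec j (by omega) w hw
    exact mul_mem (Subgroup.subset_closure ⟨j, by omega, hx⟩) (ih (j + 1) (by omega) hv)

/-- The lift of the part from `j` on. -/
def IsLift (π : E →* H) (U T : Subgroup H) (V : Subgroup H) (S : Subgroup E) : Prop :=
  (∀ s ∈ S, π s = 1 → s = 1) ∧ (∀ s ∈ S, π s ∈ V) ∧ Cover π V S ∧ Norm π U S ∧
    ∀ e, π e ∈ T → ∀ s ∈ S, e * s * e⁻¹ ∈ S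

variable (hπ : Function.Surjective π) (hc : π.ker ≤ Subgroup.center E)
  (hab : ∀ j, j < n → ∀ a b : E, π a ∈ X j → π b ∈ X j → Commute a b)

include hπ hc hab

theorem Data.comm_mem [Finite H] (D : Data U X W n T) {j : ℕ} (hj : j < n) {S : Subgroup E}
    (h : IsLift π U T (W (j + 1)) S) {u v : E} (hu : π u ∈ U) (hv : π v ∈ X j) : ⁅u, v⁆ ∈ S := by
  obtain ⟨-, -, hS, hN, hT⟩ := h
  have hXU : X j ≤ U := (D.X_le j hj).trans (D.le_U hj.le)
  suffices key : ∀ g ∈ Subgroup.closure {x | ∃ k, k < n ∧ x ∈ X k}, ∀ u, π u = g →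
      π u ∈ U ∧ ∀ v, π v ∈ X j → ⁅u, v⁆ ∈ S from
    (key _ (D.le_closure hu) u rfl).2 v hv
  intro g hg
  induction hg using Subgroup.closure_induction with
  | mem g hg =>
    obtain ⟨k, hk, hgk⟩ := hg
    rintro u rfl
    refine ⟨(D.X_le k hk).trans (D.le_U hk.le) hgk, fun v hv => ?_⟩
    by_cases hkj : k = j
    · subst hkj
      rw [commutatorElement_eq_one_iff_commute.2 (hab k hk u v hgk hv)]
      exact one_mem _
    obtain ⟨t₀, ht₀, hfix, hfp⟩ := D.pair k hk j hj hkj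
    obtain ⟨t, rfl⟩ := hπ t₀
    exact sep_mem hc hπ hN hS (t := t) (hfix _ hgk) (hT t ht₀) hXU (D.stab _ ht₀ j hj)
      (fun x hx => exists_comm_eq (D.stab _ ht₀ j hj) hfp hx)
      (fun w hw => by
        rw [map_comm]
        exact D.comm j hj _ ((D.X_le k hk).trans (D.le_U hk.le) hgk) _ (D.X_le j hj hw)) hv
  | one =>
    intro u hu
    refine ⟨by rw [hu]; exact one_mem _, fun v _ => ?_⟩
    rw [commutatorElement_eq_one_iff_commute.2 (ker_comm π hc hu v).symm]
    exact one_mem _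
  | mul x y _ _ ihx ihy =>
    intro u hu
    obtain ⟨a, rfl⟩ := hπ x
    obtain ⟨h1, h2⟩ := ihx a rfl
    obtain ⟨h3, h4⟩ := ihy (a⁻¹ * u) (by rw [map_mul, map_inv, hu, inv_mul_cancel_left])
    have e : u = a * (a⁻¹ * u) := (mul_inv_cancel_left a u).symm
    refine ⟨by rw [e, map_mul]; exact mul_mem h1 h3, fun v hv => ?_⟩
    rw [e, comm_mul_left]
    exact mul_mem (hN a h1 _ (h4 v hv)) (h2 v hv)
  | inv x _ ihx =>
    intro u hu
    obtain ⟨h1, h2⟩ := ihx u⁻¹ (by rw [map_inv, hu, inv_inv])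
    refine ⟨by rw [map_inv] at h1; exact inv_mem_iff.1 h1, fun v hv => ?_⟩
    rw [show u = u⁻¹⁻¹ from (inv_inv u).symm, comm_inv_left]
    have := hN u (by rw [map_inv] at h1; exact inv_mem_iff.1 h1) _ (inv_mem (h2 v hv))
    rwa [inv_inv]

theorem Data.exists_lift [Finite H] (D : Data U X W n T) :
    ∀ d j, j + d = n → ∃ S : Subgroup E, IsLift π U T (W j) S := by
  intro d
  induction d with
  | zero =>
    rintro j rfl
    refine ⟨⊥, fun s hs _ => Subgroup.mem_bot.1 hs, fun s hs => ?_, fun x hx => ?_,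
      fun u _ s hs => ?_, fun e _ s hs => ?_⟩
    · rw [Subgroup.mem_bot.1 hs, map_one]; exact one_mem _
    · rw [add_zero] at D
      rw [D.bot, Subgroup.mem_bot] at hx
      exact ⟨x, 1, hx, one_mem _, (mul_one x).symm⟩
    · rw [Subgroup.mem_bot.1 hs, mul_one, mul_inv_cancel]; exact one_mem _
    · rw [Subgroup.mem_bot.1 hs, mul_one, mul_inv_cancel]; exact one_mem _
  | succ d ih =>
    intro j hjd
    have hj : j < n := by omega
    obtain ⟨S, hL⟩ := ih (j + 1) (by omega)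
    obtain ⟨hinj, hSW, hS, hN, hT⟩ := id hL
    obtain ⟨t₀, ht₀, hfp⟩ := D.fp j hj
    obtain ⟨t, rfl⟩ := hπ t₀
    have hXU : X j ≤ U := (D.X_le j hj).trans (D.le_U hj.le)
    have hst := D.stab _ ht₀ j hj
    have key : ∀ {u v : E}, π u ∈ U → π v ∈ X j → ⁅u, v⁆ ∈ S :=
      fun hu hv => D.comm_mem hπ hc hab hj hL hu hv
    have hcX : ∀ {v : E}, π v ∈ X j → π ⁅t, v⁆ ∈ X j := fun {v} hv => by
      rw [map_comm, commutatorElement_def]
      exact mul_mem (hst _ hv) (inv_mem hv)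
    have hcN : ∀ {v : E}, π v ∈ X j → ∀ s ∈ S, ⁅t, v⁆⁻¹ * s * ⁅t, v⁆ ∈ S := fun {v} hv s hs => by
      have := hN ⁅t, v⁆⁻¹ (by rw [map_inv]; exact inv_mem (hXU (hcX hv))) s hs
      rwa [inv_inv] at this
    have hprod : ∀ {v w : E}, π v ∈ X j → π w ∈ X j →
        ∃ c ∈ S, ⁅t, v⁆ * ⁅t, w⁆ = ⁅t, v * w⁆ * c := fun {v w} hv hw => by
      refine ⟨⁅v, ⁅t, w⁆⁻¹⁆, key (hXU hv) (by rw [map_inv]; exact inv_mem (hcX hw)), ?_⟩
      simp only [commutatorElement_def]
      group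
    let S' : Subgroup E :=
      { carrier := {x | ∃ v s, π v ∈ X j ∧ s ∈ S ∧ x = ⁅t, v⁆ * s}
        one_mem' := ⟨1, 1, by rw [map_one]; exact one_mem _, one_mem _,
          by rw [commutatorElement_one_right, one_mul]⟩
        mul_mem' := by
          rintro _ _ ⟨v, s, hv, hs, rfl⟩ ⟨w, s', hw, hs', rfl⟩
          obtain ⟨c, hc', e⟩ := hprod hv hw
          refine ⟨v * w, c * (⁅t, w⁆⁻¹ * s * ⁅t, w⁆) * s', by rw [map_mul]; exact mul_mem hv hw,
            mul_mem (mul_mem hc' (hcN hw s hs)) hs', ?_⟩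
          calc ⁅t, v⁆ * s * (⁅t, w⁆ * s')
              = ⁅t, v⁆ * ⁅t, w⁆ * (⁅t, w⁆⁻¹ * s * ⁅t, w⁆) * s' := by group
            _ = _ := by rw [e]; group
        inv_mem' := by
          rintro _ ⟨v, s, hv, hs, rfl⟩
          have hv' : π v⁻¹ ∈ X j := by rw [map_inv]; exact inv_mem hv
          obtain ⟨c, hc', e⟩ := hprod hv hv'
          rw [mul_inv_cancel, commutatorElement_one_right, one_mul] at e
          refine ⟨v⁻¹, c⁻¹ * (⁅t, v⁆ * s⁻¹ * ⁅t, v⁆⁻¹), hv',
            mul_mem (inv_mem hc') (hN _ (hXU (hcX hv)) _ (inv_mem hs)), ?_⟩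
          rw [← e]
          group }
    refine ⟨S', ?_, ?_, ?_, ?_, ?_⟩
    · rintro _ ⟨v, s, hv, hs, rfl⟩ h1
      rw [map_mul, mul_eq_one_iff_eq_inv] at h1
      have h2 : π ⁅t, v⁆ = 1 :=
        D.disj j hj _ (hcX hv) (h1 ▸ inv_mem (hSW s hs))
      rw [h2, eq_comm, inv_eq_one] at h1
      rw [hinj s hs h1, mul_one]
      rw [map_comm, commutatorElement_eq_one_iff_commute] at h2
      refine commutatorElement_eq_one_iff_commute.2 (ker_comm π hc ?_ t)
      exact hfp _ hv (by rw [h2.eq, mul_inv_cancel_right])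
    · rintro _ ⟨v, s, hv, hs, rfl⟩
      rw [map_mul]
      exact mul_mem (D.X_le j hj (hcX hv)) (D.mono j hj (hSW s hs))
    · intro x hx
      obtain ⟨a, ha, b, hb, e⟩ := D.dec j hj _ hx
      obtain ⟨w, hw, ew⟩ := exists_comm_eq hst hfp ha
      obtain ⟨v, rfl⟩ := hπ w
      obtain ⟨z, s, hz, hs, ey⟩ := hS (⁅t, v⁆⁻¹ * x) (by
        rw [map_mul, map_inv, map_comm, ew, e, inv_mul_cancel_left]
        exact hb)
      refine ⟨z, ⁅t, v⁆ * s, hz, ⟨v, s, hw, hs, rfl⟩, ?_⟩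
      rw [← mul_assoc, ← (ker_comm π hc hz ⁅t, v⁆).eq, mul_assoc, ← ey, mul_inv_cancel_left]
    · rintro u hu _ ⟨v, s, hv, hs, rfl⟩
      refine ⟨v, ⁅t, v⁆⁻¹ * ⁅u, ⁅t, v⁆⁆ * ⁅t, v⁆ * (u * s * u⁻¹), hv,
        mul_mem (hcN hv _ (key hu (hcX hv))) (hN u hu s hs), ?_⟩
      simp only [commutatorElement_def u ⁅t, v⁆]
      group
    · rintro e he _ ⟨v, s, hv, hs, rfl⟩
      refine ⟨e * v * e⁻¹, e * s * e⁻¹, ?_, hT e he s hs, ?_⟩
      · rw [map_mul, map_mul, map_inv]; exact D.stab _ he j hj _ hv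
      · rw [show e * (⁅t, v⁆ * s) * e⁻¹ = e * ⁅t, v⁆ * e⁻¹ * (e * s * e⁻¹) by group,
          conjugate_commutatorElement]
        congr 1
        exact comm_congr π hc
          (by rw [map_mul, map_mul, map_inv, (D.tt _ he _ ht₀).eq, mul_inv_cancel_right]) rfl

/-- The kernel meets the derived group of the preimage of `U` trivially. -/
theorem Data.ker_derived [Finite H] (D : Data U X W n T) {z : E} (hz : π z = 1)
    (hzd : z ∈ ⁅U.comap π, U.comap π⁆) : z = 1 := by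
  obtain ⟨S, hinj, -, hS, -, -⟩ := D.exists_lift hπ hc hab n 0 (zero_add n)
  refine hinj z ((Subgroup.commutator_le.2 fun x hx y hy => ?_) hzd) hz
  obtain ⟨k, a, hk, ha, ex⟩ := hS x (D.top.ge hx)
  obtain ⟨l, b, hl, hb, ey⟩ := hS y (D.top.ge hy)
  rw [comm_congr π hc (show π x = π a by rw [ex, map_mul, hk, one_mul])
    (show π y = π b by rw [ey, map_mul, hl, one_mul]), commutatorElement_def]
  exact mul_mem (mul_mem (mul_mem ha hb) (inv_mem ha)) (inv_mem hb)

end Cfsg.Agent.Classical.TorusSplit
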