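import Cfsg.Agent.Lib.Classical.TrialityRoots

/-!
The unipotent group of ³D₄(q): the commutators of the five root groups outside the long simple one,
and the coordinates.
-/

set_option autoImplicit false
set_option linter.unusedSectionVars false
set_option linter.unusedSimpArgs false
set_option maxRecDepth 8000

namespace Cfsg.Agent.Classical.Triality

open Cfsg.Lie Cfsg.Agent.Lie.Chev
open scoped commutatorElement

theorem comm_of_swap {G : Type*} [Group G] {a b z : G} (e : b * a = a * b * z) (ha : Commute z a)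
    (hb : Commute z b) : ⁅a, b⁆ = z⁻¹ := by
  have e' : a * b = b * a * z⁻¹ := by rw [e, mul_inv_cancel_right]
  have hab : Commute z⁻¹ (a⁻¹ * b⁻¹) := (ha.inv_left.inv_right).mul_right hb.inv_left.inv_right
  rw [commutatorElement_def, e', mul_assoc (b * a * z⁻¹), mul_assoc (b * a), hab.eq]
  group

theorem comm33 {G : Type*} [Group G] {a₀ a₁ a₂ b₀ b₁ b₂ : G}
    (h : ∀ a ∈ [a₀, a₁, a₂], ∀ b ∈ [b₀, b₁, b₂], ∀ x ∈ [a₀, a₁, a₂, b₀, b₁, b₂],
      Commute ⁅b, a⁆ x) :
    ⁅b₀ * b₁ * b₂, a₀ * a₁ * a₂⁆ = (⁅b₀, a₀⁆ * ⁅b₀, a₁⁆ * ⁅b₀, a₂⁆) *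
      (⁅b₁, a₀⁆ * ⁅b₁, a₁⁆ * ⁅b₁, a₂⁆) * (⁅b₂, a₀⁆ * ⁅b₂, a₁⁆ * ⁅b₂, a₂⁆) := by
  have cr : ∀ u v w : G, Commute v ⁅u, w⁆ → ⁅u, v * w⁆ = ⁅u, v⁆ * ⁅u, w⁆ := fun u v w hc => by
    rw [show ⁅u, v * w⁆ = ⁅u, v⁆ * (v * ⁅u, w⁆ * v⁻¹) by simp only [commutatorElement_def]; group,
      hc.eq, mul_inv_cancel_right]
  have cl : ∀ u v w : G, Commute u ⁅v, w⁆ → Commute ⁅v, w⁆ ⁅u, w⁆ →
      ⁅u * v, w⁆ = ⁅u, w⁆ * ⁅v, w⁆ := fun u v w hc hd => by
    rw [show ⁅u * v, w⁆ = u * ⁅v, w⁆ * u⁻¹ * ⁅u, w⁆ by simp only [commutatorElement_def]; group,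
      hc.eq, mul_inv_cancel_right, hd.eq]
  have row : ∀ b ∈ [b₀, b₁, b₂],
      ⁅b, a₀ * a₁ * a₂⁆ = ⁅b, a₀⁆ * ⁅b, a₁⁆ * ⁅b, a₂⁆ ∧
      ∀ x ∈ [a₀, a₁, a₂, b₀, b₁, b₂], Commute ⁅b, a₀ * a₁ * a₂⁆ x := by
    intro b hb
    have e : ⁅b, a₀ * a₁ * a₂⁆ = ⁅b, a₀⁆ * ⁅b, a₁⁆ * ⁅b, a₂⁆ := by
      rw [cr _ _ _ (((h a₂ (by simp) b hb a₀ (by simp)).symm).mul_left
          (h a₂ (by simp) b hb a₁ (by simp)).symm),
        cr _ _ _ (h a₁ (by simp) b hb a₀ (by simp)).symm]
    refine ⟨e, fun x hx => ?_⟩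
    rw [e]
    exact ((h a₀ (by simp) b hb x hx).mul_left (h a₁ (by simp) b hb x hx)).mul_left
      (h a₂ (by simp) b hb x hx)
  obtain ⟨e0, c0⟩ := row b₀ (by simp)
  obtain ⟨e1, c1⟩ := row b₁ (by simp)
  obtain ⟨e2, c2⟩ := row b₂ (by simp)
  have hall : ∀ {z : G}, (∀ x ∈ [a₀, a₁, a₂, b₀, b₁, b₂], Commute z x) → ∀ {b : G},
      b ∈ [b₀, b₁, b₂] → Commute z ⁅b, a₀ * a₁ * a₂⁆ := by
    intro z hz b hb
    have ha : Commute z (a₀ * a₁ * a₂) :=
      ((hz a₀ (by simp)).mul_right (hz a₁ (by simp))).mul_right (hz a₂ (by simp))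
    have hb' : Commute z b := hz b (by
      simp only [List.mem_cons, List.not_mem_nil, or_false] at hb ⊢; tauto)
    rw [commutatorElement_def]
    exact ((hb'.mul_right ha).mul_right hb'.inv_right).mul_right ha.inv_right
  have e01 : ⁅b₀ * b₁, a₀ * a₁ * a₂⁆ = ⁅b₀, a₀ * a₁ * a₂⁆ * ⁅b₁, a₀ * a₁ * a₂⁆ :=
    cl _ _ _ (c1 b₀ (by simp)).symm (hall c1 (by simp))
  rw [cl _ _ _ ((c2 b₀ (by simp)).symm.mul_left (c2 b₁ (by simp)).symm)
    (by rw [e01]; exact (hall c2 (by simp)).mul_right (hall c2 (by simp))), e01, e0, e1, e2]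

/-- The roots of the five root groups. -/
def shortLong : List ℕ := [12, 13, 15, 16, 17, 18, 19, 20, 21, 22, 23]

/-- More commutator terms, and the graph on the long roots. -/
def checkComm : Bool :=
  let T := certFullD4.T
  ([17, 20, 21].all fun r => [12, 13, 18, 15, 16, 19].all fun s =>
    (T.commTerms r s).all fun x => Nat.ble 22 x.1 && Nat.ble x.1 23) &&
  decide (([(17, 20), (17, 21), (20, 21), (15, 16), (15, 19), (16, 19)] : List (ℕ × ℕ)).map
    (fun p => T.commTerms p.1 p.2) = [[], [], [], [], [], []]) &&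
  decide (graphD4.ρ 22 = 22 ∧ graphD4.ρ 23 = 23 ∧ graphD4.ε 22 = 1 ∧ graphD4.ε 23 = 1) &&
  ((List.range' 12 12).all fun s => Nat.ble 12 (T.wlT [1] s) == !(Nat.beq s 14))

theorem checkComm_ok : checkComm = true := by decide +kernel

theorem shortLong_lt {r : ℕ} (hr : r ∈ shortLong) : certFullD4.Pos r ∧ r ≠ 14 := by
  simp only [shortLong, List.mem_cons, List.not_mem_nil, or_false] at hr
  rw [pos_iff]
  omega

theorem keep_iff {r : ℕ} : r ∈ certFullD4.keepSet [1] ↔ certFullD4.Pos r ∧ r ≠ 14 := by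
  by_cases hr : certFullD4.Pos r
  swap
  · simp [CertFull.keepSet, hr]
  have h := checkComm_ok
  simp only [checkComm, Bool.and_eq_true, List.all_eq_true, List.mem_range'_1, beq_iff_eq,
    certFullD4.wlT_eq] at h
  obtain ⟨a, b⟩ := pos_iff.1 hr
  have e := h.2 r ⟨a, by omega⟩
  rw [Bool.eq_iff_iff, Nat.ble_eq, Bool.not_eq_true', ← Bool.not_eq_true, Nat.beq_eq] at e
  have hlt : certFullD4.wl [1] r < 24 := certFullD4.wl_lt lt_rank.1 hr.2
  show (_ ∧ _) ↔ _
  exact ⟨fun hh => ⟨hh.1, e.1 hh.2.1⟩, fun hh => ⟨hh.1, pos_iff.2 ⟨e.2 hh.2, hlt⟩⟩⟩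

variable {K : Type*} [Field K]

theorem xg_comm_eq {r s k : ℕ} {c : ℤ} (hr : certFullD4.Pos r) (hs : certFullD4.Pos s) (hne : s ≠ r)
    (he : certFullD4.T.commTerms r s = [(k, c, 1, 1)]) (t u : K) :
    certFullD4.xg s u * certFullD4.xg r t = certFullD4.xg r t * certFullD4.xg s u *
      certFullD4.xg k (-((c : K) * t * u)) := by
  have h2 : s ≠ chevD4.neg r := fun e => ((certFullD4.not_pos_iff hr.2).2 (e ▸ hs)) hr
  rw [certFullD4.xg_comm hr.2 hs.2 hne h2 t u, he]
  simp

theorem commute_of_nil {r s : ℕ} (hr : certFullD4.Pos r) (hs : certFullD4.Pos s)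
    (h : s ≠ r → certFullD4.T.commTerms r s = []) (t u : K) :
    Commute (certFullD4.xg r t) (certFullD4.xg s u) := by
  by_cases hne : s = r
  · subst hne
    show _ = _
    rw [← certFullD4.xg_add, ← certFullD4.xg_add, add_comm]
  exact certFullD4.xg_commute hr.2 hs.2 hne
    (fun e => ((certFullD4.not_pos_iff hr.2).2 (e ▸ hs)) hr) (h hne) t u

/-- The long root elements are central in the five root groups. -/
theorem long_cent {r s : ℕ} (hr : r ∈ [22, 23]) (hs : s ∈ shortLong) (t u : K) :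
    Commute (certFullD4.xg r t) (certFullD4.xg s u) := by
  have h := checkTab_ok
  simp only [checkTab, Bool.and_eq_true, decide_eq_true_eq] at h
  have h3 := h.1.1.1.2
  have hr' : certFullD4.Pos r := by
    rw [pos_iff]; simp only [List.mem_cons, List.not_mem_nil, or_false] at hr; omega
  refine commute_of_nil hr' (shortLong_lt hs).1 (fun _ => ?_) t u
  have hmem : certFullD4.T.commTerms r s ∈ [22, 23].flatMap (fun r => shortLong.map
      fun s => certFullD4.T.commTerms r s) :=
    List.mem_flatMap.2 ⟨r, hr, List.mem_map.2 ⟨s, hs, rfl⟩⟩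
  rw [show shortLong = [12, 13, 15, 16, 17, 18, 19, 20, 21, 22, 23] from rfl, h3] at hmem
  exact (List.mem_replicate.1 hmem).2

variable [Fintype K] (f : K →+* K) {q : ℕ} (hf : ∀ t, f t = t ^ q)
  (hK : Fintype.card K = q ^ 3)

include hf hK

local notation "Z" => D4.datum f hf hK

/-! ### Long root groups -/

theorem commute_long (u : L0 f) :
    ((∀ x, Commute (h1 f hf hK u) (hA f hf hK x)) ∧ (∀ x, Commute (h1 f hf hK u) (hB f hf hK x)) ∧
      (∀ x, Commute (h1 f hf hK u) (hC f hf hK x))) ∧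
    ((∀ x, Commute (h2 f hf hK u) (hA f hf hK x)) ∧ (∀ x, Commute (h2 f hf hK u) (hB f hf hK x)) ∧
      (∀ x, Commute (h2 f hf hK u) (hC f hf hK x))) ∧
    ((∀ v, Commute (h1 f hf hK u) (h1 f hf hK v)) ∧ (∀ v, Commute (h2 f hf hK u) (h2 f hf hK v)) ∧
      ∀ v, Commute (h1 f hf hK u) (h2 f hf hK v)) := by
  have L : ∀ {r : ℕ}, r ∈ [22, 23] → ∀ {s : ℕ}, s ∈ shortLong → ∀ a b : K,
      Commute (certFullD4.xg r a) (certFullD4.xg s b) := fun {r} hr {s} hs a b => long_cent hr hs a b
  refine ⟨⟨?_, ?_, ?_⟩, ⟨?_, ?_, ?_⟩, ?_, ?_, ?_⟩ <;> intro x <;> refine Subtype.ext ?_ <;>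
    simp only [Subgroup.coe_mul, hA_val, hB_val, hC_val, h1_val, h2_val]
  iterate 6
    exact (((L (by simp) (by decide) _ _).mul_right (L (by simp) (by decide) _ _)).mul_right
      (L (by simp) (by decide) _ _)).eq
  all_goals exact (L (by simp) (by decide) _ _).eq

theorem nb_hC (w : K) :
    (Z).gen (jb_mem f hf hK) * hC f hf hK w * ((Z).gen (jb_mem f hf hK))⁻¹ = hC f hf hK w := by
  have h := checkTab_ok
  simp only [checkTab, Bool.and_eq_true, decide_eq_true_eq, List.map_cons, List.map_nil,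
    List.cons.injEq, and_true, certFullD4.wlT_eq] at h
  obtain ⟨-, -, -, a20, a21, a17, -⟩ := h.1.2
  have hs := sign_values.1
  simp only [List.map_cons, List.map_nil, List.cons.injEq, and_true] at hs
  obtain ⟨-, -, -, b20, b21, b17, -⟩ := hs
  refine Subtype.ext ?_
  set n := certFullD4.nw K [1]
  have hn : ∀ r < 24, ∀ t : K, n * certFullD4.xg r t * n⁻¹ =
      certFullD4.xg (certFullD4.wl [1] r) ((certFullD4.wsign [1] r : K) * t) := fun r hr t => by
    rw [certFullD4.nw_mul_xg lt_rank.1 (show r < chevD4.nroots from hr), mul_inv_cancel_right]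
  show n * ((hC f hf hK w : ↥(Z).G₁) : GL chevD4.Idx K) * n⁻¹ = _
  rw [hC_val, show ∀ a b d : GL chevD4.Idx K, n * (a * b * d) * n⁻¹ =
      (n * a * n⁻¹) * (n * b * n⁻¹) * (n * d * n⁻¹) from fun a b d => by group,
    hn 17 (by omega), hn 20 (by omega), hn 21 (by omega), a17, a20, a21, b17, b20, b21]
  simp

/-! ### Commutators -/

theorem comm_AC (x w : K) :
    ⁅hA f hf hK x, hC f hf hK w⁆ = h1 f hf hK (trL f hf hK (x * f (f w))) := by
  have h := checkTab_ok
  simp only [checkTab, Bool.and_eq_true, decide_eq_true_eq, List.map_cons, List.map_nil,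
    List.cons.injEq, and_true] at h
  obtain ⟨t1, t2, t3, -⟩ := h.1.1.1.1.1
  obtain ⟨n1, n2, n3, n4, n5, n6, -⟩ := h.1.1.1.1.2
  rw [← commutatorElement_inv]
  refine inv_eq_iff_eq_inv.2 ?_
  refine Subtype.ext ?_
  rw [show ((⁅hC f hf hK w, hA f hf hK x⁆ : ↥(Z).G₁) : GL chevD4.Idx K) =
      ⁅(hC f hf hK w : GL chevD4.Idx K), (hA f hf hK x : GL chevD4.Idx K)⁆
    from map_commutatorElement (Z).G₁.subtype _ _, Subgroup.coe_inv, h1_val, certFullD4.xg_inv,
    hA_val, hC_val]
  have p : ∀ {r : ℕ}, r ∈ shortLong → certFullD4.Pos r := fun hr => (shortLong_lt hr).1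
  have L : ∀ {s : ℕ}, s ∈ shortLong → ∀ a b : K,
      Commute (certFullD4.xg 22 a) (certFullD4.xg s b) := fun hs a b => long_cent (by simp) hs a b
  have one : ∀ {r s : ℕ}, r ∈ shortLong → s ∈ shortLong → certFullD4.T.commTerms r s = [] →
      ∀ a b : K, ⁅certFullD4.xg r a, certFullD4.xg s b⁆ = 1 := fun hr hs e a b =>
    commutatorElement_eq_one_iff_commute.2 (commute_of_nil (p hr) (p hs) (fun _ => e) a b)
  have pair : ∀ {r s : ℕ} {c : ℤ}, r ∈ shortLong → s ∈ shortLong → s ≠ r →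
      certFullD4.T.commTerms r s = [(22, c, 1, 1)] →
      ∀ a b : K, ⁅certFullD4.xg r a, certFullD4.xg s b⁆ = certFullD4.xg 22 ((c : K) * a * b) :=
    fun hr hs hne e a b => by
      rw [comm_of_swap (xg_comm_eq (p hr) (p hs) hne e a b) (L hr _ _) (L hs _ _),
        certFullD4.xg_inv, neg_neg]
  have e17 : ∀ a b, ⁅certFullD4.xg 17 a, certFullD4.xg 18 b⁆ = certFullD4.xg 22 (((1 : ℤ) : K) * a * b) :=
    pair (by decide) (by decide) (by decide) t1
  have e20 : ∀ a b, ⁅certFullD4.xg 20 a, certFullD4.xg 13 b⁆ =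
      certFullD4.xg 22 (((-1 : ℤ) : K) * a * b) := pair (by decide) (by decide) (by decide) t2
  have e21 : ∀ a b, ⁅certFullD4.xg 21 a, certFullD4.xg 12 b⁆ =
      certFullD4.xg 22 (((-1 : ℤ) : K) * a * b) := pair (by decide) (by decide) (by decide) t3
  rw [comm33 ?_, e17, e20, e21, one (by decide) (by decide) n1, one (by decide) (by decide) n2,
    one (by decide) (by decide) n3, one (by decide) (by decide) n4, one (by decide) (by decide) n5,
    one (by decide) (by decide) n6]
  · simp only [mul_one, one_mul, ← certFullD4.xg_add, trL, tr, map_mul, f3 f hf hK]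
    congr 1
    simp only [Int.cast_neg, Int.cast_one]
    ring
  · intro a ha b hb z hz
    have hz' : ∀ v : K, Commute (certFullD4.xg 22 v) z := by
      simp only [List.mem_cons, List.not_mem_nil, or_false] at hz
      intro v
      rcases hz with rfl | rfl | rfl | rfl | rfl | rfl <;> exact L (by decide) _ _
    simp only [List.mem_cons, List.not_mem_nil, or_false] at ha hb
    rcases hb with rfl | rfl | rfl <;> rcases ha with rfl | rfl | rfl
    · rw [e17]; exact hz' _
    · rw [one (by decide) (by decide) n2]; exact Commute.one_left _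
    · rw [one (by decide) (by decide) n1]; exact Commute.one_left _
    · rw [one (by decide) (by decide) n4]; exact Commute.one_left _
    · rw [e20]; exact hz' _
    · rw [one (by decide) (by decide) n3]; exact Commute.one_left _
    · rw [one (by decide) (by decide) n6]; exact Commute.one_left _
    · rw [one (by decide) (by decide) n5]; exact Commute.one_left _
    · rw [e21]; exact hz' _

theorem comm_BC (y w : K) :
    ⁅hB f hf hK y, hC f hf hK w⁆ = h2 f hf hK (trL f hf hK (y * f (f w))) := by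
  conv_lhs => rw [← nb_hC f hf hK w]
  rw [hB, ← conjugate_commutatorElement, comm_AC, h2]

theorem comm_AB (x y : K) : ∃ u v : L0 f, ⁅hA f hf hK x, hB f hf hK y⁆ =
    hC f hf hK (x * f (f y) + f (f x) * y) * h1 f hf hK u * h2 f hf hK v := by
  have h := checkTab_ok
  simp only [checkTab, Bool.and_eq_true, decide_eq_true_eq, List.map_cons, List.map_nil,
    List.cons.injEq, and_true] at h
  obtain ⟨-, -, -, t4, t5, t6, t7, t8, t9⟩ := h.1.1.1.1.1
  obtain ⟨-, -, -, -, -, -, n7, n8, n9⟩ := h.1.1.1.1.2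
  have hc := checkComm_ok
  simp only [checkComm, Bool.and_eq_true, decide_eq_true_eq, List.all_eq_true, Nat.ble_eq,
    List.map_cons, List.map_nil, List.cons.injEq, and_true] at hc
  obtain ⟨⟨⟨hCAB, c1, c2, c3, -⟩, r22, r23, ε22, ε23⟩, -⟩ := hc
  set M : Subgroup (GL chevD4.Idx K) :=
    Subgroup.closure {g | ∃ r ∈ [22, 23], ∃ t, g = certFullD4.xg r t} with hM
  have hMx : ∀ {r : ℕ}, r ∈ [22, 23] → ∀ t : K, certFullD4.xg r t ∈ M := fun hr t =>
    Subgroup.subset_closure ⟨_, hr, t, rfl⟩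
  have hMc : ∀ {s : ℕ}, s ∈ shortLong → ∀ u : K,
      certFullD4.xg s u ∈ Subgroup.centralizer (M : Set (GL chevD4.Idx K)) := fun hs u => by
    rw [hM, Subgroup.centralizer_closure, Subgroup.mem_centralizer_iff]
    rintro g ⟨r, hr, t, rfl⟩
    exact (long_cent hr hs t u).eq
  let C : Subgroup (GL chevD4.Idx K) := Subgroup.centralizer (M : Set (GL chevD4.Idx K))
  haveI : (M.subgroupOf C).Normal := ⟨fun n hn g => by
    rw [show g * n * g⁻¹ = n from mul_inv_eq_iff_eq_mul.2
      (Subtype.ext (Subgroup.mem_centralizer_iff.1 g.2 _ hn).symm)]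
    exact hn⟩
  let π : ↥C →* ↥C ⧸ M.subgroupOf C := QuotientGroup.mk' _
  let X : ∀ (r : ℕ), r ∈ shortLong → K → ↥C ⧸ M.subgroupOf C := fun r hr t =>
    π ⟨certFullD4.xg r t, hMc hr t⟩
  have p : ∀ {r : ℕ}, r ∈ shortLong → certFullD4.Pos r := fun hr => (shortLong_lt hr).1
  have Xadd : ∀ {r : ℕ} (hr : r ∈ shortLong) (a b : K), X r hr (a + b) = X r hr a * X r hr b :=
    fun hr a b => by
      rw [← map_mul]
      exact congrArg π (Subtype.ext (certFullD4.xg_add _ a b))
  have Xc : ∀ {r s : ℕ} (hr : r ∈ shortLong) (hs : s ∈ shortLong),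
      (∀ z ∈ certFullD4.T.commTerms r s, 22 ≤ z.1 ∧ z.1 ≤ 23) → s ≠ r → ∀ a b : K,
      Commute (X r hr a) (X s hs b) := by
    intro r s hr hs he hne a b
    have h2 : s ≠ chevD4.neg r := fun e => ((certFullD4.not_pos_iff (p hr).2).2 (e ▸ p hs)) (p hr)
    have e := certFullD4.xg_comm (p hr).2 (p hs).2 hne h2 a b
    refine Eq.symm ?_
    rw [← map_mul, ← map_mul, QuotientGroup.mk'_eq_mk']
    refine ⟨⟨_, Subgroup.mul_mem C (Subgroup.inv_mem C (Subgroup.mul_mem C (hMc hs b) (hMc hr a)))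
      (Subgroup.mul_mem C (hMc hr a) (hMc hs b))⟩, ?_, Subtype.ext ?_⟩
    · show (certFullD4.xg s b * certFullD4.xg r a)⁻¹ *
        (certFullD4.xg r a * certFullD4.xg s b) ∈ M
      rw [e, _root_.mul_inv_rev, inv_mul_cancel_right]
      refine inv_mem (Subgroup.list_prod_mem _ fun g hg => ?_)
      obtain ⟨z, hz, rfl⟩ := List.mem_map.1 hg
      obtain ⟨z1, z2⟩ := he z hz
      refine hMx ?_ _
      simp only [List.mem_cons, List.not_mem_nil, or_false]
      omega
    · show certFullD4.xg s b * certFullD4.xg r a * _ = _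
      group
      rfl
  have hnil : ∀ {r s : ℕ}, certFullD4.T.commTerms r s = [] →
      ∀ z ∈ certFullD4.T.commTerms r s, 22 ≤ z.1 ∧ z.1 ≤ 23 := fun e z hz => by
    rw [e] at hz; simp at hz
  have Xone : ∀ {r s : ℕ} (hr : r ∈ shortLong) (hs : s ∈ shortLong),
      certFullD4.T.commTerms r s = [] → s ≠ r → ∀ a b : K, ⁅X r hr a, X s hs b⁆ = 1 :=
    fun hr hs e hne a b => commutatorElement_eq_one_iff_commute.2 (Xc hr hs (hnil e) hne a b)
  have hk : ∀ {k : ℕ}, k ∈ [17, 20, 21] → k ∈ shortLong := fun {k} hk => by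
    simp only [List.mem_cons, List.not_mem_nil, or_false] at hk
    rcases hk with rfl | rfl | rfl <;> decide
  have XC : ∀ {k : ℕ} (h : k ∈ [17, 20, 21]) {r : ℕ} (hr : r ∈ shortLong),
      r ∈ [12, 13, 18, 15, 16, 19] → ∀ a b : K, Commute (X k (hk h) a) (X r hr b) := by
    intro k h r hr hr' a b
    refine Xc (hk h) hr (fun z hz => hCAB k h r hr' z hz) ?_ a b
    simp only [List.mem_cons, List.not_mem_nil, or_false] at h hr'
    omega
  have pair : ∀ {r s k : ℕ} {c : ℤ} (hr : r ∈ shortLong) (hs : s ∈ shortLong)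
      (h : k ∈ [17, 20, 21]), r ∈ [12, 13, 18, 15, 16, 19] → s ∈ [12, 13, 18, 15, 16, 19] →
      s ≠ r → certFullD4.T.commTerms r s = [(k, c, 1, 1)] →
      ∀ a b : K, ⁅X r hr a, X s hs b⁆ = X k (hk h) ((c : K) * a * b) := by
    intro r s k c hr hs h hr' hs' hne e a b
    rw [comm_of_swap (z := X k (hk h) (-((c : K) * a * b))) ?_ (XC h hr hr' _ _) (XC h hs hs' _ _)]
    · refine inv_eq_of_mul_eq_one_right ?_
      rw [← Xadd (hk h), neg_add_cancel]
      exact (congrArg π (Subtype.ext (certFullD4.xg_zero k))).trans (map_one π)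
    · rw [← map_mul, ← map_mul, ← map_mul]
      exact congrArg π (Subtype.ext (xg_comm_eq (p hr) (p hs) hne e a b))
  have key : ⁅X 19 (by decide) y * X 16 (by decide) (-f y) * X 15 (by decide) (-f (f y)),
      X 18 (by decide) x * X 13 (by decide) (f x) * X 12 (by decide) (f (f x))⁆ =
      X 17 (by decide) (f (f (x * f (f y) + f (f x) * y))) *
        X 20 (by decide) (-(x * f (f y) + f (f x) * y)) *
        X 21 (by decide) (f (-(x * f (f y) + f (f x) * y))) := by
    have e1 := pair (r := 15) (s := 18) (k := 20) (by decide) (by decide) (by decide) (by decide)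
      (by decide) (by decide) t4
    have e2 := pair (r := 19) (s := 12) (k := 20) (by decide) (by decide) (by decide) (by decide)
      (by decide) (by decide) t5
    have e3 := pair (r := 16) (s := 18) (k := 21) (by decide) (by decide) (by decide) (by decide)
      (by decide) (by decide) t6
    have e4 := pair (r := 19) (s := 13) (k := 21) (by decide) (by decide) (by decide) (by decide)
      (by decide) (by decide) t7
    have e5 := pair (r := 15) (s := 13) (k := 17) (by decide) (by decide) (by decide) (by decide)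
      (by decide) (by decide) t8
    have e6 := pair (r := 16) (s := 12) (k := 17) (by decide) (by decide) (by decide) (by decide)
      (by decide) (by decide) t9
    have o1 := Xone (r := 15) (s := 12) (by decide) (by decide) n7 (by decide)
    have o2 := Xone (r := 16) (s := 13) (by decide) (by decide) n8 (by decide)
    have o3 := Xone (r := 19) (s := 18) (by decide) (by decide) n9 (by decide)
    rw [comm33 ?_, e1, e2, e3, e4, e5, e6, o1, o2, o3]
    · simp only [one_mul, mul_one]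
      have C1 := Xc (r := 17) (s := 20) (by decide) (by decide) (hnil c1) (by decide)
      have C2 := Xc (r := 17) (s := 21) (by decide) (by decide) (hnil c2) (by decide)
      have C3 := Xc (r := 20) (s := 21) (by decide) (by decide) (hnil c3) (by decide)
      have reord : ∀ a a' b b' d d' : ↥C ⧸ M.subgroupOf C, Commute b a' → Commute d b' →
          Commute (a * a' * (b * b')) (d * d') → Commute (a * a') (b * b') →
          a * b * (a' * d) * (b' * d') = d * d' * (b * b') * (a * a') := by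
        intro a a' b b' d d' k1 k2 k3 k4
        calc a * b * (a' * d) * (b' * d') = a * (b * a') * (d * b') * d' := by group
          _ = a * a' * (b * b') * (d * d') := by rw [k1.eq, k2.eq]; group
          _ = d * d' * (a * a' * (b * b')) := k3.eq
          _ = _ := by rw [k4.eq]; group
      rw [reord _ _ _ _ _ _ (C3 _ _) (C1 _ _) ?_ ?_, ← (Xadd (r := 17) (by decide)), ← (Xadd (r := 20) (by decide)),
        ← (Xadd (r := 21) (by decide))]
      · simp only [map_add, map_mul, map_neg, f3 f hf hK, Int.cast_neg, Int.cast_one]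
        refine congrArg₂ (· * ·) (congrArg₂ (· * ·) (congrArg (X 17 (by decide)) ?_)
          (congrArg (X 20 (by decide)) ?_)) (congrArg (X 21 (by decide)) ?_) <;> ring
      · rw [← (Xadd (r := 17) (by decide)), ← (Xadd (r := 20) (by decide)), ← (Xadd (r := 21) (by decide))]
        exact ((C2 _ _).symm.mul_left (C1 _ _).symm)
      · rw [← (Xadd (r := 20) (by decide)), ← (Xadd (r := 21) (by decide))]
        exact (C3 _ _).symm
    · intro a ha b hb z hz
      have hz' : ∀ (k : ℕ) (h : k ∈ [17, 20, 21]) (v : K), Commute (X k (hk h) v) z := by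
        intro k h v
        simp only [List.mem_cons, List.not_mem_nil, or_false] at hz
        rcases hz with rfl | rfl | rfl | rfl | rfl | rfl <;> exact XC h (by decide) (by decide) v _
      simp only [List.mem_cons, List.not_mem_nil, or_false] at ha hb
      rcases hb with rfl | rfl | rfl <;> rcases ha with rfl | rfl | rfl <;>
        simp only [e1, e2, e3, e4, e5, e6, o1, o2, o3] <;>
        first | exact Commute.one_left _ | exact hz' _ (by decide) _
  set P := x * f (f y) + f (f x) * y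
  set g := ⁅hA f hf hK x, hB f hf hK y⁆ with hg
  have hmem : ((hC f hf hK P)⁻¹ * g : ↥(Z).G₁).1 ∈ M := by
    have hAC : (hA f hf hK x : GL chevD4.Idx K) ∈ C := by
      rw [hA_val]
      exact mul_mem (mul_mem (hMc (by decide) _) (hMc (by decide) _)) (hMc (by decide) _)
    have hBC : (hB f hf hK y : GL chevD4.Idx K) ∈ C := by
      rw [hB_val]
      exact mul_mem (mul_mem (hMc (by decide) _) (hMc (by decide) _)) (hMc (by decide) _)
    have hCC : ∀ w, (hC f hf hK w : GL chevD4.Idx K) ∈ C := fun w => by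
      rw [hC_val]
      exact mul_mem (mul_mem (hMc (by decide) _) (hMc (by decide) _)) (hMc (by decide) _)
    have e : π ⁅(⟨_, hBC⟩ : ↥C), ⟨_, hAC⟩⁆ = π ⟨_, hCC (-P)⟩ := by
      rw [map_commutatorElement]
      have eA : π ⟨_, hAC⟩ = X 18 (by decide) x * X 13 (by decide) (f x) *
          X 12 (by decide) (f (f x)) := by
        rw [← map_mul, ← map_mul]; exact congrArg π (Subtype.ext (hA_val f hf hK x))
      have eB : π ⟨_, hBC⟩ = X 19 (by decide) y * X 16 (by decide) (-f y) *
          X 15 (by decide) (-f (f y)) := by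
        rw [← map_mul, ← map_mul]; exact congrArg π (Subtype.ext (hB_val f hf hK y))
      rw [eA, eB, key, ← map_mul, ← map_mul]
      refine congrArg π (Subtype.ext ?_)
      show _ = (hC f hf hK (-P) : GL chevD4.Idx K)
      rw [hC_val]
      simp only [map_neg, neg_neg]
      rfl
    have e' : ((⟨_, hCC (-P)⟩ : ↥C) * ⁅(⟨_, hBC⟩ : ↥C), ⟨_, hAC⟩⁆⁻¹) ∈ M.subgroupOf C := by
      rw [← QuotientGroup.eq_one_iff]
      show π _ = 1
      rw [map_mul, map_inv, e, mul_inv_cancel]
    have e'' : (hC f hf hK (-P) * ⁅hB f hf hK y, hA f hf hK x⁆⁻¹ : ↥(Z).G₁).1 ∈ M := by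
      rw [Subgroup.coe_mul, Subgroup.coe_inv,
        show ((⁅hB f hf hK y, hA f hf hK x⁆ : ↥(Z).G₁) : GL chevD4.Idx K) =
          ⁅(hB f hf hK y : GL chevD4.Idx K), (hA f hf hK x : GL chevD4.Idx K)⁆
        from map_commutatorElement (Z).G₁.subtype _ _]
      exact e'
    have hinv : (hC f hf hK P)⁻¹ = hC f hf hK (-P) := by
      refine inv_eq_of_mul_eq_one_right ?_
      rw [← hC_add, add_neg_cancel]
      refine Subtype.ext ?_
      rw [hC_val]
      simp [certFullD4.xg_zero]
    rwa [hg, ← commutatorElement_inv, hinv]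
  obtain ⟨u, v, huv⟩ : ∃ u v : K, ((hC f hf hK P)⁻¹ * g : ↥(Z).G₁).1 =
      certFullD4.xg 22 u * certFullD4.xg 23 v := by
    generalize ((hC f hf hK P)⁻¹ * g : ↥(Z).G₁).1 = z at hmem
    induction hmem using Subgroup.closure_induction with
    | mem z hz =>
      obtain ⟨r, hr, t, rfl⟩ := hz
      simp only [List.mem_cons, List.not_mem_nil, or_false] at hr
      rcases hr with rfl | rfl
      · exact ⟨t, 0, by rw [certFullD4.xg_zero, mul_one]⟩
      · exact ⟨0, t, by rw [certFullD4.xg_zero, one_mul]⟩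
    | one => exact ⟨0, 0, by rw [certFullD4.xg_zero, certFullD4.xg_zero, one_mul]⟩
    | mul a b _ _ ha hb =>
      obtain ⟨u, v, rfl⟩ := ha
      obtain ⟨u', v', rfl⟩ := hb
      refine ⟨u + u', v + v', ?_⟩
      rw [certFullD4.xg_add, certFullD4.xg_add,
        mul2_comm (long_cent (r := 23) (s := 22) (by simp) (by decide) v u')]
    | inv a _ ha =>
      obtain ⟨u, v, rfl⟩ := ha
      exact ⟨-u, -v, by rw [_root_.mul_inv_rev, certFullD4.xg_inv, certFullD4.xg_inv,
        (long_cent (r := 23) (s := 22) (by simp) (by decide) _ _).eq]⟩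
  obtain ⟨hu, hv⟩ : f u = u ∧ f v = v := by
    have hfix := ((D4.tw f).mem_fix.1 ((Z).le_fix ((hC f hf hK P)⁻¹ * g).2)).2
    rw [huv, (D4.tw f).act_mul (certFullD4.xg_mem_group_all _ _) (certFullD4.xg_mem_group_all _ _),
      D4.act_x f (by omega) ε22, D4.act_x f (by omega) ε23, r22, r23] at hfix
    have hK23 : ∀ t : K, certFullD4.xg 23 t ∈ certFullD4.K K (22 + 1) := fun t =>
      certFullD4.xg_mem_K (p (by decide)) (by omega) t
    obtain ⟨e1, e2⟩ := certFullD4.xg_mul_K_inj (p (r := 22) (by decide)) (hK23 _) (hK23 _) hfix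
    exact ⟨e1, (certFullD4.xg_mul_K_inj (p (r := 23) (by decide)) (one_mem _) (one_mem _)
      (by rw [mul_one, mul_one]; exact e2)).1⟩
  refine ⟨⟨u, hu⟩, ⟨v, hv⟩, ?_⟩
  rw [mul_assoc (hC f hf hK P)]
  refine (inv_mul_eq_iff_eq_mul).1 (Subtype.ext ?_)
  rw [huv]
  simp only [Subgroup.coe_mul, h1_val, h2_val]

/-! ### Coordinates -/

/-- The maximal unipotent subgroup. -/
noncomputable def subU : Subgroup ↥(Z).G₁ :=
  (chevD4.posUnipotent K ⊓ twistedD4 K q).subgroupOf (Z).G₁

theorem mem_subU {g : ↥(Z).G₁} (h : (g : GL chevD4.Idx K) ∈ chevD4.posUnipotent K) :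
    g ∈ subU f hf hK := ⟨h, g.2⟩

theorem gens_mem_subU :
    (∀ x, hA f hf hK x ∈ subU f hf hK) ∧ (∀ x, hB f hf hK x ∈ subU f hf hK) ∧
    (∀ x, hC f hf hK x ∈ subU f hf hK) ∧ (∀ u, hb f hf hK u ∈ subU f hf hK) ∧
    (∀ u, h1 f hf hK u ∈ subU f hf hK) ∧ ∀ u, h2 f hf hK u ∈ subU f hf hK := by
  have p : ∀ {r : ℕ}, 12 ≤ r → r < 24 → ∀ t : K,
      certFullD4.xg r t ∈ chevD4.posUnipotent K := fun h1 h2 t =>
    certFullD4.xg_mem_U (pos_iff.2 ⟨h1, h2⟩) t
  refine ⟨?_, ?_, ?_, ?_, ?_, ?_⟩ <;> intro x <;> refine mem_subU f hf hK ?_ <;>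
    simp only [hA_val, hB_val, hC_val, hb_val, h1_val, h2_val] <;>
    first
      | exact mul_mem (mul_mem (p (by omega) (by omega) _) (p (by omega) (by omega) _))
          (p (by omega) (by omega) _)
      | exact p (by omega) (by omega) _

theorem card_subU : Nat.card ↥(subU f hf hK) = q ^ 12 := by
  have hle : chevD4.posUnipotent K ⊓ twistedD4 K q ≤ (Z).G₁ := fun _ h => h.2
  rw [subU, Nat.card_congr (Subgroup.subgroupOfEquivOfLe hle).toEquiv]
  exact D4.card_U f hf hK

/-- A product of elements of the six root groups. -/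
noncomputable def uprod (x : K) (b : L0 f) (y w : K) (u v : L0 f) : ↥(Z).G₁ :=
  hA f hf hK x * (hb f hf hK b *
    (hB f hf hK y * (hC f hf hK w * (h1 f hf hK u * h2 f hf hK v))))

/-- The coordinates are determined. -/
theorem uprod_inj {x y w x' y' w' : K} {b u v b' u' v' : L0 f}
    (e : uprod f hf hK x b y w u v = uprod f hf hK x' b' y' w' u' v') :
    x = x' ∧ b = b' ∧ y = y' ∧ w = w' ∧ u = u' ∧ v = v' := by
  have hc := checkComm_ok
  simp only [checkComm, Bool.and_eq_true, decide_eq_true_eq, List.map_cons, List.map_nil,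
    List.cons.injEq, and_true] at hc
  obtain ⟨-, -, -, d1, d2, d3⟩ := hc.1.1.2
  have kx : ∀ {m r : ℕ}, m ≤ r → 12 ≤ r → r < 24 → ∀ t : K,
      certFullD4.xg r t ∈ certFullD4.K K m := fun h h1 h2 t =>
    certFullD4.xg_mem_K (pos_iff.2 ⟨h1, h2⟩) h t
  have p : ∀ {r : ℕ}, r ∈ shortLong → certFullD4.Pos r := fun hr => (shortLong_lt hr).1
  have Bk : ∀ {m : ℕ}, m ≤ 15 → ∀ t, (hB f hf hK t : GL chevD4.Idx K) ∈ certFullD4.K K m :=
    fun hm t => by
      rw [hB_val]
      exact mul_mem (mul_mem (kx (by omega) (by omega) (by omega) _)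
        (kx (by omega) (by omega) (by omega) _)) (kx (by omega) (by omega) (by omega) _)
  have Ck : ∀ {m : ℕ}, m ≤ 17 → ∀ t, (hC f hf hK t : GL chevD4.Idx K) ∈ certFullD4.K K m :=
    fun hm t => by
      rw [hC_val]
      exact mul_mem (mul_mem (kx (by omega) (by omega) (by omega) _)
        (kx (by omega) (by omega) (by omega) _)) (kx (by omega) (by omega) (by omega) _)
  have Lk : ∀ {m : ℕ}, m ≤ 22 → ∀ a d,
      ((h1 f hf hK a * h2 f hf hK d : ↥(Z).G₁) : GL chevD4.Idx K) ∈ certFullD4.K K m :=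
    fun hm a d => by
      rw [Subgroup.coe_mul, h1_val, h2_val]
      exact mul_mem (kx (by omega) (by omega) (by omega) _) (kx (by omega) (by omega) (by omega) _)
  -- the first short root group
  have eA : ∀ t, (hA f hf hK t : GL chevD4.Idx K) = certFullD4.xg 12 (f (f t)) *
      (certFullD4.xg 18 t * certFullD4.xg 13 (f t)) := fun t => by
    rw [hA_val]
    exact ((D4.comm_x (r := 12) (s := 18) (by simp) (by simp) (by omega) (by simp) (by simp) _ _).mul_right
      (D4.comm_x (r := 12) (s := 13) (by simp) (by simp) (by omega) (by simp) (by simp) _ _)).eq.symm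
  have e0 := congrArg Subtype.val e
  simp only [uprod, Subgroup.coe_mul, eA, hb_val, mul_assoc] at e0
  have hrest : ∀ (t : K) (a : L0 f) (s r : K) (c d : L0 f),
      certFullD4.xg 18 t * (certFullD4.xg 13 (f t) * (certFullD4.xg 14 (a : K) *
        ((hB f hf hK s : GL chevD4.Idx K) * ((hC f hf hK r : GL chevD4.Idx K) *
          ((h1 f hf hK c : GL chevD4.Idx K) * (h2 f hf hK d : GL chevD4.Idx K)))))) ∈
        certFullD4.K K (12 + 1) := fun t a s r c d =>
    mul_mem (kx (by omega) (by omega) (by omega) _) (mul_mem (kx (by omega) (by omega) (by omega) _)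
      (mul_mem (kx (by omega) (by omega) (by omega) _) (mul_mem (Bk (by omega) _)
        (mul_mem (Ck (by omega) _) (Lk (by omega) c d)))))
  obtain ⟨ex, -⟩ := certFullD4.xg_mul_K_inj (p (r := 12) (by decide)) (hrest x b y w u v)
    (hrest x' b' y' w' u' v') e0
  obtain rfl : x = x' := f.injective (f.injective ex)
  clear e0 ex
  rw [uprod, uprod, mul_right_inj] at e
  -- the long simple one
  have e0 := congrArg Subtype.val e
  simp only [Subgroup.coe_mul, hb_val] at e0
  obtain ⟨eb, e1⟩ := certFullD4.xg_mul_K_inj (pos_iff.2 ⟨by omega, by omega⟩)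
    (mul_mem (Bk (by omega) _) (mul_mem (Ck (by omega) _) (Lk (by omega) u v)))
    (mul_mem (Bk (by omega) _) (mul_mem (Ck (by omega) _) (Lk (by omega) u' v'))) e0
  obtain rfl : b = b' := Subtype.ext eb
  rw [mul_right_inj] at e
  -- the second short root group
  have eB : ∀ t, (hB f hf hK t : GL chevD4.Idx K) = certFullD4.xg 15 (-f (f t)) *
      (certFullD4.xg 19 t * certFullD4.xg 16 (-f t)) := fun t => by
    rw [hB_val]
    exact ((commute_of_nil (p (by decide)) (p (by decide)) (fun _ => d2) _ _).mul_right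
      (commute_of_nil (p (by decide)) (p (by decide)) (fun _ => d1) _ _)).eq.symm
  clear e0 e1 eb
  have e0 := congrArg Subtype.val e
  simp only [Subgroup.coe_mul, eB, mul_assoc] at e0
  have hrest : ∀ (s r : K) (c d : L0 f),
      certFullD4.xg 19 s * (certFullD4.xg 16 (-f s) * ((hC f hf hK r : GL chevD4.Idx K) *
        ((h1 f hf hK c : GL chevD4.Idx K) * (h2 f hf hK d : GL chevD4.Idx K)))) ∈
        certFullD4.K K (15 + 1) := fun s r c d =>
    mul_mem (kx (by omega) (by omega) (by omega) _) (mul_mem (kx (by omega) (by omega) (by omega) _)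
      (mul_mem (Ck (by omega) _) (Lk (by omega) c d)))
  obtain ⟨ey, -⟩ := certFullD4.xg_mul_K_inj (p (r := 15) (by decide)) (hrest y w u v)
    (hrest y' w' u' v') e0
  obtain rfl : y = y' := f.injective (f.injective (neg_injective ey))
  clear e0 ey hrest
  rw [mul_right_inj] at e
  -- the third short root group
  have e0 := congrArg Subtype.val e
  simp only [Subgroup.coe_mul, hC_val, mul_assoc] at e0
  have hrest : ∀ (r : K) (c d : L0 f),
      certFullD4.xg 20 r * (certFullD4.xg 21 (f r) *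
        ((h1 f hf hK c : GL chevD4.Idx K) * (h2 f hf hK d : GL chevD4.Idx K))) ∈
        certFullD4.K K (17 + 1) := fun r c d =>
    mul_mem (kx (by omega) (by omega) (by omega) _) (mul_mem (kx (by omega) (by omega) (by omega) _)
      (Lk (by omega) c d))
  obtain ⟨ew, -⟩ := certFullD4.xg_mul_K_inj (p (r := 17) (by decide)) (hrest w u v)
    (hrest w' u' v') e0
  obtain rfl : w = w' := f.injective (f.injective (neg_injective ew))
  clear e0 ew hrest
  rw [mul_right_inj] at e
  -- the long ones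
  have e0 := congrArg Subtype.val e
  simp only [Subgroup.coe_mul, h1_val, h2_val] at e0
  obtain ⟨eu, e1⟩ := certFullD4.xg_mul_K_inj (p (r := 22) (by decide))
    (kx (by omega) (by omega) (by omega) _) (kx (by omega) (by omega) (by omega) _) e0
  refine ⟨rfl, rfl, rfl, rfl, Subtype.ext eu, Subtype.ext ?_⟩
  exact (certFullD4.xg_mul_K_inj (p (r := 23) (by decide)) (one_mem _) (one_mem _)
    (by rw [mul_one, mul_one]; exact e1)).1

/-- Every element of the maximal unipotent subgroup is such a product. -/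
theorem exists_uprod {g : ↥(Z).G₁} (hg : g ∈ subU f hf hK) :
    ∃ x b y w u v, uprod f hf hK x b y w u v = g := by
  obtain ⟨gA, gB, gC, gb, g1, g2⟩ := gens_mem_subU f hf hK
  let φ : K × L0 f × K × K × L0 f × L0 f → ↥(subU f hf hK) := fun p =>
    ⟨uprod f hf hK p.1 p.2.1 p.2.2.1 p.2.2.2.1 p.2.2.2.2.1 p.2.2.2.2.2,
      mul_mem (gA _) (mul_mem (gb _) (mul_mem (gB _) (mul_mem (gC _) (mul_mem (g1 _) (g2 _)))))⟩
  have hinj : Function.Injective φ := fun p p' e => by
    obtain ⟨a1, a2, a3, a4, a5, a6⟩ := uprod_inj f hf hK (congrArg Subtype.val e)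
    simp only [Prod.ext_iff]
    exact ⟨a1, a2, a3, a4, a5, a6⟩
  have hcard : Nat.card (K × L0 f × K × K × L0 f × L0 f) = Nat.card ↥(subU f hf hK) := by
    rw [card_subU, Nat.card_prod, Nat.card_prod, Nat.card_prod, Nat.card_prod, Nat.card_prod,
      D4.card_fixField f hf hK, Nat.card_eq_fintype_card, hK]
    ring
  obtain ⟨p, hp⟩ := ((Nat.bijective_iff_injective_and_card φ).2 ⟨hinj, hcard⟩).2 ⟨g, hg⟩
  exact ⟨_, _, _, _, _, _, congrArg Subtype.val hp⟩

/-- The part outside the long simple root group. -/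
noncomputable def subN : Subgroup ↥(Z).G₁ :=
  (certFullD4.KS K (certFullD4.keepSet [1]) certFullD4.T.h).subgroupOf (Z).G₁

theorem nprod_mem (x y w : K) (u v : L0 f) : uprod f hf hK x 0 y w u v ∈ subN f hf hK := by
  have p : ∀ {r : ℕ}, r ∈ shortLong → ∀ t : K,
      certFullD4.xg r t ∈ certFullD4.KS K (certFullD4.keepSet [1]) certFullD4.T.h := fun hr t =>
    certFullD4.xg_mem_KS (keep_iff.2 (shortLong_lt hr)) (shortLong_lt hr).1.1 t
  refine Subgroup.mem_subgroupOf.2 ?_
  simp only [uprod, Subgroup.coe_mul, hA_val, hb_val, hB_val, hC_val, h1_val, h2_val,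
    ZeroMemClass.coe_zero, certFullD4.xg_zero, one_mul]
  exact mul_mem (mul_mem (mul_mem (p (by decide) _) (p (by decide) _)) (p (by decide) _))
    (mul_mem (mul_mem (mul_mem (p (by decide) _) (p (by decide) _)) (p (by decide) _))
      (mul_mem (mul_mem (mul_mem (p (by decide) _) (p (by decide) _)) (p (by decide) _))
        (mul_mem (p (by decide) _) (p (by decide) _))))

theorem exists_nprod {g : ↥(Z).G₁} (hg : g ∈ subN f hf hK) :
    ∃ x y w u v, uprod f hf hK x 0 y w u v = g := by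
  obtain ⟨x, b, y, w, u, v, e⟩ := exists_uprod f hf hK (mem_subU f hf hK
    (certFullD4.KS_le_U (certFullD4.keepSet_closed lt_rank.1) _ hg))
  refine ⟨x, y, w, u, v, ?_⟩
  have e' : hb f hf hK b * (uprod f hf hK 0 0 y w u v) = (hA f hf hK x)⁻¹ * g := by
    rw [← e]
    have z1 : hA f hf hK 0 = 1 := Subtype.ext (by
      rw [hA_val]; simp [certFullD4.xg_zero])
    have z2 : hb f hf hK 0 = 1 := Subtype.ext (certFullD4.xg_zero 14)
    simp only [uprod, z1, z2, one_mul, inv_mul_cancel_left]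
  have hmem : hb f hf hK b ∈ subN f hf hK := by
    rw [eq_mul_inv_of_mul_eq e']
    refine mul_mem (mul_mem (inv_mem ?_) hg) (inv_mem (nprod_mem f hf hK 0 y w u v))
    refine Subgroup.mem_subgroupOf.2 ?_
    rw [hA_val]
    exact mul_mem (mul_mem (certFullD4.xg_mem_KS (keep_iff.2 (shortLong_lt (by decide))) (by decide) _)
      (certFullD4.xg_mem_KS (keep_iff.2 (shortLong_lt (by decide))) (by decide) _))
      (certFullD4.xg_mem_KS (keep_iff.2 (shortLong_lt (by decide))) (by decide) _)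
  have hinv : certFullD4.xg 14 (b : K) ∈
      certFullD4.KS K (certFullD4.invSet [1]) certFullD4.T.h := by
    refine certFullD4.xg_mem_KS (show 14 ∈ certFullD4.invSet [1] from
      ⟨pos_iff.2 ⟨by omega, by omega⟩, fun h => ?_⟩) (by decide) _
    exact (keep_iff.1 (show 14 ∈ certFullD4.keepSet [1] from
      ⟨pos_iff.2 ⟨by omega, by omega⟩, h⟩)).2 rfl
  have h1 : certFullD4.xg 14 (b : K) = 1 := Subgroup.mem_bot.1
    ((certFullD4.KS_inf_eq_bot (certFullD4.keepSet_closed lt_rank.1)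
      (certFullD4.invSet_closed lt_rank.1) (fun r h h' => h'.2 h.2)).le
      (Subgroup.mem_inf.2 ⟨hmem, hinv⟩))
  obtain rfl : b = 0 := Subtype.ext (certFullD4.xg_mul_K_inj (k := 1) (k' := 1)
    (pos_iff.2 ⟨by omega, by omega⟩ : certFullD4.Pos 14) (one_mem _) (one_mem _)
    (by rw [h1, ZeroMemClass.coe_zero, certFullD4.xg_zero])).1
  exact e

/-- The long simple root group normalises it. -/
theorem hb_conj_subN (b : L0 f) {g : ↥(Z).G₁} (hg : g ∈ subN f hf hK) :
    hb f hf hK b * g * (hb f hf hK b)⁻¹ ∈ subN f hf hK := by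
  refine Subgroup.mem_subgroupOf.2 ?_
  rw [Subgroup.coe_mul, Subgroup.coe_mul, Subgroup.coe_inv, hb_val]
  refine conj_closure_mem ?_ hg
  rintro k ⟨s, u, hs, -, rfl⟩
  obtain ⟨hs', hne⟩ := keep_iff.1 hs
  have hp : certFullD4.Pos 14 := pos_iff.2 ⟨by omega, by omega⟩
  have hneg : s ≠ chevD4.neg 14 := fun e => ((certFullD4.not_pos_iff hp.2).2 (e ▸ hs')) hp
  rw [certFullD4.xg_inv, mul_assoc, certFullD4.xg_comm hp.2 hs'.2 hne hneg, ← mul_assoc,
    ← mul_assoc, ← certFullD4.xg_add, add_neg_cancel, certFullD4.xg_zero, one_mul]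
  refine mul_mem (certFullD4.xg_mem_KS hs hs'.1 u) (Subgroup.list_prod_mem _ fun k hk => ?_)
  obtain ⟨x, hx, rfl⟩ := List.mem_map.1 hk
  have h := checkTab_ok
  simp only [checkTab, Bool.and_eq_true, decide_eq_true_eq, List.all_eq_true, Bool.or_eq_true,
    List.mem_range'_1, Nat.beq_eq, Nat.ble_eq, Bool.not_eq_true'] at h
  obtain ⟨a, b'⟩ := pos_iff.1 hs'
  obtain ⟨x1, x2⟩ := ((h.1.1.2 s ⟨a, by omega⟩).resolve_left hne) x hx
  have hx14 : x.1 ≠ 14 := fun e => by simp [e] at x2
  exact certFullD4.xg_mem_KS (keep_iff.2 ⟨(certFullD4.commTerms_gt hp hs' hx).1, hx14⟩) x1 _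

end Cfsg.Agent.Classical.Triality
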