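import Cfsg.Agent.Lib.Classical.TrialityLevi
import Cfsg.Agent.Lib.Classical.TrialityLiftP
import Cfsg.Agent.Lib.Classical.UnitMultEngineBase
import Cfsg.Agent.Lib.Classical.SLTwoSylow

/-!
A central extension of ³D₄(q) with kernel of order prime to the characteristic, generated by
elements of `p`-power order, is trivial: the lifts of the two rank one groups carry a lift of the
monomial group, and with the lift of the unipotent group a subgroup meeting the kernel trivially.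
-/

set_option autoImplicit false
set_option linter.unusedSectionVars false
set_option linter.unusedSimpArgs false
set_option maxRecDepth 8000

namespace Cfsg.Agent.Classical.Triality

open Cfsg.Lie Cfsg.Agent.Lie.Chev
open Cfsg.Agent.Classical.UnitMult (Coprime IsPElem ker_eq_bot_of_section)
open scoped MatrixGroups

variable {K : Type*} [Field K] [Fintype K] (f : K →+* K) {q : ℕ} (hf : ∀ t, f t = t ^ q)
  (hK : Fintype.card K = q ^ 3) {p : ℕ} [Fact p.Prime] [CharP K p]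

include hf hK

local notation "Z" => D4.datum f hf hK
local notation "NN" => D4.nodes f hf hK

theorem q_eq : ∃ j, q = p ^ j := by
  obtain ⟨n, hp, hn⟩ := FiniteField.card K p
  have h : q ∣ p ^ (n : ℕ) := ⟨q * q, by rw [← hn, hK]; ring⟩
  obtain ⟨j, -, hj⟩ := (Nat.dvd_prime_pow hp).1 h
  exact ⟨j, hj⟩

theorem isPGroup_subU : IsPGroup p ↥(subU f hf hK) := by
  obtain ⟨j, rfl⟩ := q_eq f hf hK (p := p)
  exact IsPGroup.of_card (n := j * 12) (by rw [card_subU, pow_mul])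

theorem isPElem_subU {u : ↥(Z).G₁} (hu : u ∈ subU f hf hK) : IsPElem p u := by
  obtain ⟨k, hk⟩ := isPGroup_subU f hf hK (p := p) ⟨u, hu⟩
  exact ⟨k, congrArg Subtype.val hk⟩

theorem X_mem_subU {J : List ℕ} (hJ : J ∈ (Z).W.Jw) {x : ↥(Z).G₁}
    (hx : (x : GL chevD4.Idx K) ∈ (Z).X J) : x ∈ subU f hf hK :=
  mem_subU f hf hK (certFullD4.KS_invSet_le_U ((Z).W.J_spec hJ).2.1 hx.1)

theorem upG_pElem (i : Fin (NN).m) (t : (NN).L i) :
    IsPElem p ((NN).upG i t) ∧ IsPElem p ((NN).loG i t) := by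
  have hup : ∀ t : (NN).L i, IsPElem p ((NN).upG i t) := fun t =>
    isPElem_subU f hf hK (X_mem_subU f hf hK ((NN).J_mem i) ((mem_X_iff f hf hK i).2 ⟨t, rfl⟩))
  refine ⟨hup t, ?_⟩
  rw [loG_eq]
  exact (hup _).conj _

theorem rkG_le_closure (i : Fin (NN).m) :
    rkG f hf hK i ≤ Subgroup.closure {x | x ∈ rkG f hf hK i ∧ IsPElem p x} := by
  rintro _ ⟨g, rfl⟩
  exact mem_of_gens (H := (Subgroup.closure {x | x ∈ rkG f hf hK i ∧ IsPElem p x}).comap ((NN).PhiG i))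
    (fun t => Subgroup.subset_closure ⟨⟨_, rfl⟩, (upG_pElem f hf hK i t).1⟩)
    (fun t => Subgroup.subset_closure ⟨⟨_, rfl⟩, (upG_pElem f hf hK i t).2⟩) g

theorem rkG_sylow (i : Fin (NN).m) (l : ℕ) [Fact l.Prime] (hl : l ≠ p)
    (P : Sylow l ↥(rkG f hf hK i)) : CycQuat ↥(P : Subgroup ↥(rkG f hf hK i)) := by
  classical
  haveI : Fintype ↥((NN).L i) := Fintype.ofFinite _
  let e : SL(2, (NN).L i) ≃* ↥(rkG f hf hK i) :=
    MonoidHom.ofInjective (PhiG_injective f hf hK i)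
  haveI : Finite SL(2, (NN).L i) := inferInstance
  let Q : Sylow l SL(2, (NN).L i) :=
    P.mapSurjective (f := e.symm.toMonoidHom) e.symm.surjective
  let ε : ↥(P : Subgroup ↥(rkG f hf hK i)) ≃* ↥(Q : Subgroup SL(2, (NN).L i)) :=
    Subgroup.equivMapOfInjective _ e.symm.toMonoidHom e.symm.injective
  haveI : CharP ↥((NN).L i) p := ((NN).L i).subtype.charP Subtype.val_injective p
  obtain ⟨n, hp, hn⟩ := FiniteField.card ↥((NN).L i) p
  have hl' : ¬ l ∣ Fintype.card ↥((NN).L i) := fun h => hl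
    ((Nat.prime_dvd_prime_iff_eq Fact.out hp).1 ((Fact.out : l.Prime).dvd_of_dvd_pow (hn ▸ h)))
  by_cases h2 : l = 2
  · subst h2
    have hodd : Odd (Fintype.card ↥((NN).L i)) := Nat.odd_iff.2 (by omega)
    obtain ⟨⟨k, -, ⟨eQ⟩⟩, -⟩ := SLTwoSylow.two_sylow_SL hodd Q
    exact Or.inr ⟨2 ^ k, ⟨(Nat.two_pow_pos k).ne'⟩, ⟨ε.trans eQ⟩⟩
  · haveI := SLTwoSylow.isCyclic_sylow_SL (F := ↥((NN).L i)) h2 hl' Q
    exact Or.inl (isCyclic_of_surjective ε.symm.toMonoidHom ε.symm.surjective)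

section Cover

variable {E : Type*} [Group E] [Finite E] {π : E →* ↥(D4.datum f hf hK).G₁} (C : Coprime p π)

/-- The torus part of the lift of a rank one group. -/
noncomputable def tPart (i : Fin (NN).m) : Subgroup E :=
  liftP C (rkG f hf hK i) ⊓ (torH f hf hK).comap π

/-- The lift of the torus. -/
noncomputable def tTil : Subgroup E :=
  tPart f hf hK C (nodeA f hf hK) ⊔ tPart f hf hK C (nodeB f hf hK)

theorem tPart_le (i : Fin (NN).m) : tPart f hf hK C i ≤ tTil f hf hK C := by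
  rcases node_cases f hf hK i with rfl | rfl
  exacts [le_sup_right, le_sup_left]

theorem π_tTil {z : E} (hz : z ∈ tTil f hf hK C) : π z ∈ torH f hf hK :=
  (sup_le (fun _ h => h.2) (fun _ h => h.2) :
    tTil f hf hK C ≤ (torH f hf hK).comap π) hz

theorem inj_rk {i : Fin (NN).m} {a b : E} (ha : a ∈ liftP C (rkG f hf hK i))
    (hb : b ∈ liftP C (rkG f hf hK i)) (h : π a = π b) : a = b :=
  liftP_inj C (rkG_le_closure f hf hK i) (fun l _ hl P => rkG_sylow f hf hK i l hl P) ha hb h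

/-- The preimage of the torus centralises the torus part. -/
theorem cen_tPart {i : Fin (NN).m} {e z : E} (he : π e ∈ torH f hf hK)
    (hz : z ∈ tPart f hf hK C i) : Commute e z := by
  refine mul_inv_eq_iff_eq_mul.1 (inj_rk f hf hK C
    (conj_liftP C (fun x hx => torH_conj_rkG f hf hK i he hx) hz.1) hz.1 ?_)
  rw [map_mul, map_mul, map_inv, (torH_comm f hf hK he hz.2).eq, mul_inv_cancel_right]

theorem exists_tTil {z : E} (hz : z ∈ tTil f hf hK C) :
    ∃ a ∈ tPart f hf hK C (nodeA f hf hK), ∃ b ∈ tPart f hf hK C (nodeB f hf hK), z = a * b := by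
  let P : Subgroup E :=
    { carrier := {z | ∃ a ∈ tPart f hf hK C (nodeA f hf hK),
        ∃ b ∈ tPart f hf hK C (nodeB f hf hK), z = a * b}
      one_mem' := ⟨1, one_mem _, 1, one_mem _, (mul_one 1).symm⟩
      mul_mem' := by
        rintro _ _ ⟨a, ha, b, hb, rfl⟩ ⟨a', ha', b', hb', rfl⟩
        refine ⟨a * a', mul_mem ha ha', b * b', mul_mem hb hb', ?_⟩
        have hc := cen_tPart f hf hK C (e := b) hb.2 ha'
        calc a * b * (a' * b') = a * (b * a') * b' := by group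
          _ = _ := by rw [hc.eq]; group
      inv_mem' := by
        rintro _ ⟨a, ha, b, hb, rfl⟩
        refine ⟨a⁻¹, inv_mem ha, b⁻¹, inv_mem hb, ?_⟩
        have hc := cen_tPart f hf hK C (e := b⁻¹) (inv_mem hb).2 (inv_mem ha)
        rw [_root_.mul_inv_rev]
        exact hc.eq }
  exact (sup_le (fun a ha => ⟨a, ha, 1, one_mem _, (mul_one a).symm⟩)
    (fun b hb => ⟨1, one_mem _, b, hb, (one_mul b).symm⟩) : tTil f hf hK C ≤ P) hz

theorem tTil_eq_one {z : E} (hz : z ∈ tTil f hf hK C) (h1 : π z = 1) : z = 1 := by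
  obtain ⟨a, ha, b, hb, rfl⟩ := exists_tTil f hf hK C hz
  have hab : π a = π b⁻¹ := by
    rw [map_mul, mul_eq_one_iff_eq_inv] at h1
    rw [map_inv]; exact h1
  have hpa : π a = 1 := torH_disjoint f hf hK (π_liftP C ha.1)
    (hab ▸ π_liftP C (inv_mem hb.1)) ha.2
  obtain rfl := inj_rk f hf hK C ha.1 (one_mem _) (by rw [hpa, map_one])
  rw [one_mul] at h1 ⊢
  exact inj_rk f hf hK C hb.1 (one_mem _) (by rw [h1, map_one])

theorem exists_tTil_lift {t : ↥(Z).G₁} (ht : t ∈ torH f hf hK) :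
    ∃ z ∈ tTil f hf hK C, π z = t := by
  obtain ⟨x, hx, y, hy, hxT, hyT, rfl⟩ := torH_split f hf hK ht
  obtain ⟨a, ha, rfl⟩ := exists_liftP C (rkG_le_closure f hf hK _) hx
  obtain ⟨b, hb, rfl⟩ := exists_liftP C (rkG_le_closure f hf hK _) hy
  exact ⟨a * b, mul_mem (tPart_le f hf hK C _ ⟨ha, hxT⟩) (tPart_le f hf hK C _ ⟨hb, hyT⟩),
    map_mul π a b⟩

theorem conj_tTil {i : Fin (NN).m} {n : E} (hn : n ∈ liftP C (rkG f hf hK i))
    (hπn : π n = (Z).gen ((NN).J_mem i)) {z : E} (hz : z ∈ tTil f hf hK C) :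
    n * z * n⁻¹ ∈ tTil f hf hK C := by
  have hzT := π_tTil f hf hK C hz
  have h1 : n * (z * n⁻¹ * z⁻¹) ∈ tPart f hf hK C i := by
    refine ⟨mul_mem hn (conj_liftP C (fun x hx => torH_conj_rkG f hf hK i hzT hx) (inv_mem hn)), ?_⟩
    show π (n * (z * n⁻¹ * z⁻¹)) ∈ torH f hf hK
    rw [show n * (z * n⁻¹ * z⁻¹) = n * z * n⁻¹ * z⁻¹ by group]
    simp only [map_mul, map_inv, hπn]
    exact mul_mem (mem_torH_conj f hf hK ((NN).J_mem i) hzT).1 (inv_mem hzT)
  have h2 := mul_mem (tPart_le f hf hK C i h1) hz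
  rwa [show n * (z * n⁻¹ * z⁻¹) * z = n * z * n⁻¹ by group] at h2

theorem sq_tTil {i : Fin (NN).m} {n : E} (hn : n ∈ liftP C (rkG f hf hK i))
    (hπn : π n = (Z).gen ((NN).J_mem i)) : n * n ∈ tTil f hf hK C := by
  refine tPart_le f hf hK C i ⟨mul_mem hn hn, ?_⟩
  show π (n * n) ∈ torH f hf hK
  rw [map_mul, hπn]
  exact (Z).nJ_sq ((NN).J_mem i)

theorem nw_altWord (k : ℕ) (e : Bool) : certFullD4.nw K (altWord k e) =
    (certFullD4.nw K [1] * certFullD4.nw K [0, 2, 3]) ^ k *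
      cond e (certFullD4.nw K [0, 2, 3]) 1 := by
  rw [altWord, certFullD4.nw_append]
  congr 1
  · induction k with
    | zero => rw [List.replicate_zero, List.flatten_nil, certFullD4.nw_nil, pow_zero]
    | succ k ih =>
      rw [List.replicate_succ, List.flatten_cons, certFullD4.nw_append, ih, pow_succ',
        ← certFullD4.nw_append]
      rfl
  · cases e
    · exact certFullD4.nw_nil
    · rfl

/-- The lift of the monomial group is faithful. -/
theorem nTil_eq_one {a b : E} (ha : a ∈ liftP C (rkG f hf hK (nodeA f hf hK)))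
    (hb : b ∈ liftP C (rkG f hf hK (nodeB f hf hK)))
    (hπa : π a = (Z).gen ((NN).J_mem (nodeA f hf hK)))
    (hπb : π b = (Z).gen ((NN).J_mem (nodeB f hf hK))) {z : E}
    (hz : z ∈ Subgroup.closure ((tTil f hf hK C : Set E) ∪ {a, b})) (h1 : π z = 1) : z = 1 := by
  have hw : (b * a) ^ 2 * b * a * ((b * a) ^ 2 * b)⁻¹ * a⁻¹ ∈ tTil f hf hK C := by
    set w := (b * a) ^ 2 * b
    have ew : ((π w : ↥(Z).G₁) : GL chevD4.Idx K) = certFullD4.nw K wordW := by
      rw [show wordW = [1] ++ ([0, 2, 3] ++ ([1] ++ ([0, 2, 3] ++ [1]))) from rfl]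
      simp only [certFullD4.nw_append]
      simp only [w, map_mul, map_pow, hπa, hπb, Subgroup.coe_mul, SubmonoidClass.coe_pow,
        pow_succ, pow_zero, one_mul, mul_assoc]
      rfl
    obtain ⟨hconj, hT⟩ := wordW_conj f hf hK ew
    refine tPart_le f hf hK C (nodeA f hf hK)
      ⟨Subgroup.mul_mem _ (conj_liftP C hconj ha) (Subgroup.inv_mem _ ha), ?_⟩
    show π (w * a * w⁻¹ * a⁻¹) ∈ torH f hf hK
    simp only [map_mul, map_inv, hπa]
    exact hT
  obtain ⟨k, hk, e, t, ht, rfl⟩ := exists_word (tTil f hf hK C)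
    (fun t ht => conj_tTil f hf hK C ha hπa ht) (fun t ht => conj_tTil f hf hK C hb hπb ht)
    (sq_tTil f hf hK C ha hπa) (sq_tTil f hf hK C hb hπb) hw hz
  have hword : ((π ((b * a) ^ k * cond e a 1) : ↥(Z).G₁) : GL chevD4.Idx K) =
      certFullD4.nw K (altWord k e) := by
    rw [nw_altWord f hf hK, map_mul, map_pow, map_mul, hπa, hπb]
    cases e
    · rw [cond_false, cond_false, map_one]; rfl
    · rw [cond_true, cond_true, hπa]; rfl
  have hmem : ((π ((b * a) ^ k * cond e a 1) : ↥(Z).G₁) : GL chevD4.Idx K) ∈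
      chevD4.diagonalSubgroup K := by
    rw [map_mul π t, mul_eq_one_iff_inv_eq] at h1
    rw [← h1]
    exact (inv_mem (π_tTil f hf hK C ht) : (π t)⁻¹ ∈ torH f hf hK).1
  obtain ⟨rfl, rfl⟩ := altWord_ne f hf hK hk hmem hword.symm
  rw [pow_zero, cond_false, mul_one, mul_one] at h1 ⊢
  exact tTil_eq_one f hf hK C ht h1

/-- The products of two lifted unipotent elements around a lifted monomial one. -/
def big (a b : E) : Set E :=
  {z | ∃ u ∈ subU f hf hK, ∃ n ∈ Subgroup.closure ((tTil f hf hK C : Set E) ∪ {a, b}),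
    ∃ u' ∈ subU f hf hK, z = C.sp u * n * C.sp u'}

theorem spU_mul_big {a b : E} {u : ↥(Z).G₁} (hu : u ∈ subU f hf hK) {z : E}
    (hz : z ∈ big f hf hK C a b) : C.sp u * z ∈ big f hf hK C a b := by
  obtain ⟨v, hv, n, hn, v', hv', rfl⟩ := hz
  refine ⟨u * v, mul_mem hu hv, n, hn, v', hv', ?_⟩
  rw [C.sp_mul (isPGroup_subU f hf hK) hu hv]
  group

theorem tTil_mul_big {a b e : E} (he : e ∈ tTil f hf hK C) {z : E}
    (hz : z ∈ big f hf hK C a b) : e * z ∈ big f hf hK C a b := by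
  obtain ⟨v, hv, n, hn, v', hv', rfl⟩ := hz
  have hT := π_tTil f hf hK C he
  refine ⟨π e * v * (π e)⁻¹, mem_subU f hf hK ?_, e * n,
    mul_mem (Subgroup.subset_closure (Or.inl he)) hn, v', hv', ?_⟩
  · rw [Subgroup.coe_mul, Subgroup.coe_mul, Subgroup.coe_inv]
    exact ((Z).conj_B_U₁ ⟨certFullD4.H_le_B hT.1, hT.2⟩ ⟨hv.1, (Z).le_fix v.2⟩).1
  · rw [← C.sp_conj e (isPElem_subU f hf hK hv)]
    group

theorem gen_mul_big {a b : E} {i : Fin (NN).m} {c : E} (hc : c ∈ liftP C (rkG f hf hK i))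
    (hπc : π c = (Z).gen ((NN).J_mem i))
    (hcN : c ∈ Subgroup.closure ((tTil f hf hK C : Set E) ∪ {a, b}))
    (hN : ∀ y ∈ Subgroup.closure ((tTil f hf hK C : Set E) ∪ {a, b}),
      ((π y : ↥(Z).G₁) : GL chevD4.Idx K) ∈ chevD4.monomialSubgroup K)
    {z : E} (hz : z ∈ big f hf hK C a b) : c * z ∈ big f hf hK C a b := by
  obtain ⟨u, hu, n, hn, u', hu', rfl⟩ := hz
  set J := (NN).J i with hJdef
  have hJ : J ∈ (Z).W.Jw := (NN).J_mem i
  obtain ⟨-, hlt, -⟩ := (Z).W.J_spec hJ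
  have hsp : ∀ {p q}, p ∈ subU f hf hK → q ∈ subU f hf hK → C.sp (p * q) = C.sp p * C.sp q :=
    fun hp hq => C.sp_mul (isPGroup_subU f hf hK) hp hq
  have hmul : ∀ {p r : ↥(Z).G₁} {y : E}, p ∈ subU f hf hK → r ∈ subU f hf hK →
      y ∈ Subgroup.closure ((tTil f hf hK C : Set E) ∪ {a, b}) →
      C.sp p * y * C.sp r * C.sp u' ∈ big f hf hK C a b := fun {p r y} hp hr hy =>
    ⟨p, hp, y, hy, r * u', mul_mem hr hu', by rw [hsp hr hu', ← mul_assoc]⟩
  obtain ⟨v₀, hv₀, x₀, hx₀, e0⟩ := (Z).keep_split hJ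
    (Subgroup.mem_inf.2 ⟨hu.1, (Z).le_fix u.2⟩)
  have hvU : (⟨v₀, (Z).mem_G₁ hv₀.2⟩ : ↥(Z).G₁) ∈ subU f hf hK :=
    mem_subU f hf hK (certFullD4.KS_le_U (certFullD4.keepSet_closed hlt) _ hv₀.1)
  set v : ↥(Z).G₁ := ⟨v₀, (Z).mem_G₁ hv₀.2⟩
  set x : ↥(Z).G₁ := ⟨x₀, (Z).mem_G₁ hx₀.2⟩
  have hxU : x ∈ subU f hf hK := X_mem_subU f hf hK hJ hx₀
  obtain rfl : u = v * x := Subtype.ext e0
  set v1 := π c * v * (π c)⁻¹ with hv1
  have hv1U : v1 ∈ subU f hf hK := by
    rw [hv1, hπc]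
    refine mem_subU f hf hK ?_
    show certFullD4.nw K J * v₀ * (certFullD4.nw K J)⁻¹ ∈ chevD4.posUnipotent K
    simpa using certFullD4.conj_keep_mem_U (one_mem _) hlt hv₀.1
  have e1 : c * (C.sp (v * x) * n * C.sp u') = C.sp v1 * (c * C.sp x * n * C.sp u') := by
    rw [hsp hvU hxU, hv1, ← C.sp_conj c (isPElem_subU f hf hK hvU)]
    group
  rw [e1]
  refine spU_mul_big f hf hK C hv1U ?_
  -- a lifted element of the root group moved to the right
  have hmove : ∀ {y : E} {L : List ℕ} {d : GL chevD4.Idx K}, (∀ p ∈ L, p < chevD4.rank) →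
      d ∈ chevD4.diagonalSubgroup K ⊓ (D4.tw f).fix →
      ((π y : ↥(Z).G₁) : GL chevD4.Idx K) = d * certFullD4.nw K L →
      (∀ r ∈ certFullD4.invSet J, certFullD4.Pos (certFullD4.wl L.reverse r)) →
      ∀ {q : ↥(Z).G₁}, (q : GL chevD4.Idx K) ∈ (Z).X J →
      ∃ q' ∈ subU f hf hK, C.sp q * y = y * C.sp q' := by
    intro y L d hL hd e hpos q hq
    refine ⟨π y⁻¹ * q * (π y⁻¹)⁻¹, mem_subU f hf hK ?_, ?_⟩
    · simp only [map_inv, inv_inv, Subgroup.coe_mul, Subgroup.coe_inv, e]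
      rw [show (d * certFullD4.nw K L)⁻¹ * (q : GL chevD4.Idx K) * (d * certFullD4.nw K L) =
        (certFullD4.nw K L)⁻¹ * (d⁻¹ * q * d⁻¹⁻¹) * certFullD4.nw K L by group]
      exact Twist.Datum.conj_inv_mem_U (c := certFullD4) (fun r hr => hr.1) hL hpos
        (torH_conj_X f hf hK (Subgroup.inv_mem _ hd) hq).1
    · rw [← C.sp_conj y⁻¹ (isPElem_subU f hf hK (X_mem_subU f hf hK hJ hq))]
      group
  by_cases hx1 : x = 1
  · rw [hx1]
    have := hmul (one_mem _) (one_mem _) (mul_mem hcN hn)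
    rw [C.sp_one, one_mul, mul_one] at this
    rwa [C.sp_one, mul_one]
  obtain ⟨d, hd, j, hj, en⟩ := (Z).exists_N_fix ⟨hN n hn, (Z).le_fix (π n).2⟩
  obtain ⟨hwlt, -, -⟩ := (Z).wd_spec hj
  rcases dichotomy f hf hK i (i := j) hj with h | h
  · obtain ⟨q, hq, eq⟩ := hmove hwlt hd en h (q := x) hx₀
    have := hmul (one_mem _) hq (mul_mem hcN hn)
    rw [C.sp_one, one_mul] at this
    rwa [show c * C.sp x * n = c * n * C.sp q by rw [mul_assoc, eq]; group]
  obtain ⟨q1, q2, kk, hy1, hy2, hk, hkL, es⟩ := split_lo f hf hK i (x := x) hx₀ hx1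
  obtain ⟨k', hk', ek'⟩ := exists_liftP C (rkG_le_closure f hf hK i) hkL
  have hk'T : k' ∈ tTil f hf hK C := tPart_le f hf hK C i ⟨hk', by
    show π k' ∈ torH f hf hK
    rw [ek']; exact hk⟩
  have hX2 : ∀ {q : ↥(Z).G₁}, (q : GL chevD4.Idx K) ∈ (Z).X J →
      C.sp q ∈ liftP C (rkG f hf hK i) := fun {q} hq =>
    sp_mem_liftP C (by obtain ⟨t, rfl⟩ := (mem_X_iff f hf hK i).1 hq; exact ⟨_, rfl⟩)
      (isPElem_subU f hf hK (X_mem_subU f hf hK hJ hq))
  have e2 : c * C.sp x * c⁻¹ = C.sp q1 * k' * c * C.sp q2 := by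
    refine inj_rk f hf hK C (mul_mem (mul_mem hc (hX2 hx₀)) (inv_mem hc))
      (mul_mem (mul_mem (mul_mem (hX2 hy1) hk') hc) (hX2 hy2)) ?_
    simp only [map_mul, map_inv, C.π_sp, ek', hπc]
    exact es
  have hcn : ((π (c * n) : ↥(Z).G₁) : GL chevD4.Idx K) =
      (certFullD4.nw K J * d * (certFullD4.nw K J)⁻¹) *
        certFullD4.nw K (J ++ (Z).W.wd j) := by
    rw [map_mul, Subgroup.coe_mul, en, hπc, certFullD4.nw_append]
    show certFullD4.nw K J * _ = _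
    group
  have hlt' : ∀ p ∈ J ++ (Z).W.wd j, p < chevD4.rank := fun p hp =>
    (List.mem_append.1 hp).elim (hlt p) (hwlt p)
  obtain ⟨q, hq, eq⟩ := hmove (y := c * n) hlt'
    (⟨certFullD4.N_conj_H (certFullD4.nw_mem_N hlt) hd.1, Subgroup.mul_mem _
      (Subgroup.mul_mem _ ((Z).nw_J_fix hJ) hd.2) (Subgroup.inv_mem _ ((Z).nw_J_fix hJ))⟩)
    hcn h (q := q2) hy2
  have := hmul (X_mem_subU f hf hK hJ (x := q1) hy1) hq
    (mul_mem (mul_mem (Subgroup.subset_closure (Or.inl hk'T)) hcN) (mul_mem hcN hn))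
  convert this using 1
  rw [show c * C.sp x = c * C.sp x * c⁻¹ * c by group, e2]
  calc C.sp q1 * k' * c * C.sp q2 * c * n * C.sp u'
      = C.sp q1 * k' * c * (C.sp q2 * (c * n)) * C.sp u' := by group
    _ = _ := by rw [eq]; group

include C in
/-- The kernel is trivial. -/
theorem coprime_ker_eq_bot (hgen : Subgroup.closure {g : E | IsPElem p g} = ⊤) : π.ker = ⊥ := by
  set jA := (NN).J_mem (nodeA f hf hK)
  set jB := (NN).J_mem (nodeB f hf hK)
  obtain ⟨a, ha, hπa⟩ := exists_liftP C (rkG_le_closure f hf hK (nodeA f hf hK))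
    (x := (Z).gen jA) ⟨nSL 1, (gen_eq f hf hK _).symm⟩
  obtain ⟨b, hb, hπb⟩ := exists_liftP C (rkG_le_closure f hf hK (nodeB f hf hK))
    (x := (Z).gen jB) ⟨nSL 1, (gen_eq f hf hK _).symm⟩
  set N := Subgroup.closure ((tTil f hf hK C : Set E) ∪ {a, b}) with hNdef
  have haN : a ∈ N := Subgroup.subset_closure (Or.inr (Or.inl rfl))
  have hbN : b ∈ N := Subgroup.subset_closure (Or.inr (Or.inr rfl))
  have hN : ∀ y ∈ N, ((π y : ↥(Z).G₁) : GL chevD4.Idx K) ∈ chevD4.monomialSubgroup K := by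
    intro y hy
    induction hy using Subgroup.closure_induction with
    | mem y hy =>
      rcases hy with hy | rfl | rfl
      · exact Subgroup.mem_sup_left (π_tTil f hf hK C hy).1
      · rw [hπa]; exact certFullD4.nw_mem_N lt_rank.2
      · rw [hπb]; exact certFullD4.nw_mem_N lt_rank.1
    | one => rw [map_one]; exact one_mem _
    | mul p q _ _ hp hq => rw [map_mul, Subgroup.coe_mul]; exact Subgroup.mul_mem _ hp hq
    | inv p _ hp => rw [map_inv, Subgroup.coe_inv]; exact Subgroup.inv_mem _ hp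
  set G := Subgroup.closure (C.sp '' (subU f hf hK : Set ↥(Z).G₁) ∪ (tTil f hf hK C : Set E) ∪ {a, b})
  have hGbig : ∀ z ∈ G, z ∈ big f hf hK C a b := by
    have hgenmul : ∀ c, (c = a ∨ c = b) → ∀ {z}, z ∈ big f hf hK C a b →
        c * z ∈ big f hf hK C a b := by
      rintro c (rfl | rfl) z hz
      exacts [gen_mul_big f hf hK C ha hπa haN hN hz, gen_mul_big f hf hK C hb hπb hbN hN hz]
    have hsq : ∀ c, (c = a ∨ c = b) → (c * c)⁻¹ ∈ tTil f hf hK C := by
      rintro c (rfl | rfl)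
      exacts [inv_mem (sq_tTil f hf hK C ha hπa), inv_mem (sq_tTil f hf hK C hb hπb)]
    intro z hz
    induction hz using Subgroup.closure_induction_left with
    | one => exact ⟨1, one_mem _, 1, one_mem _, 1, one_mem _, by rw [C.sp_one, one_mul, one_mul]⟩
    | mul_left x hx y _ ih =>
      rcases hx with (⟨u, hu, rfl⟩ | hx) | hx
      exacts [spU_mul_big f hf hK C hu ih, tTil_mul_big f hf hK C hx ih, hgenmul x hx ih]
    | inv_mul_cancel x hx y _ ih =>
      rcases hx with (⟨u, hu, rfl⟩ | hx) | hx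
      · rw [← C.sp_inv (isPElem_subU f hf hK hu)]
        exact spU_mul_big f hf hK C (inv_mem hu) ih
      · exact tTil_mul_big f hf hK C (inv_mem hx) ih
      · rw [show x⁻¹ * y = (x * x)⁻¹ * (x * y) by group]
        exact tTil_mul_big f hf hK C (hsq x hx) (hgenmul x hx ih)
  refine ker_eq_bot_of_section C hgen G (eq_top_iff.2 fun g _ => ?_) ?_
  · obtain ⟨p', hp, i, hi, u, hu, e⟩ := (Z).exists_bruhat_fix ((Z).le_fix g.2)
    obtain ⟨w, hw, t, ht, rfl⟩ := (D4.tw f).borel_fix hp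
    have hUG : ∀ v ∈ subU f hf hK, v ∈ G.map π := fun v hv =>
      ⟨C.sp v, Subgroup.subset_closure (Or.inl (Or.inl ⟨v, hv, rfl⟩)), C.π_sp v⟩
    have hTG : torH f hf hK ≤ G.map π := fun v hv => by
      obtain ⟨y, hy, ey⟩ := exists_tTil_lift f hf hK C hv
      exact ⟨y, Subgroup.subset_closure (Or.inl (Or.inr hy)), ey⟩
    have hNG : (⟨_, (Z).nw_wd_mem hi⟩ : ↥(Z).G₁) ∈ G.map π := by
      have hmem : (⟨_, (Z).nw_wd_mem hi⟩ : ↥(Z).G₁) ∈ (Z).bnPair.N :=
        ⟨certFullD4.nw_mem_N ((Z).wd_spec hi).1, (Z).nw_wd_mem hi⟩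
      refine (sup_le ((Subgroup.closure_le _).2 ?_) (le_trans ?_ hTG) :
        _ ⊔ ((Z).bnPair.B ⊓ (Z).bnPair.N) ≤ _) ((Z).bnPair.closure_sup.ge hmem)
      · rintro y ⟨J, hJ, ey⟩
        obtain rfl : y = (Z).gen hJ := Subtype.ext ey
        obtain ⟨i', rfl⟩ := (NN).J_surj J hJ
        rcases node_cases f hf hK i' with rfl | rfl
        exacts [⟨b, Subgroup.subset_closure (Or.inr (Or.inr rfl)), hπb⟩,
          ⟨a, Subgroup.subset_closure (Or.inr (Or.inl rfl)), hπa⟩]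
      · exact fun y hy => ⟨certFullD4.B_inf_N.le ⟨hy.1.1, hy.2.1⟩, (Z).le_fix y.2⟩
    obtain rfl : g = ⟨w, (Z).mem_G₁ hw.2⟩ * ⟨t, (Z).mem_G₁ ht.2⟩ *
        ⟨_, (Z).nw_wd_mem hi⟩ * ⟨u, (Z).mem_G₁ hu.2⟩ := Subtype.ext e
    exact mul_mem (mul_mem (mul_mem (hUG _ (mem_subU f hf hK hw.1)) (hTG ht)) hNG)
      (hUG _ (mem_subU f hf hK (certFullD4.KS_invSet_le_U ((Z).wd_spec hi).1 hu.1)))
  · refine (injective_iff_map_eq_one _).2 fun z hz => Subtype.ext ?_
    obtain ⟨u, hu, n, hn, u', hu', e⟩ := hGbig z z.2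
    have hz' : π (z : E) = 1 := hz
    rw [e, map_mul, map_mul, C.π_sp, C.π_sp] at hz'
    have hπn : π n = u⁻¹ * u'⁻¹ := by
      rw [mul_eq_one_iff_eq_inv] at hz'
      rw [← hz']; group
    have hnU : π n ∈ subU f hf hK := hπn ▸ mul_mem (inv_mem hu) (inv_mem hu')
    have hn1 : π n = 1 := Subtype.ext (Subgroup.mem_bot.1 (certFullD4.U_inf_H.le
      ⟨hnU.1, certFullD4.B_inf_N.le ⟨Subgroup.mem_sup_left hnU.1, hN n hn⟩⟩))
    obtain rfl := nTil_eq_one f hf hK C ha hb hπa hπb hn hn1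
    rw [map_one, mul_one] at hz'
    rw [e, mul_one, ← C.sp_mul (isPGroup_subU f hf hK) hu hu', hz', C.sp_one]
    rfl

end Cover

end Cfsg.Agent.Classical.Triality
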