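import Cfsg.Agent.Lib.Classical.UnitMultCentral
import Cfsg.Agent.Lib.Lie.SLTwoMult

/-!
Lifts of root groups to a central extension: commutation forced by scalings, canonical lifts as
commutators with a lift of a torus element, and the span of the elements of norm one in a cubic
extension.
-/

set_option autoImplicit false
set_option linter.unusedSectionVars false

namespace Cfsg.Agent.Classical.Triality

open scoped commutatorElement
open Cfsg.Agent.Classical.UnitMult (ker_comm comm_congr commute_congr lf π_lf)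

variable {E H : Type*} [Group E] [Group H] {π : E →* H}

theorem comm_mul_of_commute {a b c : E} (h : Commute b ⁅a, c⁆) : ⁅a, b * c⁆ = ⁅a, b⁆ * ⁅a, c⁆ := by
  rw [show ⁅a, b * c⁆ = ⁅a, b⁆ * (b * ⁅a, c⁆ * b⁻¹) by simp only [commutatorElement_def]; group,
    h.eq, mul_inv_cancel_right]

theorem mul_comm_of_commute {a b c : E} (h : Commute a ⁅b, c⁆) : ⁅a * b, c⁆ = ⁅b, c⁆ * ⁅a, c⁆ := by
  rw [show ⁅a * b, c⁆ = a * ⁅b, c⁆ * a⁻¹ * ⁅a, c⁆ by simp only [commutatorElement_def]; group,
    h.eq, mul_inv_cancel_right]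

theorem ker_of_commute {a b : E} (h : Commute (π a) (π b)) : π ⁅a, b⁆ = 1 := by
  rw [map_commutatorElement]; exact commutatorElement_eq_one_iff_commute.2 h

variable {K : Type*} [Field K]

theorem add_map_zero (e : K → H) (hadd : ∀ x y, e (x + y) = e x * e y) : e 0 = 1 := by
  have h := hadd 0 0
  rwa [add_zero, left_eq_mul] at h

theorem add_map_neg (e : K → H) (hadd : ∀ x y, e (x + y) = e x * e y) (x : K) :
    e (-x) = (e x)⁻¹ :=
  eq_inv_of_mul_eq_one_left (by rw [← hadd, neg_add_cancel, add_map_zero e hadd])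

/-- A canonical lift: a commutator with a lift of a torus element. -/
noncomputable def sig (hπ : Function.Surjective π) (t : E) (e : K → H) (l : K) (x : K) : E :=
  ⁅t, lf π hπ (e (x / (l - 1)))⁆

variable (hπ : Function.Surjective π) (hc : π.ker ≤ Subgroup.center E)

include hπ in
theorem map_sig {t : E} {e : K → H} {l : K} (hl : l ≠ 1) (hadd : ∀ x y, e (x + y) = e x * e y)
    (ht : ∀ x, π t * e x * (π t)⁻¹ = e (l * x)) (x : K) : π (sig hπ t e l x) = e x := by
  rw [sig, map_commutatorElement, π_lf, commutatorElement_def, ht, ← add_map_neg e hadd, ← hadd]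
  congr 1
  field_simp [sub_ne_zero.2 hl]
  ring

include hπ hc

theorem sig_conj {t r : E} {e e' : K → H} (l : K) {μ : K} (hr : Commute (π r) (π t))
    (hconj : ∀ x, π r * e x * (π r)⁻¹ = e' (μ * x)) (x : K) :
    r * sig hπ t e l x * r⁻¹ = sig hπ t e' l (μ * x) := by
  rw [sig, sig, conjugate_commutatorElement]
  refine comm_congr π hc ?_ ?_
  · rw [map_mul, map_mul, map_inv, hr.eq, mul_inv_cancel_right]
  · rw [map_mul, map_mul, map_inv, π_lf, π_lf, hconj, mul_div_assoc]

/-- Lifts of a scaled root group commute with each other. -/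
theorem self_commute [Fintype K] (h5 : 5 ≤ Fintype.card K) (hnp : ¬ (Fintype.card K).Prime)
    (h9 : Fintype.card K ≠ 9) {e : K → H} (hadd : ∀ x y, e (x + y) = e x * e y)
    (hscale : ∀ s : Kˣ, ∃ n : H, ∀ x, n * e x * n⁻¹ = e ((s : K) * s * x)) {a b : E} {x y : K}
    (ha : π a = e x) (hb : π b = e y) : Commute a b := by
  let z : K → K → E := fun x y => ⁅lf π hπ (e x), lf π hπ (e y)⁆
  have hcomm : ∀ x y, Commute (e x) (e y) := fun x y => by
    show _ = _
    rw [← hadd, ← hadd, add_comm]
  have hz : ∀ x y, π (z x y) = 1 := fun x y =>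
    ker_of_commute (by rw [π_lf, π_lf]; exact hcomm x y)
  have hR : ∀ x y y', z x (y + y') = z x y * z x y' := fun x y y' => by
    rw [show z x (y + y') = ⁅lf π hπ (e x), lf π hπ (e y) * lf π hπ (e y')⁆ from
      comm_congr π hc rfl (by rw [map_mul, π_lf, π_lf, π_lf, hadd]),
      comm_mul_of_commute (ker_comm π hc (hz x y') _)]
  have hL : ∀ x x' y, z (x + x') y = z x y * z x' y := fun x x' y => by
    rw [show z (x + x') y = ⁅lf π hπ (e x) * lf π hπ (e x'), lf π hπ (e y)⁆ from
      comm_congr π hc (by rw [map_mul, π_lf, π_lf, π_lf, hadd]) rfl,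
      mul_comm_of_commute (ker_comm π hc (hz x' y) _), (ker_comm π hc (hz x y) (z x' y)).eq]
  have hsq : ∀ (s : Kˣ) x y, z ((s : K) * s * x) ((s : K) * s * y) = z x y := fun s x y => by
    obtain ⟨n, hn⟩ := hscale s
    have h := conjugate_commutatorElement (lf π hπ (e x)) (lf π hπ (e y)) (lf π hπ n)
    rw [(ker_comm π hc (hz x y) _).eq, mul_inv_cancel_right] at h
    rw [show z x y = _ from h]
    refine (comm_congr π hc ?_ ?_).symm <;>
      rw [map_mul, map_mul, map_inv, π_lf, π_lf, π_lf, hn]
  obtain ⟨u, v, huv, hne⟩ := Cfsg.Agent.Lie.SLMult.exists_square_pair h5 hnp h9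
  have key : ∀ x y, z x y = 1 := by
    intro x y
    have hu : (u : K) * u ≠ 0 := mul_ne_zero u.ne_zero u.ne_zero
    have hv : (v : K) * v ≠ 0 := mul_ne_zero v.ne_zero v.ne_zero
    have e1 : ∀ y', z x y' = z x (y' / ((u : K) * u * ((v : K) * v))) := by
      intro y'
      have hsum : (u : K) * u + (v : K) * v = 1 := by linear_combination huv
      calc z x y' = z ((u : K) * u * x + (v : K) * v * x) y' := by rw [← add_mul, hsum, one_mul]
        _ = z x (y' / ((u : K) * u)) * z x (y' / ((v : K) * v)) := by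
          rw [hL, ← hsq u x (y' / ((u : K) * u)), ← hsq v x (y' / ((v : K) * v)),
            mul_div_cancel₀ _ hu, mul_div_cancel₀ _ hv]
        _ = _ := by
          rw [← hR]
          congr 1
          field_simp
          linear_combination y' * hsum
    set d := 1 / ((u : K) * u * ((v : K) * v)) - 1
    have hd : d ≠ 0 := by
      simp only [d, ne_eq, sub_eq_zero, one_div, inv_eq_one]
      intro h
      exact hne (by linear_combination h)
    have h := e1 (y / d)
    rw [show y / d / ((u : K) * u * ((v : K) * v)) = y / d + y by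
      have : y / d / ((u : K) * u * ((v : K) * v)) = y / d * (d + 1) := by
        simp only [d]; ring
      rw [this, mul_add, div_mul_cancel₀ y hd, mul_one, add_comm], hR, left_eq_mul] at h
    exact h
  exact commute_congr π hc (by rw [π_lf, ha]) (by rw [π_lf, hb])
    (commutatorElement_eq_one_iff_commute.1 (key x y))

/-- A lift of an element fixed by the torus element commutes with the lifts of a moved root group. -/
theorem fixed_commute {t : E} {e : K → H} {l : K} (hl : l ≠ 1)
    (hadd : ∀ x y, e (x + y) = e x * e y) (ht : ∀ x, π t * e x * (π t)⁻¹ = e (l * x)) {a : E}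
    (hta : Commute (π t) (π a)) (hea : ∀ x, Commute (π a) (e x)) {b : E} {x : K} (hb : π b = e x) :
    Commute a b := by
  let χ : K → E := fun x => ⁅a, lf π hπ (e x)⁆
  have hz : ∀ x, π (χ x) = 1 := fun x => ker_of_commute (by rw [π_lf]; exact hea x)
  have hA : ∀ x y, χ (x + y) = χ x * χ y := fun x y => by
    rw [show χ (x + y) = ⁅a, lf π hπ (e x) * lf π hπ (e y)⁆ from
      comm_congr π hc rfl (by rw [map_mul, π_lf, π_lf, π_lf, hadd]),
      comm_mul_of_commute (ker_comm π hc (hz y) _)]
  have hl' : ∀ x, χ (l * x) = χ x := fun x => by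
    have h := conjugate_commutatorElement a (lf π hπ (e x)) t
    rw [(ker_comm π hc (hz x) _).eq, mul_inv_cancel_right] at h
    rw [show χ x = _ from h]
    refine (comm_congr π hc ?_ ?_).symm
    · rw [map_mul, map_mul, map_inv, hta.eq, mul_inv_cancel_right]
    · rw [map_mul, map_mul, map_inv, π_lf, π_lf, ht]
  have h := hA (x / (l - 1)) x
  rw [show x / (l - 1) + x = l * (x / (l - 1)) by field_simp [sub_ne_zero.2 hl]; ring, hl',
    left_eq_mul] at h
  exact commute_congr π hc (a := a) (b := lf π hπ (e x)) rfl (by rw [π_lf, hb])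
    (commutatorElement_eq_one_iff_commute.1 h)

/-- The canonical lift of a commutative root group is additive. -/
theorem sig_add {t : E} {e : K → H} {l : K} (hl : l ≠ 1)
    (hadd : ∀ x y, e (x + y) = e x * e y) (ht : ∀ x, π t * e x * (π t)⁻¹ = e (l * x))
    (hs : ∀ {a b : E} {x y : K}, π a = e x → π b = e y → Commute a b) (x y : K) :
    sig hπ t e l (x + y) = sig hπ t e l x * sig hπ t e l y := by
  show _ = ⁅t, lf π hπ (e (x / (l - 1)))⁆ * ⁅t, lf π hπ (e (y / (l - 1)))⁆
  rw [← comm_mul_of_commute (hs (π_lf π hπ _) (map_sig hπ hl hadd ht y))]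
  exact comm_congr π hc rfl (by rw [map_mul, π_lf, π_lf, π_lf, add_div, hadd])

omit hπ hc

/-- In a cubic extension the elements of norm one generate the field as a semiring. -/
theorem norm_one_span [Fintype K] (f : K →+* K) {q : ℕ} (hf : ∀ t, f t = t ^ q)
    (hK : Fintype.card K = q ^ 3) (hq : 1 < q) {P : K → Prop} (h1 : P 1)
    (hadd : ∀ a b, P a → P b → P (a + b)) (hmul : ∀ a b, P a → P b → P (a * b))
    (hnorm : ∀ r : Kˣ, (r : K) * f r * f (f r) = 1 → P ((r : K) * r)) (u : K) : P u := by
  classical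
  obtain ⟨p, hp⟩ := CharP.exists K
  have hp0 : p ≠ 0 := by
    rintro rfl
    haveI := CharP.charP_to_charZero K
    exact not_finite K
  have h0 : P 0 := by
    have : ∀ n : ℕ, P ((n + 1 : ℕ) : K) := fun n => by
      induction n with
      | zero => simpa using h1
      | succ n ih => push_cast; exact hadd _ _ (by simpa using ih) h1
    have h := this (p - 1)
    rwa [Nat.sub_add_cancel (Nat.pos_of_ne_zero hp0), CharP.cast_eq_zero] at h
  have hneg : ∀ a, P a → P (-a) := fun a ha => by
    have : ∀ n : ℕ, P ((n : K) * a) := fun n => by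
      induction n with
      | zero => simpa using h0
      | succ n ih => push_cast; rw [add_mul, one_mul]; exact hadd _ _ ih ha
    have h := this (p - 1)
    rwa [Nat.cast_sub (Nat.pos_of_ne_zero hp0), CharP.cast_eq_zero, zero_sub, Nat.cast_one,
      neg_one_mul] at h
  have hinv : ∀ a, P a → P a⁻¹ := fun a ha => by
    have hpow : ∀ n : ℕ, P (a ^ n) := fun n => by
      induction n with
      | zero => simpa using h1
      | succ n ih => rw [pow_succ]; exact hmul _ _ ih ha
    rcases eq_or_ne a 0 with rfl | hne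
    · simpa using h0
    · have e : a⁻¹ = a ^ (Fintype.card K - 2) := by
        refine inv_eq_of_mul_eq_one_right ?_
        rw [← pow_succ', show Fintype.card K - 2 + 1 = Fintype.card K - 1 by
          have := Fintype.one_lt_card (α := K); omega, FiniteField.pow_card_sub_one_eq_one a hne]
      rw [e]; exact hpow _
  set n := q * q + q + 1 with hn
  obtain ⟨k, hk⟩ : ∃ k, n + 1 = 2 * k := ⟨(n + 1) / 2, by
    have : Even (q * q + q) := by rw [show q * q + q = q * (q + 1) by ring]; exact Nat.even_mul_succ_self q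
    obtain ⟨j, hj⟩ := this
    omega⟩
  obtain ⟨g, hg⟩ := IsCyclic.exists_generator (α := Kˣ)
  have hgo : orderOf g = (q - 1) * n := by
    rw [orderOf_eq_card_of_forall_mem_zpowers hg, Nat.card_eq_fintype_card, Fintype.card_units, hK]
    obtain ⟨m, rfl⟩ : ∃ m, q = m + 1 := ⟨q - 1, by omega⟩
    exact Nat.sub_eq_of_eq_add (by simp only [hn, Nat.add_sub_cancel]; ring)
  have hgn : g ^ ((q - 1) * n) = 1 := by rw [← hgo]; exact pow_orderOf_eq_one g
  have hmem : ∀ i : ℕ, P ((g ^ ((q - 1) * i) : Kˣ) : K) := by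
    intro i
    have hN : ((g ^ ((q - 1) * (i * k)) : Kˣ) : K) * f (g ^ ((q - 1) * (i * k)) : Kˣ) *
        f (f (g ^ ((q - 1) * (i * k)) : Kˣ)) = 1 := by
      simp only [hf, ← Units.val_pow_eq_pow_val, ← Units.val_mul, ← pow_mul, ← pow_add]
      rw [show (q - 1) * (i * k) + (q - 1) * (i * k) * q + (q - 1) * (i * k) * q * q =
        (q - 1) * n * (i * k) by rw [hn]; ring, pow_mul, hgn, one_pow, Units.val_one]
    have h := hnorm _ hN
    rwa [← Units.val_mul, ← pow_add,
      show (q - 1) * (i * k) + (q - 1) * (i * k) = (q - 1) * n * i + (q - 1) * i by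
        rw [show (q - 1) * n * i + (q - 1) * i = (q - 1) * i * (n + 1) by ring, hk]; ring,
      pow_add, pow_mul, hgn, one_pow, one_mul] at h
  by_contra hu
  let S := {a : K // P a}
  let φ : Fin n → S := fun i => ⟨_, hmem i⟩
  have hφ : Function.Injective φ := fun i j e => by
    have e1 : g ^ ((q - 1) * (i : ℕ)) = g ^ ((q - 1) * (j : ℕ)) :=
      Units.ext (congrArg Subtype.val e)
    have h2 := pow_injOn_Iio_orderOf (x := g) ?_ ?_ e1
    · exact Fin.ext (Nat.eq_of_mul_eq_mul_left (by omega) h2)
    all_goals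
      rw [Set.mem_Iio, hgo]
      exact Nat.mul_lt_mul_of_pos_left (Fin.is_lt _) (by omega)
  let ψ : S × S → K := fun p => p.1 + p.2 * u
  have hψ : Function.Injective ψ := by
    rintro ⟨⟨a, ha⟩, ⟨b, hb⟩⟩ ⟨⟨a', ha'⟩, ⟨b', hb'⟩⟩ e
    have e' : a + b * u = a' + b' * u := e
    by_cases hbb : b = b'
    · subst hbb
      obtain rfl : a = a' := add_right_cancel e'
      rfl
    · refine absurd ?_ hu
      have hd : b - b' ≠ 0 := sub_ne_zero.2 hbb
      rw [show u = (a' + -a) * (b + -b')⁻¹ by
        rw [← sub_eq_add_neg, ← sub_eq_add_neg, eq_mul_inv_iff_mul_eq₀ hd]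
        linear_combination e']
      exact hmul _ _ (hadd _ _ ha' (hneg _ ha)) (hinv _ (hadd _ _ hb (hneg _ hb')))
  have c1 := Fintype.card_le_of_injective φ hφ
  have c2 := Fintype.card_le_of_injective ψ hψ
  rw [Fintype.card_fin] at c1
  rw [Fintype.card_prod, hK] at c2
  nlinarith [Nat.mul_le_mul c1 c1]

end Cfsg.Agent.Classical.Triality
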