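import Cfsg.Agent.Lib.Classical.TrialityPPart
import Cfsg.Agent.Lib.Classical.TrialityCoprime

/-!
The Schur multiplier of ³D₄(q) is trivial.
-/

set_option autoImplicit false
set_option linter.unusedSectionVars false
set_option linter.unusedSimpArgs false

namespace Cfsg.Agent.Classical.Triality

open Cfsg.Lie Cfsg.Agent.Lie.Chev
open Cfsg.Agent.Classical.UnitMult (Coprime IsPElem mem_derived_of_transfer comm_congr)

variable {K : Type*} [Field K] [Fintype K] (f : K →+* K) {q : ℕ} (hf : ∀ t, f t = t ^ q)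
  (hK : Fintype.card K = q ^ 3) {p : ℕ} [Fact p.Prime] [CharP K p]

include hf hK

local notation "Z" => D4.datum f hf hK
local notation "NN" => D4.nodes f hf hK

theorem not_dvd_index : ¬ p ∣ (subU f hf hK).index := by
  have hp : p.Prime := Fact.out
  have h := (subU f hf hK).card_mul_index
  rw [card_subU, show Nat.card ↥(Z).G₁ = _ from D4.card_group f hf hK] at h
  simp only [mul_assoc] at h
  have hq := D4.one_lt_q f hf hK
  rw [Nat.eq_of_mul_eq_mul_left (pow_pos (by omega) 12) h]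
  obtain ⟨j, hj⟩ := q_eq f hf hK (p := p)
  have hpq : p ∣ q := by
    rw [hj]
    refine dvd_pow_self p fun e => ?_
    rw [e, pow_zero] at hj
    omega
  have hk : ∀ k, 1 ≤ k → p ∣ q ^ k := fun k hk => dvd_pow hpq (by omega)
  have hsub : ∀ k, 1 ≤ k → ¬ p ∣ q ^ k - 1 := fun k hk1 h1 => by
    have := Nat.dvd_sub (hk k hk1) h1
    have h0 : 1 ≤ q ^ k := Nat.one_le_pow _ _ (by omega)
    rw [show q ^ k - (q ^ k - 1) = 1 by omega] at this
    exact hp.not_dvd_one this
  have hlast : ¬ p ∣ q ^ 8 + q ^ 4 + 1 := fun h1 =>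
    hp.not_dvd_one ((Nat.dvd_add_right (dvd_add (hk 8 (by omega)) (hk 4 (by omega)))).1 h1)
  intro hd
  rcases hp.dvd_mul.1 hd with h1 | h1
  · exact hsub 2 (by omega) h1
  rcases hp.dvd_mul.1 h1 with h1 | h1
  exacts [hsub 6 (by omega) h1, hlast h1]

theorem closure_pElem : Subgroup.closure {g : ↥(Z).G₁ | IsPElem p g} = ⊤ := by
  rw [eq_top_iff]
  rintro ⟨g, hG⟩ -
  have key : ∀ x ∈ Subgroup.closure {g | ∃ i, ∃ t ∈ (NN).L i,
      g = Twist.upProd certFullD4 (NN).E ((NN).J i) t ∨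
        g = Twist.loProd certFullD4 (NN).E ((NN).J i) t},
      ∃ hx : x ∈ (Z).G₁, (⟨x, hx⟩ : ↥(Z).G₁) ∈ Subgroup.closure {g : ↥(Z).G₁ | IsPElem p g} := by
    intro x hx
    induction hx using Subgroup.closure_induction with
    | mem y hy =>
      obtain ⟨i, t, ht, rfl | rfl⟩ := hy
      · refine ⟨(NN).upG_coe i ⟨t, ht⟩ ▸ ((NN).upG i ⟨t, ht⟩).2, Subgroup.subset_closure ?_⟩
        show IsPElem p _
        convert (upG_pElem f hf hK (p := p) i ⟨t, ht⟩).1 using 1
        exact Subtype.ext ((NN).upG_coe i ⟨t, ht⟩).symm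
      · refine ⟨(NN).loG_coe i ⟨t, ht⟩ ▸ ((NN).loG i ⟨t, ht⟩).2, Subgroup.subset_closure ?_⟩
        show IsPElem p _
        convert (upG_pElem f hf hK (p := p) i ⟨t, ht⟩).2 using 1
        exact Subtype.ext ((NN).loG_coe i ⟨t, ht⟩).symm
    | one => exact ⟨one_mem _, one_mem _⟩
    | mul a b _ _ ha hb =>
      obtain ⟨ha1, ha2⟩ := ha
      obtain ⟨hb1, hb2⟩ := hb
      exact ⟨mul_mem ha1 hb1, mul_mem ha2 hb2⟩
    | inv a _ ha =>
      obtain ⟨ha1, ha2⟩ := ha
      exact ⟨inv_mem ha1, inv_mem ha2⟩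
  exact (key g ((NN).gens hG)).2

variable {E : Type*} [Group E] [Finite E] {π : E →* ↥(D4.datum f hf hK).G₁}

/-- A stem extension has trivial kernel. -/
theorem stem_ker_eq_bot (hπ : Function.Surjective π) (hc : π.ker ≤ Subgroup.center E)
    (hstem : π.ker ≤ commutator E) : π.ker = ⊥ := by
  obtain ⟨p, hchar⟩ := CharP.exists K
  haveI := hchar
  haveI : Fact p.Prime := ⟨CharP.char_is_prime K p⟩
  have hp : p.Prime := Fact.out
  obtain ⟨S⟩ := exists_setup f hf hK π hπ hc
  have hcop : (Nat.card π.ker).Coprime p := by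
    refine Nat.Coprime.symm (hp.coprime_iff_not_dvd.2 fun hdvd => ?_)
    obtain ⟨⟨z, hz⟩, hzo⟩ := exists_prime_orderOf_dvd_card' p hdvd
    have ho : orderOf z = p := by rw [← hzo]; exact Subgroup.orderOf_coe (⟨z, hz⟩ : π.ker)
    have hzY : z ∈ (subU f hf hK).comap π := by
      show π z ∈ subU f hf hK
      rw [show π z = 1 from hz]; exact one_mem _
    have h1 := mem_derived_of_transfer ((subU f hf hK).comap π) (hc hz) hzY (hstem hz) (by
      rw [ho, Subgroup.index_comap_of_surjective _ hπ]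
      exact hp.coprime_iff_not_dvd.2 (not_dvd_index f hf hK))
    rw [ker_derived f hf hK S hz h1, orderOf_one] at ho
    exact hp.one_lt.ne ho
  have C : Coprime p π := ⟨hπ, hc, hcop⟩
  refine coprime_ker_eq_bot f hf hK C ?_
  set E₀ := Subgroup.closure {g : E | IsPElem p g}
  have hmap : E₀.map π = ⊤ := by
    rw [eq_top_iff, ← closure_pElem f hf hK (p := p), Subgroup.closure_le]
    intro g hg
    exact ⟨C.sp g, Subgroup.subset_closure (C.sp_pElem hg), C.π_sp g⟩
  have hle : commutator E ≤ E₀ := by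
    rw [commutator_def, Subgroup.commutator_le]
    intro a _ b _
    obtain ⟨s, hs, hπs⟩ := (hmap.ge (Subgroup.mem_top (π a)) : π a ∈ E₀.map π)
    obtain ⟨t, ht, hπt⟩ := (hmap.ge (Subgroup.mem_top (π b)) : π b ∈ E₀.map π)
    rw [← comm_congr π hc hπs hπt, commutatorElement_def]
    exact mul_mem (mul_mem (mul_mem hs ht) (inv_mem hs)) (inv_mem ht)
  refine eq_top_iff.2 fun a _ => ?_
  obtain ⟨s, hs, hπs⟩ := (hmap.ge (Subgroup.mem_top (π a)) : π a ∈ E₀.map π)
  rw [show a = s * (s⁻¹ * a) by group]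
  refine mul_mem hs (hle (hstem ?_))
  rw [MonoidHom.mem_ker, map_mul, map_inv, hπs, inv_mul_cancel]

end Cfsg.Agent.Classical.Triality
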