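import Cfsg.Agent.Lib.Classical.TrialitySigma

/-!
In a central extension of ³D₄(q) the preimage of the maximal unipotent subgroup has derived group
meeting the kernel trivially, for every prime power `q`.
-/

set_option autoImplicit false
set_option linter.unusedSectionVars false
set_option linter.unusedSimpArgs false
set_option maxRecDepth 8000

namespace Cfsg.Agent.Classical.Triality

open Cfsg.Lie Cfsg.Agent.Lie.Chev
open scoped commutatorElement
open Cfsg.Agent.Classical.UnitMult (ker_comm comm_congr commute_congr lf π_lf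
  commutator_le_of_gens)

variable {K : Type*} [Field K] [Fintype K] (f : K →+* K) {q : ℕ} (hf : ∀ t, f t = t ^ q)
  (hK : Fintype.card K = q ^ 3)

include hf hK

theorem exists_moved : ∃ x : K, f (f x) ≠ f x := by
  by_contra h
  push Not at h
  have hall : ∀ x : K, f x = x := fun x => f.injective (h x)
  have hq := D4.one_lt_q f hf hK
  have hc := D4.card_fixField f hf hK
  rw [show RingHom.eqLocusField f (RingHom.id K) = ⊤ from eq_top_iff.2 fun x _ => hall x,
    Nat.card_congr (Subfield.topEquiv (K := K)).toEquiv, Nat.card_eq_fintype_card, hK] at hc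
  exact (lt_self_pow₀ hq (by omega)).ne' hc

/-- A biadditive map invariant under one scalar on the right, or under all scalars on both sides. -/
theorem pairing_trivial {A : Type*} [Group A] (z : K → K → A)
    (hL : ∀ x x' y, z (x + x') y = z x y * z x' y) (hR : ∀ x y y', z x (y + y') = z x y * z x y')
    (h : (∃ l : K, l ≠ 1 ∧ ∀ x y, z x (l * y) = z x y) ∨
      (q = 2 ∧ ∀ l x y, l ≠ 0 → z (l * x) (l * y) = z x y)) (x y : K) : z x y = 1 := by
  rcases h with ⟨l, hl, hinv⟩ | ⟨hq, hinv⟩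
  · have h := hR x (y / (l - 1)) y
    rw [show y / (l - 1) + y = l * (y / (l - 1)) by field_simp [sub_ne_zero.2 hl]; ring, hinv,
      left_eq_mul] at h
    exact h
  subst hq
  obtain ⟨a, ha, ha'⟩ : ∃ a : K, a ≠ 0 ∧ a ≠ 1 := by
    by_contra hall
    push Not at hall
    classical
    have h2 : (Finset.univ : Finset K) ⊆ {0, 1} := fun u _ => by
      by_cases hu : u = 0
      · simp [hu]
      · simp [hall u hu]
    have := (Finset.card_le_card h2).trans Finset.card_le_two
    rw [Finset.card_univ, hK] at this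
    omega
  have hh : ∀ x y, x ≠ 0 → z x y = z 1 (y / x) := fun x y hx => by
    have := hinv x 1 (y / x) hx
    rwa [mul_one, mul_div_cancel₀ y hx] at this
  haveI : CharP K 2 := by
    obtain ⟨p, hp⟩ := CharP.exists K
    haveI := hp
    obtain ⟨n, hp', hc⟩ := FiniteField.card K p
    rw [hK] at hc
    have : p ∣ 2 ^ 3 := hc ▸ dvd_pow_self p n.2.ne'
    rwa [(Nat.prime_dvd_prime_iff_eq hp' Nat.prime_two).1 (hp'.dvd_of_dvd_pow this)] at hp
  have ha1 : 1 + a ≠ 0 := fun e => ha' (by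
    rw [← CharTwo.neg_eq (R := K) 1]; linear_combination e)
  have hcube : a * a + a + 1 ≠ 0 := fun e => by
    have h3 : a ^ 3 = 1 := by linear_combination (a - 1) * e
    have h7 : a ^ 7 = 1 := by
      have := FiniteField.pow_card_sub_one_eq_one a ha
      rwa [hK] at this
    exact ha' (by rw [← h7, show a ^ 7 = (a ^ 3) ^ 2 * a by ring, h3, one_pow, one_mul])
  have key : ∀ u, z 1 u = 1 := fun u => by
    have hA : ∀ c d, z 1 (c + d) = z 1 c * z 1 d := hR 1
    set c := 1 / (1 + a) - 1 - 1 / a with hc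
    have hc0 : c ≠ 0 := by
      rw [hc, show 1 / (1 + a) - 1 - 1 / a = -(a * a + a + 1) / (a * (1 + a)) by field_simp; ring]
      exact div_ne_zero (neg_ne_zero.2 hcube) (mul_ne_zero ha ha1)
    have h := hL 1 a (u / c)
    rw [hh _ _ ha1, hh a _ ha, ← hA] at h
    have h' := hA (u / c + u / c / a) u
    rw [show u / c + u / c / a + u = u / c / (1 + a) by
      have e : u / c / (1 + a) - u / c - u / c / a = u / c * c := by rw [hc]; ring
      rw [div_mul_cancel₀ u hc0] at e
      linear_combination -e, h, left_eq_mul] at h'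
    exact h'
  rcases eq_or_ne x 0 with rfl | hx
  · simpa using hL 0 0 y
  · rw [hh x y hx, key]

local notation "Z" => D4.datum f hf hK

variable {E : Type*} [Group E] {π : E →* ↥(D4.datum f hf hK).G₁} (S : Setup f hf hK π)

/-- The short commutators. -/
noncomputable def Setup.F (x y : K) : E := ⁅S.sA f hf hK x, S.sB f hf hK y⁆

theorem Setup.F_split (x y : K) : ∃ L, IsLong f hf hK L (π := π) ∧
    S.F f hf hK x y = S.sC f hf hK (x * f (f y) + f (f x) * y) * L := by
  obtain ⟨u, v, e⟩ := comm_AB f hf hK x y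
  refine ⟨(S.sC f hf hK (x * f (f y) + f (f x) * y))⁻¹ * S.F f hf hK x y, ⟨u, v, ?_⟩,
    (mul_inv_cancel_left _ _).symm⟩
  rw [map_mul, map_inv, S.map_sC, Setup.F, map_commutatorElement, S.map_sA, S.map_sB, e,
    mul_assoc (hC f hf hK _), inv_mul_cancel_left]

theorem Setup.hall (x x' y : K) :
    S.B f hf hK x (x' * f (f y) + f (f x') * y) = S.B f hf hK x' (x * f (f y) + f (f x) * y) := by
  obtain ⟨L, hL, eL⟩ := S.F_split f hf hK x' y
  obtain ⟨M, hM, eM⟩ := S.F_split f hf hK x y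
  set a := S.sA f hf hK x
  set a' := S.sA f hf hK x'
  set b := S.sB f hf hK y
  set c := S.F f hf hK x' y with hc
  set d := S.F f hf hK x y with hd
  have haa : Commute a a' := commA f hf hK S (S.map_sA f hf hK x) (S.map_sA f hf hK x')
  have hcd : Commute c d := by
    rw [eL, eM]
    have hCC := commC f hf hK S (S.map_sC f hf hK (x' * f (f y) + f (f x') * y))
      (S.map_sC f hf hK (x * f (f y) + f (f x) * y))
    exact (hCC.mul_right (long_short f hf hK S hM
      (Or.inr (Or.inr (S.map_sC f hf hK _)))).symm).mul_left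
      ((long_short f hf hK S hL (Or.inr (Or.inr (S.map_sC f hf hK _)))).mul_right
        (long_long f hf hK S hL hM))
  have e1 : a * a' * b * (a * a')⁻¹ = ⁅a, c⁆ * c * d * b := by
    show _ = ⁅a, ⁅a', b⁆⁆ * ⁅a', b⁆ * ⁅a, b⁆ * b
    simp only [commutatorElement_def]; group
  have e2 : a' * a * b * (a' * a)⁻¹ = ⁅a', d⁆ * d * c * b := by
    show _ = ⁅a', ⁅a, b⁆⁆ * ⁅a, b⁆ * ⁅a', b⁆ * b
    simp only [commutatorElement_def]; group
  rw [← haa.eq, e1, mul_assoc _ c d, mul_assoc _ d c, hcd.eq] at e2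
  have e3 := mul_right_cancel (mul_right_cancel e2)
  have hac : ∀ {L : E}, IsLong f hf hK L (π := π) → ∀ x w : K,
      ⁅S.sA f hf hK x, S.sC f hf hK w * L⁆ = S.B f hf hK x w := fun {L} hL x w => by
    have h := long_short f hf hK S hL (Or.inl (S.map_sA f hf hK x))
    rw [comm_mul_of_commute (by
      rw [commutatorElement_eq_one_iff_commute.2 h.symm]; exact Commute.one_right _),
      commutatorElement_eq_one_iff_commute.2 h.symm, mul_one]
    rfl
  rw [eL, eM, hac hL, hac hM] at e3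
  exact e3

theorem Setup.g_frob (v : K) : S.g f hf hK (f v) = S.g f hf hK v := by
  have hg2 : ∀ v, S.g f hf hK (f (f v)) = S.g f hf hK v := by
    intro v
    obtain ⟨x, hx⟩ := exists_moved f hf hK
    set y := v / (f (f x) - f x)
    have h := S.hall f hf hK x 1 y
    rw [S.B_eq, S.B_eq] at h
    simp only [map_one, one_mul] at h
    rw [mul_add, S.g_add, S.g_add, show f x * f (f y) = f (f (f (f x) * y)) by
        simp only [map_mul, f3 f hf hK],
      show x * f (f y) = f (f (f x * y)) by simp only [map_mul, f3 f hf hK]] at h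
    set a := f (f x) * y
    set b := f x * y
    have hv : v = a - b := by
      rw [← sub_mul]; exact (mul_div_cancel₀ v (sub_ne_zero.2 hx)).symm
    have hl : ∀ c, IsLong f hf hK (S.g f hf hK c) (π := π) := fun c => S.B_long f hf hK 1 c
    have e1 : S.g f hf hK (f (f a)) = S.g f hf hK (f (f v)) * S.g f hf hK (f (f b)) := by
      rw [← S.g_add, ← map_add, ← map_add, hv, sub_add_cancel]
    have e2 : S.g f hf hK a = S.g f hf hK v * S.g f hf hK b := by
      rw [← S.g_add, hv, sub_add_cancel]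
    rw [e1, e2, (long_long f hf hK S (hl v) (hl b)).eq, ← mul_assoc (S.g f hf hK (f (f b))),
      (long_long f hf hK S (hl (f (f v))) (hl (f (f b)))).eq, mul_assoc, mul_assoc,
      mul_right_inj, (long_long f hf hK S (hl b) (hl v)).eq] at h
    exact mul_right_cancel h
  rw [← hg2 (f v), f3 f hf hK]

/-- The lift of the second long root group. -/
noncomputable def Setup.th1 (c : L0 f) : E := S.g f hf hK (S.a₀ * (c : K))

/-- The lift of the highest root group. -/
noncomputable def Setup.th2 (c : L0 f) : E :=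
  S.nb f hf hK * S.th1 f hf hK c * (S.nb f hf hK)⁻¹

theorem Setup.g_eq_th1 (u : K) : S.g f hf hK u = S.th1 f hf hK (trL f hf hK u) := by
  rw [Setup.th1]
  show _ = S.g f hf hK (S.a₀ * tr f u)
  rw [show S.a₀ * tr f u = S.a₀ * u + S.a₀ * f u + S.a₀ * f (f u) by rw [tr]; ring, S.g_add,
    S.g_add, ← S.g_frob f hf hK (S.a₀ * f (f u)), map_mul, f3 f hf hK,
    ← S.g_frob f hf hK (S.a₀ * f u), map_mul, ← S.g_frob f hf hK (f S.a₀ * f (f u)), map_mul,
    f3 f hf hK, ← S.g_add, ← S.g_add]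
  have := S.tr_a₀
  rw [tr] at this
  congr 1
  linear_combination (-u) * this

theorem Setup.B_th1 (x w : K) :
    S.B f hf hK x w = S.th1 f hf hK (trL f hf hK (x * f (f w))) := by
  rw [S.B_eq, ← S.g_eq_th1, ← S.g_frob f hf hK (x * f (f w)), map_mul, f3 f hf hK]

theorem trL_a₀ (c : L0 f) : trL f hf hK (f (f (S.a₀ * (c : K)))) = c := by
  refine Subtype.ext ?_
  show tr f (f (f (S.a₀ * (c : K)))) = c
  have hc : f (c : K) = c := c.2
  have := S.tr_a₀
  rw [tr] at this ⊢
  simp only [map_mul, f3 f hf hK, hc]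
  linear_combination (c : K) * this

theorem Setup.map_th1 (c : L0 f) : π (S.th1 f hf hK c) = h1 f hf hK c := by
  rw [Setup.th1, Setup.g, S.map_B, one_mul, trL_a₀]

theorem Setup.map_th2 (c : L0 f) : π (S.th2 f hf hK c) = h2 f hf hK c := by
  rw [Setup.th2, map_mul, map_mul, map_inv, S.map_nb, S.map_th1]; rfl

theorem Setup.th_long (c : L0 f) :
    IsLong f hf hK (S.th1 f hf hK c) (π := π) ∧ IsLong f hf hK (S.th2 f hf hK c) (π := π) :=
  ⟨⟨c, 0, by rw [S.map_th1, (h_zero f hf hK).2.2.2.2.2, mul_one]⟩,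
    ⟨0, c, by rw [S.map_th2, (h_zero f hf hK).2.2.2.2.1, one_mul]⟩⟩

theorem Setup.th1_add (c d : L0 f) :
    S.th1 f hf hK (c + d) = S.th1 f hf hK c * S.th1 f hf hK d := by
  rw [Setup.th1, Setup.th1, Setup.th1, ← S.g_add, ← mul_add]; rfl

theorem Setup.th2_add (c d : L0 f) :
    S.th2 f hf hK (c + d) = S.th2 f hf hK c * S.th2 f hf hK d := by
  rw [Setup.th2, Setup.th2, Setup.th2, S.th1_add]; group

theorem Setup.BC_th2 (y w : K) :
    ⁅S.sB f hf hK y, S.sC f hf hK w⁆ = S.th2 f hf hK (trL f hf hK (y * f (f w))) := by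
  rw [Setup.th2, ← S.B_th1, Setup.B, conjugate_commutatorElement, (S.nb_conj f hf hK y).1,
    (S.nb_conj f hf hK w).2]

/-- The lift of the part centralised by the first two short root groups up to long elements. -/
noncomputable def Setup.S0 : Subgroup E where
  carrier := {g | ∃ w u v, g = S.sC f hf hK w * S.th1 f hf hK u * S.th2 f hf hK v}
  one_mem' := ⟨0, 0, 0, by
    rw [add_map_zero (S.sC f hf hK) (S.sC_add f hf hK)]
    have h1 := S.th1_add f hf hK 0 0
    have h2 := S.th2_add f hf hK 0 0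
    rw [add_zero, left_eq_mul] at h1 h2
    rw [h1, h2, mul_one, mul_one]⟩
  mul_mem' := by
    rintro _ _ ⟨w, u, v, rfl⟩ ⟨w', u', v', rfl⟩
    refine ⟨w + w', u + u', v + v', ?_⟩
    have hC := S.map_sC f hf hK w'
    have k1 := long_short f hf hK S (S.th_long f hf hK u).1 (Or.inr (Or.inr hC))
    have k2 := long_short f hf hK S (S.th_long f hf hK v).2 (Or.inr (Or.inr hC))
    have k3 := long_long f hf hK S (S.th_long f hf hK v).2 (S.th_long f hf hK u').1
    rw [S.sC_add, S.th1_add, S.th2_add]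
    calc S.sC f hf hK w * S.th1 f hf hK u * S.th2 f hf hK v *
          (S.sC f hf hK w' * S.th1 f hf hK u' * S.th2 f hf hK v')
        = S.sC f hf hK w * (S.th1 f hf hK u * (S.th2 f hf hK v * S.sC f hf hK w')) *
            S.th1 f hf hK u' * S.th2 f hf hK v' := by group
      _ = S.sC f hf hK w * S.sC f hf hK w' * (S.th1 f hf hK u *
            (S.th2 f hf hK v * S.th1 f hf hK u')) * S.th2 f hf hK v' := by
          rw [k2.eq, ← mul_assoc (S.th1 f hf hK u), k1.eq]; group
      _ = _ := by rw [k3.eq]; group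
  inv_mem' := by
    rintro _ ⟨w, u, v, rfl⟩
    refine ⟨-w, -u, -v, ?_⟩
    have n1 : S.th1 f hf hK (-u) = (S.th1 f hf hK u)⁻¹ := by
      refine eq_inv_of_mul_eq_one_left ?_
      have h1 := S.th1_add f hf hK 0 0
      rw [add_zero, left_eq_mul] at h1
      rw [← S.th1_add, neg_add_cancel, h1]
    have n2 : S.th2 f hf hK (-v) = (S.th2 f hf hK v)⁻¹ := by
      refine eq_inv_of_mul_eq_one_left ?_
      have h1 := S.th2_add f hf hK 0 0
      rw [add_zero, left_eq_mul] at h1
      rw [← S.th2_add, neg_add_cancel, h1]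
    have hC := S.map_sC f hf hK w
    have k1 := long_short f hf hK S (S.th_long f hf hK u).1 (Or.inr (Or.inr hC))
    have k2 := long_short f hf hK S (S.th_long f hf hK v).2 (Or.inr (Or.inr hC))
    have k3 := long_long f hf hK S (S.th_long f hf hK v).2 (S.th_long f hf hK u).1
    rw [add_map_neg (S.sC f hf hK) (S.sC_add f hf hK), n1, n2, _root_.mul_inv_rev,
      _root_.mul_inv_rev, ← mul_assoc, k3.inv_inv.eq, mul_assoc, k2.inv_inv.eq, ← mul_assoc,
      k1.inv_inv.eq]

theorem Setup.th_mem_S0 :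
    (∀ w, S.sC f hf hK w ∈ S.S0 f hf hK) ∧ (∀ u, S.th1 f hf hK u ∈ S.S0 f hf hK) ∧
      ∀ v, S.th2 f hf hK v ∈ S.S0 f hf hK := by
  have h0 := add_map_zero (S.sC f hf hK) (S.sC_add f hf hK)
  have h1 := S.th1_add f hf hK 0 0
  have h2 := S.th2_add f hf hK 0 0
  rw [add_zero, left_eq_mul] at h1 h2
  exact ⟨fun w => ⟨w, 0, 0, by rw [h1, h2, mul_one, mul_one]⟩,
    fun u => ⟨0, u, 0, by rw [h0, h2, one_mul, mul_one]⟩,
    fun v => ⟨0, 0, v, by rw [h0, h1, one_mul, one_mul]⟩⟩

theorem Setup.S0_ker {s : E} (hs : s ∈ S.S0 f hf hK) (h : π s = 1) : s = 1 := by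
  obtain ⟨w, u, v, rfl⟩ := hs
  obtain ⟨zA, zB, zC, zb, z1, z2⟩ := h_zero f hf hK
  rw [map_mul, map_mul, S.map_sC, S.map_th1, S.map_th2] at h
  obtain ⟨-, -, -, rfl, rfl, rfl⟩ :=
    uprod_inj f hf hK (x := 0) (b := 0) (y := 0) (w := w) (u := u) (v := v) (x' := 0) (b' := 0)
      (y' := 0) (w' := 0) (u' := 0) (v' := 0) (by
        simp only [uprod, zA, zB, zb, zC, z1, z2, one_mul]; rw [← mul_assoc, h])
  have h1 := S.th1_add f hf hK 0 0
  have h2 := S.th2_add f hf hK 0 0
  rw [add_zero, left_eq_mul] at h1 h2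
  rw [add_map_zero (S.sC f hf hK) (S.sC_add f hf hK), h1, h2, mul_one, mul_one]

/-- Moving the middle part past the first two short root groups. -/
theorem Setup.comm_S0 (x : K) {e : E} (he : e ∈ S.S0 f hf hK) :
    ⁅S.sA f hf hK x, e⁆ ∈ S.S0 f hf hK ∧ ⁅S.sB f hf hK x, e⁆ ∈ S.S0 f hf hK := by
  obtain ⟨w, u, v, rfl⟩ := he
  obtain ⟨-, t1, t2⟩ := S.th_mem_S0 f hf hK
  have key : ∀ a, (∀ {L}, IsLong f hf hK L (π := π) → Commute a L) →
      ⁅a, S.sC f hf hK w * S.th1 f hf hK u * S.th2 f hf hK v⁆ = ⁅a, S.sC f hf hK w⁆ := by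
    intro a ha
    have e1 := commutatorElement_eq_one_iff_commute.2 (ha (S.th_long f hf hK u).1)
    have e2 := commutatorElement_eq_one_iff_commute.2 (ha (S.th_long f hf hK v).2)
    rw [comm_mul_of_commute (by rw [e2]; exact Commute.one_right _), e2, mul_one,
      comm_mul_of_commute (by rw [e1]; exact Commute.one_right _), e1, mul_one]
  refine ⟨?_, ?_⟩
  · rw [key _ fun hL => (long_short f hf hK S hL (Or.inl (S.map_sA f hf hK x))).symm]
    show S.B f hf hK x w ∈ _
    rw [S.B_th1]; exact t1 _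
  · rw [key _ fun hL => (long_short f hf hK S hL (Or.inr (Or.inl (S.map_sB f hf hK x)))).symm,
      S.BC_th2]
    exact t2 _

/-- Torus elements stabilise the middle part. -/
theorem Setup.tor_S0 {r : E} (hr : IsTor f hf hK (π r)) {e : E} (he : e ∈ S.S0 f hf hK) :
    r * e * r⁻¹ ∈ S.S0 f hf hK := by
  obtain ⟨tC, t1, t2⟩ := S.th_mem_S0 f hf hK
  have h1 : ∀ {r : E}, IsTor f hf hK (π r) → ∀ u,
      ∃ u', r * S.th1 f hf hK u * r⁻¹ = S.th1 f hf hK u' := by
    intro r hr u
    obtain ⟨s, t, ht, e⟩ := hr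
    obtain ⟨eA, -, -⟩ := S.tor_conj f hf hK ht e 1
    obtain ⟨-, -, eC⟩ := S.tor_conj f hf hK ht e (S.a₀ * (u : K))
    refine ⟨trL f hf hK ((s : K) * s / t * 1 *
      f (f ((s : K) * f (f s) / f s * (S.a₀ * (u : K))))), ?_⟩
    rw [Setup.th1, Setup.g, Setup.B, conjugate_commutatorElement, eA, eC, ← S.B_th1]
    rfl
  obtain ⟨w, u, v, rfl⟩ := he
  rw [show r * (S.sC f hf hK w * S.th1 f hf hK u * S.th2 f hf hK v) * r⁻¹ =
    r * S.sC f hf hK w * r⁻¹ * (r * S.th1 f hf hK u * r⁻¹) * (r * S.th2 f hf hK v * r⁻¹) by group]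
  obtain ⟨u', eu⟩ := h1 hr u
  obtain ⟨v', ev⟩ := h1 (r := (S.nb f hf hK)⁻¹ * r * S.nb f hf hK) (by
    rw [map_mul, map_mul, map_inv, S.map_nb]; exact isTor_conj f hf hK hr) v
  have ev' : r * S.th2 f hf hK v * r⁻¹ = S.th2 f hf hK v' := by
    rw [Setup.th2, Setup.th2, ← ev]; group
  obtain ⟨s, t, ht, e⟩ := hr
  rw [eu, ev', (S.tor_conj f hf hK ht e w).2.2]
  exact mul_mem (mul_mem (tC _) (t1 _)) (t2 _)

theorem Setup.F_mem (x y : K) : S.F f hf hK x y ∈ S.S0 f hf hK := by
  obtain ⟨tC, t1, t2⟩ := S.th_mem_S0 f hf hK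
  have hex : ∀ x y, ∃ z, π z = 1 ∧ S.F f hf hK x y * z⁻¹ ∈ S.S0 f hf hK := fun x y => by
    obtain ⟨L, ⟨u, v, hL⟩, e⟩ := S.F_split f hf hK x y
    refine ⟨(S.th1 f hf hK u * S.th2 f hf hK v)⁻¹ * L, by
      rw [map_mul, map_inv, map_mul, S.map_th1, S.map_th2, hL, inv_mul_cancel], ?_⟩
    rw [e, _root_.mul_inv_rev, inv_inv, mul_assoc, mul_inv_cancel_left]
    exact mul_mem (tC _) (mul_mem (t1 _) (t2 _))
  choose z hz1 hz using hex
  have huniq : ∀ x y w, π w = 1 → S.F f hf hK x y * w⁻¹ ∈ S.S0 f hf hK → z x y = w := by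
    intro x y w hw h
    have h2 := S.S0_ker f hf hK (mul_mem (inv_mem (hz x y)) h) (by
      rw [map_mul, map_inv, map_mul, map_mul, map_inv, map_inv, hz1, hw, inv_one, mul_one,
        inv_mul_cancel])
    rw [inv_mul_eq_one, mul_right_inj, inv_inj] at h2
    exact h2
  have hcen : ∀ x y (e : E), Commute e (z x y) := fun x y e => ker_comm π S.cen (hz1 x y) e
  have hL : ∀ x x' y, z (x + x') y = z x y * z x' y := by
    intro x x' y
    refine huniq _ _ _ (by rw [map_mul, hz1, hz1, mul_one]) ?_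
    set s' := S.F f hf hK x' y * (z x' y)⁻¹ with hs'
    have hF' : S.F f hf hK x' y = s' * z x' y := by rw [hs', inv_mul_cancel_right]
    have e : S.F f hf hK (x + x') y =
        ⁅S.sA f hf hK x, s'⁆ * s' * z x' y * S.F f hf hK x y := by
      rw [Setup.F, S.sA_add,
        show ⁅S.sA f hf hK x * S.sA f hf hK x', S.sB f hf hK y⁆ =
          ⁅S.sA f hf hK x, ⁅S.sA f hf hK x', S.sB f hf hK y⁆⁆ *
            ⁅S.sA f hf hK x', S.sB f hf hK y⁆ * ⁅S.sA f hf hK x, S.sB f hf hK y⁆ by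
          simp only [commutatorElement_def]; group]
      rw [show ⁅S.sA f hf hK x', S.sB f hf hK y⁆ = s' * z x' y from hF',
        comm_mul_of_commute (by
          rw [commutatorElement_eq_one_iff_commute.2 (hcen x' y _)]; exact Commute.one_right _),
        commutatorElement_eq_one_iff_commute.2 (hcen x' y _), mul_one, ← mul_assoc]
      rfl
    rw [e, show ⁅S.sA f hf hK x, s'⁆ * s' * z x' y * S.F f hf hK x y * (z x y * z x' y)⁻¹ =
        ⁅S.sA f hf hK x, s'⁆ * s' * (z x' y * S.F f hf hK x y) * (z x' y)⁻¹ * (z x y)⁻¹ by group,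
      ← (hcen x' y _).eq, ← mul_assoc, mul_inv_cancel_right, mul_assoc _ (S.F f hf hK x y)]
    exact mul_mem (mul_mem ((S.comm_S0 f hf hK x (hz x' y)).1) (hz x' y)) (hz x y)
  have hR : ∀ x y y', z x (y + y') = z x y * z x y' := by
    intro x y y'
    refine huniq _ _ _ (by rw [map_mul, hz1, hz1, mul_one]) ?_
    set s' := S.F f hf hK x y' * (z x y')⁻¹ with hs'
    have hF' : S.F f hf hK x y' = s' * z x y' := by rw [hs', inv_mul_cancel_right]
    have e : S.F f hf hK x (y + y') =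
        S.F f hf hK x y * (⁅S.sB f hf hK y, s'⁆ * s') * z x y' := by
      rw [Setup.F, S.sB_add,
        show ⁅S.sA f hf hK x, S.sB f hf hK y * S.sB f hf hK y'⁆ =
          ⁅S.sA f hf hK x, S.sB f hf hK y⁆ *
            (⁅S.sB f hf hK y, ⁅S.sA f hf hK x, S.sB f hf hK y'⁆⁆ *
              ⁅S.sA f hf hK x, S.sB f hf hK y'⁆) by
          simp only [commutatorElement_def]; group]
      rw [show ⁅S.sA f hf hK x, S.sB f hf hK y'⁆ = s' * z x y' from hF',
        comm_mul_of_commute (by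
          rw [commutatorElement_eq_one_iff_commute.2 (hcen x y' _)]; exact Commute.one_right _),
        commutatorElement_eq_one_iff_commute.2 (hcen x y' _), mul_one]
      simp only [Setup.F, mul_assoc]
    rw [e, _root_.mul_inv_rev, ← mul_assoc, mul_inv_cancel_right, mul_assoc _ _ (z x y)⁻¹,
      ← (hcen x y _).inv_right.eq.symm, ← mul_assoc]
    exact mul_mem (hz x y) (mul_mem ((S.comm_S0 f hf hK y (hz x y')).2) (hz x y'))
  have hinv : ∀ (s t : Kˣ) (ht : f (t : K) = t) (x y : K),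
      z ((s : K) * s / t * x) ((s : K) * t / (f s * f (f s)) * y) = z x y := by
    intro s t ht x y
    obtain ⟨r, hr⟩ := S.surj (tH f hf hK s t ht)
    refine huniq _ _ _ (hz1 x y) ?_
    have e := conjugate_commutatorElement (S.sA f hf hK x) (S.sB f hf hK y) r
    rw [(S.tor_conj f hf hK ht hr x).1, (S.tor_conj f hf hK ht hr y).2.1] at e
    rw [show S.F f hf hK _ _ = _ from e.symm,
      show r * ⁅S.sA f hf hK x, S.sB f hf hK y⁆ * r⁻¹ * (z x y)⁻¹ =
        r * (S.F f hf hK x y * (z x y)⁻¹) * r⁻¹ by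
      rw [mul_assoc, ← ((hcen x y r⁻¹).inv_right).eq.symm]
      simp only [Setup.F]; group]
    exact S.tor_S0 f hf hK (r := r) ⟨s, t, ht, hr⟩ (hz x y)
  have hpair : (∃ l : K, l ≠ 1 ∧ ∀ x y, z x (l * y) = z x y) ∨
      (q = 2 ∧ ∀ l x y, l ≠ 0 → z (l * x) (l * y) = z x y) := by
    by_cases hq : q = 2
    · refine Or.inr ⟨hq, fun l x y hl => ?_⟩
      subst hq
      have h7 : l ^ 7 = 1 := by
        have := FiniteField.pow_card_sub_one_eq_one l hl
        rwa [hK] at this
      have h := hinv (Units.mk0 (l ^ 4) (pow_ne_zero 4 hl)) 1 (map_one f) x y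
      simp only [Units.val_mk0, Units.val_one, div_one, mul_one, hf] at h
      rw [show l ^ 4 * l ^ 4 = l by rw [← pow_add, show 4 + 4 = 7 + 1 from rfl, pow_add, h7,
          one_mul, pow_one],
        show l ^ 4 / ((l ^ 4) ^ 2 * ((l ^ 4) ^ 2) ^ 2) = l by
          rw [div_eq_iff (mul_ne_zero (pow_ne_zero _ (pow_ne_zero _ hl))
            (pow_ne_zero _ (pow_ne_zero _ (pow_ne_zero _ hl))))]
          linear_combination (-l ^ 4) * (l ^ 14 + l ^ 7 + 1) * h7] at h
      exact h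
    · refine Or.inl ?_
      classical
      obtain ⟨s, hs0, hs1⟩ : ∃ s : L0 f, s ≠ 0 ∧ s ≠ 1 := by
        by_contra hall
        push Not at hall
        have h2 : (Set.univ : Set (L0 f)) ⊆ {0, 1} := fun u _ => by
          by_cases hu : u = 0
          · simp [hu]
          · simp [hall u hu]
        have h3 := Set.ncard_le_ncard h2
        rw [Set.ncard_univ, D4.card_fixField f hf hK, Set.ncard_pair zero_ne_one] at h3
        have := D4.one_lt_q f hf hK
        omega
      have hs0' : (s : K) ≠ 0 := fun e => hs0 (Subtype.ext e)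
      have hfs : f (s : K) = s := s.2
      refine ⟨s, fun e => hs1 (Subtype.ext e), fun x y => ?_⟩
      have h := hinv (Units.mk0 _ hs0') (Units.mk0 ((s : K) * s) (mul_ne_zero hs0' hs0'))
        (by simp [hfs]) x y
      simp only [Units.val_mk0, hfs] at h
      rwa [div_self (mul_ne_zero hs0' hs0'), one_mul, mul_div_assoc,
        div_self (mul_ne_zero hs0' hs0'), mul_one] at h
  have := pairing_trivial f hf hK z hL hR hpair x y
  have h := hz x y
  rwa [this, inv_one, mul_one] at h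

/-- The lift of the part outside the long simple root group. -/
noncomputable def Setup.T : Subgroup E :=
  Subgroup.closure (Set.range (S.sA f hf hK) ∪ Set.range (S.sB f hf hK) ∪ S.S0 f hf hK)

theorem Setup.exists_T {g : E} (hg : g ∈ S.T f hf hK) : ∃ x y, ∃ e ∈ S.S0 f hf hK,
    g = S.sA f hf hK x * S.sB f hf hK y * e := by
  have zA := add_map_zero (S.sA f hf hK) (S.sA_add f hf hK)
  have zB := add_map_zero (S.sB f hf hK) (S.sB_add f hf hK)
  have nA := add_map_neg (S.sA f hf hK) (S.sA_add f hf hK)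
  have nB := add_map_neg (S.sB f hf hK) (S.sB_add f hf hK)
  have pastB : ∀ e ∈ S.S0 f hf hK, ∀ y,
      ∃ e' ∈ S.S0 f hf hK, e * S.sB f hf hK y = S.sB f hf hK y * e' := fun e he y =>
    ⟨⁅S.sB f hf hK (-y), e⁆ * e, mul_mem (S.comm_S0 f hf hK (-y) he).2 he, by
      rw [nB, commutatorElement_def]; group⟩
  have pastA : ∀ e ∈ S.S0 f hf hK, ∀ x,
      ∃ e' ∈ S.S0 f hf hK, e * S.sA f hf hK x = S.sA f hf hK x * e' := fun e he x =>
    ⟨⁅S.sA f hf hK (-x), e⁆ * e, mul_mem (S.comm_S0 f hf hK (-x) he).1 he, by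
      rw [nA, commutatorElement_def]; group⟩
  let Q : E → Prop := fun g => ∃ x y, ∃ e ∈ S.S0 f hf hK,
    g = S.sA f hf hK x * S.sB f hf hK y * e
  have mA : ∀ a g, Q g → Q (S.sA f hf hK a * g) := by
    rintro a _ ⟨x, y, e, he, rfl⟩
    exact ⟨a + x, y, e, he, by rw [S.sA_add]; group⟩
  have mB : ∀ b g, Q g → Q (S.sB f hf hK b * g) := by
    rintro b _ ⟨x, y, e, he, rfl⟩
    obtain ⟨e', he', ee⟩ := pastB _ (S.F_mem f hf hK (-x) b) (b + y)
    refine ⟨x, b + y, e' * e, mul_mem he' he, ?_⟩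
    rw [show S.sA f hf hK x * S.sB f hf hK (b + y) * (e' * e) =
      S.sA f hf hK x * (S.sB f hf hK (b + y) * e') * e by group, ← ee, Setup.F, nA, S.sB_add,
      commutatorElement_def]
    group
  have m0 : ∀ d ∈ S.S0 f hf hK, ∀ g, Q g → Q (d * g) := by
    rintro d hd _ ⟨x, y, e, he, rfl⟩
    obtain ⟨d1, hd1, e1⟩ := pastA d hd x
    obtain ⟨d2, hd2, e2⟩ := pastB d1 hd1 y
    refine ⟨x, y, d2 * e, mul_mem hd2 he, ?_⟩
    rw [← mul_assoc d, ← mul_assoc d, e1, mul_assoc _ d1, e2]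
    group
  show Q g
  induction hg using Subgroup.closure_induction_left with
  | one => exact ⟨0, 0, 1, one_mem _, by rw [zA, zB, one_mul, one_mul]⟩
  | mul_left a ha b _ ih =>
    rcases ha with (⟨x, rfl⟩ | ⟨x, rfl⟩) | ha
    exacts [mA x b ih, mB x b ih, m0 a ha b ih]
  | inv_mul_cancel a ha b _ ih =>
    rcases ha with (⟨x, rfl⟩ | ⟨x, rfl⟩) | ha
    · rw [← nA]; exact mA _ b ih
    · rw [← nB]; exact mB _ b ih
    · exact m0 _ (inv_mem ha) b ih

theorem Setup.T_ker {g : E} (hg : g ∈ S.T f hf hK) (h : π g = 1) : g = 1 := by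
  obtain ⟨x, y, e, he, rfl⟩ := S.exists_T f hf hK hg
  obtain ⟨zA, zB, zC, zb, z1, z2⟩ := h_zero f hf hK
  obtain ⟨w, u, v, ee⟩ := id he
  rw [map_mul, map_mul, S.map_sA, S.map_sB, ee, map_mul, map_mul, S.map_sC, S.map_th1,
    S.map_th2] at h
  obtain ⟨rfl, -, rfl, -, -, -⟩ := uprod_inj f hf hK (x := x) (b := 0) (y := y) (w := w) (u := u)
    (v := v) (x' := 0) (b' := 0) (y' := 0) (w' := 0) (u' := 0) (v' := 0) (by
      simp only [uprod, zA, zB, zb, zC, z1, z2, one_mul]
      rw [← h]; group)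
  rw [zA, zB, one_mul, one_mul] at h
  rw [add_map_zero (S.sA f hf hK) (S.sA_add f hf hK),
    add_map_zero (S.sB f hf hK) (S.sB_add f hf hK), one_mul, one_mul]
  refine S.S0_ker f hf hK he ?_
  rw [ee, map_mul, map_mul, S.map_sC, S.map_th1, S.map_th2]
  exact h

theorem Setup.T_map {g : E} (hg : g ∈ S.T f hf hK) : π g ∈ subN f hf hK := by
  obtain ⟨x, y, e, ⟨w, u, v, rfl⟩, rfl⟩ := S.exists_T f hf hK hg
  obtain ⟨zA, zB, zC, zb, z1, z2⟩ := h_zero f hf hK
  have h := nprod_mem f hf hK x y w u v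
  simp only [uprod, zb, one_mul] at h
  simp only [map_mul, S.map_sA, S.map_sB, S.map_sC, S.map_th1, S.map_th2]
  simpa [mul_assoc] using h

theorem Setup.T_lift {g : ↥(Z).G₁} (hg : g ∈ subN f hf hK) :
    ∃ s ∈ S.T f hf hK, π s = g := by
  obtain ⟨x, y, w, u, v, rfl⟩ := exists_nprod f hf hK hg
  obtain ⟨tC, t1, t2⟩ := S.th_mem_S0 f hf hK
  refine ⟨S.sA f hf hK x * (S.sB f hf hK y *
    (S.sC f hf hK w * (S.th1 f hf hK u * S.th2 f hf hK v))), ?_, ?_⟩
  · exact mul_mem (Subgroup.subset_closure (Or.inl (Or.inl ⟨x, rfl⟩)))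
      (mul_mem (Subgroup.subset_closure (Or.inl (Or.inr ⟨y, rfl⟩)))
        (Subgroup.subset_closure (Or.inr (mul_mem (tC _) (mul_mem (t1 _) (t2 _))))))
  · simp only [map_mul, S.map_sA, S.map_sB, S.map_sC, S.map_th1, S.map_th2, uprod,
      (h_zero f hf hK).2.2.2.1, one_mul]

theorem Setup.T_t {g : E} (hg : g ∈ S.T f hf hK) : S.t * g * S.t⁻¹ ∈ S.T f hf hK := by
  have hT : IsTor f hf hK (π S.t) := ⟨_, _, _, S.map_t⟩
  have h := S.tor_conj f hf hK (map_one f) S.map_t
  induction hg using Subgroup.closure_induction with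
  | mem a ha =>
    rcases ha with (⟨x, rfl⟩ | ⟨x, rfl⟩) | ha
    · rw [(h x).1]; exact Subgroup.subset_closure (Or.inl (Or.inl ⟨_, rfl⟩))
    · rw [(h x).2.1]; exact Subgroup.subset_closure (Or.inl (Or.inr ⟨_, rfl⟩))
    · exact Subgroup.subset_closure (Or.inr (S.tor_S0 f hf hK hT ha))
  | one => simp [one_mem]
  | mul a b _ _ ha hb =>
    rw [show S.t * (a * b) * S.t⁻¹ = S.t * a * S.t⁻¹ * (S.t * b * S.t⁻¹) by group]
    exact mul_mem ha hb
  | inv a _ ha =>
    rw [show S.t * a⁻¹ * S.t⁻¹ = (S.t * a * S.t⁻¹)⁻¹ by group]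
    exact inv_mem ha

theorem Setup.T_hb {g e : E} {b : L0 f} (hg : g ∈ S.T f hf hK) (he : π e = hb f hf hK b) :
    e * g * e⁻¹ ∈ S.T f hf hK := by
  have hct : Commute (π e) (π S.t) := by
    rw [he, S.map_t]; exact ((tH_long f hf hK S.s₀ S.norm).1 b).symm
  -- conjugates of canonical lifts
  have hsig : ∀ {a v : E}, a = ⁅S.t, v⁆ → π v ∈ subN f hf hK → e * a * e⁻¹ ∈ S.T f hf hK := by
    rintro a v rfl hv
    obtain ⟨s, hs, es⟩ := S.T_lift f hf hK (hb_conj_subN f hf hK b hv)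
    rw [conjugate_commutatorElement, comm_congr π S.cen (a' := S.t) (b' := s)
      (by rw [map_mul, map_mul, map_inv, hct.eq, mul_inv_cancel_right])
      (by rw [map_mul, map_mul, map_inv, he, es]), commutatorElement_def]
    exact mul_mem (S.T_t f hf hK hs) (inv_mem hs)
  have hN : ∀ x, hA f hf hK x ∈ subN f hf hK ∧ hB f hf hK x ∈ subN f hf hK ∧
      hC f hf hK x ∈ subN f hf hK := fun x => by
    obtain ⟨zA, zB, zC, zb, z1, z2⟩ := h_zero f hf hK
    refine ⟨?_, ?_, ?_⟩
    · simpa [uprod, zA, zB, zC, zb, z1, z2] using nprod_mem f hf hK x 0 0 0 0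
    · simpa [uprod, zA, zB, zC, zb, z1, z2] using nprod_mem f hf hK 0 x 0 0 0
    · simpa [uprod, zA, zB, zC, zb, z1, z2] using nprod_mem f hf hK 0 0 x 0 0
  have cA : ∀ x, e * S.sA f hf hK x * e⁻¹ ∈ S.T f hf hK := fun x =>
    hsig rfl (by rw [π_lf]; exact (hN _).1)
  have cB : ∀ x, e * S.sB f hf hK x * e⁻¹ ∈ S.T f hf hK := fun x =>
    hsig rfl (by rw [π_lf]; exact (hN _).2.1)
  have cC : ∀ x, e * S.sC f hf hK x * e⁻¹ ∈ S.T f hf hK := fun x =>
    hsig rfl (by rw [π_lf]; exact (hN _).2.2)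
  have ccomm : ∀ {a a' : E}, e * a * e⁻¹ ∈ S.T f hf hK → e * a' * e⁻¹ ∈ S.T f hf hK →
      e * ⁅a, a'⁆ * e⁻¹ ∈ S.T f hf hK := fun {a a'} h h' => by
    rw [conjugate_commutatorElement, commutatorElement_def]
    exact mul_mem (mul_mem (mul_mem h h') (inv_mem h)) (inv_mem h')
  have c1 : ∀ u, e * S.th1 f hf hK u * e⁻¹ ∈ S.T f hf hK := fun u => ccomm (cA 1) (cC _)
  have c2 : ∀ v, e * S.th2 f hf hK v * e⁻¹ ∈ S.T f hf hK := fun v => by
    rw [show S.th2 f hf hK v = ⁅S.sB f hf hK 1, S.sC f hf hK (S.a₀ * (v : K))⁆ by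
      rw [S.BC_th2, one_mul, trL_a₀]]
    exact ccomm (cB 1) (cC _)
  induction hg using Subgroup.closure_induction with
  | mem a ha =>
    rcases ha with (⟨x, rfl⟩ | ⟨x, rfl⟩) | ⟨w, u, v, rfl⟩
    · exact cA x
    · exact cB x
    · rw [show e * (S.sC f hf hK w * S.th1 f hf hK u * S.th2 f hf hK v) * e⁻¹ =
        (e * S.sC f hf hK w * e⁻¹) * (e * S.th1 f hf hK u * e⁻¹) *
          (e * S.th2 f hf hK v * e⁻¹) by group]
      exact mul_mem (mul_mem (cC w) (c1 u)) (c2 v)
  | one => simp [one_mem]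
  | mul a a' _ _ ha ha' =>
    rw [show e * (a * a') * e⁻¹ = e * a * e⁻¹ * (e * a' * e⁻¹) by group]
    exact mul_mem ha ha'
  | inv a _ ha =>
    rw [show e * a⁻¹ * e⁻¹ = (e * a * e⁻¹)⁻¹ by group]
    exact inv_mem ha

include S in
theorem comm_hb {a a' : E} {b b' : L0 f} (ha : π a = hb f hf hK b) (ha' : π a' = hb f hf hK b') :
    Commute a a' := by
  obtain ⟨n, hn⟩ := S.surj ((Z).gen (ja_mem f hf hK))
  have hl : ∀ {a : E} {b : L0 f}, π a = hb f hf hK b → IsLong f hf hK (n * a * n⁻¹) (π := π) :=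
    fun {a b} h => ⟨-b, 0, by
      rw [(h_zero f hf hK).2.2.2.2.2, mul_one, map_mul, map_mul, map_inv, h, hn, h1, neg_neg]⟩
  have h := long_long f hf hK S (hl ha) (hl ha')
  have h' := h.map (MulAut.conj n⁻¹).toMonoidHom
  simpa [mul_assoc] using h'

include S in
/-- The kernel meets the derived group of the preimage of the maximal unipotent subgroup
trivially. -/
theorem ker_derived {z : E} (hz : π z = 1)
    (hzd : z ∈ ⁅(subU f hf hK).comap π, (subU f hf hK).comap π⁆) : z = 1 := by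
  let G : Set E := {g | g ∈ S.T f hf hK ∨ π g = 1 ∨ ∃ b, π g = hb f hf hK b}
  have hle : (subU f hf hK).comap π ≤ Subgroup.closure G := by
    intro a ha
    obtain ⟨x, b, y, w, u, v, e⟩ := exists_uprod f hf hK ha
    obtain ⟨c, hc, ec⟩ := S.T_lift f hf hK (nprod_mem f hf hK 0 y w u v)
    obtain ⟨eb, heb⟩ := S.surj (hb f hf hK b)
    set d := S.sA f hf hK x * (eb * c)
    rw [show a = d * (d⁻¹ * a) by group]
    refine mul_mem (mul_mem (Subgroup.subset_closure (Or.inl (Subgroup.subset_closure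
      (Or.inl (Or.inl ⟨x, rfl⟩))))) (mul_mem (Subgroup.subset_closure (Or.inr (Or.inr ⟨b, heb⟩)))
      (Subgroup.subset_closure (Or.inl hc)))) (Subgroup.subset_closure (Or.inr (Or.inl ?_)))
    obtain ⟨zA, -, -, zb, -, -⟩ := h_zero f hf hK
    rw [map_mul, map_inv, ← e, map_mul, map_mul, S.map_sA, heb, ec]
    simp only [uprod, zA, zb, one_mul, inv_mul_cancel]
  have hconj : ∀ g ∈ G, ∀ n ∈ S.T f hf hK, g * n * g⁻¹ ∈ S.T f hf hK := by
    rintro g (hg | hg | ⟨b, hg⟩) n hn
    · exact mul_mem (mul_mem hg hn) (inv_mem hg)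
    · rw [(ker_comm π S.cen hg n).symm.eq, mul_inv_cancel_right]; exact hn
    · exact S.T_hb f hf hK hn hg
  have hinvG : ∀ g ∈ G, g⁻¹ ∈ G := by
    rintro g (hg | hg | ⟨b, hg⟩)
    · exact Or.inl (inv_mem hg)
    · exact Or.inr (Or.inl (by rw [map_inv, hg, inv_one]))
    · refine Or.inr (Or.inr ⟨-b, ?_⟩)
      rw [map_inv, hg]
      refine inv_eq_of_mul_eq_one_right ?_
      rw [← hb_add, add_neg_cancel, (h_zero f hf hK).2.2.2.1]
  have hd : ⁅Subgroup.closure G, Subgroup.closure G⁆ ≤ S.T f hf hK := by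
    refine commutator_le_of_gens hconj (fun g hg n hn => ?_) ?_
    · simpa using hconj g⁻¹ (hinvG g hg) n hn
    · rintro a ha b hb'
      rcases hb' with hb' | hb' | ⟨c', hb'⟩
      · rw [commutatorElement_def]; exact mul_mem (hconj a ha b hb') (inv_mem hb')
      · rw [commutatorElement_eq_one_iff_commute.2 (ker_comm π S.cen hb' a)]; exact one_mem _
      · rcases ha with ha | ha | ⟨c, ha⟩
        · rw [← commutatorElement_inv, commutatorElement_def]
          exact inv_mem (mul_mem (S.T_hb f hf hK ha hb') (inv_mem ha))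
        · rw [commutatorElement_eq_one_iff_commute.2 (ker_comm π S.cen ha b).symm]
          exact one_mem _
        · rw [commutatorElement_eq_one_iff_commute.2 (comm_hb f hf hK S ha hb')]
          exact one_mem _
  exact S.T_ker f hf hK (hd (Subgroup.commutator_mono hle hle hzd)) hz

end Cfsg.Agent.Classical.Triality
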