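import Cfsg.Agent.Lib.Lie.Chev.TwistOutD4

/-!
The root groups of ³D₄(q) inside the group: three short ones over `GF(q³)` and three long ones over
`GF(q)`, their conjugation by the torus and the two Weyl elements, and their commutators.
-/

set_option autoImplicit false
set_option linter.unusedSectionVars false
set_option linter.unusedSimpArgs false
set_option maxRecDepth 8000

namespace Cfsg.Agent.Classical.Triality

open Cfsg.Lie Cfsg.Agent.Lie.Chev
open scoped commutatorElement

/-- The commutator terms and the conjugations used. -/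
def checkTab : Bool :=
  let T := certFullD4.T
  decide (([(17, 18), (20, 13), (21, 12), (15, 18), (19, 12), (16, 18), (19, 13), (15, 13), (16, 12)] :
      List (ℕ × ℕ)).map (fun p => T.commTerms p.1 p.2) =
    [[(22, 1, 1, 1)], [(22, -1, 1, 1)], [(22, -1, 1, 1)], [(20, 1, 1, 1)], [(20, -1, 1, 1)],
      [(21, 1, 1, 1)], [(21, -1, 1, 1)], [(17, -1, 1, 1)], [(17, -1, 1, 1)]]) &&
  decide (([(17, 12), (17, 13), (20, 12), (20, 18), (21, 13), (21, 18), (15, 12), (16, 13),
      (19, 18)] : List (ℕ × ℕ)).map (fun p => T.commTerms p.1 p.2) =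
    [[], [], [], [], [], [], [], [], []]) &&
  decide ([22, 23].flatMap (fun r => [12, 13, 15, 16, 17, 18, 19, 20, 21, 22, 23].map
    fun s => T.commTerms r s) = List.replicate 22 []) &&
  ((List.range' 12 12).all fun s => Nat.beq s 14 ||
    (T.commTerms 14 s).all fun x => Nat.ble 12 x.1 && !(Nat.beq x.1 14)) &&
  decide ([18, 13, 12, 20, 21, 17, 22].map (fun r => T.wlT [1] r) = [19, 16, 15, 20, 21, 17, 23]) &&
  decide ([19, 16, 15, 14].map (fun r => T.wlT [0, 2, 3] r) = [17, 20, 21, 22])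

theorem checkTab_ok : checkTab = true := by decide +kernel

theorem sign_values :
    [18, 13, 12, 20, 21, 17, 22].map (fun r => certFullD4.wsign [1] r) = [1, -1, -1, 1, 1, 1, 1] ∧
      [19, 16, 15, 14].map (fun r => certFullD4.wsign [0, 2, 3] r) = [1, 1, 1, -1] := by
  decide +kernel

theorem cartan_values :
    [22, 23, 19, 16, 15, 20, 21, 17].map (fun r => (List.range 4).map fun i =>
      certFullD4.T.cartan i r) =
    [[1, -1, 1, 1], [0, 1, 0, 0], [1, 1, -1, -1], [-1, 1, 1, -1], [-1, 1, -1, 1], [1, 0, -1, 1],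
      [1, 0, 1, -1], [-1, 0, 1, 1]] := by
  decide +kernel

theorem lt_rank : (∀ p ∈ [1], p < chevD4.rank) ∧ ∀ p ∈ [0, 2, 3], p < chevD4.rank := by
  rw [D4.simple_values.2.2.2.2.1]; simp

theorem pos_iff {r : ℕ} : certFullD4.Pos r ↔ 12 ≤ r ∧ r < 24 := Iff.rfl

variable {K : Type*} [Field K] [Fintype K] (f : K →+* K) {q : ℕ} (hf : ∀ t, f t = t ^ q)
  (hK : Fintype.card K = q ^ 3)

/-- The fixed field. -/
abbrev L0 : Subfield K := RingHom.eqLocusField f (RingHom.id K)

/-- The trace to the fixed field. -/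
def tr (u : K) : K := u + f u + f (f u)

include hf hK

local notation "Z" => D4.datum f hf hK

theorem jb_mem : [1] ∈ (Z).W.Jw := by show [1] ∈ orbitsD4; decide

theorem ja_mem : [0, 2, 3] ∈ (Z).W.Jw := by show [0, 2, 3] ∈ orbitsD4; decide

theorem f3 (u : K) : f (f (f u)) = u := D4.pow_cube f hf hK u

theorem tr_mem (u : K) : tr f u ∈ L0 f := by
  show f (u + f u + f (f u)) = u + f u + f (f u)
  rw [map_add, map_add, f3 f hf hK]
  ring

/-- The trace element. -/
def trL (u : K) : L0 f := ⟨tr f u, tr_mem f hf hK u⟩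

theorem exists_tr_one : ∃ a : K, tr f a = 1 := by
  obtain ⟨b, hb⟩ : ∃ b : K, tr f b ≠ 0 := by
    classical
    by_contra hne
    push Not at hne
    have hq := D4.one_lt_q f hf hK
    let P : Polynomial K := Polynomial.X ^ (q * q) + (Polynomial.X ^ q + Polynomial.X)
    have hdeg : P.natDegree = q * q := by
      have h1 : (Polynomial.X ^ q + Polynomial.X : Polynomial K).natDegree ≤ q := by
        refine (Polynomial.natDegree_add_le _ _).trans ?_
        simp only [Polynomial.natDegree_X_pow, Polynomial.natDegree_X]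
        omega
      rw [Polynomial.natDegree_add_eq_left_of_natDegree_lt] <;>
        rw [Polynomial.natDegree_X_pow]
      calc _ ≤ q := h1
        _ < q * q := by nlinarith
    have hP : P ≠ 0 := fun e => by
      rw [e, Polynomial.natDegree_zero] at hdeg
      nlinarith
    have hsub : (Finset.univ : Finset K) ⊆ P.roots.toFinset := fun x _ => by
      rw [Multiset.mem_toFinset, Polynomial.mem_roots hP, Polynomial.IsRoot.def]
      have h := hne x
      rw [tr, hf x, hf (x ^ q), ← pow_mul] at h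
      simp only [P, Polynomial.eval_add, Polynomial.eval_pow, Polynomial.eval_X]
      linear_combination h
    have h2 := (Finset.card_le_card hsub).trans
      ((Multiset.toFinset_card_le _).trans (Polynomial.card_roots' P))
    rw [Finset.card_univ, hK, hdeg] at h2
    nlinarith
  refine ⟨(tr f b)⁻¹ * b, ?_⟩
  have hc : f ((tr f b)⁻¹) = (tr f b)⁻¹ := by
    rw [map_inv₀, show f (tr f b) = tr f b from tr_mem f hf hK b]
  have e : ∀ c : K, f c = c → tr f (c * b) = c * tr f b := fun c hc => by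
    rw [tr, tr, map_mul, hc, map_mul, hc]; ring
  rw [e _ hc, inv_mul_cancel₀ hb]

/-! ### The root elements -/

/-- The first short root group. -/
noncomputable def hA (x : K) : ↥(Z).G₁ := ⟨D4.X x (f x) (f (f x)), D4.genX f hf x⟩

/-- The long simple root group. -/
noncomputable def hb (u : L0 f) : ↥(Z).G₁ :=
  ⟨certFullD4.xg 14 (u : K), D4.gen1 f hf (Or.inl rfl) u.2⟩

/-- The second short root group. -/
noncomputable def hB (y : K) : ↥(Z).G₁ :=
  (Z).gen (jb_mem f hf hK) * hA f hf hK y * ((Z).gen (jb_mem f hf hK))⁻¹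

/-- The third short root group. -/
noncomputable def hC (w : K) : ↥(Z).G₁ :=
  (Z).gen (ja_mem f hf hK) * hB f hf hK (-f (f w)) * ((Z).gen (ja_mem f hf hK))⁻¹

/-- The second long root group. -/
noncomputable def h1 (u : L0 f) : ↥(Z).G₁ :=
  (Z).gen (ja_mem f hf hK) * hb f hf hK (-u) * ((Z).gen (ja_mem f hf hK))⁻¹

/-- The highest root group. -/
noncomputable def h2 (u : L0 f) : ↥(Z).G₁ :=
  (Z).gen (jb_mem f hf hK) * h1 f hf hK u * ((Z).gen (jb_mem f hf hK))⁻¹

theorem hA_val (x : K) : (hA f hf hK x : GL chevD4.Idx K) =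
    certFullD4.xg 18 x * certFullD4.xg 13 (f x) * certFullD4.xg 12 (f (f x)) := rfl

theorem hb_val (u : L0 f) : (hb f hf hK u : GL chevD4.Idx K) = certFullD4.xg 14 (u : K) := rfl

theorem hB_val (y : K) : (hB f hf hK y : GL chevD4.Idx K) =
    certFullD4.xg 19 y * certFullD4.xg 16 (-f y) * certFullD4.xg 15 (-f (f y)) := by
  have h := checkTab_ok
  simp only [checkTab, Bool.and_eq_true, decide_eq_true_eq, List.map_cons, List.map_nil,
    List.cons.injEq, and_true, certFullD4.wlT_eq] at h
  obtain ⟨a18, a13, a12, -⟩ := h.1.2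
  have hs := sign_values.1
  simp only [List.map_cons, List.map_nil, List.cons.injEq, and_true] at hs
  obtain ⟨b18, b13, b12, -⟩ := hs
  set n := certFullD4.nw K [1]
  have hn : ∀ r < 24, ∀ t : K, n * certFullD4.xg r t * n⁻¹ =
      certFullD4.xg (certFullD4.wl [1] r) ((certFullD4.wsign [1] r : K) * t) := fun r hr t => by
    rw [certFullD4.nw_mul_xg lt_rank.1 (show r < chevD4.nroots from hr), mul_inv_cancel_right]
  show n * (certFullD4.xg 18 y * certFullD4.xg 13 (f y) * certFullD4.xg 12 (f (f y))) * n⁻¹ = _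
  rw [show ∀ a b d : GL chevD4.Idx K, n * (a * b * d) * n⁻¹ =
      (n * a * n⁻¹) * (n * b * n⁻¹) * (n * d * n⁻¹) from fun a b d => by group,
    hn 18 (by omega), hn 13 (by omega), hn 12 (by omega), a18, a13, a12, b18, b13, b12]
  simp

theorem hC_val (w : K) : (hC f hf hK w : GL chevD4.Idx K) =
    certFullD4.xg 17 (-f (f w)) * certFullD4.xg 20 w * certFullD4.xg 21 (f w) := by
  have h := checkTab_ok
  simp only [checkTab, Bool.and_eq_true, decide_eq_true_eq, List.map_cons, List.map_nil,
    List.cons.injEq, and_true, certFullD4.wlT_eq] at h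
  obtain ⟨a19, a16, a15, -⟩ := h.2
  have hs := sign_values.2
  simp only [List.map_cons, List.map_nil, List.cons.injEq, and_true] at hs
  obtain ⟨b19, b16, b15, -⟩ := hs
  set n := certFullD4.nw K [0, 2, 3]
  have hn : ∀ r < 24, ∀ t : K, n * certFullD4.xg r t * n⁻¹ =
      certFullD4.xg (certFullD4.wl [0, 2, 3] r) ((certFullD4.wsign [0, 2, 3] r : K) * t) :=
    fun r hr t => by
      rw [certFullD4.nw_mul_xg lt_rank.2 (show r < chevD4.nroots from hr), mul_inv_cancel_right]
  show n * ((hB f hf hK (-f (f w)) : ↥(Z).G₁) : GL chevD4.Idx K) * n⁻¹ = _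
  rw [hB_val, show ∀ a b d : GL chevD4.Idx K, n * (a * b * d) * n⁻¹ =
      (n * a * n⁻¹) * (n * b * n⁻¹) * (n * d * n⁻¹) from fun a b d => by group,
    hn 19 (by omega), hn 16 (by omega), hn 15 (by omega), a19, a16, a15, b19, b16, b15]
  simp [f3 f hf hK]

theorem h1_val (u : L0 f) : (h1 f hf hK u : GL chevD4.Idx K) = certFullD4.xg 22 (u : K) := by
  have h := checkTab_ok
  simp only [checkTab, Bool.and_eq_true, decide_eq_true_eq, List.map_cons, List.map_nil,
    List.cons.injEq, and_true, certFullD4.wlT_eq] at h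
  have hs := sign_values.2
  simp only [List.map_cons, List.map_nil, List.cons.injEq, and_true] at hs
  show certFullD4.nw K [0, 2, 3] * certFullD4.xg 14 (((-u : L0 f)) : K) *
    (certFullD4.nw K [0, 2, 3])⁻¹ = _
  rw [certFullD4.nw_mul_xg lt_rank.2 (show 14 < chevD4.nroots by decide), mul_inv_cancel_right,
    h.2.2.2.2, hs.2.2.2]
  simp

theorem h2_val (u : L0 f) : (h2 f hf hK u : GL chevD4.Idx K) = certFullD4.xg 23 (u : K) := by
  have h := checkTab_ok
  simp only [checkTab, Bool.and_eq_true, decide_eq_true_eq, List.map_cons, List.map_nil,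
    List.cons.injEq, and_true, certFullD4.wlT_eq] at h
  have hs := sign_values.1
  simp only [List.map_cons, List.map_nil, List.cons.injEq, and_true] at hs
  show certFullD4.nw K [1] * ((h1 f hf hK u : ↥(Z).G₁) : GL chevD4.Idx K) *
    (certFullD4.nw K [1])⁻¹ = _
  rw [h1_val, certFullD4.nw_mul_xg lt_rank.1 (show 22 < chevD4.nroots by decide),
    mul_inv_cancel_right, h.1.2.2.2.2.2.2.2, hs.2.2.2.2.2.2]
  simp

theorem hA_add (x y : K) : hA f hf hK (x + y) = hA f hf hK x * hA f hf hK y := by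
  refine Subtype.ext ?_
  rw [Subgroup.coe_mul, hA_val, hA_val, hA_val,
    mul3_comm (D4.comm_x (r := 13) (s := 18) (by simp) (by simp) (by omega) (by simp) (by simp) _ _)
      (D4.comm_x (r := 12) (s := 18) (by simp) (by simp) (by omega) (by simp) (by simp) _ _)
      (D4.comm_x (r := 12) (s := 13) (by simp) (by simp) (by omega) (by simp) (by simp) _ _)]
  simp only [map_add, certFullD4.xg_add]

theorem hB_add (x y : K) : hB f hf hK (x + y) = hB f hf hK x * hB f hf hK y := by
  rw [hB, hB, hB, hA_add]; group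

theorem hC_add (x y : K) : hC f hf hK (x + y) = hC f hf hK x * hC f hf hK y := by
  rw [hC, hC, hC, map_add, map_add, neg_add, hB_add]; group

theorem hb_add (u v : L0 f) : hb f hf hK (u + v) = hb f hf hK u * hb f hf hK v :=
  Subtype.ext (certFullD4.xg_add 14 _ _)

theorem h1_add (u v : L0 f) : h1 f hf hK (u + v) = h1 f hf hK u * h1 f hf hK v := by
  rw [h1, h1, h1, neg_add, hb_add]; group

theorem h2_add (u v : L0 f) : h2 f hf hK (u + v) = h2 f hf hK u * h2 f hf hK v := by
  rw [h2, h2, h2, h1_add]; group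

/-! ### The torus -/

/-- An element of the torus. -/
noncomputable def tH (s t : Kˣ) (ht : f (t : K) = t) : ↥(Z).G₁ :=
  ⟨certFullD4.torus (D4.zOf f s t), D4.torus_zOf_mem f hf s t ht⟩

theorem tchar_values (s t : Kˣ) :
    (certFullD4.tchar (D4.zOf f s t) 18 : K) = s * s / t ∧
    (certFullD4.tchar (D4.zOf f s t) 13 : K) = f (s : K) * f s / t ∧
    (certFullD4.tchar (D4.zOf f s t) 12 : K) = f (f (s : K)) * f (f s) / t ∧
    (certFullD4.tchar (D4.zOf f s t) 14 : K) = t * t / (s * f s * f (f s)) ∧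
    (certFullD4.tchar (D4.zOf f s t) 22 : K) = s * f s * f (f s) / t ∧
    (certFullD4.tchar (D4.zOf f s t) 23 : K) = t ∧
    (certFullD4.tchar (D4.zOf f s t) 19 : K) = s * t / (f s * f (f s)) ∧
    (certFullD4.tchar (D4.zOf f s t) 16 : K) = f (s : K) * t / (s * f (f s)) ∧
    (certFullD4.tchar (D4.zOf f s t) 15 : K) = f (f (s : K)) * t / (s * f s) ∧
    (certFullD4.tchar (D4.zOf f s t) 20 : K) = s * f (f s) / f s ∧
    (certFullD4.tchar (D4.zOf f s t) 21 : K) = s * f s / f (f s) ∧
    (certFullD4.tchar (D4.zOf f s t) 17 : K) = f (s : K) * f (f s) / s := by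
  obtain ⟨c18, c14, c13, c12⟩ := D4.tchar_simple (D4.zOf f s t)
  have h := cartan_values
  simp only [List.map_cons, List.map_nil, List.cons.injEq, and_true, List.range_succ,
    List.range_zero, List.nil_append, List.cons_append] at h
  obtain ⟨⟨a0, a1, a2, a3⟩, ⟨b0, b1, b2, b3⟩, ⟨d0, d1, d2, d3⟩, ⟨e0, e1, e2, e3⟩,
    ⟨g0, g1, g2, g3⟩, ⟨i0, i1, i2, i3⟩, ⟨j0, j1, j2, j3⟩, ⟨k0, k1, k2, k3⟩⟩ := h
  rw [c18, c14, c13, c12]
  simp only [Cert.tchar, show chevD4.rank = 4 from rfl, Finset.prod_range_succ,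
    Finset.prod_range_zero, D4.zOf, a0, a1, a2, a3, b0, b1, b2, b3, d0, d1, d2, d3, e0, e1, e2, e3,
    g0, g1, g2, g3, i0, i1, i2, i3, j0, j1, j2, j3, k0, k1, k2, k3, _root_.zpow_neg, zpow_one,
    _root_.zpow_zero, one_mul, mul_one, ↓reduceIte, show ¬ (1 : ℕ) = 0 by omega,
    show ¬ (2 : ℕ) = 0 by omega, show ¬ (2 : ℕ) = 1 by omega, show ¬ (3 : ℕ) = 0 by omega,
    show ¬ (3 : ℕ) = 1 by omega, show ¬ (3 : ℕ) = 2 by omega, Units.val_mul,
    Units.val_inv_eq_inv_val, Units.coe_map, MonoidHom.coe_coe]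
  refine ⟨?_, ?_, ?_, ?_, ?_, trivial, ?_, ?_, ?_, ?_, ?_, ?_⟩ <;> field_simp

theorem tH_conj_hA (s t : Kˣ) (ht : f (t : K) = t) (x : K) :
    tH f hf hK s t ht * hA f hf hK x * (tH f hf hK s t ht)⁻¹ =
      hA f hf hK ((s : K) * s / t * x) := by
  obtain ⟨c18, c13, c12, -⟩ := tchar_values f hf hK s t
  refine Subtype.ext ?_
  set n := certFullD4.torus (D4.zOf f s t)
  show n * ((hA f hf hK x : ↥(Z).G₁) : GL chevD4.Idx K) * n⁻¹ = _
  rw [hA_val, hA_val, show ∀ a b d : GL chevD4.Idx K, n * (a * b * d) * n⁻¹ =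
      (n * a * n⁻¹) * (n * b * n⁻¹) * (n * d * n⁻¹) from fun a b d => by group,
    certFullD4.torus_conj_xg _ (show 18 < chevD4.nroots by decide),
    certFullD4.torus_conj_xg _ (show 13 < chevD4.nroots by decide),
    certFullD4.torus_conj_xg _ (show 12 < chevD4.nroots by decide), c18, c13, c12]
  simp only [map_mul, map_div₀, ht]

theorem tH_conj_hB (s t : Kˣ) (ht : f (t : K) = t) (x : K) :
    tH f hf hK s t ht * hB f hf hK x * (tH f hf hK s t ht)⁻¹ =
      hB f hf hK ((s : K) * t / (f s * f (f s)) * x) := by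
  obtain ⟨-, -, -, -, -, -, c19, c16, c15, -⟩ := tchar_values f hf hK s t
  refine Subtype.ext ?_
  set n := certFullD4.torus (D4.zOf f s t)
  show n * ((hB f hf hK x : ↥(Z).G₁) : GL chevD4.Idx K) * n⁻¹ = _
  rw [hB_val, hB_val, show ∀ a b d : GL chevD4.Idx K, n * (a * b * d) * n⁻¹ =
      (n * a * n⁻¹) * (n * b * n⁻¹) * (n * d * n⁻¹) from fun a b d => by group,
    certFullD4.torus_conj_xg _ (show 19 < chevD4.nroots by decide),
    certFullD4.torus_conj_xg _ (show 16 < chevD4.nroots by decide),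
    certFullD4.torus_conj_xg _ (show 15 < chevD4.nroots by decide), c19, c16, c15]
  simp only [map_mul, map_div₀, ht, f3 f hf hK, mul_neg]
  congr 3 <;> ring

theorem tH_conj_hC (s t : Kˣ) (ht : f (t : K) = t) (x : K) :
    tH f hf hK s t ht * hC f hf hK x * (tH f hf hK s t ht)⁻¹ =
      hC f hf hK ((s : K) * f (f s) / f s * x) := by
  obtain ⟨-, -, -, -, -, -, -, -, -, c20, c21, c17⟩ := tchar_values f hf hK s t
  refine Subtype.ext ?_
  set n := certFullD4.torus (D4.zOf f s t)
  show n * ((hC f hf hK x : ↥(Z).G₁) : GL chevD4.Idx K) * n⁻¹ = _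
  rw [hC_val, hC_val, show ∀ a b d : GL chevD4.Idx K, n * (a * b * d) * n⁻¹ =
      (n * a * n⁻¹) * (n * b * n⁻¹) * (n * d * n⁻¹) from fun a b d => by group,
    certFullD4.torus_conj_xg _ (show 17 < chevD4.nroots by decide),
    certFullD4.torus_conj_xg _ (show 20 < chevD4.nroots by decide),
    certFullD4.torus_conj_xg _ (show 21 < chevD4.nroots by decide), c20, c21, c17]
  simp only [map_mul, map_div₀, f3 f hf hK, mul_neg]
  congr 3 <;> ring

/-- The torus elements of norm one centralise the long root groups and the long Weyl element. -/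
theorem tH_long (s : Kˣ) (hs : (s : K) * f s * f (f s) = 1) :
    (∀ u, Commute (tH f hf hK s 1 (map_one f)) (hb f hf hK u)) ∧
    (∀ u, Commute (tH f hf hK s 1 (map_one f)) (h1 f hf hK u)) ∧
    (∀ u, Commute (tH f hf hK s 1 (map_one f)) (h2 f hf hK u)) ∧
    Commute (tH f hf hK s 1 (map_one f)) ((Z).gen (jb_mem f hf hK)) := by
  obtain ⟨c18, c13, c12, c14, c22, c23, -⟩ := tchar_values f hf hK s 1
  have key : ∀ (r : ℕ), r < 24 → (certFullD4.tchar (D4.zOf f s 1) r : K) = 1 → ∀ x : K,
      Commute (certFullD4.torus (D4.zOf f s 1)) (certFullD4.xg r x) := fun r hr e x => by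
    refine mul_inv_eq_iff_eq_mul.1 ?_
    rw [certFullD4.torus_conj_xg _ (show r < chevD4.nroots from hr), e, one_mul]
  have e14 : (certFullD4.tchar (D4.zOf f s 1) 14 : K) = 1 := by
    rw [c14, Units.val_one, one_mul, hs, div_one]
  refine ⟨fun u => Subtype.ext (key 14 (by omega) e14 u).eq, fun u => Subtype.ext ?_,
    fun u => Subtype.ext ?_, Subtype.ext ?_⟩
  · have := (key 22 (by omega) (by rw [c22, Units.val_one, hs, div_one]) (u : K)).eq
    simp only [Subgroup.coe_mul, h1_val]
    exact this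
  · have := (key 23 (by omega) (by rw [c23, Units.val_one]) (u : K)).eq
    simp only [Subgroup.coe_mul, h2_val]
    exact this
  · show certFullD4.torus (D4.zOf f s 1) * certFullD4.nw K [1] =
      certFullD4.nw K [1] * certFullD4.torus (D4.zOf f s 1)
    obtain ⟨-, s1, -, -, -, -, -, -, -, n14⟩ := D4.simple_values
    rw [show certFullD4.nw K [1] = certFullD4.ng 14 1 by simp [Cert.np, s1], Cert.ng, n14]
    have e9 : (certFullD4.tchar (D4.zOf f s 1) 9 : K) = 1 := by
      rw [← n14, (certFullD4.tchar_isRootCharacter _).1 14 (show 14 < chevD4.nroots by decide),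
        Units.val_inv_eq_inv_val, e14, inv_one]
    exact (((key 14 (by omega) e14 _).mul_right (key 9 (by omega) e9 _)).mul_right
      (key 14 (by omega) e14 _)).eq

end Cfsg.Agent.Classical.Triality
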