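import Cfsg.Agent.Lib.Classical.TrialityComm
import Cfsg.Agent.Lib.Classical.TrialityLifts

/-!
Canonical lifts of the root groups of ³D₄(q) to a central extension, and their commutator with
values in the long root groups.
-/

set_option autoImplicit false
set_option linter.unusedSectionVars false
set_option linter.unusedSimpArgs false
set_option maxRecDepth 8000

namespace Cfsg.Agent.Classical.Triality

open Cfsg.Lie Cfsg.Agent.Lie.Chev
open scoped commutatorElement
open Cfsg.Agent.Classical.UnitMult (ker_comm comm_congr commute_congr lf π_lf)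

variable {K : Type*} [Field K] [Fintype K] (f : K →+* K) {q : ℕ} (hf : ∀ t, f t = t ^ q)
  (hK : Fintype.card K = q ^ 3)

include hf hK

local notation "Z" => D4.datum f hf hK

theorem card_facts : 5 ≤ Fintype.card K ∧ ¬ (Fintype.card K).Prime ∧ Fintype.card K ≠ 9 := by
  rw [hK]
  have hq := D4.one_lt_q f hf hK
  have h8 : 2 ^ 3 ≤ q ^ 3 := Nat.pow_le_pow_left hq 3
  refine ⟨by omega, Nat.Prime.not_prime_pow (by omega), fun h => ?_⟩
  rcases (show q = 2 ∨ 3 ≤ q by omega) with rfl | h'
  · omega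
  · have : 3 ^ 3 ≤ q ^ 3 := Nat.pow_le_pow_left h' 3
    omega

/-- The torus elements. -/
def IsTor (g : ↥(Z).G₁) : Prop := ∃ s t : Kˣ, ∃ ht : f (t : K) = t, g = tH f hf hK s t ht

theorem isTor_comm {g h : ↥(Z).G₁} (hg : IsTor f hf hK g) (hh : IsTor f hf hK h) : Commute g h := by
  obtain ⟨s, t, ht, rfl⟩ := hg
  obtain ⟨s', t', ht', rfl⟩ := hh
  refine Subtype.ext ?_
  show certFullD4.torus _ * certFullD4.torus _ = certFullD4.torus _ * certFullD4.torus _
  rw [← map_mul, ← map_mul, mul_comm]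

theorem isTor_iff {g : ↥(Z).G₁} :
    IsTor f hf hK g ↔ (g : GL chevD4.Idx K) ∈ chevD4.diagonalSubgroup K ⊓ (D4.tw f).fix := by
  constructor
  · rintro ⟨s, t, ht, rfl⟩
    exact ⟨certFullD4.torus_mem _, D4.torus_zOf_fix f hf hK s t ht⟩
  · intro h
    obtain ⟨s, t, ht, e⟩ := D4.exists_zOf f hf hK h
    exact ⟨s, t, ht, Subtype.ext e⟩

theorem isTor_conj {g : ↥(Z).G₁} (hg : IsTor f hf hK g) :
    IsTor f hf hK (((Z).gen (jb_mem f hf hK))⁻¹ * g * (Z).gen (jb_mem f hf hK)) := by
  rw [isTor_iff] at hg ⊢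
  refine ⟨?_, Subgroup.mul_mem _ (Subgroup.mul_mem _ (Subgroup.inv_mem _
    ((Z).nw_J_fix (jb_mem f hf hK))) hg.2) ((Z).nw_J_fix (jb_mem f hf hK))⟩
  have h := certFullD4.N_conj_H (inv_mem (certFullD4.nw_mem_N (F := K) lt_rank.1)) hg.1
  rwa [inv_inv] at h

theorem tH_one_pow (s : Kˣ) (n : ℕ) :
    tH f hf hK s 1 (map_one f) ^ n = tH f hf hK (s ^ n) 1 (map_one f) := by
  refine Subtype.ext ?_
  show certFullD4.torus (D4.zOf f s 1) ^ n = certFullD4.torus (D4.zOf f (s ^ n) 1)
  rw [← map_pow]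
  refine congrArg _ (funext fun j => ?_)
  simp only [Pi.pow_apply, D4.zOf]
  split_ifs <;> simp

theorem norm_conj {s : Kˣ} (hs : (s : K) * f s * f (f s) = 1) :
    (∀ x, tH f hf hK s 1 (map_one f) * hA f hf hK x * (tH f hf hK s 1 (map_one f))⁻¹ =
      hA f hf hK ((s : K) * s * x)) ∧
    (∀ x, tH f hf hK s 1 (map_one f) * hB f hf hK x * (tH f hf hK s 1 (map_one f))⁻¹ =
      hB f hf hK ((s : K) * s * x)) ∧
    ∀ x, tH f hf hK s 1 (map_one f) * hC f hf hK x * (tH f hf hK s 1 (map_one f))⁻¹ =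
      hC f hf hK ((f s * f s : K)⁻¹ * x) := by
  have h1 : f (s : K) ≠ 0 := (map_ne_zero f).2 s.ne_zero
  refine ⟨fun x => ?_, fun x => ?_, fun x => ?_⟩
  · rw [tH_conj_hA]; simp
  · rw [tH_conj_hB]
    congr 2
    rw [Units.val_one, mul_one, div_eq_iff (mul_ne_zero h1 ((map_ne_zero f).2 h1))]
    linear_combination (-(s : K)) * hs
  · rw [tH_conj_hC]
    congr 2
    field_simp
    linear_combination hs

variable {E : Type*} [Group E] (π : E →* ↥(D4.datum f hf hK).G₁)

/-- A central extension with the choices made. -/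
structure Setup where
  p : ℕ
  prime : p.Prime
  charP : CharP K p
  surj : Function.Surjective π
  cen : π.ker ≤ Subgroup.center E
  s₀ : Kˣ
  norm : (s₀ : K) * f s₀ * f (f s₀) = 1
  ne : (s₀ : K) * s₀ ≠ 1
  t : E
  map_t : π t = tH f hf hK s₀ 1 (map_one f)
  a₀ : K
  tr_a₀ : tr f a₀ = 1

theorem exists_setup (hπ : Function.Surjective π) (hc : π.ker ≤ Subgroup.center E) :
    Nonempty (Setup f hf hK π) := by
  classical
  obtain ⟨p, hp⟩ := CharP.exists K
  obtain ⟨g, hg⟩ := IsCyclic.exists_generator (α := Kˣ)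
  obtain ⟨a, ha⟩ := exists_tr_one f hf hK
  have hq := D4.one_lt_q f hf hK
  obtain ⟨m, rfl⟩ : ∃ m, q = m + 1 := ⟨q - 1, by omega⟩
  have hgo : orderOf g = m * ((m + 1) * (m + 1) + (m + 1) + 1) := by
    rw [orderOf_eq_card_of_forall_mem_zpowers hg, Nat.card_eq_fintype_card, Fintype.card_units, hK]
    exact Nat.sub_eq_of_eq_add (by ring)
  set s := g ^ m with hsdef
  have hn : (s : K) * f s * f (f s) = 1 := by
    simp only [hf, hsdef, ← Units.val_pow_eq_pow_val, ← Units.val_mul, ← pow_mul, ← pow_add]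
    rw [show m + m * (m + 1) + m * (m + 1) * (m + 1) =
      m * ((m + 1) * (m + 1) + (m + 1) + 1) by ring, ← hgo, pow_orderOf_eq_one, Units.val_one]
  have hne : (s : K) * s ≠ 1 := fun e => by
    rw [← Units.val_mul, Units.val_eq_one, hsdef, ← pow_add] at e
    have h := Nat.le_of_dvd (by omega) (orderOf_dvd_of_pow_eq_one e)
    rw [hgo] at h
    nlinarith
  obtain ⟨t, ht⟩ := hπ (tH f hf hK s 1 (map_one f))
  exact ⟨⟨p, CharP.char_is_prime K p, hp, hπ, hc, s, hn, hne, t, ht, a, ha⟩⟩

variable {π} (S : Setup f hf hK π)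

/-- Lift of the first short root group. -/
noncomputable def Setup.sA (x : K) : E := sig S.surj S.t (hA f hf hK) ((S.s₀ : K) * S.s₀) x

/-- Lift of the second short root group. -/
noncomputable def Setup.sB (x : K) : E := sig S.surj S.t (hB f hf hK) ((S.s₀ : K) * S.s₀) x

/-- Lift of the third short root group. -/
noncomputable def Setup.sC (x : K) : E :=
  sig S.surj S.t (hC f hf hK) ((f S.s₀ * f S.s₀ : K)⁻¹) x

/-- The lift of the long Weyl element. -/
noncomputable def Setup.nb : E := lf π S.surj ((Z).gen (jb_mem f hf hK))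

theorem Setup.ne' : ((f S.s₀ * f S.s₀ : K)⁻¹) ≠ 1 := fun e => by
  rw [inv_eq_one, ← map_mul] at e
  exact S.ne (f.injective (e.trans (map_one f).symm))

theorem Setup.map_sA (x : K) : π (S.sA f hf hK x) = hA f hf hK x :=
  map_sig S.surj S.ne (hA_add f hf hK)
    (fun x => by rw [S.map_t]; exact (norm_conj f hf hK S.norm).1 x) x

theorem Setup.map_sB (x : K) : π (S.sB f hf hK x) = hB f hf hK x :=
  map_sig S.surj S.ne (hB_add f hf hK)
    (fun x => by rw [S.map_t]; exact (norm_conj f hf hK S.norm).2.1 x) x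

theorem Setup.map_sC (x : K) : π (S.sC f hf hK x) = hC f hf hK x :=
  map_sig S.surj (S.ne' f hf hK) (hC_add f hf hK)
    (fun x => by rw [S.map_t]; exact (norm_conj f hf hK S.norm).2.2 x) x

theorem Setup.map_nb : π (S.nb f hf hK) = (Z).gen (jb_mem f hf hK) := π_lf _ _ _

include S in
theorem commA {a b : E} {x y : K} (ha : π a = hA f hf hK x) (hb : π b = hA f hf hK y) :
    Commute a b := by
  obtain ⟨h5, hnp, h9⟩ := card_facts f hf hK
  refine self_commute S.surj S.cen h5 hnp h9 (hA_add f hf hK) (fun s => ?_) ha hb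
  exact ⟨tH f hf hK s 1 (map_one f), fun x => by rw [tH_conj_hA]; simp⟩

include S in
theorem commB {a b : E} {x y : K} (ha : π a = hB f hf hK x) (hb : π b = hB f hf hK y) :
    Commute a b := by
  set n := S.nb f hf hK
  have h := commA f hf hK S (a := n⁻¹ * a * n) (b := n⁻¹ * b * n) (x := x) (y := y)
    (by rw [map_mul, map_mul, map_inv, ha, S.map_nb, hB]; group)
    (by rw [map_mul, map_mul, map_inv, hb, S.map_nb, hB]; group)
  have h' := h.map (MulAut.conj n).toMonoidHom
  simpa [mul_assoc] using h'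

include S in
theorem commC {a b : E} {x y : K} (ha : π a = hC f hf hK x) (hb : π b = hC f hf hK y) :
    Commute a b := by
  obtain ⟨n, hn⟩ := S.surj ((Z).gen (ja_mem f hf hK))
  have h := commB f hf hK S (a := n⁻¹ * a * n) (b := n⁻¹ * b * n)
    (x := -f (f x)) (y := -f (f y))
    (by rw [map_mul, map_mul, map_inv, ha, hn, hC]; group)
    (by rw [map_mul, map_mul, map_inv, hb, hn, hC]; group)
  have h' := h.map (MulAut.conj n).toMonoidHom
  simpa [mul_assoc] using h'

theorem Setup.sA_add (x y : K) :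
    S.sA f hf hK (x + y) = S.sA f hf hK x * S.sA f hf hK y :=
  sig_add S.surj S.cen S.ne (hA_add f hf hK)
    (fun x => by rw [S.map_t]; exact (norm_conj f hf hK S.norm).1 x)
    (fun ha hb => commA f hf hK S ha hb) x y

theorem Setup.sB_add (x y : K) :
    S.sB f hf hK (x + y) = S.sB f hf hK x * S.sB f hf hK y :=
  sig_add S.surj S.cen S.ne (hB_add f hf hK)
    (fun x => by rw [S.map_t]; exact (norm_conj f hf hK S.norm).2.1 x)
    (fun ha hb => commB f hf hK S ha hb) x y

theorem Setup.sC_add (x y : K) :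
    S.sC f hf hK (x + y) = S.sC f hf hK x * S.sC f hf hK y :=
  sig_add S.surj S.cen (S.ne' f hf hK) (hC_add f hf hK)
    (fun x => by rw [S.map_t]; exact (norm_conj f hf hK S.norm).2.2 x)
    (fun ha hb => commC f hf hK S ha hb) x y

/-- A torus element acts on the lifts by scalars. -/
theorem Setup.tor_conj {r : E} {s t : Kˣ} (ht : f (t : K) = t) (hr : π r = tH f hf hK s t ht)
    (x : K) :
    r * S.sA f hf hK x * r⁻¹ = S.sA f hf hK ((s : K) * s / t * x) ∧
    r * S.sB f hf hK x * r⁻¹ = S.sB f hf hK ((s : K) * t / (f s * f (f s)) * x) ∧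
    r * S.sC f hf hK x * r⁻¹ = S.sC f hf hK ((s : K) * f (f s) / f s * x) := by
  have hrt : Commute (π r) (π S.t) := by
    rw [hr, S.map_t]
    exact isTor_comm f hf hK ⟨s, t, ht, rfl⟩ ⟨_, _, _, rfl⟩
  refine ⟨sig_conj S.surj S.cen _ hrt (fun y => ?_) x, sig_conj S.surj S.cen _ hrt (fun y => ?_) x,
    sig_conj S.surj S.cen _ hrt (fun y => ?_) x⟩ <;> rw [hr]
  exacts [tH_conj_hA f hf hK s t ht y, tH_conj_hB f hf hK s t ht y, tH_conj_hC f hf hK s t ht y]

theorem Setup.nb_conj (x : K) :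
    S.nb f hf hK * S.sA f hf hK x * (S.nb f hf hK)⁻¹ = S.sB f hf hK x ∧
    S.nb f hf hK * S.sC f hf hK x * (S.nb f hf hK)⁻¹ = S.sC f hf hK x := by
  have hn : Commute (π (S.nb f hf hK)) (π S.t) := by
    rw [S.map_nb, S.map_t]
    exact ((tH_long f hf hK S.s₀ S.norm).2.2.2).symm
  refine ⟨?_, ?_⟩
  · have h := sig_conj S.surj S.cen ((S.s₀ : K) * S.s₀) (e' := hB f hf hK) (μ := 1) hn
      (fun y => by rw [S.map_nb, one_mul]; rfl) x
    rwa [one_mul] at h
  · have h := sig_conj S.surj S.cen ((f S.s₀ * f S.s₀ : K)⁻¹) (e' := hC f hf hK) (μ := 1) hn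
      (fun y => by rw [S.map_nb, one_mul]; exact nb_hC f hf hK y) x
    rwa [one_mul] at h

/-! ### Lifts of long root elements -/

/-- A lift of an element of the long root groups outside the simple one. -/
def IsLong (a : E) : Prop := ∃ u v, π a = h1 f hf hK u * h2 f hf hK v

theorem h_zero : hA f hf hK 0 = 1 ∧ hB f hf hK 0 = 1 ∧ hC f hf hK 0 = 1 ∧ hb f hf hK 0 = 1 ∧
    h1 f hf hK 0 = 1 ∧ h2 f hf hK 0 = 1 :=
  ⟨add_map_zero _ (hA_add f hf hK), add_map_zero _ (hB_add f hf hK),
    add_map_zero _ (hC_add f hf hK), by simpa using hb_add f hf hK 0 0,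
    by simpa using h1_add f hf hK 0 0, by simpa using h2_add f hf hK 0 0⟩

include S in
theorem long_short {a : E} (ha : IsLong f hf hK a (π := π)) {b : E} {x : K}
    (hb : π b = hA f hf hK x ∨ π b = hB f hf hK x ∨ π b = hC f hf hK x) : Commute a b := by
  obtain ⟨u, v, ha⟩ := ha
  obtain ⟨-, l1, l2, -⟩ := tH_long f hf hK S.s₀ S.norm
  obtain ⟨⟨c1, c2, c3⟩, -⟩ := commute_long f hf hK u
  obtain ⟨-, ⟨d1, d2, d3⟩, -⟩ := commute_long f hf hK v
  have hta : Commute (π S.t) (π a) := by rw [S.map_t, ha]; exact (l1 u).mul_right (l2 v)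
  obtain ⟨n1, n2, n3⟩ := norm_conj f hf hK S.norm
  rcases hb with hb | hb | hb
  · exact fixed_commute S.surj S.cen S.ne (hA_add f hf hK) (fun x => by rw [S.map_t]; exact n1 x)
      hta (fun x => by rw [ha]; exact (c1 x).mul_left (d1 x)) hb
  · exact fixed_commute S.surj S.cen S.ne (hB_add f hf hK) (fun x => by rw [S.map_t]; exact n2 x)
      hta (fun x => by rw [ha]; exact (c2 x).mul_left (d2 x)) hb
  · exact fixed_commute S.surj S.cen (S.ne' f hf hK) (hC_add f hf hK)
      (fun x => by rw [S.map_t]; exact n3 x) hta (fun x => by rw [ha]; exact (c3 x).mul_left (d3 x)) hb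

include S in
theorem long_tor {a : E} (ha : IsLong f hf hK a (π := π)) {s : Kˣ}
    (hs : (s : K) * f s * f (f s) = 1) {r : E} (hr : π r = tH f hf hK s 1 (map_one f)) :
    Commute r a := by
  obtain ⟨u, v, ha⟩ := ha
  haveI := S.charP
  haveI : Fact S.p.Prime := ⟨S.prime⟩
  obtain ⟨-, l1, l2, -⟩ := tH_long f hf hK s hs
  have hz : π ⁅r, a⁆ = 1 := ker_of_commute (by rw [hr, ha]; exact (l1 u).mul_right (l2 v))
  have hpow : ∀ n : ℕ, ⁅r, a ^ n⁆ = ⁅r, a⁆ ^ n ∧ ⁅r ^ n, a⁆ = ⁅r, a⁆ ^ n := fun n => by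
    induction n with
    | zero => simp
    | succ n ih =>
      constructor
      · rw [pow_succ, comm_mul_of_commute (ker_comm π S.cen hz _), ih.1, pow_succ]
      · rw [pow_succ', mul_comm_of_commute (ker_comm π S.cen (by rw [ih.2, map_pow, hz, one_pow]) _),
          ih.2, pow_succ]
  have e1 : ⁅r, a⁆ ^ S.p = 1 := by
    rw [← (hpow S.p).1, commutatorElement_eq_one_iff_commute]
    refine ker_comm π S.cen ?_ r
    have h1p : ∀ n : ℕ, (h1 f hf hK u) ^ n = h1 f hf hK ((n : L0 f) * u) ∧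
        (h2 f hf hK v) ^ n = h2 f hf hK ((n : L0 f) * v) := fun n => by
      induction n with
      | zero => simp [(h_zero f hf hK).2.2.2.2.1, (h_zero f hf hK).2.2.2.2.2]
      | succ n ih =>
        constructor
        · rw [pow_succ, ih.1, ← h1_add]; congr 1; push_cast; ring
        · rw [pow_succ, ih.2, ← h2_add]; congr 1; push_cast; ring
    haveI : CharP ↥(L0 f) S.p := (L0 f).subtype.charP Subtype.val_injective S.p
    rw [map_pow, ha, ((commute_long f hf hK u).2.2.2.2 v).mul_pow, (h1p _).1, (h1p _).2,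
      CharP.cast_eq_zero, zero_mul, zero_mul, (h_zero f hf hK).2.2.2.2.1,
      (h_zero f hf hK).2.2.2.2.2, mul_one]
  have e2 : ⁅r, a⁆ ^ (Fintype.card K - 1) = 1 := by
    rw [← (hpow _).2, commutatorElement_eq_one_iff_commute]
    refine (ker_comm π S.cen ?_ a).symm
    classical
    rw [map_pow, hr, tH_one_pow, ← Fintype.card_units, pow_card_eq_one]
    refine Subtype.ext ?_
    show certFullD4.torus (D4.zOf f (1 : Kˣ) 1) = 1
    rw [show D4.zOf f (1 : Kˣ) 1 = 1 from funext fun j => by simp [D4.zOf], map_one]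
  have hco : Nat.Coprime S.p (Fintype.card K - 1) := by
    refine S.prime.coprime_iff_not_dvd.2 fun h => ?_
    obtain ⟨k, hkp, hcard⟩ := FiniteField.card K S.p
    have hdvd : S.p ∣ Fintype.card K := hcard ▸ dvd_pow_self _ k.2.ne'
    have := Nat.dvd_sub hdvd h
    have h1 := Fintype.one_lt_card (α := K)
    rw [show Fintype.card K - (Fintype.card K - 1) = 1 by omega] at this
    exact S.prime.not_dvd_one this
  have := pow_gcd_eq_one.2 ⟨e1, e2⟩
  rw [hco, pow_one] at this
  exact commutatorElement_eq_one_iff_commute.1 this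

/-- The commutator pairing of the first and the third short root group. -/
noncomputable def Setup.B (x w : K) : E := ⁅S.sA f hf hK x, S.sC f hf hK w⁆

theorem Setup.map_B (x w : K) : π (S.B f hf hK x w) = h1 f hf hK (trL f hf hK (x * f (f w))) := by
  rw [Setup.B, map_commutatorElement, S.map_sA, S.map_sC, comm_AC]

theorem Setup.B_long (x w : K) : IsLong f hf hK (S.B f hf hK x w) (π := π) :=
  ⟨trL f hf hK (x * f (f w)), 0, by rw [S.map_B, (h_zero f hf hK).2.2.2.2.2, mul_one]⟩

include S in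
theorem long_long {a b : E} (ha : IsLong f hf hK a (π := π)) (hb : IsLong f hf hK b (π := π)) :
    Commute a b := by
  obtain ⟨u, v, ha⟩ := ha
  have hw : ∀ c : L0 f, trL f hf hK (1 * f (f (f ((c : K) * S.a₀)))) = c := fun c => by
    refine Subtype.ext ?_
    show tr f (1 * f (f (f ((c : K) * S.a₀)))) = c
    rw [one_mul, f3 f hf hK, tr, map_mul, map_mul, show f (c : K) = c from c.2,
      show f (c : K) = c from c.2]
    have := S.tr_a₀
    rw [tr] at this
    linear_combination (c : K) * this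
  have c1 : ∀ w, Commute ⁅S.sA f hf hK 1, S.sC f hf hK w⁆ b := fun w => by
    rw [commutatorElement_def]
    have hA' := (long_short f hf hK S hb (Or.inl (S.map_sA f hf hK 1))).symm
    have hC' := (long_short f hf hK S hb (Or.inr (Or.inr (S.map_sC f hf hK w)))).symm
    exact ((hA'.mul_left hC').mul_left hA'.inv_left).mul_left hC'.inv_left
  have c2 : ∀ w, Commute ⁅S.sB f hf hK 1, S.sC f hf hK w⁆ b := fun w => by
    rw [commutatorElement_def]
    have hA' := (long_short f hf hK S hb (Or.inr (Or.inl (S.map_sB f hf hK 1)))).symm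
    have hC' := (long_short f hf hK S hb (Or.inr (Or.inr (S.map_sC f hf hK w)))).symm
    exact ((hA'.mul_left hC').mul_left hA'.inv_left).mul_left hC'.inv_left
  refine commute_congr π S.cen ?_ (rfl : π b = π b)
    ((c1 (f ((u : K) * S.a₀))).mul_left (c2 (f ((v : K) * S.a₀))))
  rw [map_mul, map_commutatorElement, map_commutatorElement, S.map_sA, S.map_sB, S.map_sC,
    S.map_sC, comm_AC, comm_BC, hw, hw, ha]

theorem Setup.B_add_left (x x' w : K) :
    S.B f hf hK (x + x') w = S.B f hf hK x w * S.B f hf hK x' w := by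
  rw [Setup.B, S.sA_add, mul_comm_of_commute
    ((long_short f hf hK S (S.B_long f hf hK x' w) (Or.inl (S.map_sA f hf hK x))).symm)]
  exact (long_long f hf hK S (S.B_long f hf hK x' w) (S.B_long f hf hK x w)).eq

theorem Setup.B_add_right (x w w' : K) :
    S.B f hf hK x (w + w') = S.B f hf hK x w * S.B f hf hK x w' := by
  rw [Setup.B, S.sC_add, comm_mul_of_commute
    ((long_short f hf hK S (S.B_long f hf hK x w') (Or.inr (Or.inr (S.map_sC f hf hK w)))).symm)]
  rfl

/-- The pairing is balanced over the whole field. -/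
theorem Setup.B_balanced (u x w : K) :
    S.B f hf hK (u * x) w = S.B f hf hK x (f u * w) := by
  revert x w
  refine norm_one_span f hf hK (D4.one_lt_q f hf hK)
    (P := fun u => ∀ x w, S.B f hf hK (u * x) w = S.B f hf hK x (f u * w)) ?_ ?_ ?_ ?_ u
  · intro x w; rw [map_one, one_mul, one_mul]
  · intro a b ha hb x w
    rw [add_mul, S.B_add_left, ha, hb, ← S.B_add_right, map_add, add_mul]
  · intro a b ha hb x w
    rw [mul_assoc, ha, hb, map_mul, ← mul_assoc, mul_comm (f b)]
  · intro r hr x w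
    obtain ⟨e, he⟩ := S.surj (tH f hf hK r 1 (map_one f))
    obtain ⟨eA, -, -⟩ := S.tor_conj f hf hK (map_one f) he x
    obtain ⟨-, -, eC⟩ := S.tor_conj f hf hK (map_one f) he (f ((r : K) * r) * w)
    have h := conjugate_commutatorElement (S.sA f hf hK x) (S.sC f hf hK (f ((r : K) * r) * w)) e
    rw [eA, eC, show ⁅S.sA f hf hK x, S.sC f hf hK (f ((r : K) * r) * w)⁆ =
      S.B f hf hK x (f ((r : K) * r) * w) from rfl, (long_tor f hf hK S (S.B_long f hf hK x (f ((r : K) * r) * w)) hr he).eq,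
      mul_inv_cancel_right] at h
    have hf1 : f (r : K) ≠ 0 := (map_ne_zero f).2 r.ne_zero
    have e1 : (r : K) * f (f r) / f r * (f ((r : K) * r) * w) = w := by
      rw [map_mul]; field_simp
      linear_combination w * hr
    rw [e1, Units.val_one, div_one] at h
    exact h.symm

/-- The function of one variable of the pairing. -/
noncomputable def Setup.g (c : K) : E := S.B f hf hK 1 c

theorem Setup.B_eq (x w : K) : S.B f hf hK x w = S.g f hf hK (f x * w) := by
  rw [Setup.g, ← S.B_balanced, mul_one]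

theorem Setup.g_add (c d : K) : S.g f hf hK (c + d) = S.g f hf hK c * S.g f hf hK d :=
  S.B_add_right f hf hK 1 c d

end Cfsg.Agent.Classical.Triality
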