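import Mathlib

/-!
Central extensions: commutators of lifts, the transfer bound on the kernel, lifts of elements of prime power
order along a kernel of coprime order.
-/

set_option autoImplicit false
set_option linter.unusedSectionVars false

namespace Cfsg.Agent.Classical.UnitMult

open scoped commutatorElement

/-- An additive map on a field turning inversion into inversion vanishes once the field has five elements. -/
theorem hua_trivial {K A : Type*} [Field K] [Fintype K] [CommGroup A] (h5 : 5 ≤ Fintype.card K) (f : K → A)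
    (hadd : ∀ x y, f (x + y) = f x * f y) (hinv : ∀ x, x ≠ 0 → f x⁻¹ = (f x)⁻¹) (x : K) : f x = 1 := by
  classical
  have h0 : f 0 = 1 := by
    have := hadd 0 0
    rwa [add_zero, left_eq_mul] at this
  have hneg : ∀ a, f (-a) = (f a)⁻¹ := fun a =>
    eq_inv_of_mul_eq_one_right (by rw [← hadd, add_neg_cancel, h0])
  have hsub : ∀ a b, f (a - b) = f a * (f b)⁻¹ := fun a b => by rw [sub_eq_add_neg, hadd, hneg]
  have key : ∀ a y : K, a ≠ 0 → y ≠ 0 → a * y ≠ 1 → f (a * y * a) = f a * f y := by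
    intro a y ha hy hay
    have hd : y⁻¹ - a ≠ 0 := sub_ne_zero.2 fun e => hay (by rw [← e, inv_mul_cancel₀ hy])
    have hs : a⁻¹ + (y⁻¹ - a)⁻¹ = y⁻¹ / (a * (y⁻¹ - a)) := by field_simp; ring
    have hs0 : a⁻¹ + (y⁻¹ - a)⁻¹ ≠ 0 := hs ▸ div_ne_zero (inv_ne_zero hy) (mul_ne_zero ha hd)
    have hid : a * y * a = a - (a⁻¹ + (y⁻¹ - a)⁻¹)⁻¹ := by
      rw [hs, inv_div, div_inv_eq_mul]
      have hyy : y⁻¹ * y = 1 := inv_mul_cancel₀ hy
      linear_combination a * hyy
    rw [hid, hsub, hinv _ hs0, inv_inv, hadd, hinv _ ha, hinv _ hd, hsub, hinv _ hy]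
    group
  rcases eq_or_ne x 0 with rfl | hx
  · exact h0
  obtain ⟨y₁, hy₁⟩ : ∃ y₁, y₁ ∈ (Finset.univ \ {0, x⁻¹} : Finset K) := by
    refine Finset.card_pos.1 ?_
    have h1 := Finset.card_le_two (a := (0 : K)) (b := x⁻¹)
    rw [Finset.card_sdiff, Finset.card_univ]
    have h2 := Finset.card_le_card (Finset.inter_subset_left (s₁ := ({0, x⁻¹} : Finset K)) (s₂ := Finset.univ))
    omega
  obtain ⟨y₂, hy₂⟩ : ∃ y₂, y₂ ∈ (Finset.univ \ {0, x⁻¹, -y₁, x⁻¹ - y₁} : Finset K) := by
    refine Finset.card_pos.1 ?_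
    have h1 := Finset.card_le_four (a := (0 : K)) (b := x⁻¹) (c := -y₁) (d := x⁻¹ - y₁)
    rw [Finset.card_sdiff, Finset.card_univ]
    have h2 := Finset.card_le_card
      (Finset.inter_subset_left (s₁ := ({0, x⁻¹, -y₁, x⁻¹ - y₁} : Finset K)) (s₂ := Finset.univ))
    omega
  simp only [Finset.mem_sdiff, Finset.mem_univ, true_and, Finset.mem_insert, Finset.mem_singleton,
    not_or] at hy₁ hy₂
  obtain ⟨a1, b1⟩ := hy₁
  obtain ⟨a2, b2, c2, d2⟩ := hy₂
  have hne : ∀ y : K, y ≠ x⁻¹ → x * y ≠ 1 := fun y hy e => hy (eq_inv_of_mul_eq_one_right e)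
  have e1 := key x y₁ hx a1 (hne _ b1)
  have e2 := key x y₂ hx a2 (hne _ b2)
  have e3 := key x (y₁ + y₂) hx (fun e => c2 (by linear_combination e))
    (hne _ fun e => d2 (by linear_combination e))
  rw [show x * (y₁ + y₂) * x = x * y₁ * x + x * y₂ * x by ring, hadd, e1, e2, hadd,
    mul_mul_mul_comm] at e3
  exact left_eq_mul.1 (mul_right_cancel e3).symm

variable {E H : Type*} [Group E] [Group H] (π : E →* H) (hπ : Function.Surjective π)

/-- A preimage. -/
noncomputable def lf (x : H) : E := Function.surjInv hπ x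

theorem π_lf (x : H) : π (lf π hπ x) = x := Function.surjInv_eq hπ x

variable (hc : π.ker ≤ Subgroup.center E)

include hc

theorem ker_comm {z : E} (hz : π z = 1) (e : E) : Commute e z :=
  Subgroup.mem_center_iff.1 (hc hz) e

theorem comm_congr {a a' b b' : E} (ha : π a = π a') (hb : π b = π b') : ⁅a, b⁆ = ⁅a', b'⁆ := by
  have hz : π (a'⁻¹ * a) = 1 := by rw [map_mul, map_inv, ha, inv_mul_cancel]
  have hy : π (b'⁻¹ * b) = 1 := by rw [map_mul, map_inv, hb, inv_mul_cancel]
  rw [show a = a' * (a'⁻¹ * a) by group, show b = b' * (b'⁻¹ * b) by group]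
  generalize a'⁻¹ * a = z at hz
  generalize b'⁻¹ * b = y at hy
  rw [commutatorElement_def, commutatorElement_def]
  calc a' * z * (b' * y) * (a' * z)⁻¹ * (b' * y)⁻¹
      = a' * (z * (b' * y)) * z⁻¹ * a'⁻¹ * y⁻¹ * b'⁻¹ := by group
    _ = a' * b' * (y * a'⁻¹) * y⁻¹ * b'⁻¹ := by rw [← (ker_comm π hc hz (b' * y)).eq]; group
    _ = _ := by rw [← (ker_comm π hc hy a'⁻¹).eq]; group

theorem commute_congr {a a' b b' : E} (ha : π a = π a') (hb : π b = π b') (h : Commute a b) : Commute a' b' :=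
  commutatorElement_eq_one_iff_commute.1
    ((comm_congr π hc ha hb).symm.trans (commutatorElement_eq_one_iff_commute.2 h))

/-- A commutator fixed by an element: it commutes with the lift. -/
theorem commute_comm_lift {a b e : E} (ha : Commute (π a) (π e)) (hb : Commute (π b) (π e)) :
    Commute e ⁅a, b⁆ := by
  have h : e * ⁅a, b⁆ * e⁻¹ = ⁅a, b⁆ := by
    rw [conjugate_commutatorElement]
    refine comm_congr π hc ?_ ?_
    · rw [map_mul, map_mul, map_inv, ← ha.eq, mul_inv_cancel_right]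
    · rw [map_mul, map_mul, map_inv, ← hb.eq, mul_inv_cancel_right]
  exact mul_inv_eq_iff_eq_mul.1 h

include hπ in
/-- Lifts of a cyclic group commute. -/
theorem commute_of_zpowers {g : H} {a b : E} (ha : π a ∈ Subgroup.zpowers g) (hb : π b ∈ Subgroup.zpowers g) :
    Commute a b := by
  obtain ⟨i, hi⟩ := Subgroup.mem_zpowers_iff.1 ha
  obtain ⟨j, hj⟩ := Subgroup.mem_zpowers_iff.1 hb
  refine commute_congr π hc (a := lf π hπ g ^ i) (b := lf π hπ g ^ j) ?_ ?_ (Commute.zpow_zpow_self _ i j)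
  · rw [map_zpow, π_lf, hi]
  · rw [map_zpow, π_lf, hj]

omit hc

section Derived

variable {π}

theorem commutator_le_of_gens {S : Set E} {N : Subgroup E} (hN : ∀ g ∈ S, ∀ n ∈ N, g * n * g⁻¹ ∈ N)
    (hN' : ∀ g ∈ S, ∀ n ∈ N, g⁻¹ * n * g ∈ N) (h : ∀ a ∈ S, ∀ b ∈ S, ⁅a, b⁆ ∈ N) :
    ⁅Subgroup.closure S, Subgroup.closure S⁆ ≤ N := by
  set T := Subgroup.closure S with hT
  have hnorm : ∀ g ∈ T, ∀ n ∈ N, g * n * g⁻¹ ∈ N ∧ g⁻¹ * n * g ∈ N := by
    intro g hg
    induction hg using Subgroup.closure_induction with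
    | mem x hx => exact fun n hn => ⟨hN x hx n hn, hN' x hx n hn⟩
    | one => intro n hn; simp [hn]
    | mul x y _ _ hx hy =>
      intro n hn
      refine ⟨?_, ?_⟩
      · have := (hx _ (hy n hn).1).1
        simpa [mul_assoc] using this
      · have := (hy _ (hx n hn).2).2
        simpa [mul_assoc] using this
    | inv x _ hx => intro n hn; exact ⟨by simpa using (hx n hn).2, by simpa using (hx n hn).1⟩
  have hone : ∀ a ∈ S, ∀ y ∈ T, ⁅a, y⁆ ∈ N := by
    intro a ha y hy
    induction hy using Subgroup.closure_induction with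
    | mem x hx => exact h a ha x hx
    | one => rw [commutatorElement_one_right]; exact one_mem _
    | mul x y hx _ ihx ihy =>
      rw [show ⁅a, x * y⁆ = ⁅a, x⁆ * (x * ⁅a, y⁆ * x⁻¹) by simp only [commutatorElement_def]; group]
      exact mul_mem ihx (hnorm x hx _ ihy).1
    | inv x hx ihx =>
      rw [show ⁅a, x⁻¹⁆ = x⁻¹ * ⁅a, x⁆⁻¹ * x by simp only [commutatorElement_def]; group]
      exact (hnorm x hx _ (inv_mem ihx)).2
  rw [Subgroup.commutator_le]
  intro x hx y hy
  induction hx using Subgroup.closure_induction with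
  | mem a ha => exact hone a ha y hy
  | one => rw [commutatorElement_one_left]; exact one_mem _
  | mul x z hx _ ihx ihz =>
    rw [show ⁅x * z, y⁆ = x * ⁅z, y⁆ * x⁻¹ * ⁅x, y⁆ by simp only [commutatorElement_def]; group]
    exact mul_mem (hnorm x hx _ ihz).1 ihx
  | inv x hx ihx =>
    rw [show ⁅x⁻¹, y⁆ = x⁻¹ * ⁅x, y⁆⁻¹ * x by simp only [commutatorElement_def]; group]
    exact (hnorm x hx _ (inv_mem ihx)).2

end Derived

include hπ hc

/-- The preimage of an abelian normal subgroup extended by one element. -/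
theorem inf_derived_eq_one {A : Subgroup H} {b : H} (hA : ∀ a a' : E, π a ∈ A → π a' ∈ A → Commute a a')
    (hb : ∀ a ∈ A, b * a * b⁻¹ ∈ A) (hb' : ∀ a ∈ A, b⁻¹ * a * b ∈ A)
    (hfix : ∀ a be : E, π a ∈ A → π be = b → Commute (π a) b → Commute a be)
    {z : E} (hz : π z = 1) (hzd : z ∈ ⁅(A ⊔ Subgroup.zpowers b).comap π, (A ⊔ Subgroup.zpowers b).comap π⁆) :
    z = 1 := by
  obtain ⟨be, hbe⟩ := hπ b
  have hcj : ∀ a : E, π a ∈ A → π (be * a * be⁻¹) ∈ A := fun a ha => by
    rw [map_mul, map_mul, map_inv, hbe]; exact hb _ ha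
  let N : Subgroup E :=
    { carrier := {x | ∃ a, π a ∈ A ∧ x = ⁅be, a⁆}
      one_mem' := ⟨1, by rw [map_one]; exact one_mem A, (commutatorElement_one_right be).symm⟩
      mul_mem' := by
        rintro _ _ ⟨a, ha, rfl⟩ ⟨a', ha', rfl⟩
        refine ⟨a * a', by rw [map_mul]; exact mul_mem ha ha', ?_⟩
        have hy : π ⁅be, a'⁆ ∈ A := by
          rw [commutatorElement_def, map_mul, map_inv π a']; exact mul_mem (hcj a' ha') (inv_mem ha')
        rw [show ⁅be, a * a'⁆ = ⁅be, a⁆ * (a * ⁅be, a'⁆ * a⁻¹) by simp only [commutatorElement_def]; group,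
          (hA a _ ha hy).eq, mul_inv_cancel_right]
      inv_mem' := by
        rintro _ ⟨a, ha, rfl⟩
        refine ⟨a⁻¹, by rw [map_inv]; exact inv_mem ha, ?_⟩
        have hy : π ⁅be, a⁆⁻¹ ∈ A := by
          rw [map_inv, commutatorElement_def, map_mul, map_inv π a]
          exact inv_mem (mul_mem (hcj a ha) (inv_mem ha))
        rw [show ⁅be, a⁻¹⁆ = a⁻¹ * ⁅be, a⁆⁻¹ * a by simp only [commutatorElement_def]; group, mul_assoc,
          ← (hA a _ ha hy).eq, inv_mul_cancel_left] }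
  have hNA : ∀ n ∈ N, π n ∈ A := by
    rintro _ ⟨a, ha, rfl⟩
    rw [commutatorElement_def, map_mul, map_inv π a]
    exact mul_mem (hcj a ha) (inv_mem ha)
  set S : Set E := {x | π x ∈ A} ∪ {be} with hS
  have hle : (A ⊔ Subgroup.zpowers b).comap π ≤ Subgroup.closure S := by
    intro x hx
    have hmap : A ⊔ Subgroup.zpowers b ≤ (Subgroup.closure S).map π := by
      rw [sup_le_iff, Subgroup.zpowers_le]
      refine ⟨fun a ha => ?_, ⟨be, Subgroup.subset_closure (Or.inr rfl), hbe⟩⟩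
      obtain ⟨a', rfl⟩ := hπ a
      exact ⟨a', Subgroup.subset_closure (Or.inl ha), rfl⟩
    obtain ⟨y, hy, hyx⟩ := hmap hx
    rw [show x = y * (y⁻¹ * x) by group]
    refine mul_mem hy (Subgroup.subset_closure (Or.inl ?_))
    show π (y⁻¹ * x) ∈ A
    rw [map_mul, map_inv, hyx, inv_mul_cancel]
    exact one_mem A
  have hd : ⁅Subgroup.closure S, Subgroup.closure S⁆ ≤ N := by
    refine commutator_le_of_gens ?_ ?_ ?_
    · rintro g (hg | rfl) n hn
      · rw [(hA g n hg (hNA n hn)).eq, mul_inv_cancel_right]; exact hn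
      · obtain ⟨a, ha, rfl⟩ := hn
        exact ⟨g * a * g⁻¹, hcj a ha, by rw [conjugate_commutatorElement, mul_inv_cancel_right]⟩
    · rintro g (hg | rfl) n hn
      · rw [show g⁻¹ * n * g = g⁻¹ * n * g⁻¹⁻¹ by rw [inv_inv],
          (hA g⁻¹ n (by rw [map_inv]; exact inv_mem hg) (hNA n hn)).eq, mul_inv_cancel_right]
        exact hn
      · obtain ⟨a, ha, rfl⟩ := hn
        refine ⟨g⁻¹ * a * g, ?_, by simp only [commutatorElement_def]; group⟩
        rw [map_mul, map_mul, map_inv, hbe]; exact hb' _ ha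
    · rintro x (hx | rfl) y (hy | rfl)
      · rw [commutatorElement_eq_one_iff_commute.2 (hA x y hx hy)]; exact one_mem _
      · rw [← commutatorElement_inv]; exact inv_mem ⟨x, hx, rfl⟩
      · exact ⟨y, hy, rfl⟩
      · rw [commutatorElement_self]; exact one_mem _
  obtain ⟨a, ha, rfl⟩ := hd (Subgroup.commutator_mono hle hle hzd)
  refine commutatorElement_eq_one_iff_commute.2 (hfix a be ha hbe ?_).symm
  rw [map_commutatorElement, hbe, commutatorElement_eq_one_iff_commute] at hz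
  exact hz.symm

omit hπ

/-- A subgroup with cyclic factor group over a split part. -/
theorem inf_derived_of_split {M M₀ : Subgroup H} {S : Subgroup E} (hSM : ∀ s ∈ S, π s ∈ M₀)
    (hsurj : ∀ g ∈ M₀, ∃ s ∈ S, π s = g) (hker : ∀ s ∈ S, π s = 1 → s = 1)
    (hnorm : ∀ e : E, π e ∈ M → ∀ s ∈ S, e * s * e⁻¹ ∈ S) {g : H} (hg : g ∈ M)
    (hgen : M = M₀ ⊔ Subgroup.zpowers g) {z : E} (hz : π z = 1)
    (hzd : z ∈ ⁅M.comap π, M.comap π⁆) (hπ : Function.Surjective π) : z = 1 := by
  obtain ⟨ge, hge⟩ := hπ g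
  set T : Set E := (S : Set E) ∪ (π.ker : Set E) ∪ {ge}
  have hTM : ∀ t ∈ T, π t ∈ M := by
    rintro t ((ht | ht) | rfl)
    · exact hgen ▸ Subgroup.mem_sup_left (hSM t ht)
    · rw [MonoidHom.mem_ker.1 ht]; exact one_mem M
    · rw [hge]; exact hg
  have hle : M.comap π ≤ Subgroup.closure T := by
    intro x hx
    have hmap : M ≤ (Subgroup.closure T).map π := by
      rw [hgen, sup_le_iff, Subgroup.zpowers_le]
      refine ⟨fun a ha => ?_, ⟨ge, Subgroup.subset_closure (Or.inr rfl), hge⟩⟩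
      obtain ⟨s, hs, rfl⟩ := hsurj a ha
      exact ⟨s, Subgroup.subset_closure (Or.inl (Or.inl hs)), rfl⟩
    obtain ⟨y, hy, hyx⟩ := hmap hx
    rw [show x = y * (y⁻¹ * x) by group]
    refine mul_mem hy (Subgroup.subset_closure (Or.inl (Or.inr ?_)))
    show π (y⁻¹ * x) = 1
    rw [map_mul, map_inv, hyx, inv_mul_cancel]
  have hd : ⁅Subgroup.closure T, Subgroup.closure T⁆ ≤ S := by
    refine commutator_le_of_gens (fun t ht n hn => hnorm t (hTM t ht) n hn) (fun t ht n hn => ?_) ?_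
    · simpa using hnorm t⁻¹ (by rw [map_inv]; exact inv_mem (hTM t ht)) n hn
    · have hcen : ∀ u ∈ π.ker, ∀ v : E, ⁅u, v⁆ = 1 ∧ ⁅v, u⁆ = 1 := fun u hu v =>
        ⟨commutatorElement_eq_one_iff_commute.2 (ker_comm π hc hu v).symm,
          commutatorElement_eq_one_iff_commute.2 (ker_comm π hc hu v)⟩
      rintro a ha b ((hb | hb) | rfl)
      · rw [commutatorElement_def]; exact mul_mem (hnorm a (hTM a ha) b hb) (inv_mem hb)
      · rw [(hcen b hb a).2]; exact one_mem _
      · rcases ha with (ha | ha) | rfl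
        · rw [← commutatorElement_inv, commutatorElement_def]
          exact inv_mem (mul_mem (hnorm b (hTM b (Or.inr rfl)) a ha) (inv_mem ha))
        · rw [(hcen a ha _).1]; exact one_mem _
        · rw [commutatorElement_self]; exact one_mem _
  exact hker z (hd (Subgroup.commutator_mono hle hle hzd)) hz

omit hc

/-- A central element of the derived group lies in the derived group of a subgroup of coprime index. -/
theorem mem_derived_of_transfer [Finite E] (Y : Subgroup E) {z : E} (hzc : z ∈ Subgroup.center E)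
    (hzY : z ∈ Y) (hzd : z ∈ commutator E) (hco : (orderOf z).Coprime Y.index) : z ∈ ⁅Y, Y⁆ := by
  classical
  haveI : Y.FiniteIndex := ⟨Subgroup.index_ne_zero_of_finite⟩
  let φ : Y →* Abelianization Y := Abelianization.of
  have key : ∀ (k : ℕ) (g₀ : E), g₀⁻¹ * z ^ k * g₀ ∈ Y → g₀⁻¹ * z ^ k * g₀ = z ^ k := fun k g₀ _ => by
    rw [mul_assoc, ← Subgroup.mem_center_iff.1 (pow_mem hzc k) g₀, inv_mul_cancel_left]
  have h1 : MonoidHom.transfer φ z = 1 := Abelianization.commutator_subset_ker _ hzd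
  rw [MonoidHom.transfer_eq_pow φ z key] at h1
  have h2 : z ^ Y.index ∈ ⁅Y, Y⁆ := by
    have h3 := Subgroup.mem_map_of_mem Y.subtype ((QuotientGroup.eq_one_iff _).1 h1)
    rwa [commutator_def, Subgroup.map_commutator, ← MonoidHom.range_eq_map, Subgroup.range_subtype] at h3
  obtain ⟨m, hm⟩ := exists_pow_eq_self_of_coprime hco.symm
  rw [← hm]
  exact pow_mem h2 m

end Cfsg.Agent.Classical.UnitMult
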