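import Mathlib
import Cfsg.Agent.Lib.Recog.PSLTwoSpectrum

/-!
The group `M₂(q) ⋊ (±1 × PSL(2, q))`, `q ≡ 3 (mod 4)` a power of 3, with `g X = g X σ(g)ᵀ` for the
Frobenius automorphism `σ`.
-/

set_option autoImplicit false

namespace Cfsg.Agent.TwistTensor

open Matrix

variable (F : Type) [Field F] [Fintype F] [CharP F 3]

local notation "SL" => Matrix.SpecialLinearGroup (Fin 2) F
local notation "PSL" => Matrix.ProjectiveSpecialLinearGroup (Fin 2) F
local notation "M2" => Matrix (Fin 2) (Fin 2) F

/-- the twist -/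
def tw (A : M2) : M2 := A.map (frobenius F 3)

theorem tw_one : tw F 1 = 1 := by
  rw [tw]; exact Matrix.map_one _ (map_zero _) (map_one _)

theorem tw_mul (A B : M2) : tw F (A * B) = tw F A * tw F B := Matrix.map_mul

theorem tw_smul (c : F) (A : M2) : tw F (c • A) = c ^ 3 • tw F A := by
  ext i j; simp [tw, frobenius_def, mul_pow]

theorem coeMul (A B : SL) : ((A * B : SL) : M2) = (A : M2) * (B : M2) := rfl

theorem coePow (A : SL) (n : ℕ) : ((A ^ n : SL) : M2) = (A : M2) ^ n := by
  induction n with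
  | zero => rfl
  | succ n ih => rw [pow_succ, coeMul, ih, pow_succ]

/-- the sign as a scalar -/
def sgn : ℤˣ →* F := (Int.castRingHom F).toMonoidHom.comp (Units.coeHom ℤ)

theorem sgn_apply (e : ℤˣ) : sgn F e = 1 ∨ sgn F e = -1 := by
  rcases Int.units_eq_one_or e with rfl | rfl <;> simp [sgn]

/-- the action on the module -/
def actFun (x : ℤˣ × SL) (X : M2) : M2 :=
  sgn F x.1 • ((x.2 : M2) * X * (tw F (x.2 : M2))ᵀ)

theorem actFun_one (X : M2) : actFun F 1 X = X := by
  simp [actFun, tw_one]

theorem actFun_mul (x y : ℤˣ × SL) (X : M2) : actFun F (x * y) X = actFun F x (actFun F y X) := by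
  simp only [actFun, Prod.fst_mul, Prod.snd_mul, map_mul, coeMul, tw_mul,
    transpose_mul, Matrix.mul_smul, Matrix.smul_mul, smul_smul, Matrix.mul_assoc]

theorem actFun_add (x : ℤˣ × SL) (X Y : M2) : actFun F x (X + Y) = actFun F x X + actFun F x Y := by
  simp [actFun, Matrix.mul_add, Matrix.add_mul, smul_add]

/-- the action as automorphisms -/
def act0 : ℤˣ × SL →* MulAut (Multiplicative M2) where
  toFun x :=
    { toFun := fun X => Multiplicative.ofAdd (actFun F x (Multiplicative.toAdd X))
      invFun := fun X => Multiplicative.ofAdd (actFun F x⁻¹ (Multiplicative.toAdd X))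
      left_inv := fun X => by simp [← actFun_mul, actFun_one]
      right_inv := fun X => by simp [← actFun_mul, actFun_one]
      map_mul' := fun X Y => by simp [actFun_add] }
  map_one' := MulEquiv.ext fun X => by simp [actFun_one]
  map_mul' x y := MulEquiv.ext fun X => by simp [actFun_mul]

theorem act0_center (A : SL) (hA : A ∈ Subgroup.center SL) : act0 F (1, A) = 1 := by
  obtain ⟨c, hc, hM⟩ := (PSL2Spec.proj_eq_one_iff A).mp
    (by rw [PSL2Spec.proj, QuotientGroup.mk'_apply, QuotientGroup.eq_one_iff]; exact hA)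
  refine MulEquiv.ext fun X => ?_
  change Multiplicative.ofAdd (actFun F (1, A) (Multiplicative.toAdd X)) = X
  rw [actFun, hM, tw_smul, tw_one]
  have h4 : c * c ^ 3 = 1 := by linear_combination (c ^ 2 + 1) * hc
  simp [smul_smul, mul_comm (c ^ 3) c, h4]

theorem ker_le : Subgroup.center SL ≤ ((act0 F).comp (MonoidHom.inr ℤˣ SL)).ker := by
  intro A hA
  exact act0_center F A hA

/-- the action of `±1 × PSL(2, q)` -/
def act : ℤˣ × PSL →* MulAut (Multiplicative M2) :=
  MonoidHom.noncommCoprod ((act0 F).comp (MonoidHom.inl ℤˣ SL))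
    (QuotientGroup.lift _ ((act0 F).comp (MonoidHom.inr ℤˣ SL)) (ker_le F)) (by
      intro e g
      obtain ⟨A, rfl⟩ := QuotientGroup.mk'_surjective _ g
      change Commute (act0 F (e, 1)) (act0 F (1, A))
      rw [Commute, SemiconjBy, ← map_mul, ← map_mul]
      simp)

theorem act_proj (e : ℤˣ) (A : SL) (X : Multiplicative M2) :
    act F (e, PSL2Spec.proj A) X = Multiplicative.ofAdd (actFun F (e, A) (Multiplicative.toAdd X)) := by
  change (act0 F (e, 1) * act0 F (1, A)) X = _
  rw [← map_mul]
  simp [act0]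

/-- the group -/
abbrev H : Type := Multiplicative M2 ⋊[act F] (ℤˣ × PSL)

variable {F}

theorem cube_mult (w : Multiplicative M2) : w ^ 3 = 1 := by
  apply Multiplicative.toAdd.injective
  rw [toAdd_pow, toAdd_one]
  ext i j
  simp [show (3 : F) = 0 from mod_cast CharP.cast_eq_zero F 3, nsmul_eq_mul]

theorem pow_eq_one_of_right {x : H F} {N : ℕ} (h : x.right ^ N = 1) :
    x ^ (3 * N) = 1 ∧ ((∀ w, act F x.right w = w → w = 1) → x ^ N = 1) := by
  have hr : (x ^ N).right = 1 := by
    rw [← SemidirectProduct.rightHom_eq_right, map_pow]; exact h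
  obtain ⟨w, hw⟩ : ∃ w, x ^ N = SemidirectProduct.inl w :=
    ⟨(x ^ N).left, SemidirectProduct.ext (by simp) (by simp [hr])⟩
  constructor
  · rw [mul_comm, pow_mul, hw, ← map_pow, cube_mult, map_one]
  · intro hf
    have hc : x * x ^ N = x ^ N * x := (Commute.self_pow x N).eq
    rw [hw] at hc ⊢
    have h1 := congrArg SemidirectProduct.left hc
    simp only [SemidirectProduct.mul_left, SemidirectProduct.left_inl, SemidirectProduct.right_inl,
      map_one, MulAut.one_apply] at h1
    rw [mul_comm w] at h1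
    rw [hf w (mul_left_cancel h1), map_one]

/-- fixed-point-freeness -/
theorem actFun_fixed {e : ℤˣ} {A : SL} {X : M2}
    (ht : (A : M2).trace ^ 3 ≠ sgn F e * (A : M2).trace) (h : actFun F (e, A) X = X) : X = 0 := by
  set t := (A : M2).trace with htdef
  set B := (tw F (A : M2))ᵀ with hB
  have hsq := PSL2Spec.sl_sq A
  have hB2 : B * B = t ^ 3 • B - 1 := by
    have := congrArg (fun M => (tw F M)ᵀ) hsq
    simp only [tw_mul, transpose_mul] at this
    rw [this]
    ext i j
    fin_cases i <;> fin_cases j <;> simp [tw, hB, frobenius_def, sub_pow_char, mul_pow, htdef]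
  set ε := sgn F e
  have hε : ε * ε = 1 := by rcases sgn_apply F e with h | h <;> simp [ε, h]
  have h' : (A : M2) * X * B = ε • X := by
    change ε • ((A : M2) * X * B) = X at h
    conv_rhs => rw [← h]
    rw [smul_smul, hε, one_smul]
  -- apply the quadratic equation on both sides
  have h2 : (A : M2) * ((A : M2) * X * B) * B = X := by
    rw [h', Matrix.mul_smul, Matrix.smul_mul, h', smul_smul, hε, one_smul]
  have h3 : (A : M2) * ((A : M2) * X * B) * B
      = ((A : M2) * (A : M2)) * X * (B * B) := by simp only [Matrix.mul_assoc]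
  rw [h3, hsq, hB2, ← htdef] at h2
  have h4 : t ^ 3 • ((A : M2) * X * B) * (1 : M2) = t ^ 3 • ε • X := by rw [h', Matrix.mul_one]
  have key : ((t • (A : M2) - 1) * X * (t ^ 3 • B - 1))
      = (t * t ^ 3) • ((A : M2) * X * B) - t • ((A : M2) * X) - t ^ 3 • (X * B) + X := by
    simp only [sub_mul, mul_sub, Matrix.smul_mul, Matrix.mul_smul, smul_sub, smul_smul, one_mul, mul_one]
    rw [mul_comm (t ^ 3) t]
    abel
  rw [key, h'] at h2
  have hlin : (t * t ^ 3 * ε) • X = t • ((A : M2) * X) + t ^ 3 • (X * B) := by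
    rw [← smul_smul]
    have := h2
    linear_combination (norm := abel) this
  -- multiply on the right by `B`
  have hmul := congrArg (· * B) hlin
  simp only [Matrix.smul_mul, Matrix.add_mul] at hmul
  rw [h', Matrix.mul_assoc X B B, hB2, Matrix.mul_sub, Matrix.mul_smul, mul_one, smul_smul, smul_sub,
    smul_smul] at hmul
  have hX : (t * ε - t ^ 3) • X = (t ^ 3 * (t * ε - t ^ 3)) • (X * B) := by
    rw [mul_sub, sub_smul, sub_smul, ← mul_assoc, mul_comm (t ^ 3) t]
    linear_combination (norm := abel) -hmul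
  have hne : t * ε - t ^ 3 ≠ 0 := fun hh => ht (by linear_combination -hh)
  have hX2 : X = t ^ 3 • (X * B) := by
    have := congrArg ((t * ε - t ^ 3)⁻¹ • ·) hX
    simp only [smul_smul] at this
    rw [inv_mul_cancel₀ hne, one_smul, mul_comm (t ^ 3), ← mul_assoc, inv_mul_cancel₀ hne, one_mul] at this
    exact this
  -- hence `X B² = 0`
  have hz : X * (B * B) = 0 := by
    rw [hB2, Matrix.mul_sub, Matrix.mul_smul, mul_one, ← hX2, sub_self]
  have hu : B * (adjugate B) = 1 := by
    rw [Matrix.mul_adjugate]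
    have : B.det = 1 := by
      rw [hB, det_transpose, tw, ← RingHom.mapMatrix_apply, ← RingHom.map_det, A.2, map_one]
    rw [this, one_smul]
  calc X = X * (B * B) * (adjugate B * adjugate B) := by
        rw [Matrix.mul_assoc X, Matrix.mul_assoc B B, ← Matrix.mul_assoc B (adjugate B), hu, one_mul, hu, mul_one]
    _ = 0 := by rw [hz, zero_mul]

theorem three_eq : (3 : F) = 0 := by exact_mod_cast CharP.cast_eq_zero F 3

theorem sl_cube (A : SL) :
    ((A ^ 3 : SL) : M2) = ((A : M2).trace ^ 2 - 1) • (A : M2) - (A : M2).trace • 1 := by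
  rw [coePow _, pow_succ, pow_two, PSL2Spec.sl_sq A, sub_mul, Matrix.smul_mul,
    PSL2Spec.sl_sq A, one_mul]
  simp only [smul_sub, smul_smul, sub_smul, one_smul, ← pow_two]
  abel

/-- every element order divides one of the four numbers -/
theorem order_dvd (h4 : Fintype.card F % 4 = 3) (x : H F) :
    orderOf x ∣ 6 ∨ orderOf x ∣ 9 ∨ orderOf x ∣ Fintype.card F - 1 ∨
      orderOf x ∣ (Fintype.card F + 1) / 2 := by
  haveI : Fact (Nat.Prime 3) := ⟨Nat.prime_three⟩
  obtain ⟨v, e, g⟩ := x
  obtain ⟨A, rfl⟩ := QuotientGroup.mk'_surjective _ g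
  set x : H F := ⟨v, e, PSL2Spec.proj A⟩ with hxdef
  change orderOf x ∣ 6 ∨ orderOf x ∣ 9 ∨ _ ∨ _
  set t := (A : M2).trace with htdef
  have he : e ^ 2 = 1 := Int.units_sq e
  have hfix : t ^ 3 ≠ sgn F e * t → ∀ w, act F x.right w = w → w = 1 := by
    intro ht w hw
    change act F (e, PSL2Spec.proj A) w = w at hw
    rw [act_proj] at hw
    apply Multiplicative.toAdd.injective
    exact actFun_fixed ht (congrArg Multiplicative.toAdd hw)
  have hxr : x.right = (e, PSL2Spec.proj A) := rfl
  by_cases ht0 : t = 0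
  · left
    apply orderOf_dvd_of_pow_eq_one
    refine (pow_eq_one_of_right (N := 2) ?_).1
    rw [hxr, Prod.pow_mk, he, ← map_pow, Prod.mk_eq_one, PSL2Spec.proj_eq_one_iff]
    refine ⟨rfl, -1, by ring, ?_⟩
    rw [coePow _, pow_two, PSL2Spec.sl_sq A, ← htdef, ht0]
    simp
  by_cases ht1 : t ^ 2 = 1
  · have hg : PSL2Spec.proj A ^ 3 = 1 := by
      rw [← map_pow, PSL2Spec.proj_eq_one_iff]
      refine ⟨-t, by linear_combination ht1, ?_⟩
      rw [sl_cube, ← htdef, ht1]
      simp
    rcases Int.units_eq_one_or e with he1 | he1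
    · right; left
      apply orderOf_dvd_of_pow_eq_one
      refine (pow_eq_one_of_right (N := 3) ?_).1
      rw [hxr, Prod.pow_mk, hg, he1, one_pow]; rfl
    · left
      apply orderOf_dvd_of_pow_eq_one
      refine (pow_eq_one_of_right (N := 6) ?_).2 (hfix ?_)
      · rw [hxr, Prod.pow_mk, show 6 = 2 * 3 from rfl, pow_mul, he, one_pow, mul_comm, pow_mul, hg, one_pow]; rfl
      · rw [he1]
        intro h
        simp [sgn] at h
        have : t = 0 := by linear_combination -h + t * ht1 + t * (three_eq (F := F))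
        exact ht0 this
  have ht : t ^ 3 ≠ sgn F e * t := by
    intro h
    rcases sgn_apply F e with he1 | he1 <;> rw [he1] at h
    · exact ht1 (mul_left_cancel₀ ht0 (by linear_combination h))
    · exact FiniteField.isSquare_neg_one_iff.mp ⟨t, mul_left_cancel₀ ht0 (by linear_combination -h)⟩ h4
  have hd : PSL2Spec.dd F = 2 := by
    unfold PSL2Spec.dd
    exact Nat.gcd_eq_left (by omega)
  rcases PSL2Spec.order_dvd 3 (PSL2Spec.proj A) with h | h | h
  · left
    apply orderOf_dvd_of_pow_eq_one
    refine (pow_eq_one_of_right (N := 6) ?_).2 (hfix ht)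
    change (e, PSL2Spec.proj A) ^ 6 = 1
    rw [Prod.pow_mk, orderOf_dvd_iff_pow_eq_one.mp (h.trans (show 3 ∣ 6 from ⟨2, rfl⟩)), show 6 = 2 * 3 from rfl, pow_mul, he, one_pow]
    rfl
  · right; right; left
    rw [hd] at h
    have h2 : Fintype.card F - 1 = 2 * ((Fintype.card F - 1) / 2) := by omega
    apply orderOf_dvd_of_pow_eq_one
    refine (pow_eq_one_of_right ?_).2 (hfix ht)
    change (e, PSL2Spec.proj A) ^ (Fintype.card F - 1) = 1
    rw [Prod.pow_mk, orderOf_dvd_iff_pow_eq_one.mp (h.trans ⟨2, by rw [mul_comm]; exact h2⟩), h2, pow_mul,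
      he, one_pow]
    rfl
  · right; right; right
    rw [hd] at h
    have h2 : (Fintype.card F + 1) / 2 = 2 * ((Fintype.card F + 1) / 4) := by omega
    apply orderOf_dvd_of_pow_eq_one
    refine (pow_eq_one_of_right ?_).2 (hfix ht)
    change (e, PSL2Spec.proj A) ^ ((Fintype.card F + 1) / 2) = 1
    rw [Prod.pow_mk, orderOf_dvd_iff_pow_eq_one.mp h, h2, pow_mul, he, one_pow]
    rfl

theorem exists_six : ∃ x : H F, orderOf x = 6 := by
  let w : SL := ⟨!![0, 1; -1, 0], by simp [Matrix.det_fin_two]⟩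
  let X : Multiplicative M2 := Multiplicative.ofAdd 1
  let s : ℤˣ × PSL := (1, PSL2Spec.proj w)
  refine ⟨⟨X, s⟩, ?_⟩
  have hsX : act F s X = X := by
    rw [act_proj]
    apply congrArg Multiplicative.ofAdd
    ext i j
    fin_cases i <;> fin_cases j <;>
      simp [X, actFun, sgn, tw, w, Matrix.mul_apply, Fin.sum_univ_two, frobenius_def, Matrix.vecMul, dotProduct] <;> norm_num
  have hs : orderOf s = 2 := by
    refine orderOf_eq_prime ?_ fun h => ?_
    · rw [Prod.pow_mk, one_pow, ← map_pow, Prod.mk_eq_one, PSL2Spec.proj_eq_one_iff]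
      refine ⟨rfl, -1, by ring, ?_⟩
      rw [coePow _]
      ext i j
      fin_cases i <;> fin_cases j <;> simp [w, pow_two, Matrix.mul_apply, Fin.sum_univ_two]
    · obtain ⟨c, -, hc⟩ := (PSL2Spec.proj_eq_one_iff w).mp (Prod.mk_eq_one.mp h).2
      have := congrFun (congrFun hc 0) 1
      simp [w] at this
  have hc : Commute (SemidirectProduct.inl X : H F) (SemidirectProduct.inr s) := by
    refine SemidirectProduct.ext ?_ ?_ <;> simp [hsX]
  have hX : orderOf X = 3 := by
    haveI : Fact (Nat.Prime 3) := ⟨Nat.prime_three⟩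
    refine orderOf_eq_prime (cube_mult X) fun h => ?_
    exact one_ne_zero (α := M2) (congrArg Multiplicative.toAdd h)
  rw [SemidirectProduct.mk_eq_inl_mul_inr, hc.orderOf_mul_eq_mul_orderOf_of_coprime,
    orderOf_injective _ SemidirectProduct.inl_injective, orderOf_injective _ SemidirectProduct.inr_injective,
    hX, hs]
  rw [orderOf_injective _ SemidirectProduct.inl_injective, orderOf_injective _ SemidirectProduct.inr_injective,
    hX, hs]
  decide

theorem exists_nine : ∃ x : H F, orderOf x = 9 := by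
  haveI : Fact (Nat.Prime 3) := ⟨Nat.prime_three⟩
  let A : SL := ⟨!![1, 1; 0, 1], by simp [Matrix.det_fin_two]⟩
  let X : Multiplicative M2 := Multiplicative.ofAdd !![0, 0; 0, 1]
  refine ⟨⟨X, (1, PSL2Spec.proj A)⟩, ?_⟩
  set x : H F := ⟨X, (1, PSL2Spec.proj A)⟩ with hxdef
  have hg : PSL2Spec.proj A ^ 3 = 1 := by
    rw [← map_pow, PSL2Spec.proj_eq_one_iff]
    refine ⟨1, one_pow 2, ?_⟩
    rw [sl_cube]
    ext i j
    fin_cases i <;> fin_cases j <;> simp [A, Matrix.trace_fin_two] <;>
      first | ring1 | exact (three_eq (F := F)) | linear_combination (three_eq (F := F)) | linear_combination -(three_eq (F := F))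
  refine orderOf_eq_prime_pow (p := 3) (n := 1) ?_ ?_
  · rw [pow_one]
    intro h
    have h3 : x ^ 3 = x * x * x := by rw [pow_succ, pow_two]
    have hl := congrArg SemidirectProduct.left (h3 ▸ h)
    simp only [SemidirectProduct.mul_left, SemidirectProduct.mul_right, SemidirectProduct.one_left] at hl
    rw [hxdef] at hl
    simp only [Prod.mk_mul_mk, one_mul, ← map_mul, act_proj] at hl
    have hl' : (!![0, 0; 0, 1] : M2) + actFun F (1, A) !![0, 0; 0, 1]
        + actFun F (1, A * A) !![0, 0; 0, 1] = 0 := congrArg Multiplicative.toAdd hl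
    have hA : (A : M2) = !![1, 1; 0, 1] := rfl
    have hAA : ((A * A : SL) : M2) = !![1, 2; 0, 1] := by
      rw [coeMul, hA, Matrix.mul_fin_two]; norm_num
    have htw : ∀ b : F, (tw F !![1, b; 0, 1])ᵀ = !![1, 0; b ^ 3, 1] := by
      intro b; ext i j; fin_cases i <;> fin_cases j <;> simp [tw, frobenius_def]
    simp only [actFun, hA, hAA, htw, Matrix.mul_fin_two, map_one, one_smul] at hl'
    have h0 := congrFun (congrFun hl' 0) 0
    simp at h0
    have : (2 : F) = 0 := by linear_combination h0 - 5 * (three_eq (F := F))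
    exact one_ne_zero (α := F) (by linear_combination (three_eq (F := F)) - this)
  · refine (pow_eq_one_of_right (N := 3) ?_).1
    rw [hxdef, Prod.pow_mk, one_pow, hg]; rfl

theorem exists_split (h4 : Fintype.card F % 4 = 3) :
    (∃ x : H F, orderOf x = Fintype.card F - 1) ∧ (∃ x : H F, orderOf x = (Fintype.card F + 1) / 2) := by
  haveI : Fact (Nat.Prime 3) := ⟨Nat.prime_three⟩
  have hd : PSL2Spec.dd F = 2 := by unfold PSL2Spec.dd; exact Nat.gcd_eq_left (by omega)
  obtain ⟨g, hg⟩ := PSL2Spec.exists_order_split (F := F)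
  obtain ⟨k, hk⟩ := PSL2Spec.exists_order_nonsplit (F := F) 3
  rw [hd] at hg hk
  refine ⟨⟨SemidirectProduct.inr (-1, g), ?_⟩, ⟨SemidirectProduct.inr (1, k), ?_⟩⟩
  · rw [orderOf_injective _ SemidirectProduct.inr_injective, Prod.orderOf, hg]
    have h1 : orderOf (-1 : ℤˣ) = 2 := orderOf_eq_prime (Int.units_sq _) (by decide)
    rw [h1]
    have hc : Nat.Coprime 2 ((Fintype.card F - 1) / 2) :=
      (Nat.prime_two.coprime_iff_not_dvd).mpr (by omega)
    rw [hc.lcm_eq_mul]; omega
  · rw [orderOf_injective _ SemidirectProduct.inr_injective, Prod.orderOf, orderOf_one, Nat.lcm_one_left, hk]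

end Cfsg.Agent.TwistTensor
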