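import Mathlib

/-!
Common tools for the unions of two conjugacy classes of subgroups.
-/

set_option autoImplicit false

namespace Cfsg.Agent.Classical.TwoCover

/-- The group is the union of the conjugates of two proper subgroups. -/
def HasTwoCover (G : Type*) [Group G] : Prop :=
  ∃ H K : Subgroup G, H ≠ ⊤ ∧ K ≠ ⊤ ∧ ∀ g : G, ∃ x : G, x * g * x⁻¹ ∈ H ∨ x * g * x⁻¹ ∈ K

/-- Covers by subgroups containing the kernel pass to quotients. -/
theorem HasTwoCover.map {G G' : Type*} [Group G] [Group G'] (f : G →* G') (hf : Function.Surjective f)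
    {H K : Subgroup G} (hH : H ≠ ⊤) (hK : K ≠ ⊤) (kH : f.ker ≤ H) (kK : f.ker ≤ K)
    (hc : ∀ g : G, ∃ x : G, x * g * x⁻¹ ∈ H ∨ x * g * x⁻¹ ∈ K) : HasTwoCover G' := by
  refine ⟨H.map f, K.map f, fun h => hH ?_, fun h => hK ?_, fun g => ?_⟩
  · rw [← Subgroup.comap_map_eq_self kH, h, Subgroup.comap_top]
  · rw [← Subgroup.comap_map_eq_self kK, h, Subgroup.comap_top]
  · obtain ⟨g, rfl⟩ := hf g
    obtain ⟨x, hx⟩ := hc g
    exact ⟨f x, hx.imp (fun h => ⟨_, h, by simp⟩) fun h => ⟨_, h, by simp⟩⟩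

/-- The quotient by the centre. -/
theorem HasTwoCover.center {G : Type*} [Group G] {H K : Subgroup G} (hH : H ≠ ⊤) (hK : K ≠ ⊤)
    (kH : Subgroup.center G ≤ H) (kK : Subgroup.center G ≤ K)
    (hc : ∀ g : G, ∃ x : G, x * g * x⁻¹ ∈ H ∨ x * g * x⁻¹ ∈ K) :
    HasTwoCover (G ⧸ Subgroup.center G) :=
  HasTwoCover.map (QuotientGroup.mk' _) (QuotientGroup.mk'_surjective _) hH hK
    (by rwa [QuotientGroup.ker_mk']) (by rwa [QuotientGroup.ker_mk']) hc

/-- A functional that vanishes on a kernel factors through the map. -/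
theorem exists_functional {F V W : Type*} [Field F] [AddCommGroup V] [Module F V] [AddCommGroup W]
    [Module F W] (T : V →ₗ[F] W) (ℓ : V →ₗ[F] F) (h : ∀ x, T x = 0 → ℓ x = 0) :
    ∃ μ : W →ₗ[F] F, ∀ x, μ (T x) = ℓ x := by
  have hm : ℓ ∈ LinearMap.range T.dualMap := by
    rw [LinearMap.range_dualMap_eq_dualAnnihilator_ker, Submodule.mem_dualAnnihilator]
    exact h
  obtain ⟨μ, hμ⟩ := hm
  exact ⟨μ, fun x => by rw [← hμ]; rfl⟩

/-- In characteristic two the values `c² + c` form a subgroup of index two. -/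
theorem exists_artinSchreier (F : Type*) [Field F] [Finite F] [CharP F 2] :
    ∃ ν : F, (∀ c : F, c ^ 2 + c ≠ ν) ∧
      ∀ d : F, (∃ c, c ^ 2 + c = d) ∨ ∃ c, c ^ 2 + c = d + ν := by
  let φ : F →+ F :=
    { toFun := fun c => c ^ 2 + c
      map_zero' := by simp
      map_add' := fun a b => by rw [CharTwo.add_sq]; ring }
  have hk : (φ.ker : Set F) = {0, 1} := by
    ext c
    constructor
    · intro hc
      have h : c * (c + 1) = 0 := by
        have : c ^ 2 + c = 0 := hc
        linear_combination this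
      rcases mul_eq_zero.1 h with h | h
      · exact Or.inl h
      · exact Or.inr (CharTwo.add_eq_zero.1 h)
    · rintro (rfl | rfl)
      · exact φ.ker.zero_mem
      · show (1 : F) ^ 2 + 1 = 0
        rw [one_pow, CharTwo.add_self_eq_zero]
  have hk2 : Nat.card φ.ker = 2 := by
    rw [show Nat.card φ.ker = Set.ncard (φ.ker : Set F) from Nat.card_coe_set_eq _, hk,
      Set.ncard_pair zero_ne_one]
  have hi : φ.range.index = 2 := by
    have h1 := φ.range.card_mul_index
    have h2 := φ.ker.card_mul_index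
    rw [AddSubgroup.index_ker, hk2] at h2
    have h3 : 0 < Nat.card φ.range := Nat.card_pos
    nlinarith
  obtain ⟨ν, hν⟩ := AddSubgroup.index_eq_two_iff.1 hi
  refine ⟨ν, fun c hc => ?_, fun d => ?_⟩
  · rcases hν 0 with ⟨h1, h2⟩ | ⟨h1, h2⟩
    · exact h2 φ.range.zero_mem
    · exact h2 ⟨c, by rw [zero_add]; exact hc⟩
  · rcases hν d with ⟨h1, -⟩ | ⟨h1, -⟩
    · exact Or.inr h1
    · exact Or.inl h1

end Cfsg.Agent.Classical.TwoCover
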