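import Cfsg.Agent.Lib.Classical.TwoClassCoverAux
import Cfsg.Agent.Lib.Fus.GTwoModel

/-!
`G₂(q)`, `q` even, is the union of the conjugates of two proper subgroups: every automorphism
fixes a pair `{x, x + 1}` with `t(x) = 1` and `N(x) ∈ {0, ν}`, and the automorphisms are transitive
on such elements of a given norm.
-/

set_option autoImplicit false
set_option linter.unusedSectionVars false

namespace Cfsg.Agent.Classical.TwoCover.GTwo

open Matrix
open Cfsg.Agent.Fus.GTwoSylow

variable {F : Type} [Field F]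

local notation "MM" => Matrix (Fin 2) (Fin 2) F
local notation "V8" => (Fin 8 → F)

/-- The unit of the algebra. -/
def one8 (F : Type) [Field F] : Fin 8 → F := ![1, 0, 0, 0, 0, 0, 0, 1]

/-- The trace. -/
def tr8 (x : Fin 8 → F) : F := x 0 + x 7

/-- The norm. -/
def nm8 (x : Fin 8 → F) : F := x 0 * x 7 - (x 1 * x 4 + x 2 * x 5 + x 3 * x 6)

/-- The polar form of the norm. -/
def bil8 (x y : Fin 8 → F) : F :=
  x 0 * y 7 + x 7 * y 0 - (x 1 * y 4 + x 4 * y 1 + x 2 * y 5 + x 5 * y 2 + x 3 * y 6 + x 6 * y 3)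

theorem one8_mul (x : V8) : Lie.zornMul (one8 F) x = x := by
  funext i
  fin_cases i <;> simp [one8, Lie.zornMul, Lie.dot3, Lie.cross3]

theorem mul_one8 (x : V8) : Lie.zornMul x (one8 F) = x := by
  funext i
  fin_cases i <;> simp [one8, Lie.zornMul, Lie.dot3, Lie.cross3]

theorem sq_eq (x : V8) : Lie.zornMul x x = tr8 x • x - nm8 x • one8 F := by
  funext i
  fin_cases i <;> simp [one8, tr8, nm8, Lie.zornMul, Lie.dot3, Lie.cross3] <;> ring

theorem nm8_add_smul (x : V8) (c : F) : nm8 (x + c • one8 F) = nm8 x + c * tr8 x + c ^ 2 := by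
  simp [nm8, tr8, one8]; ring

theorem tr8_add_smul (x : V8) (c : F) : tr8 (x + c • one8 F) = tr8 x + 2 * c := by
  simp [tr8, one8]; ring

theorem nm8_add (x y : V8) : nm8 (x + y) = nm8 x + nm8 y + bil8 x y := by
  simp [nm8, bil8]; ring

theorem app_one8 (g : Lie.G2 F) : app g (one8 F) = one8 F := by
  have h : ∀ y, Lie.zornMul (app g (one8 F)) y = y := fun y => by
    have e := app_zorn g (one8 F) (app g⁻¹ y)
    rw [one8_mul] at e
    rw [show app g (app g⁻¹ y) = y by rw [← app_mul, mul_inv_cancel, app_one]] at e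
    exact e.symm
  exact (mul_one8 _).symm.trans (h _)

theorem invariants (g : Lie.G2 F) (x : V8) : tr8 (app g x) = tr8 x ∧ nm8 (app g x) = nm8 x := by
  by_cases hx : ∃ c : F, x = c • one8 F
  · obtain ⟨c, rfl⟩ := hx
    rw [app_smul, app_one8]; exact ⟨rfl, rfl⟩
  have h1 := app_zorn g x x
  rw [sq_eq x, sq_eq (app g x),
    show tr8 x • x - nm8 x • one8 F = tr8 x • x + (-nm8 x) • one8 F by module, app_add, app_smul,
    app_smul, app_one8] at h1
  have h2 : (tr8 x - tr8 (app g x)) • app g x = (nm8 x - nm8 (app g x)) • one8 F := by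
    linear_combination (norm := module) h1
  have h3 : tr8 x - tr8 (app g x) = 0 := by
    by_contra hne
    have e := congrArg (fun z => (tr8 x - tr8 (app g x))⁻¹ • z) h2
    simp only [smul_smul, inv_mul_cancel₀ hne, one_smul] at e
    have e2 := congrArg (app g⁻¹) e
    rw [app_inv, app_smul, app_one8] at e2
    exact hx ⟨_, e2⟩
  rw [h3, zero_smul] at h2
  have h4 := congrFun h2 0
  simp [one8] at h4
  exact ⟨(sub_eq_zero.1 h3).symm, (sub_eq_zero.1 h4.symm).symm⟩

theorem bil8_app (g : Lie.G2 F) (x y : V8) : bil8 (app g x) (app g y) = bil8 x y := by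
  have h := (invariants g (x + y)).2
  rw [app_add, nm8_add, nm8_add, (invariants g x).2, (invariants g y).2] at h
  linear_combination h

/-! ### The action of `SL₃` -/

/-- The linear action of a matrix pair on the two vector parts. -/
def slAct (M : Matrix (Fin 3) (Fin 3) F) (x : V8) : V8 :=
  ![x 0, (M *ᵥ Lie.zA F x) 0, (M *ᵥ Lie.zA F x) 1, (M *ᵥ Lie.zA F x) 2,
    (M.adjugateᵀ *ᵥ Lie.zB F x) 0, (M.adjugateᵀ *ᵥ Lie.zB F x) 1, (M.adjugateᵀ *ᵥ Lie.zB F x) 2, x 7]

theorem slAct_zA (M : Matrix (Fin 3) (Fin 3) F) (x : V8) : Lie.zA F (slAct M x) = M *ᵥ Lie.zA F x := by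
  funext i; fin_cases i <;> rfl

theorem slAct_zB (M : Matrix (Fin 3) (Fin 3) F) (x : V8) :
    Lie.zB F (slAct M x) = M.adjugateᵀ *ᵥ Lie.zB F x := by
  funext i; fin_cases i <;> rfl

theorem dot_congr (M : Matrix (Fin 3) (Fin 3) F) (a d : Fin 3 → F) :
    Lie.dot3 (M *ᵥ a) (M.adjugateᵀ *ᵥ d) = M.det * Lie.dot3 a d := by
  simp [Lie.dot3, Matrix.det_fin_three, Matrix.adjugate_fin_three, Matrix.mulVec, dotProduct,
    Fin.sum_univ_three]
  ring

theorem cross_congr (M : Matrix (Fin 3) (Fin 3) F) (a c : Fin 3 → F) :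
    Lie.cross3 (M *ᵥ a) (M *ᵥ c) = M.adjugateᵀ *ᵥ Lie.cross3 a c := by
  funext i
  fin_cases i <;> simp [Lie.cross3, Matrix.adjugate_fin_three, Matrix.mulVec, dotProduct,
    Fin.sum_univ_three] <;> ring

theorem cross_congr' (M : Matrix (Fin 3) (Fin 3) F) (a c : Fin 3 → F) :
    Lie.cross3 (M.adjugateᵀ *ᵥ a) (M.adjugateᵀ *ᵥ c) = M.det • (M *ᵥ Lie.cross3 a c) := by
  funext i
  fin_cases i <;> simp [Lie.cross3, Matrix.det_fin_three, Matrix.adjugate_fin_three, Matrix.mulVec,
    dotProduct, Fin.sum_univ_three] <;> ring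

theorem slAct_mul (M : Matrix (Fin 3) (Fin 3) F) (hM : M.det = 1) (x y : V8) :
    slAct M (Lie.zornMul x y) = Lie.zornMul (slAct M x) (slAct M y) := by
  have e1 : Lie.zA F (Lie.zornMul x y) =
      x 0 • Lie.zA F y + y 7 • Lie.zA F x - Lie.cross3 (Lie.zB F x) (Lie.zB F y) := by
    funext i; fin_cases i <;> rfl
  have e2 : Lie.zB F (Lie.zornMul x y) =
      y 0 • Lie.zB F x + x 7 • Lie.zB F y + Lie.cross3 (Lie.zA F x) (Lie.zA F y) := by
    funext i; fin_cases i <;> rfl
  have d0 : Lie.dot3 (Lie.zA F (slAct M x)) (Lie.zB F (slAct M y)) =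
      Lie.dot3 (Lie.zA F x) (Lie.zB F y) := by
    rw [slAct_zA, slAct_zB, dot_congr, hM, one_mul]
  have d7 : Lie.dot3 (Lie.zB F (slAct M x)) (Lie.zA F (slAct M y)) =
      Lie.dot3 (Lie.zB F x) (Lie.zA F y) := by
    have : ∀ u v : Fin 3 → F, Lie.dot3 u v = Lie.dot3 v u := fun u v => by simp [Lie.dot3]; ring
    rw [this, slAct_zA, slAct_zB, dot_congr, hM, one_mul, this]
  have hA : M *ᵥ Lie.zA F (Lie.zornMul x y) =
      x 0 • Lie.zA F (slAct M y) + y 7 • Lie.zA F (slAct M x)
        - Lie.cross3 (Lie.zB F (slAct M x)) (Lie.zB F (slAct M y)) := by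
    rw [e1, slAct_zA, slAct_zA, slAct_zB, slAct_zB, cross_congr', hM, one_smul, Matrix.mulVec_sub,
      Matrix.mulVec_add, Matrix.mulVec_smul, Matrix.mulVec_smul]
  have hB : M.adjugateᵀ *ᵥ Lie.zB F (Lie.zornMul x y) =
      y 0 • Lie.zB F (slAct M x) + x 7 • Lie.zB F (slAct M y)
        + Lie.cross3 (Lie.zA F (slAct M x)) (Lie.zA F (slAct M y)) := by
    rw [e2, slAct_zA, slAct_zA, slAct_zB, slAct_zB, cross_congr, Matrix.mulVec_add, Matrix.mulVec_add,
      Matrix.mulVec_smul, Matrix.mulVec_smul]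
  funext i
  fin_cases i
  · show x 0 * y 0 + Lie.dot3 (Lie.zA F x) (Lie.zB F y) =
      x 0 * y 0 + Lie.dot3 (Lie.zA F (slAct M x)) (Lie.zB F (slAct M y))
    rw [d0]
  · exact congrFun hA 0
  · exact congrFun hA 1
  · exact congrFun hA 2
  · exact congrFun hB 0
  · exact congrFun hB 1
  · exact congrFun hB 2
  · show Lie.dot3 (Lie.zB F x) (Lie.zA F y) + x 7 * y 7 =
      Lie.dot3 (Lie.zB F (slAct M x)) (Lie.zA F (slAct M y)) + x 7 * y 7
    rw [d7]

/-- The linear map of the action. -/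
def slLin (M : Matrix (Fin 3) (Fin 3) F) : V8 →ₗ[F] V8 where
  toFun := slAct M
  map_add' x y := by
    funext i
    fin_cases i <;> simp [slAct, Matrix.mulVec, dotProduct, Fin.sum_univ_three] <;> ring
  map_smul' c x := by
    funext i
    fin_cases i <;> simp [slAct, Matrix.mulVec, dotProduct, Fin.sum_univ_three] <;> ring

/-- `SL₃` inside `G₂`. -/
theorem exists_slAct (M : Matrix (Fin 3) (Fin 3) F) (hM : M.det = 1) :
    ∃ g : Lie.G2 F, ∀ x, app g x = slAct M x := by
  have hinj : Function.Injective (slLin M) := by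
    rw [← LinearMap.ker_eq_bot, Submodule.eq_bot_iff]
    intro x (hx : slAct M x = 0)
    have ha := slAct_zA M x
    have hb := slAct_zB M x
    rw [hx] at ha hb
    have z1 : Lie.zA F (0 : V8) = 0 := by funext i; fin_cases i <;> rfl
    have z2 : Lie.zB F (0 : V8) = 0 := by funext i; fin_cases i <;> rfl
    rw [z1] at ha
    rw [z2] at hb
    have ha' := Matrix.eq_zero_of_mulVec_eq_zero (by rw [hM]; exact one_ne_zero) ha.symm
    have hb' := Matrix.eq_zero_of_mulVec_eq_zero
      (by rw [Matrix.det_transpose, Matrix.det_adjugate, hM, one_pow]; exact one_ne_zero) hb.symm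
    funext i
    fin_cases i
    · exact congrFun hx 0
    · exact congrFun ha' 0
    · exact congrFun ha' 1
    · exact congrFun ha' 2
    · exact congrFun hb' 0
    · exact congrFun hb' 1
    · exact congrFun hb' 2
    · exact congrFun hx 7
  have hu : IsUnit (LinearMap.toMatrix' (slLin M)) := by
    rw [← Matrix.mulVec_injective_iff_isUnit]
    intro x y h
    simp only [LinearMap.toMatrix'_mulVec] at h
    exact hinj h
  obtain ⟨u, hu⟩ := hu
  refine ⟨⟨u, fun x y => ?_⟩, fun x => ?_⟩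
  · show (u : Matrix (Fin 8) (Fin 8) F) *ᵥ Lie.zornMul x y =
      Lie.zornMul ((u : Matrix (Fin 8) (Fin 8) F) *ᵥ x) ((u : Matrix (Fin 8) (Fin 8) F) *ᵥ y)
    simp only [hu, LinearMap.toMatrix'_mulVec]
    exact slAct_mul M hM x y
  · show (u : Matrix (Fin 8) (Fin 8) F) *ᵥ x = _
    rw [hu, LinearMap.toMatrix'_mulVec]; rfl

/-- A normal form of a vector and a covector. -/
theorem exists_frame (a b : Fin 3 → F) (h : Lie.dot3 a b ≠ 0) :
    ∃ M : Matrix (Fin 3) (Fin 3) F, M.det = 1 ∧ M *ᵥ a = ![1, 0, 0] ∧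
      (M.adjugateᵀ *ᵥ b) 1 = 0 ∧ (M.adjugateᵀ *ᵥ b) 2 = 0 := by
  obtain ⟨u, v, huv, hub, hvb⟩ : ∃ u v : Fin 3 → F, Lie.dot3 a (Lie.cross3 u v) = 1 ∧
      Lie.dot3 u b = 0 ∧ Lie.dot3 v b = 0 := by
    have hc : Lie.dot3 a b = a 0 * b 0 + a 1 * b 1 + a 2 * b 2 := rfl
    by_cases h0 : b 0 = 0
    · by_cases h1 : b 1 = 0
      · have h2 : b 2 ≠ 0 := fun h2 => h (by simp [Lie.dot3, h0, h1, h2])
        refine ⟨![b 2 * (b 2 * Lie.dot3 a b)⁻¹, 0, 0], ![0, b 2, 0], ?_, by simp [Lie.dot3, h0],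
          by simp [Lie.dot3, h1]⟩
        rw [hc] at h ⊢
        simp [Lie.dot3, Lie.cross3, h0, h1] at h ⊢
        field_simp [h.1, h.2]
      · refine ⟨![0, -(b 2) * (b 1 * Lie.dot3 a b)⁻¹, b 1 * (b 1 * Lie.dot3 a b)⁻¹], ![b 1, -(b 0), 0], ?_,
          by simp [Lie.dot3]; ring, by simp [Lie.dot3]; ring⟩
        rw [hc] at h ⊢
        simp [Lie.dot3, Lie.cross3, h0] at h ⊢
        field_simp
    · refine ⟨![-(b 1) * (b 0 * Lie.dot3 a b)⁻¹, b 0 * (b 0 * Lie.dot3 a b)⁻¹, 0], ![-(b 2), 0, b 0], ?_,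
        by simp [Lie.dot3]; ring, by simp [Lie.dot3]; ring⟩
      rw [hc] at h ⊢
      simp [Lie.dot3, Lie.cross3] at h ⊢
      field_simp
  set P : Matrix (Fin 3) (Fin 3) F := !![a 0, u 0, v 0; a 1, u 1, v 1; a 2, u 2, v 2] with hP
  have hd : P.det = 1 := by
    rw [← huv]
    simp [hP, Matrix.det_fin_three, Lie.dot3, Lie.cross3]
    ring
  have e : a = P *ᵥ ![1, 0, 0] := by
    funext i; fin_cases i <;> simp [hP, Matrix.mulVec, dotProduct, Fin.sum_univ_three]
  have h3 : P.adjugate.adjugateᵀ = Pᵀ := by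
    rw [Matrix.adjugate_adjugate P (by simp)]; simp [hd]
  refine ⟨P.adjugate, by rw [Matrix.det_adjugate, hd, one_pow], ?_, ?_, ?_⟩
  · conv_lhs => rw [e, Matrix.mulVec_mulVec, Matrix.adjugate_mul, hd, one_smul, Matrix.one_mulVec]
  · rw [h3, ← hub]
    simp [hP, Matrix.mulVec, dotProduct, Fin.sum_univ_three, Lie.dot3]
  · rw [h3, ← hvb]
    simp [hP, Matrix.mulVec, dotProduct, Fin.sum_univ_three, Lie.dot3]

/-! ### Transitivity -/

/-- The standard element of trace one and norm `ν`. -/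
def std (ν : F) : V8 := bld !![0, -ν; 1, 1] 0

theorem tr8_std (ν : F) : tr8 (std ν) = 1 := by simp [tr8, std, bld]

theorem nm8_std (ν : F) : nm8 (std ν) = ν := by simp [nm8, std, bld]

theorem to_std_of_quat [CharP F 2] {x : V8} (hw : wOf x = 0) (ht : tr8 x = 1) :
    ∃ g : Lie.G2 F, app g x = std (nm8 x) := by
  obtain ⟨M, rfl⟩ : ∃ M, x = bld M 0 := ⟨mOf x, by rw [← hw, bld_parts]⟩
  have htr : M 0 0 + M 1 1 = 1 := by simpa [tr8, bld] using ht
  have hdt : nm8 (bld M 0) = M.det := by simp [nm8, bld, Matrix.det_fin_two]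
  have main : ∀ w : Fin 2 → F, w 0 * (M *ᵥ w) 1 - w 1 * (M *ᵥ w) 0 ≠ 0 →
      ∃ g : Lie.G2 F, app g (bld M 0) = std (nm8 (bld M 0)) := by
    intro w hne
    set P : MM := !![w 0, (M *ᵥ w) 0; w 1, (M *ᵥ w) 1] with hP
    have hPd : P.det ≠ 0 := by
      rw [hP, Matrix.det_fin_two_of]; intro h0; exact hne (by linear_combination h0)
    have e : M * P = P * !![0, -M.det; 1, 1] := by
      have h1 : M 1 1 = 1 - M 0 0 := by linear_combination htr
      ext i j
      fin_cases i <;> fin_cases j <;>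
        simp [hP, Matrix.mul_apply, Fin.sum_univ_two, Matrix.det_fin_two, Matrix.mulVec, dotProduct, h1] <;>
        ring
    set r : GL (Fin 2) F := Matrix.GeneralLinearGroup.mkOfDetNeZero P hPd with hr
    let d : Fˣ := Matrix.GeneralLinearGroup.det r⁻¹
    let t : GL (Fin 2) F := Matrix.GeneralLinearGroup.mkOfDetNeZero !![(d : F), 0; 0, 1] (by simp)
    let p : pairs F := ⟨(r⁻¹, t), Units.ext (by
      show ((r⁻¹ : GL (Fin 2) F) : MM).det = (t : MM).det
      simp [t, d, Matrix.GeneralLinearGroup.mkOfDetNeZero, Matrix.GeneralLinearGroup.val_det_apply])⟩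
    refine ⟨phi p, ?_⟩
    rw [app_phi]
    refine ext_parts ?_ ?_
    · rw [mOf_act, mOf_bld, hdt, std, mOf_bld]
      show ((r⁻¹ : GL (Fin 2) F) : MM) * M * (((r⁻¹)⁻¹ : GL (Fin 2) F) : MM) = _
      rw [inv_inv, Matrix.mul_assoc, show (r : MM) = P from rfl, e, ← Matrix.mul_assoc,
        show ((r⁻¹ : GL (Fin 2) F) : MM) * P = 1 from Units.inv_mul r, Matrix.one_mul]
    · rw [wOf_act, wOf_bld, std, wOf_bld, Matrix.mul_zero, Matrix.zero_mul]
  by_cases h10 : M 1 0 = 0
  · by_cases h01 : M 0 1 = 0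
    · refine main ![1, 1] ?_
      simp [Matrix.mulVec, dotProduct, h10, h01]
      intro h0
      have h2 : (2 : F) = 0 := CharTwo.two_eq_zero
      exact one_ne_zero (α := F) (by linear_combination -htr + h0 + M 0 0 * h2)
    · refine main ![0, 1] ?_
      simpa [Matrix.mulVec, dotProduct] using h01
  · refine main ![1, 0] ?_
    simpa [Matrix.mulVec, dotProduct] using h10

theorem dot3_of_nm8 (x : V8) : Lie.dot3 (Lie.zA F x) (Lie.zB F x) = x 0 * x 7 - nm8 x := by
  simp [nm8, Lie.dot3]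

theorem to_std_of_dot [CharP F 2] {x : V8} (hd : Lie.dot3 (Lie.zA F x) (Lie.zB F x) ≠ 0)
    (ht : tr8 x = 1) : ∃ g : Lie.G2 F, app g x = std (nm8 x) := by
  obtain ⟨M, hM, ha, hb1, hb2⟩ := exists_frame _ _ hd
  obtain ⟨s, hs⟩ := exists_slAct M hM
  have hw : wOf (app s x) = 0 := by
    rw [hs]
    ext i j
    fin_cases i <;> fin_cases j
    · exact congrFun ha 1
    · exact congrFun ha 2
    · exact hb2
    · show -((M.adjugateᵀ *ᵥ Lie.zB F x) 1) = 0
      rw [hb1, neg_zero]
  obtain ⟨g, hg⟩ := to_std_of_quat hw (by rw [(invariants s x).1, ht])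
  exact ⟨g * s, by rw [app_mul, hg, (invariants s x).2]⟩

theorem to_std [CharP F 2] [Fintype F] (hq : 4 ≤ Fintype.card F) {x : V8} (ht : tr8 x = 1) :
    ∃ g : Lie.G2 F, app g x = std (nm8 x) := by
  classical
  by_cases hd : Lie.dot3 (Lie.zA F x) (Lie.zB F x) = 0
  swap
  · exact to_std_of_dot hd ht
  -- move `a` to the first coordinate vector, then shear
  have hpick : ∀ a : Fin 3 → F, a ≠ 0 → ∃ c, Lie.dot3 a c ≠ 0 := fun a ha => by
    obtain ⟨i, hi⟩ := Function.ne_iff.1 ha
    refine ⟨Pi.single i 1, ?_⟩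
    fin_cases i <;> simpa [Lie.dot3] using hi
  by_cases ha : Lie.zA F x = 0
  · by_cases hb : Lie.zB F x = 0
    · refine to_std_of_quat ?_ ht
      ext i j
      fin_cases i <;> fin_cases j
      · exact congrFun ha 1
      · exact congrFun ha 2
      · exact congrFun hb 2
      · show -(Lie.zB F x 1) = 0
        rw [hb]; simp
    · obtain ⟨c, hc⟩ := hpick _ hb
      obtain ⟨M, hM, hMa, hb1, hb2⟩ := exists_frame c (Lie.zB F x)
        (by simpa [Lie.dot3, mul_comm] using hc)
      obtain ⟨s, hs⟩ := exists_slAct M hM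
      have hw : wOf (app s x) = 0 := by
        rw [hs]
        ext i j
        fin_cases i <;> fin_cases j
        · show (M *ᵥ Lie.zA F x) 1 = 0
          rw [ha, Matrix.mulVec_zero]; rfl
        · show (M *ᵥ Lie.zA F x) 2 = 0
          rw [ha, Matrix.mulVec_zero]; rfl
        · exact hb2
        · show -((M.adjugateᵀ *ᵥ Lie.zB F x) 1) = 0
          rw [hb1, neg_zero]
      obtain ⟨g, hg⟩ := to_std_of_quat hw (by rw [(invariants s x).1, ht])
      exact ⟨g * s, by rw [app_mul, hg, (invariants s x).2]⟩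
  · obtain ⟨c, hc⟩ := hpick _ ha
    obtain ⟨M, hM, hMa, -, -⟩ := exists_frame (Lie.zA F x) c hc
    obtain ⟨s, hs⟩ := exists_slAct M hM
    set y := app s x with hy
    have y1 : y 1 = 1 := by rw [hy, hs]; exact congrFun hMa 0
    have y2 : y 2 = 0 := by rw [hy, hs]; exact congrFun hMa 1
    have y3 : y 3 = 0 := by rw [hy, hs]; exact congrFun hMa 2
    have y07 : y 0 * y 7 = nm8 x := by
      have : y 0 * y 7 = x 0 * x 7 := by rw [hy, hs]; rfl
      rw [this]; linear_combination (dot3_of_nm8 x).symm.trans hd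
    have yt : y 0 + y 7 = 1 := (invariants s x).1.trans ht
    obtain ⟨t, ht0, ht1⟩ : ∃ t : F, t ≠ 0 ∧ t ≠ 1 := by
      have : (Finset.univ \ {0, 1} : Finset F).Nonempty := by
        rw [← Finset.card_pos]
        have h2 : ({0, 1} : Finset F).card ≤ 2 := Finset.card_le_two
        have h3 := Finset.le_card_sdiff ({0, 1} : Finset F) (Finset.univ : Finset F)
        rw [Finset.card_univ] at h3
        omega
      obtain ⟨t, ht⟩ := this
      exact ⟨t, by simpa using ht⟩
    let r : GL (Fin 2) F := Matrix.GeneralLinearGroup.mkOfDetNeZero !![1, 0; t, 1] (by simp)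
    let p : pairs F := ⟨(r, 1), Units.ext (by
      show (r : MM).det = ((1 : GL (Fin 2) F) : MM).det
      simp [r, Matrix.GeneralLinearGroup.mkOfDetNeZero])⟩
    set z := app (phi p) y with hz
    have hinv : ((r⁻¹ : GL (Fin 2) F) : MM) = !![1, 0; -t, 1] := by
      rw [Matrix.coe_units_inv]
      refine Matrix.inv_eq_right_inv ?_
      ext i j; fin_cases i <;> fin_cases j <;>
        simp [r, Matrix.GeneralLinearGroup.mkOfDetNeZero, Matrix.mul_apply, Fin.sum_univ_two]
    have hm : mOf z = !![1, 0; t, 1] * mOf y * !![1, 0; -t, 1] := by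
      rw [hz, app_phi, mOf_act]
      show (r : MM) * mOf y * ((r⁻¹ : GL (Fin 2) F) : MM) = _
      rw [hinv]; rfl
    have z0 : z 0 = y 0 - t := by
      have := congrFun₂ hm 0 0
      simp [mOf, Matrix.mul_apply, Fin.sum_univ_two, y1] at this
      linear_combination this
    have z7 : z 7 = y 7 + t := by
      have := congrFun₂ hm 1 1
      simp [mOf, Matrix.mul_apply, Fin.sum_univ_two, y1] at this
      linear_combination this
    have hzn : nm8 z = nm8 x := ((invariants (phi p) y).2).trans (invariants s x).2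
    have hzt : tr8 z = 1 := ((invariants (phi p) y).1).trans ((invariants s x).1.trans ht)
    have hd' : Lie.dot3 (Lie.zA F z) (Lie.zB F z) ≠ 0 := by
      rw [dot3_of_nm8, hzn, z0, z7]
      intro h0
      have h2 : (2 : F) = 0 := CharTwo.two_eq_zero
      refine mul_ne_zero ht0 (sub_ne_zero.2 ht1) ?_
      linear_combination -h0 + y07 - t * yt + (t * y 0 - t) * h2
    obtain ⟨g, hg⟩ := to_std_of_dot hd' hzt
    exact ⟨g * phi p * s, by rw [app_mul, app_mul, ← hy, ← hz, hg, hzn]⟩

/-! ### The subgroups -/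

/-- The stabiliser of the pair `{x, x + 1}`. -/
def pairStab [CharP F 2] (x : V8) : Subgroup (Lie.G2 F) where
  carrier := {g | app g x = x ∨ app g x = x + one8 F}
  one_mem' := Or.inl (app_one x)
  mul_mem' := by
    intro g h hg hh
    have h2 : one8 F + one8 F = 0 := CharTwo.add_self_eq_zero _
    rcases hh with hh | hh <;> rcases hg with hg | hg <;>
      simp only [Set.mem_setOf_eq, app_mul, hh, hg, app_add, app_one8]
    · exact Or.inl trivial
    · exact Or.inr trivial
    · exact Or.inr trivial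
    · exact Or.inl (by rw [add_assoc, h2, add_zero])
  inv_mem' := by
    intro g hg
    have h2 : one8 F + one8 F = 0 := CharTwo.add_self_eq_zero _
    rcases hg with hg | hg
    · exact Or.inl (by conv_lhs => rw [← hg, app_inv])
    · refine Or.inr ?_
      have e : app g (x + one8 F) = x := by rw [app_add, hg, app_one8, add_assoc, h2, add_zero]
      conv_lhs => rw [← e, app_inv]

theorem pairStab_ne_top [CharP F 2] [Fintype F] (hq : 4 ≤ Fintype.card F) (ν : F) :
    pairStab (std ν) ≠ ⊤ := by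
  intro h
  set z : V8 := std ν + ![0, 0, 1, 0, 0, 0, 0, 0] with hz
  have h1 : tr8 z = 1 := by simp [hz, tr8, std, bld]
  have h2 : nm8 z = ν := by simp [hz, nm8, std, bld]
  obtain ⟨g, hg⟩ := to_std hq h1
  rw [h2] at hg
  have e : app g⁻¹ (std ν) = z := by rw [← hg, app_inv]
  have hm : g⁻¹ ∈ pairStab (std ν) := h ▸ Subgroup.mem_top _
  rcases hm with hm | hm <;> rw [e] at hm <;>
    exact absurd (congrFun hm 2) (by simp [hz, std, bld, one8])

theorem exists_fixed_class [CharP F 2] (g : Lie.G2 F) :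
    ∃ (x : V8) (c : F), tr8 x = 1 ∧ app g x = x + c • one8 F := by
  by_contra hno
  push Not at hno
  set L : Submodule F V8 := Submodule.span F {one8 F} with hL
  let T : V8 →ₗ[F] V8 ⧸ L :=
    L.mkQ.comp (Matrix.toLin' ((g : GL (Fin 8) F) : Matrix (Fin 8) (Fin 8) F) - LinearMap.id)
  let ℓ : V8 →ₗ[F] F := (LinearMap.proj (R := F) (φ := fun _ : Fin 8 => F) 0) + LinearMap.proj (R := F) (φ := fun _ : Fin 8 => F) 7
  obtain ⟨μ, hμ⟩ := exists_functional T ℓ (fun x hx => by
    by_contra hne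
    have hx' : app g x - x ∈ L := (Submodule.Quotient.mk_eq_zero L).1 hx
    obtain ⟨c, hc⟩ := Submodule.mem_span_singleton.1 hx'
    set s : F := (x 0 + x 7)⁻¹ with hs
    refine hno (s • x) (s * c) ?_ ?_
    · show s * x 0 + s * x 7 = 1
      rw [← mul_add, hs]; exact inv_mul_cancel₀ hne
    · rw [app_smul, ← smul_smul, hc]; module)
  let ψ : V8 →ₗ[F] F := μ.comp L.mkQ
  have hψ : ∀ x, ψ (app g x) - ψ x = tr8 x := fun x => by
    have := hμ x
    simp only [T, LinearMap.comp_apply, LinearMap.sub_apply, Matrix.toLin'_apply,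
      LinearMap.id_apply, map_sub] at this
    exact this
  have hψ1 : ψ (one8 F) = 0 := by
    show μ (Submodule.Quotient.mk (one8 F)) = 0
    rw [(Submodule.Quotient.mk_eq_zero L).2 (Submodule.mem_span_singleton_self _), map_zero]
  let e : Fin 8 → V8 := fun i => Pi.single i 1
  let y : V8 := ![ψ (e 7), -ψ (e 4), -ψ (e 5), -ψ (e 6), -ψ (e 1), -ψ (e 2), -ψ (e 3), ψ (e 0)]
  have hy : ∀ x, bil8 y x = ψ x := fun x => by
    conv_rhs => rw [pi_eq_sum_univ' x]
    simp only [map_sum, map_smul, Fin.sum_univ_eight, smul_eq_mul]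
    simp [bil8, y, e]
    ring
  have hb1 : ∀ x, bil8 (one8 F) x = tr8 x := fun x => by simp [bil8, one8, tr8]; ring
  have key : app g⁻¹ y = y + one8 F := by
    have hall : ∀ x, bil8 (app g⁻¹ y) x = bil8 (y + one8 F) x := fun x => by
      have e1 : bil8 (app g⁻¹ y) x = bil8 y (app g x) := by
        rw [← bil8_app g, ← app_mul, mul_inv_cancel, app_one]
      have e2 : bil8 (y + one8 F) x = bil8 y x + bil8 (one8 F) x := by simp [bil8]; ring
      rw [e1, e2, hy, hy, hb1]
      linear_combination hψ x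
    funext i
    fin_cases i
    · simpa [bil8, e] using hall (e 7)
    · have h := hall (e 4)
      simp [bil8, e] at h
      simp
      linear_combination -h
    · have h := hall (e 5)
      simp [bil8, e] at h
      simp
      linear_combination -h
    · have h := hall (e 6)
      simp [bil8, e] at h
      simp
      linear_combination -h
    · have h := hall (e 1)
      simp [bil8, e] at h
      simp
      linear_combination -h
    · have h := hall (e 2)
      simp [bil8, e] at h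
      simp
      linear_combination -h
    · have h := hall (e 3)
      simp [bil8, e] at h
      simp
      linear_combination -h
    · simpa [bil8, e] using hall (e 0)
  have hn := (invariants g⁻¹ y).2
  rw [key, nm8_add, show nm8 (one8 F) = 1 by simp [nm8, one8],
    show bil8 y (one8 F) = 0 by rw [hy, hψ1]] at hn
  exact one_ne_zero (α := F) (by linear_combination hn)

/-- `G₂(q)`, `q = 2^a ≥ 4`. -/
theorem hasTwoCover {F : Type} [Field F] [Fintype F] [CharP F 2] (hq : 4 ≤ Fintype.card F) :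
    HasTwoCover (Lie.G2 F) := by
  obtain ⟨ν, -, hν⟩ := exists_artinSchreier F
  refine ⟨pairStab (std 0), pairStab (std ν), pairStab_ne_top hq _, pairStab_ne_top hq _, fun g => ?_⟩
  obtain ⟨x, c, hx1, hx⟩ := exists_fixed_class g
  have hc : c = 0 ∨ c = 1 := by
    have h := (invariants g x).2
    rw [hx, nm8_add_smul, hx1] at h
    have h2 : (2 : F) = 0 := CharTwo.two_eq_zero
    have h3 : c * (c - 1) = 0 := by linear_combination h - c * h2
    exact (mul_eq_zero.1 h3).imp id sub_eq_zero.1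
  obtain ⟨ε, hε, s, hs⟩ : ∃ ε, (ε = 0 ∨ ε = ν) ∧ ∃ s, nm8 (x + s • one8 F) = ε := by
    rcases hν (nm8 x) with ⟨s, hs⟩ | ⟨s, hs⟩
    · refine ⟨0, Or.inl rfl, s, ?_⟩
      have h2 : (2 : F) = 0 := CharTwo.two_eq_zero
      rw [nm8_add_smul, hx1]
      linear_combination hs + nm8 x * h2
    · refine ⟨ν, Or.inr rfl, s, ?_⟩
      have h2 : (2 : F) = 0 := CharTwo.two_eq_zero
      rw [nm8_add_smul, hx1]
      linear_combination hs + nm8 x * h2
  set z := x + s • one8 F with hz
  have hz1 : tr8 z = 1 := by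
    rw [hz, tr8_add_smul, hx1, CharTwo.two_eq_zero, zero_mul, add_zero]
  have hgz : app g z = z + c • one8 F := by
    rw [hz, app_add, app_smul, app_one8, hx]; abel
  obtain ⟨w, hw⟩ := to_std hq hz1
  rw [hs] at hw
  have hmem : w * g * w⁻¹ ∈ pairStab (std ε) := by
    have e : app (w * g * w⁻¹) (std ε) = std ε + c • one8 F := by
      rw [app_mul, ← hw, app_inv, app_mul, hgz, app_add, app_smul, app_one8]
    rcases hc with rfl | rfl
    · exact Or.inl (by rw [e, zero_smul, add_zero])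
    · exact Or.inr (by rw [e, one_smul])
  refine ⟨w, hε.imp ?_ ?_⟩ <;> rintro rfl <;> exact hmem

end Cfsg.Agent.Classical.TwoCover.GTwo
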