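import Cfsg.Agent.Lib.Classical.UnitIsoDerange
import Cfsg.Prelude.Def_GeometricClasses

/-! Elements of prime order of `SU_{2m}(q)` stabilising a pair of complementary totally isotropic `m`-spaces. -/

set_option autoImplicit false
set_option linter.unusedSectionVars false

namespace Cfsg.Agent.UnitPairDerange

open Matrix Module Polynomial Cfsg.Agent.Classical Cfsg.Agent.UnitaryDetCentralizer Cfsg.Agent.UnitInvariant
  Cfsg.Agent.UnitaryConjugacy Cfsg.Agent.Fus.FrameCount Cfsg.Agent.SubspaceCount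
  Cfsg.Agent.UnitDerangeBasic Cfsg.Agent.UnitDerangeCases Cfsg.Agent.UnitSelfDualFactors

variable {K : Type*} [Field K] [Fintype K] {q n m : ℕ}

/-- The column space of a matrix. -/
def col (U : Matrix (Fin n) (Fin m) K) : Submodule K (Fin n → K) := LinearMap.range (Matrix.toLin' U)

omit [Fintype K] in
theorem mem_col {U : Matrix (Fin n) (Fin m) K} {v : Fin n → K} : v ∈ col U ↔ ∃ c, U *ᵥ c = v := Iff.rfl

omit [Fintype K] in
theorem exists_factor {k : ℕ} {U : Matrix (Fin n) (Fin m) K} {M : Matrix (Fin n) (Fin k) K}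
    (h : ∀ c, M *ᵥ c ∈ col U) : ∃ A : Matrix (Fin m) (Fin k) K, M = U * A := by
  choose a ha using fun j => mem_col.1 (h (Pi.single j 1))
  refine ⟨Matrix.of fun i j => a j i, ?_⟩
  ext i j
  have := congrFun (ha j) i
  rw [Matrix.mulVec_single_one] at this
  exact this.symm

/-- Bases of a pair of totally isotropic subspaces, dual for the form. -/
structure Pr (hK : Fintype.card K = q ^ 2) (U V : Matrix (Fin n) (Fin m) K) : Prop where
  uu : hst hK U * U = 0
  vv : hst hK V * V = 0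
  uv : hst hK U * V = 1

variable {hK : Fintype.card K = q ^ 2} {U V U' V' : Matrix (Fin n) (Fin m) K}

theorem Pr.vu (h : Pr hK U V) : hst hK V * U = 1 := by
  have := congrArg (hst hK) h.uv
  rwa [hst_mul, hst_hst, hst_one] at this

theorem Pr.rows (h : Pr hK U V) : fromRows (hst hK V) (hst hK U) * fromCols U V = 1 := by
  rw [fromRows_mul_fromCols, h.vu, h.vv, h.uu, h.uv, fromBlocks_one]

theorem Pr.cols (h : Pr hK U V) (hn : n = m + m) : fromCols U V * fromRows (hst hK V) (hst hK U) = 1 :=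
  (Matrix.mul_eq_one_comm_of_equiv (finSumFinEquiv.trans (finCongr hn.symm))).1 h.rows

theorem Pr.complete (h : Pr hK U V) (hn : n = m + m) : U * hst hK V + V * hst hK U = 1 := by
  rw [← fromCols_mul_fromRows, h.cols hn]

theorem Pr.finrank_col (h : Pr hK U V) : finrank K (col U) = m := by
  rw [col, LinearMap.finrank_range_of_inj, Module.finrank_fin_fun]
  intro a b hab
  have := congrArg (fun w => hst hK V *ᵥ w) hab
  simpa [Matrix.mulVec_mulVec, h.vu] using this

theorem col_iso {U : Matrix (Fin n) (Fin m) K} (h : hst hK U * U = 0) :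
    ∀ u ∈ col U, ∀ v ∈ col U, hermForm n K q u v = 0 := by
  intro u hu v hv
  obtain ⟨c, rfl⟩ := mem_col.1 hu
  obtain ⟨d, rfl⟩ := mem_col.1 hv
  rw [hermForm_mulVec_right hK, Matrix.mulVec_mulVec, h, Matrix.zero_mulVec, dotProduct_zero]

omit [Fintype K] in
theorem map_col {g : Matrix (Fin n) (Fin n) K} {A : GL (Fin m) K} (h : g * U = U' * A.1) :
    (col U).map (Matrix.toLin' g) = col U' := by
  refine le_antisymm ?_ ?_
  · rintro _ ⟨_, ⟨c, rfl⟩, rfl⟩
    exact ⟨A.1 *ᵥ c, by simp [Matrix.mulVec_mulVec, h]⟩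
  · rintro _ ⟨c, rfl⟩
    exact ⟨U *ᵥ ((A⁻¹).1 *ᵥ c), ⟨_, rfl⟩, by simp [Matrix.mulVec_mulVec, ← Matrix.mul_assoc, h]⟩

/-- Subspaces totally isotropic of half dimension with a complement have dual bases; invariance is inherited. -/
theorem exists_pr (hK : Fintype.card K = q ^ 2) (hn : n = m + m) {W C : Submodule K (Fin n → K)}
    (hW : finrank K W = m) (hWs : ∀ u ∈ W, ∀ v ∈ W, hermForm n K q u v = 0) (hC : finrank K C = m)
    (hd : Disjoint W C) :
    ∃ U V : Matrix (Fin n) (Fin m) K, Pr hK U V ∧ col U = W ∧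
      ((∀ u ∈ C, ∀ v ∈ C, hermForm n K q u v = 0) → col V = C) ∧
      ∀ g : GU n K q, (∀ w ∈ W, (g.1 : Matrix (Fin n) (Fin n) K) *ᵥ w ∈ W) →
        (∀ w ∈ C, (g.1 : Matrix (Fin n) (Fin n) K) *ᵥ w ∈ C) →
        ∀ v ∈ col V, (g.1 : Matrix (Fin n) (Fin n) K) *ᵥ v ∈ col V := by
  classical
  have hbasis : ∀ {S : Submodule K (Fin n → K)}, finrank K S = m →
      ∃ U : Matrix (Fin n) (Fin m) K, col U = S ∧ Function.Injective (fun c => U *ᵥ c) := by
    intro S hS
    let e := ((Module.finBasisOfFinrankEq K S hS).equivFun).symm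
    refine ⟨LinearMap.toMatrix' (S.subtype ∘ₗ e.toLinearMap), ?_, fun a b hab => ?_⟩
    · rw [col, Matrix.toLin'_toMatrix', LinearMap.range_comp_of_range_eq_top _ e.range, Submodule.range_subtype]
    · have hab' : Matrix.toLin' (LinearMap.toMatrix' (S.subtype ∘ₗ e.toLinearMap)) a =
          Matrix.toLin' (LinearMap.toMatrix' (S.subtype ∘ₗ e.toLinearMap)) b := hab
      rw [Matrix.toLin'_toMatrix'] at hab'
      exact e.injective (Subtype.ext hab')
  obtain ⟨U, hU, hUi⟩ := hbasis hW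
  obtain ⟨V₀, hV₀, hV₀i⟩ := hbasis hC
  have huu : hst hK U * U = 0 := by
    ext i j
    have h1 := hWs _ (hU ▸ mem_col.2 ⟨Pi.single j 1, rfl⟩) _ (hU ▸ mem_col.2 ⟨Pi.single i 1, rfl⟩)
    rw [hermForm_mulVec_right hK, Matrix.mulVec_mulVec, Matrix.mulVec_single_one] at h1
    simpa [dotProduct, Pi.single_apply, apply_ite (qFrob hK)] using h1
  have htop : W ⊔ C = ⊤ := Submodule.eq_top_of_disjoint W C (by rw [hW, hC, Module.finrank_fin_fun, hn]) hd
  have hinj : Function.Injective (hst hK V₀ * U).mulVec := fun a b hab => sub_eq_zero.1 (by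
    have h0 : (hst hK V₀ * U) *ᵥ (a - b) = 0 := by rw [Matrix.mulVec_sub, hab, sub_self]
    have hperp : ∀ v, hermForm n K q (U *ᵥ (a - b)) v = 0 := fun v => by
      obtain ⟨w, hw, c, hc, rfl⟩ := Submodule.mem_sup.1 (show v ∈ W ⊔ C by rw [htop]; trivial)
      rw [show hermForm n K q (U *ᵥ (a - b)) (w + c) =
          hermB hK n (w + c) (U *ᵥ (a - b)) from (hermB_apply hK ..).symm, map_add, LinearMap.add_apply,
        hermB_apply, hermB_apply, hWs _ (hU ▸ mem_col.2 ⟨_, rfl⟩) w hw, zero_add]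
      obtain ⟨d, rfl⟩ := mem_col.1 (hV₀.symm ▸ hc)
      rw [hermForm_mulVec_right hK, Matrix.mulVec_mulVec, h0, dotProduct_zero]
    refine hUi ?_
    show U *ᵥ (a - b) = U *ᵥ 0
    rw [Matrix.mulVec_zero]
    funext i
    have := hperp (Pi.single i 1)
    rwa [hermForm_single_right hK] at this)
  obtain ⟨G, hG⟩ := Matrix.mulVec_injective_iff_isUnit.1 hinj
  set V₁ := V₀ * hst hK (G⁻¹).1 with hV₁
  have huv : hst hK U * V₁ = 1 := by
    have h1 : hst hK U * V₀ = hst hK G.1 := by rw [hG, hst_mul, hst_hst]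
    rw [hV₁, ← Matrix.mul_assoc, h1, ← hst_mul, Units.inv_mul, hst_one]
  have hvu : hst hK V₁ * U = 1 := by
    have := congrArg (hst hK) huv
    rwa [hst_mul, hst_hst, hst_one] at this
  have hV₁C : col V₁ = C := by
    refine Submodule.eq_of_le_of_finrank_eq ?_ ?_
    · rintro _ ⟨c, rfl⟩
      rw [Matrix.toLin'_apply, hV₁, ← Matrix.mulVec_mulVec, ← hV₀]
      exact mem_col.2 ⟨_, rfl⟩
    · rw [hC, col, LinearMap.finrank_range_of_inj, Module.finrank_fin_fun]
      intro a b hab
      have := congrArg (fun w => hst hK U *ᵥ w) hab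
      simpa [Matrix.mulVec_mulVec, huv] using this
  obtain ⟨d, hd0⟩ : ∃ d : K, d + qFrob hK d ≠ 0 := by
    by_contra hall
    push Not at hall
    refine qFrob_ne_id hK (RingHom.ext fun x => ?_)
    have h2 := hall x
    have h1 := hall 1
    rw [map_one] at h1
    show qFrob hK x = x
    linear_combination h2 - x * h1
  obtain ⟨c, hc⟩ : ∃ c : K, c + qFrob hK c = 1 :=
    ⟨d / (d + qFrob hK d), by rw [map_div₀, map_add, qFrob_qFrob, add_comm (qFrob hK d) d, ← add_div, div_self hd0]⟩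
  set S := hst hK V₁ * V₁ with hS
  have hSs : hst hK S = S := by rw [hS, hst_mul, hst_hst]
  have hadd : ∀ {a b : ℕ} (X Y : Matrix (Fin a) (Fin b) K), hst hK (X + Y) = hst hK X + hst hK Y := fun X Y => by
    ext i j; simp [hst]
  have hsm : ∀ {a b : ℕ} (t : K) (X : Matrix (Fin a) (Fin b) K), hst hK (t • X) = qFrob hK t • hst hK X :=
    fun t X => by ext i j; simp [hst]
  set V := V₁ + U * ((-c) • S) with hV
  have hp : Pr hK U V := ⟨huu, by
      rw [hV, hadd, hst_mul hK U, hsm, hSs, Matrix.add_mul, Matrix.mul_add, Matrix.mul_add, ← hS,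
        ← Matrix.mul_assoc (hst hK V₁), hvu, Matrix.mul_assoc _ (hst hK U) V₁, huv,
        Matrix.mul_assoc _ (hst hK U) (U * _), ← Matrix.mul_assoc (hst hK U) U, huu, Matrix.zero_mul, Matrix.mul_zero,
        Matrix.one_mul, Matrix.mul_one, add_zero, add_assoc, ← add_smul, map_neg,
        show -c + -qFrob hK c = -(1 : K) by linear_combination -hc, neg_one_smul, add_neg_cancel], by
      rw [hV, Matrix.mul_add, huv, ← Matrix.mul_assoc, huu, Matrix.zero_mul, add_zero]⟩
  refine ⟨U, V, hp, hU, fun hCs => ?_, fun g hgW hgC => ?_⟩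
  · have hS0 : S = 0 := by
      ext i j
      have h1 := hCs _ (hV₁C ▸ mem_col.2 ⟨Pi.single j 1, rfl⟩) _ (hV₁C ▸ mem_col.2 ⟨Pi.single i 1, rfl⟩)
      rw [hermForm_mulVec_right hK, Matrix.mulVec_mulVec, Matrix.mulVec_single_one] at h1
      simpa [dotProduct, Pi.single_apply, apply_ite (qFrob hK)] using h1
    rw [hV, hS0, smul_zero, Matrix.mul_zero, add_zero, hV₁C]
  set M := (g.1 : Matrix (Fin n) (Fin n) K)
  obtain ⟨A, hA⟩ := exists_factor (U := U) (M := M * U) fun a => by
    rw [← Matrix.mulVec_mulVec, hU]; exact hgW _ (hU ▸ mem_col.2 ⟨a, rfl⟩)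
  obtain ⟨B, hB⟩ := exists_factor (U := V₁) (M := M * V₁) fun a => by
    rw [← Matrix.mulVec_mulVec, hV₁C]; exact hgC _ (hV₁C ▸ mem_col.2 ⟨a, rfl⟩)
  have hMM : hst hK M * M = 1 := (mem_GU_iff hK _).1 g.2
  have h1 : hst hK A * B = 1 := by
    have : hst hK (M * U) * (M * V₁) = 1 := by
      rw [hst_mul, Matrix.mul_assoc, ← Matrix.mul_assoc (hst hK M), hMM, Matrix.one_mul, huv]
    rwa [hA, hB, hst_mul, Matrix.mul_assoc, ← Matrix.mul_assoc (hst hK U), huv, Matrix.one_mul] at this
  have h1' : A * hst hK B = 1 := by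
    have := congrArg (hst hK) h1
    rw [hst_mul, hst_hst, hst_one] at this
    exact mul_eq_one_comm.1 this
  have h2 : hst hK B * S * B = S := by
    have : hst hK (M * V₁) * (M * V₁) = S := by
      rw [hst_mul, Matrix.mul_assoc, ← Matrix.mul_assoc (hst hK M), hMM, Matrix.one_mul]
    rwa [hB, hst_mul, Matrix.mul_assoc, ← Matrix.mul_assoc (hst hK V₁), ← hS, ← Matrix.mul_assoc] at this
  have h3 : A * S = S * B := by
    conv_lhs => rw [← h2]
    rw [← Matrix.mul_assoc, ← Matrix.mul_assoc, h1', Matrix.one_mul]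
  have hMV : M * V = V * B := by
    rw [hV, Matrix.mul_add, hB, ← Matrix.mul_assoc, hA, Matrix.add_mul, Matrix.mul_assoc U A,
      Matrix.mul_assoc U ((-c) • S), Matrix.mul_smul A, h3, Matrix.smul_mul]
  intro v hv
  obtain ⟨a, rfl⟩ := mem_col.1 hv
  exact mem_col.2 ⟨B *ᵥ a, by rw [Matrix.mulVec_mulVec, Matrix.mulVec_mulVec, hMV]⟩

/-- The isometry carrying one pair to another. -/
theorem exists_transfer_pr (h : Pr hK U V) (h' : Pr hK U' V') (hn : n = m + m) :
    ∃ g : GU n K q, (g.1 : Matrix (Fin n) (Fin n) K) * U = U' ∧ (g.1 : Matrix (Fin n) (Fin n) K) * V = V' ∧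
      (g.1 : Matrix (Fin n) (Fin n) K) = U' * hst hK V + V' * hst hK U := by
  set M := U' * hst hK V + V' * hst hK U with hM
  have hMU : M * U = U' := by
    rw [hM, Matrix.add_mul, Matrix.mul_assoc, Matrix.mul_assoc, h.vu, h.uu, Matrix.mul_one, Matrix.mul_zero, add_zero]
  have hMV : M * V = V' := by
    rw [hM, Matrix.add_mul, Matrix.mul_assoc, Matrix.mul_assoc, h.vv, h.uv, Matrix.mul_one, Matrix.mul_zero, zero_add]
  have hMM : hst hK M * M = 1 := by
    have hadd : hst hK M = hst hK (U' * hst hK V) + hst hK (V' * hst hK U) := by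
      rw [hM, hst, Matrix.map_add _ (map_add _), Matrix.transpose_add]; rfl
    rw [hadd, hst_mul, hst_mul, hst_hst, hst_hst, hM, Matrix.add_mul, Matrix.mul_add, Matrix.mul_add]
    simp only [Matrix.mul_assoc]
    rw [← Matrix.mul_assoc (hst hK U') U', h'.uu, ← Matrix.mul_assoc (hst hK U') V', h'.uv,
      ← Matrix.mul_assoc (hst hK V') U', h'.vu, ← Matrix.mul_assoc (hst hK V') V', h'.vv]
    simp only [Matrix.zero_mul, Matrix.mul_zero, Matrix.one_mul, zero_add, add_zero]
    rw [add_comm]; exact h.complete hn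
  have hu : IsUnit M := ⟨⟨M, hst hK M, mul_eq_one_comm.1 hMM, hMM⟩, rfl⟩
  obtain ⟨g, hg⟩ := hu
  exact ⟨⟨g, (mem_GU_iff hK _).2 (by rw [hg]; exact hMM)⟩, by rw [hg]; exact hMU, by rw [hg]; exact hMV, hg⟩

theorem Pr.twist (h : Pr hK U V) (A : GL (Fin m) K) : Pr hK (U * A.1) (V * (invSt hK A).1) := by
  have e1 : hst hK A.1 * (invSt hK A).1 = 1 := (invSt hK A).inv_mul
  refine ⟨?_, ?_, ?_⟩
  · rw [hst_mul, Matrix.mul_assoc, ← Matrix.mul_assoc (hst hK U), h.uu, Matrix.zero_mul, Matrix.mul_zero]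
  · rw [hst_mul, Matrix.mul_assoc, ← Matrix.mul_assoc (hst hK V), h.vv, Matrix.zero_mul, Matrix.mul_zero]
  · rw [hst_mul, Matrix.mul_assoc, ← Matrix.mul_assoc (hst hK U), h.uv, Matrix.one_mul, e1]

theorem det_hst (A : Matrix (Fin n) (Fin n) K) : (hst hK A).det = qFrob hK A.det := by
  rw [hst, Matrix.det_transpose, RingHom.map_det]; rfl

/-- Pairs are conjugate under the special unitary group. -/
theorem exists_move (hn : n = m + m) (hm : 1 ≤ m) (h : Pr hK U V) (h' : Pr hK U' V') :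
    ∃ g ∈ GU n K q ⊓ Geo.specialLinear (Fin n) K,
      (col U).map (Matrix.toLin' (g : Matrix (Fin n) (Fin n) K)) = col U' ∧
      (col V).map (Matrix.toLin' (g : Matrix (Fin n) (Fin n) K)) = col V' := by
  classical
  obtain ⟨g₀, hU0, hV0, -⟩ := exists_transfer_pr h h' hn
  set d := (g₀.1 : Matrix (Fin n) (Fin n) K).det with hd
  have hdn : qFrob hK d * d = 1 := (qFrob_norm_one hK).2 (norm_det hK g₀)
  obtain ⟨a, ha0, ha⟩ : ∃ a : K, a ≠ 0 ∧ a * d = qFrob hK a := by
    by_cases h0 : 1 + qFrob hK d = 0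
    · obtain ⟨x, hx⟩ : ∃ x : K, qFrob hK x ≠ x := by
        by_contra hall
        push Not at hall
        exact qFrob_ne_id hK (RingHom.ext hall)
      refine ⟨x - qFrob hK x, sub_ne_zero.2 hx.symm, ?_⟩
      have hd1 : d = -1 := by linear_combination (-1 : K) * hdn + d * h0
      rw [map_sub, qFrob_qFrob, hd1]; ring
    · exact ⟨1 + qFrob hK d, h0, by rw [map_add, map_one, qFrob_qFrob]; linear_combination hdn⟩
  let i₀ : Fin m := ⟨0, hm⟩
  let A : GL (Fin m) K :=
    ⟨Matrix.diagonal (Function.update 1 i₀ a), Matrix.diagonal (Function.update 1 i₀ a⁻¹),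
      by rw [Matrix.diagonal_mul_diagonal, ← Matrix.diagonal_one]; congr 1; funext i
         by_cases e : i = i₀ <;> simp [e, ha0],
      by rw [Matrix.diagonal_mul_diagonal, ← Matrix.diagonal_one]; congr 1; funext i
         by_cases e : i = i₀ <;> simp [e, ha0]⟩
  have hAdet : A.1.det = a := by
    show (Matrix.diagonal _).det = a
    rw [Matrix.det_diagonal, Finset.prod_update_of_mem (Finset.mem_univ _)]; simp
  obtain ⟨g₁, hU1, hV1, hg1⟩ := exists_transfer_pr h' (h'.twist A) hn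
  have hdet : (g₁.1 : Matrix (Fin n) (Fin n) K).det = a * (qFrob hK a)⁻¹ := by
    rw [hg1, show U' * A.1 * hst hK V' + V' * (invSt hK A).1 * hst hK U' =
        fromCols U' V' * (fromBlocks A.1 0 0 (invSt hK A).1 * fromRows (hst hK V') (hst hK U')) by
      rw [fromBlocks_mul_fromRows, fromCols_mul_fromRows, Matrix.zero_mul, Matrix.zero_mul, add_zero, zero_add,
        Matrix.mul_assoc, Matrix.mul_assoc],
      Matrix.det_comm' (h'.cols hn) h'.rows, Matrix.mul_assoc, h'.rows, Matrix.mul_one, det_fromBlocks_zero₁₂, hAdet]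
    congr 1
    show (hst hK (A⁻¹).1).det = _
    rw [det_hst, Matrix.coe_units_inv, Matrix.det_nonsing_inv, Ring.inverse_eq_inv', map_inv₀, hAdet]
  refine ⟨g₁.1 * g₀.1, ⟨(g₁ * g₀).2, MonoidHom.mem_ker.2 (Units.ext ?_)⟩, map_col (A := A) ?_,
    map_col (A := invSt hK A) ?_⟩
  · show (g₁.1.1 * g₀.1.1).det = 1
    rw [Matrix.det_mul, hdet, ← hd, mul_right_comm, ha, mul_inv_cancel₀ ((map_ne_zero (qFrob hK)).2 ha0)]
  · rw [Units.val_mul, Matrix.mul_assoc, hU0, hU1]
  · rw [Units.val_mul, Matrix.mul_assoc, hV0, hV1]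

omit [Fintype K] in
theorem inj_toLin (g : GL (Fin n) K) : Function.Injective (Matrix.toLin' (g : Matrix (Fin n) (Fin n) K)) := fun u v h => by
  have := congrArg (fun w => ((g⁻¹ : GL (Fin n) K) : Matrix (Fin n) (Fin n) K) *ᵥ w)
    (show (g : Matrix (Fin n) (Fin n) K) *ᵥ u = (g : Matrix (Fin n) (Fin n) K) *ᵥ v from h)
  simpa [Matrix.mulVec_mulVec, ← Units.val_mul] using this

omit [Fintype K] in
theorem mem_stab {g : GL (Fin n) K} {W : Submodule K (Fin n → K)} :
    g ∈ Geo.subspaceStabilizer W ↔ W.map (Matrix.toLin' (g : Matrix (Fin n) (Fin n) K)) = W := by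
  refine ⟨fun hg => Submodule.eq_of_le_of_finrank_eq ?_
      (Submodule.equivMapOfInjective _ (inj_toLin g) W).finrank_eq.symm, fun hg v => ⟨fun hv => ?_, fun hv => ?_⟩⟩
  · rintro _ ⟨v, hv, rfl⟩
    exact (hg v).1 hv
  · have : Matrix.toLin' (g : Matrix (Fin n) (Fin n) K) v ∈ W := hg ▸ ⟨v, hv, rfl⟩
    exact this
  · obtain ⟨u, hu, huv⟩ : Matrix.toLin' (g : Matrix (Fin n) (Fin n) K) v ∈
        W.map (Matrix.toLin' (g : Matrix (Fin n) (Fin n) K)) := by rw [hg]; exact hv
    exact inj_toLin g huv ▸ hu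

/-- A prime dividing the number of maximal totally isotropic subspaces. -/
theorem count_mod (hK : Fintype.card K = q ^ 2) (hn : n = m + m) {r : ℕ} (hr : r.Prime) (hr2 : r ≠ 2)
    (h : r ∣ Nat.card {W : Submodule K (Fin n → K) // finrank K ↥W = m ∧ (∀ u ∈ W, ∀ v ∈ W, hermForm n K q u v = 0)}) :
    orderOf (q : ZMod r) % 4 = 2 := by
  haveI : Fact r.Prime := ⟨hr⟩
  have hq2 := two_le_q hK
  obtain ⟨N, hN⟩ : ∃ N, Nat.card {W : Submodule K (Fin n → K) // finrank K ↥W = m ∧
      (∀ u ∈ W, ∀ v ∈ W, hermForm n K q u v = 0)} = N := ⟨_, rfl⟩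
  rw [hN] at h
  have hq : (q : ℤ) ≠ 0 := by omega
  have h1 := Fus.UnitStab.frame_card (n := n) hK m (by omega)
  rw [UnitSubspaceCount.card_frame_eq hK, hN, Fin.prod_univ_eq_prod_range (fun i => (q ^ 2) ^ m - (q ^ 2) ^ i),
    IsotropicCount.prod_bases, show n - 2 * m = 0 by omega] at h1
  have h2 : ((Nat.card (GU n K q) : ℕ) : ℤ) = (q : ℤ) ^ (m * (2 * n - 3 * m)) * (Nat.card (GU 0 K q) : ℕ) *
      ((N : ℤ) * (((q : ℤ) ^ 2) ^ (∑ i ∈ Finset.range m, i) * (qfact (q ^ 2) m : ℕ))) := by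
    rw [h1]; push_cast; ring
  rw [order_GU hK, order_GU hK, Finset.prod_range_zero, ← pow_mul] at h2
  have hexp : n * (n - 1) / 2 = m * (2 * n - 3 * m) + 2 * (∑ i ∈ Finset.range m, i) := by
    have e1 := UnitSubspaceCount.two_tri n
    have e3 : 2 * (∑ i ∈ Finset.range m, i) + m = m * m := by
      rw [mul_comm, Finset.sum_range_id_mul_two]
      rcases m with _ | y
      · rfl
      · rw [Nat.add_sub_cancel]; ring
    rw [show 2 * n - 3 * m = m by omega]
    generalize n * (n - 1) / 2 = a at e1 ⊢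
    generalize (∑ i ∈ Finset.range m, i) = c at e3 ⊢
    subst hn
    nlinarith
  have hsplit : ∀ k, (∏ i ∈ Finset.range (2 * k), ((q : ℤ) ^ (i + 1) + (-1) ^ i)) =
      (∏ j ∈ Finset.range k, ((q : ℤ) ^ (2 * j + 1) + 1)) * (qfact (q ^ 2) k : ℕ) := by
    intro k
    induction k with
    | zero => simp [qfact]
    | succ k ih =>
      have he : ((((q ^ 2) ^ (k + 1) - 1 : ℕ)) : ℤ) = (q : ℤ) ^ (2 * k + 2) - 1 := by
        rw [Nat.cast_sub (Nat.one_le_pow _ _ (by positivity))]; push_cast; ring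
      rw [show 2 * (k + 1) = 2 * k + 1 + 1 by ring, Finset.prod_range_succ, Finset.prod_range_succ, ih,
        Finset.prod_range_succ, qfact, qfact, Finset.prod_range_succ, Nat.cast_mul, he,
        pow_succ (-1 : ℤ) (2 * k), pow_mul (-1 : ℤ)]
      ring
  have hN' : (N : ℤ) = ∏ j ∈ Finset.range m, ((q : ℤ) ^ (2 * j + 1) + 1) := by
    rw [show Finset.range n = Finset.range (2 * m) by rw [hn, two_mul], hsplit, hexp, pow_add] at h2
    have hqf : ((qfact (q ^ 2) m : ℕ) : ℤ) ≠ 0 := by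
      exact_mod_cast (qfact_pos (show 2 ≤ q ^ 2 by nlinarith) m).ne'
    refine mul_right_cancel₀ hqf (mul_left_cancel₀
      (mul_ne_zero (pow_ne_zero (m * (2 * n - 3 * m)) hq) (pow_ne_zero (2 * ∑ i ∈ Finset.range m, i) hq)) ?_)
    rw [show (0 * (0 - 1) / 2 : ℕ) = 0 by rfl, pow_zero, mul_one] at h2
    linear_combination -h2
  have h4 := congrArg (fun z : ℤ => (z : ZMod r)) hN'
  push_cast at h4
  rw [(ZMod.natCast_eq_zero_iff _ _).2 h] at h4
  obtain ⟨j, -, hj⟩ := Finset.prod_eq_zero_iff.1 h4.symm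
  have hqj : (q : ZMod r) ^ (2 * j + 1) = -1 := eq_neg_of_add_eq_zero_left hj
  have hd1 : orderOf (q : ZMod r) ∣ 2 * (2 * j + 1) :=
    orderOf_dvd_of_pow_eq_one (by rw [mul_comm, pow_mul, hqj, neg_one_sq])
  have hd2 : ¬ orderOf (q : ZMod r) ∣ 2 * j + 1 := fun hd => by
    have he : (-1 : ZMod r) = 1 := hqj.symm.trans (orderOf_dvd_iff_pow_eq_one.1 hd)
    haveI : Fact (2 < r) := ⟨by have := hr.two_le; omega⟩
    exact ZMod.neg_one_ne_one he
  rcases Nat.even_or_odd (orderOf (q : ZMod r)) with ⟨w, hw⟩ | ho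
  · rw [hw, ← two_mul] at hd1 ⊢
    have := Nat.eq_zero_or_pos w
    have hwd := Nat.dvd_of_mul_dvd_mul_left (by norm_num : 0 < 2) hd1
    have hwo : Odd w := Odd.of_dvd_nat ⟨j, rfl⟩ hwd
    obtain ⟨v, rfl⟩ := hwo
    omega
  · exact absurd ((Nat.coprime_two_right.2 ho).dvd_of_dvd_mul_left hd1) hd2

variable {p : ℕ} [Fact p.Prime] [CharP K p]

/-- The index of the stabiliser of a pair is a power of `p` times the number of subspaces. -/
theorem dvd_count (hn : n = m + m) (hm : 1 ≤ m) (h : Pr hK U V) {r : ℕ} (hr : r.Prime) (hrp : r ≠ p)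
    (hd : r ∣ (Geo.subspaceStabilizer (col U) ⊓ Geo.subspaceStabilizer (col V) ⊓
      (GU n K q ⊓ Geo.specialLinear (Fin n) K)).relIndex (GU n K q ⊓ Geo.specialLinear (Fin n) K)) :
    r ∣ Nat.card {W : Submodule K (Fin n → K) // finrank K ↥W = m ∧ (∀ u ∈ W, ∀ v ∈ W, hermForm n K q u v = 0)} := by
  classical
  set S := GU n K q ⊓ Geo.specialLinear (Fin n) K with hS
  set P := Geo.subspaceStabilizer (col U) ⊓ S with hP
  set L := Geo.subspaceStabilizer (col U) ⊓ Geo.subspaceStabilizer (col V) ⊓ S with hL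
  have hLP : L ≤ P := fun g hg => ⟨hg.1.1, hg.2⟩
  let f : S → {W : Submodule K (Fin n → K) // finrank K ↥W = m ∧ (∀ u ∈ W, ∀ v ∈ W, hermForm n K q u v = 0)} :=
    fun g => ⟨(col U).map (Matrix.toLin' (g.1 : Matrix (Fin n) (Fin n) K)),
      (Submodule.equivMapOfInjective _ (inj_toLin g.1) _).finrank_eq.symm.trans h.finrank_col, by
        rintro _ ⟨u, hu, rfl⟩ _ ⟨v, hv, rfl⟩
        rw [Matrix.toLin'_apply, Matrix.toLin'_apply]
        exact (g.2.1 u v).trans (col_iso h.uu u hu v hv)⟩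
  have hf : ∀ g : S, (f g).1 = (col U).map (Matrix.toLin' (g.1 : Matrix (Fin n) (Fin n) K)) := fun g => rfl
  have hsurj : Function.Surjective f := by
    rintro ⟨W, hW, hWs⟩
    obtain ⟨C, hC⟩ := W.exists_isCompl
    have hCd : finrank K C = m := by
      have := Submodule.finrank_add_eq_of_isCompl hC
      rw [hW, Module.finrank_fin_fun] at this; omega
    obtain ⟨U', V', h', hU', -, -⟩ := exists_pr hK hn hW hWs hCd hC.disjoint
    obtain ⟨g, hg, hgU, -⟩ := exists_move hn hm h h'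
    exact ⟨⟨g, hg⟩, Subtype.ext (hgU.trans hU')⟩
  have hcard := natCard_eq_mul f (P.subgroupOf S) fun a b => by
    rw [Subgroup.mem_subgroupOf, hP, Subgroup.mem_inf, Subgroup.coe_mul, Subgroup.coe_inv, mem_stab, Subtype.ext_iff,
      hf, hf, Units.val_mul, Matrix.toLin'_mul, Submodule.map_comp]
    constructor
    · intro e
      refine ⟨?_, S.mul_mem (S.inv_mem a.2) b.2⟩
      rw [← e, ← Submodule.map_comp, ← Matrix.toLin'_mul, ← Units.val_mul, inv_mul_cancel, Units.val_one,
        Matrix.toLin'_one, Submodule.map_id]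
    · intro e
      conv_lhs => rw [← e.1, ← Submodule.map_comp, ← Matrix.toLin'_mul, ← Units.val_mul, mul_inv_cancel, Units.val_one,
        Matrix.toLin'_one, Submodule.map_id]
  rw [Nat.card_congr (Equiv.setCongr hsurj.range_eq), Nat.card_congr (Equiv.Set.univ _)] at hcard
  have hPS : P.relIndex S = Nat.card {W : Submodule K (Fin n → K) // finrank K ↥W = m ∧
      (∀ u ∈ W, ∀ v ∈ W, hermForm n K q u v = 0)} := by
    refine Nat.eq_of_mul_eq_mul_left (Nat.card_pos (α := P.subgroupOf S)) ?_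
    rw [Subgroup.relIndex, Subgroup.card_mul_index, hcard, mul_comm]
  let N : Subgroup (GL (Fin n) K) :=
    { carrier := {u | u ∈ P ∧ (u : Matrix (Fin n) (Fin n) K) * U = U}
      mul_mem' := fun {a b} ha hb => ⟨P.mul_mem ha.1 hb.1, by rw [Units.val_mul, Matrix.mul_assoc, hb.2, ha.2]⟩
      one_mem' := ⟨P.one_mem, by rw [Units.val_one, Matrix.one_mul]⟩
      inv_mem' := fun {a} ha => ⟨P.inv_mem ha.1, by
        conv_lhs => rw [← ha.2, ← Matrix.mul_assoc, ← Units.val_mul, inv_mul_cancel, Units.val_one, Matrix.one_mul]⟩ }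
  have hNp : ∀ u ∈ N, u ^ p = 1 ∧ (u : Matrix (Fin n) (Fin n) K).det = 1 := by
    rintro u ⟨hu, huU⟩
    set M := (u : Matrix (Fin n) (Fin n) K)
    have hMM : hst hK M * M = 1 := (mem_GU_iff hK _).1 hu.2.1
    have h1 : hst hK U * M = hst hK U := by
      conv_lhs => rw [← huU, hst_mul, Matrix.mul_assoc, hMM, Matrix.mul_one]
    have h2 : (M - 1) * (M - 1) = 0 := by
      conv_lhs => rw [show (M - 1) * (M - 1) = (M - 1) * ((U * hst hK V + V * hst hK U) * (M - 1)) by
        rw [h.complete hn, Matrix.one_mul]]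
      rw [Matrix.add_mul, Matrix.mul_assoc V, Matrix.mul_sub (hst hK U), h1, Matrix.mul_one, sub_self, Matrix.mul_zero,
        add_zero, ← Matrix.mul_assoc, ← Matrix.mul_assoc, Matrix.sub_mul M 1 U, huU, Matrix.one_mul, sub_self,
        Matrix.zero_mul, Matrix.zero_mul]
    have hne : Nonempty (Fin n) := ⟨⟨0, by omega⟩⟩
    haveI : CharP (Matrix (Fin n) (Fin n) K) p := charP_of_injective_algebraMap' K p
    have h3 : M ^ p = 1 := by
      conv_lhs => rw [show M = (M - 1) + 1 by rw [sub_add_cancel]]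
      rw [add_pow_char_of_commute p (Commute.one_right _), one_pow, ← Nat.sub_add_cancel (Fact.out : p.Prime).two_le,
        pow_add, pow_two, h2, Matrix.mul_zero, zero_add]
    refine ⟨Units.ext (by rw [Units.val_pow_eq_pow_val, h3, Units.val_one]), ?_⟩
    have h4 := congrArg Matrix.det h3
    rw [Matrix.det_pow, Matrix.det_one] at h4
    exact frobenius_inj K p (show frobenius K p M.det = frobenius K p 1 by rw [frobenius_def, frobenius_def, one_pow, h4])
  have hbij : Function.Bijective (fun x : L × N => (⟨x.1.1 * x.2.1, P.mul_mem (hLP x.1.2) x.2.2.1⟩ : P)) := by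
    constructor
    · intro a b hab
      have hab' : a.1.1 * a.2.1 = b.1.1 * b.2.1 := congrArg Subtype.val hab
      have hw : b.1.1⁻¹ * a.1.1 = b.2.1 * a.2.1⁻¹ := by
        rw [inv_mul_eq_iff_eq_mul, ← mul_assoc, eq_mul_inv_iff_mul_eq, hab']
      have hwL : b.1.1⁻¹ * a.1.1 ∈ L := L.mul_mem (L.inv_mem b.1.2) a.1.2
      have hwN : b.1.1⁻¹ * a.1.1 ∈ N := hw ▸ N.mul_mem b.2.2 (N.inv_mem a.2.2)
      have h1 : b.1.1⁻¹ * a.1.1 = 1 := by
        generalize b.1.1⁻¹ * a.1.1 = l at hwL hwN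
        set M := (l : Matrix (Fin n) (Fin n) K)
        obtain ⟨B, hB⟩ := exists_factor (U := V) (M := M * V) fun c => by
          rw [← Matrix.mulVec_mulVec, ← mem_stab.1 hwL.1.2]
          exact ⟨_, mem_col.2 ⟨c, rfl⟩, rfl⟩
        have hMM : hst hK M * M = 1 := (mem_GU_iff hK _).1 hwL.2.1
        have hB1 : B = 1 := by
          have : hst hK (M * U) * (M * V) = 1 := by
            rw [hst_mul, Matrix.mul_assoc, ← Matrix.mul_assoc (hst hK M), hMM, Matrix.one_mul, h.uv]
          rwa [hwN.2, hB, ← Matrix.mul_assoc, h.uv, Matrix.one_mul] at this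
        refine Units.ext ?_
        rw [Units.val_one]
        calc M = M * (U * hst hK V + V * hst hK U) := by rw [h.complete hn, Matrix.mul_one]
          _ = M * U * hst hK V + M * V * hst hK U := by simp only [Matrix.mul_add, Matrix.mul_assoc]
          _ = 1 := by rw [hwN.2, hB, hB1, Matrix.mul_one, h.complete hn]
      have h2 : a.1.1 = b.1.1 := (inv_mul_eq_one.1 h1).symm
      exact Prod.ext (Subtype.ext h2) (Subtype.ext (mul_left_cancel (h2 ▸ hab')))
    · rintro ⟨g, hg⟩
      have hg' := mem_stab.1 hg.1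
      set M := (g : Matrix (Fin n) (Fin n) K)
      obtain ⟨A₀, hA₀⟩ := exists_factor (U := U) (M := M * U) fun c => by
        rw [← Matrix.mulVec_mulVec, ← hg']; exact ⟨_, mem_col.2 ⟨c, rfl⟩, rfl⟩
      obtain ⟨A₁, hA₁⟩ := exists_factor (U := U) (M := (g⁻¹).1 * U) fun c => by
        rw [← Matrix.mulVec_mulVec, ← mem_stab.1 (Subgroup.inv_mem _ hg.1)]; exact ⟨_, mem_col.2 ⟨c, rfl⟩, rfl⟩
      have hAA : A₀ * A₁ = 1 := by
        have : M * ((g⁻¹).1 * U) = U := by rw [← Matrix.mul_assoc, Units.mul_inv, Matrix.one_mul]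
        rw [hA₁, ← Matrix.mul_assoc, hA₀, Matrix.mul_assoc] at this
        have := congrArg (fun X => hst hK V * X) this
        rwa [← Matrix.mul_assoc, h.vu, Matrix.one_mul] at this
      let A : GL (Fin m) K := ⟨A₀, A₁, hAA, mul_eq_one_comm.1 hAA⟩
      obtain ⟨l, hlU, hlV, -⟩ := exists_transfer_pr h (h.twist A) hn
      have hlA : l.1 ∈ Geo.subspaceStabilizer (col U) ⊓ Geo.subspaceStabilizer (col V) :=
        ⟨mem_stab.2 (map_col (A := A) hlU), mem_stab.2 (map_col (A := invSt hK A) hlV)⟩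
      have huU : ((l.1⁻¹ * g : GL (Fin n) K) : Matrix (Fin n) (Fin n) K) * U = U := by
        rw [Units.val_mul, Matrix.mul_assoc, show M * U = (l.1 : Matrix (Fin n) (Fin n) K) * U by
          rw [hlU]; exact hA₀, ← Matrix.mul_assoc, Units.inv_mul, Matrix.one_mul]
      have huP : l.1⁻¹ * g ∈ Geo.subspaceStabilizer (col U) ⊓ GU n K q :=
        ⟨mul_mem (Subgroup.inv_mem _ hlA.1) hg.1, mul_mem (Subgroup.inv_mem _ l.2) hg.2.1⟩
      have hdet : (l.1 : Matrix (Fin n) (Fin n) K).det = 1 := by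
        set u := l.1⁻¹ * g with hu
        set M' := (u : Matrix (Fin n) (Fin n) K)
        have hMM : hst hK M' * M' = 1 := (mem_GU_iff hK _).1 huP.2
        have h1 : hst hK U * M' = hst hK U := by
          conv_lhs => rw [← huU, hst_mul, Matrix.mul_assoc, hMM, Matrix.mul_one]
        have hd' : M'.det = 1 := by
          have hM' : M' = 1 + U * (hst hK V * (M' - 1)) := by
            rw [← Matrix.mul_assoc]
            have e : (U * hst hK V + V * hst hK U) * (M' - 1) = U * hst hK V * (M' - 1) := by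
              rw [Matrix.add_mul, Matrix.mul_assoc V, Matrix.mul_sub (hst hK U), h1, Matrix.mul_one, sub_self,
                Matrix.mul_zero, add_zero]
            rw [← e, h.complete hn, Matrix.one_mul, add_sub_cancel]
          rw [hM', Matrix.det_one_add_mul_comm, Matrix.mul_assoc, Matrix.sub_mul, huU, Matrix.one_mul, sub_self,
            Matrix.mul_zero, add_zero, Matrix.det_one]
        have hgd : (g : Matrix (Fin n) (Fin n) K).det = 1 := congrArg Units.val (MonoidHom.mem_ker.1 hg.2.2)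
        have : (l.1 : Matrix (Fin n) (Fin n) K).det * M'.det = 1 := by
          rw [← Matrix.det_mul, ← Units.val_mul, hu, mul_inv_cancel_left, hgd]
        rwa [hd', mul_one] at this
      have hlS : l.1 ∈ S := ⟨l.2, MonoidHom.mem_ker.2 (Units.ext hdet)⟩
      have hlL : l.1 ∈ L := ⟨hlA, hlS⟩
      refine ⟨(⟨l.1, hlL⟩, ⟨l.1⁻¹ * g, P.mul_mem (P.inv_mem (hLP hlL)) hg, huU⟩), Subtype.ext ?_⟩
      exact mul_inv_cancel_left _ _
  have hLPi : L.relIndex P = Nat.card N := by
    refine Nat.eq_of_mul_eq_mul_left (Nat.card_pos (α := L.subgroupOf P)) ?_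
    rw [Subgroup.relIndex, Subgroup.card_mul_index, Nat.card_congr (Subgroup.subgroupOfEquivOfLe hLP).toEquiv,
      ← Nat.card_prod, Nat.card_congr (Equiv.ofBijective _ hbij)]
  obtain ⟨e, he⟩ := (IsPGroup.iff_card (p := p) (G := N)).1 fun u => ⟨1, Subtype.ext (by
    rw [pow_one, SubgroupClass.coe_pow]; exact (hNp u.1 u.2).1)⟩
  rw [← Subgroup.relIndex_mul_relIndex L P S hLP inf_le_right, hPS, hLPi, he] at hd
  exact (hr.dvd_mul.1 hd).resolve_left fun h' =>
    hrp ((Nat.prime_dvd_prime_iff_eq hr Fact.out).1 (hr.dvd_of_dvd_pow h'))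

/-- An element stabilising a pair and moving vectors along one line only is trivial. -/
theorem no_small (hK : Fintype.card K = q ^ 2) (hn : n = m + m) (hm : 2 ≤ m)
    {D : Fin 2 → Submodule K (Fin n → K)} (hD : Geo.IsMDecomposition m D)
    (hDs : ∀ i, Geo.IsTotallySingularFor (hermForm n K q) (D i)) {y : GL (Fin n) K}
    (hy : y ∈ GU n K q) (hyD : y ∈ Geo.decompositionStabilizer D) {e : Fin n → K}
    (he : ∀ v, (y : Matrix (Fin n) (Fin n) K) *ᵥ v - v ∈ K ∙ e) :
    (y : Matrix (Fin n) (Fin n) K) = 1 := by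
  classical
  obtain ⟨σ, hσ⟩ := hyD
  set M := (y : Matrix (Fin n) (Fin n) K)
  have hmap : ∀ i, ∀ v ∈ D i, M *ᵥ v ∈ D (σ i) := fun i v hv => by
    rw [← hσ i]; exact ⟨v, hv, Matrix.toLin'_apply _ _⟩
  have hd : ∀ {i j : Fin 2}, i ≠ j → Disjoint (D i) (D j) := fun h => hD.indep.pairwiseDisjoint h
  have hfix : ∀ i, σ i = i := fun i => by
    by_contra hne
    let T : D i →ₗ[K] (K ∙ e : Submodule K (Fin n → K)) :=
      ((Matrix.toLin' M - LinearMap.id).comp (D i).subtype).codRestrict _ fun v => by simpa using he v.1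
    have hT : Function.Injective T := (injective_iff_map_eq_zero T).2 fun v hv => by
      have h1 : M *ᵥ v.1 - v.1 = 0 := by simpa [T] using congrArg Subtype.val hv
      refine Subtype.ext ((Submodule.mem_bot K).1 ((hd hne).le_bot ⟨?_, v.2⟩))
      have h2 := hmap i v.1 v.2
      rwa [sub_eq_zero.1 h1] at h2
    have h1 := LinearMap.finrank_le_finrank_of_injective hT
    rw [hD.finrank_eq] at h1
    have := finrank_span_le_card (R := K) ({e} : Set (Fin n → K))
    simp only [Set.toFinset_singleton, Finset.card_singleton] at this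
    omega
  have hfine : ∀ i j, i ≠ j → (∀ v ∈ D i, M *ᵥ v = v) → M = 1 := fun i j hij hi => by
    have hcov : ∀ v, ∃ a ∈ D i, ∃ b ∈ D j, a + b = v := fun v => by
      have hsup : D i ⊔ D j = ⊤ := Submodule.eq_top_of_disjoint _ _
        (by rw [hD.finrank_eq, hD.finrank_eq, Module.finrank_fin_fun, hn]) (hd hij)
      exact Submodule.mem_sup.1 (show v ∈ D i ⊔ D j by rw [hsup]; trivial)
    refine Matrix.ext_iff_mulVec.2 fun v => ?_
    obtain ⟨a, ha, b, hb, rfl⟩ := hcov v
    rw [Matrix.one_mulVec, Matrix.mulVec_add, hi a ha]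
    congr 1
    have hz : ∀ w, hermForm n K q (M *ᵥ b - b) w = 0 := fun w => by
      obtain ⟨a', ha', b', hb', rfl⟩ := hcov w
      have hMb : M *ᵥ b ∈ D j := hfix j ▸ hmap j b hb
      rw [← hermB_apply hK n, map_add, LinearMap.add_apply, hermB_apply, hermB_apply,
        hDs j _ (sub_mem hMb hb) b' hb', add_zero, ← hermB_apply hK n, map_sub, hermB_apply, hermB_apply, sub_eq_zero]
      conv_lhs => rw [← hi a' ha']
      exact hy b a'
    refine sub_eq_zero.1 (funext fun k => ?_)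
    have := hz (Pi.single k 1)
    rwa [hermForm_single_right hK] at this
  by_cases h0 : ∀ v ∈ D 0, M *ᵥ v = v
  · exact hfine 0 1 (by decide) h0
  · push Not at h0
    obtain ⟨v, hv, hne⟩ := h0
    refine hfine 1 0 (by decide) fun w hw => ?_
    obtain ⟨a, ha⟩ := Submodule.mem_span_singleton.1 (he v)
    have ha0 : a ≠ 0 := fun e0 => hne (sub_eq_zero.1 (by rw [← ha, e0, zero_smul]))
    have h0' : e ∈ D 0 := by
      have h1 : M *ᵥ v - v ∈ D 0 := sub_mem (hfix 0 ▸ hmap 0 v hv) hv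
      rw [← ha] at h1
      exact ((D 0).smul_mem_iff ha0).1 h1
    obtain ⟨b, hb⟩ := Submodule.mem_span_singleton.1 (he w)
    refine sub_eq_zero.1 ((Submodule.mem_bot K).1 ((hd (show (0 : Fin 2) ≠ 1 by decide)).le_bot
      ⟨?_, sub_mem (hfix 1 ▸ hmap 1 w hw) hw⟩))
    rw [← hb]; exact (D 0).smul_mem b h0'

/-- An element of order two modulo scalars with an invariant subspace has an invariant complement. -/
theorem exists_complement (h2 : (2 : K) ≠ 0) (M : Matrix (Fin n) (Fin n) K) {z : K} (hz : M ^ 2 = z • 1)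
    (hz0 : z ≠ 0) {W : Submodule K (Fin n → K)} (hW : ∀ w ∈ W, M *ᵥ w ∈ W) :
    ∃ C : Submodule K (Fin n → K), IsCompl W C ∧ ∀ v ∈ C, M *ᵥ v ∈ C := by
  obtain ⟨C₀, hC₀⟩ := W.exists_isCompl
  let π : (Fin n → K) →ₗ[K] (Fin n → K) := W.subtype ∘ₗ W.projectionOnto C₀ hC₀
  have hπ : ∀ v, π v ∈ W := fun v => (W.projectionOnto C₀ hC₀ v).2
  have hπW : ∀ w ∈ W, π w = w := fun w hw => by
    show ((W.projectionOnto C₀ hC₀) ((⟨w, hw⟩ : W) : Fin n → K)).1 = w
    rw [Submodule.projectionOnto_apply_left]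
  have hMM : ∀ v, M *ᵥ (M *ᵥ v) = z • v := fun v => by
    rw [Matrix.mulVec_mulVec, ← pow_two, hz, Matrix.smul_mulVec, Matrix.one_mulVec]
  let f : (Fin n → K) →ₗ[K] (Fin n → K) :=
    (2 : K)⁻¹ • (π + z⁻¹ • (Matrix.toLin' M ∘ₗ π ∘ₗ Matrix.toLin' M))
  have hfv : ∀ v, f v = (2 : K)⁻¹ • (π v + z⁻¹ • M *ᵥ π (M *ᵥ v)) := fun v => by simp [f]
  have hf : ∀ v, f v ∈ W := fun v => by
    rw [hfv]; exact W.smul_mem _ (add_mem (hπ v) (W.smul_mem _ (hW _ (hπ _))))
  have hfW : ∀ w ∈ W, f w = w := fun w hw => by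
    rw [hfv, hπW w hw, hπW _ (hW w hw), hMM, smul_smul, inv_mul_cancel₀ hz0, one_smul, ← two_smul K w, smul_smul,
      inv_mul_cancel₀ h2, one_smul]
  refine ⟨LinearMap.ker f, IsCompl.of_eq (Submodule.eq_bot_iff _ |>.2 fun v hv => ?_) (top_unique fun v _ => ?_),
    fun v hv => ?_⟩
  · rw [← hfW v hv.1]; exact hv.2
  · refine Submodule.mem_sup.2 ⟨f v, hf v, v - f v, ?_, add_sub_cancel _ _⟩
    rw [LinearMap.mem_ker, map_sub, hfW _ (hf v), sub_self]
  · have hv' : f v = 0 := hv
    have e : f (M *ᵥ v) = M *ᵥ f v := by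
      rw [hfv, hfv, hMM, map_smul]
      simp only [Matrix.mulVec_smul, Matrix.mulVec_add, hMM, smul_smul, inv_mul_cancel₀ hz0, one_smul]
      rw [add_comm]
    rw [LinearMap.mem_ker, e, hv', Matrix.mulVec_zero]

/-- Conjugacy into the stabiliser of a pair, elements of prime order. -/
theorem criterion (p : ℕ) [Fact p.Prime] [CharP K p] (hK : Fintype.card K = q ^ 2) (hn4 : 4 ≤ n) (he : Even n)
    {D : Fin 2 → Submodule K (Fin n → K)} (hD : Geo.IsMDecomposition (n / 2) D)
    (hDs : ∀ i, Geo.IsTotallySingularFor (hermForm n K q) (D i)) (r : ℕ) [hr : Fact r.Prime]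
    (hΩ : r ∣ (Geo.decompositionStabilizer D).relIndex (GU n K q ⊓ Geo.specialLinear (Fin n) K)) :
    (∀ x ∈ GU n K q ⊓ Geo.specialLinear (Fin n) K,
      (∃ z : K, ((x ^ r : GL (Fin n) K) : Matrix (Fin n) (Fin n) K) = z • (1 : Matrix (Fin n) (Fin n) K)) →
      (∀ z : K, (x : Matrix (Fin n) (Fin n) K) ≠ z • (1 : Matrix (Fin n) (Fin n) K)) →
      ∃ g ∈ GU n K q ⊓ Geo.specialLinear (Fin n) K, g⁻¹ * x * g ∈ Geo.decompositionStabilizer D) ↔
    (r = 2 ∧ Odd q ∧ padicValNat 2 (q + 1) ≤ padicValNat 2 n) := by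
  classical
  obtain ⟨m, hn⟩ := he
  have hm : n / 2 = m := by omega
  rw [hm] at hD
  set S := GU n K q ⊓ Geo.specialLinear (Fin n) K with hS
  have hq2 := two_le_q hK
  obtain ⟨l, -, hl⟩ := FiniteField.card K p
  have hpq : p ∣ q := (Fact.out : p.Prime).dvd_of_dvd_pow (n := 2) (by rw [← hK, hl]; exact dvd_pow_self p l.pos.ne')
  obtain ⟨U, V, hP, hU, hV, -⟩ := exists_pr hK hn (hD.finrank_eq 0) (hDs 0) (hD.finrank_eq 1)
    (hD.indep.pairwiseDisjoint (show (0 : Fin 2) ≠ 1 by decide))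
  have hV1 : col V = D 1 := hV (hDs 1)
  -- elements moving vectors along a line
  have hsmall : ∀ x ∈ GU n K q, ∀ d : K, d ^ (q + 1) = 1 → ∀ e : Fin n → K,
      (∀ v, (x : Matrix (Fin n) (Fin n) K) *ᵥ v - d • v ∈ K ∙ e) →
      ∀ g ∈ S, g⁻¹ * x * g ∈ Geo.decompositionStabilizer D → (x : Matrix (Fin n) (Fin n) K) = d • 1 := by
    intro x hx d hd e he g hg hxD
    have hd0 : d ≠ 0 := fun h => by rw [h, zero_pow (Nat.succ_ne_zero q)] at hd; exact zero_ne_one hd
    obtain ⟨c, hc⟩ := exists_smul hK (n := n) (1 : GU n K q) (d := d⁻¹) (by rw [inv_pow, hd, inv_one])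
    have hc' : (c.1 : Matrix (Fin n) (Fin n) K) = d⁻¹ • 1 := by rw [hc]; rfl
    set y := g⁻¹ * x * g
    have hyD' : c.1 * y ∈ Geo.decompositionStabilizer D := by
      refine mul_mem ⟨1, fun i => ?_⟩ hxD
      rw [hc', map_smul, Matrix.toLin'_one, Submodule.map_smul _ _ _ (inv_ne_zero hd0), Submodule.map_id]
      rfl
    have := no_small hK hn (by omega) hD hDs (mul_mem c.2 (mul_mem (mul_mem (inv_mem hg.1) hx) hg.1)) hyD'
      (e := d⁻¹ • ((g⁻¹).1 *ᵥ e)) fun v => by
      obtain ⟨a, ha⟩ := Submodule.mem_span_singleton.1 (he (g.1 *ᵥ v))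
      have hgg : (g⁻¹).1 *ᵥ (g.1 *ᵥ v) = v := by rw [Matrix.mulVec_mulVec, Units.inv_mul, Matrix.one_mulVec]
      refine Submodule.mem_span_singleton.2 ⟨a, ?_⟩
      rw [Units.val_mul, hc', Matrix.smul_mul, Matrix.one_mul, Matrix.smul_mulVec, Units.val_mul, Units.val_mul,
        ← Matrix.mulVec_mulVec, ← Matrix.mulVec_mulVec, smul_comm, ← Matrix.mulVec_smul, ha, Matrix.mulVec_sub,
        Matrix.mulVec_smul, hgg, smul_sub, smul_smul, inv_mul_cancel₀ hd0, one_smul]
    have hy : (y : Matrix (Fin n) (Fin n) K) = d • 1 := by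
      rw [Units.val_mul, hc', Matrix.smul_mul, Matrix.one_mul] at this
      rw [← this, smul_smul, mul_inv_cancel₀ hd0, one_smul]
    calc (x : Matrix (Fin n) (Fin n) K) = g.1 * (y : Matrix (Fin n) (Fin n) K) * (g⁻¹).1 := by
          simp only [y, ← Units.val_mul]; congr 1; group
      _ = d • 1 := by rw [hy, Matrix.mul_smul, Matrix.mul_one, Matrix.smul_mul, Units.mul_inv]
  constructor
  · intro H
    by_cases hrp : r = p
    · exfalso
      obtain ⟨d, hd⟩ : ∃ d : K, qFrob hK d ≠ d := by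
        by_contra hall
        push Not at hall
        exact qFrob_ne_id hK (RingHom.ext hall)
      set τ := d - qFrob hK d
      have hτ : qFrob hK τ = -τ := by show qFrob hK (d - _) = _; rw [map_sub, qFrob_qFrob]; ring
      have hτ0 : τ ≠ 0 := sub_ne_zero.2 hd.symm
      let i₀ : Fin m := ⟨0, by omega⟩
      set E : Matrix (Fin m) (Fin m) K := Matrix.single i₀ i₀ 1 with hE
      set T := τ • (U * E * hst hK U) with hT
      have hTT : T * T = 0 := by
        rw [hT, Matrix.smul_mul, Matrix.mul_smul, Matrix.mul_assoc (U * E), ← Matrix.mul_assoc (hst hK U),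
          ← Matrix.mul_assoc (hst hK U), hP.uu]
        simp
      have hTs : hst hK T = -T := by
        have hEs : hst hK E = E := by
          ext i j
          simp only [hst, hE, Matrix.transpose_apply, Matrix.map_apply, Matrix.single_apply]
          by_cases e : i₀ = j ∧ i₀ = i
          · rw [if_pos e, map_one, if_pos ⟨e.2, e.1⟩]
          · rw [if_neg e, map_zero, if_neg fun e' => e ⟨e'.2, e'.1⟩]
        have hsm : hst hK T = qFrob hK τ • hst hK (U * E * hst hK U) := by
          ext i j; simp only [hT, hst, Matrix.transpose_apply, Matrix.map_apply, Matrix.smul_apply, smul_eq_mul, map_mul]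
        rw [hsm, hst_mul, hst_mul, hst_hst, hEs, hτ, hT, neg_smul, Matrix.mul_assoc]
      have hmm : (1 - T) * (1 + T) = 1 := by
        rw [Matrix.sub_mul, Matrix.mul_add, Matrix.mul_add, hTT, Matrix.one_mul, Matrix.one_mul, Matrix.mul_one]
        abel
      let x : GL (Fin n) K := ⟨1 + T, 1 - T, mul_eq_one_comm.1 hmm, hmm⟩
      have hx : x ∈ GU n K q := (mem_GU_iff hK _).2 (by
        show hst hK (1 + T) * (1 + T) = 1
        rw [show hst hK (1 + T) = hst hK (1 : Matrix (Fin n) (Fin n) K) + hst hK T by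
          rw [hst, Matrix.map_add _ (map_add _), Matrix.transpose_add]; rfl,
          hst_one, hTs, ← sub_eq_add_neg, hmm])
      haveI : Nonempty (Fin n) := ⟨⟨0, by omega⟩⟩
      haveI : CharP (Matrix (Fin n) (Fin n) K) p := charP_of_injective_algebraMap' K p
      have hxp : (1 + T) ^ p = 1 := by
        rw [add_pow_char_of_commute p (Commute.one_left _), one_pow,
          ← Nat.sub_add_cancel (Fact.out : p.Prime).two_le, pow_add, pow_two, hTT, Matrix.mul_zero, add_zero]
      have hdet : (1 + T).det = 1 := by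
        have h4 := congrArg Matrix.det hxp
        rw [Matrix.det_pow, Matrix.det_one] at h4
        exact frobenius_inj K p (show frobenius K p _ = frobenius K p 1 by
          rw [frobenius_def, frobenius_def, one_pow, h4])
      have hline : ∀ v, (x : Matrix (Fin n) (Fin n) K) *ᵥ v - (1 : K) • v ∈ K ∙ (U *ᵥ Pi.single i₀ 1) := fun v => by
        refine Submodule.mem_span_singleton.2 ⟨τ * (hst hK U *ᵥ v) i₀, ?_⟩
        show _ = (1 + T) *ᵥ v - (1 : K) • v
        rw [one_smul, Matrix.add_mulVec, Matrix.one_mulVec, add_sub_cancel_left, hT, Matrix.smul_mulVec,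
          ← Matrix.mulVec_mulVec, ← Matrix.mulVec_mulVec, hE,
          show Matrix.single i₀ i₀ (1 : K) *ᵥ (hst hK U *ᵥ v) =
            (hst hK U *ᵥ v) i₀ • (Pi.single i₀ (1 : K) : Fin m → K) by
            generalize hst hK U *ᵥ v = w
            funext j
            by_cases e : j = i₀ <;> simp [e, Matrix.single_mulVec_eq],
          Matrix.mulVec_smul, smul_smul]
      have hne : (x : Matrix (Fin n) (Fin n) K) ≠ (1 : K) • 1 := fun h => by
        have h1 : T = 0 := by
          have h' : (1 : Matrix (Fin n) (Fin n) K) + T = 1 := h.trans (one_smul _ _)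
          exact add_eq_left.1 h'
        have h2 : hst hK V * T * V = τ • E := by
          rw [hT, Matrix.mul_smul, Matrix.smul_mul, ← Matrix.mul_assoc, ← Matrix.mul_assoc, hP.vu, Matrix.one_mul,
            Matrix.mul_assoc, hP.uv, Matrix.mul_one]
        rw [h1, Matrix.mul_zero, Matrix.zero_mul] at h2
        have := congrFun (congrFun h2 i₀) i₀
        simp [hE] at this
        exact hτ0 this.symm
      have hns : ∀ z : K, (x : Matrix (Fin n) (Fin n) K) ≠ z • 1 := fun z hz => hne (by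
        have h2 : z = 1 := by
          have h3 := congrArg (fun M => M *ᵥ (U *ᵥ Pi.single i₀ 1)) hz
          have h4 : T *ᵥ (U *ᵥ Pi.single i₀ 1) = 0 := by
            rw [Matrix.mulVec_mulVec, hT, Matrix.smul_mul, Matrix.mul_assoc, hP.uu, Matrix.mul_zero, smul_zero,
              Matrix.zero_mulVec]
          simp only [x, Matrix.add_mulVec, Matrix.one_mulVec, h4, add_zero, Matrix.smul_mulVec] at h3
          by_contra hz1
          have h5 : U *ᵥ Pi.single i₀ 1 = 0 := by
            have h6 : (1 - z) • (U *ᵥ Pi.single i₀ (1 : K)) = 0 := by rw [sub_smul, one_smul, ← h3, sub_self]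
            exact (smul_eq_zero.1 h6).resolve_left (sub_ne_zero.2 (Ne.symm hz1))
          have h7 := congrFun (congrArg (fun w => hst hK V *ᵥ w) h5) i₀
          rw [Matrix.mulVec_mulVec, hP.vu, Matrix.one_mulVec, Matrix.mulVec_zero, Pi.single_eq_same] at h7
          exact one_ne_zero h7
        rw [← h2]; exact hz)
      obtain ⟨g, hg, hgD⟩ := H x ⟨hx, MonoidHom.mem_ker.2 (Units.ext hdet)⟩
        ⟨1, by rw [hrp, Units.val_pow_eq_pow_val]; exact hxp.trans (one_smul _ _).symm⟩ hns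
      exact hne (hsmall x hx 1 (one_pow _) _ hline g hg hgD)
    have hLH : Geo.subspaceStabilizer (col U) ⊓ Geo.subspaceStabilizer (col V) ⊓ S ≤ Geo.decompositionStabilizer D :=
      fun g hg => ⟨1, Fin.forall_fin_two.2 ⟨hU ▸ mem_stab.1 hg.1.1, hV1 ▸ mem_stab.1 hg.1.2⟩⟩
    have hcount := dvd_count (p := p) hn (by omega) hP hr.out hrp
      (hΩ.trans (Subgroup.relIndex_dvd_of_le_left _ hLH))
    have hcrit := UnitIsoDerange.criterion (p := p) (n := n) (m := m) (i := orderOf (q : ZMod r))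
      (b := if Even (orderOf (q : ZMod r)) then orderOf (q : ZMod r) / 2 else orderOf (q : ZMod r))
      (c := if orderOf (q : ZMod r) % 4 = 0 then orderOf (q : ZMod r)
        else if orderOf (q : ZMod r) % 4 = 2 then orderOf (q : ZMod r) / 2 else 2 * orderOf (q : ZMod r))
      hK (by omega) (by omega) (by omega) hcount rfl rfl rfl
    rcases eq_or_ne r 2 with h2 | h2
    · subst h2
      have hp2 : p ≠ 2 := Ne.symm hrp
      obtain ⟨hqo, h20⟩ := odd_q (p := p) hK hp2
      refine ⟨rfl, Nat.odd_iff.2 hqo, ?_⟩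
      by_contra hv
      obtain ⟨δ, hδ, hδn⟩ := (neg_one_power_iff hK hqo h20 (n := n) (by omega)).2 (Nat.lt_of_not_le hv)
      have hev : Even (q + 1) := Nat.even_iff.2 (by omega)
      have hδ0 : δ ≠ 0 := fun h => by rw [h, zero_pow (Nat.succ_ne_zero q)] at hδ; exact zero_ne_one hδ
      have hδne : -δ ≠ δ := fun h => hδ0 (by
        have : (2 : K) * δ = 0 := by linear_combination -h
        exact (mul_eq_zero.1 this).resolve_left h20)
      let i₀ : Fin n := ⟨0, by omega⟩
      let d : Fin n → K := fun j => if j = i₀ then -δ else δ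
      obtain ⟨x, hx⟩ := exists_diag hK d fun j => by
        show (if _ then _ else _ : K) ^ (q + 1) = 1
        split_ifs
        · rw [hev.neg_pow, hδ]
        · exact hδ
      have hdet : (x.1 : Matrix (Fin n) (Fin n) K).det = 1 := by
        rw [hx, Matrix.det_diagonal, ← Finset.mul_prod_erase _ _ (Finset.mem_univ i₀)]
        rw [show d i₀ = -δ from if_pos rfl, Finset.prod_congr rfl (g := fun _ => δ) (fun j hj =>
          if_neg (Finset.ne_of_mem_erase hj)), Finset.prod_const, Finset.card_erase_of_mem (Finset.mem_univ _),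
          Finset.card_univ, Fintype.card_fin, neg_mul, ← pow_succ', Nat.sub_add_cancel (by omega : 1 ≤ n), hδn, neg_neg]
      have hns : ∀ z : K, (x.1 : Matrix (Fin n) (Fin n) K) ≠ z • 1 := fun z hz => by
        rw [hx, Matrix.smul_one_eq_diagonal] at hz
        have e := Matrix.diagonal_injective hz
        have e1 := (congrFun e i₀).trans (congrFun e ⟨1, by omega⟩).symm
        simp only [d, if_pos rfl, if_neg (show (⟨1, by omega⟩ : Fin n) ≠ i₀ by simp [i₀, Fin.ext_iff])] at e1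
        exact hδne e1
      obtain ⟨g, hg, hgD⟩ := H x.1 ⟨x.2, MonoidHom.mem_ker.2 (Units.ext hdet)⟩
        ⟨δ ^ 2, by
          rw [Units.val_pow_eq_pow_val, hx, Matrix.diagonal_pow, Matrix.smul_one_eq_diagonal]
          congr 1; funext j
          show (if _ then _ else _ : K) ^ 2 = δ ^ 2
          split_ifs <;> ring⟩ hns
      refine hns δ (hsmall x.1 x.2 δ hδ (Pi.single i₀ 1) (fun v => Submodule.mem_span_singleton.2
        ⟨(-δ - δ) * v i₀, ?_⟩) g hg hgD)
      funext j
      rw [Pi.sub_apply, Pi.smul_apply, hx, Matrix.mulVec_diagonal]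
      by_cases hj : j = i₀
      · subst hj; simp [d]; ring
      · simp [d, hj]
    · exfalso
      have hrhs := hcrit.1 fun x hx hz hns => by
        obtain ⟨z, hz⟩ := hz
        rw [Matrix.SpecialLinearGroup.coe_pow] at hz
        obtain ⟨g, hg, hgD⟩ := H (Matrix.SpecialLinearGroup.toGL x)
          ⟨fun u v => hx u v, MonoidHom.mem_ker.2 (Units.ext x.2)⟩
          ⟨z, by rw [Units.val_pow_eq_pow_val]; exact hz⟩ hns
        have hz0 : z ≠ 0 := by
          rintro rfl
          have h9 := congrArg Matrix.det hz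
          haveI : Nonempty (Fin n) := ⟨⟨0, by omega⟩⟩
          rw [Matrix.det_pow, x.2, one_pow, zero_smul, Matrix.det_zero] at h9
          exact one_ne_zero h9
        obtain ⟨σ, hσ⟩ := hgD
        set y := g⁻¹ * Matrix.SpecialLinearGroup.toGL x * g with hy
        have hpow : ∀ (k : ℕ) i, (D i).map (Matrix.toLin' ((y ^ k : GL (Fin n) K) : Matrix (Fin n) (Fin n) K)) =
            D ((σ ^ k) i) := by
          intro k
          induction k with
          | zero => intro i; simp
          | succ k ih =>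
            intro i
            rw [pow_succ', Units.val_mul, Matrix.toLin'_mul, Submodule.map_comp, ih, hσ, pow_succ', Equiv.Perm.mul_apply]
        have hyr : ((y ^ r : GL (Fin n) K) : Matrix (Fin n) (Fin n) K) = z • 1 := by
          rw [hy, show g⁻¹ * Matrix.SpecialLinearGroup.toGL x * g =
            g⁻¹ * Matrix.SpecialLinearGroup.toGL x * (g⁻¹)⁻¹ by rw [inv_inv], conj_pow, inv_inv, Units.val_mul,
            Units.val_mul, Units.val_pow_eq_pow_val]
          show _ * (x : Matrix (Fin n) (Fin n) K) ^ r * _ = _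
          rw [hz, Matrix.mul_smul, Matrix.mul_one, Matrix.smul_mul, Units.inv_mul]
        have hσr : σ ^ r = 1 := Equiv.ext fun i => by
          have h1 := hpow r i
          rw [hyr, map_smul, Matrix.toLin'_one, Submodule.map_smul _ _ _ hz0, Submodule.map_id] at h1
          show (σ ^ r) i = i
          by_contra hne
          have h2 := (hD.indep.pairwiseDisjoint (Ne.symm hne)).eq_bot_of_le h1.le
          have h3 := hD.finrank_eq i
          rw [h2, finrank_bot] at h3
          omega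
        have hσ1 : σ = 1 := by
          have h1 : σ ^ 2 = 1 := (by decide : ∀ s : Equiv.Perm (Fin 2), s ^ 2 = 1) σ
          obtain ⟨w, hw⟩ := hr.out.odd_of_ne_two h2
          rw [hw, pow_succ, pow_mul, h1, one_pow, one_mul] at hσr
          exact hσr
        refine ⟨(D 0).map (Matrix.toLin' (g : Matrix (Fin n) (Fin n) K)), ?_, ?_, ?_⟩
        · rw [← (Submodule.equivMapOfInjective _ (inj_toLin g) (D 0)).finrank_eq, hD.finrank_eq]
        · rintro _ ⟨u, hu, rfl⟩ _ ⟨v, hv, rfl⟩
          rw [Matrix.toLin'_apply, Matrix.toLin'_apply]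
          exact (hg.1 u v).trans (hDs 0 u hu v hv)
        · rw [← Submodule.map_comp, ← Matrix.toLin'_mul,
            show (x : Matrix (Fin n) (Fin n) K) * g.1 = g.1 * (y : Matrix (Fin n) (Fin n) K) by
              rw [← Units.val_mul, hy, mul_assoc g⁻¹, mul_inv_cancel_left, Units.val_mul]; rfl,
            Matrix.toLin'_mul, Submodule.map_comp, hσ 0, hσ1]
          exact le_rfl
      have h4 := count_mod hK hn hr.out h2 hcount
      rcases hrhs with h | ⟨-, hr2, -, -, h | ⟨-, h, -⟩⟩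
      · exact h2 h.1
      · exact h h4
      · rw [if_pos (Nat.even_iff.2 (by omega))] at h
        have hir : orderOf (q : ZMod r) ∣ r - 1 := by
          refine ZMod.orderOf_dvd_card_sub_one fun hq0 => ?_
          rw [hq0, orderOf_zero] at h4
          omega
        generalize orderOf (q : ZMod r) = i at h h4 hir
        obtain ⟨b, hb⟩ : ∃ b, b = i / 2 := ⟨_, rfl⟩
        rw [← hb] at h
        obtain ⟨w, hw⟩ := hir
        have hw' : r - 1 = b * (2 * w) := by rw [hw, show i = 2 * b by omega]; ring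
        have hb0 : 0 < b := by omega
        have hw1 : 1 ≤ w := by rcases w with _ | w <;> simp_all; omega
        rw [hw', Nat.mul_div_cancel_left _ hb0] at h
        have h5 : n / b ≤ 2 * (m / b) + 1 := by
          rw [hn]
          rcases Nat.lt_or_ge (m % b + m % b) b with hlt | hge
          · rw [Nat.add_div_eq_of_add_mod_lt hlt]; omega
          · rw [Nat.add_div_eq_of_le_mod_add_mod hge hb0]; omega
        omega
  · rintro ⟨rfl, hqo, hv⟩ x hx ⟨z, hz⟩ hns
    have hp2 : p ≠ 2 := fun e => by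
      rw [Nat.odd_iff] at hqo; obtain ⟨w, hw⟩ := hpq; subst e; omega
    obtain ⟨-, h20⟩ := odd_q (p := p) hK hp2
    rw [Units.val_pow_eq_pow_val] at hz
    obtain ⟨W, hW, hWs, hWi⟩ := (UnitIsoDerange.criterion_two p hK hp2 (n := n) (m := m) (by omega) (by omega)
      (by omega)).2 (Or.inr hv) ⟨x, hx.1⟩ (congrArg Units.val (MonoidHom.mem_ker.1 hx.2)) ⟨z, hz⟩ hns
    have hz0 : z ≠ 0 := fun e => by
      have h9 := norm_scalar hK (by omega) (⟨x, hx.1⟩ : GU n K q) hz
      rw [e, zero_pow (Nat.succ_ne_zero q)] at h9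
      exact zero_ne_one h9
    obtain ⟨C, hC, hCi⟩ := exists_complement h20 _ hz hz0 hWi
    have hCd : finrank K C = m := by
      have := Submodule.finrank_add_eq_of_isCompl hC
      rw [hW, Module.finrank_fin_fun] at this; omega
    obtain ⟨U', V', hP', hU', -, hinv⟩ := exists_pr hK hn hW hWs hCd hC.disjoint
    obtain ⟨g, hg, hgU, hgV⟩ := exists_move hn (by omega) hP hP'
    refine ⟨g, hg, 1, ?_⟩
    have key : ∀ i : Fin 2, ∀ W' : Submodule K (Fin n → K), (D i).map (Matrix.toLin' g.1) = W' →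
        (∀ w ∈ W', (x : Matrix (Fin n) (Fin n) K) *ᵥ w ∈ W') →
        (D i).map (Matrix.toLin' ((g⁻¹ * x * g : GL (Fin n) K) : Matrix (Fin n) (Fin n) K)) = D i := by
      intro i W' hi hinv'
      refine Submodule.eq_of_le_of_finrank_eq ?_ (Submodule.equivMapOfInjective _ (inj_toLin _) (D i)).finrank_eq.symm
      rintro _ ⟨v, hv, rfl⟩
      rw [Matrix.toLin'_apply, Units.val_mul, Units.val_mul, ← Matrix.mulVec_mulVec, ← Matrix.mulVec_mulVec]
      obtain ⟨u, hu, hgu⟩ : (x : Matrix (Fin n) (Fin n) K) *ᵥ (g.1 *ᵥ v) ∈ (D i).map (Matrix.toLin' g.1) := by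
        rw [hi]; exact hinv' _ (hi ▸ ⟨v, hv, rfl⟩)
      rw [← hgu, Matrix.toLin'_apply, Matrix.mulVec_mulVec, Units.inv_mul, Matrix.one_mulVec]
      exact hu
    exact Fin.forall_fin_two.2 ⟨key 0 (col U') (hU ▸ hgU) (hU'.symm ▸ hWi),
      key 1 (col V') (hV1 ▸ hgV) (hinv ⟨x, hx.1⟩ hWi hCi)⟩

end Cfsg.Agent.UnitPairDerange
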