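import Cfsg.Agent.Lib.Classical.TwoClassCoverAux
import Cfsg.Agent.Lib.Classical.UnitPairDerange
import Cfsg.Agent.Lib.Classical.UnitCenter
import Cfsg.Agent.Lib.Lie.SemisimpleSimilar

/-!
Tools for the unions of two conjugacy classes of subgroups of the unitary groups: orthogonality of
primary parts, self-dual irreducible polynomials, and the two stabilisers.
-/

set_option autoImplicit false
set_option linter.unusedSectionVars false

namespace Cfsg.Agent.Classical.TwoCover.Unit

open Matrix Polynomial Module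
open Cfsg.Agent.UnitaryConjugacy Cfsg.Agent.UnitaryDetCentralizer

variable {F : Type} [Field F] [Fintype F] {q n : ℕ}

/-! ### The form -/

theorem h_smul_right (hF : Fintype.card F = q ^ 2) (c : F) (u v : Fin n → F) :
    hermForm n F q u (c • v) = c ^ q * hermForm n F q u v := LinearMap.congr_fun ((hermB hF n).map_smulₛₗ c v) u

theorem h_add_right (hF : Fintype.card F = q ^ 2) (u v w : Fin n → F) :
    hermForm n F q u (v + w) = hermForm n F q u v + hermForm n F q u w :=
  LinearMap.congr_fun ((hermB hF n).map_add v w) u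

theorem h_zero_left (v : Fin n → F) : hermForm n F q 0 v = 0 := by simp [hermForm]

theorem h_zero_right (hF : Fintype.card F = q ^ 2) (v : Fin n → F) : hermForm n F q v 0 = 0 := by
  rw [← hermForm_symm hF, h_zero_left, zero_pow (by have := two_le_q hF; omega)]

theorem h_comm (hF : Fintype.card F = q ^ 2) {u v : Fin n → F} (h : hermForm n F q u v = 0) :
    hermForm n F q v u = 0 := by
  rw [← hermForm_symm hF, h, zero_pow (by have := two_le_q hF; omega)]

theorem h_nondeg (hF : Fintype.card F = q ^ 2) {u : Fin n → F} (h : ∀ v, hermForm n F q u v = 0) : u = 0 := by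
  funext i
  have := h (Pi.single i 1)
  rwa [hermForm_single_right hF] at this

theorem h_single (hF : Fintype.card F = q ^ 2) (i : Fin n) :
    hermForm n F q (Pi.single i 1) (Pi.single i 1) = 1 := by
  rw [hermForm_single_right hF, Pi.single_eq_same]

/-- An element of non-zero trace. -/
theorem exists_trace_ne (hF : Fintype.card F = q ^ 2) : ∃ z : F, z + z ^ q ≠ 0 := by
  by_contra h
  push Not at h
  refine qFrob_ne_id hF (RingHom.ext fun x => ?_)
  have h1 := h 1
  rw [one_pow] at h1
  have h2 := h x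
  show x ^ q = x
  linear_combination h2 - x * h1

/-- A subspace of isotropic vectors is totally isotropic. -/
theorem polar (hF : Fintype.card F = q ^ 2) {W : Submodule F (Fin n → F)}
    (h : ∀ x ∈ W, hermForm n F q x x = 0) : ∀ x ∈ W, ∀ y ∈ W, hermForm n F q x y = 0 := by
  intro x hx y hy
  by_contra hne
  obtain ⟨z, hz⟩ := exists_trace_ne hF
  refine hz ?_
  set e := hermForm n F q x y with he
  have h1 := h _ (add_mem (W.smul_mem (z / e) hx) hy)
  rw [hermForm_add_left, h_add_right hF, h_add_right hF, hermForm_smul_left, hermForm_smul_left,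
    h_smul_right hF, h_smul_right hF, h x hx, h y hy, ← hermForm_symm hF n x y, ← he,
    ← mul_pow, div_mul_cancel₀ _ hne] at h1
  linear_combination h1

/-- Totally isotropic subspaces have at most half the dimension. -/
theorem finrank_ti (hF : Fintype.card F = q ^ 2) {W : Submodule F (Fin n → F)}
    (h : ∀ x ∈ W, ∀ y ∈ W, hermForm n F q x y = 0) : 2 * finrank F W ≤ n := by
  let f : W → W.dualAnnihilator := fun w => ⟨hermB hF n w, (Submodule.mem_dualAnnihilator _).2
    fun x hx => h x hx w w.2⟩
  have hf : Function.Injective f := fun a b hab => by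
    have e : ∀ x, hermForm n F q x a = hermForm n F q x b := fun x =>
      LinearMap.congr_fun (congrArg Subtype.val hab) x
    refine Subtype.ext (sub_eq_zero.1 (h_nondeg hF fun x => ?_))
    rw [sub_eq_add_neg, ← neg_one_smul F (b : Fin n → F), hermForm_add_left, hermForm_smul_left,
      ← hermForm_symm hF n x a, e, hermForm_symm hF n x b]
    ring
  haveI : Finite W.dualAnnihilator := Module.finite_of_finite F
  have hcard := Nat.card_le_card_of_injective f hf
  rw [Module.natCard_eq_pow_finrank (K := F) (V := W),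
    Module.natCard_eq_pow_finrank (K := F) (V := W.dualAnnihilator)] at hcard
  have h2 : 1 < Nat.card F := by rw [Nat.card_eq_fintype_card]; exact Fintype.one_lt_card
  have h3 := (Nat.pow_le_pow_iff_right h2).1 hcard
  have h4 := Subspace.finrank_add_finrank_dualAnnihilator_eq W
  rw [Module.finrank_fin_fun] at h4
  omega

/-! ### Isometries -/

/-- A matrix preserves the form. -/
def Isom (q : ℕ) (g : Matrix (Fin n) (Fin n) F) : Prop :=
  ∀ x y, hermForm n F q (g *ᵥ x) (g *ᵥ y) = hermForm n F q x y

/-- The form against a polynomial in an isometry. -/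
theorem h_aeval (hF : Fintype.card F = q ^ 2) {g g' : Matrix (Fin n) (Fin n) F} (hg : Isom q g)
    (hgg : g * g' = 1) (P : F[X]) (x y : Fin n → F) :
    hermForm n F q (aeval g P *ᵥ x) y = hermForm n F q x (aeval g' (P.map (qFrob hF)) *ᵥ y) := by
  have hadj : ∀ (k : ℕ) (x y : Fin n → F),
      hermForm n F q ((g ^ k) *ᵥ x) y = hermForm n F q x ((g' ^ k) *ᵥ y) := by
    intro k
    induction k with
    | zero => intro x y; simp
    | succ k ih =>
      intro x y
      rw [pow_succ, ← mulVec_mulVec, ih]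
      conv_lhs => rw [show (g' ^ k) *ᵥ y = g *ᵥ (g' *ᵥ ((g' ^ k) *ᵥ y)) by
        rw [mulVec_mulVec, hgg, one_mulVec]]
      rw [hg, mulVec_mulVec, ← pow_succ']
  induction P using Polynomial.induction_on' with
  | add a b ha hb =>
    rw [map_add, Matrix.add_mulVec, hermForm_add_left, ha, hb, Polynomial.map_add, map_add,
      Matrix.add_mulVec, h_add_right hF]
  | monomial k c =>
    rw [Polynomial.map_monomial, Polynomial.aeval_monomial, Polynomial.aeval_monomial,
      ← mulVec_mulVec, ← mulVec_mulVec, Algebra.algebraMap_eq_smul_one, Algebra.algebraMap_eq_smul_one,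
      Matrix.smul_mulVec, Matrix.smul_mulVec, Matrix.one_mulVec, Matrix.one_mulVec, hermForm_smul_left,
      h_smul_right hF, hadj]
    show _ = (c ^ q) ^ q * _
    rw [← qFrob_apply hF c, ← qFrob_apply hF, qFrob_qFrob]

theorem aeval_reflect {g g' : Matrix (Fin n) (Fin n) F} (hgg : g * g' = 1) (d : ℕ) (P : F[X])
    (hP : P.natDegree ≤ d) : aeval g (P.reflect d) * g' ^ d = aeval g' P := by
  refine Polynomial.induction_with_natDegree_le
    (motive := fun P => aeval g (P.reflect d) * g' ^ d = aeval g' P) d ?_ ?_ ?_ P hP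
  · simp
  · intro k r _ hk
    rw [Polynomial.reflect_C_mul_X_pow, Polynomial.revAt_le hk, map_mul, map_mul, aeval_C, aeval_C,
      map_pow, map_pow, aeval_X, aeval_X, mul_assoc]
    congr 1
    obtain ⟨e, rfl⟩ : ∃ e, d = k + e := ⟨d - k, by omega⟩
    have hc : Commute g g' := by
      rw [Commute, SemiconjBy, hgg, mul_eq_one_comm.1 hgg]
    rw [Nat.add_sub_cancel_left, Nat.add_comm, pow_add, ← mul_assoc, ← hc.mul_pow, hgg, one_pow, one_mul]
  · intro f g₁ _ _ hf hg₁
    rw [Polynomial.reflect_add, map_add, map_add, add_mul, hf, hg₁]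

/-- Parts for coprime dual polynomials are totally isotropic. -/
theorem ti_kernel (hF : Fintype.card F = q ^ 2) {g g' : Matrix (Fin n) (Fin n) F} (hg : Isom q g)
    (hgg : g * g' = 1) {D : F[X]} (hco : IsCoprime D (cdual (qFrob hF) D)) {x y : Fin n → F}
    (hx : aeval g D *ᵥ x = 0) (hy : aeval g D *ᵥ y = 0) : hermForm n F q x y = 0 := by
  obtain ⟨a, b, hab⟩ := hco
  set E := cdual (qFrob hF) D with hE
  have hy' : y = aeval g E *ᵥ (aeval g b *ᵥ y) := by
    conv_lhs => rw [← one_mulVec y, ← map_one (aeval (R := F) g), ← hab]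
    rw [map_add, map_mul, mul_comm b E, map_mul, add_mulVec, ← mulVec_mulVec, hy, mulVec_zero, zero_add,
      ← mulVec_mulVec]
  set z := aeval g b *ᵥ y
  rw [hy']
  set R := (D.map (qFrob hF)).reverse with hR
  have hrev : aeval g R * g' ^ D.natDegree = aeval g' (D.map (qFrob hF)) := by
    rw [hR, Polynomial.reverse, Polynomial.natDegree_map]
    exact aeval_reflect hgg _ _ (by rw [Polynomial.natDegree_map])
  have hgpow : g' ^ D.natDegree * g ^ D.natDegree = 1 := by
    have hc : Commute g' g := by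
      rw [Commute, SemiconjBy, hgg, mul_eq_one_comm.1 hgg]
    rw [← hc.mul_pow, mul_eq_one_comm.1 hgg, one_pow]
  have e : aeval g E *ᵥ z = (qFrob hF (D.coeff 0))⁻¹ •
      (aeval g' (D.map (qFrob hF)) *ᵥ ((g ^ D.natDegree) *ᵥ z)) := by
    conv_rhs => rw [← hrev, mulVec_mulVec, mul_assoc, hgpow, mul_one]
    rw [hE, cdual, map_mul, aeval_C, ← hR,
      Algebra.algebraMap_eq_smul_one, smul_mul_assoc, one_mul, smul_mulVec]
  rw [e, h_smul_right hF, ← h_aeval hF hg hgg, hx, h_zero_left, mul_zero]

/-! ### Self-dual irreducible polynomials -/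

theorem cdual_X_sub_C (σ : F →+* F) {a : F} (ha : a ≠ 0) :
    cdual σ (X - Polynomial.C a) = X - Polynomial.C (σ a)⁻¹ := by
  have hs : σ a ≠ 0 := (_root_.map_ne_zero σ).2 ha
  have hrev : (X - Polynomial.C (σ a)).reverse = 1 - Polynomial.C (σ a) * X := by
    rw [reverse, natDegree_X_sub_C, reflect_sub, reflect_C,
      show (X : F[X]) = X ^ 1 from (pow_one X).symm, reflect_monomial, revAt_le le_rfl, Nat.sub_self,
      pow_zero, pow_one]
  rw [cdual, Polynomial.map_sub, map_X, map_C, hrev, coeff_sub, coeff_X_zero, coeff_C_zero, zero_sub,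
    map_neg, inv_neg, map_neg, mul_sub, mul_one, ← mul_assoc, neg_mul, ← map_mul, inv_mul_cancel₀ hs, map_one]
  ring

/-- An irreducible self-dual polynomial has odd degree `d` and divides `X^(q^d+1) - 1`. -/
theorem selfDual_irreducible (hF : Fintype.card F = q ^ 2) {f : F[X]} (hm : f.Monic) (hi : Irreducible f)
    (h0 : f.coeff 0 ≠ 0) (hs : cdual (qFrob hF) f = f) :
    Odd f.natDegree ∧ f ∣ X ^ (q ^ f.natDegree + 1) - 1 := by
  classical
  haveI := Fact.mk hi
  haveI : Module.Finite F (AdjoinRoot f) := (AdjoinRoot.powerBasis hi.ne_zero).finite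
  haveI : Finite (AdjoinRoot f) := Module.finite_of_finite F
  set E := AdjoinRoot f
  set d := f.natDegree with hd
  set α : E := AdjoinRoot.root f with hα
  obtain ⟨p, hp⟩ := CharP.exists F
  haveI : Fact p.Prime := ⟨CharP.char_is_prime F p⟩
  obtain ⟨⟨r, hr0⟩, -, hr⟩ := FiniteField.card F p
  obtain ⟨a, ha, hqa⟩ : ∃ a ≤ r, q = p ^ a :=
    (Nat.dvd_prime_pow Fact.out).1 ((dvd_pow_self q two_ne_zero).trans (dvd_of_eq (hF.symm.trans hr)))
  haveI : CharP E p := charP_of_injective_algebraMap (algebraMap F E).injective p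
  have haddq : ∀ x y : E, (x + y) ^ q = x ^ q + y ^ q := fun x y => by
    rw [hqa]; exact add_pow_char_pow x y p a
  have hinjq : Function.Injective fun x : E => x ^ q := by
    intro x y h
    simp only at h
    have : (x - y) ^ q = 0 := by
      have := haddq (x - y) y
      rw [sub_add_cancel, h] at this
      linear_combination -this
    exact sub_eq_zero.1 (eq_zero_of_pow_eq_zero this)
  have hroot : aeval α f = 0 := by rw [hα, AdjoinRoot.aeval_eq, AdjoinRoot.mk_self]
  have hfrob : aeval (α ^ q) (f.map (qFrob hF)) = 0 := by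
    have key : ∀ P : F[X], aeval (α ^ q) (P.map (qFrob hF)) = (aeval α P) ^ q := by
      intro P
      induction P using Polynomial.induction_on' with
      | add a b ha hb => rw [Polynomial.map_add, map_add, map_add, ha, hb, haddq]
      | monomial k c =>
        rw [Polynomial.map_monomial, aeval_monomial, aeval_monomial, qFrob_apply, map_pow, mul_pow,
          ← pow_mul, ← pow_mul, mul_comm q k]
    rw [key, hroot, zero_pow (by have := two_le_q hF; omega)]
  have hα0 : α ≠ 0 := by
    intro h
    rw [h] at hroot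
    rw [Polynomial.aeval_def, Polynomial.eval₂_at_zero] at hroot
    exact h0 ((algebraMap F E).injective (hroot.trans (map_zero _).symm))
  set β : E := (α ^ q)⁻¹ with hβ
  have hβroot : aeval β f = 0 := by
    refine (congrArg (aeval β) hs).symm.trans ?_
    rw [cdual, map_mul]
    refine mul_eq_zero_of_right _ ?_
    rw [Polynomial.aeval_def]
    haveI : Invertible (α ^ q) := invertibleOfNonzero (pow_ne_zero q hα0)
    rw [hβ, ← invOf_eq_inv, Polynomial.eval₂_reverse_eq_zero_iff, ← Polynomial.aeval_def]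
    exact hfrob
  let φ := FiniteField.frobeniusAlgEquivOfAlgebraic F E
  have hφ : ∀ (i : ℕ) (x : E), (φ ^ i) x = x ^ ((q ^ 2) ^ i) := by
    intro i
    induction i with
    | zero => intro x; simp
    | succ i ih =>
      intro x
      rw [pow_succ', AlgEquiv.mul_apply, ih]
      show (x ^ ((q ^ 2) ^ i)) ^ Fintype.card F = _
      rw [hF, ← pow_mul, ← pow_succ]
  have hord : orderOf φ = d := by
    rw [FiniteField.orderOf_frobeniusAlgEquivOfAlgebraic, (AdjoinRoot.powerBasis hi.ne_zero).finrank,
      AdjoinRoot.powerBasis_dim]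
  let ψ₀ : E →ₐ[F] E := AdjoinRoot.liftAlgHom f (Algebra.ofId F E) β (by rw [← hβroot]; rfl)
  have hψ₀ : Function.Bijective ψ₀ :=
    Finite.injective_iff_bijective.1 (RingHom.injective ψ₀.toRingHom)
  let ψ : E ≃ₐ[F] E := AlgEquiv.ofBijective ψ₀ hψ₀
  obtain ⟨i, hi'⟩ := (FiniteField.bijective_frobeniusAlgEquivOfAlgebraic_pow F E).2 ψ
  have hi1 : (φ ^ (i : ℕ)) α = β := by
    have := congrArg (fun e : E ≃ₐ[F] E => e α) hi'
    simp only at this
    rw [this]
    show ψ₀ (AdjoinRoot.root f) = β
    refine (AdjoinRoot.lift_root (i := (Algebra.ofId F E).toRingHom) (a := β) (by rw [← hβroot]; rfl))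
  rw [hφ] at hi1
  -- `β^{-q}` is both `α^{q²}` and `α^{q^{4i}}`
  have e2 : (φ ^ (2 * (i : ℕ))) α = (φ ^ 1) α := by
    rw [hφ, hφ, pow_one, two_mul, pow_add, pow_mul, hi1, hβ, inv_pow, ← pow_mul, mul_comm, pow_mul, hi1,
      hβ, inv_pow, inv_inv, ← pow_mul]
    ring_nf
  have e3 : φ ^ (2 * (i : ℕ)) = φ ^ 1 := by
    apply AlgEquiv.coe_toAlgHom_injective
    exact AdjoinRoot.algHom_ext e2
  have hfin : IsOfFinOrder φ := orderOf_pos_iff.1 (by rw [hord]; exact hi.natDegree_pos)
  have e4 : 2 * (i : ℕ) ≡ 1 [MOD d] := by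
    rw [← hord]; exact pow_eq_pow_iff_modEq.1 e3
  have hodd : Odd d := by
    rcases Nat.even_or_odd d with he | ho
    · exfalso
      have := (e4.of_dvd (even_iff_two_dvd.1 he))
      simp [Nat.ModEq, Nat.mul_mod_right] at this
    · exact ho
  refine ⟨hodd, ?_⟩
  obtain ⟨e, he⟩ := hodd
  have e5 : (i : ℕ) ≡ e + 1 [MOD d] := by
    refine Nat.ModEq.cancel_left_of_coprime (c := 2) ?_ ?_
    · exact Nat.coprime_comm.1 (Nat.coprime_two_left.2 ⟨e, he⟩)
    · refine e4.trans ?_
      rw [show 2 * (e + 1) = 1 + d by omega]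
      exact (Nat.add_modEq_right).symm
  have e6 : φ ^ (i : ℕ) = φ ^ (e + 1) := pow_eq_pow_iff_modEq.2 (by rwa [hord])
  have e7 : β = α ^ (q ^ (d + 1)) := by
    rw [← hi1, ← hφ, e6, hφ, ← pow_mul, show 2 * (e + 1) = d + 1 by omega]
  have e8 : α ^ (q ^ d + 1) = 1 := by
    refine hinjq ?_
    show (α ^ (q ^ d + 1)) ^ q = 1 ^ q
    rw [one_pow, ← pow_mul, add_mul, one_mul, ← pow_succ, pow_add, ← e7, hβ, inv_mul_cancel₀ (pow_ne_zero q hα0)]
  rw [← AdjoinRoot.mk_eq_zero, map_sub, map_pow, map_one, AdjoinRoot.mk_X, ← hα, e8, sub_self]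

end Cfsg.Agent.Classical.TwoCover.Unit
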