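import Cfsg.Agent.Lib.Classical.TwoClassCoverAux

/-!
`PSL₂`, `PSL₃` and `PSL₄` are unions of the conjugates of a point stabiliser and of the centraliser
of a matrix with irreducible minimal polynomial (of degree `2`, `3`, `2`).
-/

set_option autoImplicit false
set_option linter.unusedSectionVars false

namespace Cfsg.Agent.Classical.TwoCover.Linear

open Matrix Polynomial
open scoped MatrixGroups

variable {F : Type} [Field F] {ι : Type} [Fintype ι] [DecidableEq ι]

local notation "Mn" => Matrix ι ι F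

/-- A matrix killed by an irreducible polynomial makes the space a vector space over the field. -/
theorem exists_coords {m : F[X]} [Fact (Irreducible m)] {j : Mn} (hj : aeval j m = 0) :
    ∃ (r : ℕ) (e : (Fin r → AdjoinRoot m) ≃ₗ[F] (ι → F)),
      ∀ P : F[X], ∀ u, e (AdjoinRoot.mk m P • u) = aeval j P *ᵥ e u := by
  let φ : AdjoinRoot m →ₐ[F] Mn := Ideal.Quotient.liftₐ (Ideal.span {m}) (aeval j) fun a ha => by
    obtain ⟨b, rfl⟩ := Ideal.mem_span_singleton'.1 ha
    rw [map_mul, hj, mul_zero]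
  letI : Module (AdjoinRoot m) (ι → F) :=
    { smul := fun a v => φ a *ᵥ v
      one_smul := fun v => by show φ 1 *ᵥ v = v; rw [map_one, one_mulVec]
      mul_smul := fun a b v => by show φ (a * b) *ᵥ v = φ a *ᵥ (φ b *ᵥ v); rw [map_mul, mulVec_mulVec]
      smul_zero := fun a => mulVec_zero _
      smul_add := fun a u v => mulVec_add _ u v
      add_smul := fun a b v => by show φ (a + b) *ᵥ v = φ a *ᵥ v + φ b *ᵥ v; rw [map_add, add_mulVec]
      zero_smul := fun v => by show φ 0 *ᵥ v = 0; rw [map_zero, zero_mulVec] }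
  haveI : IsScalarTower F (AdjoinRoot m) (ι → F) := ⟨fun c a v => by
    show φ (c • a) *ᵥ v = c • (φ a *ᵥ v)
    rw [map_smul, smul_mulVec]⟩
  haveI : Module.Finite (AdjoinRoot m) (ι → F) := Module.Finite.of_restrictScalars_finite F _ _
  let E := (Module.finBasis (AdjoinRoot m) (ι → F)).equivFun.symm
  refine ⟨_, E.restrictScalars F, fun P u => ?_⟩
  show E (AdjoinRoot.mk m P • u) = _
  rw [map_smul]
  show φ (AdjoinRoot.mk m P) *ᵥ E u = aeval j P *ᵥ E u
  rfl

/-- Two roots of an irreducible polynomial are conjugate. -/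
theorem conj_root {m : F[X]} (hm : Irreducible m) {j j' : Mn}
    (hj : aeval j m = 0) (hj' : aeval j' m = 0) :
    ∃ X : GL ι F, (X : Mn) * j' = j * (X : Mn) := by
  haveI := Fact.mk hm
  obtain ⟨r, e, he⟩ := exists_coords hj
  obtain ⟨r', e', he'⟩ := exists_coords hj'
  haveI : Module.Finite F (AdjoinRoot m) := (AdjoinRoot.powerBasis hm.ne_zero).finite
  have hr : r' = r := by
    have h1 := e.finrank_eq
    rw [← e'.finrank_eq, Module.finrank_pi_fintype, Module.finrank_pi_fintype] at h1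
    simp only [Finset.sum_const, Finset.card_univ, Fintype.card_fin, smul_eq_mul] at h1
    exact (Nat.eq_of_mul_eq_mul_right Module.finrank_pos h1).symm
  subst hr
  have hu : IsUnit (LinearMap.toMatrix' (e'.symm.trans e).toLinearMap) := by
    rw [← Matrix.mulVec_injective_iff_isUnit]
    intro x y h
    simp only [LinearMap.toMatrix'_mulVec] at h
    exact (e'.symm.trans e).injective h
  obtain ⟨X, hX⟩ := hu
  refine ⟨X, Matrix.ext_iff_mulVec.2 fun v => ?_⟩
  obtain ⟨u, rfl⟩ := e'.surjective v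
  rw [← mulVec_mulVec, ← mulVec_mulVec, hX, LinearMap.toMatrix'_mulVec, LinearMap.toMatrix'_mulVec]
  have k' := he' Polynomial.X u
  have k := he Polynomial.X u
  rw [aeval_X] at k k'
  simp only [LinearEquiv.coe_coe, LinearEquiv.trans_apply, ← k', LinearEquiv.symm_apply_apply, k]

/-- The centraliser of such a matrix has every determinant. -/
theorem exists_det_comm [Finite F] [Nonempty ι] {m : F[X]} (hm : Irreducible m) {j : Mn}
    (hj : aeval j m = 0) {d : F} (hd : d ≠ 0) : ∃ Y : Mn, Y * j = j * Y ∧ Y.det = d := by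
  haveI := Fact.mk hm
  obtain ⟨r, e, he⟩ := exists_coords hj
  haveI : Module.Finite F (AdjoinRoot m) := (AdjoinRoot.powerBasis hm.ne_zero).finite
  haveI : Finite (AdjoinRoot m) := Module.finite_of_finite F
  have hr : 0 < r := by
    rcases Nat.eq_zero_or_pos r with rfl | h
    · exfalso
      have := e.finrank_eq
      simp [Module.finrank_zero_of_subsingleton, Module.finrank_pi] at this
      exact Fintype.card_ne_zero this.symm
    · exact h
  obtain ⟨a, ha⟩ := FiniteField.unitsMap_norm_surjective F (AdjoinRoot m) (Units.mk0 d hd)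
  let D : Matrix (Fin r) (Fin r) (AdjoinRoot m) :=
    Matrix.diagonal (Function.update (1 : Fin r → AdjoinRoot m) ⟨0, hr⟩ (a : AdjoinRoot m))
  have hD : D.det = (a : AdjoinRoot m) := by
    rw [Matrix.det_diagonal, Finset.prod_update_of_mem (Finset.mem_univ _)]
    simp
  set L : (Fin r → AdjoinRoot m) →ₗ[F] (Fin r → AdjoinRoot m) := (Matrix.toLin' D).restrictScalars F with hL
  refine ⟨LinearMap.toMatrix' (e.toLinearMap ∘ₗ L ∘ₗ e.symm.toLinearMap), ?_, ?_⟩
  · refine Matrix.ext_iff_mulVec.2 fun v => ?_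
    obtain ⟨u, rfl⟩ := e.surjective v
    have k : ∀ w, e (AdjoinRoot.mk m Polynomial.X • w) = j *ᵥ e w := fun w => by
      rw [he, aeval_X]
    rw [← mulVec_mulVec, ← mulVec_mulVec, ← k, LinearMap.toMatrix'_mulVec, LinearMap.toMatrix'_mulVec]
    simp only [LinearMap.comp_apply, LinearEquiv.coe_coe, LinearEquiv.symm_apply_apply, hL,
      LinearMap.restrictScalars_apply, ← k, map_smul]
  · rw [← LinearMap.det_toLin', Matrix.toLin'_toMatrix', LinearMap.det_conj, hL,
      LinearMap.det_restrictScalars, LinearMap.det_toLin', hD]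
    exact congrArg Units.val ha

/-- The centraliser in `SL` of a matrix. -/
def commStab (j : Mn) : Subgroup (Matrix.SpecialLinearGroup ι F) where
  carrier := {g | (g : Mn) * j = j * (g : Mn)}
  one_mem' := by simp
  mul_mem' := by
    intro a b ha hb
    have ha' : (a : Mn) * j = j * (a : Mn) := ha
    have hb' : (b : Mn) * j = j * (b : Mn) := hb
    show ((a * b : Matrix.SpecialLinearGroup ι F) : Mn) * j = j * _
    rw [Matrix.SpecialLinearGroup.coe_mul, mul_assoc, hb', ← mul_assoc, ha', mul_assoc]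
  inv_mem' := by
    intro a ha
    have ha' : (a : Mn) * j = j * (a : Mn) := ha
    have h1 : ((a⁻¹ : Matrix.SpecialLinearGroup ι F) : Mn) * (a : Mn) = 1 := by
      rw [← Matrix.SpecialLinearGroup.coe_mul, inv_mul_cancel, Matrix.SpecialLinearGroup.coe_one]
    have h2 : (a : Mn) * ((a⁻¹ : Matrix.SpecialLinearGroup ι F) : Mn) = 1 := by
      rw [← Matrix.SpecialLinearGroup.coe_mul, mul_inv_cancel, Matrix.SpecialLinearGroup.coe_one]
    show ((a⁻¹ : Matrix.SpecialLinearGroup ι F) : Mn) * j = j * _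
    calc ((a⁻¹ : Matrix.SpecialLinearGroup ι F) : Mn) * j
        = ((a⁻¹ : Matrix.SpecialLinearGroup ι F) : Mn) * (j * ((a : Mn) * ((a⁻¹ : Matrix.SpecialLinearGroup ι F) : Mn))) := by
          rw [h2, mul_one]
      _ = _ := by rw [← mul_assoc j, ← ha', ← mul_assoc, ← mul_assoc, h1, one_mul]

theorem center_le_commStab (j : Mn) : Subgroup.center (Matrix.SpecialLinearGroup ι F) ≤ commStab j := by
  intro z hz
  obtain ⟨r, -, hr⟩ := Matrix.SpecialLinearGroup.mem_center_iff.1 hz
  show (z : Mn) * j = j * (z : Mn)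
  rw [← hr, Matrix.scalar_commute r (fun s => mul_comm r s) j]

theorem commStab_ne_top {j : Mn} (hj : ∀ c : F, j ≠ Matrix.scalar ι c) : commStab j ≠ ⊤ := by
  intro h
  obtain ⟨c, hc⟩ := Matrix.mem_range_scalar_of_commute_single (M := j) fun i k hik => by
    have hall : ∀ t : Matrix.SpecialLinearGroup ι F, t ∈ commStab j := fun t => h ▸ Subgroup.mem_top t
    have e : Matrix.transvection i k (1 : F) * j = j * Matrix.transvection i k 1 :=
      hall ⟨Matrix.transvection i k (1 : F), Matrix.det_transvection_of_ne i k hik 1⟩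
    simp only [Matrix.transvection, add_mul, mul_add, one_mul, mul_one, add_right_inj] at e
    exact e
  exact hj c hc.symm

theorem not_scalar_of_root {m : F[X]} (hm : Irreducible m) (hd : 1 < m.natDegree) {j : Mn}
    [Nonempty ι] (hj : aeval j m = 0) (c : F) : j ≠ Matrix.scalar ι c := by
  intro h
  have h0 : algebraMap F Mn (m.eval c) = 0 := by
    rw [← hj, h, show Matrix.scalar ι c = algebraMap F Mn c from rfl, Polynomial.aeval_algebraMap_apply]
    simp
  have h1 : m.eval c = 0 := (algebraMap F Mn).injective (h0.trans (map_zero _).symm)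
  obtain ⟨d, hd'⟩ := Polynomial.dvd_iff_isRoot.2 h1
  rcases hm.isUnit_or_isUnit hd' with hu | hu
  · exact Polynomial.not_isUnit_X_sub_C c hu
  · rw [hd', Polynomial.natDegree_mul (Polynomial.X_sub_C_ne_zero c) hu.ne_zero,
      Polynomial.natDegree_X_sub_C, Polynomial.natDegree_eq_zero_of_isUnit hu] at hd
    omega

/-- An element commuting with a root goes into the centraliser. -/
theorem conj_into [Finite F] [Nonempty ι] {m : F[X]} (hm : Irreducible m) {j j' : Mn}
    (hj : aeval j m = 0) (hj' : aeval j' m = 0) (g : Matrix.SpecialLinearGroup ι F)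
    (hg : (g : Mn) * j' = j' * (g : Mn)) :
    ∃ x : Matrix.SpecialLinearGroup ι F, x * g * x⁻¹ ∈ commStab j := by
  obtain ⟨X, hX⟩ := conj_root hm hj hj'
  have hd : (X : Mn).det ≠ 0 := (X.isUnit.map Matrix.detMonoidHom).ne_zero
  obtain ⟨Y, hY, hYd⟩ := exists_det_comm hm hj (inv_ne_zero hd)
  let x : Matrix.SpecialLinearGroup ι F := ⟨Y * X, by rw [Matrix.det_mul, hYd, inv_mul_cancel₀ hd]⟩
  have hx : (x : Mn) * j' = j * (x : Mn) := by
    show Y * X * j' = j * (Y * X)
    rw [mul_assoc, hX, ← mul_assoc, hY, mul_assoc]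
  refine ⟨x, ?_⟩
  have h1 : (x : Mn) * ((x⁻¹ : Matrix.SpecialLinearGroup ι F) : Mn) = 1 := by
    rw [← Matrix.SpecialLinearGroup.coe_mul, mul_inv_cancel, Matrix.SpecialLinearGroup.coe_one]
  have h2 : ((x⁻¹ : Matrix.SpecialLinearGroup ι F) : Mn) * (x : Mn) = 1 := by
    rw [← Matrix.SpecialLinearGroup.coe_mul, inv_mul_cancel, Matrix.SpecialLinearGroup.coe_one]
  have hx' : ((x⁻¹ : Matrix.SpecialLinearGroup ι F) : Mn) * j = j' * ((x⁻¹ : Matrix.SpecialLinearGroup ι F) : Mn) := by
    calc ((x⁻¹ : Matrix.SpecialLinearGroup ι F) : Mn) * j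
        = ((x⁻¹ : Matrix.SpecialLinearGroup ι F) : Mn) * (j * ((x : Mn) * ((x⁻¹ : Matrix.SpecialLinearGroup ι F) : Mn))) := by
          rw [h1, mul_one]
      _ = _ := by rw [← mul_assoc j, ← hx, ← mul_assoc, ← mul_assoc, h2, one_mul]
  show ((x * g * x⁻¹ : Matrix.SpecialLinearGroup ι F) : Mn) * j = j * _
  simp only [Matrix.SpecialLinearGroup.coe_mul]
  rw [mul_assoc ((x : Mn) * g), hx', ← mul_assoc, mul_assoc (x : Mn) g j', hg, ← mul_assoc (x : Mn) j',
    hx]
  simp only [mul_assoc]

/-- A root of `m` modulo an irreducible polynomial. -/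
theorem exists_root_mod [Finite F] {m f : F[X]} (hm : Irreducible m) (hf : Irreducible f)
    (h : m.natDegree ∣ f.natDegree) : ∃ P : F[X], f ∣ m.comp P := by
  haveI := Fact.mk hm
  haveI := Fact.mk hf
  haveI : Module.Finite F (AdjoinRoot m) := (AdjoinRoot.powerBasis hm.ne_zero).finite
  haveI : Module.Finite F (AdjoinRoot f) := (AdjoinRoot.powerBasis hf.ne_zero).finite
  haveI : Finite (AdjoinRoot m) := Module.finite_of_finite F
  haveI : Finite (AdjoinRoot f) := Module.finite_of_finite F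
  obtain ⟨φ⟩ := FiniteField.nonempty_algHom_of_finrank_dvd (F := F) (K := AdjoinRoot m) (L := AdjoinRoot f)
    (by rwa [(AdjoinRoot.powerBasis hm.ne_zero).finrank, (AdjoinRoot.powerBasis hf.ne_zero).finrank,
      AdjoinRoot.powerBasis_dim, AdjoinRoot.powerBasis_dim])
  obtain ⟨P, hP⟩ := AdjoinRoot.mk_surjective (φ (AdjoinRoot.root m))
  refine ⟨P, AdjoinRoot.mk_eq_zero.1 ?_⟩
  rw [← AdjoinRoot.aeval_eq, Polynomial.aeval_comp, AdjoinRoot.aeval_eq P, hP,
    Polynomial.aeval_algHom_apply, AdjoinRoot.aeval_eq, AdjoinRoot.mk_self, map_zero]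

/-- A root modulo `f` gives one modulo a higher power. -/
theorem dvd_comp_pow [Fintype F] {m f P : F[X]} (h : f ∣ m.comp P) :
    f ^ Fintype.card F ∣ m.comp (P ^ Fintype.card F) := by
  have e : m.comp (P ^ Fintype.card F) = (m.comp P) ^ Fintype.card F := by
    rw [← Polynomial.pow_comp m P, ← FiniteField.expand_card m, Polynomial.expand_eq_comp_X_pow,
      Polynomial.comp_assoc, Polynomial.X_pow_comp]
  rw [e]
  exact pow_dvd_pow_of_dvd h _

theorem exists_root_comm {m P : F[X]} (g : Mn) (h : g.charpoly ∣ m.comp P) :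
    ∃ j', aeval j' m = 0 ∧ g * j' = j' * g := by
  refine ⟨aeval g P, ?_, ?_⟩
  · obtain ⟨c, hc⟩ := h
    rw [← Polynomial.aeval_comp, hc, map_mul, Matrix.aeval_self_charpoly, zero_mul]
  · rw [show g * aeval g P = aeval g (Polynomial.X * P) by rw [map_mul, aeval_X],
      mul_comm Polynomial.X P, map_mul, aeval_X]

/-! ### The point stabiliser -/

/-- The stabiliser of a coordinate line. -/
def lineStab (i : ι) : Subgroup (Matrix.SpecialLinearGroup ι F) where
  carrier := {g | ∃ c : F, c ≠ 0 ∧ (g : Mn) *ᵥ Pi.single i 1 = c • Pi.single i 1}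
  one_mem' := ⟨1, one_ne_zero, by rw [Matrix.SpecialLinearGroup.coe_one, one_mulVec, one_smul]⟩
  mul_mem' := by
    rintro a b ⟨c, hc, ha⟩ ⟨d, hd, hb⟩
    exact ⟨d * c, mul_ne_zero hd hc, by
      rw [Matrix.SpecialLinearGroup.coe_mul, ← mulVec_mulVec, hb, mulVec_smul, ha, smul_smul]⟩
  inv_mem' := by
    rintro a ⟨c, hc, ha⟩
    refine ⟨c⁻¹, inv_ne_zero hc, ?_⟩
    have h2 : ((a⁻¹ : Matrix.SpecialLinearGroup ι F) : Mn) *ᵥ ((a : Mn) *ᵥ Pi.single i 1) = Pi.single i 1 := by
      rw [mulVec_mulVec, ← Matrix.SpecialLinearGroup.coe_mul, inv_mul_cancel, Matrix.SpecialLinearGroup.coe_one, one_mulVec]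
    rw [ha, mulVec_smul] at h2
    calc ((a⁻¹ : Matrix.SpecialLinearGroup ι F) : Mn) *ᵥ Pi.single i 1
        = c⁻¹ • (c • (((a⁻¹ : Matrix.SpecialLinearGroup ι F) : Mn) *ᵥ Pi.single i 1)) := by
          rw [smul_smul, inv_mul_cancel₀ hc, one_smul]
      _ = _ := by rw [h2]

theorem center_le_lineStab (i : ι) : Subgroup.center (Matrix.SpecialLinearGroup ι F) ≤ lineStab i := by
  intro z hz
  obtain ⟨r, hr1, hr⟩ := Matrix.SpecialLinearGroup.mem_center_iff.1 hz
  refine ⟨r, ?_, ?_⟩
  · intro h0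
    haveI : Nonempty ι := ⟨i⟩
    rw [h0, zero_pow Fintype.card_ne_zero] at hr1
    exact zero_ne_one hr1
  · rw [← hr]; ext k; simp [Matrix.mulVec_diagonal]

theorem lineStab_ne_top {i k : ι} (h : i ≠ k) : lineStab (F := F) i ≠ ⊤ := by
  intro e
  have hall : ∀ t : Matrix.SpecialLinearGroup ι F, t ∈ lineStab i := fun t => e ▸ Subgroup.mem_top t
  obtain ⟨c, -, hc⟩ := hall ⟨Matrix.transvection k i (1 : F), Matrix.det_transvection_of_ne k i h.symm 1⟩
  simpa [Matrix.transvection, add_mulVec, h, h.symm] using congrFun hc k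

theorem conj_into_lineStab (i : ι) (g : Matrix.SpecialLinearGroup ι F) {v : ι → F} (hv : v ≠ 0) {μ : F}
    (hg : (g : Mn) *ᵥ v = μ • v) : ∃ x : Matrix.SpecialLinearGroup ι F, x * g * x⁻¹ ∈ lineStab i := by
  have hμ : μ ≠ 0 := by
    intro h0
    rw [h0, zero_smul] at hg
    exact hv (Matrix.eq_zero_of_mulVec_eq_zero (by rw [g.det_coe]; exact one_ne_zero) hg)
  have he : (Pi.single i 1 : ι → F) ≠ 0 := by simp
  obtain ⟨X, hX⟩ : ∃ X : GL ι F, (X : Mn) *ᵥ v = Pi.single i 1 := by
    obtain ⟨A, hA0⟩ := Submodule.exists_linearEquiv_restrict_eq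
      (((LinearEquiv.toSpanNonzeroSingleton F (ι → F) v hv).symm).trans
        (LinearEquiv.toSpanNonzeroSingleton F (ι → F) (Pi.single i 1) he))
    have hA : A v = Pi.single i 1 := by
      have h1 := hA0 ⟨v, Submodule.mem_span_singleton_self v⟩
      rw [← LinearEquiv.toSpanNonzeroSingleton_one F (ι → F) v hv, LinearEquiv.trans_apply,
        LinearEquiv.symm_apply_apply, LinearEquiv.toSpanNonzeroSingleton_one] at h1
      simpa using h1.symm
    have hu : IsUnit (LinearMap.toMatrix' A.toLinearMap) := by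
      rw [← Matrix.mulVec_injective_iff_isUnit]
      intro x y h
      simp only [LinearMap.toMatrix'_mulVec] at h
      exact A.injective h
    obtain ⟨X, hX⟩ := hu
    exact ⟨X, by rw [hX, LinearMap.toMatrix'_mulVec]; exact hA⟩
  have hd : (X : Mn).det ≠ 0 := (X.isUnit.map Matrix.detMonoidHom).ne_zero
  set d := (X : Mn).det with hd'
  let x : Matrix.SpecialLinearGroup ι F := ⟨Matrix.diagonal (Function.update (1 : ι → F) i d⁻¹) * X, by
    rw [Matrix.det_mul, Matrix.det_diagonal, Finset.prod_update_of_mem (Finset.mem_univ _)]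
    simp [← hd', inv_mul_cancel₀ hd]⟩
  have hx : (x : Mn) *ᵥ v = d⁻¹ • Pi.single i 1 := by
    show (Matrix.diagonal _ * (X : Mn)) *ᵥ v = _
    rw [← mulVec_mulVec, hX]
    ext k
    by_cases hk : k = i
    · subst hk; simp
    · simp [hk]
  refine ⟨x, μ, hμ, ?_⟩
  have hx' : ((x⁻¹ : Matrix.SpecialLinearGroup ι F) : Mn) *ᵥ Pi.single i 1 = d • v := by
    have := congrArg (fun w => ((x⁻¹ : Matrix.SpecialLinearGroup ι F) : Mn) *ᵥ w) hx
    simp only [mulVec_mulVec, ← Matrix.SpecialLinearGroup.coe_mul, inv_mul_cancel, Matrix.SpecialLinearGroup.coe_one,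
      one_mulVec, mulVec_smul] at this
    rw [this, smul_smul, mul_inv_cancel₀ hd, one_smul]
  simp only [Matrix.SpecialLinearGroup.coe_mul, ← mulVec_mulVec, hx', mulVec_smul, hg, hx, smul_smul]
  congr 1
  field_simp

theorem exists_eigvec_of_root (g : Mn) {μ : F} (h : g.charpoly.IsRoot μ) :
    ∃ v, v ≠ 0 ∧ g *ᵥ v = μ • v := by
  have h0 : (Matrix.scalar ι μ - g).det = 0 := by
    rw [← Matrix.eval_charpoly]; exact h
  obtain ⟨v, hv, hv'⟩ := Matrix.exists_mulVec_eq_zero_iff.2 h0
  refine ⟨v, hv, ?_⟩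
  rw [sub_mulVec, sub_eq_zero] at hv'
  rw [← hv']
  ext k; simp [Matrix.mulVec_diagonal]

theorem psl_eq (n : ℕ) (h : HasTwoCover (Matrix.SpecialLinearGroup (Fin n) F ⧸ Subgroup.center (Matrix.SpecialLinearGroup (Fin n) F))) :
    HasTwoCover (Matrix.ProjectiveSpecialLinearGroup (Fin n) F) := h

/-- `PSL₂` and `PSL₃`. -/
theorem hasTwoCover_small [Finite F] {n : ℕ} (hn : n = 2 ∨ n = 3) :
    HasTwoCover (Matrix.ProjectiveSpecialLinearGroup (Fin n) F) := by
  classical
  obtain ⟨i, k, hik⟩ : ∃ i k : Fin n, i ≠ k :=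
    ⟨⟨0, by omega⟩, ⟨1, by omega⟩, by simp⟩
  haveI : Nonempty (Fin n) := ⟨i⟩
  have hirr : ∀ g : Matrix.SpecialLinearGroup (Fin n) F, (∀ μ, ¬ (g : Matrix (Fin n) (Fin n) F).charpoly.IsRoot μ) →
      Irreducible (g : Matrix (Fin n) (Fin n) F).charpoly := fun g hg => by
    rw [Polynomial.irreducible_iff_roots_eq_zero_of_degree_le_three]
    · exact Multiset.eq_zero_of_forall_notMem fun μ hμ => hg μ (Polynomial.isRoot_of_mem_roots hμ)
    · rw [Matrix.charpoly_natDegree_eq_dim, Fintype.card_fin]; omega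
    · rw [Matrix.charpoly_natDegree_eq_dim, Fintype.card_fin]; omega
  refine psl_eq n ?_
  by_cases h0 : ∃ g₀ : Matrix.SpecialLinearGroup (Fin n) F, ∀ μ, ¬ (g₀ : Matrix (Fin n) (Fin n) F).charpoly.IsRoot μ
  · obtain ⟨g₀, hg₀⟩ := h0
    have hm := hirr g₀ hg₀
    have hd : (g₀ : Matrix (Fin n) (Fin n) F).charpoly.natDegree = n := by
      rw [Matrix.charpoly_natDegree_eq_dim, Fintype.card_fin]
    have hj := Matrix.aeval_self_charpoly (g₀ : Matrix (Fin n) (Fin n) F)
    refine HasTwoCover.center (lineStab_ne_top hik)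
      (commStab_ne_top (not_scalar_of_root hm (by omega) hj)) (center_le_lineStab i)
      (center_le_commStab _) fun g => ?_
    by_cases hg : ∃ μ, (g : Matrix (Fin n) (Fin n) F).charpoly.IsRoot μ
    · obtain ⟨μ, hμ⟩ := hg
      obtain ⟨v, hv, hv'⟩ := exists_eigvec_of_root _ hμ
      obtain ⟨x, hx⟩ := conj_into_lineStab i g hv hv'
      exact ⟨x, Or.inl hx⟩
    · obtain ⟨P, hP⟩ := exists_root_mod hm (hirr g fun μ h => hg ⟨μ, h⟩)
        (by rw [hd, Matrix.charpoly_natDegree_eq_dim, Fintype.card_fin])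
      obtain ⟨j', hj', hc⟩ := exists_root_comm _ hP
      obtain ⟨x, hx⟩ := conj_into hm hj hj' g hc
      exact ⟨x, Or.inr hx⟩
  · push Not at h0
    refine HasTwoCover.center (lineStab_ne_top hik) (lineStab_ne_top hik) (center_le_lineStab i)
      (center_le_lineStab i) fun g => ?_
    obtain ⟨μ, hμ⟩ := h0 g
    obtain ⟨v, hv, hv'⟩ := exists_eigvec_of_root _ hμ
    obtain ⟨x, hx⟩ := conj_into_lineStab i g hv hv'
    exact ⟨x, Or.inl hx⟩

/-- A monic quartic without roots: a root of an irreducible quadratic modulo it. -/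
theorem exists_root_quartic [Fintype F] {m χ : F[X]} (hm : Irreducible m) (hm2 : m.natDegree = 2)
    (hχ : χ.Monic) (h4 : χ.natDegree = 4) (hr : ∀ μ, ¬ χ.IsRoot μ) : ∃ P, χ ∣ m.comp P := by
  by_cases hi : Irreducible χ
  · exact exists_root_mod hm hi (by rw [hm2, h4]; norm_num)
  · obtain ⟨a, ha, hadvd⟩ : ∃ a, Irreducible a ∧ a ∣ χ :=
      WfDvdMonoid.exists_irreducible_factor (Polynomial.not_isUnit_of_natDegree_pos _ (by omega)) hχ.ne_zero
    obtain ⟨b, rfl⟩ := hadvd
    have ha0 := ha.ne_zero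
    have hb0 : b ≠ 0 := fun h => hχ.ne_zero (by rw [h, mul_zero])
    rw [Polynomial.natDegree_mul ha0 hb0] at h4
    have hno : ∀ c : F[X], c ∣ a * b → c.natDegree ≠ 1 := fun c hc h1 => by
      have hdeg : c.degree = 1 := (Polynomial.degree_eq_iff_natDegree_eq_of_pos one_pos).2 h1
      obtain ⟨μ, hμ⟩ := Polynomial.exists_root_of_degree_eq_one hdeg
      exact hr μ (hμ.dvd hc)
    have hapos := ha.natDegree_pos
    have hbpos : 0 < b.natDegree := by
      rcases Nat.eq_zero_or_pos b.natDegree with h | h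
      · exfalso
        refine hi (Associated.irreducible ?_ ha)
        exact (associated_mul_unit_right a b
          (Polynomial.isUnit_iff_degree_eq_zero.2
            (by rw [Polynomial.degree_eq_natDegree hb0, h]; rfl)))
      · exact h
    have h1 := hno a (dvd_mul_right _ _)
    have h2 := hno b (dvd_mul_left _ _)
    have hb : Irreducible b := by
      rw [Polynomial.irreducible_iff_roots_eq_zero_of_degree_le_three (by omega) (by omega)]
      exact Multiset.eq_zero_of_forall_notMem fun μ hμ =>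
        hr μ ((Polynomial.isRoot_of_mem_roots hμ).dvd (dvd_mul_left _ _))
    obtain ⟨P, hP⟩ := exists_root_mod hm ha (by rw [hm2]; omega)
    obtain ⟨Q, hQ⟩ := exists_root_mod hm hb (by rw [hm2]; omega)
    by_cases hab : Associated a b
    · refine ⟨P ^ Fintype.card F, dvd_trans ?_ (dvd_comp_pow hP)⟩
      refine dvd_trans ?_ (pow_dvd_pow a (Fintype.one_lt_card (α := F)))
      rw [show (1 : ℕ).succ = 2 from rfl, sq]
      exact mul_dvd_mul_left a hab.symm.dvd
    · have hcop : IsCoprime a b :=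
        ha.coprime_iff_not_dvd.2 fun hd => hab (ha.associated_of_dvd hb hd)
      obtain ⟨u, v, huv⟩ := id hcop
      refine ⟨P + a * u * (Q - P), hcop.mul_dvd ?_ ?_⟩
      · have h : a ∣ m.comp (P + a * u * (Q - P)) - m.comp P := by
          refine dvd_trans ?_ (Polynomial.sub_dvd_eval_sub (P + a * u * (Q - P)) P (m.map Polynomial.C) |>.trans
            (dvd_of_eq (by simp only [Polynomial.comp, Polynomial.eval_map])))
          exact ⟨u * (Q - P), by ring⟩
        simpa using dvd_add h hP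
      · have h : b ∣ m.comp (P + a * u * (Q - P)) - m.comp Q := by
          refine dvd_trans ?_ (Polynomial.sub_dvd_eval_sub (P + a * u * (Q - P)) Q (m.map Polynomial.C) |>.trans
            (dvd_of_eq (by simp only [Polynomial.comp, Polynomial.eval_map])))
          exact ⟨-(v * (Q - P)), by linear_combination (Q - P) * huv⟩
        simpa using dvd_add h hQ

/-- An irreducible quadratic. -/
theorem exists_quadratic (F : Type) [Field F] [Finite F] :
    ∃ c : F, Irreducible (X ^ 2 + X - C c) := by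
  have : ¬ Function.Surjective fun x : F => x ^ 2 + x := by
    rw [← Finite.injective_iff_surjective]
    exact fun h => absurd (@h 0 (-1) (by ring)) (by simp)
  rw [Function.Surjective] at this
  push Not at this
  obtain ⟨c, hc⟩ := this
  refine ⟨c, ?_⟩
  have hd : (X ^ 2 + X - C c : F[X]).natDegree = 2 := by compute_degree!
  rw [Polynomial.irreducible_iff_roots_eq_zero_of_degree_le_three (by omega) (by omega)]
  exact Multiset.eq_zero_of_forall_notMem fun μ hμ => hc μ (by
    have := Polynomial.isRoot_of_mem_roots hμ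
    simp only [IsRoot.def, eval_sub, eval_add, eval_pow, eval_X, eval_C, sub_eq_zero] at this
    exact this)

/-- `PSL₄`. -/
theorem hasTwoCover_four [Fintype F] : HasTwoCover (Matrix.ProjectiveSpecialLinearGroup (Fin 4) F) := by
  classical
  refine psl_eq 4 ?_
  obtain ⟨c, hm⟩ := exists_quadratic F
  have hd : (X ^ 2 + X - C c : F[X]).natDegree = 2 := by compute_degree!
  set j : Matrix (Fin 4) (Fin 4) F := !![0, c, 0, 0; 1, -1, 0, 0; 0, 0, 0, c; 0, 0, 1, -1] with hjdef
  have hj : aeval j (X ^ 2 + X - C c : F[X]) = 0 := by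
    simp only [map_sub, map_add, map_pow, aeval_X, aeval_C, hjdef]
    ext a b
    fin_cases a <;> fin_cases b <;>
      simp [sq, Matrix.mul_apply, Fin.sum_univ_four, Matrix.algebraMap_matrix_apply]
  refine HasTwoCover.center (lineStab_ne_top (i := (0 : Fin 4)) (k := 1) (by decide))
    (commStab_ne_top (not_scalar_of_root hm (by omega) hj)) (center_le_lineStab 0)
    (center_le_commStab _) fun g => ?_
  by_cases hg : ∃ μ, (g : Matrix (Fin 4) (Fin 4) F).charpoly.IsRoot μ
  · obtain ⟨μ, hμ⟩ := hg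
    obtain ⟨v, hv, hv'⟩ := exists_eigvec_of_root _ hμ
    obtain ⟨x, hx⟩ := conj_into_lineStab 0 g hv hv'
    exact ⟨x, Or.inl hx⟩
  · obtain ⟨P, hP⟩ := exists_root_quartic hm hd (Matrix.charpoly_monic (g : Matrix (Fin 4) (Fin 4) F))
      (by rw [Matrix.charpoly_natDegree_eq_dim, Fintype.card_fin]) (fun μ h => hg ⟨μ, h⟩)
    obtain ⟨j', hj', hc⟩ := exists_root_comm _ hP
    obtain ⟨x, hx⟩ := conj_into hm hj hj' g hc
    exact ⟨x, Or.inr hx⟩

end Cfsg.Agent.Classical.TwoCover.Linear
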