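import Cfsg.Agent.Lib.Classical.TwoClassCoverSpSixConj
import Cfsg.Prelude.Def_Classical

/-!
`PSp₆(q)`, `q` a power of `3`, is the union of the conjugates of the stabiliser of a hyperbolic
plane and of the normaliser of a self-adjoint cubic field extension.
-/

set_option autoImplicit false
set_option linter.unusedSectionVars false

namespace Cfsg.Agent.Classical.TwoCover.SpSix

open Matrix Polynomial Module

variable {F : Type} [Field F] [Fintype F]

/-- The companion matrix of the cubic. -/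
def cmat (c : F) : Matrix (Fin 3) (Fin 3) F := !![(0 : F), 0, c; 1, 0, 1; 0, 1, 0]

/-- The self-adjoint root. -/
def jmat (c : F) : Matrix I6 I6 F := fromBlocks (cmat c) 0 0 (cmat c)ᵀ

/-- The translation of the root. -/
def smat : Matrix (Fin 3) (Fin 3) F := !![(1 : F), 1, 1; 0, 1, -1; 0, 0, 1]

/-- Its contragredient. -/
def smat' : Matrix (Fin 3) (Fin 3) F := !![(1 : F), 0, 0; -1, 1, 0; 1, 1, 1]

/-- The translation on the whole space. -/
def sigma6 : Matrix I6 I6 F := fromBlocks smat 0 0 smat'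

/-- The model of `(X² - tX + 1)³`. -/
def xmat (t : F) : Matrix I6 I6 F :=
  fromBlocks 0 !![(0 : F), -1, -1; 1, -1, 0; -1, 0, 0] !![(0 : F), 0, 1; 0, 1, -1; 1, 1, -1] (t • smat')

/-- The model of a regular unipotent element. -/
def vmat (c e : F) : Matrix I6 I6 F :=
  fromBlocks smat (e • !![-c, c, 0; c - 1, 1, 0; 1, 1, 1]) 0 smat'

theorem mem_sp_blocks {A B C D : Matrix (Fin 3) (Fin 3) F} (h1 : Aᵀ * C = Cᵀ * A) (h2 : Bᵀ * D = Dᵀ * B)
    (h3 : Aᵀ * D - Cᵀ * B = 1) : fromBlocks A B C D ∈ Matrix.symplecticGroup (Fin 3) F := by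
  have h4 : Dᵀ * A - Bᵀ * C = 1 := by
    have e := congrArg Matrix.transpose h3
    rwa [transpose_sub, transpose_mul, transpose_mul, transpose_transpose, transpose_transpose,
      transpose_one] at e
  rw [SymplecticGroup.mem_iff', Matrix.J, fromBlocks_transpose, fromBlocks_multiply, fromBlocks_multiply]
  simp only [mul_zero, mul_one, zero_add, add_zero, mul_neg, neg_mul]
  congr 1
  · rw [h1]; abel
  · rw [← h3]; abel
  · rw [← h4]; abel
  · rw [h2]; abel

theorem blocks_sub (A B C D A' B' C' D' : Matrix (Fin 3) (Fin 3) F) :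
    fromBlocks A B C D - fromBlocks A' B' C' D' = fromBlocks (A - A') (B - B') (C - C') (D - D') := by
  ext (i | i) (j | j) <;> simp

section CharThree

variable [CharP F 3]

theorem three_eq : (3 : F) = 0 := CharP.cast_eq_zero F 3

theorem smat_contra : (smat : Matrix (Fin 3) (Fin 3) F)ᵀ * smat' = 1 := by
  have h3 : (3 : F) = 0 := three_eq
  ext i j
  fin_cases i <;> fin_cases j <;> simp [smat, smat', Matrix.mul_apply, Fin.sum_univ_three] <;> grind

theorem sigma6_mem : (sigma6 : Matrix I6 I6 F) ∈ Matrix.symplecticGroup (Fin 3) F :=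
  mem_sp_blocks (by simp) (by simp) (by simp [smat_contra])

/-- The translation. -/
def sig : Sp6 F := ⟨sigma6, sigma6_mem⟩

theorem xmat_mem (t : F) : xmat t ∈ Matrix.symplecticGroup (Fin 3) F := by
  have h3 : (3 : F) = 0 := three_eq
  refine mem_sp_blocks (by simp) ?_ ?_ <;> ext i j <;> fin_cases i <;> fin_cases j <;>
    simp [smat', Matrix.mul_apply, Fin.sum_univ_three] <;> grind

/-- The model element. -/
def xel (t : F) : Sp6 F := ⟨xmat t, xmat_mem t⟩

theorem vmat_mem (c e : F) : vmat c e ∈ Matrix.symplecticGroup (Fin 3) F := by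
  have h3 : (3 : F) = 0 := three_eq
  refine mem_sp_blocks (by simp) ?_ (by simp [smat_contra]) <;> ext i j <;> fin_cases i <;> fin_cases j <;>
    simp [smat', Matrix.mul_apply, Fin.sum_univ_three] <;> grind

/-- The unipotent model. -/
def vel (c e : F) : Sp6 F := ⟨vmat c e, vmat_mem c e⟩

/-! ### The field normaliser -/

/-- The normaliser of the field. -/
def fieldNorm (c : F) : Subgroup (Sp6 F) where
  carrier := {g | ∃ i : ℕ, mat g * jmat c = (jmat c + (i : F) • 1) * mat g}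
  one_mem' := ⟨0, by simp [mat]⟩
  mul_mem' := by
    rintro g h ⟨i, hi⟩ ⟨k, hk⟩
    refine ⟨i + k, ?_⟩
    rw [mat_mul, mul_assoc, hk, ← mul_assoc, mul_add, hi, mul_smul_comm, mul_one, Nat.cast_add, add_smul]
    simp only [add_mul, smul_mul_assoc, one_mul, mul_assoc]
    abel
  inv_mem' := by
    rintro g ⟨i, hi⟩
    refine ⟨2 * i, ?_⟩
    have e : jmat c * mat g⁻¹ = mat g⁻¹ * jmat c + (i : F) • mat g⁻¹ := by
      calc jmat c * mat g⁻¹ = mat g⁻¹ * (mat g * jmat c) * mat g⁻¹ := by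
            rw [← mul_assoc, mat_inv_mul, one_mul]
        _ = mat g⁻¹ * (jmat c + (i : F) • 1) := by rw [hi, mul_assoc, mul_assoc, mat_mul_inv, mul_one]
        _ = _ := by rw [mul_add, mul_smul_comm, mul_one]
    have h2 : ((2 * i : ℕ) : F) = -(i : F) := by push_cast; linear_combination (i : F) * three_eq (F := F)
    rw [h2, neg_smul, add_mul, neg_mul, smul_mul_assoc, one_mul, e]
    abel

theorem mem_fieldNorm_of_negG {g x : Sp6 F} {c : F} (h : x * negG g * x⁻¹ ∈ fieldNorm c) :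
    x * g * x⁻¹ ∈ fieldNorm c := by
  obtain ⟨i, hi⟩ := h
  refine ⟨i, ?_⟩
  simp only [mat_mul, mat_negG, mul_neg, neg_mul, neg_inj] at hi ⊢
  exact hi

theorem jmat_root (c : F) : aeval (jmat c) (asPoly c) = 0 := by
  have hC : cmat c * (cmat c * cmat c) = cmat c + c • 1 := by
    ext i j
    fin_cases i <;> fin_cases j <;> simp [cmat, Matrix.mul_apply, Fin.sum_univ_three] <;> ring
  have hCt : (cmat c)ᵀ * ((cmat c)ᵀ * (cmat c)ᵀ) = (cmat c)ᵀ + c • 1 := by
    rw [← transpose_mul, ← transpose_mul, mul_assoc, hC, transpose_add, transpose_smul, transpose_one]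
  simp only [asPoly, map_sub, map_mul, aeval_X, aeval_C, Algebra.algebraMap_eq_smul_one, pow_three]
  rw [jmat, fromBlocks_multiply, fromBlocks_multiply]
  simp only [mul_zero, zero_mul, add_zero, zero_add, hC, hCt]
  rw [← fromBlocks_one, fromBlocks_smul, smul_zero, sub_sub, fromBlocks_add, sub_eq_zero]
  simp

theorem jmat_adj (c : F) (x y : I6 → F) : ω (jmat c *ᵥ x) y = ω x (jmat c *ᵥ y) := by
  simp only [ω, sympForm_eq_sum, jmat, fromBlocks_mulVec, zero_mulVec, add_zero, zero_add, Sum.elim_inl,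
    Sum.elim_inr, Fin.sum_univ_three]
  simp [cmat, Matrix.mulVec, dotProduct, Fin.sum_univ_three]
  ring

theorem smat_shift (c : F) :
    smat * cmat c = (cmat c + 1) * smat ∧ smat' * (cmat c)ᵀ = ((cmat c)ᵀ + 1) * smat' := by
  have h3 : (3 : F) = 0 := three_eq
  constructor <;> ext i j <;> fin_cases i <;> fin_cases j <;>
    simp [smat, smat', cmat, Matrix.mul_apply, Fin.sum_univ_three] <;> grind

theorem jmat_add_one (c : F) :
    jmat c + ((1 : ℕ) : F) • 1 = fromBlocks (cmat c + 1) 0 0 ((cmat c)ᵀ + 1) := by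
  rw [Nat.cast_one, one_smul, jmat, ← fromBlocks_one, fromBlocks_add, add_zero]

theorem sig_norm (c : F) : sig ∈ fieldNorm c := by
  refine ⟨1, ?_⟩
  rw [jmat_add_one]
  show sigma6 * jmat c = _ * sigma6
  rw [sigma6, jmat, fromBlocks_multiply, fromBlocks_multiply]
  simp [smat_shift]

theorem xel_norm (c t : F) : xel t ∈ fieldNorm c := by
  have h3 : (3 : F) = 0 := three_eq
  refine ⟨1, ?_⟩
  rw [jmat_add_one]
  show xmat t * jmat c = _ * xmat t
  rw [xmat, jmat, fromBlocks_multiply, fromBlocks_multiply]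
  simp only [mul_zero, zero_mul, add_zero, zero_add, smul_mul_assoc, mul_smul_comm, smat_shift]
  congr 1 <;> ext i j <;> fin_cases i <;> fin_cases j <;>
    simp [cmat, Matrix.mul_apply, Matrix.vecMul, dotProduct, Fin.sum_univ_three] <;> grind

theorem vel_norm (c e : F) : vel c e ∈ fieldNorm c := by
  have h3 : (3 : F) = 0 := three_eq
  refine ⟨1, ?_⟩
  rw [jmat_add_one]
  show vmat c e * jmat c = _ * vmat c e
  rw [vmat, jmat, fromBlocks_multiply, fromBlocks_multiply]
  simp only [mul_zero, zero_mul, smul_zero, add_zero, zero_add, smul_mul_assoc, mul_smul_comm, smat_shift]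
  congr 1
  ext i j
  fin_cases i <;> fin_cases j <;> simp [cmat, Matrix.mul_apply, Matrix.vecMul, dotProduct, Fin.sum_univ_three] <;> grind

/-! ### The models -/

theorem sig_sub : (sigma6 : Matrix I6 I6 F) - 1 = fromBlocks (smat - 1) 0 0 (smat' - 1) := by
  rw [sigma6, ← fromBlocks_one, blocks_sub, sub_zero]

theorem sig_sub_cube : ((sigma6 : Matrix I6 I6 F) - 1) ^ 3 = 0 := by
  rw [pow_three, sig_sub, fromBlocks_multiply, fromBlocks_multiply]
  simp only [mul_zero, zero_mul, add_zero, zero_add]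
  rw [← fromBlocks_zero]
  congr 1 <;> ext i j <;> fin_cases i <;> fin_cases j <;>
    simp [smat, smat', Matrix.mul_apply, Fin.sum_univ_three]

theorem ev_sig_pow (k : ℕ) : ev (sig : Sp6 F) ((X - 1 : F[X]) ^ k) = (sigma6 - 1) ^ k := by
  rw [map_pow, map_sub, ev_X, map_one]; rfl

theorem sig_type : ev (sig : Sp6 F) ((X - 1 : F[X]) ^ 3) = 0 ∧ ev (sig : Sp6 F) ((X - 1 : F[X]) ^ 2) ≠ 0 := by
  refine ⟨by rw [ev_sig_pow, sig_sub_cube], fun h => ?_⟩
  rw [ev_sig_pow, sq, sig_sub, fromBlocks_multiply] at h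
  have e := congrFun (congrFun h (Sum.inl 0)) (Sum.inl 2)
  simp [smat, Matrix.mul_apply, Fin.sum_univ_three] at e

theorem xmat_rel (t : F) : xmat t * xmat t = t • (xmat t * sigma6) - sigma6 * sigma6 ∧
    xmat t * sigma6 = sigma6 * xmat t := by
  have h3 : (3 : F) = 0 := three_eq
  rw [xmat, sigma6, fromBlocks_multiply, fromBlocks_multiply, fromBlocks_multiply, fromBlocks_multiply,
    fromBlocks_smul, blocks_sub]
  constructor <;> congr 1 <;> ext i j <;> fin_cases i <;> fin_cases j <;>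
    simp [smat, smat', Matrix.mul_apply, Fin.sum_univ_three] <;> grind

theorem xel_cyclic (h2 : (2 : F) ≠ 0) {t : F} (ht : t ^ 2 ≠ 4) :
    ∃ v, IsCyc (xel t) ((X ^ 2 - Polynomial.C t * X + 1) ^ 3) v := by
  have h3 : (3 : F) = 0 := three_eq
  set f : F[X] := X ^ 2 - Polynomial.C t * X + 1 with hf
  obtain ⟨W, hW⟩ : ∃ W, W = t • xmat t - (sigma6 + 1) := ⟨_, rfl⟩
  obtain ⟨Nd, hNd⟩ : ∃ N, N = (sigma6 : Matrix I6 I6 F) - 1 := ⟨_, rfl⟩
  have hfW : ev (xel t) f = W * Nd := by
    rw [hf, sq, map_add, map_sub, map_mul, map_mul, map_one, ev_X, ev_C, smul_mul_assoc, one_mul]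
    show xmat t * xmat t - t • xmat t + 1 = _
    rw [(xmat_rel t).1, hW, hNd, sub_mul, smul_mul_assoc, mul_sub, mul_sub, mul_one, mul_one, add_mul, one_mul,
      smul_sub]
    abel
  have hcomm : Commute W Nd := by
    rw [hW, hNd]
    refine ((Commute.smul_left ?_ t).sub_left ((Commute.refl _).add_left (Commute.one_left _))).sub_right
      (Commute.one_right _)
    exact (xmat_rel t).2
  have hf3 : ev (xel t) (f ^ 3) = 0 := by
    rw [map_pow, hfW, hcomm.mul_pow, hNd, sig_sub_cube, mul_zero]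
  have hX : ∀ k : ℕ, ev (xel t) (bar (xel t) X ^ k * f ^ k) = ev (xel t) (pen (xel t) t ^ k) := by
    intro k
    rw [map_mul, map_pow _ f, hf, ev_quad, ← map_pow, ← map_mul, mul_pow, ← mul_assoc, ← mul_pow,
      map_mul, mul_comm (bar _ X), map_pow, ev_X_mul_bar, one_pow, one_mul]
  have hnil : ev (xel t) (pen (xel t) t ^ 6) = 0 := by
    rw [← hX, show f ^ 6 = f ^ 3 * f ^ 3 by ring, map_mul, map_mul, hf3, mul_zero, mul_zero]
  have hne : ev (xel t) (pen (xel t) t ^ 2) ≠ 0 := by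
    intro h
    have e : ev (xel t) (f ^ 2) = 0 := by
      rw [map_pow, hf, ev_quad, ← map_pow, mul_pow, map_mul, h, mul_zero]
    rw [map_pow, hfW, hcomm.mul_pow, hNd, sq, sq, sig_sub, fromBlocks_multiply (smat - 1)] at e
    have e' := congrFun (congrFun e (Sum.inl 0)) (Sum.inl 2)
    simp [hW, xmat, sigma6, smat, smat', Matrix.mul_apply, Fin.sum_univ_three, Fintype.sum_sum_type] at e'
    exact ht (by grind)
  exact cyclic_of_sq (xel t) h2 t ht hnil hne

/-- The marked vector. -/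
def wvec : I6 → F := Pi.single (Sum.inr 0) 1

theorem vel_value (c e : F) : ev (vel c e) ((X - 1 : F[X]) ^ 6) = 0 ∧
    ω wvec (ev (vel c e) ((X - 1 : F[X]) ^ 5) *ᵥ wvec) = e := by
  have h3 : (3 : F) = 0 := three_eq
  set B : Matrix (Fin 3) (Fin 3) F := e • !![-c, c, 0; c - 1, 1, 0; 1, 1, 1] with hB
  have hN : ev (vel c e) (X - 1 : F[X]) = fromBlocks (smat - 1) B 0 (smat' - 1) := by
    rw [map_sub, ev_X, map_one]
    show vmat c e - 1 = _
    rw [vmat, ← fromBlocks_one, blocks_sub, sub_zero, sub_zero, hB]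
  have h2 : ev (vel c e) ((X - 1 : F[X]) ^ 2) =
      fromBlocks ((smat - 1) * (smat - 1)) ((smat - 1) * B + B * (smat' - 1)) 0
        ((smat' - 1) * (smat' - 1)) := by
    rw [map_pow, hN, sq, fromBlocks_multiply]; simp
  have h3' : ev (vel c e) ((X - 1 : F[X]) ^ 3) =
      fromBlocks 0 (e • !![(1 : F), 0, -1; 0, -1, 0; -1, 0, 0]) 0 0 := by
    rw [pow_succ, map_mul, h2, hN, fromBlocks_multiply]
    congr 1 <;> ext i j <;> fin_cases i <;> fin_cases j <;>
      simp [hB, smat, smat', Matrix.mul_apply, Matrix.vecMul, dotProduct, Fin.sum_univ_three] <;> grind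
  refine ⟨?_, ?_⟩
  · rw [show (X - 1 : F[X]) ^ 6 = (X - 1) ^ 3 * (X - 1) ^ 3 by ring, map_mul, h3', fromBlocks_multiply]
    simp
  · rw [show (X - 1 : F[X]) ^ 5 = (X - 1) ^ 3 * (X - 1) ^ 2 by ring, ev_mulVec, h3', h2,
      show (wvec : I6 → F) = Sum.elim (0 : Fin 3 → F) (Pi.single (0 : Fin 3) (1 : F)) by
        funext i; rcases i with i | i <;> simp [wvec, Pi.single_apply],
      fromBlocks_mulVec, fromBlocks_mulVec]
    simp only [Sum.elim_comp_inl, Sum.elim_comp_inr, mulVec_zero, zero_mulVec, zero_add, ω, sympForm_eq_sum,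
      Sum.elim_inl, Sum.elim_inr]
    simp [smat', Matrix.mulVec, dotProduct, Matrix.mul_apply, Fin.sum_univ_three]

end CharThree

/-- The last value of a regular unipotent element is not zero. -/
theorem cyc_value_ne {g : Sp6 F} {v : I6 → F} (hv : IsCyc g ((X - 1 : F[X]) ^ 6) v) :
    ω v (ev g ((X - 1 : F[X]) ^ 5) *ᵥ v) ≠ 0 := by
  intro hd0
  have hd : ((X - 1 : F[X]) ^ 6).natDegree = 6 := by
    rw [Polynomial.natDegree_pow, ← map_one (Polynomial.C (R := F)), natDegree_X_sub_C]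
  have h0 : ev g ((X - 1 : F[X]) ^ 5) *ᵥ v = 0 := eq_zero_of_ω fun y => by
    obtain ⟨P, rfl⟩ := cyc_surj hd hv y
    obtain ⟨Q, hQ⟩ : (X - 1 : F[X]) ∣ bar g P - Polynomial.C ((bar g P).eval 1) := by
      rw [← map_one (Polynomial.C (R := F)), Polynomial.dvd_iff_isRoot]
      simp [IsRoot.def]
    rw [adj, ← ev_mulVec, show bar g P * (X - 1) ^ 5 =
      Polynomial.C ((bar g P).eval 1) * (X - 1) ^ 5 + Q * (X - 1) ^ 6 by linear_combination (X - 1 : F[X]) ^ 5 * hQ,
      map_add, map_mul, map_mul, hv.1, mul_zero, add_zero, ev_C, smul_mul_assoc, one_mul, smul_mulVec, ω,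
      sympForm_smul_right]
    simp only [ω] at hd0
    rw [hd0, mul_zero]
  have := hv.2 _ h0
  have h6 := Polynomial.natDegree_le_of_dvd this (pow_ne_zero _ (Polynomial.X_sub_C_ne_zero (1 : F)))
  rw [hd, Polynomial.natDegree_pow, ← map_one (Polynomial.C (R := F)), natDegree_X_sub_C] at h6
  omega

/-! ### The plane stabiliser -/

/-- The marked plane. -/
def plane0 : Submodule F (I6 → F) :=
  Submodule.span F {Pi.single (Sum.inr 0) 1, Pi.single (Sum.inl 0) 1}

/-- Its stabiliser. -/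
def planeStab : Subgroup (Sp6 F) where
  carrier := {g | ∀ x ∈ (plane0 : Submodule F (I6 → F)), mat g *ᵥ x ∈ (plane0 : Submodule F (I6 → F))}
  one_mem' := fun x hx => by simpa [mat] using hx
  mul_mem' := by
    intro g h hg hh x hx
    rw [mat_mul, ← mulVec_mulVec]
    exact hg _ (hh _ hx)
  inv_mem' := by
    intro g hg x hx
    rw [mat_inv_eq]
    generalize invExp g = k
    induction k with
    | zero => simpa using hx
    | succ k ih => rw [pow_succ', ← mulVec_mulVec]; exact hg _ ih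

theorem plane_conj {g : Sp6 F} (h : HasPlane g) : ∃ x : Sp6 F, x * g * x⁻¹ ∈ planeStab := by
  obtain ⟨u, v, huv, hu, hv⟩ := h
  have h1 : sympForm 3 F u ((ω u v)⁻¹ • v) = 1 := by
    rw [sympForm_smul_right]; exact inv_mul_cancel₀ huv
  obtain ⟨A, -, hAu, hAv⟩ := exists_closure_pair h1 (u' := Pi.single (Sum.inr 0) 1)
    (v' := Pi.single (Sum.inl 0) 1) (by rw [sympForm_single_inl]; simp)
  refine ⟨A, fun x hx => ?_⟩
  obtain ⟨a, b, rfl⟩ := Submodule.mem_span_pair.1 hx
  have hback : ∀ y, mat A *ᵥ y ∈ (plane0 : Submodule F (I6 → F)) ↔ y ∈ Submodule.span F {u, v} := by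
    intro y
    constructor
    · intro hy
      obtain ⟨p, q, hpq⟩ := Submodule.mem_span_pair.1 hy
      refine Submodule.mem_span_pair.2 ⟨p, q * (ω u v)⁻¹, ?_⟩
      have e := congrArg (fun z => mat A⁻¹ *ᵥ z) hpq
      rw [← hAu, ← hAv] at e
      simp only [mulVec_add, mulVec_smul, inv_apply] at e
      rw [← e, smul_smul]
    · intro hy
      obtain ⟨p, q, rfl⟩ := Submodule.mem_span_pair.1 hy
      refine Submodule.mem_span_pair.2 ⟨p, q * ω u v, ?_⟩
      rw [← hAu, ← hAv, mulVec_add, mulVec_smul, mulVec_smul, mulVec_smul, smul_smul, mul_assoc,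
        mul_inv_cancel₀ huv, mul_one]
  rw [mat_mul, mat_mul, ← mulVec_mulVec, ← mulVec_mulVec, hback]
  have hy : mat A⁻¹ *ᵥ (a • Pi.single (Sum.inr 0) 1 + b • Pi.single (Sum.inl 0) (1 : F)) =
      a • u + b • ((ω u v)⁻¹ • v) := by
    rw [← hAu, ← hAv, ← mulVec_smul, ← mulVec_smul, ← mulVec_add, inv_apply]
  rw [hy, mulVec_add, mulVec_smul, mulVec_smul, mulVec_smul]
  exact add_mem (Submodule.smul_mem _ _ hu) (Submodule.smul_mem _ _ (Submodule.smul_mem _ _ hv))

theorem planeStab_ne_top : (planeStab : Subgroup (Sp6 F)) ≠ ⊤ := by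
  intro e
  have h : (sympTv (Pi.single (Sum.inl 0) 1 + Pi.single (Sum.inl 1) 1 : I6 → F) (1 : F) : Sp6 F) ∈ planeStab :=
    e ▸ Subgroup.mem_top _
  obtain ⟨a, b, hab⟩ := Submodule.mem_span_pair.1
    (h (Pi.single (Sum.inr 0) 1) (Submodule.subset_span (by simp)))
  have e1 := congrFun hab (Sum.inl 1)
  change _ = (sympTransvection 3 _ _ *ᵥ _) (Sum.inl 1) at e1
  rw [sympTransvection_mulVec] at e1
  simp [sympForm_eq_sum, Fin.sum_univ_three] at e1

section CharThree

variable [CharP F 3]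

theorem fieldNorm_ne_top (c : F) : (fieldNorm c : Subgroup (Sp6 F)) ≠ ⊤ := by
  intro e
  have hmem : fromBlocks 1 !![(1 : F), 0, 0; 0, 0, 0; 0, 0, 0] 0 1 ∈ Matrix.symplecticGroup (Fin 3) F := by
    refine mem_sp_blocks (by simp) ?_ (by simp)
    ext i j; fin_cases i <;> fin_cases j <;> simp
  obtain ⟨i, hi⟩ : (⟨_, hmem⟩ : Sp6 F) ∈ fieldNorm c := e ▸ Subgroup.mem_top _
  have hi' : fromBlocks 1 !![(1 : F), 0, 0; 0, 0, 0; 0, 0, 0] 0 1 * jmat c =
      (jmat c + (i : F) • 1) * fromBlocks 1 !![(1 : F), 0, 0; 0, 0, 0; 0, 0, 0] 0 1 := hi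
  have a := congrFun (congrFun hi' (Sum.inl 0)) (Sum.inr 1)
  simp [jmat, cmat, Matrix.mul_apply, Fin.sum_univ_three, Fintype.sum_sum_type] at a

theorem center_le_both (c : F) :
    Subgroup.center (Sp6 F) ≤ planeStab ∧ Subgroup.center (Sp6 F) ≤ fieldNorm c := by
  have key : ∀ z ∈ Subgroup.center (Sp6 F), ∃ l : F, mat z = l • 1 := fun z hz => by
    obtain ⟨l, -, hl'⟩ := eq_scalar_of_commute_sympTv z fun v => (Subgroup.mem_center_iff.1 hz _).symm
    exact ⟨l, hl' (by norm_num)⟩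
  refine ⟨fun z hz x hx => ?_, fun z hz => ⟨0, ?_⟩⟩ <;> obtain ⟨l, hl⟩ := key z hz
  · rw [hl, smul_mulVec, one_mulVec]; exact Submodule.smul_mem _ _ hx
  · rw [hl, smul_mul_assoc, mul_smul_comm, one_mul, mul_one, Nat.cast_zero, zero_smul, add_zero]

theorem exists_irreducible_as (F : Type) [Field F] [Fintype F] [CharP F 3] :
    ∃ c : F, Irreducible (asPoly c) ∧ (asPoly c).natDegree = 3 := by
  have hn : ¬ Function.Surjective fun x : F => x ^ 3 - x := fun h =>
    zero_ne_one (α := F) ((Finite.injective_iff_surjective.2 h) (by simp))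
  unfold Function.Surjective at hn
  push Not at hn
  obtain ⟨c, hc⟩ := hn
  have hd : (asPoly c).natDegree = 3 := by rw [asPoly]; compute_degree!
  refine ⟨c, ?_, hd⟩
  rw [Polynomial.irreducible_iff_roots_eq_zero_of_degree_le_three (by omega) (by omega)]
  refine Multiset.eq_zero_of_forall_notMem fun x hx => hc x ?_
  have e := Polynomial.isRoot_of_mem_roots hx
  simp [IsRoot.def, asPoly] at e
  linear_combination e

/-- Every element is conjugate into one of the two subgroups. -/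
theorem cover {c : F} (hm : Irreducible (asPoly c)) (hdeg : (asPoly c).natDegree = 3) (g : Sp6 F) :
    ∃ x : Sp6 F, x * g * x⁻¹ ∈ planeStab ∨ x * g * x⁻¹ ∈ fieldNorm c := by
  have h2 : (2 : F) ≠ 0 := fun h => one_ne_zero (α := F) (by linear_combination three_eq (F := F) - h)
  have hd6 : ((X - 1 : F[X]) ^ 6).natDegree = 6 := by
    rw [Polynomial.natDegree_pow, ← map_one (Polynomial.C (R := F)), natDegree_X_sub_C]
  have hm6 : ((X - 1 : F[X]) ^ 6).Monic := by
    rw [← map_one (Polynomial.C (R := F))]; exact (monic_X_sub_C 1).pow 6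
  rcases classify g hm hdeg with h | ⟨j, hj, hadj, hcomm⟩ | ⟨t, ht, v, hv⟩ | ⟨k, hk, h⟩
  · obtain ⟨x, hx⟩ := plane_conj h
    exact ⟨x, Or.inl hx⟩
  · obtain ⟨X, hX⟩ := conj_field h2 hm hdeg (jmat_root c) (jmat_adj c) hj hadj
    refine ⟨X, Or.inr ⟨0, ?_⟩⟩
    have e : mat X⁻¹ * jmat c = j * mat X⁻¹ := by
      calc mat X⁻¹ * jmat c = mat X⁻¹ * (jmat c * mat X) * mat X⁻¹ := by
            rw [mul_assoc, mul_assoc, mat_mul_inv, mul_one]
        _ = _ := by rw [← hX, ← mul_assoc, mat_inv_mul, one_mul]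
    rw [Nat.cast_zero, zero_smul, add_zero, mat_mul, mat_mul, mul_assoc, e, ← mul_assoc, mul_assoc (mat X),
      hcomm, ← mul_assoc (mat X), hX]
    simp only [mul_assoc]
  · obtain ⟨w, hw⟩ := xel_cyclic h2 ht
    have hfm : (X ^ 2 - Polynomial.C t * X + 1 : F[X]).Monic := by monicity!
    have hfd : (X ^ 2 - Polynomial.C t * X + 1 : F[X]).natDegree = 2 := by compute_degree!
    obtain ⟨x, hx⟩ := conj_of_norms h2 (hfm.pow 3) (by rw [Polynomial.natDegree_pow, hfd]) hv hw
      fun d hs hi _ => norm_quad ht hw d hs hi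
    exact ⟨x, Or.inr (hx ▸ xel_norm c t)⟩
  · obtain ⟨x, hx⟩ : ∃ x : Sp6 F, x * k * x⁻¹ ∈ fieldNorm c := by
      rcases h with ⟨v, hv⟩ | ⟨k3, k2⟩
      · set e := ω v (ev k ((X - 1 : F[X]) ^ 5) *ᵥ v) with he
        have hne : e ≠ 0 := cyc_value_ne hv
        obtain ⟨v6, v5⟩ := vel_value c e
        have hw : IsCyc (vel c e) ((X - 1 : F[X]) ^ 6) wvec :=
          cyc_six _ v6 fun h0 => hne (by rw [← v5, h0]; exact sympForm_zero_right _)
        obtain ⟨x, hx⟩ := conj_of_norms h2 hm6 hd6 hv hw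
          fun d hs _ hφ => norm_unip hw (by rw [v5]; exact hne) (by rw [v5]) d hs hφ
        exact ⟨x, hx ▸ vel_norm c e⟩
      · obtain ⟨x, hx⟩ := conj_three h2 k sig k3 k2 sig_type.1 sig_type.2
        exact ⟨x, hx ▸ sig_norm c⟩
    rcases hk with rfl | rfl
    · exact ⟨x, Or.inr hx⟩
    · exact ⟨x, Or.inr (mem_fieldNorm_of_negG hx)⟩

/-- `PSp₆(q)`, `q` a power of `3`. -/
theorem hasTwoCover : HasTwoCover (PSp 3 F) := by
  obtain ⟨c, hm, hd⟩ := exists_irreducible_as F
  exact HasTwoCover.center (H := planeStab) (K := fieldNorm c) planeStab_ne_top (fieldNorm_ne_top c)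
    (center_le_both c).1 (center_le_both c).2 (cover hm hd)

end CharThree

end Cfsg.Agent.Classical.TwoCover.SpSix
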