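import Cfsg.Agent.Lib.Classical.TwoClassCoverAux
import Cfsg.Agent.Lib.Classical.Symp
import Cfsg.Agent.Lib.Classical.UnitaryDetCentralizer
import Cfsg.Agent.Lib.Classical.TwoClassCoverLinear
import Cfsg.Agent.Lib.Lie.SemisimpleSimilar

/-!
Elements of `Sp₆(q)` without an invariant hyperbolic plane: either they commute with a self-adjoint
cubic field, or `(X² - tX + 1)³` is their minimal polynomial, or they are `±` unipotent of type `6`
or `3 + 3`.
-/

set_option autoImplicit false
set_option linter.unusedSectionVars false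

namespace Cfsg.Agent.Classical.TwoCover.SpSix

open Matrix Polynomial Module
open Cfsg.Agent.UnitaryDetCentralizer

variable {F : Type} [Field F]

/-- The index type. -/
abbrev I6 : Type := Fin 3 ⊕ Fin 3

/-- The group. -/
abbrev Sp6 (F : Type) [Field F] := Matrix.symplecticGroup (Fin 3) F

/-- The matrix of an element. -/
abbrev mat (g : Sp6 F) : Matrix I6 I6 F := (g : Matrix I6 I6 F)

/-- The form. -/
abbrev ω (u v : I6 → F) : F := sympForm 3 F u v

theorem mat_mul (g h : Sp6 F) : mat (g * h) = mat g * mat h := rfl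

theorem mat_inv_mul (g : Sp6 F) : mat g⁻¹ * mat g = 1 := by rw [← mat_mul, inv_mul_cancel]; rfl

theorem mat_mul_inv (g : Sp6 F) : mat g * mat g⁻¹ = 1 := by rw [← mat_mul, mul_inv_cancel]; rfl

theorem inv_apply (g : Sp6 F) (x : I6 → F) : mat g⁻¹ *ᵥ (mat g *ᵥ x) = x := by
  rw [mulVec_mulVec, mat_inv_mul, one_mulVec]

theorem mat_pow (g : Sp6 F) (k : ℕ) : mat (g ^ k) = mat g ^ k := by
  induction k with
  | zero => rfl
  | succ k ih => rw [pow_succ, pow_succ, ← ih, ← mat_mul]

theorem ω_sub_left (u u' v : I6 → F) : ω (u - u') v = ω u v - ω u' v := sympForm_sub_left u u' v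

theorem eq_zero_of_ω {u : I6 → F} (h : ∀ v, ω v u = 0) : u = 0 :=
  eq_zero_of_sympForm_eq_zero fun v => by rw [sympForm_swap, show sympForm 3 F v u = 0 from h v, neg_zero]

/-- Evaluation of a polynomial at an element. -/
noncomputable def ev (g : Sp6 F) : F[X] →ₐ[F] Matrix I6 I6 F := aeval (mat g)

theorem ev_X (g : Sp6 F) : ev g X = mat g := aeval_X _

theorem ev_C (g : Sp6 F) (c : F) : ev g (Polynomial.C c) = c • 1 := by
  rw [ev, aeval_C, Algebra.algebraMap_eq_smul_one]

theorem ev_one (g : Sp6 F) : ev g 1 = 1 := map_one _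

theorem ev_mulVec (g : Sp6 F) (P Q : F[X]) (x : I6 → F) : ev g (P * Q) *ᵥ x = ev g P *ᵥ (ev g Q *ᵥ x) := by
  rw [map_mul, mulVec_mulVec]

variable [Fintype F]

/-- The inverse as a power. -/
noncomputable def invExp (g : Sp6 F) : ℕ := orderOf g - 1

theorem mat_inv_eq (g : Sp6 F) : mat g⁻¹ = mat g ^ invExp g := by
  have h : g * g ^ invExp g = 1 := by
    rw [← pow_succ', invExp, Nat.sub_add_cancel (orderOf_pos g), pow_orderOf_eq_one]
  rw [← mat_pow, ← eq_inv_of_mul_eq_one_right h]

/-- The adjoint polynomial. -/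
noncomputable def bar (g : Sp6 F) (P : F[X]) : F[X] := P.comp (X ^ invExp g)

theorem ev_bar (g : Sp6 F) (P : F[X]) : ev g (bar g P) = aeval (mat g⁻¹) P := by
  rw [bar, ev, Polynomial.aeval_comp, map_pow, aeval_X, mat_inv_eq]

theorem bar_X (g : Sp6 F) : ev g (bar g X) = mat g⁻¹ := by rw [ev_bar, aeval_X]

theorem bar_add (g : Sp6 F) (P Q : F[X]) : bar g (P + Q) = bar g P + bar g Q := add_comp
theorem bar_sub (g : Sp6 F) (P Q : F[X]) : bar g (P - Q) = bar g P - bar g Q := sub_comp
theorem bar_mul (g : Sp6 F) (P Q : F[X]) : bar g (P * Q) = bar g P * bar g Q := mul_comp _ _ _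
theorem bar_C (g : Sp6 F) (c : F) : bar g (Polynomial.C c) = Polynomial.C c := C_comp
theorem bar_one (g : Sp6 F) : bar g 1 = 1 := one_comp

theorem ev_X_mul_bar (g : Sp6 F) : ev g (X * bar g X) = 1 := by
  rw [map_mul, ev_X, bar_X, mat_mul_inv]

/-- Adjointness. -/
theorem adj (g : Sp6 F) (P : F[X]) (x y : I6 → F) : ω (ev g P *ᵥ x) y = ω x (ev g (bar g P) *ᵥ y) := by
  rw [ev_bar, ev]
  induction P using Polynomial.induction_on generalizing x y with
  | C a =>
    rw [aeval_C, aeval_C, Algebra.algebraMap_eq_smul_one, smul_mulVec, one_mulVec, smul_mulVec, one_mulVec]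
    exact (sympForm_smul_left a x y).trans (sympForm_smul_right a x y).symm
  | add P Q hP hQ =>
    rw [map_add, map_add, add_mulVec, add_mulVec]
    exact (sympForm_add_left _ _ _).trans (by rw [ω, sympForm_add_right]; exact congrArg₂ (· + ·) (hP x y) (hQ x y))
  | monomial k a ih =>
    have ek : Polynomial.C a * X ^ (k + 1) = X * (Polynomial.C a * X ^ k) := by ring
    have key : ω (mat g *ᵥ (aeval (mat g) (Polynomial.C a * X ^ k) *ᵥ x)) y =
        ω (aeval (mat g) (Polynomial.C a * X ^ k) *ᵥ x) (mat g⁻¹ *ᵥ y) := by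
      have h := sympForm_map g⁻¹ (mat g *ᵥ (aeval (mat g) (Polynomial.C a * X ^ k) *ᵥ x)) y
      rw [show (g⁻¹ : Sp6 F).1 *ᵥ (mat g *ᵥ (aeval (mat g) (Polynomial.C a * X ^ k) *ᵥ x)) = _ from inv_apply g _] at h
      exact h.symm
    rw [ek, map_mul (aeval (mat g)), aeval_X, ← mulVec_mulVec, key, ih, mulVec_mulVec]
    congr 2
    rw [mul_comm X (Polynomial.C a * X ^ k), map_mul (aeval (mat g⁻¹)) (Polynomial.C a * X ^ k) X, aeval_X]

theorem adj' (g : Sp6 F) (P : F[X]) (x y : I6 → F) : ω x (ev g P *ᵥ y) = ω (ev g (bar g P) *ᵥ x) y := by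
  rw [ω, sympForm_swap]
  show -ω (ev g P *ᵥ y) x = _
  rw [adj, ω, ω, sympForm_swap y, neg_neg]

theorem bar_bar (g : Sp6 F) (P : F[X]) : ev g (bar g (bar g P)) = ev g P := by
  refine Matrix.ext_iff_mulVec.2 fun x => sub_eq_zero.1 (eq_zero_of_sympForm_eq_zero fun y => ?_)
  show ω _ y = 0
  rw [ω_sub_left, adj g P, adj' g (bar g P), sub_self]

theorem ev_bar_congr (g : Sp6 F) {P Q : F[X]} (h : ev g P = ev g Q) : ev g (bar g P) = ev g (bar g Q) := by
  refine Matrix.ext_iff_mulVec.2 fun y => sub_eq_zero.1 (eq_zero_of_ω fun x => ?_)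
  rw [ω, sympForm_sub_right]
  show ω x _ - ω x _ = 0
  rw [← adj, ← adj, h, sub_self]

/-- A vector representing a functional. -/
theorem exists_vec (μ : (I6 → F) →ₗ[F] F) : ∃ z : I6 → F, ∀ x, ω z x = μ x := by
  classical
  refine ⟨Sum.elim (fun i => -μ (Pi.single (Sum.inr i) 1)) (fun i => μ (Pi.single (Sum.inl i) 1)), fun x => ?_⟩
  conv_rhs => rw [pi_eq_sum_univ' x]
  rw [ω, sympForm_eq_sum, Fintype.sum_sum_type, map_add, map_sum, map_sum, ← Finset.sum_add_distrib]
  refine Finset.sum_congr rfl fun i _ => ?_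
  simp only [Sum.elim_inl, Sum.elim_inr, map_smul, smul_eq_mul]
  ring

/-- The orthogonal of a kernel is the image of the adjoint. -/
theorem perp_ker (g : Sp6 F) (P : F[X]) {u : I6 → F} (h : ∀ x, ev g P *ᵥ x = 0 → ω u x = 0) :
    ∃ z, ev g (bar g P) *ᵥ z = u := by
  obtain ⟨μ, hμ⟩ := exists_functional (Matrix.toLin' (ev g P)) (sympB 3 F u)
    (fun x hx => by rw [Matrix.toLin'_apply] at hx; rw [sympB_apply]; exact h x hx)
  obtain ⟨z, hz⟩ := exists_vec μ
  refine ⟨z, sub_eq_zero.1 (eq_zero_of_sympForm_eq_zero fun x => ?_)⟩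
  show ω _ x = 0
  have e := hμ x
  rw [Matrix.toLin'_apply, sympB_apply, ← hz, adj'] at e
  rw [ω_sub_left, e, sub_self]

/-! ### Parity -/

/-- An alternating form is degenerate on a space of odd dimension (odd characteristic). -/
theorem even_finrank (h2 : (2 : F) ≠ 0) (B : LinearMap.BilinForm F (I6 → F)) (halt : ∀ x y, B x y = -B y x)
    (U : Submodule F (I6 → F)) (hnd : ∀ u ∈ U, (∀ v ∈ U, B u v = 0) → u = 0) : Even (finrank F U) := by
  classical
  by_contra hodd
  rw [Nat.not_even_iff_odd] at hodd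
  set b := Module.finBasis F U
  set A : Matrix (Fin (finrank F U)) (Fin (finrank F U)) F := Matrix.of fun i j => B (b i) (b j) with hA
  have hT : Aᵀ = -A := by ext i j; simp only [hA, Matrix.transpose_apply, Matrix.neg_apply, Matrix.of_apply]; exact halt _ _
  have hd : A.det = 0 := by
    have e := congrArg Matrix.det hT
    rw [Matrix.det_transpose, Matrix.det_neg, Fintype.card_fin, hodd.neg_one_pow] at e
    have : (2 : F) * A.det = 0 := by linear_combination e
    exact (mul_eq_zero.1 this).resolve_left h2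
  obtain ⟨c, hc0, hc⟩ := Matrix.exists_vecMul_eq_zero_iff.2 hd
  set u : U := ∑ i, c i • b i with hu
  have hz : ∀ j, B (u : I6 → F) (b j) = 0 := fun j => by
    have e := congrFun hc j
    simp only [Matrix.vecMul, dotProduct, hA, Matrix.of_apply, Pi.zero_apply] at e
    rw [← e, hu]
    simp only [Submodule.coe_sum, Submodule.coe_smul, map_sum, LinearMap.sum_apply, map_smul,
      LinearMap.smul_apply, smul_eq_mul]
  have hu0 : (u : I6 → F) = 0 := hnd _ u.2 fun v hv => by
    have : (B (u : I6 → F)).comp U.subtype = 0 := b.ext fun j => by simpa using hz j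
    exact LinearMap.congr_fun this ⟨v, hv⟩
  refine hc0 (funext fun i => ?_)
  have hu1 : u = 0 := Subtype.ext hu0
  rw [hu] at hu1
  exact Fintype.linearIndependent_iff.1 b.linearIndependent c hu1 i

/-! ### Planes -/

/-- An invariant hyperbolic plane. -/
def HasPlane (g : Sp6 F) : Prop :=
  ∃ u v : I6 → F, ω u v ≠ 0 ∧ mat g *ᵥ u ∈ Submodule.span F {u, v} ∧ mat g *ᵥ v ∈ Submodule.span F {u, v}

theorem plane_of_two (g : Sp6 F) {U : Submodule F (I6 → F)} (hU : finrank F U = 2)
    (hnd : ∀ u ∈ U, (∀ v ∈ U, ω u v = 0) → u = 0) (hinv : ∀ u ∈ U, mat g *ᵥ u ∈ U) : HasPlane g := by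
  obtain ⟨u, hu, hu0⟩ := (Submodule.ne_bot_iff U).1 (fun h => by rw [h, finrank_bot] at hU; omega)
  obtain ⟨v, hv, huv⟩ : ∃ v ∈ U, ω u v ≠ 0 := by
    by_contra h
    push Not at h
    exact hu0 (hnd u hu h)
  have hind : LinearIndependent F ![u, v] := by
    rw [LinearIndependent.pair_iff]
    intro a b hab
    have e1 := congrArg (fun z => ω u z) hab
    simp only [ω, sympForm_add_right, sympForm_smul_right, sympForm_self, mul_zero, zero_add, sympForm_zero_right] at e1
    have hb : b = 0 := (mul_eq_zero.1 e1).resolve_right huv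
    subst hb
    rw [zero_smul, add_zero, smul_eq_zero] at hab
    exact ⟨hab.resolve_right hu0, rfl⟩
  have heq : Submodule.span F {u, v} = U := by
    refine Submodule.eq_of_le_of_finrank_eq (Submodule.span_le.2 (by rintro _ (rfl | rfl); exacts [hu, hv])) ?_
    have h := (finrank_span_eq_card hind).trans (Fintype.card_fin _)
    rw [Matrix.range_cons_cons_empty] at h
    rw [h, hU]
  exact ⟨u, v, huv, heq ▸ hinv u hu, heq ▸ hinv v hv⟩

/-! ### Duality of characteristic polynomials -/

theorem aeval_reflect (g : Sp6 F) (d : ℕ) (P : F[X]) (hP : P.natDegree ≤ d) :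
    ev g (P.reflect d) = ev g (X ^ d * bar g P) := by
  refine Polynomial.induction_with_natDegree_le
    (motive := fun P => ev g (P.reflect d) = ev g (X ^ d * bar g P)) d ?_ ?_ ?_ P hP
  · simp [bar]
  · intro k r _ hk
    rw [Polynomial.reflect_C_mul_X_pow, Polynomial.revAt_le hk, bar, mul_comp, C_comp, X_pow_comp]
    have h1 : ev g ((X * X ^ invExp g) ^ k) = 1 := by
      rw [map_pow, show ev g (X * X ^ invExp g) = 1 by
        rw [map_mul, map_pow, ev_X, ← mat_inv_eq, mat_mul_inv], one_pow]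
    obtain ⟨e, rfl⟩ : ∃ e, d = k + e := ⟨d - k, by omega⟩
    rw [Nat.add_sub_cancel_left,
      show (X : F[X]) ^ (k + e) * (Polynomial.C r * (X ^ invExp g) ^ k) =
        (Polynomial.C r * X ^ e) * (X * X ^ invExp g) ^ k by ring,
      map_mul _ (Polynomial.C r * X ^ e) ((X * X ^ invExp g) ^ k), h1, mul_one]
  · intro f g₁ _ _ hf hg
    rw [Polynomial.reflect_add, bar_add, mul_add, map_add, map_add, hf, hg]

theorem ev_cdual (g : Sp6 F) (P : F[X]) :
    ev g (cdual (RingHom.id F) P) = ev g (Polynomial.C (P.coeff 0)⁻¹ * (X ^ P.natDegree * bar g P)) := by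
  rw [cdual, Polynomial.map_id, RingHom.id_apply, map_mul, map_mul _ (Polynomial.C (P.coeff 0)⁻¹),
    Polynomial.reverse, aeval_reflect g _ _ le_rfl]

theorem cdual_charpoly (g : Sp6 F) : cdual (RingHom.id F) (mat g).charpoly = (mat g).charpoly := by
  have hu : IsUnit (mat g) := isUnit_iff_exists.2 ⟨mat g⁻¹, mat_mul_inv g, mat_inv_mul g⟩
  set Jm : Matrix I6 I6 F := Matrix.J (Fin 3) F with hJ
  obtain ⟨Ju, hJu⟩ : IsUnit Jm := (Matrix.isUnit_iff_isUnit_det _).2 (Matrix.isUnit_det_J _ _)
  have hsim : (mat g)⁻¹ = ((Ju⁻¹ : (Matrix I6 I6 F)ˣ) : Matrix I6 I6 F) * (mat g)ᵀ * (Ju : Matrix I6 I6 F) := by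
    refine Matrix.inv_eq_left_inv ?_
    have h : (mat g)ᵀ * Jm * mat g = Jm := SymplecticGroup.mem_iff'.1 g.2
    rw [mul_assoc, mul_assoc, ← mul_assoc (mat g)ᵀ, hJu, h, ← hJu, Units.inv_mul]
  have hch : ((mat g)⁻¹).charpoly = (mat g).charpoly := by
    rw [hsim, Matrix.coe_units_inv, Matrix.charpoly_units_conj', Matrix.charpoly_transpose]
  conv_rhs => rw [← hch, Matrix.charpoly_inv _ hu, ← Matrix.reverse_charpoly]
  rw [cdual, Polynomial.map_id, RingHom.id_apply, Matrix.det_eq_sign_charpoly_coeff, Ring.inverse_eq_inv']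
  have h6 : (-1 : F) ^ Fintype.card I6 = 1 := by simp [Even.neg_one_pow (show Even 6 by decide)]
  have h6' : (-1 : F[X]) ^ Fintype.card I6 = 1 := by simp [Even.neg_one_pow (show Even 6 by decide)]
  rw [h6, h6', one_mul, one_mul]

theorem dvd_of_killed (g : Sp6 F) {f : F[X]} (hf : Irreducible f) {v : I6 → F} (hv : v ≠ 0)
    (h : ev g f *ᵥ v = 0) : f ∣ (mat g).charpoly := by
  by_contra hn
  obtain ⟨a, b, hab⟩ := hf.coprime_iff_not_dvd.2 hn
  refine hv ?_
  rw [← one_mulVec v, ← ev_one g, ← hab, map_add, map_mul, map_mul, add_mulVec, ← mulVec_mulVec, h,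
    mulVec_zero, zero_add, show ev g (mat g).charpoly = 0 from Matrix.aeval_self_charpoly _, mul_zero, zero_mulVec]

theorem killed_of_dvd (g : Sp6 F) {f : F[X]} (hm : f.Monic) (hf : Irreducible f) (h : f ∣ (mat g).charpoly) :
    ∃ v, v ≠ 0 ∧ ev g f *ᵥ v = 0 := by
  let e : I6 ≃ Fin 6 := finSumFinEquiv
  have hch : (Matrix.toLin' (Matrix.reindex e e (mat g))).charpoly = (mat g).charpoly := by
    rw [Matrix.charpoly_toLin', Matrix.charpoly_reindex]
  obtain ⟨w, hw0, hw⟩ := Cfsg.Agent.Lie.Semisimple.exists_killed (Matrix.toLin' (Matrix.reindex e e (mat g))) hm hf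
    (by rw [hch]; exact h)
  refine ⟨w ∘ e, fun h0 => hw0 ?_, ?_⟩
  · funext i; simpa using congrFun h0 (e.symm i)
  · have h1 := LinearMap.congr_fun (Polynomial.aeval_algHom_apply
      (Matrix.toLinAlgEquiv' : Matrix (Fin 6) (Fin 6) F ≃ₐ[F] _).toAlgHom (Matrix.reindex e e (mat g)) f) w
    have h2 : aeval (Matrix.reindex e e (mat g)) f *ᵥ w = 0 := h1.symm.trans hw
    have h3 : aeval (Matrix.reindex e e (mat g)) f = Matrix.reindex e e (ev g f) :=
      Polynomial.aeval_algHom_apply (Matrix.reindexAlgEquiv F F e).toAlgHom (mat g) f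
    rw [h3, Matrix.reindex_apply, Matrix.submatrix_mulVec_equiv, Equiv.symm_symm] at h2
    funext i
    simpa using congrFun h2 (e i)

/-! ### The self-adjoint pencil -/

/-- `g + g⁻¹ - t`, a self-adjoint element. -/
noncomputable def pen (g : Sp6 F) (t : F) : F[X] := X + bar g X - Polynomial.C t

theorem pen_adj (g : Sp6 F) (t : F) : ev g (bar g (pen g t)) = ev g (pen g t) := by
  rw [pen, bar_sub, bar_add, bar_C, map_sub, map_add, bar_bar, ← map_add, add_comm, map_add, ← map_add, ← map_sub]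

theorem pen_pow_adj (g : Sp6 F) (t : F) (k : ℕ) : ev g (bar g (pen g t ^ k)) = ev g (pen g t ^ k) := by
  rw [show bar g (pen g t ^ k) = bar g (pen g t) ^ k from pow_comp _ _ _, map_pow, pen_adj, ← map_pow]

theorem ev_quad (g : Sp6 F) (t : F) :
    ev g (X ^ 2 - Polynomial.C t * X + 1) = ev g (X * pen g t) := by
  rw [show (X : F[X]) * pen g t = X * X - Polynomial.C t * X + X * bar g X by rw [pen]; ring]
  simp only [map_add, map_sub, map_one, ev_X_mul_bar]
  rw [sq]

/-- The rank of a power of a self-adjoint element is even. -/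
theorem even_rank (g : Sp6 F) (h2 : (2 : F) ≠ 0) {P : F[X]} (hP : ev g (bar g P) = ev g P) :
    Even (finrank F (LinearMap.range (Matrix.toLin' (ev g P)))) := by
  set T := Matrix.toLin' (ev g P)
  obtain ⟨U, hU⟩ := Submodule.exists_isCompl (LinearMap.ker T)
  have hdim : finrank F U = finrank F (LinearMap.range T) := by
    have h1 := Submodule.finrank_add_eq_of_isCompl hU
    have h3 := T.finrank_range_add_finrank_ker
    omega
  rw [← hdim]
  let B : LinearMap.BilinForm F (I6 → F) := (sympB 3 F).comp T LinearMap.id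
  have hB : ∀ x y, B x y = ω (ev g P *ᵥ x) y := fun x y => by
    simp [B, T, sympB_apply, LinearMap.BilinForm.comp_apply]
  refine even_finrank h2 B (fun x y => ?_) U fun u hu huv => ?_
  · rw [hB, hB, adj g P x y, hP]
    exact sympForm_swap _ _
  · have hall : ev g P *ᵥ u = 0 := eq_zero_of_sympForm_eq_zero fun y => by
      show ω _ y = 0
      have hy : y ∈ LinearMap.ker T ⊔ U := by rw [hU.sup_eq_top]; trivial
      obtain ⟨k, hk, w, hw, rfl⟩ := Submodule.mem_sup.1 hy
      rw [LinearMap.mem_ker, Matrix.toLin'_apply] at hk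
      rw [ω, sympForm_add_right]
      show ω _ k + ω _ w = 0
      rw [← hB u w, huv w hw, add_zero, adj g P u k, hP, hk]
      exact sympForm_zero_right _
    exact Submodule.disjoint_def.1 hU.disjoint u (LinearMap.mem_ker.2 (by rw [Matrix.toLin'_apply]; exact hall)) hu

theorem nilpotent_six {A : Matrix I6 I6 F} {k : ℕ} (h : A ^ k = 0) : A ^ 6 = 0 := by
  have e : A.charpoly = X ^ 6 := by
    have h1 := (Matrix.isNilpotent_charpoly_sub_pow_of_isNilpotent (M := A) ⟨k, h⟩).eq_zero
    rw [Fintype.card_sum, Fintype.card_fin] at h1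
    exact sub_eq_zero.1 h1
  have := Matrix.aeval_self_charpoly A
  rwa [e, map_pow, aeval_X] at this

/-- Fitting: a singular self-adjoint element is nilpotent, or there is a plane. -/
theorem plane_or_nilpotent (g : Sp6 F) (h2 : (2 : F) ≠ 0) (t : F) (hsing : ∃ v, v ≠ 0 ∧ ev g (pen g t) *ᵥ v = 0) :
    HasPlane g ∨ ev g (pen g t ^ 6) = 0 := by
  set S := Matrix.toLin' (ev g (pen g t)) with hS
  set U := LinearMap.ker (S ^ 6) with hUdef
  set W := LinearMap.range (S ^ 6) with hWdef
  have hpow : ∀ x, (S ^ 6) x = ev g (pen g t ^ 6) *ᵥ x := fun x => by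
    rw [hS, ← Matrix.toLin'_pow, Matrix.toLin'_apply, map_pow]
  by_cases hW0 : W = ⊥
  · refine Or.inr (Matrix.ext_iff_mulVec.2 fun x => ?_)
    rw [zero_mulVec, ← hpow, ← Submodule.mem_bot F, ← hW0]
    exact LinearMap.mem_range_self _ x
  left
  have horth : ∀ u ∈ U, ∀ w ∈ W, ω u w = 0 := by
    rintro u hu _ ⟨x, rfl⟩
    rw [LinearMap.mem_ker, hpow] at hu
    rw [hpow, adj', pen_pow_adj, hu]
    exact sympForm_zero_left _
  have hdisj : Disjoint U W := by
    rw [Submodule.disjoint_def]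
    rintro _ hu ⟨x, rfl⟩
    rw [LinearMap.mem_ker] at hu
    have h12 : x ∈ LinearMap.ker (S ^ 12) := by
      rw [LinearMap.mem_ker, show (12 : ℕ) = 6 + 6 from rfl, pow_add, Module.End.mul_apply]; exact hu
    have hfr : finrank F (I6 → F) = 6 := by simp
    have e := Module.End.ker_pow_eq_ker_pow_finrank_of_le (f := S) (m := 12) (by omega)
    rw [hfr] at e
    rw [e, LinearMap.mem_ker] at h12
    exact h12
  have hsum : finrank F U + finrank F W = 6 := by
    have h := (S ^ 6).finrank_range_add_finrank_ker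
    rw [show finrank F (I6 → F) = 6 by simp] at h
    rw [hUdef, hWdef]; omega
  have htop : U ⊔ W = ⊤ := by
    refine Submodule.eq_top_of_finrank_eq ?_
    have h := Submodule.finrank_sup_add_finrank_inf_eq U W
    rw [hdisj.eq_bot, finrank_bot, add_zero, hsum] at h
    rw [h]; simp
  have ndU : ∀ u ∈ U, (∀ v ∈ U, ω u v = 0) → u = 0 := fun u hu h => eq_zero_of_sympForm_eq_zero fun y => by
    obtain ⟨a, ha, b, hb, rfl⟩ := Submodule.mem_sup.1 (htop ▸ Submodule.mem_top : y ∈ U ⊔ W)
    rw [sympForm_add_right]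
    show ω u a + ω u b = 0
    rw [h a ha, horth u hu b hb, add_zero]
  have ndW : ∀ u ∈ W, (∀ v ∈ W, ω u v = 0) → u = 0 := fun u hu h => eq_zero_of_sympForm_eq_zero fun y => by
    obtain ⟨a, ha, b, hb, rfl⟩ := Submodule.mem_sup.1 (htop ▸ Submodule.mem_top : y ∈ U ⊔ W)
    rw [sympForm_add_right]
    show ω u a + ω u b = 0
    rw [h b hb, show ω u a = -ω a u from sympForm_swap _ _, horth a ha u hu, neg_zero, add_zero]
  have eU := even_finrank h2 (sympB 3 F) (fun x y => by rw [sympB_apply, sympB_apply]; exact sympForm_swap _ _) U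
    fun u hu h => ndU u hu fun v hv => by rw [ω, ← sympB_apply]; exact h v hv
  have hU0 : U ≠ ⊥ := by
    obtain ⟨v, hv0, hv⟩ := hsing
    refine (Submodule.ne_bot_iff _).2 ⟨v, ?_, hv0⟩
    rw [LinearMap.mem_ker, hpow, pow_succ, ev_mulVec, hv, mulVec_zero]
  have hUpos : 1 ≤ finrank F U := by
    rw [Nat.one_le_iff_ne_zero]; exact fun h => hU0 (Submodule.finrank_eq_zero.1 h)
  have hWpos : 1 ≤ finrank F W := by
    rw [Nat.one_le_iff_ne_zero]; exact fun h => hW0 (Submodule.finrank_eq_zero.1 h)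
  have hcomm : ev g (pen g t ^ 6) * mat g = mat g * ev g (pen g t ^ 6) := by
    rw [← ev_X g, ← map_mul, ← map_mul, mul_comm]
  obtain ⟨k, hk⟩ := eU
  have hcases : finrank F U = 2 ∨ finrank F W = 2 := by omega
  rcases hcases with h | h
  · refine plane_of_two g h ndU fun u hu => ?_
    rw [LinearMap.mem_ker, hpow] at hu ⊢
    rw [mulVec_mulVec, hcomm, ← mulVec_mulVec, hu, mulVec_zero]
  · refine plane_of_two g h ndW ?_
    rintro _ ⟨x, rfl⟩
    exact ⟨mat g *ᵥ x, by rw [hpow, hpow, mulVec_mulVec, mulVec_mulVec, hcomm]⟩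

/-- A cyclic vector for `χ`. -/
def IsCyc (g : Sp6 F) (χ : F[X]) (v : I6 → F) : Prop :=
  ev g χ = 0 ∧ ∀ P, ev g P *ᵥ v = 0 → χ ∣ P

/-- The nilpotent case away from `t = ±2`. -/
theorem cyclic_of_sq (g : Sp6 F) (h2 : (2 : F) ≠ 0) (t : F) (ht : t ^ 2 ≠ 4) (hnil : ev g (pen g t ^ 6) = 0)
    (hne : ev g (pen g t ^ 2) ≠ 0) : ∃ v, IsCyc g ((X ^ 2 - Polynomial.C t * X + 1) ^ 3) v := by
  set S := ev g (pen g t) with hS
  have hS6 : S ^ 6 = 0 := by rw [hS, ← map_pow]; exact hnil
  have hk : ∀ k, ev g (pen g t ^ k) = S ^ k := fun k => map_pow _ _ _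
  -- the ranks are even and decrease
  set r : ℕ → ℕ := fun k => finrank F (LinearMap.range (Matrix.toLin' (S ^ k))) with hr
  have hev : ∀ k, Even (r k) := fun k => by
    have := even_rank g h2 (P := pen g t ^ k) (pen_pow_adj g t k)
    rwa [hk] at this
  have hdec : ∀ k, r (k + 1) < r k ∨ S ^ k = 0 := by
    intro k
    have hle : LinearMap.range (Matrix.toLin' (S ^ (k + 1))) ≤ LinearMap.range (Matrix.toLin' (S ^ k)) := by
      rintro _ ⟨x, rfl⟩
      exact ⟨S *ᵥ x, by simp [pow_succ, mulVec_mulVec]⟩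
    rcases lt_or_eq_of_le (Submodule.finrank_mono hle) with h | h
    · exact Or.inl h
    · right
      have he := Submodule.eq_of_le_of_finrank_eq hle h
      have hstep : ∀ j, LinearMap.range (Matrix.toLin' (S ^ (k + j))) = LinearMap.range (Matrix.toLin' (S ^ k)) := by
        intro j
        induction j with
        | zero => rfl
        | succ j ih =>
          rw [← add_assoc, pow_succ', Matrix.toLin'_mul, LinearMap.range_comp, ih, ← LinearMap.range_comp,
            ← Matrix.toLin'_mul, ← pow_succ', he]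
      have h6 := hstep 6
      rw [pow_add, hS6, mul_zero, map_zero, LinearMap.range_zero] at h6
      exact Matrix.toLin'.injective (by rw [map_zero]; exact LinearMap.range_eq_bot.1 h6.symm)
  have h0 : r 0 = 6 := by
    show finrank F (LinearMap.range (Matrix.toLin' (S ^ 0))) = 6
    rw [pow_zero, Matrix.toLin'_one, LinearMap.range_id, finrank_top]
    simp
  have hS3 : S ^ 3 = 0 := by
    by_contra hne
    have e1 := hdec 0
    have e2 := hdec 1
    have e3 := hdec 2
    have n0 : S ^ 0 ≠ 0 := by simp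
    have n1 : S ^ 1 ≠ 0 := fun h => hne (by rw [show S ^ 3 = S ^ 1 * S ^ 2 from pow_add S 1 2, h, zero_mul])
    have n2 : S ^ 2 ≠ 0 := fun h => hne (by rw [show S ^ 3 = S ^ 2 * S ^ 1 from pow_add S 2 1, h, zero_mul])
    have r3 : r 3 = 0 := by
      have a1 := e1.resolve_right n0
      have a2 := e2.resolve_right n1
      have a3 := e3.resolve_right n2
      obtain ⟨c1, hc1⟩ := hev 1
      obtain ⟨c2, hc2⟩ := hev 2
      obtain ⟨c3, hc3⟩ := hev 3
      simp only [zero_add, Nat.reduceAdd] at a1 a2 a3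
      omega
    refine hne (Matrix.toLin'.injective ?_)
    rw [map_zero]
    exact LinearMap.range_eq_bot.1 (Submodule.finrank_eq_zero.1 r3)
  set f : F[X] := X ^ 2 - Polynomial.C t * X + 1 with hf
  have hevf : ev g f = mat g * S := by rw [hf, ev_quad, map_mul, ev_X]
  have hcomm : mat g * S = S * mat g := by
    rw [hS, ← ev_X g, ← map_mul, ← map_mul, mul_comm]
  have hd : ev g (X ^ 2 - 1 : F[X]) = mat g * mat g - 1 := by
    rw [sq, map_sub, map_mul, map_one, ev_X]
  have hinj : ∀ y, mat g *ᵥ y = mat g⁻¹ *ᵥ y → y = 0 := by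
    intro y hy
    have h1 : ev g (X ^ 2 - 1 : F[X]) *ᵥ y = 0 := by
      rw [hd, sub_mulVec, one_mulVec, ← mulVec_mulVec, hy, mulVec_mulVec, mat_mul_inv, one_mulVec, sub_self]
    -- `X² - 1` is prime to `f`
    have hid : (Polynomial.C (t ^ 2 - 4) : F[X]) =
        (Polynomial.C (-2) * f - Polynomial.C (-2) * (X ^ 2 - 1)) * (Polynomial.C t * X + 2) * Polynomial.C (2⁻¹) +
          Polynomial.C (t ^ 2) * (-(X ^ 2 - 1)) := by
      rw [hf, map_sub, show Polynomial.C (-2 : F) = -2 by rw [map_neg]; rfl,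
        show Polynomial.C (4 : F) = 4 from rfl, map_pow]
      have hh : (2 : F[X]) * Polynomial.C (2⁻¹) = 1 := by
        rw [show (2 : F[X]) = Polynomial.C 2 from rfl, ← map_mul, mul_inv_cancel₀ h2, map_one]
      linear_combination (-(Polynomial.C t * X - 2) * (Polynomial.C t * X + 2)) * hh
    set a : F[X] := Polynomial.C (-2) * (Polynomial.C t * X + 2) * Polynomial.C (2⁻¹)
    have hkey : (t ^ 2 - 4) • y = ev g (f * a) *ᵥ y := by
      have e := congrArg (fun P => ev g P *ᵥ y) (hid.trans (show _ = f * a +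
        (-(Polynomial.C (-2) * (Polynomial.C t * X + 2) * Polynomial.C (2⁻¹)) - Polynomial.C (t ^ 2)) * (X ^ 2 - 1)
        by ring))
      simp only [ev_C, smul_mulVec, one_mulVec, map_add, add_mulVec] at e
      rw [e, ev_mulVec g _ (X ^ 2 - 1), h1, mulVec_zero, add_zero]
    have h3 : ∀ k, (t ^ 2 - 4) ^ k • y = ev g ((f * a) ^ k) *ᵥ y := by
      intro k
      induction k with
      | zero => simp
      | succ k ih => rw [pow_succ (f * a), ev_mulVec, ← hkey, mulVec_smul, ← ih, smul_smul, pow_succ']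
    have h4 := h3 3
    rw [mul_pow, map_mul, map_pow, hevf, (show Commute (mat g) S from hcomm).mul_pow, hS3, mul_zero,
      zero_mul, zero_mulVec, smul_eq_zero] at h4
    exact h4.resolve_left (pow_ne_zero 3 (sub_ne_zero.2 ht))
  have hpolar : ∀ (Q : F[X]), ev g (bar g Q) = ev g Q → ∀ x y,
      ω x (mat g *ᵥ (ev g Q *ᵥ y)) + ω y (mat g *ᵥ (ev g Q *ᵥ x)) =
        ω x (mat g *ᵥ (ev g Q *ᵥ y) - mat g⁻¹ *ᵥ (ev g Q *ᵥ y)) := by
    intro Q hQ x y
    have e : ω y (mat g *ᵥ (ev g Q *ᵥ x)) = -ω x (mat g⁻¹ *ᵥ (ev g Q *ᵥ y)) := by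
      have e1 : mat g *ᵥ (ev g Q *ᵥ x) = ev g (X * Q) *ᵥ x := by rw [ev_mulVec, ev_X]
      rw [e1, adj', bar_mul, mul_comm (bar g X), ev_mulVec, bar_X, hQ, mulVec_mulVec, ← bar_X g, ← map_mul,
        mul_comm Q, map_mul, bar_X, ← mulVec_mulVec]
      exact sympForm_swap _ _
    rw [e, ω, ω, ω, sympForm_sub_right, sub_eq_add_neg]
  have hS2 : S ^ 2 ≠ 0 := fun h => hne (by rw [hk, h])
  set Q : F[X] := pen g t ^ 2 with hQ
  have hQS : ev g Q = S ^ 2 := map_pow _ _ _
  obtain ⟨v, hv⟩ : ∃ v, ω v (mat g *ᵥ (ev g Q *ᵥ v)) ≠ 0 := by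
    by_contra h
    push Not at h
    refine hS2 (Matrix.ext_iff_mulVec.2 fun y => ?_)
    rw [zero_mulVec, ← hQS]
    refine hinj _ (sub_eq_zero.1 (eq_zero_of_ω fun x => ?_))
    rw [← hpolar Q (pen_pow_adj g t 2) x y]
    have h5 := h (x + y)
    rw [mulVec_add, mulVec_add, ω, sympForm_add_left, sympForm_add_right, sympForm_add_right] at h5
    have a1 := h x
    have a2 := h y
    simp only [ω] at a1 a2 ⊢
    linear_combination h5 - a1 - a2
  set w := ev g Q *ᵥ v with hw
  have hvw : ω v w = 0 := by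
    have e : ω v w = -ω v w := by
      rw [hw]
      nth_rw 1 [adj', pen_pow_adj g t 2]
      exact sympForm_swap _ _
    have : (2 : F) * ω v w = 0 := by linear_combination e
    exact (mul_eq_zero.1 this).resolve_left h2
  have hfm : f.Monic := by rw [hf]; monicity!
  have hfd : f.natDegree = 2 := by rw [hf]; compute_degree!
  have kill : ∀ a : F[X], ev g a *ᵥ w = 0 → a %ₘ f = 0 := by
    intro a ha
    have hfw : ev g f *ᵥ w = 0 := by
      rw [hevf, hw, hQS, mulVec_mulVec, mul_assoc, ← pow_succ', hS3, mul_zero, zero_mulVec]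
    rw [← Polynomial.modByMonic_add_div a f, map_add, mul_comm f, add_mulVec, ev_mulVec, hfw, mulVec_zero,
      add_zero] at ha
    set b := a %ₘ f with hb
    have hbd : b.natDegree ≤ 1 := by
      have := Polynomial.natDegree_modByMonic_lt a hfm (by intro h1; rw [h1, natDegree_one] at hfd; omega)
      rw [hfd, ← hb] at this
      omega
    rw [Polynomial.eq_X_add_C_of_natDegree_le_one hbd] at ha ⊢
    generalize b.coeff 1 = b1, b.coeff 0 = b0 at ha ⊢
    rw [map_add, map_mul, ev_C, ev_C, ev_X, smul_mul_assoc, one_mul, add_mulVec, smul_mulVec, smul_mulVec,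
      one_mulVec] at ha
    have e := congrArg (fun z => ω v z) ha
    simp only [ω, sympForm_add_right, sympForm_smul_right, sympForm_zero_right] at e
    rw [show sympForm 3 F v w = 0 from hvw, mul_zero, add_zero, mul_eq_zero] at e
    have hb1 := e.resolve_right hv
    subst hb1
    rw [zero_smul, zero_add, smul_eq_zero] at ha
    have hb0 := ha.resolve_right fun h0 => hv (by rw [h0, mulVec_zero]; exact sympForm_zero_right _)
    subst hb0
    simp
  refine ⟨v, ⟨?_, fun P hP => ?_⟩⟩
  · rw [map_pow, hevf, (show Commute (mat g) S from hcomm).mul_pow, hS3, mul_zero]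
  have hw2 : ev g f *ᵥ (ev g f *ᵥ v) = ev g (X ^ 2) *ᵥ w := by
    rw [hevf, hw, hQS, map_pow, ev_X, mulVec_mulVec, mulVec_mulVec, ← sq,
      (show Commute (mat g) S from hcomm).mul_pow]
  have hXinj : ∀ z, ev g (X ^ 2) *ᵥ z = 0 → z = 0 := fun z hz => by
    rw [map_pow, ev_X, sq, ← mulVec_mulVec] at hz
    have := congrArg (fun y => mat g⁻¹ *ᵥ (mat g⁻¹ *ᵥ y)) hz
    simp only [inv_apply, mulVec_zero] at this
    exact this
  have hf3 : ∀ A : F[X], ev g (f ^ 3 * A) = 0 := fun A => by
    rw [map_mul, map_pow, hevf, (show Commute (mat g) S from hcomm).mul_pow, hS3, mul_zero, zero_mul]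
  -- peel off the three layers
  have layer : ∀ a : F[X], ev g (f * f * a) *ᵥ v = 0 → f ∣ a := by
    intro a ha
    rw [mul_comm (f * f), ev_mulVec, ev_mulVec, hw2] at ha
    rw [← Polynomial.modByMonic_eq_zero_iff_dvd hfm]
    refine kill a (hXinj _ ?_)
    rw [← ev_mulVec, mul_comm, ev_mulVec]
    exact ha
  obtain ⟨a, rfl⟩ := layer P (by rw [ev_mulVec, hP, mulVec_zero])
  obtain ⟨b, rfl⟩ := layer a (by
    rw [show f * f * a = f * (f * a) by ring, ev_mulVec, hP, mulVec_zero])
  obtain ⟨c, rfl⟩ := layer b (by rwa [show f * f * b = f * (f * b) by ring])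
  exact ⟨c, by ring⟩

/-- A hyperbolic plane, or a cyclic vector. -/
theorem plane_or_cyclic (g : Sp6 F) (h2 : (2 : F) ≠ 0) (t : F) (ht : t ^ 2 ≠ 4) (hnil : ev g (pen g t ^ 6) = 0) :
    HasPlane g ∨ ∃ v, IsCyc g ((X ^ 2 - Polynomial.C t * X + 1) ^ 3) v := by
  set S := ev g (pen g t) with hS
  have hS6 : S ^ 6 = 0 := by rw [hS, ← map_pow]; exact hnil
  have hk : ∀ k, ev g (pen g t ^ k) = S ^ k := fun k => map_pow _ _ _
  -- the ranks are even and decrease
  set r : ℕ → ℕ := fun k => finrank F (LinearMap.range (Matrix.toLin' (S ^ k))) with hr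
  have hev : ∀ k, Even (r k) := fun k => by
    have := even_rank g h2 (P := pen g t ^ k) (pen_pow_adj g t k)
    rwa [hk] at this
  have hdec : ∀ k, r (k + 1) < r k ∨ S ^ k = 0 := by
    intro k
    have hle : LinearMap.range (Matrix.toLin' (S ^ (k + 1))) ≤ LinearMap.range (Matrix.toLin' (S ^ k)) := by
      rintro _ ⟨x, rfl⟩
      exact ⟨S *ᵥ x, by simp [pow_succ, mulVec_mulVec]⟩
    rcases lt_or_eq_of_le (Submodule.finrank_mono hle) with h | h
    · exact Or.inl h
    · right
      have he := Submodule.eq_of_le_of_finrank_eq hle h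
      have hstep : ∀ j, LinearMap.range (Matrix.toLin' (S ^ (k + j))) = LinearMap.range (Matrix.toLin' (S ^ k)) := by
        intro j
        induction j with
        | zero => rfl
        | succ j ih =>
          rw [← add_assoc, pow_succ', Matrix.toLin'_mul, LinearMap.range_comp, ih, ← LinearMap.range_comp,
            ← Matrix.toLin'_mul, ← pow_succ', he]
      have h6 := hstep 6
      rw [pow_add, hS6, mul_zero, map_zero, LinearMap.range_zero] at h6
      exact Matrix.toLin'.injective (by rw [map_zero]; exact LinearMap.range_eq_bot.1 h6.symm)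
  have h0 : r 0 = 6 := by
    show finrank F (LinearMap.range (Matrix.toLin' (S ^ 0))) = 6
    rw [pow_zero, Matrix.toLin'_one, LinearMap.range_id, finrank_top]
    simp
  have hS3 : S ^ 3 = 0 := by
    by_contra hne
    have e1 := hdec 0
    have e2 := hdec 1
    have e3 := hdec 2
    have n0 : S ^ 0 ≠ 0 := by simp
    have n1 : S ^ 1 ≠ 0 := fun h => hne (by rw [show S ^ 3 = S ^ 1 * S ^ 2 from pow_add S 1 2, h, zero_mul])
    have n2 : S ^ 2 ≠ 0 := fun h => hne (by rw [show S ^ 3 = S ^ 2 * S ^ 1 from pow_add S 2 1, h, zero_mul])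
    have r3 : r 3 = 0 := by
      have a1 := e1.resolve_right n0
      have a2 := e2.resolve_right n1
      have a3 := e3.resolve_right n2
      obtain ⟨c1, hc1⟩ := hev 1
      obtain ⟨c2, hc2⟩ := hev 2
      obtain ⟨c3, hc3⟩ := hev 3
      simp only [zero_add, Nat.reduceAdd] at a1 a2 a3
      omega
    refine hne (Matrix.toLin'.injective ?_)
    rw [map_zero]
    exact LinearMap.range_eq_bot.1 (Submodule.finrank_eq_zero.1 r3)
  set f : F[X] := X ^ 2 - Polynomial.C t * X + 1 with hf
  have hevf : ev g f = mat g * S := by rw [hf, ev_quad, map_mul, ev_X]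
  have hcomm : mat g * S = S * mat g := by
    rw [hS, ← ev_X g, ← map_mul, ← map_mul, mul_comm]
  have hd : ev g (X ^ 2 - 1 : F[X]) = mat g * mat g - 1 := by
    rw [sq, map_sub, map_mul, map_one, ev_X]
  have hinj : ∀ y, mat g *ᵥ y = mat g⁻¹ *ᵥ y → y = 0 := by
    intro y hy
    have h1 : ev g (X ^ 2 - 1 : F[X]) *ᵥ y = 0 := by
      rw [hd, sub_mulVec, one_mulVec, ← mulVec_mulVec, hy, mulVec_mulVec, mat_mul_inv, one_mulVec, sub_self]
    -- `X² - 1` is prime to `f`
    have hid : (Polynomial.C (t ^ 2 - 4) : F[X]) =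
        (Polynomial.C (-2) * f - Polynomial.C (-2) * (X ^ 2 - 1)) * (Polynomial.C t * X + 2) * Polynomial.C (2⁻¹) +
          Polynomial.C (t ^ 2) * (-(X ^ 2 - 1)) := by
      rw [hf, map_sub, show Polynomial.C (-2 : F) = -2 by rw [map_neg]; rfl,
        show Polynomial.C (4 : F) = 4 from rfl, map_pow]
      have hh : (2 : F[X]) * Polynomial.C (2⁻¹) = 1 := by
        rw [show (2 : F[X]) = Polynomial.C 2 from rfl, ← map_mul, mul_inv_cancel₀ h2, map_one]
      linear_combination (-(Polynomial.C t * X - 2) * (Polynomial.C t * X + 2)) * hh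
    set a : F[X] := Polynomial.C (-2) * (Polynomial.C t * X + 2) * Polynomial.C (2⁻¹)
    have hkey : (t ^ 2 - 4) • y = ev g (f * a) *ᵥ y := by
      have e := congrArg (fun P => ev g P *ᵥ y) (hid.trans (show _ = f * a +
        (-(Polynomial.C (-2) * (Polynomial.C t * X + 2) * Polynomial.C (2⁻¹)) - Polynomial.C (t ^ 2)) * (X ^ 2 - 1)
        by ring))
      simp only [ev_C, smul_mulVec, one_mulVec, map_add, add_mulVec] at e
      rw [e, ev_mulVec g _ (X ^ 2 - 1), h1, mulVec_zero, add_zero]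
    have h3 : ∀ k, (t ^ 2 - 4) ^ k • y = ev g ((f * a) ^ k) *ᵥ y := by
      intro k
      induction k with
      | zero => simp
      | succ k ih => rw [pow_succ (f * a), ev_mulVec, ← hkey, mulVec_smul, ← ih, smul_smul, pow_succ']
    have h4 := h3 3
    rw [mul_pow, map_mul, map_pow, hevf, (show Commute (mat g) S from hcomm).mul_pow, hS3, mul_zero,
      zero_mul, zero_mulVec, smul_eq_zero] at h4
    exact h4.resolve_left (pow_ne_zero 3 (sub_ne_zero.2 ht))
  have hpolar : ∀ (Q : F[X]), ev g (bar g Q) = ev g Q → ∀ x y,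
      ω x (mat g *ᵥ (ev g Q *ᵥ y)) + ω y (mat g *ᵥ (ev g Q *ᵥ x)) =
        ω x (mat g *ᵥ (ev g Q *ᵥ y) - mat g⁻¹ *ᵥ (ev g Q *ᵥ y)) := by
    intro Q hQ x y
    have e : ω y (mat g *ᵥ (ev g Q *ᵥ x)) = -ω x (mat g⁻¹ *ᵥ (ev g Q *ᵥ y)) := by
      have e1 : mat g *ᵥ (ev g Q *ᵥ x) = ev g (X * Q) *ᵥ x := by rw [ev_mulVec, ev_X]
      rw [e1, adj', bar_mul, mul_comm (bar g X), ev_mulVec, bar_X, hQ, mulVec_mulVec, ← bar_X g, ← map_mul,
        mul_comm Q, map_mul, bar_X, ← mulVec_mulVec]
      exact sympForm_swap _ _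
    rw [e, ω, ω, ω, sympForm_sub_right, sub_eq_add_neg]
  by_cases hS2 : S ^ 2 = 0
  · left
    set U := LinearMap.ker (Matrix.toLin' S) with hU
    have hgU : ∀ u ∈ U, mat g *ᵥ u ∈ U := fun u hu => by
      rw [LinearMap.mem_ker, Matrix.toLin'_apply] at hu ⊢
      rw [mulVec_mulVec, ← hcomm, ← mulVec_mulVec, hu, mulVec_zero]
    by_cases hex : ∃ v ∈ U, ω v (mat g *ᵥ v) ≠ 0
    · obtain ⟨v, hv, hne⟩ := hex
      refine ⟨v, mat g *ᵥ v, hne, Submodule.subset_span (by simp), Submodule.mem_span_pair.2 ⟨-1, t, ?_⟩⟩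
      rw [LinearMap.mem_ker, Matrix.toLin'_apply] at hv
      have e : ev g f *ᵥ v = 0 := by rw [hevf, ← mulVec_mulVec, hv, mulVec_zero]
      rw [hf] at e
      simp only [map_add, map_sub, map_mul, map_pow, ev_X, ev_C, map_one, add_mulVec, sub_mulVec, one_mulVec,
        smul_mul_assoc, one_mul, smul_mulVec, sq, ← mulVec_mulVec] at e
      linear_combination (norm := module) -e
    · push Not at hex
      exfalso
      have hUperp : ∀ x ∈ U, ∀ y ∈ U, ω x (mat g *ᵥ y - mat g⁻¹ *ᵥ y) = 0 := by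
        intro x hx y hy
        have e := hpolar 1 (by rw [bar_one]) x y
        simp only [ev_one, one_mulVec] at e
        have h5 := hex _ (U.add_mem hx hy)
        rw [mulVec_add, ω, sympForm_add_left, sympForm_add_right, sympForm_add_right] at h5
        rw [← e]
        have a1 := hex x hx
        have a2 := hex y hy
        simp only [ω] at a1 a2 ⊢
        linear_combination h5 - a1 - a2
      -- `g - g⁻¹` is bijective on `U`
      let D : U → U := fun u => ⟨mat g *ᵥ u - mat g⁻¹ *ᵥ u, U.sub_mem (hgU u u.2) (by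
        have hu := u.2
        rw [LinearMap.mem_ker, Matrix.toLin'_apply] at hu ⊢
        rw [mulVec_mulVec, ← bar_X g, hS, ← map_mul, mul_comm, map_mul, ← mulVec_mulVec, ← hS, hu, mulVec_zero])⟩
      have hD : Function.Injective D := fun a b h => by
        refine Subtype.ext (sub_eq_zero.1 (hinj _ ?_))
        have h' := congrArg Subtype.val h
        simp only [D] at h'
        rw [mulVec_sub, mulVec_sub]
        linear_combination (norm := module) h'
      have hiso : ∀ x ∈ U, ∀ y ∈ U, ω x y = 0 := fun x hx y hy => by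
        obtain ⟨u, hu⟩ := Finite.injective_iff_surjective.1 hD ⟨y, hy⟩
        rw [show y = (D u : I6 → F) by rw [hu]]
        exact hUperp x hx u u.2
      -- hence `finrank U ≤ 3`, but the rank of `S` is at most `2`
      have hann : finrank F U ≤ 3 := by
        let φ : U →ₗ[F] U.dualAnnihilator := LinearMap.codRestrict _ (LinearMap.comp (sympB 3 F) U.subtype)
          fun u => (Submodule.mem_dualAnnihilator _).2 fun x hx => by
            simp only [LinearMap.comp_apply, Submodule.subtype_apply, sympB_apply]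
            exact hiso u u.2 x hx
        have hφ : Function.Injective φ := fun a b h => Subtype.ext (sub_eq_zero.1 (eq_zero_of_sympForm_eq_zero fun y => by
          have := LinearMap.congr_fun (congrArg Subtype.val h) y
          simp only [φ, LinearMap.codRestrict_apply, LinearMap.comp_apply, Submodule.subtype_apply, sympB_apply] at this
          rw [sympForm_sub_left, this, sub_self]))
        have h1 := LinearMap.finrank_le_finrank_of_injective hφ
        have h3 := Subspace.finrank_add_finrank_dualAnnihilator_eq U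
        rw [show finrank F (I6 → F) = 6 by simp] at h3
        omega
      have hr1 : r 1 ≤ 2 := by
        have hle : LinearMap.range (Matrix.toLin' (S ^ 1)) ≤ U := by
          rintro _ ⟨x, rfl⟩
          rw [LinearMap.mem_ker, pow_one, Matrix.toLin'_apply, Matrix.toLin'_apply, mulVec_mulVec, ← sq, hS2,
            zero_mulVec]
        have h5 := Submodule.finrank_mono hle
        obtain ⟨c1, hc1⟩ := hev 1
        simp only [hr] at hc1 ⊢
        omega
      have h6 := (Matrix.toLin' S).finrank_range_add_finrank_ker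
      rw [show finrank F (I6 → F) = 6 by simp, ← hU] at h6
      simp only [hr] at hr1
      rw [pow_one] at hr1
      omega
  · exact Or.inr (cyclic_of_sq g h2 t ht hnil fun h => hS2 (by rw [← hk, h]))

end Cfsg.Agent.Classical.TwoCover.SpSix
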