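import Cfsg.Agent.Lib.Classical.TwoClassCoverSpSixBasic

/-!
The case division for `Sp₆(q)`, `q` a power of `3`.
-/

set_option autoImplicit false
set_option linter.unusedSectionVars false

namespace Cfsg.Agent.Classical.TwoCover.SpSix

open Matrix Polynomial Module
open Cfsg.Agent.UnitaryDetCentralizer

variable {F : Type} [Field F]

/-- The Artin–Schreier cubic. -/
noncomputable def asPoly (c : F) : F[X] := X ^ 3 - X - Polynomial.C c

/-- The element commutes with a self-adjoint cubic field. -/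
def HasField (c : F) (g : Sp6 F) : Prop :=
  ∃ j : Matrix I6 I6 F, aeval j (asPoly c) = 0 ∧ (∀ x y, ω (j *ᵥ x) y = ω x (j *ᵥ y)) ∧ mat g * j = j * mat g

/-- The negative of an element. -/
def negG (g : Sp6 F) : Sp6 F :=
  ⟨-mat g, mem_symplecticGroup_iff_form.2 fun u v => by
    rw [neg_mulVec, neg_mulVec, ← neg_one_smul F (mat g *ᵥ u), ← neg_one_smul F (mat g *ᵥ v),
      sympForm_smul_left, sympForm_smul_right, sympForm_map]
    ring⟩

theorem mat_negG (g : Sp6 F) : mat (negG g) = -mat g := rfl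

theorem plane_of_negG {g : Sp6 F} (h : HasPlane (negG g)) : HasPlane g := by
  obtain ⟨u, v, huv, hu, hv⟩ := h
  refine ⟨u, v, huv, ?_, ?_⟩
  · have := Submodule.neg_mem _ hu
    rwa [mat_negG, neg_mulVec, neg_neg] at this
  · have := Submodule.neg_mem _ hv
    rwa [mat_negG, neg_mulVec, neg_neg] at this

/-- A root of a self-dual polynomial at a square root of one. -/
theorem selfDual_eval {R : F[X]} (hs : cdual (RingHom.id F) R = R) {x : F} (hx : x * x = 1) :
    (R.coeff 0 * x ^ R.natDegree - 1) * R.eval x = 0 ∨ R.coeff 0 = 0 := by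
  by_cases h0 : R.coeff 0 = 0
  · exact Or.inr h0
  left
  haveI : Invertible x := ⟨x, hx, hx⟩
  have e := Polynomial.eval₂_reverse_mul_pow (RingHom.id F) x R
  rw [show (⅟x : F) = x from invOf_eq_right_inv hx] at e
  have hrev : R.reverse.eval x * x ^ R.natDegree = R.eval x := e
  have e2 : R.eval x = (R.coeff 0)⁻¹ * R.reverse.eval x := by
    conv_lhs => rw [← hs]
    rw [cdual, Polynomial.map_id, RingHom.id_apply, eval_mul, eval_C]
  rw [sub_mul, one_mul, sub_eq_zero]
  conv_lhs => rw [e2]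
  rw [← hrev]
  field_simp

theorem selfDual_sq {R : F[X]} (hm : R.Monic) (hs : cdual (RingHom.id F) R = R) : R.coeff 0 * R.coeff 0 = 1 ∨ R.coeff 0 = 0 := by
  by_cases h0 : R.coeff 0 = 0
  · exact Or.inr h0
  left
  have e := coeff_zero_cdual (RingHom.id F) R hm
  rw [hs, RingHom.id_apply] at e
  nth_rw 1 [e]
  exact inv_mul_cancel₀ h0

theorem selfDual_quad (h2 : (2 : F) ≠ 0) {R : F[X]} (hm : R.Monic) (hd : R.natDegree = 2)
    (hs : cdual (RingHom.id F) R = R) (h0 : R.coeff 0 ≠ 0) (hr : ∀ x, ¬ R.IsRoot x) :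
    ∃ t : F, R = X ^ 2 - Polynomial.C t * X + 1 := by
  have hc : R.coeff 0 = 1 := by
    rcases mul_self_eq_one_iff.1 ((selfDual_sq hm hs).resolve_right h0) with h | h
    · exact h
    · exfalso
      have e := (selfDual_eval hs (one_mul (1 : F))).resolve_right h0
      rw [h, one_pow, mul_one, mul_eq_zero] at e
      rcases e with e | e
      · exact h2 (by linear_combination -e)
      · exact hr 1 e
  refine ⟨-R.coeff 1, ?_⟩
  conv_lhs => rw [R.as_sum_range_C_mul_X_pow, hd]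
  simp only [Finset.sum_range_succ, Finset.sum_range_zero, zero_add, pow_zero, mul_one, pow_one, hc,
    show R.coeff 2 = 1 by rw [← hd]; exact hm, map_one, one_mul, map_neg]
  ring

theorem selfDual_cubic (h2 : (2 : F) ≠ 0) {R : F[X]} (hm : R.Monic) (hd : R.natDegree = 3)
    (hs : cdual (RingHom.id F) R = R) (h0 : R.coeff 0 ≠ 0) : ∃ x, R.IsRoot x := by
  have hc := (selfDual_sq hm hs).resolve_right h0
  refine ⟨-R.coeff 0, ?_⟩
  have e := (selfDual_eval hs (x := -R.coeff 0) (by rw [neg_mul_neg]; exact hc)).resolve_right h0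
  rw [hd] at e
  exact (mul_eq_zero.1 e).resolve_left fun h => h2 (by linear_combination -h - (R.coeff 0 * R.coeff 0 + 1) * hc)

variable [Fintype F]

/-- A vector not killed by `(g - 1)⁵` is cyclic. -/
theorem cyc_six (g : Sp6 F) (hnil : ev g ((X - 1 : F[X]) ^ 6) = 0) {v : I6 → F}
    (hv : ev g ((X - 1 : F[X]) ^ 5) *ᵥ v ≠ 0) : IsCyc g ((X - 1) ^ 6) v := by
  refine ⟨hnil, fun P hPv => ?_⟩
  by_contra hndvd
  have hP0 : P ≠ 0 := fun h => hndvd (h ▸ dvd_zero _)
  obtain ⟨Q, hQ, hQ1⟩ := Polynomial.exists_eq_pow_rootMultiplicity_mul_and_not_dvd P hP0 1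
  rw [map_one] at hQ hQ1
  generalize Polynomial.rootMultiplicity 1 P = j at hQ
  have hj : j ≤ 5 := by
    by_contra h
    exact hndvd (hQ ▸ (pow_dvd_pow _ (by omega)).mul_right _)
  obtain ⟨Q', hQ'⟩ : (X - 1 : F[X]) ∣ Q - Polynomial.C (Q.eval 1) := by
    rw [← map_one (Polynomial.C (R := F)), Polynomial.dvd_iff_isRoot]
    simp [IsRoot.def]
  have e : ev g ((X - 1) ^ 5 * Q) *ᵥ v = 0 := by
    rw [show (X - 1 : F[X]) ^ 5 * Q = (X - 1) ^ (5 - j) * P by
      rw [hQ, ← mul_assoc, ← pow_add]; congr 2; omega, ev_mulVec, hPv, mulVec_zero]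
  rw [show (X - 1 : F[X]) ^ 5 * Q = Polynomial.C (Q.eval 1) * (X - 1) ^ 5 + Q' * (X - 1) ^ 6 by
    linear_combination (X - 1 : F[X]) ^ 5 * hQ', map_add, map_mul, map_mul, hnil, mul_zero, add_zero, ev_C,
    smul_mul_assoc, one_mul, smul_mulVec, smul_eq_zero] at e
  refine hQ1 ?_
  rw [← map_one (Polynomial.C (R := F)), Polynomial.dvd_iff_isRoot]
  exact e.resolve_right hv

/-- The unipotent case. -/
theorem unipotent_cases (g : Sp6 F) (h2 : (2 : F) ≠ 0) (hnil : ev g ((X - 1 : F[X]) ^ 6) = 0) :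
    HasPlane g ∨ (∃ v, IsCyc g ((X - 1) ^ 6) v) ∨ (ev g ((X - 1 : F[X]) ^ 3) = 0 ∧ ev g ((X - 1 : F[X]) ^ 2) ≠ 0) := by
  classical
  by_cases hP : HasPlane g
  · exact Or.inl hP
  right
  by_cases h5 : ev g ((X - 1 : F[X]) ^ 5) = 0
  swap
  · left
    obtain ⟨v, hv⟩ : ∃ v, ev g ((X - 1 : F[X]) ^ 5) *ᵥ v ≠ 0 := by
      by_contra h
      push Not at h
      exact h5 (Matrix.ext_iff_mulVec.2 fun v => by rw [h, zero_mulVec])
    exact ⟨v, cyc_six g hnil hv⟩
  right
  set N := ev g (X - 1 : F[X]) with hN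
  have hNk : ∀ k, ev g ((X - 1 : F[X]) ^ k) = N ^ k := fun k => map_pow _ _ _
  have hNg : N = mat g - 1 := by rw [hN, map_sub, map_one, ev_X]
  set T := Matrix.toLin' N with hT
  have hbarN : ev g (bar g (X - 1)) = mat g⁻¹ - 1 := by rw [bar_sub, bar_one, map_sub, map_one, bar_X]
  have hinvN : mat g⁻¹ - 1 = -(mat g⁻¹ * N) := by
    rw [hNg, mul_sub, mat_inv_mul, mul_one, neg_sub]
  have hcomm : mat g⁻¹ * N = N * mat g⁻¹ := by
    rw [hNg, mul_sub, sub_mul, mat_inv_mul, mat_mul_inv, mul_one, one_mul]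
  -- kernels lie in images
  have k1 : ∀ u, N *ᵥ u = 0 → ∃ z, N *ᵥ z = u := by
    intro u hu
    by_contra hno
    refine hP ?_
    obtain ⟨x, hx, hux⟩ : ∃ x, N *ᵥ x = 0 ∧ ω u x ≠ 0 := by
      by_contra h
      push Not at h
      obtain ⟨z, hz⟩ := perp_ker g (X - 1) (fun x hx => h x hx)
      rw [hbarN, hinvN, hcomm, neg_mulVec, ← mulVec_mulVec] at hz
      exact hno ⟨-(mat g⁻¹ *ᵥ z), by rw [mulVec_neg, hz]⟩
    have fix : ∀ y, N *ᵥ y = 0 → mat g *ᵥ y = y := fun y hy => by
      rw [hNg, sub_mulVec, one_mulVec, sub_eq_zero] at hy; exact hy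
    exact ⟨u, x, hux, by rw [fix u hu]; exact Submodule.subset_span (by simp),
      by rw [fix x hx]; exact Submodule.subset_span (by simp)⟩
  have q0 : ∀ v, N *ᵥ (N *ᵥ v) = 0 → ω (N *ᵥ v) v = 0 := by
    intro v hv
    by_contra hne
    refine hP ⟨N *ᵥ v, v, hne, ?_, ?_⟩
    · rw [show mat g *ᵥ (N *ᵥ v) = N *ᵥ v by
        rw [hNg, sub_mulVec, one_mulVec, sub_eq_zero] at hv; rw [hNg]; exact hv]
      exact Submodule.subset_span (by simp)
    · refine Submodule.mem_span_pair.2 ⟨1, 1, ?_⟩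
      rw [one_smul, one_smul, hNg, sub_mulVec, one_mulVec]
      abel
  have k2 : ∀ u, N *ᵥ u = 0 → ∃ z, N *ᵥ (N *ᵥ z) = u := by
    intro u hu
    obtain ⟨x, rfl⟩ := k1 u hu
    have hperp : ∀ y, ev g ((X - 1 : F[X]) ^ 2) *ᵥ y = 0 → ω (N *ᵥ x) y = 0 := by
      intro y hy
      rw [hNk, sq, ← mulVec_mulVec] at hy
      have e := q0 (x + y) (by rw [mulVec_add, mulVec_add, hu, hy, add_zero])
      rw [mulVec_add, ω, sympForm_add_left, sympForm_add_right, sympForm_add_right] at e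
      have a1 := q0 x hu
      have a2 := q0 y hy
      have e3 : ω (N *ᵥ y) x = ω (N *ᵥ x) y := by
        have hfix : mat g⁻¹ *ᵥ (N *ᵥ x) = N *ᵥ x := by
          have h1 : mat g *ᵥ (N *ᵥ x) = N *ᵥ x := by
            rw [hNg, sub_mulVec, one_mulVec, sub_eq_zero] at hu; rw [hNg]; exact hu
          conv_lhs => rw [← h1, inv_apply]
        rw [hN, adj, hbarN, hinvN, neg_mulVec, ← mulVec_mulVec, hfix, ω, ← neg_one_smul F (N *ᵥ x),
          sympForm_smul_right, sympForm_swap y]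
        ring
      simp only [ω] at a1 a2 e3 ⊢
      have : (2 : F) * sympForm 3 F (N *ᵥ x) y = 0 := by linear_combination e - a1 - a2 - e3
      exact (mul_eq_zero.1 this).resolve_left h2
    obtain ⟨z, hz⟩ := perp_ker g ((X - 1) ^ 2) hperp
    rw [show bar g ((X - 1 : F[X]) ^ 2) = bar g (X - 1) ^ 2 from pow_comp _ _ _, map_pow, hbarN, hinvN, neg_sq,
      (show Commute (mat g⁻¹) N from hcomm).mul_pow, ← ((show Commute (mat g⁻¹) N from hcomm).pow_pow 2 2).eq.symm,
      ← mulVec_mulVec, sq N, ← mulVec_mulVec] at hz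
    exact ⟨_, hz⟩
  -- dimensions
  set d1 := finrank F (LinearMap.ker T) with hd1
  have kcomp : ∀ (A B : (I6 → F) →ₗ[F] (I6 → F)),
      finrank F (LinearMap.ker (A ∘ₗ B)) ≤ finrank F (LinearMap.ker A) + finrank F (LinearMap.ker B) ∧
      (LinearMap.ker A ≤ LinearMap.range B →
        finrank F (LinearMap.ker (A ∘ₗ B)) = finrank F (LinearMap.ker A) + finrank F (LinearMap.ker B)) := by
    intro A B
    let φ : LinearMap.ker (A ∘ₗ B) →ₗ[F] LinearMap.ker A := B.restrict fun x hx => hx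
    have h1 := φ.finrank_range_add_finrank_ker
    have hker : finrank F (LinearMap.ker φ) = finrank F (LinearMap.ker B) := by
      refine LinearEquiv.finrank_eq
        { toFun := fun x => ⟨x.1.1, congrArg Subtype.val (LinearMap.mem_ker.1 x.2)⟩
          invFun := fun x => ⟨⟨x.1, by rw [LinearMap.mem_ker, LinearMap.comp_apply, LinearMap.mem_ker.1 x.2, map_zero]⟩,
            LinearMap.mem_ker.2 (Subtype.ext (LinearMap.mem_ker.1 x.2))⟩
          map_add' := fun _ _ => rfl
          map_smul' := fun _ _ => rfl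
          left_inv := fun _ => rfl
          right_inv := fun _ => rfl }
    refine ⟨by have := (LinearMap.range φ).finrank_le; omega, fun hle => ?_⟩
    have hs : LinearMap.range φ = ⊤ := by
      refine LinearMap.range_eq_top.2 ?_
      rintro ⟨y, hy⟩
      obtain ⟨x, rfl⟩ := hle hy
      exact ⟨⟨x, hy⟩, rfl⟩
    rw [hs, finrank_top, hker] at h1
    omega
  have hT2 : Matrix.toLin' (N ^ 2) = T ∘ₗ T := by rw [sq, Matrix.toLin'_mul]
  have hT3 : Matrix.toLin' (N ^ 3) = T ∘ₗ (T ∘ₗ T) := by rw [pow_succ', Matrix.toLin'_mul, hT2]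
  have hT5 : Matrix.toLin' (N ^ 5) = T ∘ₗ (T ∘ₗ (T ∘ₗ (T ∘ₗ T))) := by
    rw [pow_succ', pow_succ', pow_succ', Matrix.toLin'_mul, Matrix.toLin'_mul, Matrix.toLin'_mul, hT2]
  have e2 : finrank F (LinearMap.ker (T ∘ₗ T)) = d1 + d1 := (kcomp T T).2 fun u hu => by
    rw [LinearMap.mem_ker, hT, Matrix.toLin'_apply] at hu
    obtain ⟨z, hz⟩ := k1 u hu
    exact ⟨z, by rw [hT, Matrix.toLin'_apply, hz]⟩
  have e3 : finrank F (LinearMap.ker (T ∘ₗ (T ∘ₗ T))) = d1 + (d1 + d1) := by
    rw [(kcomp T (T ∘ₗ T)).2 fun u hu => ?_, e2]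
    rw [LinearMap.mem_ker, hT, Matrix.toLin'_apply] at hu
    obtain ⟨z, hz⟩ := k2 u hu
    exact ⟨z, by rw [LinearMap.comp_apply, hT, Matrix.toLin'_apply, Matrix.toLin'_apply, hz]⟩
  have e5 : finrank F (LinearMap.ker (T ∘ₗ (T ∘ₗ (T ∘ₗ (T ∘ₗ T))))) = 6 := by
    rw [← hT5, ← hNk, h5, map_zero, LinearMap.ker_zero, finrank_top]; simp
  have b4 := (kcomp T (T ∘ₗ (T ∘ₗ T))).1
  have b5 := (kcomp T (T ∘ₗ (T ∘ₗ (T ∘ₗ T)))).1
  have h6 : finrank F (LinearMap.ker (T ∘ₗ (T ∘ₗ T))) = 6 := by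
    have hle := Submodule.finrank_le (LinearMap.ker (T ∘ₗ (T ∘ₗ T)))
    rw [show finrank F (I6 → F) = 6 by simp] at hle
    omega
  refine ⟨?_, fun h2' => ?_⟩
  · rw [hNk]
    refine Matrix.toLin'.injective ?_
    rw [map_zero, hT3, ← LinearMap.ker_eq_top]
    exact Submodule.eq_top_of_finrank_eq (by rw [h6]; simp)
  · rw [hNk] at h2'
    rw [← hT2, h2', map_zero, LinearMap.ker_zero, finrank_top, show finrank F (I6 → F) = 6 by simp] at e2
    omega

theorem dvd_of_ev_zero (g : Sp6 F) {χ : F[X]} (hi : Irreducible χ) (hχ : ev g χ = 0) {Q : F[X]}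
    (h : ev g Q = 0) : χ ∣ Q := by
  by_contra hn
  obtain ⟨a, b, hab⟩ := hi.coprime_iff_not_dvd.2 hn
  have e := congrArg (ev g) hab
  rw [map_add, map_mul, map_mul, hχ, h, mul_zero, mul_zero, add_zero, map_one] at e
  exact zero_ne_one e

theorem bar_comp (g : Sp6 F) (m P : F[X]) : bar g (m.comp P) = m.comp (bar g P) := comp_assoc _ _ _

/-- An irreducible sextic gives a self-adjoint cubic field. -/
theorem field_of_sextic [CharP F 3] (g : Sp6 F) (h2 : (2 : F) ≠ 0) {c : F} (hm : Irreducible (asPoly c))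
    (hd : (asPoly c).natDegree = 3) (hi : Irreducible (mat g).charpoly) : HasField c g := by
  obtain ⟨P, hP⟩ := Linear.exists_root_mod hm hi
    (by rw [hd, Matrix.charpoly_natDegree_eq_dim, Fintype.card_sum, Fintype.card_fin]; norm_num)
  have hχ : ev g (mat g).charpoly = 0 := Matrix.aeval_self_charpoly _
  have h1 : ev g ((asPoly c).comp P) = 0 := by
    obtain ⟨r, hr⟩ := hP; rw [hr, map_mul, hχ, zero_mul]
  have h1' : ev g ((asPoly c).comp (bar g P)) = 0 := by
    rw [← bar_comp, ev_bar_congr g (Q := 0) (by rw [h1, map_zero]), show bar g (0 : F[X]) = 0 from zero_comp, map_zero]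
  set D := bar g P - P with hD
  haveI : CharP F[X] 3 := charP_of_injective_algebraMap (algebraMap F F[X]).injective 3
  have e : ev g (D ^ 3 - D) = 0 := by
    have h' : (asPoly c).comp (bar g P) - (asPoly c).comp P = D ^ 3 - D := by
      simp only [asPoly, sub_comp, pow_comp, X_comp, C_comp, hD, sub_pow_char]
      ring
    rw [← h', map_sub, h1, h1', sub_zero]
  have hd0 : ∃ d : F, ev g D = d • 1 := by
    have hdvd : (mat g).charpoly ∣ D * ((D - 1) * (D + 1)) := by
      have := dvd_of_ev_zero g hi hχ e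
      rwa [show D * ((D - 1) * (D + 1)) = D ^ 3 - D by ring]
    rcases hi.prime.dvd_or_dvd hdvd with h | h
    · obtain ⟨r, hr⟩ := h
      exact ⟨0, by rw [hr, map_mul, hχ, zero_mul, zero_smul]⟩
    · rcases hi.prime.dvd_or_dvd h with h | h
      · obtain ⟨r, hr⟩ := h
        refine ⟨1, ?_⟩
        rw [show D = 1 + (mat g).charpoly * r by rw [← hr]; ring, map_add, map_one, map_mul, hχ, zero_mul,
          add_zero, one_smul]
      · obtain ⟨r, hr⟩ := h
        refine ⟨-1, ?_⟩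
        rw [show D = -1 + (mat g).charpoly * r by rw [← hr]; ring, map_add, map_neg, map_one, map_mul, hχ, zero_mul,
          add_zero, neg_one_smul]
  obtain ⟨d, hdd⟩ := hd0
  have hd2 : d = 0 := by
    have e1 : ev g (bar g D) = d • 1 := by
      rw [ev_bar_congr g (Q := Polynomial.C d) (by rw [hdd, ev_C]), bar_C, ev_C]
    have e2 : ev g (bar g D) = -ev g D := by
      rw [hD, bar_sub, map_sub, bar_bar, map_sub, neg_sub]
    rw [e1, hdd, ← neg_smul] at e2
    have e3 := congrFun (congrFun e2 (Sum.inl 0)) (Sum.inl 0)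
    simp at e3
    exact (mul_eq_zero.1 (show (2 : F) * d = 0 by linear_combination e3)).resolve_left h2
  subst hd2
  rw [zero_smul, hD, map_sub, sub_eq_zero] at hdd
  refine ⟨ev g P, ?_, fun x y => by rw [adj, hdd], ?_⟩
  · rw [ev, ← Polynomial.aeval_comp]; exact h1
  · rw [← ev_X g, ← map_mul, ← map_mul, mul_comm]

theorem cancel_unit (g : Sp6 F) {k : F} (hk : k ≠ 0) (d : ℕ) {Q : F[X]}
    (h : ev g (Polynomial.C k * X ^ d * Q) = 0) : ev g Q = 0 := by
  have h' := congrArg (fun M => ev g (bar g X ^ d * Polynomial.C k⁻¹) * M) h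
  simp only [mul_zero] at h'
  rw [← map_mul, show bar g X ^ d * Polynomial.C k⁻¹ * (Polynomial.C k * X ^ d * Q) =
      (X * bar g X) ^ d * (Polynomial.C k⁻¹ * Polynomial.C k) * Q by ring,
    ← map_mul, inv_mul_cancel₀ hk, map_one, mul_one, map_mul, map_pow, ev_X_mul_bar, one_pow, one_mul] at h'
  exact h'

theorem prod_zero (g : Sp6 F) {u v : F[X]} (a : F[X]) (hv : v.coeff 0 ≠ 0)
    (hd : cdual (RingHom.id F) v = u) (h : ev g (u * v) = 0) : ev g (a * v * bar g (a * v)) = 0 := by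
  refine cancel_unit g (inv_ne_zero hv) v.natDegree ?_
  rw [bar_mul, show Polynomial.C (v.coeff 0)⁻¹ * X ^ v.natDegree * (a * v * (bar g a * bar g v)) =
    a * bar g a * v * (Polynomial.C (v.coeff 0)⁻¹ * (X ^ v.natDegree * bar g v)) by ring, map_mul, ← ev_cdual, hd,
    ← map_mul, mul_assoc, mul_comm v, map_mul, h, mul_zero]

/-- A pair of dual cubics gives a self-adjoint cubic field. -/
theorem field_of_pair [CharP F 3] (g : Sp6 F) {c : F} (hm : Irreducible (asPoly c))
    (hd : (asPoly c).natDegree = 3) {f f' : F[X]} (hf : Irreducible f) (hf3 : f.natDegree = 3)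
    (hco : IsCoprime f f') (hd1 : cdual (RingHom.id F) f' = f) (hd2 : cdual (RingHom.id F) f = f')
    (h0 : f.coeff 0 ≠ 0) (h0' : f'.coeff 0 ≠ 0) (hχ : ev g (f * f') = 0) : HasField c g := by
  obtain ⟨P, hP⟩ := Linear.exists_root_mod hm hf (by rw [hd, hf3])
  obtain ⟨a, b, hab⟩ := hco
  obtain ⟨e, he⟩ : ∃ e, e = b * f' := ⟨_, rfl⟩
  have hfe : ev g (f * e) = 0 := by rw [show f * e = b * (f * f') by rw [he]; ring, map_mul, hχ, mul_zero]
  have hee : ev g (e * bar g e) = 0 := by rw [he]; exact prod_zero g b h0' hd1 hχ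
  have hnn : ev g ((1 - e) * bar g (1 - e)) = 0 := by
    rw [show 1 - e = a * f by rw [he, ← hab]; ring]
    exact prod_zero g a h0 hd2 (by rw [mul_comm]; exact hχ)
  have hsum : ev g (bar g e) = ev g (1 - e) := by
    rw [bar_sub, bar_one, show (1 - e) * (1 - bar g e) = 1 - e - bar g e + e * bar g e by ring, map_add, hee,
      add_zero, map_sub, sub_eq_zero] at hnn
    exact hnn.symm
  have hid : ev g (e * (1 - e)) = 0 := by
    rw [show e * (1 - e) = a * (f * e) by rw [show 1 - e = a * f by rw [he, ← hab]; ring]; ring, map_mul, hfe, mul_zero]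
  set j := P * e + bar g P * (1 - e) with hjdef
  haveI : CharP F[X] 3 := charP_of_injective_algebraMap (algebraMap F F[X]).injective 3
  have he3 : ev g (e ^ 3) = ev g e ∧ ev g ((1 - e) ^ 3) = ev g (1 - e) := by
    refine ⟨?_, ?_⟩
    · rw [show e ^ 3 = e - (1 + e) * (e * (1 - e)) by ring, map_sub, map_mul, hid, mul_zero, sub_zero]
    · rw [show (1 - e) ^ 3 = (1 - e) - (2 - e) * (e * (1 - e)) by ring, map_sub, map_mul _ (2 - e), hid, mul_zero,
        sub_zero]
  have hroot1 : ev g (e * (asPoly c).comp P) = 0 := by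
    obtain ⟨r, hr⟩ := hP
    rw [hr, show e * (f * r) = r * (f * e) by ring, map_mul, hfe, mul_zero]
  have hroot2 : ev g ((1 - e) * (asPoly c).comp (bar g P)) = 0 := by
    rw [map_mul, ← hsum, ← map_mul, ← bar_comp, ← bar_mul, ev_bar_congr g (Q := 0) (by rw [hroot1, map_zero]),
      show bar g (0 : F[X]) = 0 from zero_comp, map_zero]
  refine ⟨ev g j, ?_, fun x y => ?_, ?_⟩
  · rw [ev, ← Polynomial.aeval_comp]
    show ev g ((asPoly c).comp j) = 0
    have hexp : (asPoly c).comp j = P ^ 3 * e ^ 3 + bar g P ^ 3 * (1 - e) ^ 3 -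
        (P * e + bar g P * (1 - e)) - Polynomial.C c := by
      simp only [asPoly, sub_comp, pow_comp, X_comp, C_comp, hjdef, add_pow_char, mul_pow]
    have hsplit : P ^ 3 * e + bar g P ^ 3 * (1 - e) - (P * e + bar g P * (1 - e)) - Polynomial.C c =
        e * (asPoly c).comp P + (1 - e) * (asPoly c).comp (bar g P) := by
      simp only [asPoly, sub_comp, pow_comp, X_comp, C_comp]; ring
    rw [hexp, map_sub, map_sub, map_add, map_mul, map_mul _ (bar g P ^ 3), he3.1, he3.2, ← map_mul, ← map_mul,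
      ← map_add, ← map_sub, ← map_sub, hsplit, map_add, hroot1, hroot2, add_zero]
  · rw [adj]
    congr 2
    rw [hjdef, bar_add, bar_mul, bar_mul, bar_sub, bar_one, map_add, map_add, map_mul, map_mul, map_mul, map_mul,
      bar_bar, map_sub, map_sub, hsum, map_sub, map_one, sub_sub_cancel, add_comm]
  · rw [← ev_X g, ← map_mul, ← map_mul, mul_comm]

/-- The classification. -/
theorem classify [CharP F 3] (g : Sp6 F) {c : F} (hm : Irreducible (asPoly c))
    (hdeg : (asPoly c).natDegree = 3) :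
    HasPlane g ∨ HasField c g ∨ (∃ t, t ^ 2 ≠ 4 ∧ ∃ v, IsCyc g ((X ^ 2 - Polynomial.C t * X + 1) ^ 3) v) ∨
    (∃ h, (h = g ∨ h = negG g) ∧ ((∃ v, IsCyc h ((X - 1) ^ 6) v) ∨
      (ev h ((X - 1 : F[X]) ^ 3) = 0 ∧ ev h ((X - 1 : F[X]) ^ 2) ≠ 0))) := by
  classical
  have h3 : (3 : F) = 0 := CharP.cast_eq_zero F 3
  have h2 : (2 : F) ≠ 0 := fun h => one_ne_zero (α := F) (by linear_combination h3 - h)
  by_cases hsing : ∃ t, ∃ v, v ≠ 0 ∧ ev g (pen g t) *ᵥ v = 0
  · obtain ⟨t, ht⟩ := hsing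
    rcases plane_or_nilpotent g h2 t ht with h | hnil
    · exact Or.inl h
    by_cases ht4 : t ^ 2 = 4
    swap
    · rcases plane_or_cyclic g h2 t ht4 hnil with h | h
      · exact Or.inl h
      · exact Or.inr (Or.inr (Or.inl ⟨t, ht4, h⟩))
    have key : ∀ k : Sp6 F, ev k (pen k 2 ^ 6) = 0 → ev k ((X - 1 : F[X]) ^ 6) = 0 := by
      intro k hk
      rw [map_pow]
      refine nilpotent_six (k := 2 * 6) ?_
      rw [pow_mul, ← map_pow, show (X - 1 : F[X]) ^ 2 = X ^ 2 - Polynomial.C 2 * X + 1 by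
        rw [show (Polynomial.C 2 : F[X]) = 2 from rfl]; ring, ev_quad, ← map_pow, mul_pow, map_mul, hk, mul_zero]
    have hcase : t = 2 ∨ t = -2 := sq_eq_sq_iff_eq_or_eq_neg.1 (by rw [ht4]; norm_num)
    obtain ⟨k, hk, hk6⟩ : ∃ k, (k = g ∨ k = negG g) ∧ ev k (pen k 2 ^ 6) = 0 := by
      rcases hcase with rfl | rfl
      · exact ⟨g, Or.inl rfl, hnil⟩
      · refine ⟨negG g, Or.inr rfl, ?_⟩
        have hinv : mat (negG g)⁻¹ = -mat g⁻¹ := by
          have h1 : mat (negG g) * -mat g⁻¹ = 1 := by rw [mat_negG, neg_mul_neg, mat_mul_inv]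
          calc mat (negG g)⁻¹ = mat (negG g)⁻¹ * (mat (negG g) * -mat g⁻¹) := by rw [h1, mul_one]
            _ = _ := by rw [← mul_assoc, mat_inv_mul, one_mul]
        have e : ev (negG g) (pen (negG g) 2) = -ev g (pen g (-2)) := by
          rw [pen, pen, map_sub, map_add, ev_X, bar_X, ev_C, map_sub, map_add, ev_X, bar_X, ev_C, hinv, mat_negG,
            neg_smul]
          abel
        rw [map_pow, e, Even.neg_pow (by decide), ← map_pow, hnil]
    have hsign : ∀ {p : Prop}, HasPlane k → p ∨ HasPlane g := fun hh => Or.inr (by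
      rcases hk with rfl | rfl
      · exact hh
      · exact plane_of_negG hh)
    rcases unipotent_cases k h2 (key k hk6) with h | h | h
    · exact Or.inl ((hsign (p := False) h).resolve_left id)
    · exact Or.inr (Or.inr (Or.inr ⟨k, hk, Or.inl h⟩))
    · exact Or.inr (Or.inr (Or.inr ⟨k, hk, Or.inr h⟩))
  push Not at hsing
  right; left
  set χ := (mat g).charpoly with hχdef
  have hχ : ev g χ = 0 := Matrix.aeval_self_charpoly _
  have hχm := Matrix.charpoly_monic (mat g)
  have hχd : χ.natDegree = 6 := by rw [hχdef, Matrix.charpoly_natDegree_eq_dim]; simp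
  have hχ0 : χ.coeff 0 ≠ 0 := by
    intro h
    have hu : IsUnit (mat g) := isUnit_iff_exists.2 ⟨mat g⁻¹, mat_mul_inv g, mat_inv_mul g⟩
    have := ((Matrix.isUnit_iff_isUnit_det _).1 hu).ne_zero
    rw [Matrix.det_eq_sign_charpoly_coeff, ← hχdef, h, mul_zero] at this
    exact this rfl
  have hroot : ∀ x, ¬ χ.IsRoot x := by
    intro x hx
    obtain ⟨v, hv0, hv⟩ := Linear.exists_eigvec_of_root (mat g) hx
    have hinv : mat g⁻¹ *ᵥ v = x⁻¹ • v := by
      have e := congrArg (fun z => mat g⁻¹ *ᵥ z) hv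
      simp only [inv_apply, mulVec_smul] at e
      have hx0 : x ≠ 0 := fun h => hv0 (by rw [h, zero_smul] at e; exact e)
      conv_rhs => rw [e, smul_smul, inv_mul_cancel₀ hx0, one_smul]
    refine hsing (x + x⁻¹) v hv0 ?_
    rw [pen, map_sub, map_add, ev_X, bar_X, ev_C, sub_mulVec, add_mulVec, smul_mulVec, one_mulVec, hv, hinv, add_smul,
      sub_self]
  have hquad : ∀ R : F[X], R.Monic → R.natDegree = 2 → R ∣ χ → cdual (RingHom.id F) R ≠ R := by
    intro R hRm hR2 hRd hRs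
    have hR0 : R.coeff 0 ≠ 0 := fun h => hχ0 (by obtain ⟨r, hr⟩ := hRd; rw [hr, mul_coeff_zero, h, zero_mul])
    have hRr : ∀ x, ¬ R.IsRoot x := fun x hx => hroot x (hx.dvd hRd)
    obtain ⟨t, ht⟩ := selfDual_quad h2 hRm hR2 hRs hR0 hRr
    have hRi : Irreducible R := by
      rw [Polynomial.irreducible_iff_roots_eq_zero_of_degree_le_three (by omega) (by omega)]
      exact Multiset.eq_zero_of_forall_notMem fun x hx => hRr x (Polynomial.isRoot_of_mem_roots hx)
    obtain ⟨v, hv0, hv⟩ := killed_of_dvd g hRm hRi hRd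
    refine hsing t v hv0 ?_
    rw [ht, ev_quad, ev_mulVec, ev_X] at hv
    have e := congrArg (fun z => mat g⁻¹ *ᵥ z) hv
    simp only [inv_apply, mulVec_zero] at e
    exact e
  have hdual : ∀ R : F[X], R.Monic → Irreducible R → R ∣ χ → cdual (RingHom.id F) R ∣ χ := by
    intro R _ _ hRd
    obtain ⟨r, hr⟩ := hRd
    exact ⟨cdual (RingHom.id F) r, by rw [← cdual_mul, ← hr, hχdef, cdual_charpoly]⟩
  have h0of : ∀ R : F[X], R ∣ χ → R.coeff 0 ≠ 0 := fun R hR h =>
    hχ0 (by obtain ⟨r, hr⟩ := hR; rw [hr, mul_coeff_zero, h, zero_mul])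
  have hno1 : ∀ R : F[X], R ∣ χ → R.natDegree ≠ 1 := fun R hR h1 => by
    obtain ⟨x, hx⟩ := Polynomial.exists_root_of_degree_eq_one
      ((Polynomial.degree_eq_iff_natDegree_eq_of_pos one_pos).2 h1)
    exact hroot x (hx.dvd hR)
  have irr2 : ∀ R : F[X], R ∣ χ → R.natDegree = 2 ∨ R.natDegree = 3 → Irreducible R := fun R hR h => by
    rw [Polynomial.irreducible_iff_roots_eq_zero_of_degree_le_three (by omega) (by omega)]
    exact Multiset.eq_zero_of_forall_notMem fun x hx => hroot x ((Polynomial.isRoot_of_mem_roots hx).dvd hR)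
  -- no quadratic factor
  have hno2 : ∀ R : F[X], R.Monic → R ∣ χ → R.natDegree ≠ 2 := by
    intro R hRm hRd hR2
    have hRi := irr2 R hRd (Or.inl hR2)
    have hne := hquad R hRm hR2 hRd
    have h0 := h0of R hRd
    have hR'i := irreducible_cdual (RingHom.id F) (fun _ => rfl) hRm h0 hRi
    have hR'm := cdual_monic (RingHom.id F) h0
    have hco : IsCoprime R (cdual (RingHom.id F) R) := hRi.coprime_iff_not_dvd.2 fun h =>
      hne (Polynomial.eq_of_monic_of_associated hR'm hRm (hRi.associated_of_dvd hR'i h).symm)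
    obtain ⟨S, hS⟩ := hco.mul_dvd hRd (hdual R hRm hRi hRd)
    have hSm : S.Monic := (hRm.mul hR'm).of_mul_monic_left (hS ▸ hχm)
    have hS2 : S.natDegree = 2 := by
      have e := (hRm.mul hR'm).natDegree_mul hSm
      rw [← hS, hχd, hRm.natDegree_mul hR'm, natDegree_cdual _ h0, hR2] at e
      omega
    refine hquad S hSm hS2 ⟨R * cdual (RingHom.id F) R, by rw [hS]; ring⟩ ?_
    have e := congrArg (cdual (RingHom.id F)) hS
    rw [hχdef, cdual_charpoly, cdual_mul, cdual_mul, cdual_cdual _ (fun _ => rfl) hRm h0,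
      mul_comm (cdual (RingHom.id F) R) R, ← hχdef, hS] at e
    exact (mul_left_cancel₀ (hRm.mul hR'm).ne_zero e).symm
  obtain ⟨f, hfm, hfi, hfd⟩ := Polynomial.exists_monic_irreducible_factor χ
    (Polynomial.not_isUnit_of_natDegree_pos _ (by omega))
  obtain ⟨r, hr⟩ := id hfd
  have hrm : r.Monic := hfm.of_mul_monic_left (hr ▸ hχm)
  have hdsum : f.natDegree + r.natDegree = 6 := by rw [← hfm.natDegree_mul hrm, ← hr, hχd]
  have hrd : r ∣ χ := ⟨f, by rw [hr]; ring⟩
  have hfpos := hfi.natDegree_pos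
  have a1 := hno1 f hfd
  have a2 := hno2 f hfm hfd
  have a3 := hno1 r hrd
  have a4 := hno2 r hrm hrd
  have hcases : f.natDegree = 6 ∨ f.natDegree = 3 := by omega
  rcases hcases with h6 | h3'
  · have hre : r = 1 := hrm.natDegree_eq_zero.1 (by omega)
    rw [hre, mul_one] at hr
    exact field_of_sextic g h2 hm hdeg (by rw [← hχdef, hr]; exact hfi)
  · have hr3 : r.natDegree = 3 := by omega
    have h0 := h0of f hfd
    have hne : cdual (RingHom.id F) f ≠ f := fun h => by
      obtain ⟨x, hx⟩ := selfDual_cubic h2 hfm h3' h h0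
      exact hroot x (hx.dvd hfd)
    have hf'i := irreducible_cdual (RingHom.id F) (fun _ => rfl) hfm h0 hfi
    have hf'm := cdual_monic (RingHom.id F) h0
    have hco : IsCoprime f (cdual (RingHom.id F) f) := hfi.coprime_iff_not_dvd.2 fun h =>
      hne (Polynomial.eq_of_monic_of_associated hf'm hfm (hfi.associated_of_dvd hf'i h).symm)
    have hd' := hdual f hfm hfi hfd
    rw [hr] at hd'
    have hd'' : cdual (RingHom.id F) f ∣ r := hco.symm.dvd_of_dvd_mul_left hd'
    have hre : cdual (RingHom.id F) f = r := (Polynomial.eq_of_monic_of_dvd_of_natDegree_le hf'm hrm hd''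
      (by rw [natDegree_cdual _ h0, h3', hr3])).symm
    exact field_of_pair g hm hdeg hfi h3' hco (cdual_cdual _ (fun _ => rfl) hfm h0) rfl h0
      (h0of _ (hre ▸ hrd)) (by rw [hre, ← hr]; exact hχ)

end Cfsg.Agent.Classical.TwoCover.SpSix
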