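import Cfsg.Agent.Lib.Classical.TwoClassCoverSpSixCases

/-!
Conjugacy in `Sp₆(q)`, `q` a power of `3`, from bases with equal Gram matrices.
-/

set_option autoImplicit false
set_option linter.unusedSectionVars false

namespace Cfsg.Agent.Classical.TwoCover.SpSix

open Matrix Polynomial Module

variable {F : Type} [Field F] [Fintype F]

theorem ω_sum_left {ι : Type*} (s : Finset ι) (f : ι → I6 → F) (y : I6 → F) :
    ω (∑ i ∈ s, f i) y = ∑ i ∈ s, ω (f i) y := by
  simp only [ω, ← sympB_apply, map_sum, LinearMap.sum_apply]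

/-- Two bases with the same Gram matrix differ by a group element. -/
theorem exists_map {a b : Fin 6 → I6 → F} (ha : LinearIndependent F a)
    (hgram : ∀ i k, ω (b i) (b k) = ω (a i) (a k)) : ∃ X : Sp6 F, ∀ i, mat X *ᵥ a i = b i := by
  classical
  set B := basisOfLinearIndependentOfCardEqFinrank ha (by simp) with hB
  set L := B.constr F b with hL
  have hBa : ∀ i, B i = a i := fun i => by rw [hB, coe_basisOfLinearIndependentOfCardEqFinrank]
  have hLb : ∀ i, L (B i) = b i := fun i => by rw [hL, Basis.constr_basis]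
  have hform : ∀ x y, ω (L x) (L y) = ω x y := by
    intro x y
    have e : (sympB 3 F).comp L L = sympB 3 F := LinearMap.BilinForm.ext_basis B fun i k => by
      rw [LinearMap.BilinForm.comp_apply, sympB_apply, sympB_apply, hLb, hLb, hBa, hBa]
      exact hgram i k
    have := LinearMap.congr_fun (LinearMap.congr_fun e x) y
    rwa [LinearMap.BilinForm.comp_apply, sympB_apply, sympB_apply] at this
  refine ⟨⟨LinearMap.toMatrix' L, mem_symplecticGroup_iff_form.2 fun x y => ?_⟩, fun i => ?_⟩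
  · rw [LinearMap.toMatrix'_mulVec, LinearMap.toMatrix'_mulVec]; exact hform x y
  · show LinearMap.toMatrix' L *ᵥ a i = b i
    rw [LinearMap.toMatrix'_mulVec, ← hBa, hLb]

/-- Conjugation from an intertwiner on a basis. -/
theorem conj_of_basis {g h X : Sp6 F} {a : Fin 6 → I6 → F} (ha : LinearIndependent F a)
    (hX : ∀ i, mat X *ᵥ (mat g *ᵥ a i) = mat h *ᵥ (mat X *ᵥ a i)) : X * g * X⁻¹ = h := by
  classical
  refine mul_inv_eq_of_eq_mul (Subtype.ext ?_)
  refine Matrix.toLin'.injective ((basisOfLinearIndependentOfCardEqFinrank ha (by simp)).ext fun i => ?_)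
  rw [coe_basisOfLinearIndependentOfCardEqFinrank, Matrix.toLin'_apply, Matrix.toLin'_apply]
  show (mat X * mat g) *ᵥ a i = (mat h * mat X) *ᵥ a i
  rw [← mulVec_mulVec, ← mulVec_mulVec]
  exact hX i

/-! ### Cubic fields -/

/-- A frame of a self-adjoint cubic field. -/
theorem exists_field_frame (h20 : (2 : F) ≠ 0) {c : F} (hm : Irreducible (asPoly c)) (hd : (asPoly c).natDegree = 3)
    (j : Matrix I6 I6 F) (hj : aeval j (asPoly c) = 0) (hadj : ∀ x y, ω (j *ᵥ x) y = ω x (j *ᵥ y)) :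
    ∃ a : Fin 6 → I6 → F, LinearIndependent F a ∧
      (∀ i k, ω (a i) (a k) =
        !![(0 : F), 0, 0, 0, 0, 1; 0, 0, 0, 0, 1, 0; 0, 0, 0, 1, 0, 1;
           0, 0, -1, 0, 0, 0; 0, -1, 0, 0, 0, 0; -1, 0, -1, 0, 0, 0] i k) ∧
      (∀ i, j *ᵥ a i = ![a 1, a 2, a 1 + c • a 0, a 4, a 5, a 4 + c • a 3] i) := by
  classical
  obtain ⟨x, hx⟩ : ∃ x : I6 → F, x ≠ 0 := ⟨Pi.single (Sum.inl 0) 1, by simp⟩
  have hj3 : ∀ z, j *ᵥ (j *ᵥ (j *ᵥ z)) = j *ᵥ z + c • z := fun z => by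
    have e : aeval j (asPoly c) *ᵥ z = 0 := by rw [hj, zero_mulVec]
    simp only [asPoly, map_sub, map_mul, aeval_X, aeval_C, Algebra.algebraMap_eq_smul_one, sub_mulVec,
      smul_mulVec, one_mulVec, pow_three, ← mulVec_mulVec] at e
    linear_combination (norm := module) e
  have hsym : ∀ y z : I6 → F, ω y z = -ω z y := fun y z => sympForm_swap y z
  -- the three translates of `x` are independent
  have hindx : ∀ a0 a1 a2 : F, a0 • x + a1 • (j *ᵥ x) + a2 • (j *ᵥ (j *ᵥ x)) = 0 → a0 = 0 ∧ a1 = 0 ∧ a2 = 0 := by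
    intro a0 a1 a2 h
    set P : F[X] := Polynomial.C a0 + Polynomial.C a1 * X + Polynomial.C a2 * X ^ 2 with hP
    have hk : aeval j P *ᵥ x = 0 := by
      rw [← h, hP]
      simp only [map_add, map_mul, map_pow, aeval_C, aeval_X, Algebra.algebraMap_eq_smul_one, add_mulVec,
        smul_mul_assoc, one_mul, smul_mulVec, one_mulVec, sq, mulVec_mulVec]
    have hdvd : asPoly c ∣ P := by
      by_contra hn
      obtain ⟨u, v, huv⟩ := hm.coprime_iff_not_dvd.2 hn
      refine hx ?_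
      rw [← one_mulVec x, ← map_one (aeval (R := F) j), ← huv, map_add, map_mul, map_mul, hj, mul_zero, zero_add,
        ← mulVec_mulVec, hk, mulVec_zero]
    have hz : P = 0 := by
      refine Polynomial.eq_zero_of_dvd_of_natDegree_lt hdvd ?_
      rw [hd, hP]
      refine lt_of_le_of_lt (b := 2) ?_ (by decide)
      compute_degree
    exact ⟨by simpa [-Matrix.mulVec_mulVec, hP] using congrArg (fun Q : F[X] => Q.coeff 0) hz,
      by simpa [-Matrix.mulVec_mulVec, hP] using congrArg (fun Q : F[X] => Q.coeff 1) hz,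
      by simpa [-Matrix.mulVec_mulVec, hP] using congrArg (fun Q : F[X] => Q.coeff 2) hz⟩
  -- prescribed values on the translates
  obtain ⟨y, hy⟩ : ∃ y, ω x y = 0 ∧ ω (j *ᵥ x) y = 0 ∧ ω (j *ᵥ (j *ᵥ x)) y = 1 := by
    let L : (I6 → F) →ₗ[F] (Fin 3 → F) :=
      LinearMap.pi ![sympB 3 F x, sympB 3 F (j *ᵥ x), sympB 3 F (j *ᵥ (j *ᵥ x))]
    have hs : LinearMap.range L = ⊤ := by
      by_contra hne
      obtain ⟨φ, hφ0, hφ⟩ := Submodule.exists_le_ker_of_lt_top _ (lt_top_iff_ne_top.2 hne)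
      set e0 := φ (Pi.single 0 1)
      set e1 := φ (Pi.single 1 1)
      set e2 := φ (Pi.single 2 1)
      have hall : ∀ y, ω (e0 • x + e1 • (j *ᵥ x) + e2 • (j *ᵥ (j *ᵥ x))) y = 0 := fun y => by
        have e : φ (L y) = 0 := hφ (LinearMap.mem_range_self L y)
        rw [pi_eq_sum_univ' (L y)] at e
        simp only [map_sum, map_smul, Fin.sum_univ_three, smul_eq_mul] at e
        simp only [ω, sympForm_add_left, sympForm_smul_left]
        simp [-Matrix.mulVec_mulVec, L, sympB_apply] at e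
        linear_combination e
      obtain ⟨z0, z1, z2⟩ := hindx _ _ _ (eq_zero_of_sympForm_eq_zero hall)
      refine hφ0 (LinearMap.ext fun v => ?_)
      rw [pi_eq_sum_univ' v]
      simp only [map_sum, map_smul, Fin.sum_univ_three, LinearMap.zero_apply]
      simp [-Matrix.mulVec_mulVec, z0, z1, z2, e0, e1, e2] at *
    obtain ⟨y, hy⟩ := LinearMap.range_eq_top.1 hs ![0, 0, 1]
    exact ⟨y, by simpa [-Matrix.mulVec_mulVec, L, sympB_apply] using congrFun hy 0, by simpa [-Matrix.mulVec_mulVec, L, sympB_apply] using congrFun hy 1,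
      by simpa [-Matrix.mulVec_mulVec, L, sympB_apply] using congrFun hy 2⟩
  obtain ⟨y0, y1, y2⟩ := hy
  have h2 : ∀ z, ω z (j *ᵥ z) = 0 ∨ (2 : F) = 0 := fun z => by
    have e : ω z (j *ᵥ z) = -ω z (j *ᵥ z) := by
      conv_lhs => rw [← hadj]
      exact hsym _ _
    exact (mul_eq_zero.1 (show (2 : F) * ω z (j *ᵥ z) = 0 by linear_combination e)).symm
  have s0 : ∀ z : I6 → F, ω z z = 0 := fun z => sympForm_self z
  have s1 : ∀ z, ω z (j *ᵥ z) = 0 := fun z => (h2 z).resolve_right h20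
  have s2 : ∀ z, ω z (j *ᵥ (j *ᵥ z)) = 0 := fun z => by rw [← hadj]; exact s0 _
  have x3 : ω x (j *ᵥ (j *ᵥ (j *ᵥ y))) = 0 := by
    rw [hj3, ω, sympForm_add_right, sympForm_smul_right]
    show ω x (j *ᵥ y) + c * ω x y = 0
    rw [← hadj, y1, y0]; ring
  have x4 : ω x (j *ᵥ (j *ᵥ (j *ᵥ (j *ᵥ y)))) = 1 := by
    rw [hj3, ω, sympForm_add_right, sympForm_smul_right]
    show ω x (j *ᵥ (j *ᵥ y)) + c * ω x (j *ᵥ y) = 1
    rw [← hadj, ← hadj, ← hadj, y2, y1]; ring
  have x1 : ω x (j *ᵥ y) = 0 := by rw [← hadj]; exact y1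
  have x2 : ω x (j *ᵥ (j *ᵥ y)) = 1 := by rw [← hadj, ← hadj]; exact y2
  set a : Fin 6 → I6 → F := ![x, j *ᵥ x, j *ᵥ (j *ᵥ x), y, j *ᵥ y, j *ᵥ (j *ᵥ y)] with ha
  have hG : ∀ i k, ω (a i) (a k) =
        !![(0 : F), 0, 0, 0, 0, 1; 0, 0, 0, 0, 1, 0; 0, 0, 0, 1, 0, 1;
           0, 0, -1, 0, 0, 0; 0, -1, 0, 0, 0, 0; -1, 0, -1, 0, 0, 0] i k := by
    have d3 : ∀ z, ω z (j *ᵥ (j *ᵥ (j *ᵥ z))) = 0 := fun z => by
      rw [hj3, ω, sympForm_add_right, sympForm_smul_right]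
      show ω z (j *ᵥ z) + c * ω z z = 0
      rw [s1, s0]; ring
    have key : ∀ i k : Fin 6, i ≤ k → ω (a i) (a k) =
        !![(0 : F), 0, 0, 0, 0, 1; 0, 0, 0, 0, 1, 0; 0, 0, 0, 1, 0, 1;
           0, 0, -1, 0, 0, 0; 0, -1, 0, 0, 0, 0; -1, 0, -1, 0, 0, 0] i k := by
      intro i k h
      fin_cases i <;> fin_cases k <;> first
        | exact absurd h (by decide)
        | (simp [-Matrix.mulVec_mulVec, ha, s0, s1, s2, d3, x1, x2, x3, x4, y0, y1, y2, hadj])
    intro i k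
    rcases le_total i k with h | h
    · exact key i k h
    · refine (hsym _ _).trans ((congrArg Neg.neg (key k i h)).trans ?_)
      fin_cases i <;> fin_cases k <;> simp
  refine ⟨a, ?_, hG, fun i => ?_⟩
  · rw [Fintype.linearIndependent_iff]
    intro γ hγ
    have hk : ∀ k, ∑ i, γ i * ω (a i) (a k) = 0 := fun k => by
      have e := congrArg (fun z => ω z (a k)) hγ
      simp only [ω_sum_left] at e
      simpa [-Matrix.mulVec_mulVec, ω, sympForm_smul_left] using e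
    have e0 := hk 0
    have e1 := hk 1
    have e2 := hk 2
    have e3 := hk 3
    have e4 := hk 4
    have e5 := hk 5
    simp [-Matrix.mulVec_mulVec, hG, Fin.sum_univ_six] at e0 e1 e2 e3 e4 e5
    intro i
    clear * - e0 e1 e2 e3 e4 e5
    fin_cases i <;> simp_all
  · fin_cases i <;> simp [-Matrix.mulVec_mulVec, ha, hj3]

/-- Self-adjoint roots of the cubic are conjugate. -/
theorem conj_field (h20 : (2 : F) ≠ 0) {c : F} (hm : Irreducible (asPoly c)) (hd : (asPoly c).natDegree = 3)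
    {j j' : Matrix I6 I6 F} (hj : aeval j (asPoly c) = 0) (hadj : ∀ x y, ω (j *ᵥ x) y = ω x (j *ᵥ y))
    (hj' : aeval j' (asPoly c) = 0) (hadj' : ∀ x y, ω (j' *ᵥ x) y = ω x (j' *ᵥ y)) :
    ∃ X : Sp6 F, mat X * j' = j * mat X := by
  obtain ⟨a, ha, hG, hja⟩ := exists_field_frame h20 hm hd j' hj' hadj'
  obtain ⟨b, hb, hH, hjb⟩ := exists_field_frame h20 hm hd j hj hadj
  obtain ⟨X, hX⟩ := exists_map ha (b := b) fun i k => (hH i k).trans (hG i k).symm
  refine ⟨X, Matrix.toLin'.injective ((basisOfLinearIndependentOfCardEqFinrank ha (by simp)).ext fun i => ?_)⟩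
  rw [coe_basisOfLinearIndependentOfCardEqFinrank, Matrix.toLin'_apply, Matrix.toLin'_apply, ← mulVec_mulVec,
    ← mulVec_mulVec, hX, hja, hjb]
  fin_cases i <;> simp [-Matrix.mulVec_mulVec, mulVec_add, mulVec_smul, hX]

/-! ### Cyclic elements -/

theorem ev_mod (g : Sp6 F) {χ : F[X]} (hm : χ.Monic) (hχ : ev g χ = 0) (P : F[X]) :
    ev g (P %ₘ χ) = ev g P := by
  conv_rhs => rw [← Polynomial.modByMonic_add_div P χ, map_add, map_mul, hχ, zero_mul, add_zero]

theorem ev_mulVec_sum (g : Sp6 F) (v : I6 → F) {P : F[X]} (hP : P.natDegree < 6) :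
    ev g P *ᵥ v = ∑ i : Fin 6, P.coeff (i : ℕ) • ((mat g ^ (i : ℕ)) *ᵥ v) := by
  conv_lhs => rw [P.as_sum_range_C_mul_X_pow' hP]
  rw [map_sum, Matrix.sum_mulVec, Finset.sum_range]
  exact Finset.sum_congr rfl fun i _ => by
    rw [map_mul, map_pow, ev_C, ev_X, smul_mul_assoc, one_mul, smul_mulVec]

theorem cyc_indep {g : Sp6 F} {χ : F[X]} (hd : χ.natDegree = 6) {v : I6 → F} (hv : IsCyc g χ v) :
    LinearIndependent F fun i : Fin 6 => (mat g ^ (i : ℕ)) *ᵥ v := by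
  classical
  rw [Fintype.linearIndependent_iff]
  intro γ hγ i
  set P : F[X] := ∑ k : Fin 6, Polynomial.C (γ k) * X ^ (k : ℕ) with hP
  have hdeg : P.natDegree < 6 := by
    refine lt_of_le_of_lt (b := 5) (Polynomial.natDegree_sum_le_of_forall_le _ _ fun k _ => ?_) (by norm_num)
    exact (Polynomial.natDegree_C_mul_X_pow_le _ _).trans (by omega)
  have hk : ev g P *ᵥ v = 0 := by
    rw [← hγ, hP, map_sum, Matrix.sum_mulVec]
    exact Finset.sum_congr rfl fun k _ => by rw [map_mul, map_pow, ev_C, ev_X, smul_mul_assoc, one_mul, smul_mulVec]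
  have hz : P = 0 := Polynomial.eq_zero_of_dvd_of_natDegree_lt (hv.2 P hk) (by omega)
  have e := congrArg (fun Q : F[X] => Q.coeff (i : ℕ)) hz
  simp only [hP, Polynomial.finset_sum_coeff, Polynomial.coeff_C_mul_X_pow, Polynomial.coeff_zero] at e
  rw [Finset.sum_eq_single i (fun k _ hk => by rw [if_neg]; exact fun h => hk (Fin.ext h.symm)) (by simp), if_pos rfl] at e
  exact e

theorem cyc_surj {g : Sp6 F} {χ : F[X]} (hd : χ.natDegree = 6) {v : I6 → F} (hv : IsCyc g χ v) (y : I6 → F) :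
    ∃ P : F[X], ev g P *ᵥ v = y := by
  classical
  set B := basisOfLinearIndependentOfCardEqFinrank (cyc_indep hd hv) (by simp) with hB
  refine ⟨∑ i : Fin 6, Polynomial.C (B.repr y i) * X ^ (i : ℕ), ?_⟩
  conv_rhs => rw [← B.sum_repr y]
  rw [map_sum, Matrix.sum_mulVec]
  exact Finset.sum_congr rfl fun i _ => by
    rw [hB, coe_basisOfLinearIndependentOfCardEqFinrank, map_mul, map_pow, ev_C, ev_X, smul_mul_assoc, one_mul, smul_mulVec]

/-- Cyclic elements with the same form values are conjugate. -/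
theorem conj_of_values {g h : Sp6 F} {χ : F[X]} (hm : χ.Monic) (hd : χ.natDegree = 6) {v w : I6 → F}
    (hv : IsCyc g χ v) (hw : IsCyc h χ w)
    (heq : ∀ P : F[X], ω v (ev g P *ᵥ v) = ω w (ev h P *ᵥ w)) : ∃ X : Sp6 F, X * g * X⁻¹ = h := by
  have hpow : ∀ (k : Sp6 F) (z : I6 → F) (i l : ℕ), i ≤ l →
      ω ((mat k ^ i) *ᵥ z) ((mat k ^ l) *ᵥ z) = ω z ((mat k ^ (l - i)) *ᵥ z) := by
    intro k z i l hil
    conv_lhs => rw [← Nat.add_sub_cancel' hil, pow_add, ← mulVec_mulVec, ← mat_pow, ω]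
    exact sympForm_map (k ^ i) _ _
  obtain ⟨X, hX⟩ := exists_map (cyc_indep hd hv) (b := fun i : Fin 6 => (mat h ^ (i : ℕ)) *ᵥ w) fun i l => by
    have hle : ∀ i l : ℕ, i ≤ l →
        ω ((mat h ^ i) *ᵥ w) ((mat h ^ l) *ᵥ w) = ω ((mat g ^ i) *ᵥ v) ((mat g ^ l) *ᵥ v) := fun i l hil => by
      rw [hpow h w i l hil, hpow g v i l hil]
      have e := heq (Polynomial.X ^ (l - i))
      rw [map_pow, map_pow, ev_X, ev_X] at e
      exact e.symm
    rcases le_total (i : ℕ) (l : ℕ) with hil | hil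
    · exact hle _ _ hil
    · rw [ω, ω, sympForm_swap, sympForm_swap ((mat g ^ (i : ℕ)) *ᵥ v)]
      exact congrArg Neg.neg (hle _ _ hil)
  have hall : ∀ P : F[X], mat X *ᵥ (ev g P *ᵥ v) = ev h P *ᵥ w := by
    intro P
    have hdeg : (P %ₘ χ).natDegree < 6 :=
      hd ▸ Polynomial.natDegree_modByMonic_lt P hm (fun h1 => by rw [h1, natDegree_one] at hd; omega)
    rw [← ev_mod g hm hv.1 P, ← ev_mod h hm hw.1 P, ev_mulVec_sum g v hdeg, ev_mulVec_sum h w hdeg, Matrix.mulVec_sum]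
    exact Finset.sum_congr rfl fun i _ => by rw [mulVec_smul, hX]
  refine ⟨X, conj_of_basis (cyc_indep hd hv) fun i => ?_⟩
  have e1 := hall (Polynomial.X * Polynomial.X ^ (i : ℕ))
  have e2 := hall (Polynomial.X ^ (i : ℕ))
  simp only [map_mul, map_pow, ev_X, ← mulVec_mulVec] at e1 e2
  rw [e1, e2]

/-- Reduction of conjugacy to norms. -/
theorem conj_of_norms (h20 : (2 : F) ≠ 0) {g h : Sp6 F} {χ : F[X]} (hm : χ.Monic) (hd : χ.natDegree = 6)
    {v w : I6 → F} (hv : IsCyc g χ v) (hw : IsCyc h χ w)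
    (hnorm : ∀ c : F[X], ev h (bar h c) = ev h c → (∀ y, ev h c *ᵥ y = 0 → y = 0) →
      (∀ P : F[X], ω v (ev g P *ᵥ v) = ω (ev h c *ᵥ w) (ev h P *ᵥ w)) →
      ∃ R : F[X], ev h (bar h R * R) = ev h c) : ∃ X : Sp6 F, X * g * X⁻¹ = h := by
  classical
  set B := basisOfLinearIndependentOfCardEqFinrank (cyc_indep hd hw) (by simp) with hB
  obtain ⟨z, hz⟩ := exists_vec (B.constr F fun i : Fin 6 => ω v ((mat g ^ (i : ℕ)) *ᵥ v))
  obtain ⟨c, rfl⟩ := cyc_surj hd hw z
  have hφ : ∀ P : F[X], ω v (ev g P *ᵥ v) = ω (ev h c *ᵥ w) (ev h P *ᵥ w) := by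
    intro P
    have hdeg : (P %ₘ χ).natDegree < 6 :=
      hd ▸ Polynomial.natDegree_modByMonic_lt P hm (fun h1 => by rw [h1, natDegree_one] at hd; omega)
    rw [← ev_mod g hm hv.1 P, ← ev_mod h hm hw.1 P, ev_mulVec_sum g v hdeg, ev_mulVec_sum h w hdeg]
    simp only [ω, ← sympB_apply, map_sum, map_smul, smul_eq_mul]
    refine Finset.sum_congr rfl fun i _ => ?_
    congr 1
    rw [sympB_apply, sympB_apply]
    show ω v _ = ω _ _
    rw [hz, show (mat h ^ (i : ℕ)) *ᵥ w = B i by rw [hB, coe_basisOfLinearIndependentOfCardEqFinrank],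
      Basis.constr_basis]
  have hbar : ∀ P : F[X], ev h (bar g P) = ev h (bar h P) := by
    intro P
    have h1 : ev g (X * bar g X - 1) *ᵥ v = 0 := by rw [map_sub, ev_X_mul_bar, map_one, sub_self, zero_mulVec]
    obtain ⟨r, hr⟩ := hv.2 _ h1
    have h2 : mat h * ev h (bar g X) = 1 := by
      rw [← ev_X h, ← map_mul, ← sub_eq_zero, ← ev_one h, ← map_sub, hr, map_mul, hw.1, zero_mul]
    have h3 : ev h (bar g X) = mat h⁻¹ := by
      calc ev h (bar g X) = mat h⁻¹ * (mat h * ev h (bar g X)) := by rw [← mul_assoc, mat_inv_mul, one_mul]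
        _ = _ := by rw [h2, mul_one]
    rw [ev_bar h, bar, ev, Polynomial.aeval_comp]
    congr 1
    rw [← h3, bar, X_comp]
    rfl
  have hsym : ev h (bar h c) = ev h c := by
    have e0 : ev h (bar h c) *ᵥ w = ev h c *ᵥ w := by
      refine sub_eq_zero.1 (eq_zero_of_sympForm_eq_zero fun y => ?_)
      show ω _ y = 0
      rw [ω_sub_left, sub_eq_zero]
      obtain ⟨P, rfl⟩ := cyc_surj hd hw y
      have a1 := hφ (bar g P)
      rw [← adj, hbar, ← adj, show ω (ev g P *ᵥ v) v = -ω v (ev g P *ᵥ v) from sympForm_swap _ _, hφ P,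
        ← ev_mulVec, mul_comm, ev_mulVec,
        show ω (ev h c *ᵥ (ev h P *ᵥ w)) w = -ω (ev h (bar h c) *ᵥ w) (ev h P *ᵥ w) by
          rw [← adj', ω, sympForm_swap], neg_inj] at a1
      exact a1.symm
    have e1 : ev h (bar h c - c) *ᵥ w = 0 := by rw [map_sub, sub_mulVec, e0, sub_self]
    obtain ⟨r, hr⟩ := hw.2 _ e1
    rw [← sub_eq_zero, ← map_sub, hr, map_mul, hw.1, zero_mul]
  have hinj : ∀ y, ev h c *ᵥ y = 0 → y = 0 := by
    intro y hy
    obtain ⟨P, rfl⟩ := cyc_surj hd hw y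
    have e0 : ∀ Q : F[X], ω v (ev g Q *ᵥ (ev g P *ᵥ v)) = 0 := fun Q => by
      rw [← ev_mulVec, hφ, adj, hsym, ← ev_mulVec, ← mul_assoc, mul_comm c Q, mul_assoc, ev_mulVec, ev_mulVec, hy,
        mulVec_zero]
      exact sympForm_zero_right _
    have e1 : ev g P *ᵥ v = 0 := eq_zero_of_ω fun x => by
      obtain ⟨Q, rfl⟩ := cyc_surj hd hv x
      rw [adj]; exact e0 _
    obtain ⟨r, rfl⟩ := hv.2 P e1
    rw [map_mul, hw.1, zero_mul, zero_mulVec]
  obtain ⟨R, hR⟩ := hnorm c hsym hinj hφ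
  have hRinj : ∀ y, ev h R *ᵥ y = 0 → y = 0 := fun y hy => hinj y (by rw [← hR, ev_mulVec, hy, mulVec_zero])
  refine conj_of_values hm hd hv (w := ev h R *ᵥ w) ⟨hw.1, fun P hP => hw.2 P (hRinj _ ?_)⟩ fun P => ?_
  · rw [← ev_mulVec, mul_comm, ev_mulVec]; exact hP
  · rw [hφ, ← hR, ← ev_mulVec h P R, mul_comm P R, ev_mulVec h R P, adj' h R, ← ev_mulVec]

/-- Norms in the case of `(X² - tX + 1)³`. -/
theorem norm_quad [CharP F 3] {h : Sp6 F} {t : F} (ht : t ^ 2 ≠ 4) {w : I6 → F}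
    (hw : IsCyc h ((X ^ 2 - Polynomial.C t * X + 1) ^ 3) w) (c : F[X]) (hsym : ev h (bar h c) = ev h c)
    (hinj : ∀ y, ev h c *ᵥ y = 0 → y = 0) : ∃ R : F[X], ev h (bar h R * R) = ev h c := by
  classical
  have h3 : (3 : F) = 0 := CharP.cast_eq_zero F 3
  have h2 : (2 : F) ≠ 0 := fun h => one_ne_zero (α := F) (by linear_combination h3 - h)
  haveI : CharP F[X] 3 := charP_of_injective_algebraMap (algebraMap F F[X]).injective 3
  set f : F[X] := X ^ 2 - Polynomial.C t * X + 1 with hf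
  set N := pen h t with hN
  have hfN : ev h f = ev h (X * N) := ev_quad h t
  have hN3 : ev h (N ^ 3) = 0 := by
    have e : ev h (X * N) ^ 3 = 0 := by rw [← hfN, ← map_pow]; exact hw.1
    rw [← map_pow, mul_pow, map_mul] at e
    have e' := congrArg (fun M => ev h (bar h X ^ 3) * M) e
    simp only [mul_zero, ← mul_assoc, ← map_mul, ← mul_pow, mul_comm (bar h X) X] at e'
    rwa [mul_pow (X * bar h X), map_mul, map_pow, ev_X_mul_bar, one_pow, one_mul] at e'
  have hfm : f.Monic := by rw [hf]; monicity!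
  have hfd : f.natDegree = 2 := by rw [hf]; compute_degree!
  obtain ⟨α, β, A, hc⟩ : ∃ (α β : F) (A : F[X]),
      ev h c = ev h (Polynomial.C α + Polynomial.C β * X + N * A) := by
    have hlt : (c %ₘ f).natDegree ≤ 1 := by
      have := Polynomial.natDegree_modByMonic_lt c hfm (by intro h1; rw [h1, natDegree_one] at hfd; omega)
      omega
    refine ⟨(c %ₘ f).coeff 0, (c %ₘ f).coeff 1, X * (c /ₘ f), ?_⟩
    conv_lhs => rw [← Polynomial.modByMonic_add_div c f, map_add, Polynomial.eq_X_add_C_of_natDegree_le_one hlt]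
    rw [map_mul _ f, hfN, ← map_mul, ← map_add]
    congr 1
    ring
  have hNbar : ev h (bar h N) = ev h N := pen_adj h t
  have hcbar : ev h c = ev h (Polynomial.C α + Polynomial.C β * bar h X + N * bar h A) := by
    rw [← hsym, ev_bar_congr h hc, bar_add, bar_add, bar_C, bar_mul, bar_mul, bar_C, map_add, map_add,
      map_mul _ (bar h N), hNbar, ← map_mul, ← map_add, ← map_add]
  have hβ : β = 0 := by
    have e : ev h (Polynomial.C β * (X - bar h X)) = ev h (N * (bar h A - A)) := by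
      rw [← sub_eq_zero, ← map_sub]
      have := hc.symm.trans hcbar
      rw [← sub_eq_zero, ← map_sub] at this
      rw [← this]; congr 1; ring
    have e3 : ev h (Polynomial.C (β ^ 3) * (X ^ 3 - bar h X ^ 3)) = 0 := by
      rw [← sub_pow_char, map_pow, ← mul_pow, map_pow, e, ← map_pow, mul_pow, map_mul, hN3, zero_mul]
    by_contra hne
    rw [map_mul, ev_C, smul_mul_assoc, one_mul, smul_eq_zero] at e3
    have h6 := e3.resolve_left (pow_ne_zero 3 hne)
    rw [map_sub, sub_eq_zero] at h6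
    have hsum : ev h (N ^ 3) = ev h (X ^ 3 + bar h X ^ 3 - Polynomial.C (t ^ 3)) := by
      rw [hN, pen, sub_pow_char, add_pow_char, map_pow Polynomial.C]
    rw [hN3, map_sub, map_add, ← h6, ev_C] at hsum
    have hone : ev h (X ^ 3) * ev h (X ^ 3) = 1 := by
      nth_rw 2 [h6]
      rw [← map_mul, ← mul_pow, map_pow, ev_X_mul_bar, one_pow]
    have hX3 : ev h (X ^ 3) = (t ^ 3 / 2) • (1 : Matrix I6 I6 F) := by
      have e2 : (2 : F) • ev h (X ^ 3) = t ^ 3 • (1 : Matrix I6 I6 F) := by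
        rw [two_smul]; exact sub_eq_zero.1 hsum.symm
      rw [div_eq_inv_mul, ← smul_smul, ← e2, smul_smul, inv_mul_cancel₀ h2, one_smul]
    rw [hX3, smul_mul_assoc, one_mul, smul_smul] at hone
    have hsc := congrFun (congrFun hone (Sum.inl 0)) (Sum.inl 0)
    simp only [Matrix.smul_apply, Matrix.one_apply_eq, smul_eq_mul, mul_one] at hsc
    field_simp at hsc
    have h4 : (t ^ 2 - 4) ^ 3 = 0 := by
      linear_combination hsc - (4 * t ^ 4 - 16 * t ^ 2 + 20) * h3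
    exact ht (sub_eq_zero.1 (eq_zero_of_pow_eq_zero h4))
  subst hβ
  have hα : α ≠ 0 := by
    rintro rfl
    simp only [map_zero, zero_mul, zero_add] at hc
    have e : ev h (c ^ 3) = 0 := by rw [map_pow, hc, ← map_pow, mul_pow, map_mul, hN3, zero_mul]
    have hone : ∀ y : I6 → F, y = 0 := fun y =>
      hinj y (hinj _ (hinj _ (by rw [← ev_mulVec, ← ev_mulVec, ← pow_three', e, zero_mulVec])))
    exact absurd (congrFun (hone (Pi.single (Sum.inl 0) 1)) (Sum.inl 0)) (by simp)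
  obtain ⟨a, b, hab⟩ : ∃ a b : F, a * a + t * a * b + b * b = α := by
    have hd : (1 : F) - t ^ 2 ≠ 0 := fun e => ht (by linear_combination -e - h3)
    obtain ⟨a, b, hab⟩ := FiniteField.exists_root_sum_quadratic (f := (X ^ 2 - Polynomial.C α : F[X]))
      (g := Polynomial.C (1 - t ^ 2) * X ^ 2) (by
        rw [Polynomial.degree_X_pow_sub_C (by norm_num)]; rfl) (by
        rw [Polynomial.degree_C_mul_X_pow _ hd]; rfl)
      (FiniteField.odd_card_of_char_ne_two (fun e => h2 (by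
        haveI := ringChar.of_eq e
        exact CharP.cast_eq_zero F 2)))
    simp only [eval_sub, eval_pow, eval_X, eval_C, eval_mul] at hab
    exact ⟨a + t * b, b, by linear_combination hab + (t * a * b + t ^ 2 * b ^ 2) * h3⟩
  have hCα : Polynomial.C α * Polynomial.C α⁻¹ = (1 : F[X]) := by rw [← map_mul, mul_inv_cancel₀ hα, map_one]
  obtain ⟨Z, hZ⟩ : ∃ Z, Z = Polynomial.C α⁻¹ * (N * A) := ⟨_, rfl⟩
  obtain ⟨Y, hY⟩ : ∃ Y, Y = Polynomial.C (α⁻¹ * (a * b)) * N := ⟨_, rfl⟩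
  have hcZ : ev h c = ev h (Polynomial.C α * (1 + Z)) := by
    rw [hc, hZ, mul_add, mul_one, ← mul_assoc (Polynomial.C α), hCα, one_mul, map_zero, zero_mul, add_zero]
  have hZ3 : ev h (Z ^ 3) = 0 := by
    rw [hZ, mul_pow, mul_pow, map_mul, map_mul, hN3, zero_mul, mul_zero]
  have hY3 : ev h (Y ^ 3) = 0 := by rw [hY, mul_pow, map_mul, hN3, mul_zero]
  have hZbar : ev h (bar h Z) = ev h Z := by
    have e := hcbar
    rw [hc] at e
    simp only [map_zero, zero_mul, add_zero, map_add, add_right_inj] at e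
    rw [hZ, bar_mul, bar_C, bar_mul, map_mul, map_mul _ (bar h N), hNbar, ← map_mul _ N, ← e, ← map_mul]
  have hYbar : ev h (bar h Y) = ev h Y := by rw [hY, bar_mul, bar_C, map_mul, hNbar, ← map_mul]
  set S := (1 - Z + Z ^ 2) * (1 + Y) with hS
  have hSbar : ev h (bar h S) = ev h S := by
    rw [hS, bar_mul, bar_add, bar_sub, bar_add, bar_one, sq, bar_mul, map_mul, map_add, map_sub, map_mul,
      map_add _ 1, hZbar, hYbar, ← map_mul, ← map_sub, ← map_add, ← map_add, ← map_mul]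
  set R0 := Polynomial.C a + Polynomial.C b * X with hR0
  have hn0 : ev h (bar h R0 * R0) = ev h (Polynomial.C α * (1 + Y)) := by
    have e : bar h R0 * R0 = Polynomial.C (a * a) + Polynomial.C (a * b) * (N + Polynomial.C t) +
        Polynomial.C (b * b) * (X * bar h X) := by
      rw [hR0, bar_add, bar_mul, bar_C, bar_C, hN, pen, map_mul, map_mul, map_mul]
      ring
    rw [e, map_add, map_mul _ (Polynomial.C (b * b)), ev_X_mul_bar, mul_one, ← map_add]
    congr 1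
    have e' : Polynomial.C α * (1 + Y) = Polynomial.C α + Polynomial.C (a * b) * N := by
      rw [hY, mul_add, mul_one, map_mul Polynomial.C α⁻¹, ← mul_assoc, ← mul_assoc, hCα, one_mul]
    rw [e', ← hab]
    simp only [map_add, map_mul]
    ring
  refine ⟨R0 * S, ?_⟩
  rw [bar_mul, show bar h R0 * bar h S * (R0 * S) = bar h R0 * R0 * (bar h S * S) by ring, map_mul, hn0,
    map_mul _ (bar h S), hSbar, ← map_mul, ← map_mul, hcZ]
  have e2 : Polynomial.C α * (1 + Y) * (S * S) =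
      Polynomial.C α * (1 + Z) + Polynomial.C α * ((1 + Z) * Y ^ 3 + (1 + Y ^ 3) * (Z - 2) * Z ^ 3) +
        (3 : F[X]) * (Polynomial.C α * (Z ^ 2 - Z) * (1 + Y ^ 3)) +
        (3 : F[X]) * (Polynomial.C α * (Y + Y ^ 2) * (1 - Z + Z ^ 2) ^ 2) := by
    rw [hS]; ring
  rw [e2, show (3 : F[X]) = 0 from CharP.cast_eq_zero F[X] 3]
  simp only [zero_mul, add_zero, map_add, map_mul, hY3, hZ3, mul_zero, zero_mul, add_zero]

/-- Norms in the unipotent case. -/
theorem norm_unip [CharP F 3] {g h : Sp6 F} {v w : I6 → F} (hw : IsCyc h ((X - 1) ^ 6) w)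
    (hne : ω w (ev h ((X - 1 : F[X]) ^ 5) *ᵥ w) ≠ 0)
    (heq : ω v (ev g ((X - 1 : F[X]) ^ 5) *ᵥ v) = ω w (ev h ((X - 1 : F[X]) ^ 5) *ᵥ w))
    (c : F[X]) (hsym : ev h (bar h c) = ev h c)
    (hφ : ∀ P : F[X], ω v (ev g P *ᵥ v) = ω (ev h c *ᵥ w) (ev h P *ᵥ w)) :
    ∃ R : F[X], ev h (bar h R * R) = ev h c := by
  haveI : CharP F[X] 3 := charP_of_injective_algebraMap (algebraMap F F[X]).injective 3
  obtain ⟨A, hA⟩ : (X - 1 : F[X]) ∣ c - Polynomial.C (c.eval 1) := by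
    rw [← map_one (Polynomial.C (R := F)), Polynomial.dvd_iff_isRoot]
    simp [-Matrix.mulVec_mulVec, IsRoot.def]
  set c1 := c.eval 1
  have hbarX : ev h (bar h (X - 1)) = ev h (-(bar h X * (X - 1))) := by
    rw [bar_sub, bar_one, map_neg, mul_sub, mul_one, map_sub, map_sub, mul_comm, ev_X_mul_bar, map_one, neg_sub]
  have hc1 : c1 = 1 := by
    have e := hφ ((X - 1) ^ 5)
    rw [heq, show c = Polynomial.C c1 + A * (X - 1) by linear_combination hA, map_add, add_mulVec, ω, ω,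
      sympForm_add_left, ev_C, smul_mulVec, one_mulVec, sympForm_smul_left] at e
    have z : ω (ev h (A * (X - 1)) *ᵥ w) (ev h ((X - 1 : F[X]) ^ 5) *ᵥ w) = 0 := by
      rw [adj, bar_mul, map_mul, hbarX, ← map_mul, ← ev_mulVec,
        show bar h A * -(bar h X * (X - 1)) * (X - 1) ^ 5 = -(bar h A * bar h X) * (X - 1) ^ 6 by ring,
        map_mul, hw.1, mul_zero, zero_mulVec]
      exact sympForm_zero_right _
    simp only [ω] at z hne
    rw [z, add_zero] at e
    exact (mul_eq_right₀ hne).1 e.symm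
  set Z := c - 1 with hZ
  have hZbar : ev h (bar h Z) = ev h Z := by rw [hZ, bar_sub, bar_one, map_sub, hsym, ← map_sub]
  have hZ9 : ev h (Z ^ 9) = 0 := by
    rw [hZ, show c - 1 = A * (X - 1) by
      rw [hc1, map_one] at hA; linear_combination hA, mul_pow, map_mul,
      show (X - 1 : F[X]) ^ 9 = (X - 1) ^ 6 * (X - 1) ^ 3 by ring, map_mul _ ((X - 1 : F[X]) ^ 6), hw.1,
      zero_mul, mul_zero]
  refine ⟨(1 + Z) ^ 5, ?_⟩
  rw [map_mul, show bar h ((1 + Z) ^ 5) = bar h (1 + Z) ^ 5 from pow_comp _ _ _, bar_add, bar_one, map_pow,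
    map_add, hZbar, ← map_add, ← map_pow, ← map_mul, ← pow_add, show (5 : ℕ) + 5 = 3 ^ 2 + 1 from rfl, pow_succ,
    add_pow_char_pow, one_pow, map_mul, map_add, show (3 : ℕ) ^ 2 = 9 from rfl, hZ9, map_one, add_zero, one_mul,
    hZ, add_sub_cancel]

/-- A frame for type `3 + 3`. -/
theorem exists_frame_three (h20 : (2 : F) ≠ 0) [CharP F 3] (g : Sp6 F)
    (h3 : ev g ((X - 1 : F[X]) ^ 3) = 0) (h2 : ev g ((X - 1 : F[X]) ^ 2) ≠ 0) :
    ∃ a : Fin 6 → I6 → F, LinearIndependent F a ∧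
      (∀ i k, ω (a i) (a k) =
        !![(0 : F), 0, 0, 0, 0, 1; 0, 0, 0, 1, -1, 0; 0, 0, 0, 1, 0, 0;
           0, -1, -1, 0, 0, 0; 0, 1, 0, 0, 0, 0; -1, 0, 0, 0, 0, 0] i k) ∧
      (∀ i, mat g *ᵥ a i = ![a 0 + a 1, a 1 + a 2, a 2, a 3 + a 4, a 4 + a 5, a 5] i) := by
  classical
  have h33 : (3 : F) = 0 := CharP.cast_eq_zero F 3
  set N := ev g (X - 1 : F[X]) with hN
  have hNk : ∀ k, ev g ((X - 1 : F[X]) ^ k) = N ^ k := fun k => map_pow _ _ _
  have hNg : N = mat g - 1 := by rw [hN, map_sub, map_one, ev_X]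
  have n3 : ∀ z, N *ᵥ (N *ᵥ (N *ᵥ z)) = 0 := fun z => by
    rw [mulVec_mulVec, mulVec_mulVec, ← pow_three', ← hNk, h3, zero_mulVec]
  have hgz : ∀ z, mat g *ᵥ z = z + N *ᵥ z := fun z => by rw [hNg, sub_mulVec, one_mulVec]; abel
  have adjN : ∀ y z, ω (N *ᵥ y) z = -ω y (N *ᵥ z) + ω y (N *ᵥ (N *ᵥ z)) := by
    intro y z
    have e : mat g⁻¹ *ᵥ z = z - N *ᵥ z + N *ᵥ (N *ᵥ z) := by
      have h1 : mat g *ᵥ (z - N *ᵥ z + N *ᵥ (N *ᵥ z)) = z := by
        rw [hgz, mulVec_add, mulVec_sub, n3]; abel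
      conv_lhs => rw [← h1, inv_apply]
    rw [hN, adj, bar_sub, bar_one, map_sub, bar_X, map_one, sub_mulVec, one_mulVec, ← hN, e]
    simp only [ω, sympForm_sub_right, sympForm_add_right]
    ring
  have hsym : ∀ y z : I6 → F, ω y z = -ω z y := fun y z => sympForm_swap y z
  have hN2 : ∀ y z, ω (N *ᵥ (N *ᵥ y)) z = ω y (N *ᵥ (N *ᵥ z)) := by
    intro y z
    simp only [adjN, n3, mulVec_zero, ω, sympForm_zero_right]
    ring
  have dbl : ∀ {r : F}, r = -r → r = 0 := fun {r} h =>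
    (mul_eq_zero.1 (show (2 : F) * r = 0 by linear_combination h)).resolve_left h20
  have sB : ∀ y, ω y (N *ᵥ (N *ᵥ y)) = 0 := fun y => dbl (by nth_rw 1 [← hN2]; exact hsym _ _)
  obtain ⟨y₀, x₀, hxy₀⟩ : ∃ y x, ω x (N *ᵥ (N *ᵥ y)) ≠ 0 := by
    by_contra h
    push Not at h
    refine h2 (Matrix.ext_iff_mulVec.2 fun y => ?_)
    rw [zero_mulVec, hNk, sq, ← mulVec_mulVec]
    exact eq_zero_of_ω fun x => h y x
  obtain ⟨y, hxy⟩ : ∃ y, ω x₀ (N *ᵥ (N *ᵥ y)) = 1 :=
    ⟨(ω x₀ (N *ᵥ (N *ᵥ y₀)))⁻¹ • y₀, by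
      simp only [mulVec_smul, ω, sympForm_smul_right]; exact inv_mul_cancel₀ hxy₀⟩
  have hNyy : ∀ z, ω (N *ᵥ z) (N *ᵥ (N *ᵥ z)) = 0 := fun z => by
    rw [adjN, n3, mulVec_zero]; simp [-Matrix.mulVec_mulVec, ω]
  -- make the chain of `x` totally isotropic
  obtain ⟨x, hx1, hx2⟩ : ∃ x, ω x (N *ᵥ x) = 0 ∧ ω x (N *ᵥ (N *ᵥ y)) = 1 := by
    refine ⟨x₀ + ω x₀ (N *ᵥ x₀) • (N *ᵥ y), ?_, ?_⟩
    · have a1 : ω (N *ᵥ y) (N *ᵥ x₀) = 1 := by
        rw [adjN, n3]
        have : ω y (N *ᵥ (N *ᵥ x₀)) = -1 := by rw [← hN2, hsym, hxy]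
        simp [-Matrix.mulVec_mulVec, ω] at this ⊢; linear_combination -this
      simp only [mulVec_add, mulVec_smul, ω, sympForm_add_left, sympForm_add_right, sympForm_smul_left,
        sympForm_smul_right] at *
      linear_combination (sympForm 3 F x₀ (N *ᵥ x₀)) * (hxy + a1 + h33 * 0) +
        (sympForm 3 F x₀ (N *ᵥ x₀)) * h33 + (sympForm 3 F x₀ (N *ᵥ x₀)) ^ 2 * hNyy y
    · have a0 := hNyy y
      simp only [ω, sympForm_add_left, sympForm_smul_left] at *
      linear_combination hxy + (sympForm 3 F x₀ (N *ᵥ x₀)) * a0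
  clear hxy hxy₀ x₀
  -- isotropise the chain of `y`
  obtain ⟨y', hy1, hxy'⟩ : ∃ y', ω y' (N *ᵥ y') = 0 ∧ ω x (N *ᵥ (N *ᵥ y')) = 1 := by
    refine ⟨y + (-ω y (N *ᵥ y)) • (N *ᵥ x), ?_, ?_⟩
    · have a1 : ω y (N *ᵥ (N *ᵥ x)) = -1 := by rw [← hN2, hsym, hx2]
      have a2 : ω (N *ᵥ x) (N *ᵥ y) = -1 := by
        rw [adjN, n3]; simp [-Matrix.mulVec_mulVec, ω] at hx2 ⊢; linear_combination hx2
      have a3 := hNyy x
      simp only [mulVec_add, mulVec_smul, ω, sympForm_add_left, sympForm_add_right, sympForm_smul_left,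
        sympForm_smul_right] at *
      linear_combination (-(sympForm 3 F y (N *ᵥ y))) * (a1 + a2) + (sympForm 3 F y (N *ᵥ y)) ^ 2 * a3 +
        (sympForm 3 F y (N *ᵥ y)) * h33
    · simp only [mulVec_add, mulVec_smul, n3, smul_zero, add_zero, hx2]
  clear hx2 y
  -- clear the mixed products
  obtain ⟨y, hy, hxy0, hxy1, hxy2⟩ : ∃ y, ω y (N *ᵥ y) = 0 ∧ ω x y = 0 ∧ ω x (N *ᵥ y) = 0 ∧
      ω x (N *ᵥ (N *ᵥ y)) = 1 := by
    set s := -ω x (N *ᵥ y') with hs
    set u := -ω x y' - s * ω x (N *ᵥ y') with hu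
    refine ⟨y' + s • (N *ᵥ y') + u • (N *ᵥ (N *ᵥ y')), ?_, ?_, ?_, ?_⟩
    · have b1 := sB y'
      have b2 := hNyy y'
      have b3 : ω (N *ᵥ y') (N *ᵥ y') = 0 := sympForm_self _
      have b4 : ω (N *ᵥ (N *ᵥ y')) (N *ᵥ y') = 0 := by rw [hN2, n3]; exact sympForm_zero_right _
      have b5 : ω (N *ᵥ (N *ᵥ y')) (N *ᵥ (N *ᵥ y')) = 0 := sympForm_self _
      simp only [mulVec_add, mulVec_smul, n3, smul_zero, add_zero, ω, sympForm_add_left, sympForm_add_right,
        sympForm_smul_left, sympForm_smul_right, mulVec_zero, sympForm_zero_right] at *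
      linear_combination hy1 + s * b1 + s * b3 + s ^ 2 * b2 + u * b4 + u * s * b5
    · simp only [ω, sympForm_add_right, sympForm_smul_right] at *
      rw [hxy']; ring
    · simp only [mulVec_add, mulVec_smul, n3, smul_zero, add_zero, ω, sympForm_add_right, sympForm_smul_right] at *
      rw [hxy']; ring
    · simp only [mulVec_add, mulVec_smul, n3, mulVec_zero, smul_zero, add_zero]
      exact hxy'
  clear hy1 hxy' y'
  have b2 : ω y (N *ᵥ (N *ᵥ x)) = -1 := by rw [← hN2, hsym, hxy2]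
  have b1 : ω y (N *ᵥ x) = -1 := by
    rw [hsym, adjN, hxy1, hxy2]; ring
  set a : Fin 6 → I6 → F := ![x, N *ᵥ x, N *ᵥ (N *ᵥ x), y, N *ᵥ y, N *ᵥ (N *ᵥ y)] with ha
  have hG : ∀ i k, ω (a i) (a k) =
        !![(0 : F), 0, 0, 0, 0, 1; 0, 0, 0, 1, -1, 0; 0, 0, 0, 1, 0, 0;
           0, -1, -1, 0, 0, 0; 0, 1, 0, 0, 0, 0; -1, 0, 0, 0, 0, 0] i k := by
    intro i k
    have z0 : ∀ u : I6 → F, ω u 0 = 0 := fun u => sympForm_zero_right _
    have z1 : ∀ u : I6 → F, ω u u = 0 := fun u => sympForm_self _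
    have key : ∀ i k : Fin 6, i ≤ k → ω (a i) (a k) =
        !![(0 : F), 0, 0, 0, 0, 1; 0, 0, 0, 1, -1, 0; 0, 0, 0, 1, 0, 0;
           0, -1, -1, 0, 0, 0; 0, 1, 0, 0, 0, 0; -1, 0, 0, 0, 0, 0] i k := by
      intro i k h
      fin_cases i <;> fin_cases k <;> first
        | exact absurd h (by decide)
        | (simp [-Matrix.mulVec_mulVec, ha, adjN, hN2, n3, mulVec_zero, z0, z1, sB, hx1, hy, hxy0, hxy1, hxy2, b2, b1])
    rcases le_total i k with h | h
    · exact key i k h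
    · refine (hsym _ _).trans ((congrArg Neg.neg (key k i h)).trans ?_)
      fin_cases i <;> fin_cases k <;> simp
  refine ⟨a, ?_, hG, fun i => ?_⟩
  · rw [Fintype.linearIndependent_iff]
    intro γ hγ
    have hk : ∀ k, ∑ i, γ i * ω (a i) (a k) = 0 := fun k => by
      have e := congrArg (fun z => ω z (a k)) hγ
      simp only [ω_sum_left] at e
      simpa [-Matrix.mulVec_mulVec, ω, sympForm_smul_left] using e
    have e0 := hk 0
    have e1 := hk 1
    have e2 := hk 2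
    have e3 := hk 3
    have e4 := hk 4
    have e5 := hk 5
    simp [-Matrix.mulVec_mulVec, hG, Fin.sum_univ_six] at e0 e1 e2 e3 e4 e5
    intro i
    clear * - e0 e1 e2 e3 e4 e5
    fin_cases i <;> simp_all
  · fin_cases i <;> simp [-Matrix.mulVec_mulVec, ha, hgz, n3]

/-- Elements of type `3 + 3` are conjugate. -/
theorem conj_three (h20 : (2 : F) ≠ 0) [CharP F 3] (g h : Sp6 F)
    (g3 : ev g ((X - 1 : F[X]) ^ 3) = 0) (g2 : ev g ((X - 1 : F[X]) ^ 2) ≠ 0)
    (k3 : ev h ((X - 1 : F[X]) ^ 3) = 0) (k2 : ev h ((X - 1 : F[X]) ^ 2) ≠ 0) :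
    ∃ X : Sp6 F, X * g * X⁻¹ = h := by
  obtain ⟨a, ha, hG, hga⟩ := exists_frame_three h20 g g3 g2
  obtain ⟨b, hb, hH, hhb⟩ := exists_frame_three h20 h k3 k2
  obtain ⟨X, hX⟩ := exists_map ha (b := b) fun i k => (hH i k).trans (hG i k).symm
  refine ⟨X, conj_of_basis ha fun i => ?_⟩
  rw [hga, hX, hhb]
  fin_cases i <;> simp [-Matrix.mulVec_mulVec, mulVec_add, hX]

end Cfsg.Agent.Classical.TwoCover.SpSix
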