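import Cfsg.Agent.Lib.Classical.TwoClassCoverAux
import Cfsg.Agent.Lib.Classical.Symp
import Cfsg.Prelude.Def_Classical

/-!
`PSp_{2m}(q)`, `q` even, is the union of the conjugates of the stabilisers of two quadratic forms:
the forms `Q₀ + B(a, ·)²` are permuted, each element fixes one, and two of them are moved to one
another by a transvection as soon as `Q₀(a)` agree modulo the values `c² + c`.
-/

set_option autoImplicit false
set_option linter.unusedSectionVars false

namespace Cfsg.Agent.Classical.TwoCover.Symp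

open Matrix

variable {F : Type} [Field F] [Fintype F] [CharP F 2] {m : ℕ}

/-- The split quadratic form. -/
def q0 (x : Fin m ⊕ Fin m → F) : F := ∑ i, x (Sum.inl i) * x (Sum.inr i)

/-- The shifted quadratic forms. -/
def qForm (a x : Fin m ⊕ Fin m → F) : F := q0 x + sympForm m F a x ^ 2

theorem sympForm_comm (u v : Fin m ⊕ Fin m → F) : sympForm m F u v = sympForm m F v u := by
  rw [sympForm_swap, CharTwo.neg_eq]

theorem q0_add (x y : Fin m ⊕ Fin m → F) : q0 (x + y) = q0 x + q0 y + sympForm m F x y := by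
  rw [sympForm_eq_sum, q0, q0, q0, ← Finset.sum_add_distrib, ← Finset.sum_add_distrib]
  refine Finset.sum_congr rfl fun i _ => ?_
  simp only [Pi.add_apply, CharTwo.sub_eq_add]
  ring

theorem q0_smul (c : F) (x : Fin m ⊕ Fin m → F) : q0 (c • x) = c ^ 2 * q0 x := by
  rw [q0, q0, Finset.mul_sum]
  refine Finset.sum_congr rfl fun i _ => ?_
  simp only [Pi.smul_apply, smul_eq_mul]
  ring

theorem qForm_add (a x y : Fin m ⊕ Fin m → F) :
    qForm a (x + y) = qForm a x + qForm a y + sympForm m F x y := by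
  rw [qForm, qForm, qForm, q0_add, sympForm_add_right, CharTwo.add_sq]
  ring

theorem qForm_smul (a x : Fin m ⊕ Fin m → F) (c : F) : qForm a (c • x) = c ^ 2 * qForm a x := by
  rw [qForm, qForm, q0_smul, sympForm_smul_right]
  ring

/-- The matrix of a group element. -/
local notation "mat" g:max => ((g : Matrix.symplecticGroup (Fin m) F) : Matrix (Fin m ⊕ Fin m) (Fin m ⊕ Fin m) F)

/-- The stabiliser of a form. -/
def qStab (a : Fin m ⊕ Fin m → F) : Subgroup (Matrix.symplecticGroup (Fin m) F) where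
  carrier := {g | ∀ x, qForm a (mat g *ᵥ x) = qForm a x}
  one_mem' := fun x => by simp
  mul_mem' := by
    intro g h hg hh x
    rw [Submonoid.coe_mul, ← Matrix.mulVec_mulVec, hg, hh]
  inv_mem' := by
    intro g hg x
    rw [← hg (mat g⁻¹ *ᵥ x), Matrix.mulVec_mulVec, ← Submonoid.coe_mul, mul_inv_cancel]
    simp

theorem center_le (a : Fin m ⊕ Fin m → F) :
    Subgroup.center (Matrix.symplecticGroup (Fin m) F) ≤ qStab a := by
  intro z hz
  obtain ⟨l, hl, hl'⟩ := eq_scalar_of_commute_sympTv z fun v => (Subgroup.mem_center_iff.1 hz _).symm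
  intro x
  rcases eq_or_ne m 0 with rfl | hm
  · congr 1; funext i; exact (IsEmpty.false i).elim
  · rw [hl' hm, Matrix.smul_mulVec, Matrix.one_mulVec, qForm_smul, hl, one_mul]

/-- A transvection moves one form to the other. -/
theorem exists_move (a b : Fin m ⊕ Fin m → F) (h : ∃ c, c ^ 2 + c = q0 a + q0 b) :
    ∃ t : Matrix.symplecticGroup (Fin m) F, ∀ x, qForm a (mat t *ᵥ x) = qForm b x := by
  obtain ⟨w, rfl⟩ : ∃ w, b = a + w := ⟨b - a, by abel⟩
  obtain ⟨s, hs⟩ := h
  have h2 : (2 : F) = 0 := CharTwo.two_eq_zero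
  set Q := qForm a w with hQ
  set s' := s + sympForm m F a w with hs'
  have hsQ : s' ^ 2 + s' = Q := by
    rw [q0_add] at hs
    rw [hs', hQ, qForm, CharTwo.add_sq]
    linear_combination hs + (q0 a + sympForm m F a w) * h2
  obtain ⟨c, hc⟩ : ∃ c : F, c + c ^ 2 * Q = 1 := by
    by_cases hQ0 : Q = 0
    · exact ⟨1, by simp [hQ0]⟩
    · refine ⟨s' / Q, ?_⟩
      field_simp
      linear_combination hsQ
  refine ⟨sympTv w c, fun x => ?_⟩
  show qForm a (sympTransvection m w c *ᵥ x) = _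
  rw [sympTransvection_mulVec, qForm_add, qForm_smul, sympForm_smul_right]
  have e : qForm (a + w) x = qForm a x + sympForm m F x w ^ 2 := by
    rw [qForm, qForm, sympForm_add_left, CharTwo.add_sq, sympForm_comm w x]
    ring
  rw [e, ← hQ]
  linear_combination sympForm m F x w ^ 2 * hc

theorem form_injective {a b : Fin m ⊕ Fin m → F} (h : ∀ x, qForm a x = qForm b x) : a = b := by
  refine sub_eq_zero.1 (eq_zero_of_sympForm_eq_zero fun x => ?_)
  rw [sympForm_sub_left, sub_eq_zero]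
  exact CharTwo.sq_inj.1 (add_left_cancel (h x))

theorem qStab_ne_top (a b : Fin m ⊕ Fin m → F) (hab : a ≠ b) (h : ∃ c, c ^ 2 + c = q0 a + q0 b) :
    qStab a ≠ ⊤ := by
  intro e
  obtain ⟨t, ht⟩ := exists_move a b h
  have ht' : t ∈ qStab a := e ▸ Subgroup.mem_top t
  exact hab (form_injective fun x => (ht' x).symm.trans (ht x))

/-- Every element fixes a form. -/
theorem exists_fixed (g : Matrix.symplecticGroup (Fin m) F) : ∃ a, g ∈ qStab a := by
  classical
  set T : (Fin m ⊕ Fin m → F) →ₗ[F] (Fin m ⊕ Fin m → F) := Matrix.toLin' (mat g) - LinearMap.id with hT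
  have hbij : Function.Bijective fun t : F => t ^ 2 := by
    rw [← Finite.injective_iff_bijective]
    exact fun x y hxy => CharTwo.sq_inj.1 hxy
  choose r hr' using hbij.2
  have hr : ∀ b, r b ^ 2 = b := hr'
  have hadd : ∀ x y, q0 (mat g *ᵥ (x + y)) + q0 (x + y) =
      (q0 (mat g *ᵥ x) + q0 x) + (q0 (mat g *ᵥ y) + q0 y) := fun x y => by
    rw [Matrix.mulVec_add, q0_add, q0_add, sympForm_map]
    linear_combination sympForm m F x y * (CharTwo.two_eq_zero : (2 : F) = 0)
  let ℓ : (Fin m ⊕ Fin m → F) →ₗ[F] F :=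
    { toFun := fun x => r (q0 (mat g *ᵥ x) + q0 x)
      map_add' := fun x y => hbij.1 (by
        show r _ ^ 2 = (r _ + r _) ^ 2
        rw [CharTwo.add_sq, hr, hr, hr, hadd])
      map_smul' := fun c x => hbij.1 (by
        show r _ ^ 2 = (c * r _) ^ 2
        rw [mul_pow, hr, hr, Matrix.mulVec_smul, q0_smul, q0_smul]
        ring) }
  obtain ⟨μ, hμ⟩ := exists_functional T ℓ (fun x hx => hbij.1 (by
    show r _ ^ 2 = (0 : F) ^ 2
    have : mat g *ᵥ x = x := by
      rw [hT, LinearMap.sub_apply, Matrix.toLin'_apply, LinearMap.id_apply, sub_eq_zero] at hx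
      exact hx
    rw [hr, this, CharTwo.add_self_eq_zero, zero_pow two_ne_zero]))
  set a : Fin m ⊕ Fin m → F :=
    Sum.elim (fun i => μ (Pi.single (Sum.inr i) 1)) (fun i => μ (Pi.single (Sum.inl i) 1)) with ha
  have hB : ∀ x, sympForm m F a x = μ x := fun x => by
    conv_rhs => rw [pi_eq_sum_univ' x]
    rw [sympForm_eq_sum, Fintype.sum_sum_type, map_add, map_sum, map_sum, ← Finset.sum_add_distrib]
    refine Finset.sum_congr rfl fun i _ => ?_
    simp only [ha, Sum.elim_inl, Sum.elim_inr, CharTwo.sub_eq_add, map_smul, smul_eq_mul]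
    ring
  refine ⟨a, fun x => ?_⟩
  have e1 : sympForm m F a (mat g *ᵥ x) = sympForm m F a x + ℓ x := by
    rw [hB, hB, ← hμ x, hT, LinearMap.sub_apply, Matrix.toLin'_apply, LinearMap.id_apply, map_sub]
    ring
  have e2 : ℓ x ^ 2 = q0 (mat g *ᵥ x) + q0 x := hr _
  rw [qForm, qForm, e1, CharTwo.add_sq, e2]
  linear_combination q0 (mat g *ᵥ x) * (CharTwo.two_eq_zero : (2 : F) = 0)

/-- `PSp_{2m}(q)`, `q` even. -/
theorem hasTwoCover (hm : 2 ≤ m) : HasTwoCover (PSp m F) := by
  classical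
  obtain ⟨ν, -, hν⟩ := exists_artinSchreier F
  set i0 : Fin m := ⟨0, by omega⟩ with hi0
  set i1 : Fin m := ⟨1, by omega⟩ with hi1
  set a1 : Fin m ⊕ Fin m → F := Pi.single (Sum.inl i0) 1 + Pi.single (Sum.inr i0) ν with ha1
  set b1 : Fin m ⊕ Fin m → F := Pi.single (Sum.inl i1) 1 + Pi.single (Sum.inr i1) ν with hb1
  have hval : ∀ j : Fin m, q0 (Pi.single (Sum.inl j) (1 : F) + Pi.single (Sum.inr j) ν) = ν := fun j => by
    rw [q0, Finset.sum_eq_single j]
    · simp
    · intro k _ hk; simp [hk]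
    · simp
  have h01 : i0 ≠ i1 := by simp [hi0, hi1]
  refine HasTwoCover.center (H := qStab 0) (K := qStab a1) ?_ ?_ (center_le _) (center_le _) fun g => ?_
  · refine qStab_ne_top 0 (Pi.single (Sum.inl i0) 1) ?_ ⟨0, ?_⟩
    · intro h
      simpa using congrFun h (Sum.inl i0)
    · rw [show q0 (Pi.single (Sum.inl i0) (1 : F)) = 0 from Finset.sum_eq_zero fun k _ => by simp]
      simp [q0]
  · refine qStab_ne_top a1 b1 (fun h => ?_) ⟨0, ?_⟩
    · simpa [ha1, hb1, h01] using congrFun h (Sum.inl i0)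
    · rw [hval, hval, CharTwo.add_self_eq_zero]; simp
  · obtain ⟨a, ha⟩ := exists_fixed g
    obtain ⟨a', ha', h⟩ : ∃ a', (a' = 0 ∨ a' = a1) ∧ ∃ c, c ^ 2 + c = q0 a + q0 a' := by
      rcases hν (q0 a) with h | h
      · exact ⟨0, Or.inl rfl, by simpa [q0] using h⟩
      · exact ⟨a1, Or.inr rfl, by rwa [hval]⟩
    obtain ⟨t, ht⟩ := exists_move a a' h
    refine ⟨t⁻¹, ?_⟩
    have hmem : t⁻¹ * g * t⁻¹⁻¹ ∈ qStab a' := fun x => by
      rw [← ht, inv_inv, Matrix.mulVec_mulVec, ← Submonoid.coe_mul,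
        show t * (t⁻¹ * g * t) = g * t by group, Submonoid.coe_mul, ← Matrix.mulVec_mulVec, ha, ht]
    rcases ha' with rfl | rfl
    · exact Or.inl hmem
    · exact Or.inr hmem

end Cfsg.Agent.Classical.TwoCover.Symp
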