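import Cfsg.Agent.Lib.Classical.TwoClassCoverHerm
import Cfsg.Agent.Lib.Classical.TwoClassCoverLinear

/-!
`PSU₄(q)`, and `PSU₃(q)` for `q` a power of `3`, are unions of two conjugacy classes of subgroups.
-/

set_option autoImplicit false
set_option linter.unusedSectionVars false

namespace Cfsg.Agent.Classical.TwoCover.Unit

open Matrix Polynomial Module
open Cfsg.Agent.UnitaryConjugacy Cfsg.Agent.UnitaryDetCentralizer

variable {F : Type} [Field F] [Fintype F] {q n : ℕ}

theorem su_isom (s : SU n F q) : Isom q (suVal s) := fun x y => s.2 x y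

theorem suVal_mul_inv (s : SU n F q) : suVal s * suVal s⁻¹ = 1 := by
  rw [← suVal_mul, mul_inv_cancel]; rfl

theorem suVal_inv_mul (s : SU n F q) : suVal s⁻¹ * suVal s = 1 := by
  rw [← suVal_mul, inv_mul_cancel]; rfl

theorem inv_apply (s : SU n F q) (x : Fin n → F) : suVal s⁻¹ *ᵥ (suVal s *ᵥ x) = x := by
  rw [mulVec_mulVec, suVal_inv_mul, one_mulVec]

theorem apply_inv (s : SU n F q) (x : Fin n → F) : suVal s *ᵥ (suVal s⁻¹ *ᵥ x) = x := by
  rw [mulVec_mulVec, suVal_mul_inv, one_mulVec]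

theorem cdual_charpoly_su (hF : Fintype.card F = q ^ 2) (s : SU n F q) :
    cdual (qFrob hF) (suVal s).charpoly = (suVal s).charpoly :=
  cdual_charpoly_of_mem hF (⟨Matrix.SpecialLinearGroup.toGL s.1, fun u v => s.2 u v⟩ : GU n F q)

theorem charpoly_coeff_zero (s : SU n F q) : (suVal s).charpoly.coeff 0 ≠ 0 := by
  intro h
  have hd : (suVal s).det = 1 := s.1.2
  rw [Matrix.det_eq_sign_charpoly_coeff, h, mul_zero] at hd
  exact zero_ne_one hd

/-! ### Eigenvectors -/

/-- An anisotropic eigenvector. -/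
def HasAniso (q : ℕ) (g : Matrix (Fin n) (Fin n) F) : Prop :=
  ∃ (v : Fin n → F) (μ : F), hermForm n F q v v ≠ 0 ∧ g *ᵥ v = μ • v

/-- An invariant totally isotropic plane. -/
def HasPlane (q : ℕ) (g : Matrix (Fin n) (Fin n) F) : Prop :=
  ∃ W : Submodule F (Fin n → F), finrank F W = 2 ∧ (∀ x ∈ W, ∀ y ∈ W, hermForm n F q x y = 0) ∧
    ∀ x ∈ W, g *ᵥ x ∈ W

theorem eig_ne_zero (s : SU n F q) {v : Fin n → F} {μ : F} (hv : v ≠ 0) (h : suVal s *ᵥ v = μ • v) : μ ≠ 0 := by
  rintro rfl
  rw [zero_smul] at h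
  have := inv_apply s v
  rw [h, mulVec_zero] at this
  exact hv this.symm

theorem isRoot_of_eig (g : Matrix (Fin n) (Fin n) F) {v : Fin n → F} {μ : F} (hv : v ≠ 0) (h : g *ᵥ v = μ • v) :
    g.charpoly.IsRoot μ := by
  rw [IsRoot.def, Matrix.eval_charpoly, ← Matrix.exists_mulVec_eq_zero_iff]
  refine ⟨v, hv, ?_⟩
  rw [sub_mulVec, h, sub_eq_zero]
  ext k; simp [Matrix.mulVec_diagonal]

theorem eigen_orth (hF : Fintype.card F = q ^ 2) (s : SU n F q) {v w : Fin n → F} {l μ : F}
    (hv : suVal s *ᵥ v = l • v) (hw : suVal s *ᵥ w = μ • w) (h : l * μ ^ q ≠ 1) :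
    hermForm n F q v w = 0 := by
  have e := su_isom s v w
  rw [hv, hw, hermForm_smul_left, h_smul_right hF, ← mul_assoc] at e
  by_contra hne
  exact h (mul_right_cancel₀ hne (e.trans (one_mul _).symm))

theorem pow_q_q (hF : Fintype.card F = q ^ 2) (x : F) : (x ^ q) ^ q = x := qFrob_qFrob hF x

theorem dual_inv (hF : Fintype.card F = q ^ 2) {l μ : F} (h : l * μ ^ q = 1) : μ = (l ^ q)⁻¹ := by
  have := congrArg (fun z => z ^ q) h
  simp only [mul_pow, pow_q_q hF, one_pow] at this
  exact eq_inv_of_mul_eq_one_right this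

/-- The dual eigenvalue. -/
theorem dual_eig (hF : Fintype.card F = q ^ 2) (s : SU n F q) {v : Fin n → F} {l : F} (hv0 : v ≠ 0)
    (hv : suVal s *ᵥ v = l • v) : ∃ w, w ≠ 0 ∧ suVal s *ᵥ w = (l ^ q)⁻¹ • w := by
  set μ := (l ^ q)⁻¹ with hμ
  by_contra hno
  push Not at hno
  have hdet : (suVal s - μ • 1).det ≠ 0 := by
    intro h0
    obtain ⟨w, hw, hw'⟩ := Matrix.exists_mulVec_eq_zero_iff.2 h0
    refine hno w hw ?_
    rw [sub_mulVec, smul_mulVec, one_mulVec, sub_eq_zero] at hw'
    exact hw'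
  refine hv0 (h_nondeg hF fun y => h_comm hF ?_)
  obtain ⟨x, rfl⟩ : ∃ x, (suVal s - μ • 1) *ᵥ x = y :=
    ⟨(suVal s - μ • 1)⁻¹ *ᵥ y, by rw [mulVec_mulVec, Matrix.mul_nonsing_inv _ (Ne.isUnit hdet), one_mulVec]⟩
  rw [sub_mulVec, smul_mulVec, one_mulVec, sub_eq_add_neg, ← neg_smul, hermForm_add_left, hermForm_smul_left]
  have e : hermForm n F q (suVal s *ᵥ x) v = μ * hermForm n F q x v := by
    have h1 := su_isom s x v
    rw [hv, h_smul_right hF] at h1
    rw [hμ, ← h1, ← mul_assoc, inv_mul_cancel₀ (pow_ne_zero q (eig_ne_zero s hv0 hv)), one_mul]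
  rw [e]; ring

theorem charpoly_split {g : Matrix (Fin n) (Fin n) F} {P : F[X]} (h : g.charpoly = P) (y : Fin n → F) :
    aeval g P *ᵥ y = 0 := by
  rw [← h, Matrix.aeval_self_charpoly, zero_mulVec]

theorem aeval_X_sub_C (g : Matrix (Fin n) (Fin n) F) (l : F) (y : Fin n → F) :
    aeval g (X - Polynomial.C l) *ᵥ y = g *ᵥ y - l • y := by
  rw [map_sub, aeval_X, aeval_C, sub_mulVec, Algebra.algebraMap_eq_smul_one, smul_mulVec, one_mulVec]

/-- A simple root of norm one has an anisotropic eigenvector. -/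
theorem simple_aniso (hF : Fintype.card F = q ^ 2) (s : SU n F q) {l : F} (hl : l ^ (q + 1) = 1) {C' : F[X]}
    (hC : (suVal s).charpoly = (X - Polynomial.C l) * C') (hl' : ¬ C'.IsRoot l) : HasAniso q (suVal s) := by
  by_contra hno
  obtain ⟨v, hv0, hv⟩ := Linear.exists_eigvec_of_root (suVal s) (μ := l) (by rw [hC]; simp [IsRoot.def])
  let W : Submodule F (Fin n → F) := LinearMap.ker (Matrix.toLin' (suVal s - l • 1))
  have hmem : ∀ x, x ∈ W ↔ suVal s *ᵥ x = l • x := fun x => by
    simp [W, sub_mulVec, smul_mulVec, sub_eq_zero]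
  have hW : ∀ x ∈ W, ∀ y ∈ W, hermForm n F q x y = 0 := polar hF fun x hx => by
    by_contra hne
    exact hno ⟨x, l, hne, (hmem x).1 hx⟩
  obtain ⟨a, b, hab⟩ : IsCoprime (X - Polynomial.C l) C' :=
    (Polynomial.irreducible_X_sub_C l).coprime_iff_not_dvd.2 fun h => hl' (Polynomial.dvd_iff_isRoot.1 h)
  refine hv0 (h_nondeg hF fun y => ?_)
  have hy : y = aeval (suVal s) (X - Polynomial.C l) *ᵥ (aeval (suVal s) a *ᵥ y) +
      aeval (suVal s) (C' * b) *ᵥ y := by
    rw [mulVec_mulVec, ← map_mul, ← add_mulVec, ← map_add,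
      show (X - Polynomial.C l) * a + C' * b = 1 by rw [← hab]; ring, map_one, one_mulVec]
  have hu : aeval (suVal s) (C' * b) *ᵥ y ∈ W := by
    rw [hmem, ← sub_eq_zero, ← aeval_X_sub_C, mulVec_mulVec, ← map_mul, ← mul_assoc, ← hC, map_mul,
      Matrix.aeval_self_charpoly, zero_mul, zero_mulVec]
  rw [hy, h_add_right hF, hW v ((hmem v).2 hv) _ hu, add_zero, aeval_X_sub_C]
  set z := aeval (suVal s) a *ᵥ y
  have e := su_isom s v z
  rw [hv, hermForm_smul_left] at e
  rw [sub_eq_add_neg, ← neg_smul, h_add_right hF, h_smul_right hF, ← qFrob_apply hF, map_neg, qFrob_apply]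
  have hl0 : l ≠ 0 := eig_ne_zero s hv0 hv
  refine mul_left_cancel₀ hl0 ?_
  rw [mul_zero]
  linear_combination e - hermForm n F q v z * hl

/-- Two independent vectors spanning an invariant totally isotropic plane. -/
theorem plane_of_pair (hF : Fintype.card F = q ^ 2) {g : Matrix (Fin n) (Fin n) F} {x y : Fin n → F}
    (hx : hermForm n F q x x = 0) (hy : hermForm n F q y y = 0) (hxy : hermForm n F q x y = 0)
    (hind : LinearIndependent F ![x, y]) (hgx : g *ᵥ x ∈ Submodule.span F {x, y})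
    (hgy : g *ᵥ y ∈ Submodule.span F {x, y}) : HasPlane q g := by
  refine ⟨Submodule.span F {x, y}, ?_, ?_, ?_⟩
  · have h := finrank_span_eq_card hind
    rw [Fintype.card_fin] at h
    rwa [show ({x, y} : Set (Fin n → F)) = Set.range ![x, y] by
      rw [Matrix.range_cons_cons_empty]]
  · intro a ha b hb
    obtain ⟨c, d, rfl⟩ := Submodule.mem_span_pair.1 ha
    obtain ⟨c', d', rfl⟩ := Submodule.mem_span_pair.1 hb
    simp only [hermForm_add_left, h_add_right hF, hermForm_smul_left, h_smul_right hF, hx, hy, hxy,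
      h_comm hF hxy, mul_zero, add_zero]
  · intro a ha
    obtain ⟨c, d, rfl⟩ := Submodule.mem_span_pair.1 ha
    rw [mulVec_add, mulVec_smul, mulVec_smul]
    exact add_mem (Submodule.smul_mem _ c hgx) (Submodule.smul_mem _ d hgy)

theorem plane_of_eigs (hF : Fintype.card F = q ^ 2) (s : SU n F q) (hno : ¬ HasAniso q (suVal s))
    {l μ : F} (hl : (suVal s).charpoly.IsRoot l) (hμ : (suVal s).charpoly.IsRoot μ) (hne : l ≠ μ)
    (hlμ : l * μ ^ q ≠ 1) : HasPlane q (suVal s) := by
  obtain ⟨v, hv0, hv⟩ := Linear.exists_eigvec_of_root _ hl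
  obtain ⟨w, hw0, hw⟩ := Linear.exists_eigvec_of_root _ hμ
  refine plane_of_pair hF (x := v) (y := w) ?_ ?_ (eigen_orth hF s hv hw hlμ) ?_ ?_ ?_
  · by_contra h; exact hno ⟨v, l, h, hv⟩
  · by_contra h; exact hno ⟨w, μ, h, hw⟩
  · rw [LinearIndependent.pair_iff]
    intro c d hcd
    have h1 := congrArg (fun z => suVal s *ᵥ z - μ • z) hcd
    simp only [mulVec_add, mulVec_smul, hv, hw, mulVec_zero, smul_zero, sub_zero, smul_add, smul_smul] at h1
    have h2 : (c * (l - μ)) • v = 0 := by linear_combination (norm := module) h1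
    have hc : c = 0 :=
      (mul_eq_zero.1 ((smul_eq_zero.1 h2).resolve_right hv0)).resolve_right (sub_ne_zero.2 hne)
    subst hc
    rw [zero_smul, zero_add, smul_eq_zero] at hcd
    exact ⟨rfl, hcd.resolve_right hw0⟩
  · rw [hv]; exact Submodule.smul_mem _ _ (Submodule.subset_span (by simp))
  · rw [hw]; exact Submodule.smul_mem _ _ (Submodule.subset_span (by simp))

theorem kernel_invariant (g : Matrix (Fin n) (Fin n) F) (D : F[X]) :
    ∀ x ∈ LinearMap.ker (Matrix.toLin' (aeval g D)), g *ᵥ x ∈ LinearMap.ker (Matrix.toLin' (aeval g D)) := by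
  intro x hx
  rw [LinearMap.mem_ker, Matrix.toLin'_apply] at hx ⊢
  rw [mulVec_mulVec, show aeval g D * g = g * aeval g D by
    conv_lhs => arg 2; rw [← aeval_X (R := F) g]
    conv_rhs => arg 1; rw [← aeval_X (R := F) g]
    rw [← map_mul, ← map_mul, mul_comm], ← mulVec_mulVec, hx, mulVec_zero]

theorem root_dual_of_dual (hF : Fintype.card F = q ^ 2) {R : F[X]} (hR : R.Monic) (h0 : R.coeff 0 ≠ 0)
    (hs : cdual (qFrob hF) R = R) {μ : F} (hμ : R.IsRoot μ) : R.IsRoot (μ ^ q)⁻¹ := by
  obtain ⟨R1, hR1⟩ := Polynomial.dvd_iff_isRoot.2 hμ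
  have hμ0 : μ ≠ 0 := by
    rintro rfl
    rw [IsRoot.def, ← Polynomial.coeff_zero_eq_eval_zero] at hμ
    exact h0 hμ
  have e : R = (X - Polynomial.C (μ ^ q)⁻¹) * cdual (qFrob hF) R1 := by
    conv_lhs => rw [← hs, hR1, cdual_mul, cdual_X_sub_C _ hμ0, qFrob_apply]
  rw [e]; simp [IsRoot.def]

theorem roots_of_dual_quad (hF : Fintype.card F = q ^ 2) {R : F[X]} (hR : R.Monic) (h2 : R.natDegree = 2)
    (h0 : R.coeff 0 ≠ 0) (hs : cdual (qFrob hF) R = R) :
    ∃ μ ν : F, R = (X - Polynomial.C μ) * (X - Polynomial.C ν) := by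
  have hni : ¬ Irreducible R := fun hi => by
    have := (selfDual_irreducible hF hR hi h0 hs).1
    rw [h2] at this
    exact absurd this (by decide)
  obtain ⟨μ, hμ⟩ : ∃ μ, R.IsRoot μ := by
    by_contra hno
    push Not at hno
    exact hni (((Polynomial.irreducible_iff_roots_eq_zero_of_degree_le_three (by omega) (by omega))).2
      (Multiset.eq_zero_of_forall_notMem fun x hx => hno x (Polynomial.isRoot_of_mem_roots hx)))
  obtain ⟨R1, hR1⟩ := Polynomial.dvd_iff_isRoot.2 hμ
  have hR1m : R1.Monic := (monic_X_sub_C μ).of_mul_monic_left (hR1 ▸ hR)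
  have hR1d : R1.natDegree = 1 := by
    have := (monic_X_sub_C μ).natDegree_mul hR1m
    rw [← hR1, h2, natDegree_X_sub_C] at this
    omega
  refine ⟨μ, -R1.coeff 0, ?_⟩
  rw [hR1]
  congr 1
  conv_lhs => rw [hR1m.eq_X_add_C hR1d]
  rw [map_neg, sub_neg_eq_add]

theorem dual_cancel (hF : Fintype.card F = q ^ 2) {P A R : F[X]} (hA0 : A ≠ 0) (hP : cdual (qFrob hF) P = P)
    (hA : cdual (qFrob hF) A = A) (h : P = A * R) : cdual (qFrob hF) R = R := by
  have e := congrArg (cdual (qFrob hF)) h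
  rw [cdual_mul, hP, hA, h] at e
  exact (mul_left_cancel₀ hA0 e).symm

theorem norm_one_iff {l : F} : l * l ^ q = 1 ↔ l ^ (q + 1) = 1 := by rw [pow_succ']

theorem cdual_fix (hF : Fintype.card F = q ^ 2) {l : F} (hl : l ^ (q + 1) = 1) :
    cdual (qFrob hF) (X - Polynomial.C l) = X - Polynomial.C l := by
  have hl0 : l ≠ 0 := by rintro rfl; rw [zero_pow (Nat.succ_ne_zero q)] at hl; exact zero_ne_one hl
  rw [cdual_X_sub_C _ hl0, qFrob_apply, ← eq_inv_of_mul_eq_one_right (show l ^ q * l = 1 by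
    rw [← pow_succ, hl])]

/-- Polynomial form of the square of a shifted isometry. -/
theorem ti_image_sq (hF : Fintype.card F = q ^ 2) (s : SU n F q) {l : F} (hl : l ^ (q + 1) = 1)
    (h4 : aeval (suVal s) ((X - Polynomial.C l) ^ 4) = 0) (a b : Fin n → F) :
    hermForm n F q (aeval (suVal s) ((X - Polynomial.C l) ^ 2) *ᵥ a)
      (aeval (suVal s) ((X - Polynomial.C l) ^ 2) *ᵥ b) = 0 := by
  set g := suVal s
  set g' := suVal s⁻¹
  rw [h_aeval hF (su_isom s) (suVal_mul_inv s)]
  have e : aeval g' (((X - Polynomial.C l) ^ 2).map (qFrob hF)) =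
      (l ^ q) ^ 2 • (g' ^ 2 * aeval g ((X - Polynomial.C l) ^ 2)) := by
    have e1 : aeval g' ((X - Polynomial.C l).map (qFrob hF)) = (-(l ^ q)) • (g' * aeval g (X - Polynomial.C l)) := by
      rw [Polynomial.map_sub, map_X, map_C, qFrob_apply, map_sub, map_sub, aeval_X, aeval_X, aeval_C, aeval_C,
        mul_sub, suVal_inv_mul, Algebra.algebraMap_eq_smul_one, Algebra.algebraMap_eq_smul_one,
        mul_smul_comm, mul_one, smul_sub, smul_smul, neg_mul, ← pow_succ, hl]
      module
    have hc : Commute g' (aeval g (X - Polynomial.C l)) := by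
      rw [map_sub, aeval_X, aeval_C]
      refine Commute.sub_right ?_ (Algebra.commutes l g').symm
      show g' * g = g * g'
      rw [suVal_inv_mul, suVal_mul_inv]
    rw [Polynomial.map_pow, map_pow, e1, _root_.smul_pow, neg_sq, hc.mul_pow, map_pow]
  rw [e, smul_mulVec, mulVec_mulVec, mul_assoc, ← map_mul, ← pow_add, h4, mul_zero, zero_mulVec, smul_zero,
    h_zero_right hF]

/-- The dichotomy in dimension four. -/
theorem four_cases (hF : Fintype.card F = q ^ 2) (s : SU 4 F q) :
    HasAniso q (suVal s) ∨ HasPlane q (suVal s) := by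
  classical
  by_cases hno : HasAniso q (suVal s)
  · exact Or.inl hno
  right
  set g := suVal s
  have hm := Matrix.charpoly_monic g
  have h4 : g.charpoly.natDegree = 4 := by rw [Matrix.charpoly_natDegree_eq_dim, Fintype.card_fin]
  have hd := cdual_charpoly_su hF s
  have h0 := charpoly_coeff_zero s
  have ti_le : ∀ W : Submodule F (Fin 4 → F), (∀ x ∈ W, ∀ y ∈ W, hermForm 4 F q x y = 0) → finrank F W ≤ 2 :=
    fun W hW => by have := finrank_ti hF hW; omega
  by_cases hroot : ∃ l, g.charpoly.IsRoot l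
  swap
  · -- no eigenvector: a quadratic factor different from its dual
    have hno1 : ∀ c : F[X], c.natDegree = 1 → ¬ c ∣ g.charpoly := fun c hc hdvd => by
      obtain ⟨l, hl⟩ := Polynomial.exists_root_of_degree_eq_one
        ((Polynomial.degree_eq_iff_natDegree_eq_of_pos one_pos).2 hc)
      exact hroot ⟨l, hl.dvd hdvd⟩
    obtain ⟨f, hfm, hfi, hfd⟩ := Polynomial.exists_monic_irreducible_factor g.charpoly
      (Polynomial.not_isUnit_of_natDegree_pos _ (by omega))
    obtain ⟨c, hc⟩ := hfd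
    have hcm : c.Monic := hfm.of_mul_monic_left (hc ▸ hm)
    have hdeg : f.natDegree + c.natDegree = 4 := by rw [← hfm.natDegree_mul hcm, ← hc, h4]
    have hf0 : f.coeff 0 ≠ 0 := fun h => h0 (by rw [hc, mul_coeff_zero, h, zero_mul])
    have hf1 := hno1 f
    have hc1 := hno1 c
    have hfpos := hfi.natDegree_pos
    have hf2 : f.natDegree = 2 := by
      by_contra hne
      have hf4 : c.natDegree = 0 := by
        rcases Nat.lt_or_ge f.natDegree 4 with h | h
        · exfalso
          have : f.natDegree = 1 ∨ f.natDegree = 3 := by omega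
          rcases this with h1 | h1
          · exact hf1 h1 ⟨c, hc⟩
          · exact hc1 (by omega) ⟨f, by rw [hc]; ring⟩
        · omega
      have hfe : g.charpoly = f := by rw [hc, hcm.natDegree_eq_zero.1 hf4, mul_one]
      have := (selfDual_irreducible hF hfm hfi hf0 (by rw [← hfe]; exact hd)).1
      rw [← hfe, h4] at this
      exact absurd this (by decide)
    have hne : cdual (qFrob hF) f ≠ f := fun h => by
      have := (selfDual_irreducible hF hfm hfi hf0 h).1
      rw [hf2] at this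
      exact absurd this (by decide)
    have hco : IsCoprime f (cdual (qFrob hF) f) := hfi.coprime_iff_not_dvd.2 fun h =>
      hne (Polynomial.eq_of_monic_of_associated (cdual_monic _ hf0) hfm
        ((hfi.associated_of_dvd (irreducible_cdual _ (qFrob_qFrob hF) hfm hf0 hfi) h).symm))
    obtain ⟨v, hv0, hv⟩ := Cfsg.Agent.Lie.Semisimple.exists_killed (Matrix.toLin' g) hfm hfi
      (by rw [Matrix.charpoly_toLin']; exact ⟨c, hc⟩)
    have hv' : aeval g f *ᵥ v = 0 := by
      rw [← Matrix.toLin'_apply]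
      have e := Polynomial.aeval_algHom_apply (Matrix.toLinAlgEquiv' : Matrix (Fin 4) (Fin 4) F ≃ₐ[F] _).toAlgHom g f
      exact (LinearMap.congr_fun e v).symm.trans hv
    have hgv : aeval g f *ᵥ (g *ᵥ v) = 0 := by
      have := kernel_invariant g f v (by rw [LinearMap.mem_ker, Matrix.toLin'_apply]; exact hv')
      rwa [LinearMap.mem_ker, Matrix.toLin'_apply] at this
    have hti := fun x y hx hy => ti_kernel (x := x) (y := y) hF (su_isom s) (suVal_mul_inv s) hco hx hy
    refine ⟨LinearMap.ker (Matrix.toLin' (aeval g f)), ?_, ?_, kernel_invariant g f⟩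
    · refine le_antisymm (ti_le _ fun x hx y hy => hti x y hx hy) ?_
      have hind : LinearIndependent F ![v, g *ᵥ v] := by
        rw [LinearIndependent.pair_iff]
        intro a b hab
        by_cases hb : b = 0
        · subst hb
          rw [zero_smul, add_zero, smul_eq_zero] at hab
          exact ⟨hab.resolve_right hv0, rfl⟩
        · refine absurd ⟨-(b⁻¹ * a), isRoot_of_eig g hv0 ?_⟩ hroot
          have := congrArg (fun z => b⁻¹ • z) hab
          simp only [smul_add, smul_smul, inv_mul_cancel₀ hb, one_smul, smul_zero] at this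
          linear_combination (norm := module) this
      refine le_trans ((finrank_span_eq_card hind).trans (Fintype.card_fin _)).ge ?_
      refine Submodule.finrank_mono (Submodule.span_le.2 ?_)
      rintro _ ⟨i, rfl⟩
      fin_cases i
      · exact hv'
      · exact hgv
    · exact fun x hx y hy => hti x y hx hy
  obtain ⟨l, hl⟩ := hroot
  by_cases hbad : ∃ l, g.charpoly.IsRoot l ∧ l ^ (q + 1) ≠ 1
  · obtain ⟨l, hl, hln⟩ := hbad
    obtain ⟨v, hv0, hv⟩ := Linear.exists_eigvec_of_root _ hl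
    obtain ⟨w, hw0, hw⟩ := dual_eig hF s hv0 hv
    have hl0 : l ≠ 0 := eig_ne_zero s hv0 hv
    set l' := (l ^ q)⁻¹ with hl'
    have hl'' : (l' ^ q)⁻¹ = l := by rw [hl', inv_pow, inv_inv, pow_q_q hF]
    have hne : l ≠ l' := fun h => hln (by
      rw [pow_succ']
      nth_rw 1 [h]
      exact inv_mul_cancel₀ (pow_ne_zero q hl0))
    have hl'0 : l' ≠ 0 := inv_ne_zero (pow_ne_zero q hl0)
    have hco : IsCoprime (X - Polynomial.C l) (X - Polynomial.C l') :=
      Polynomial.isCoprime_X_sub_C_of_isUnit_sub (sub_ne_zero.2 hne).isUnit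
    have hA : cdual (qFrob hF) ((X - Polynomial.C l) * (X - Polynomial.C l')) =
        (X - Polynomial.C l) * (X - Polynomial.C l') := by
      rw [cdual_mul, cdual_X_sub_C _ hl0, cdual_X_sub_C _ hl'0, qFrob_apply, qFrob_apply, ← hl', hl'', mul_comm]
    obtain ⟨R, hR⟩ := hco.mul_dvd (Polynomial.dvd_iff_isRoot.2 hl)
      (Polynomial.dvd_iff_isRoot.2 (isRoot_of_eig g hw0 hw))
    have hAm : ((X - Polynomial.C l) * (X - Polynomial.C l')).Monic := (monic_X_sub_C l).mul (monic_X_sub_C l')
    have hRm : R.Monic := hAm.of_mul_monic_left (hR ▸ hm)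
    have hR2 : R.natDegree = 2 := by
      have := hAm.natDegree_mul hRm
      rw [← hR, h4, (monic_X_sub_C l).natDegree_mul (monic_X_sub_C l'), natDegree_X_sub_C, natDegree_X_sub_C] at this
      omega
    have hR0 : R.coeff 0 ≠ 0 := fun h => h0 (by rw [hR, mul_coeff_zero, h, mul_zero])
    have hRd := dual_cancel hF hAm.ne_zero hd hA hR
    obtain ⟨μ, ν, hμν⟩ := roots_of_dual_quad hF hRm hR2 hR0 hRd
    have hμ : R.IsRoot μ := by rw [hμν]; simp [IsRoot.def]
    by_cases hin : μ = l ∨ μ = l'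
    · have hboth : R.IsRoot l ∧ R.IsRoot l' := by
        have hμ' := root_dual_of_dual hF hRm hR0 hRd hμ
        rcases hin with rfl | rfl
        · exact ⟨hμ, hμ'⟩
        · rw [hl''] at hμ'; exact ⟨hμ', hμ⟩
      obtain ⟨r, hr⟩ := hco.mul_dvd (Polynomial.dvd_iff_isRoot.2 hboth.1) (Polynomial.dvd_iff_isRoot.2 hboth.2)
      have hre : R = (X - Polynomial.C l) * (X - Polynomial.C l') := by
        refine (Polynomial.eq_of_monic_of_dvd_of_natDegree_le hAm hRm ⟨r, hr⟩ ?_)
        rw [hR2, (monic_X_sub_C l).natDegree_mul (monic_X_sub_C l'), natDegree_X_sub_C, natDegree_X_sub_C]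
      set D := (X - Polynomial.C l) ^ 2 with hD
      set D' := (X - Polynomial.C l') ^ 2 with hD'
      have hDD : g.charpoly = D * D' := by rw [hR, hre, hD, hD']; ring
      have hdD : cdual (qFrob hF) D = D' := by
        rw [hD, hD', sq, sq, cdual_mul, cdual_X_sub_C _ hl0, qFrob_apply]
      have hdD' : cdual (qFrob hF) D' = D := by
        rw [hD, hD', sq, sq, cdual_mul, cdual_X_sub_C _ hl'0, qFrob_apply, hl'']
      have hcoD : IsCoprime D D' := hco.pow
      have t1 := fun x y hx hy => ti_kernel (x := x) (y := y) hF (su_isom s) (suVal_mul_inv s) (D := D)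
        (hdD.symm ▸ hcoD) hx hy
      have t2 := fun x y hx hy => ti_kernel (x := x) (y := y) hF (su_isom s) (suVal_mul_inv s) (D := D')
        (hdD'.symm ▸ hcoD.symm) hx hy
      refine ⟨LinearMap.ker (Matrix.toLin' (aeval g D)), ?_, fun x hx y hy => t1 x y hx hy, kernel_invariant g D⟩
      refine le_antisymm (ti_le _ fun x hx y hy => t1 x y hx hy) ?_
      have h2 := (Matrix.toLin' (aeval g D')).finrank_range_add_finrank_ker
      rw [Module.finrank_fin_fun] at h2
      have h3 := ti_le (LinearMap.ker (Matrix.toLin' (aeval g D'))) fun x hx y hy => t2 x y hx hy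
      refine le_trans (by omega) (Submodule.finrank_mono
        (s := LinearMap.range (Matrix.toLin' (aeval g D'))) ?_)
      rintro _ ⟨x, rfl⟩
      rw [LinearMap.mem_ker, Matrix.toLin'_apply, Matrix.toLin'_apply, mulVec_mulVec, ← map_mul]
      exact charpoly_split hDD x
    · push Not at hin
      refine plane_of_eigs hF s hno hl (μ := μ) (hμ.dvd ⟨_, hR.trans (mul_comm _ _)⟩) hin.1.symm fun h => ?_
      exact hin.2 (dual_inv hF h)
  · push Not at hbad
    have hl1 := hbad l hl
    obtain ⟨C', hC⟩ := Polynomial.dvd_iff_isRoot.2 hl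
    by_cases hC1 : C'.IsRoot l
    swap
    · exact absurd (simple_aniso hF s hl1 hC hC1) hno
    obtain ⟨R, hR⟩ := Polynomial.dvd_iff_isRoot.2 hC1
    have hR' : g.charpoly = (X - Polynomial.C l) * (X - Polynomial.C l) * R := by rw [hC, hR]; ring
    have hAm : ((X - Polynomial.C l) * (X - Polynomial.C l)).Monic := (monic_X_sub_C l).mul (monic_X_sub_C l)
    have hRm : R.Monic := hAm.of_mul_monic_left (hR' ▸ hm)
    have hR2 : R.natDegree = 2 := by
      have := hAm.natDegree_mul hRm
      rw [← hR', h4, (monic_X_sub_C l).natDegree_mul (monic_X_sub_C l), natDegree_X_sub_C] at this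
      omega
    have hR0 : R.coeff 0 ≠ 0 := fun h => h0 (by rw [hR', mul_coeff_zero, h, mul_zero])
    have hRd := dual_cancel hF hAm.ne_zero hd (by rw [cdual_mul, cdual_fix hF hl1]) hR'
    obtain ⟨μ, ν, hμν⟩ := roots_of_dual_quad hF hRm hR2 hR0 hRd
    have hχ : g.charpoly = (X - Polynomial.C l) * (X - Polynomial.C l) *
        ((X - Polynomial.C μ) * (X - Polynomial.C ν)) := by rw [hR', hμν]
    have hμr : g.charpoly.IsRoot μ := by rw [hχ]; simp [IsRoot.def]
    have hνr : g.charpoly.IsRoot ν := by rw [hχ]; simp [IsRoot.def]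
    have simple : ∀ a b : F, g.charpoly = (X - Polynomial.C l) * (X - Polynomial.C l) *
        ((X - Polynomial.C a) * (X - Polynomial.C b)) → a ≠ l → a ≠ b → False := by
      intro a b h hal hab
      refine hno (simple_aniso hF s (hbad a (by rw [h]; simp [IsRoot.def]))
        (C' := (X - Polynomial.C l) * (X - Polynomial.C l) * (X - Polynomial.C b)) (by rw [h]; ring) ?_)
      simp [IsRoot.def, sub_eq_zero, hal, hab]
    by_cases hμl : μ = l
    swap
    · by_cases hμν' : μ = ν
      · subst hμν'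
        refine plane_of_eigs hF s hno hl hμr (Ne.symm hμl) fun h => hμl ?_
        have h2 := hbad μ hμr
        rw [pow_succ'] at h2
        exact (mul_right_cancel₀ (right_ne_zero_of_mul_eq_one h) (h.trans h2.symm)).symm
      · exact (simple μ ν hχ hμl hμν').elim
    subst hμl
    by_cases hνl : ν = μ
    swap
    · exact (simple ν μ (by rw [hχ]; ring) hνl hνl).elim
    subst hνl
    set P := X - Polynomial.C ν with hP
    have hN4 : aeval g (P ^ 4) = 0 := by
      rw [show P ^ 4 = g.charpoly by rw [hχ]; ring, Matrix.aeval_self_charpoly]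
    let T := Matrix.toLin' (aeval g P)
    have hker_ti : ∀ x ∈ LinearMap.ker T, ∀ y ∈ LinearMap.ker T, hermForm 4 F q x y = 0 := polar hF fun x hx => by
      by_contra hne
      refine hno ⟨x, ν, hne, sub_eq_zero.1 ?_⟩
      rw [LinearMap.mem_ker, Matrix.toLin'_apply, hP, aeval_X_sub_C] at hx
      exact hx
    have hk2 := ti_le _ hker_ti
    by_cases hk : 2 ≤ finrank F (LinearMap.ker T)
    · exact ⟨LinearMap.ker T, le_antisymm hk2 hk, hker_ti, kernel_invariant g P⟩
    let T2 := Matrix.toLin' (aeval g (P ^ 2))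
    have hT2 : T2 = T ∘ₗ T := by
      show Matrix.toLin' (aeval g (P ^ 2)) = _
      rw [sq, map_mul, Matrix.toLin'_mul]
    have hti2 : ∀ x ∈ LinearMap.range T2, ∀ y ∈ LinearMap.range T2, hermForm 4 F q x y = 0 := by
      rintro _ ⟨a, rfl⟩ _ ⟨b, rfl⟩
      exact ti_image_sq hF s (hbad ν hνr) hN4 a b
    refine ⟨LinearMap.range T2, le_antisymm (ti_le _ hti2) ?_, hti2, ?_⟩
    · have h1 := T2.finrank_range_add_finrank_ker
      have hk' : finrank F (LinearMap.ker T2) ≤ finrank F (LinearMap.ker T) + finrank F (LinearMap.ker T) := by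
        let φ : LinearMap.ker T2 →ₗ[F] LinearMap.ker T :=
          T.restrict fun x hx => by
            rw [LinearMap.mem_ker, hT2, LinearMap.comp_apply] at hx
            exact hx
        have hφ := φ.finrank_range_add_finrank_ker
        have e1 := (LinearMap.range φ).finrank_le
        let ι' : LinearMap.ker φ →ₗ[F] LinearMap.ker T :=
          LinearMap.codRestrict _ ((LinearMap.ker T2).subtype ∘ₗ (LinearMap.ker φ).subtype) fun x =>
            LinearMap.mem_ker.2 (congrArg Subtype.val (LinearMap.mem_ker.1 x.2))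
        have e2 := LinearMap.finrank_le_finrank_of_injective (f := ι') fun a b h =>
          Subtype.ext (Subtype.ext (congrArg Subtype.val h :))
        omega
      rw [Module.finrank_fin_fun] at h1
      omega
    · rintro _ ⟨a, rfl⟩
      refine ⟨g *ᵥ a, ?_⟩
      show Matrix.toLin' (aeval g (P ^ 2)) (g *ᵥ a) = g *ᵥ Matrix.toLin' (aeval g (P ^ 2)) a
      rw [Matrix.toLin'_apply, Matrix.toLin'_apply, mulVec_mulVec, mulVec_mulVec]
      congr 1
      conv_lhs => arg 2; rw [← aeval_X (R := F) g]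
      conv_rhs => arg 1; rw [← aeval_X (R := F) g]
      rw [← map_mul, ← map_mul, mul_comm]

/-! ### Elements of `SU` -/

/-- An element of `SU` moves a line of a vector of norm one to a coordinate line. -/
theorem exists_move_point (hF : Fintype.card F = q ^ 2) {i k : Fin n} (hik : i ≠ k) {v : Fin n → F}
    (hv : hermForm n F q v v = 1) : ∃ s : SU n F q, suVal s *ᵥ Pi.single i 1 = v := by
  classical
  set E : Fin n → F := Pi.single i 1 with hE
  have hEE : hermForm n F q E E = 1 := h_single hF i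
  let L := Submodule.span F ({E} : Set (Fin n → F))
  let ψ : L →ₗ[F] (Fin n → F) :=
    ((LinearMap.toSpanSingleton F _ v).comp (LinearMap.proj i)).comp L.subtype
  have hx : ∀ x : L, (x : Fin n → F) = (x : Fin n → F) i • E := fun x => by
    obtain ⟨c, hc⟩ := Submodule.mem_span_singleton.1 x.2
    rw [← hc]; simp [E]
  have hψ : ∀ x : L, ψ x = (x : Fin n → F) i • v := fun x => rfl
  have hv0 : v ≠ 0 := by rintro rfl; rw [h_zero_left] at hv; exact zero_ne_one hv
  obtain ⟨g, hg, hgx⟩ := witt_hermitian (hermB hF n) (qFrob_ne_id hF) (qFrob_qFrob hF)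
    (hermB_isSymm hF _) (hermB_nondegenerate hF _) L ψ
    (fun x y hxy => Subtype.ext (by
      rw [hψ, hψ] at hxy
      rw [hx x, hx y, smul_left_injective F hv0 hxy]))
    (fun x y => by
      rw [hψ, hψ]
      conv_rhs => rw [hx x, hx y]
      simp only [LinearMap.map_smulₛₗ, LinearMap.smul_apply, smul_eq_mul, RingHom.id_apply, hermB_apply]
      rw [hv, hEE])
  have hgE : g E = v := by
    have := hgx ⟨E, Submodule.mem_span_singleton_self E⟩
    simpa [hψ, E] using this
  set M := LinearMap.toMatrix' g.toLinearMap with hM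
  have hMv : ∀ x, M *ᵥ x = g x := fun x => by
    rw [hM, ← Matrix.toLin'_apply, Matrix.toLin'_toMatrix']; rfl
  have hMi : ∀ x y, hermForm n F q (M *ᵥ x) (M *ᵥ y) = hermForm n F q x y := fun x y => by
    rw [hMv, hMv]; exact hg y x
  have hd : M.det * M.det ^ q = 1 := det_unitary hF hMi
  have hd0 : M.det ≠ 0 := left_ne_zero_of_mul_eq_one hd
  let D : Fin n → F := Function.update 1 k M.det⁻¹
  have hD : ∀ j, D j ^ (q + 1) = 1 := fun j => by
    by_cases hj : j = k
    · subst hj; simp [D, pow_succ', ← mul_inv, hd]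
    · simp [D, hj]
  refine ⟨suMk hF (M * Matrix.diagonal D) ?_ ?_, ?_⟩
  · rw [Matrix.det_mul, Matrix.det_diagonal, Finset.prod_update_of_mem (Finset.mem_univ _)]
    simp [hd0]
  · rw [Matrix.transpose_mul, Matrix.map_mul, Matrix.mul_assoc, ← Matrix.mul_assoc Mᵀ,
      transpose_mul_of_preserves hF hMi, Matrix.one_mul, transpose_mul_diagonal hF hD]
  · rw [suVal_suMk, ← Matrix.mulVec_mulVec, hMv,
      show Matrix.diagonal D *ᵥ E = E from funext fun j => by
        rw [Matrix.mulVec_diagonal]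
        by_cases hj : j = i
        · subst hj; simp [D, E, hik]
        · simp [E, hj], hgE]

/-- A unitary transvection. -/
theorem exists_transvection (hF : Fintype.card F = q ^ 2) {v : Fin n → F} (hv : hermForm n F q v v = 0) :
    ∃ (θ : F) (t : SU n F q), θ ≠ 0 ∧ ∀ x, suVal t *ᵥ x = x + (θ * hermForm n F q x v) • v := by
  classical
  obtain ⟨z, hz⟩ : ∃ z : F, qFrob hF z ≠ z := by
    by_contra h; push Not at h; exact qFrob_ne_id hF (RingHom.ext h)
  set θ := z - qFrob hF z with hθ
  have hθ0 : θ ≠ 0 := sub_ne_zero.2 hz.symm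
  have hθs : θ ^ q = -θ := by rw [← qFrob_apply hF, hθ, map_sub, qFrob_qFrob]; ring
  set M : Matrix (Fin n) (Fin n) F :=
    1 + Matrix.replicateCol Unit (θ • v) * Matrix.replicateRow Unit (fun i => v i ^ q) with hM
  have hMx : ∀ x, M *ᵥ x = x + (θ * hermForm n F q x v) • v := fun x => by
    rw [hM, add_mulVec, one_mulVec, ← Matrix.vecMulVec_eq, Matrix.vecMulVec_mulVec, op_smul_eq_smul, smul_smul,
      dotProduct_comm, mul_comm θ]
    rfl
  have hdet : M.det = 1 := by
    rw [hM, Matrix.det_one_add_replicateCol_mul_replicateRow]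
    have : (fun i => v i ^ q) ⬝ᵥ (θ • v) = θ * hermForm n F q v v := by
      simp only [dotProduct, hermForm, Finset.mul_sum, Pi.smul_apply, smul_eq_mul]
      exact Finset.sum_congr rfl fun i _ => by ring
    rw [this, hv, mul_zero, add_zero]
  refine ⟨θ, ⟨⟨M, hdet⟩, fun x y => ?_⟩, hθ0, hMx⟩
  show hermForm n F q (M *ᵥ x) (M *ᵥ y) = _
  rw [hMx, hMx, hermForm_add_left, h_add_right hF, h_add_right hF, hermForm_smul_left, hermForm_smul_left,
    h_smul_right hF, h_smul_right hF, hv, mul_pow, hθs, hermForm_symm hF n y v]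
  ring

/-- An isotropic vector on two coordinates. -/
theorem exists_iso_two (hF : Fintype.card F = q ^ 2) : ∃ c : F, c ≠ 0 ∧ ∀ {m : ℕ} (a b : Fin m), a ≠ b →
    hermForm m F q (Pi.single a 1 + c • Pi.single b 1) (Pi.single a 1 + c • Pi.single b 1) = 0 := by
  have h := natCard_norm_eq hF (t := (-1 : F)) (by rw [← qFrob_apply hF, map_neg, map_one]) (by simp)
  haveI : Nonempty {c : F // c ^ (q + 1) = -1} := by
    by_contra hne
    rw [not_nonempty_iff] at hne
    rw [Nat.card_of_isEmpty] at h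
    omega
  obtain ⟨c, hc⟩ := (inferInstance : Nonempty {c : F // c ^ (q + 1) = -1})
  have hc0 : c ≠ 0 := by
    rintro rfl
    rw [zero_pow (Nat.succ_ne_zero q)] at hc
    exact one_ne_zero (neg_eq_zero.1 hc.symm)
  refine ⟨c, hc0, fun {m} a b hab => ?_⟩
  rw [hermForm_add_left, h_add_right hF, h_add_right hF, hermForm_smul_left, hermForm_smul_left,
    h_smul_right hF, h_smul_right hF, h_single hF, h_single hF, hermForm_single_right hF,
    hermForm_single_right hF, Pi.single_eq_of_ne hab, Pi.single_eq_of_ne hab.symm]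
  rw [pow_succ'] at hc
  linear_combination hc

theorem center_scalar (hF : Fintype.card F = q ^ 2) {z : SU n F q} (hz : z ∈ Subgroup.center (SU n F q)) :
    ∃ c : F, ∀ x, suVal z *ᵥ x = c • x := by
  obtain ⟨c, hc⟩ := suVal_scalar_of_mem_center hF hz
  exact ⟨c, fun x => by rw [hc]; ext j; simp [Matrix.mulVec_diagonal]⟩

/-- The stabiliser of a coordinate point. -/
def pointStab (n : ℕ) (F : Type) [Field F] (q : ℕ) (i : Fin n) : Subgroup (SU n F q) where
  carrier := {s | ∃ c : F, c ≠ 0 ∧ suVal s *ᵥ Pi.single i 1 = c • Pi.single i 1}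
  one_mem' := ⟨1, one_ne_zero, by
    rw [one_smul]; exact Matrix.one_mulVec _⟩
  mul_mem' := by
    rintro a b ⟨c, hc, ha⟩ ⟨d, hd, hb⟩
    exact ⟨d * c, mul_ne_zero hd hc, by rw [suVal_mul, ← mulVec_mulVec, hb, mulVec_smul, ha, smul_smul]⟩
  inv_mem' := by
    rintro a ⟨c, hc, ha⟩
    refine ⟨c⁻¹, inv_ne_zero hc, ?_⟩
    have h2 : suVal a⁻¹ *ᵥ (suVal a *ᵥ Pi.single i 1) = Pi.single i 1 := by
      rw [mulVec_mulVec, ← suVal_mul, inv_mul_cancel]; exact Matrix.one_mulVec _
    rw [ha, mulVec_smul] at h2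
    calc suVal a⁻¹ *ᵥ Pi.single i 1 = c⁻¹ • (c • (suVal a⁻¹ *ᵥ Pi.single i 1)) := by
          rw [smul_smul, inv_mul_cancel₀ hc, one_smul]
      _ = _ := by rw [h2]

theorem center_le_pointStab (hF : Fintype.card F = q ^ 2) (i : Fin n) :
    Subgroup.center (SU n F q) ≤ pointStab n F q i := by
  intro z hz
  obtain ⟨c, hc⟩ := center_scalar hF hz
  exact ⟨c, eig_ne_zero z (by simp) (hc (Pi.single i 1)), hc _⟩

theorem pointStab_ne_top (hF : Fintype.card F = q ^ 2) {i k : Fin n} (hik : i ≠ k) :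
    pointStab n F q i ≠ ⊤ := by
  intro h
  obtain ⟨c, hc, hv⟩ := exists_iso_two hF
  obtain ⟨θ, t, hθ, ht⟩ := exists_transvection hF (hv i k hik)
  obtain ⟨d, -, hd⟩ := (h ▸ Subgroup.mem_top t : t ∈ pointStab n F q i)
  rw [ht, hermForm_add_right_single hF hik] at hd
  have := congrFun hd k
  simp [hik, hik.symm, hθ, hc] at this
where
  hermForm_add_right_single (hF : Fintype.card F = q ^ 2) {i k : Fin n} (hik : i ≠ k) {c : F} :
      hermForm n F q (Pi.single i 1) (Pi.single i 1 + c • Pi.single k 1) = 1 := by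
    rw [h_add_right hF, h_single hF, h_smul_right hF, hermForm_single_right hF, Pi.single_eq_of_ne hik.symm,
      mul_zero, add_zero]

theorem conj_into_point (hF : Fintype.card F = q ^ 2) {i k : Fin n} (hik : i ≠ k) (g : SU n F q)
    (h : HasAniso q (suVal g)) : ∃ x : SU n F q, x * g * x⁻¹ ∈ pointStab n F q i := by
  obtain ⟨v, μ, hv, hgv⟩ := h
  set t := hermForm n F q v v with ht
  have hfix : t⁻¹ ^ q = t⁻¹ := by rw [inv_pow, ht, hermForm_symm hF]
  have hcard := natCard_norm_eq hF hfix (inv_ne_zero hv)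
  haveI : Nonempty {c : F // c ^ (q + 1) = t⁻¹} := by
    by_contra hne
    rw [not_nonempty_iff] at hne
    rw [Nat.card_of_isEmpty] at hcard
    omega
  obtain ⟨c, hc⟩ := (inferInstance : Nonempty {c : F // c ^ (q + 1) = t⁻¹})
  have hv1 : hermForm n F q (c • v) (c • v) = 1 := by
    rw [hermForm_smul_left, h_smul_right hF, ← mul_assoc, ← pow_succ', hc, ← ht, inv_mul_cancel₀ hv]
  obtain ⟨s, hs⟩ := exists_move_point hF hik hv1
  have hv0 : c • v ≠ 0 := fun h0 => by rw [h0, h_zero_left] at hv1; exact zero_ne_one hv1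
  have hgv' : suVal g *ᵥ (c • v) = μ • (c • v) := by rw [mulVec_smul, hgv, smul_comm]
  refine ⟨s⁻¹, μ, eig_ne_zero g hv0 hgv', ?_⟩
  rw [inv_inv, suVal_mul, suVal_mul, ← mulVec_mulVec, ← mulVec_mulVec, hs, hgv', mulVec_smul, ← hs, inv_apply]

/-- The stabiliser of a subspace. -/
def subStab (q : ℕ) (W : Submodule F (Fin n → F)) : Subgroup (SU n F q) where
  carrier := {s | ∀ x ∈ W, suVal s *ᵥ x ∈ W}
  one_mem' := fun x hx => by
    have e : suVal (1 : SU n F q) *ᵥ x = x := Matrix.one_mulVec x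
    rw [e]; exact hx
  mul_mem' := fun {a b} ha hb x hx => by rw [suVal_mul, ← mulVec_mulVec]; exact ha _ (hb x hx)
  inv_mem' := fun {a} ha x hx => by
    have hinj : Function.Injective fun y : W => (⟨suVal a *ᵥ y, ha y y.2⟩ : W) := fun y z h => by
      have := congrArg (fun w : W => suVal a⁻¹ *ᵥ (w : Fin n → F)) h
      simp only [inv_apply] at this
      exact Subtype.ext this
    obtain ⟨y, hy⟩ := (Finite.injective_iff_surjective.1 hinj) ⟨x, hx⟩
    rw [show x = suVal a *ᵥ (y : Fin n → F) from (congrArg Subtype.val hy).symm, inv_apply]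
    exact y.2

/-- `PSU₄`. -/
theorem hasTwoCover_four (hF : Fintype.card F = q ^ 2) : HasTwoCover (PSU 4 F q) := by
  classical
  have hik : (0 : Fin 4) ≠ 1 := by decide
  by_cases hex : ∃ W : Submodule F (Fin 4 → F), finrank F W = 2 ∧ ∀ x ∈ W, ∀ y ∈ W, hermForm 4 F q x y = 0
  swap
  · refine HasTwoCover.center (pointStab_ne_top hF hik) (pointStab_ne_top hF hik) (center_le_pointStab hF 0)
      (center_le_pointStab hF 0) fun g => ?_
    rcases four_cases hF g with h | ⟨W, h1, h2, -⟩
    · obtain ⟨x, hx⟩ := conj_into_point hF hik g h; exact ⟨x, Or.inl hx⟩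
    · exact absurd ⟨W, h1, h2⟩ hex
  obtain ⟨W₀, hW₀, hti₀⟩ := hex
  refine HasTwoCover.center (pointStab_ne_top hF hik) (K := subStab q W₀) ?_ (center_le_pointStab hF 0) ?_
    fun g => ?_
  · intro h
    have hall : ∀ v : Fin 4 → F, hermForm 4 F q v v = 0 → v ∈ W₀ := by
      intro v hv
      obtain ⟨θ, t, hθ, ht⟩ := exists_transvection hF hv
      by_contra hvW
      have horth : ∀ u ∈ W₀, hermForm 4 F q u v = 0 := fun u hu => by
        by_contra hne
        have hm : (θ * hermForm 4 F q u v) • v ∈ W₀ := by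
          have := (h ▸ Subgroup.mem_top t : t ∈ subStab q W₀) u hu
          rw [ht] at this
          simpa using W₀.sub_mem this hu
        refine hvW ?_
        have h5 := Submodule.smul_mem W₀ ((θ * hermForm 4 F q u v)⁻¹) hm
        rwa [smul_smul, inv_mul_cancel₀ (mul_ne_zero hθ hne), one_smul] at h5
      have hti : ∀ x ∈ W₀ ⊔ Submodule.span F {v}, ∀ y ∈ W₀ ⊔ Submodule.span F {v},
          hermForm 4 F q x y = 0 := by
        intro x hx y hy
        obtain ⟨a, ha, b, hb, rfl⟩ := Submodule.mem_sup.1 hx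
        obtain ⟨a', ha', b', hb', rfl⟩ := Submodule.mem_sup.1 hy
        obtain ⟨c, rfl⟩ := Submodule.mem_span_singleton.1 hb
        obtain ⟨c', rfl⟩ := Submodule.mem_span_singleton.1 hb'
        simp only [hermForm_add_left, h_add_right hF, hermForm_smul_left, h_smul_right hF, hti₀ a ha a' ha',
          horth a ha, h_comm hF (horth a' ha'), hv, mul_zero, add_zero]
      have h1 := finrank_ti hF hti
      have h2 : finrank F W₀ < finrank F (W₀ ⊔ Submodule.span F {v} : Submodule F (Fin 4 → F)) :=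
        Submodule.finrank_lt_finrank_of_lt (lt_of_le_of_ne le_sup_left fun e =>
          hvW (by rw [e]; exact Submodule.mem_sup_right (Submodule.mem_span_singleton_self v)))
      omega
    obtain ⟨c, hc, hv⟩ := exists_iso_two hF
    let f : Fin 3 → (Fin 4 → F) := ![Pi.single 0 1 + c • Pi.single 1 1, Pi.single 2 1 + c • Pi.single 3 1,
      Pi.single 0 1 + c • Pi.single 2 1]
    have hind : LinearIndependent F f := by
      rw [Fintype.linearIndependent_iff]
      intro a ha
      have h1 := congrFun ha 1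
      have h3 := congrFun ha 3
      have h0 := congrFun ha 0
      simp [f, Fin.sum_univ_three, hc] at h1 h3 h0
      intro i
      fin_cases i
      · exact h1
      · exact h3
      · simpa [h1] using h0
    have h1 := finrank_span_eq_card hind
    have h2 : Submodule.span F (Set.range f) ≤ W₀ := by
      rw [Submodule.span_le]
      rintro _ ⟨i, rfl⟩
      fin_cases i
      · exact hall _ (hv 0 1 (by decide))
      · exact hall _ (hv 2 3 (by decide))
      · exact hall _ (hv 0 2 (by decide))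
    have h3 := Submodule.finrank_mono h2
    rw [h1, Fintype.card_fin, hW₀] at h3
    omega
  · intro z hz x hx
    obtain ⟨c, hc⟩ := center_scalar hF hz
    rw [hc]; exact W₀.smul_mem c hx
  · rcases four_cases hF g with h | ⟨W, hW, hti, hinv⟩
    · obtain ⟨x, hx⟩ := conj_into_point hF hik g h; exact ⟨x, Or.inl hx⟩
    obtain ⟨C, hC⟩ := Submodule.exists_isCompl W
    obtain ⟨C₀, hC₀⟩ := Submodule.exists_isCompl W₀
    have hdim : ∀ {A B : Submodule F (Fin 4 → F)}, IsCompl A B → finrank F A = 2 → finrank F B = 2 :=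
      fun hAB hA => by
        have := Submodule.finrank_add_eq_of_isCompl hAB
        rw [hA, Module.finrank_fin_fun] at this
        omega
    obtain ⟨U, V', hp, hU, -, -⟩ := Cfsg.Agent.UnitPairDerange.exists_pr hF (show (4 : ℕ) = 2 + 2 from rfl)
      hW hti (hdim hC hW) hC.disjoint
    obtain ⟨U₀, V₀, hp₀, hU₀, -, -⟩ := Cfsg.Agent.UnitPairDerange.exists_pr hF (show (4 : ℕ) = 2 + 2 from rfl)
      hW₀ hti₀ (hdim hC₀ hW₀) hC₀.disjoint
    obtain ⟨x, ⟨hxU, hxd⟩, hxW, -⟩ := Cfsg.Agent.UnitPairDerange.exists_move (show (4 : ℕ) = 2 + 2 from rfl)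
      one_le_two hp hp₀
    have hdet : (x : Matrix (Fin 4) (Fin 4) F).det = 1 := congrArg Units.val (MonoidHom.mem_ker.1 hxd)
    let s : SU 4 F q := ⟨⟨(x : Matrix (Fin 4) (Fin 4) F), hdet⟩, fun u v => hxU u v⟩
    rw [hU, hU₀] at hxW
    refine ⟨s, Or.inr fun y hy => ?_⟩
    rw [← hxW] at hy
    obtain ⟨w, hw, rfl⟩ := hy
    rw [suVal_mul, suVal_mul, ← mulVec_mulVec, ← mulVec_mulVec, Matrix.toLin'_apply,
      show (x : Matrix (Fin 4) (Fin 4) F) = suVal s from rfl, inv_apply, ← hxW]
    exact ⟨_, hinv w hw, Matrix.toLin'_apply _ _⟩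

end Cfsg.Agent.Classical.TwoCover.Unit
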