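import Cfsg.Agent.Lib.Classical.TwoClassCoverUnit

/-!
`PSU₃(q)`, `q` a power of `3`, is the union of the conjugates of a point stabiliser and of the
normaliser of a Singer torus (which contains a regular unipotent element, of order `3`).
-/

set_option autoImplicit false
set_option linter.unusedSectionVars false

namespace Cfsg.Agent.Classical.TwoCover.Unit

open Matrix Polynomial Module
open Cfsg.Agent.UnitaryConjugacy Cfsg.Agent.UnitaryDetCentralizer

variable {F : Type} [Field F] [Fintype F] {q : ℕ}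

local notation "M3" => Matrix (Fin 3) (Fin 3) F

/-- In `SU₃`, `q` a power of three, similar elements are conjugate. -/
theorem conj_su (hF : Fintype.card F = q ^ 2) (hq3 : 3 ∣ q) (g l : SU 3 F q) (X : GL (Fin 3) F)
    (h : (X : M3) * suVal g = suVal l * (X : M3)) : ∃ x : SU 3 F q, x * g * x⁻¹ = l := by
  let G : GU 3 F q := ⟨Matrix.SpecialLinearGroup.toGL g.1, fun u v => g.2 u v⟩
  let L : GU 3 F q := ⟨Matrix.SpecialLinearGroup.toGL l.1, fun u v => l.2 u v⟩
  obtain ⟨P, hP⟩ := isConj_iff.1 (isConj_of_isConj hF G L (isConj_iff.2 ⟨X, mul_inv_eq_of_eq_mul (Units.ext h)⟩))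
  set M : M3 := ((P : GL (Fin 3) F) : M3) with hM
  have hMl : M * suVal g = suVal l * M := by
    have e := congrArg (fun z : GU 3 F q => ((z : GL (Fin 3) F) : M3)) (eq_mul_inv_iff_mul_eq.1 hP.symm)
    exact e.symm
  set d := M.det with hd
  have hd1 : d ^ (q + 1) = 1 := by
    rw [pow_succ']; exact det_unitary hF fun u v => P.2 u v
  obtain ⟨b, hb⟩ := hq3
  set c := d ^ b with hc
  have hc1 : c ^ (q + 1) = 1 := by rw [hc, ← pow_mul, mul_comm, pow_mul, hd1, one_pow]
  have hc3 : c ^ 3 * d = 1 := by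
    rw [hc, ← pow_mul, ← pow_succ, mul_comm b 3, ← hb, hd1]
  let s : SU 3 F q := ⟨⟨c • M, by rw [Matrix.det_smul, Fintype.card_fin]; exact hc3⟩, fun u v => by
    show hermForm 3 F q ((c • M) *ᵥ u) ((c • M) *ᵥ v) = _
    rw [smul_mulVec, smul_mulVec, hermForm_smul_left, h_smul_right hF, ← mul_assoc, ← pow_succ', hc1, one_mul]
    exact P.2 u v⟩
  refine ⟨s, mul_inv_eq_of_eq_mul (suVal_ext ?_)⟩
  show (c • M) * suVal g = suVal l * (c • M)
  rw [smul_mul_assoc, hMl, mul_smul_comm]

/-- An irreducible characteristic polynomial makes the space cyclic. -/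
theorem dvd_of_kills {g : M3} (hi : Irreducible g.charpoly) {w : Fin 3 → F} (hw : w ≠ 0) {P : F[X]}
    (h : aeval g P *ᵥ w = 0) : g.charpoly ∣ P := by
  by_contra hn
  obtain ⟨a, b, hab⟩ := hi.coprime_iff_not_dvd.2 hn
  refine hw ?_
  rw [← one_mulVec w, ← map_one (aeval (R := F) g), ← hab, map_add, map_mul, map_mul, add_mulVec,
    Matrix.aeval_self_charpoly, mul_zero, zero_mulVec, zero_add, ← mulVec_mulVec, h, mulVec_zero]

theorem cyclic {g : M3} (hi : Irreducible g.charpoly) {w : Fin 3 → F} (hw : w ≠ 0) (y : Fin 3 → F) :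
    ∃ P : F[X], aeval g P *ᵥ w = y := by
  classical
  let pol : (Fin 3 → F) → F[X] := fun c => Polynomial.C (c 0) + Polynomial.C (c 1) * X + Polynomial.C (c 2) * X ^ 2
  let φ : (Fin 3 → F) → (Fin 3 → F) := fun c => aeval g (pol c) *ᵥ w
  have hφ : Function.Injective φ := by
    intro c c' hcc
    have h0 : aeval g (pol c - pol c') *ᵥ w = 0 := by
      rw [map_sub, sub_mulVec]; exact sub_eq_zero.2 hcc
    have hz : pol c - pol c' = 0 := by
      refine Polynomial.eq_zero_of_dvd_of_degree_lt (dvd_of_kills hi hw h0) ?_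
      rw [Matrix.charpoly_degree_eq_dim, Fintype.card_fin]
      refine (Polynomial.degree_sub_le _ _).trans_lt (max_lt ?_ ?_) <;>
      · refine lt_of_le_of_lt (b := (2 : WithBot ℕ)) ?_ (by decide)
        simp only [pol]
        compute_degree
    funext i
    have hc := congrArg (fun P : F[X] => P.coeff (i : ℕ)) (sub_eq_zero.1 hz)
    fin_cases i <;> simpa [pol, Polynomial.coeff_X, Polynomial.coeff_C] using hc
  obtain ⟨c, hc⟩ := Finite.injective_iff_surjective.1 hφ y
  exact ⟨pol c, hc⟩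

/-- The commutant of a cyclic element consists of polynomials. -/
theorem comm_poly {g M : M3} (hi : Irreducible g.charpoly) (h : M * g = g * M) :
    ∃ P : F[X], M = aeval g P := by
  have hw : (Pi.single 0 1 : Fin 3 → F) ≠ 0 := by simp
  obtain ⟨P, hP⟩ := cyclic hi hw (M *ᵥ Pi.single 0 1)
  refine ⟨P, Matrix.ext_iff_mulVec.2 fun y => ?_⟩
  obtain ⟨Q, rfl⟩ := cyclic hi hw y
  have hc : M * aeval g Q = aeval g Q * M := by
    induction Q using Polynomial.induction_on with
    | C a => rw [aeval_C]; exact (Algebra.commutes a M).symm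
    | add a b ha hb => rw [map_add, mul_add, add_mul, ha, hb]
    | monomial k a ih => rw [pow_succ, ← mul_assoc, map_mul, aeval_X, ← mul_assoc, ih, mul_assoc, h, mul_assoc]
  rw [mulVec_mulVec, hc, ← mulVec_mulVec, ← hP, mulVec_mulVec, mulVec_mulVec, ← map_mul, ← map_mul, mul_comm]

theorem eq_zero_of_kills {g : M3} (hi : Irreducible g.charpoly) {P : F[X]} {w : Fin 3 → F} (hw : w ≠ 0)
    (h : aeval g P *ᵥ w = 0) : aeval g P = 0 := by
  obtain ⟨c, rfl⟩ := dvd_of_kills hi hw h
  rw [map_mul, Matrix.aeval_self_charpoly, zero_mul]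

theorem aeval_pow_card (g : M3) (P : F[X]) :
    aeval (g ^ Fintype.card F) P = (aeval g P) ^ Fintype.card F := by
  rw [← Polynomial.expand_aeval, FiniteField.expand_card, map_pow]

/-- Facts on an irreducible characteristic polynomial in `SU₃`. -/
theorem irr_pow (hF : Fintype.card F = q ^ 2) (g : SU 3 F q) (hi : Irreducible (suVal g).charpoly) :
    (suVal g).charpoly ∣ X ^ (q ^ 3 + 1) - 1 ∧ suVal g ^ (q ^ 3 + 1) = 1 := by
  have h := (selfDual_irreducible hF (Matrix.charpoly_monic _) hi (charpoly_coeff_zero g)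
    (cdual_charpoly_su hF g)).2
  rw [Matrix.charpoly_natDegree_eq_dim, Fintype.card_fin] at h
  refine ⟨h, ?_⟩
  obtain ⟨c, hc⟩ := h
  have e := congrArg (aeval (suVal g)) hc
  rw [map_sub, map_pow, aeval_X, map_one, map_mul, Matrix.aeval_self_charpoly, zero_mul] at e
  exact sub_eq_zero.1 e

theorem exists_three (hF : Fintype.card F = q ^ 2) {a : ℕ} (hqa : q = 3 ^ a) : CharP F 3 := by
  obtain ⟨p, hp⟩ := CharP.exists F
  haveI : Fact p.Prime := ⟨CharP.char_is_prime F p⟩
  obtain ⟨⟨r, hr0⟩, -, hr⟩ := FiniteField.card F p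
  have h : 3 ∣ p ^ r := by
    have h2 := two_le_q hF
    have ha : a ≠ 0 := by rintro rfl; rw [pow_zero] at hqa; omega
    rw [show p ^ r = q ^ 2 from hr.symm.trans hF, hqa, ← pow_mul]
    exact dvd_pow_self 3 (by omega)
  have := Nat.prime_dvd_prime_iff_eq Nat.prime_three Fact.out |>.1 (Nat.prime_three.dvd_of_dvd_pow h)
  exact this ▸ hp

/-- An element of the Singer field that is a root of a self-dual polynomial is unitary. -/
theorem unitary_root (hF : Fintype.card F = q ^ 2) {a : ℕ} (hqa : q = 3 ^ a) (g₀ : SU 3 F q)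
    (hi : Irreducible (suVal g₀).charpoly) {m : F[X]} (hm : m ∣ X ^ (q ^ 3 + 1) - 1) (P : F[X])
    (hP : aeval (aeval (suVal g₀) P) m = 0) : st hF (aeval (suVal g₀) P) * aeval (suVal g₀) P = 1 := by
  haveI := exists_three hF hqa
  haveI : CharP M3 3 := charP_of_injective_algebraMap (algebraMap F M3).injective 3
  set A := suVal g₀
  have h1 := (irr_pow hF g₀ hi).2
  have hst : st hF A = A ^ (q ^ 3) := by
    have h2 : st hF A * A = 1 :=
      (mem_GU_iff hF (Matrix.SpecialLinearGroup.toGL g₀.1)).1 (fun u v => g₀.2 u v)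
    calc st hF A = st hF A * A ^ (q ^ 3 + 1) := by rw [h1, mul_one]
      _ = (st hF A * A) * A ^ (q ^ 3) := by rw [pow_succ', mul_assoc]
      _ = _ := by rw [h2, one_mul]
  have hsmul : ∀ (c : F) (M : M3), st hF (c • M) = c ^ q • st hF M := fun c M => by
    ext i j; simp [st, qFrob_apply, mul_pow]
  have hpow : ∀ k : ℕ, st hF (A ^ k) = (A ^ k) ^ (q ^ 3) := by
    intro k
    induction k with
    | zero => simp [st_one hF]
    | succ k ih => rw [pow_succ A k, st_mul, ih, hst, ← pow_mul, ← pow_succ A k, ← pow_mul, ← pow_add]; ring_nf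
  have key : ∀ Q : F[X], st hF (aeval A Q) = (aeval A Q) ^ (q ^ 3) := by
    intro Q
    induction Q using Polynomial.induction_on' with
    | add u v hu hv =>
      have hc : Commute (aeval A u) (aeval A v) := by
        show aeval A u * aeval A v = aeval A v * aeval A u
        rw [← map_mul, ← map_mul, mul_comm]
      rw [map_add, st_add, hu, hv, show q ^ 3 = 3 ^ (3 * a) by rw [hqa, ← pow_mul, mul_comm],
        add_pow_char_pow_of_commute _ _ hc]
    | monomial k c =>
      rw [aeval_monomial, ← Algebra.smul_def, hsmul, hpow, _root_.smul_pow]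
      congr 1
      rw [show q ^ 3 = q ^ 2 * q by ring, pow_mul, show c ^ q ^ 2 = c by rw [← hF, FiniteField.pow_card]]
  obtain ⟨r, hr⟩ := hm
  have e := congrArg (aeval (aeval A P)) hr
  rw [map_sub, map_pow, aeval_X, map_one, map_mul, hP, zero_mul, sub_eq_zero] at e
  rw [key, ← pow_succ, e]

/-- The shape of a regular unipotent. -/
theorem regular_frame {N : M3} (h3 : N * (N * N) = 0) (h2 : N * N ≠ 0) :
    ∃ X : GL (Fin 3) F, N * (X : M3) = (X : M3) * !![0, 0, 0; 1, 0, 0; 0, 1, 0] := by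
  obtain ⟨w, hw⟩ : ∃ w, (N * N) *ᵥ w ≠ 0 := by
    by_contra h
    push Not at h
    exact h2 (Matrix.ext_iff_mulVec.2 fun w => by rw [h, zero_mulVec])
  set P : M3 := Matrix.of fun i j => ![w i, (N *ᵥ w) i, ((N * N) *ᵥ w) i] j with hP
  have hcol : ∀ c : Fin 3 → F, P *ᵥ c = c 0 • w + c 1 • (N *ᵥ w) + c 2 • ((N * N) *ᵥ w) := fun c => by
    funext i
    simp [hP, Matrix.mulVec, dotProduct, Fin.sum_univ_three, mul_comm]
  have hz : N *ᵥ ((N * N) *ᵥ w) = 0 := by rw [mulVec_mulVec, h3, zero_mulVec]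
  have h11 : N *ᵥ (N *ᵥ w) = (N * N) *ᵥ w := mulVec_mulVec _ _ _
  have hu : IsUnit P := by
    rw [← Matrix.mulVec_injective_iff_isUnit]
    intro x y hxy
    have e : P *ᵥ (x - y) = 0 := by rw [mulVec_sub, sub_eq_zero]; exact hxy
    rw [hcol] at e
    generalize hxy' : x - y = c at e
    have e1 := congrArg (fun z => N *ᵥ z) e
    simp only [mulVec_add, mulVec_smul, h11, hz, smul_zero, add_zero, mulVec_zero] at e1
    have e2 := congrArg (fun z => N *ᵥ z) e1
    simp only [mulVec_add, mulVec_smul, h11, hz, smul_zero, add_zero, mulVec_zero] at e2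
    have c0 := (smul_eq_zero.1 e2).resolve_right hw
    rw [c0, zero_smul, zero_add] at e1 e
    have c1 := (smul_eq_zero.1 e1).resolve_right hw
    rw [c1, zero_smul, zero_add] at e
    have c2 := (smul_eq_zero.1 e).resolve_right hw
    funext i
    fin_cases i
    · exact sub_eq_zero.1 ((congrFun hxy' 0).trans c0)
    · exact sub_eq_zero.1 ((congrFun hxy' 1).trans c1)
    · exact sub_eq_zero.1 ((congrFun hxy' 2).trans c2)
  obtain ⟨X, hX⟩ := hu
  refine ⟨X, Matrix.ext_iff_mulVec.2 fun c => ?_⟩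
  rw [← mulVec_mulVec, ← mulVec_mulVec, hX, hcol, hcol]
  simp [mulVec_add, mulVec_smul, h11, hz, Matrix.mulVec, dotProduct, Fin.sum_univ_three]

/-- A regular unipotent. -/
def IsReg (q : ℕ) (g : SU 3 F q) : Prop :=
  (suVal g - 1) * ((suVal g - 1) * (suVal g - 1)) = 0 ∧ (suVal g - 1) * (suVal g - 1) ≠ 0

theorem reg_conj (hF : Fintype.card F = q ^ 2) (hq3 : 3 ∣ q) (g l : SU 3 F q) (hg : IsReg q g) (hl : IsReg q l) :
    ∃ x : SU 3 F q, x * g * x⁻¹ = l := by
  obtain ⟨A, hA⟩ := regular_frame hg.1 hg.2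
  obtain ⟨B, hB⟩ := regular_frame hl.1 hl.2
  set C : M3 := !![0, 0, 0; 1, 0, 0; 0, 1, 0]
  have hA' : suVal g * (A : M3) = (A : M3) * (1 + C) := by
    rw [mul_add, mul_one, ← hA, sub_mul, one_mul, add_sub_cancel]
  have hB' : suVal l * (B : M3) = (B : M3) * (1 + C) := by
    rw [mul_add, mul_one, ← hB, sub_mul, one_mul, add_sub_cancel]
  refine conj_su hF hq3 g l (B * A⁻¹) ?_
  rw [Units.val_mul, ← mul_assoc (suVal l), hB', mul_assoc, mul_assoc]
  congr 1
  calc ((A⁻¹ : GL (Fin 3) F) : M3) * suVal g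
      = ((A⁻¹ : GL (Fin 3) F) : M3) * (suVal g * (A : M3)) * ((A⁻¹ : GL (Fin 3) F) : M3) := by
        rw [mul_assoc, mul_assoc (suVal g), Units.mul_inv, mul_one]
    _ = _ := by rw [hA', ← mul_assoc, Units.inv_mul, one_mul]

/-- The trichotomy in dimension three. -/
theorem three_cases (hF : Fintype.card F = q ^ 2) {a : ℕ} (hqa : q = 3 ^ a) (g : SU 3 F q) :
    HasAniso q (suVal g) ∨ Irreducible (suVal g).charpoly ∨ IsReg q g := by
  classical
  haveI := exists_three hF hqa
  by_cases hno : HasAniso q (suVal g)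
  · exact Or.inl hno
  right
  set A := suVal g
  have hd3 : A.charpoly.natDegree = 3 := by rw [Matrix.charpoly_natDegree_eq_dim, Fintype.card_fin]
  have hm := Matrix.charpoly_monic A
  have hd := cdual_charpoly_su hF g
  by_cases hroot : ∃ l, A.charpoly.IsRoot l
  swap
  · left
    rw [Polynomial.irreducible_iff_roots_eq_zero_of_degree_le_three (by omega) (by omega)]
    exact Multiset.eq_zero_of_forall_notMem fun x hx => hroot ⟨x, Polynomial.isRoot_of_mem_roots hx⟩
  right
  have linear : ∀ R : F[X], R.Monic → R.natDegree = 1 → R.coeff 0 ≠ 0 → cdual (qFrob hF) R = R →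
      ∃ μ : F, R = X - Polynomial.C μ ∧ μ ^ (q + 1) = 1 := by
    intro R hR hR1 hR0 hRd
    have hRe : R = X - Polynomial.C (-R.coeff 0) := by
      rw [map_neg, sub_neg_eq_add]; exact hR.eq_X_add_C hR1
    refine ⟨-R.coeff 0, hRe, ?_⟩
    rw [hRe, cdual_X_sub_C _ (neg_ne_zero.2 hR0), sub_right_inj, Polynomial.C_inj, qFrob_apply] at hRd
    generalize hμe : -R.coeff 0 = μ at hRd ⊢
    have hμ0 : μ ≠ 0 := fun h => by
      exact hR0 (neg_eq_zero.1 (hμe.trans h))
    rw [pow_succ]
    nth_rw 2 [← hRd]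
    rw [mul_inv_cancel₀ (pow_ne_zero q hμ0)]
  have h0 := charpoly_coeff_zero g
  by_cases hbad : ∃ l, A.charpoly.IsRoot l ∧ l ^ (q + 1) ≠ 1
  · exfalso
    obtain ⟨l, hl, hln⟩ := hbad
    obtain ⟨v, hv0, hv⟩ := Linear.exists_eigvec_of_root _ hl
    obtain ⟨w, hw0, hw⟩ := dual_eig hF g hv0 hv
    have hl0 : l ≠ 0 := eig_ne_zero g hv0 hv
    set l' := (l ^ q)⁻¹ with hl'
    have hl'0 : l' ≠ 0 := inv_ne_zero (pow_ne_zero q hl0)
    have hne : l ≠ l' := fun h => hln (by
      rw [pow_succ']
      nth_rw 1 [h]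
      exact inv_mul_cancel₀ (pow_ne_zero q hl0))
    have hl'' : (l' ^ q)⁻¹ = l := by rw [hl', inv_pow, inv_inv, pow_q_q hF]
    have hco : IsCoprime (X - Polynomial.C l) (X - Polynomial.C l') :=
      Polynomial.isCoprime_X_sub_C_of_isUnit_sub (sub_ne_zero.2 hne).isUnit
    obtain ⟨R, hR⟩ := hco.mul_dvd (Polynomial.dvd_iff_isRoot.2 hl)
      (Polynomial.dvd_iff_isRoot.2 (isRoot_of_eig A hw0 hw))
    have hAm : ((X - Polynomial.C l) * (X - Polynomial.C l')).Monic := (monic_X_sub_C l).mul (monic_X_sub_C l')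
    have hRm : R.Monic := hAm.of_mul_monic_left (hR ▸ hm)
    have hR1 : R.natDegree = 1 := by
      have := hAm.natDegree_mul hRm
      rw [← hR, hd3, (monic_X_sub_C l).natDegree_mul (monic_X_sub_C l'), natDegree_X_sub_C, natDegree_X_sub_C] at this
      omega
    have hA : cdual (qFrob hF) ((X - Polynomial.C l) * (X - Polynomial.C l')) =
        (X - Polynomial.C l) * (X - Polynomial.C l') := by
      rw [cdual_mul, cdual_X_sub_C _ hl0, cdual_X_sub_C _ hl'0, qFrob_apply, qFrob_apply, ← hl', hl'', mul_comm]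
    obtain ⟨μ, rfl, hμ⟩ := linear R hRm hR1 (fun h => h0 (by rw [hR, mul_coeff_zero, h, mul_zero]))
      (dual_cancel hF hAm.ne_zero hd hA hR)
    refine hno (simple_aniso hF g hμ (C' := (X - Polynomial.C l) * (X - Polynomial.C l')) (by rw [hR]; ring) ?_)
    simp only [IsRoot.def, eval_mul, eval_sub, eval_X, eval_C, mul_eq_zero, sub_eq_zero]
    rintro (rfl | rfl)
    · exact hln hμ
    · refine hne ?_
      rw [pow_succ'] at hμ
      exact ((eq_inv_of_mul_eq_one_left hμ).trans hl'').symm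
  · push Not at hbad
    obtain ⟨l, hl⟩ := hroot
    obtain ⟨C', hC⟩ := Polynomial.dvd_iff_isRoot.2 hl
    by_cases hC1 : C'.IsRoot l
    swap
    · exact absurd (simple_aniso hF g (hbad l hl) hC hC1) hno
    obtain ⟨R, hR⟩ := Polynomial.dvd_iff_isRoot.2 hC1
    have hR' : A.charpoly = (X - Polynomial.C l) * (X - Polynomial.C l) * R := by rw [hC, hR]; ring
    have hAm : ((X - Polynomial.C l) * (X - Polynomial.C l)).Monic := (monic_X_sub_C l).mul (monic_X_sub_C l)
    have hRm : R.Monic := hAm.of_mul_monic_left (hR' ▸ hm)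
    have hR1 : R.natDegree = 1 := by
      have := hAm.natDegree_mul hRm
      rw [← hR', hd3, (monic_X_sub_C l).natDegree_mul (monic_X_sub_C l), natDegree_X_sub_C] at this
      omega
    obtain ⟨μ, rfl, hμ⟩ := linear R hRm hR1 (fun h => h0 (by rw [hR', mul_coeff_zero, h, mul_zero]))
      (dual_cancel hF hAm.ne_zero hd (by rw [cdual_mul, cdual_fix hF (hbad l hl)]) hR')
    by_cases hμl : μ = l
    swap
    · refine absurd (simple_aniso hF g hμ (C' := (X - Polynomial.C l) * (X - Polynomial.C l))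
        (by rw [hR']; ring) ?_) hno
      simp [IsRoot.def, sub_eq_zero, hμl]
    subst hμl
    have h1 : μ = 1 := by
      have hdet : A.det = 1 := g.1.2
      rw [Matrix.det_eq_sign_charpoly_coeff, Fintype.card_fin, hR', mul_coeff_zero, mul_coeff_zero,
        coeff_sub, coeff_X_zero, coeff_C_zero] at hdet
      have h3 : (μ - 1) ^ 3 = 0 := by
        rw [sub_pow_char, one_pow]
        linear_combination hdet
      exact sub_eq_zero.1 (eq_zero_of_pow_eq_zero h3)
    subst h1
    set N := A - 1 with hN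
    have hN3 : N * (N * N) = 0 := by
      have e := Matrix.aeval_self_charpoly A
      rw [hR', map_mul, map_mul, map_sub, aeval_X, map_one, map_one, ← hN, mul_assoc] at e
      exact e
    refine ⟨hN3, fun h2 => ?_⟩
    let T := Matrix.toLin' N
    have hti : ∀ x ∈ LinearMap.ker T, ∀ y ∈ LinearMap.ker T, hermForm 3 F q x y = 0 := polar hF fun x hx => by
      by_contra hne
      refine hno ⟨x, 1, hne, ?_⟩
      rw [LinearMap.mem_ker, Matrix.toLin'_apply, hN, sub_mulVec, one_mulVec, sub_eq_zero] at hx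
      rw [one_smul]; exact hx
    have h1 := finrank_ti hF hti
    have h3 : LinearMap.range T ≤ LinearMap.ker T := by
      rintro _ ⟨x, rfl⟩
      rw [LinearMap.mem_ker, Matrix.toLin'_apply, Matrix.toLin'_apply, mulVec_mulVec, h2, zero_mulVec]
    have h4 := Submodule.finrank_mono h3
    have h5 := T.finrank_range_add_finrank_ker
    rw [Module.finrank_fin_fun] at h5
    omega

theorem su_pow_val (s : SU 3 F q) (k : ℕ) : suVal (s ^ k) = suVal s ^ k := suVal_pow s k

theorem irr_not_scalar {g : M3} (hi : Irreducible g.charpoly) {c : F} (h : ∀ x, g *ᵥ x = c • x) : False := by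
  have h1 : aeval g (X - Polynomial.C c) *ᵥ Pi.single 0 1 = 0 := by rw [aeval_X_sub_C, h, sub_self]
  have h2 := dvd_of_kills hi (by simp) h1
  have := Polynomial.natDegree_le_of_dvd h2 (X_sub_C_ne_zero c)
  rw [Matrix.charpoly_natDegree_eq_dim, Fintype.card_fin, natDegree_X_sub_C] at this
  omega

/-- The normaliser of a Singer cycle is proper. -/
theorem normalizer_ne_top (hF : Fintype.card F = q ^ 2) (g₀ : SU 3 F q) (hi : Irreducible (suVal g₀).charpoly) :
    Subgroup.normalizer (Subgroup.zpowers g₀ : Set (SU 3 F q)) ≠ ⊤ := by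
  intro h
  obtain ⟨c, hc, hv⟩ := exists_iso_two hF
  have hvv := hv (0 : Fin 3) 1 (by decide)
  generalize hgen : (Pi.single (0 : Fin 3) 1 + c • Pi.single 1 1 : Fin 3 → F) = v at hvv
  have hv0 : v ≠ 0 := fun e => by simpa [← hgen] using congrFun e 0
  obtain ⟨θ, t, hθ, ht⟩ := exists_transvection hF hvv
  have hm : t * g₀ * t⁻¹ ∈ Subgroup.zpowers g₀ :=
    (Subgroup.mem_normalizer_iff.1 (h ▸ Subgroup.mem_top t) g₀).1 (Subgroup.mem_zpowers g₀)
  obtain ⟨k, hk⟩ := (isOfFinOrder_of_finite g₀).mem_powers_iff_mem_zpowers.2 hm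
  simp only at hk
  -- a vector fixed by the commutator
  let L : (Fin 3 → F) →ₗ[F] F × F :=
    (hermB hF 3 v).prod (hermB hF 3 (suVal g₀ *ᵥ v))
  obtain ⟨x, hx0, hx⟩ : ∃ x, x ≠ 0 ∧ L x = 0 := by
    by_contra hno
    push Not at hno
    have hinj : Function.Injective L := by
      rw [← LinearMap.ker_eq_bot, Submodule.eq_bot_iff]
      intro x hx
      by_contra h0
      exact hno x h0 hx
    have := LinearMap.finrank_le_finrank_of_injective hinj
    rw [Module.finrank_fin_fun, Module.finrank_prod, Module.finrank_self] at this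
    omega
  have hx1 : hermForm 3 F q x v = 0 := congrArg Prod.fst hx
  have hx2 : hermForm 3 F q x (suVal g₀ *ᵥ v) = 0 := congrArg Prod.snd hx
  have htf : ∀ y, hermForm 3 F q y v = 0 → suVal t *ᵥ y = y := fun y hy => by
    rw [ht, hy, mul_zero, zero_smul, add_zero]
  have hfix : suVal (g₀ ^ k * g₀⁻¹) *ᵥ x = x := by
    rw [hk, suVal_mul, suVal_mul, suVal_mul, ← mulVec_mulVec, ← mulVec_mulVec, ← mulVec_mulVec]
    set y := suVal g₀⁻¹ *ᵥ x with hy
    have hyv : hermForm 3 F q y v = 0 := by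
      rw [← su_isom g₀, hy, apply_inv, hx2]
    have e : suVal t⁻¹ *ᵥ y = y := by
      conv_lhs => rw [← htf y hyv, inv_apply]
    rw [e, hy, apply_inv, htf x hx1]
  obtain ⟨k', hk'⟩ := (isOfFinOrder_of_finite g₀).mem_powers_iff_mem_zpowers.2
    (Subgroup.mul_mem _ (Subgroup.pow_mem _ (Subgroup.mem_zpowers g₀) k) (Subgroup.inv_mem _ (Subgroup.mem_zpowers g₀)) :
      g₀ ^ k * g₀⁻¹ ∈ Subgroup.zpowers g₀)
  simp only at hk'
  have hz : aeval (suVal g₀) (X ^ k' - 1 : F[X]) = 0 := eq_zero_of_kills hi hx0 (by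
    rw [map_sub, map_pow, aeval_X, map_one, sub_mulVec, one_mulVec, ← suVal_pow, hk', hfix, sub_self])
  have hone : g₀ ^ k' = 1 := suVal_ext (by
    rw [map_sub, map_pow, aeval_X, map_one, sub_eq_zero, ← suVal_pow] at hz
    rw [hz]; rfl)
  have hcomm : t * g₀ = g₀ * t := by
    rw [hk'.symm.trans hone |> mul_inv_eq_one.1] at hk
    exact eq_mul_inv_iff_mul_eq.1 hk |>.symm
  -- hence the transvection is trivial
  have hall : ∀ y, suVal t *ᵥ y = y := by
    intro y
    obtain ⟨P, rfl⟩ := cyclic hi hx0 y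
    have hc' : suVal t * aeval (suVal g₀) P = aeval (suVal g₀) P * suVal t := by
      induction P using Polynomial.induction_on with
      | C a => rw [aeval_C]; exact (Algebra.commutes a _).symm
      | add a b ha hb => rw [map_add, mul_add, add_mul, ha, hb]
      | monomial k a ih =>
        rw [pow_succ, ← mul_assoc, map_mul, aeval_X, ← mul_assoc, ih, mul_assoc, ← suVal_mul, hcomm, suVal_mul,
          mul_assoc]
    rw [mulVec_mulVec, hc', ← mulVec_mulVec, htf x hx1]
  have := hall (Pi.single 0 1)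
  rw [ht, add_eq_left, smul_eq_zero, mul_eq_zero] at this
  rcases this with (h1 | h1) | h1
  · exact hθ h1
  · rw [← hgen, h_add_right hF, h_single hF, h_smul_right hF, hermForm_single_right hF] at h1
    simp at h1
  · exact hv0 h1

theorem centralizer_ne_top {g₁ : SU 3 F q} (h : g₁ ∉ Subgroup.center (SU 3 F q)) :
    Subgroup.centralizer ({g₁} : Set (SU 3 F q)) ≠ ⊤ := fun e => h (Subgroup.mem_center_iff.2 fun x =>
  Subgroup.mem_centralizer_singleton_iff.1 (e ▸ Subgroup.mem_top x))

theorem reg_not_central (hF : Fintype.card F = q ^ 2) {g : SU 3 F q} (hg : IsReg q g) :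
    g ∉ Subgroup.center (SU 3 F q) := by
  intro h
  obtain ⟨c, hc⟩ := center_scalar hF h
  have hN : suVal g - 1 = (c - 1) • (1 : M3) := Matrix.ext_iff_mulVec.2 fun x => by
    rw [sub_mulVec, hc, one_mulVec, smul_mulVec, one_mulVec, sub_smul, one_smul]
  have h3 := hg.1
  rw [hN] at h3
  simp only [smul_mul_assoc, mul_smul_comm, one_mul, smul_smul, smul_eq_zero, one_ne_zero, or_false, mul_eq_zero,
    or_self] at h3
  exact hg.2 (by rw [hN, h3, zero_smul, mul_zero])

/-- The polynomial `P^Q - P` splits into translates of `P`. -/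
theorem dvd_sub_C_of_frobenius {f P : F[X]} (hf : Irreducible f) (h : f ∣ P ^ Fintype.card F - P) :
    ∃ c : F, f ∣ P - Polynomial.C c := by
  classical
  have hmon : (Polynomial.X ^ Fintype.card F - Polynomial.X : F[X]).Monic :=
    monic_X_pow_sub (by rw [degree_X]; exact_mod_cast Fintype.one_lt_card)
  have h2 := FiniteField.roots_X_pow_card_sub_X F
  have hcard : (Polynomial.X ^ Fintype.card F - Polynomial.X : F[X]).roots.card =
      (Polynomial.X ^ Fintype.card F - Polynomial.X : F[X]).natDegree := by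
    rw [h2, FiniteField.X_pow_card_sub_X_natDegree_eq _ Fintype.one_lt_card]; rfl
  have e := Polynomial.prod_multiset_X_sub_C_of_monic_of_roots_card_eq hmon hcard
  rw [h2] at e
  have e' : (∏ c : F, (Polynomial.X - Polynomial.C c)) = Polynomial.X ^ Fintype.card F - Polynomial.X := e
  have e2 := congrArg (fun R => R.comp P) e'
  simp only [prod_comp, sub_comp, X_comp, C_comp, X_pow_comp] at e2
  rw [← e2] at h
  obtain ⟨c, -, hc⟩ := hf.prime.exists_mem_finset_dvd h
  exact ⟨c, hc⟩

theorem frobenius_ne {A : M3} (hi : Irreducible A.charpoly) (h : A ^ Fintype.card F = A) : False := by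
  have hd : A.charpoly ∣ Polynomial.X ^ Fintype.card F - Polynomial.X :=
    dvd_of_kills hi (w := Pi.single 0 1) (by simp) (by rw [map_sub, map_pow, aeval_X, h, sub_self, zero_mulVec])
  obtain ⟨c, hc⟩ := dvd_sub_C_of_frobenius hi hd
  have := Polynomial.natDegree_le_of_dvd hc (X_sub_C_ne_zero c)
  rw [Matrix.charpoly_natDegree_eq_dim, Fintype.card_fin, natDegree_X_sub_C] at this
  omega

/-- A regular unipotent normalising a Singer cycle. -/
theorem exists_reg_normal (hF : Fintype.card F = q ^ 2) {a : ℕ} (ha : 1 ≤ a) (hqa : q = 3 ^ a) (g₀ : SU 3 F q)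
    (hi : Irreducible (suVal g₀).charpoly) :
    ∃ u : SU 3 F q, IsReg q u ∧ u ∈ Subgroup.normalizer (Subgroup.zpowers g₀ : Set (SU 3 F q)) := by
  haveI := exists_three hF hqa
  haveI : CharP M3 3 := charP_of_injective_algebraMap (algebraMap F M3).injective 3
  set A := suVal g₀ with hA
  set Q := Fintype.card F with hQ
  set g1 := g₀ ^ Q with hg1
  have hA1 : suVal g1 = A ^ Q := suVal_pow g₀ Q
  have hr1 : aeval (suVal g1) A.charpoly = 0 := by
    rw [hA1, aeval_pow_card, Matrix.aeval_self_charpoly, zero_pow Fintype.card_ne_zero]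
  obtain ⟨X, hX⟩ := Linear.conj_root hi hr1 (Matrix.aeval_self_charpoly A)
  obtain ⟨x, hx⟩ := conj_su hF (hqa ▸ dvd_pow_self 3 (by omega)) g₀ g1 X hX
  have hh6 : A ^ (Q * Q * Q) = A := by
    have h1 := (irr_pow hF g₀ hi).2
    have e : Q * Q * Q = (q ^ 3 + 1) * (q ^ 3 - 1) + 1 := by
      rw [← Nat.sq_sub_sq, hF, one_pow]
      have : 1 ≤ (q ^ 3) ^ 2 := Nat.one_le_pow _ _ (by have := two_le_q hF; positivity)
      rw [Nat.sub_add_cancel this]; ring
    rw [e, pow_add, pow_mul, h1, one_pow, one_mul, pow_one]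
  have hQ3 : g₀ ^ (Q * Q * Q) = g₀ := suVal_ext (by rw [suVal_pow]; exact hh6)
  have hconj : ∀ k : ℕ, x * g₀ ^ k * x⁻¹ = g₀ ^ (Q * k) := fun k => by
    rw [← conj_pow, hx, hg1, ← pow_mul]
  have hx3 : x * x * x * g₀ * (x * x * x)⁻¹ = g₀ := by
    conv_rhs => rw [← hQ3]
    calc x * x * x * g₀ * (x * x * x)⁻¹ = x * (x * (x * g₀ ^ 1 * x⁻¹) * x⁻¹) * x⁻¹ := by group
      _ = _ := by rw [hconj, hconj, hconj, mul_one, ← mul_assoc]
  set z := x * x * x with hz
  have hzc : suVal z * A = A * suVal z := by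
    rw [hA, ← suVal_mul, ← suVal_mul, mul_inv_eq_iff_eq_mul.1 hx3]
  obtain ⟨P, hP⟩ := comm_poly hi hzc
  have hxA : ∀ R : F[X], suVal x * aeval A R = aeval (A ^ Q) R * suVal x := by
    intro R
    induction R using Polynomial.induction_on with
    | C c => rw [aeval_C, aeval_C]; exact (Algebra.commutes c _).symm
    | add u v hu hv => rw [map_add, map_add, mul_add, add_mul, hu, hv]
    | monomial k c ih =>
      rw [pow_succ, ← mul_assoc, map_mul, map_mul (aeval (A ^ Q)), aeval_X, aeval_X, ← mul_assoc, ih, mul_assoc,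
        mul_assoc]
      congr 1
      rw [← hA1, hA, ← suVal_mul, ← suVal_mul, mul_inv_eq_iff_eq_mul.1 hx]
  have hPQ : aeval A (P ^ Q - P) = 0 := by
    have e1 : suVal x * suVal z = suVal z * suVal x := by
      rw [← suVal_mul, ← suVal_mul, hz]; group
    have e2 : suVal x * aeval A P = (aeval A P) ^ Q * suVal x := by
      rw [hxA, hQ, aeval_pow_card]
    rw [← hP, e1] at e2
    have := congrArg (fun M => M * suVal x⁻¹) e2
    simp only [mul_assoc, suVal_mul_inv, mul_one] at this
    rw [map_sub, map_pow, ← hP, ← this, sub_self]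
  have hdvd : A.charpoly ∣ P ^ Q - P :=
    dvd_of_kills hi (w := Pi.single 0 1) (by simp) (by rw [hPQ, zero_mulVec])
  obtain ⟨c, hc⟩ : ∃ c : F, ∀ y, suVal z *ᵥ y = c • y := by
    obtain ⟨c, hc⟩ := dvd_sub_C_of_frobenius hi hdvd
    refine ⟨c, fun y => ?_⟩
    obtain ⟨r, hr⟩ := hc
    rw [hP, show P = Polynomial.C c + A.charpoly * r by rw [← hr]; ring, map_add, map_mul,
      Matrix.aeval_self_charpoly, zero_mul, add_zero, aeval_C, Algebra.algebraMap_eq_smul_one, smul_mulVec, one_mulVec]
  have hc1 : c = 1 := by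
    have hM : suVal z = c • (1 : M3) := Matrix.ext_iff_mulVec.2 fun y => by rw [hc, smul_mulVec, one_mulVec]
    have hdet : (suVal z).det = 1 := z.1.2
    rw [hM, Matrix.det_smul, Fintype.card_fin, Matrix.det_one, mul_one] at hdet
    have h3 : (c - 1) ^ 3 = 0 := by rw [sub_pow_char, hdet, one_pow, sub_self]
    exact sub_eq_zero.1 (eq_zero_of_pow_eq_zero h3)
  have hX1 : suVal x * suVal x * suVal x = 1 := Matrix.ext_iff_mulVec.2 fun y => by
    rw [← suVal_mul, ← suVal_mul, ← hz, hc, hc1, one_smul, one_mulVec]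
  set M := suVal x with hM
  have hnA : A ^ Q ≠ A := fun e => frobenius_ne hi e
  refine ⟨x, ⟨?_, ?_⟩, ?_⟩
  · rw [← mul_assoc, ← pow_three', sub_pow_char_of_commute _ (Commute.one_right M), one_pow, pow_three', hX1,
      sub_self]
  · intro h2
    have h3 : M * M + M + 1 = 0 := by
      have e : (M - 1) * (M - 1) = M * M + M + 1 - (3 : M3) * M := by noncomm_ring
      rw [h2, show (3 : M3) = 0 from CharP.cast_eq_zero M3 3, zero_mul, sub_zero] at e
      exact e.symm
    set B := aeval A (Polynomial.X ^ Q : F[X]) with hB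
    have hB' : B = A ^ Q := by rw [hB, map_pow, aeval_X]
    have t1 : M * A = A ^ Q * M := by
      have := hxA Polynomial.X
      rwa [aeval_X, aeval_X] at this
    have t2 : M * M * A = A ^ (Q * Q) * (M * M) := by
      have := hxA (Polynomial.X ^ Q)
      rw [map_pow, map_pow, aeval_X, aeval_X, ← pow_mul] at this
      rw [mul_assoc, t1, ← mul_assoc, this, mul_assoc]
    have e1 : A ^ (Q * Q) * (M * M) + A ^ Q * M + A = 0 := by
      have := congrArg (fun Z => Z * A) h3
      simp only [add_mul, one_mul, zero_mul] at this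
      rwa [t2, t1] at this
    have e2 : (A ^ Q - A ^ (Q * Q)) * M = -(A - A ^ (Q * Q)) := by
      have e3 : A ^ (Q * Q) * (M * M + M + 1) = 0 := by rw [h3, mul_zero]
      rw [mul_add, mul_add, mul_one] at e3
      linear_combination (norm := noncomm_ring) e1 - e3
    by_cases hd : A.charpoly ∣ Polynomial.X ^ Q - Polynomial.X ^ (Q * Q)
    · obtain ⟨r, hr⟩ := hd
      have e := congrArg (aeval A) hr
      rw [map_sub, map_pow, map_pow, aeval_X, map_mul, Matrix.aeval_self_charpoly, zero_mul, sub_eq_zero] at e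
      have e' : A ^ (Q * Q) = A := by
        have := congrArg (fun Z => Z ^ (Q * Q)) e
        simp only [← pow_mul] at this
        rw [← mul_assoc, hh6, show Q * Q * (Q * Q) = Q * Q * Q * Q by ring, pow_mul A (Q * Q * Q), hh6] at this
        rw [e] at this
        exact this.symm
      exact hnA (e.trans e')
    · obtain ⟨u, v, huv⟩ := hi.coprime_iff_not_dvd.2 hd
      have hinv : aeval A v * (A ^ Q - A ^ (Q * Q)) = 1 := by
        have := congrArg (aeval A) huv
        rwa [map_add, map_mul, map_mul, Matrix.aeval_self_charpoly, mul_zero, zero_add, map_sub, map_pow,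
          map_pow, aeval_X, map_one] at this
      have hMA : M * A = A * M := by
        have e4 : M = -(aeval A v * (A - A ^ (Q * Q))) := by
          calc M = aeval A v * (A ^ Q - A ^ (Q * Q)) * M := by rw [hinv, one_mul]
            _ = _ := by rw [mul_assoc, e2, mul_neg]
        have hpoly : M = aeval A (-(v * (Polynomial.X - Polynomial.X ^ (Q * Q)))) := by
          rw [e4, map_neg, map_mul, map_sub, map_pow, aeval_X]
        rw [hpoly]
        conv_lhs => arg 2; rw [← aeval_X (R := F) A]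
        conv_rhs => arg 1; rw [← aeval_X (R := F) A]
        rw [← map_mul, ← map_mul, mul_comm]
      have hQQ : A ^ Q = A := by
        rw [t1] at hMA
        have := congrArg (fun Z => Z * suVal x⁻¹) hMA
        simp only [mul_assoc, hM, suVal_mul_inv, mul_one] at this
        exact this
      exact hnA hQQ
  · refine Subgroup.mem_normalizer_iff.2 fun h => ⟨fun hh => ?_, fun hh => ?_⟩
    · obtain ⟨k, rfl⟩ := (isOfFinOrder_of_finite g₀).mem_powers_iff_mem_zpowers.2 hh
      rw [hconj]; exact Subgroup.pow_mem _ (Subgroup.mem_zpowers g₀) _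
    · obtain ⟨k, hk⟩ := (isOfFinOrder_of_finite g₀).mem_powers_iff_mem_zpowers.2 hh
      simp only at hk
      have hinj : h = g₀ ^ (Q * Q * k) := by
        have e : x * g₀ ^ (Q * Q * k) * x⁻¹ = g₀ ^ k := by
          rw [hconj, ← mul_assoc, ← mul_assoc, pow_mul, hQ3]
        rw [hk] at e
        exact (mul_left_cancel (mul_right_cancel e)).symm
      rw [hinj]; exact Subgroup.pow_mem _ (Subgroup.mem_zpowers g₀) _

/-- `PSU₃(q)`, `q` a power of three. -/
theorem hasTwoCover_three (hF : Fintype.card F = q ^ 2) {a : ℕ} (ha : 1 ≤ a) (hqa : q = 3 ^ a) :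
    HasTwoCover (PSU 3 F q) := by
  classical
  have hik : (0 : Fin 3) ≠ 1 := by decide
  have hq3 : 3 ∣ q := hqa ▸ dvd_pow_self 3 (by omega)
  by_cases hirr : ∃ g₀ : SU 3 F q, Irreducible (suVal g₀).charpoly
  · obtain ⟨g₀, hi⟩ := hirr
    obtain ⟨u, hu, hun⟩ := exists_reg_normal hF ha hqa g₀ hi
    refine HasTwoCover.center (pointStab_ne_top hF hik) (normalizer_ne_top hF g₀ hi) (center_le_pointStab hF 0)
      (Subgroup.center_le_normalizer _) fun g => ?_
    rcases three_cases hF hqa g with h | h | h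
    · obtain ⟨x, hx⟩ := conj_into_point hF hik g h; exact ⟨x, Or.inl hx⟩
    · obtain ⟨P, hP⟩ := Linear.exists_root_mod h hi
        (by rw [Matrix.charpoly_natDegree_eq_dim, Matrix.charpoly_natDegree_eq_dim])
      have hr : aeval (aeval (suVal g₀) P) (suVal g).charpoly = 0 := by
        obtain ⟨r, hr⟩ := hP
        rw [← Polynomial.aeval_comp, hr, map_mul, Matrix.aeval_self_charpoly, zero_mul]
      obtain ⟨X, hX⟩ := Linear.conj_root h hr (Matrix.aeval_self_charpoly (suVal g))
      have hdet : (aeval (suVal g₀) P).det = 1 := by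
        have e := congrArg Matrix.det hX
        rw [Matrix.det_mul, Matrix.det_mul, show (suVal g).det = 1 from g.1.2, mul_one] at e
        exact mul_right_cancel₀ (X.isUnit.map Matrix.detMonoidHom).ne_zero (e.symm.trans (one_mul _).symm)
      let l : SU 3 F q := ⟨⟨aeval (suVal g₀) P, hdet⟩, fun v w => by
        have hu : IsUnit (aeval (suVal g₀) P) := (Matrix.isUnit_iff_isUnit_det _).2 (by rw [hdet]; exact isUnit_one)
        obtain ⟨G, hG⟩ := hu
        have := (mem_GU_iff hF G).2 (by rw [hG]; exact unitary_root hF hqa g₀ hi (irr_pow hF g h).1 P hr)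
        show hermForm 3 F q (aeval (suVal g₀) P *ᵥ v) (aeval (suVal g₀) P *ᵥ w) = _
        rw [← hG]; exact this v w⟩
      obtain ⟨x, hx⟩ := conj_su hF hq3 g l X hX
      refine ⟨x, Or.inr ?_⟩
      rw [hx]
      have hc : l * g₀ = g₀ * l := suVal_ext (by
        show aeval (suVal g₀) P * suVal g₀ = suVal g₀ * aeval (suVal g₀) P
        conv_lhs => arg 2; rw [← aeval_X (R := F) (suVal g₀)]
        conv_rhs => arg 1; rw [← aeval_X (R := F) (suVal g₀)]
        rw [← map_mul, ← map_mul, mul_comm])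
      refine Subgroup.mem_normalizer_iff.2 fun t => ⟨fun ht => ?_, fun ht => ?_⟩
      · obtain ⟨k, rfl⟩ := Subgroup.mem_zpowers_iff.1 ht
        rw [(Commute.zpow_right hc k).eq, mul_inv_cancel_right]
        exact Subgroup.zpow_mem _ (Subgroup.mem_zpowers g₀) k
      · obtain ⟨k, hk⟩ := Subgroup.mem_zpowers_iff.1 ht
        have e : l * g₀ ^ k * l⁻¹ = g₀ ^ k := by rw [(Commute.zpow_right hc k).eq, mul_inv_cancel_right]
        have ht' : t = g₀ ^ k := (mul_left_cancel (mul_right_cancel (e.trans hk))).symm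
        rw [ht']
        exact Subgroup.zpow_mem _ (Subgroup.mem_zpowers g₀) k
    · obtain ⟨x, hx⟩ := reg_conj hF hq3 g u h hu
      exact ⟨x, Or.inr (hx ▸ hun)⟩
  · by_cases hreg : ∃ u : SU 3 F q, IsReg q u
    · obtain ⟨u, hu⟩ := hreg
      refine HasTwoCover.center (pointStab_ne_top hF hik) (centralizer_ne_top (reg_not_central hF hu))
        (center_le_pointStab hF 0) (Subgroup.center_le_centralizer _) fun g => ?_
      rcases three_cases hF hqa g with h | h | h
      · obtain ⟨x, hx⟩ := conj_into_point hF hik g h; exact ⟨x, Or.inl hx⟩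
      · exact absurd ⟨g, h⟩ hirr
      · obtain ⟨x, hx⟩ := reg_conj hF hq3 g u h hu
        refine ⟨x, Or.inr ?_⟩
        rw [hx, Subgroup.mem_centralizer_singleton_iff]
    · refine HasTwoCover.center (pointStab_ne_top hF hik) (pointStab_ne_top hF hik)
        (center_le_pointStab hF 0) (center_le_pointStab hF 0) fun g => ?_
      rcases three_cases hF hqa g with h | h | h
      · obtain ⟨x, hx⟩ := conj_into_point hF hik g h; exact ⟨x, Or.inl hx⟩
      · exact absurd ⟨g, h⟩ hirr
      · exact absurd ⟨g, h⟩ hreg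

end Cfsg.Agent.Classical.TwoCover.Unit
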