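import Cfsg.Agent.Lib.Classical.OrthModels
import Cfsg.Agent.Lib.Classical.OrthOmegaIndex
import Cfsg.Agent.Lib.Classical.OrthCount
import Cfsg.Agent.Lib.Classical.OrthSimple

/-!
A large elementary abelian `2`-subgroup of the odd-dimensional `PΩ` in odd characteristic.
-/

set_option autoImplicit false
set_option linter.unusedSectionVars false
set_option quotPrecheck false
set_option maxHeartbeats 800000

namespace Cfsg.Agent.Classical.TwoRank

open Matrix OrthAut
open scoped commutatorElement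

section General

variable {F : Type*} [Field F] {ι : Type} [Fintype ι] [DecidableEq ι] {Q : QuadraticForm F (ι → F)}

theorem refl_mul_mem_omega (h2 : (2 : F) ≠ 0) (hQ : (QuadraticMap.polarBilin Q).Nondegenerate) {v w : ι → F}
    (hv : Q v ≠ 0) (hw : Q w ≠ 0) (h : IsSquare (Q v / Q w)) : refl hv * refl hw ∈ Omega F ⇑Q := by
  obtain ⟨g, hg⟩ := refl_class h2 hQ hv hw h
  have hinv : (refl hv)⁻¹ = refl hv := inv_eq_of_mul_eq_one_right (refl_mul_self hv)
  have : refl hv * refl hw = ⁅refl hv, g⁆ := by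
    rw [hg, commutatorElement_def, hinv, mul_assoc, mul_assoc, mul_assoc]
  rw [this, Omega, commutator_def]
  exact Subgroup.commutator_mem_commutator (Subgroup.mem_top _) (Subgroup.mem_top _)

theorem exists_diag (h2 : (2 : F) ≠ 0) (hQ : (QuadraticMap.polarBilin Q).Nondegenerate) {κ : Type*} [DecidableEq κ]
    (t : κ → ι → F) (ht : ∀ k, Q (t k) ≠ 0) (horth : ∀ k l, k ≠ l → QuadraticMap.polar ⇑Q (t k) (t l) = 0)
    (c : κ) : ∀ S : Finset κ, c ∉ S → (∀ k ∈ S, Q (t k) = Q (t c)) →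
      ∃ e ∈ Omega F ⇑Q, ∀ k, ogVal e *ᵥ t k =
        (if k ∈ S then (-1 : F) else if k = c then (-1) ^ S.card else 1) • t k := by
  intro S
  induction S using Finset.induction_on with
  | empty => exact fun _ _ => ⟨1, one_mem _, fun k => by simp⟩
  | @insert j S hj ih =>
    intro hc hq
    rw [Finset.mem_insert] at hc
    push Not at hc
    obtain ⟨e, he, hek⟩ := ih hc.2 fun k hk => hq k (Finset.mem_insert_of_mem hk)
    refine ⟨refl (ht j) * refl (ht c) * e, mul_mem (refl_mul_mem_omega h2 hQ (ht j) (ht c) ?_) he, fun k => ?_⟩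
    · exact ⟨1, by rw [hq j (Finset.mem_insert_self j S), div_self (ht c), one_mul]⟩
    have hr : ∀ l, ogVal (refl (ht l)) *ᵥ t k = (if k = l then (-1 : F) else 1) • t k := fun l => by
      rw [refl_apply]
      split_ifs with hkl
      · subst hkl
        rw [polar_self2, show (Q (t k))⁻¹ * (2 * Q (t k)) = 2 by
          rw [mul_left_comm, inv_mul_cancel₀ (ht k), mul_one]]
        module
      · rw [horth l k (Ne.symm hkl), mul_zero, zero_smul, sub_zero, one_smul]
    rw [ogVal_mul, ogVal_mul, ← Matrix.mulVec_mulVec, ← Matrix.mulVec_mulVec, hek, Matrix.mulVec_smul,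
      Matrix.mulVec_smul, hr, Matrix.mulVec_smul, hr, smul_smul, smul_smul]
    congr 1
    rw [Finset.card_insert_of_notMem hj, pow_succ]
    by_cases hkj : k = j
    · subst hkj
      simp [hj, Ne.symm hc.1]
    · by_cases hkc : k = c
      · subst hkc
        simp [hkj, hc.2]
      · simp [hkj, hkc]

end General

variable {F : Type*} [Field F]

theorem pomega_elementary [Fintype F] (h2 : (2 : F) ≠ 0) {m : ℕ} (hm : 3 ≤ m) :
    ∃ E : Subgroup (POmega F ⇑(qfOdd m F)), (∀ x ∈ E, x * x = 1) ∧ 2 ^ (2 * m - 1) ≤ Nat.card E := by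
  classical
  obtain ⟨n, rfl⟩ : ∃ n, m = n + 1 := ⟨m - 1, by omega⟩
  have hnd := nondegenerate_qfOdd (F := F) (n + 1) h2
  have hT : Tri (qfOdd (n + 1) F) := tri_qfOdd hm
  obtain ⟨Q, hQdef⟩ : ∃ Q, Q = qfOdd (n + 1) F := ⟨_, rfl⟩
  rw [← hQdef] at hnd hT ⊢
  let ex : Fin (n + 1) → (Unit ⊕ (Fin (n + 1) ⊕ Fin (n + 1))) → F := fun i => Pi.single (Sum.inr (Sum.inl i)) 1
  let ey : Fin (n + 1) → (Unit ⊕ (Fin (n + 1) ⊕ Fin (n + 1))) → F := fun i => Pi.single (Sum.inr (Sum.inr i)) 1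
  let ez : (Unit ⊕ (Fin (n + 1) ⊕ Fin (n + 1))) → F := Pi.single (Sum.inl ()) 1
  let t : Unit ⊕ (Fin (n + 1) ⊕ Fin (n + 1)) → (Unit ⊕ (Fin (n + 1) ⊕ Fin (n + 1))) → F :=
    Sum.elim (fun _ => ez) (Sum.elim (fun i => ex i + ey i) fun i => ex i - ey i)
  have hq : ∀ k, Q (t k) = Sum.elim (fun _ => (1 : F)) (Sum.elim (fun _ => 1) fun _ => -1) k := by
    rintro (u | i | i) <;>
      simp [t, ex, ey, ez, hQdef, qfOdd_apply, quadFormOdd, Pi.single_apply, Finset.sum_ite_eq']
  have ht : ∀ k, Q (t k) ≠ 0 := by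
    rintro (u | i | i) <;> simp [hq]
  have horth : ∀ k l, k ≠ l → QuadraticMap.polar ⇑Q (t k) (t l) = 0 := by
    rintro (u | i | i) (u' | j | j) h <;> rw [hQdef, polar_qfOdd] <;>
      simp [t, ex, ey, ez, Pi.single_apply, Finset.sum_add_distrib] at h ⊢ <;>
      (try simp [h, Ne.symm h]) <;> by_cases e : i = j <;> simp [e, eq_comm]
  have gen : ∀ (g : isometryGroup F ⇑Q) (s : F), (∀ k, ogVal g *ᵥ t k = s • t k) → ogVal g = s • 1 := by
    intro g s hg
    refine Matrix.ext_iff_mulVec.2 fun v => ?_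
    suffices h : ∀ k, ogVal g *ᵥ Pi.single k 1 = s • Pi.single k (1 : F) by
      rw [Matrix.smul_mulVec, Matrix.one_mulVec, pi_eq_sum_univ' v, Matrix.mulVec_sum, Finset.smul_sum]
      exact Finset.sum_congr rfl fun k _ => by rw [Matrix.mulVec_smul, h, smul_comm]
    have hs : ∀ i : Fin (n + 1), ex i = (2⁻¹ : F) • (t (.inr (.inl i)) + t (.inr (.inr i))) ∧
        ey i = (2⁻¹ : F) • (t (.inr (.inl i)) - t (.inr (.inr i))) := fun i => by
      constructor <;> simp only [t, Sum.elim_inr, Sum.elim_inl] <;> match_scalars <;> field_simp <;> ring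
    rintro (u | i | i)
    · exact hg (.inl u)
    · show ogVal g *ᵥ ex i = s • ex i
      rw [(hs i).1, Matrix.mulVec_smul, Matrix.mulVec_add, hg, hg, ← smul_add, smul_comm]
    · show ogVal g *ᵥ ey i = s • ey i
      rw [(hs i).2, Matrix.mulVec_smul, Matrix.mulVec_sub, hg, hg, ← smul_sub, smul_comm]
  -- the diagonal subgroup
  let D : Subgroup (Omega F ⇑Q) :=
    { carrier := {g | ∀ k, ∃ s : F, s * s = 1 ∧ ogVal g.1 *ᵥ t k = s • t k}
      one_mem' := fun k => ⟨1, one_mul 1, by simp⟩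
      mul_mem' := fun {g g'} hg hg' k => by
        obtain ⟨s, hs, hs'⟩ := hg k
        obtain ⟨r, hr, hr'⟩ := hg' k
        exact ⟨r * s, by rw [mul_mul_mul_comm, hr, hs, one_mul], by
          rw [Subgroup.coe_mul, ogVal_mul, ← Matrix.mulVec_mulVec, hr', Matrix.mulVec_smul, hs', smul_smul]⟩
      inv_mem' := fun {g} hg k => by
        obtain ⟨s, hs, hs'⟩ := hg k
        refine ⟨s, hs, ?_⟩
        conv_lhs => rw [show t k = ogVal g.1 *ᵥ (s • t k) by rw [Matrix.mulVec_smul, hs', smul_smul, hs, one_smul]]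
        rw [Subgroup.coe_inv, ogVal_inv_cancel] }
  have hsq : ∀ g ∈ D, g * g = 1 := fun g hg => Subtype.ext (ogVal_ext (by
    rw [Subgroup.coe_one, ogVal_one, gen (g * g).1 1 fun k => ?_, one_smul]
    obtain ⟨s, hs, hs'⟩ := hg k
    rw [Subgroup.coe_mul, ogVal_mul, ← Matrix.mulVec_mulVec, hs', Matrix.mulVec_smul, hs', smul_smul, hs]))
  refine ⟨D.map (QuotientGroup.mk' _), ?_, ?_⟩
  · rintro _ ⟨g, hg, rfl⟩
    rw [← map_mul, hsq g hg, map_one]
  obtain ⟨cy, hcy⟩ : ∃ c : Fin n ↪ Unit ⊕ (Fin (n + 1) ⊕ Fin (n + 1)), ∀ j, c j = .inr (.inr j.succ) :=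
    ⟨⟨fun j => .inr (.inr j.succ), fun a b h => by simpa using h⟩, fun _ => rfl⟩
  obtain ⟨cx, hcx⟩ : ∃ c : Fin (n + 1) ↪ Unit ⊕ (Fin (n + 1) ⊕ Fin (n + 1)), ∀ j, c j = .inr (.inl j) :=
    ⟨⟨fun j => .inr (.inl j), fun a b h => by simpa using h⟩, fun _ => rfl⟩
  have hex : ∀ p : Finset (Fin (n + 1)) × Finset (Fin n), ∃ g ∈ D,
      ogVal g.1 *ᵥ t (.inl ()) = (-1 : F) ^ p.1.card • t (.inl ()) ∧
      ogVal g.1 *ᵥ t (.inr (.inr 0)) = (-1 : F) ^ p.2.card • t (.inr (.inr 0)) ∧
      (∀ i, ogVal g.1 *ᵥ t (.inr (.inl i)) = (if i ∈ p.1 then (-1 : F) else 1) • t (.inr (.inl i))) ∧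
      ∀ j : Fin n, ogVal g.1 *ᵥ t (.inr (.inr j.succ)) =
        (if j ∈ p.2 then (-1 : F) else 1) • t (.inr (.inr j.succ)) := by
    rintro ⟨S, T⟩
    obtain ⟨e, he, hek⟩ := exists_diag h2 hnd t ht horth (.inl ()) (S.map cx) (by simp [hcx])
      (fun k hk => by obtain ⟨i, -, rfl⟩ := Finset.mem_map.1 hk; simp [hq, hcx])
    obtain ⟨f, hf, hfk⟩ := exists_diag h2 hnd t ht horth (.inr (.inr 0)) (T.map cy)
      (by simp [hcy, Fin.succ_ne_zero])
      (fun k hk => by obtain ⟨i, -, rfl⟩ := Finset.mem_map.1 hk; simp [hq, hcy])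
    have hef : ∀ k, ogVal (e * f) *ᵥ t k = ((if k ∈ T.map cy then (-1 : F) else
        if k = .inr (.inr 0) then (-1) ^ (T.map cy).card else 1) *
        (if k ∈ S.map cx then (-1 : F) else if k = .inl () then (-1) ^ (S.map cx).card else 1)) • t k := fun k => by
      rw [ogVal_mul, ← Matrix.mulVec_mulVec, hfk, Matrix.mulVec_smul, hek, smul_smul]
    refine ⟨⟨e * f, mul_mem he hf⟩, fun k => ⟨_, ?_, hef k⟩, ?_, ?_, fun i => ?_, fun j => ?_⟩
    · have hp : ∀ c : ℕ, ((-1 : F) ^ c) * (-1) ^ c = 1 := fun c => by rw [← mul_pow]; simp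
      rw [mul_mul_mul_comm]
      split_ifs <;> simp [hp]
    all_goals refine (hef _).trans ?_
    all_goals simp [hcx, hcy, Fin.succ_ne_zero]
  choose g hgD hgz hgb hgx hgy using hex
  have hinj : Function.Injective fun p => (⟨QuotientGroup.mk' _ (g p), Subgroup.mem_map_of_mem _ (hgD p)⟩ :
      D.map (QuotientGroup.mk' (Subgroup.center (Omega F ⇑Q)))) := by
    intro p p' h
    have hc : (g p)⁻¹ * g p' ∈ Subgroup.center (Omega F ⇑Q) := QuotientGroup.eq.1 (congrArg Subtype.val h)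
    have hinv : (g p)⁻¹ = g p := inv_eq_of_mul_eq_one_right (hsq _ (hgD p))
    rw [hinv] at hc
    obtain ⟨c, hcd⟩ : ∃ c, c = g p * g p' := ⟨_, rfl⟩
    rw [← hcd] at hc
    have hD : c ∈ D := hcd ▸ D.mul_mem (hgD p) (hgD p')
    choose d hd2 hd using hD
    have hdz : ∀ i, d (.inr (.inl i)) = d (.inl ()) ∧ d (.inr (.inr i)) = d (.inl ()) := fun i => by
      have hOK : OK Q (ex i) ez := ⟨by simp [ex, hQdef, qfOdd_apply, quadFormOdd, Pi.single_apply],
        by simp [ex, ez, hQdef, polar_qfOdd, Pi.single_apply]⟩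
      obtain ⟨r, hr⟩ : ∃ r : Omega F ⇑Q, ogVal r.1 = eMat Q (ex i) ez :=
        ⟨⟨eOG hOK, sR_le_omega hnd hT (eOG_mem hnd hT hOK)⟩, rfl⟩
      have hrz : ogVal r.1 *ᵥ t (.inl ()) = t (.inl ()) - t (.inr (.inl i)) - t (.inr (.inr i)) := by
        rw [hr, show t (Sum.inl ()) = ez from rfl, eMat_mulVec, polar_self2, hOK.2, zero_smul, add_zero, mul_zero,
          zero_smul, sub_zero, show Q ez = 1 from hq (.inl ())]
        simp only [t, Sum.elim_inr, Sum.elim_inl]
        module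
      have hcomm := congrArg (fun x : Omega F ⇑Q => ogVal x.1 *ᵥ t (.inl ())) (Subgroup.mem_center_iff.1 hc r)
      simp only [Subgroup.coe_mul, ogVal_mul, ← Matrix.mulVec_mulVec, hd, Matrix.mulVec_smul, hrz,
        Matrix.mulVec_sub] at hcomm
      constructor
      · have h1 := congrArg (fun v => QuadraticMap.polar ⇑Q (t (.inr (.inl i))) v) hcomm
        simp only [QuadraticMap.polar_sub_right, QuadraticMap.polar_smul_right, smul_eq_mul,
          horth _ _ (show (Sum.inr (Sum.inl i) : Unit ⊕ (Fin (n+1) ⊕ Fin (n+1))) ≠ Sum.inl () by simp),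
          horth _ _ (show (Sum.inr (Sum.inl i) : Unit ⊕ (Fin (n+1) ⊕ Fin (n+1))) ≠ Sum.inr (Sum.inr i) by simp),
          polar_self2, hq, Sum.elim_inr, Sum.elim_inl] at h1
        refine mul_right_cancel₀ h2 ?_
        linear_combination h1
      · have h1 := congrArg (fun v => QuadraticMap.polar ⇑Q (t (.inr (.inr i))) v) hcomm
        simp only [QuadraticMap.polar_sub_right, QuadraticMap.polar_smul_right, smul_eq_mul,
          horth _ _ (show (Sum.inr (Sum.inr i) : Unit ⊕ (Fin (n+1) ⊕ Fin (n+1))) ≠ Sum.inl () by simp),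
          horth _ _ (show (Sum.inr (Sum.inr i) : Unit ⊕ (Fin (n+1) ⊕ Fin (n+1))) ≠ Sum.inr (Sum.inl i) by simp),
          polar_self2, hq, Sum.elim_inr] at h1
        refine mul_right_cancel₀ h2 ?_
        linear_combination -h1
    have htne : ∀ k, t k ≠ 0 := fun k h0 => ht k (by rw [h0, QuadraticMap.map_zero])
    have val : ∀ k a b, ogVal (g p).1 *ᵥ t k = a • t k → ogVal (g p').1 *ᵥ t k = b • t k → d k = b * a := by
      intro k a b ha hb
      refine smul_left_injective F (htne k) ?_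
      show d k • t k = (b * a) • t k
      rw [← hd k, hcd, Subgroup.coe_mul, ogVal_mul, ← Matrix.mulVec_mulVec, hb, Matrix.mulVec_smul, ha, smul_smul]
    have ez' := val _ _ _ (hgz p) (hgz p')
    have eb := val _ _ _ (hgb p) (hgb p')
    rw [(hdz 0).2] at eb
    have exv := fun i => (hdz i).1.symm.trans (val _ _ _ (hgx p i) (hgx p' i))
    have eyv := fun j : Fin n => (hdz j.succ).2.symm.trans (val _ _ _ (hgy p j) (hgy p' j))
    have hne : (-1 : F) ≠ 1 := fun h => h2 (by linear_combination -h)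
    rcases mul_self_eq_one_iff.1 (hd2 (.inl ())) with h1 | h1
    · refine Prod.ext (Finset.ext fun i => ?_) (Finset.ext fun j => ?_)
      · have := h1.symm.trans (exv i)
        by_cases a : i ∈ p.1 <;> by_cases b : i ∈ p'.1 <;> simp [a, b, hne, hne.symm] at this ⊢
      · have := h1.symm.trans (eyv j)
        by_cases a : j ∈ p.2 <;> by_cases b : j ∈ p'.2 <;> simp [a, b, hne, hne.symm] at this ⊢
    exfalso
    have c1 : p'.1 = p.1ᶜ := Finset.ext fun i => by
      have := h1.symm.trans (exv i)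
      by_cases a : i ∈ p.1 <;> by_cases b : i ∈ p'.1 <;> simp [a, b, hne, hne.symm] at this ⊢
    have c2 : p'.2 = p.2ᶜ := Finset.ext fun j => by
      have := h1.symm.trans (eyv j)
      by_cases a : j ∈ p.2 <;> by_cases b : j ∈ p'.2 <;> simp [a, b, hne, hne.symm] at this ⊢
    rw [h1, c1, ← pow_add, Finset.card_compl, Fintype.card_fin, Nat.sub_add_cancel
      ((Finset.card_le_univ p.1).trans_eq (Fintype.card_fin _))] at ez'
    rw [h1, c2, ← pow_add, Finset.card_compl, Fintype.card_fin, Nat.sub_add_cancel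
      ((Finset.card_le_univ p.2).trans_eq (Fintype.card_fin _))] at eb
    rw [pow_succ, ← eb] at ez'
    exact hne (by linear_combination ez')
  refine le_trans (le_of_eq ?_) (Nat.card_le_card_of_injective _ hinj)
  rw [Nat.card_eq_fintype_card, Fintype.card_prod, Fintype.card_finset, Fintype.card_finset, Fintype.card_fin,
    Fintype.card_fin, ← pow_add]
  congr 1
  omega

end Cfsg.Agent.Classical.TwoRank
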