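import Mathlib

/-!
The flag of iterated fixed spaces of a unipotent subgroup.
-/

set_option autoImplicit false

namespace Cfsg.Agent.Classical.UnipotentFlag

variable {F : Type*} [Field F] [Fintype F]

local notation "SS" n => Matrix.SpecialLinearGroup (Fin n) F

variable {n : ℕ}

/-- vectors moved into `W` by every element of `U` -/
def next (U : Subgroup (SS n)) (W : Submodule F (Fin n → F)) : Submodule F (Fin n → F) :=
  ⨅ u : U, W.comap (Matrix.mulVecLin ((u : SS n) : Matrix (Fin n) (Fin n) F) - 1)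

theorem mem_next {U : Subgroup (SS n)} {W : Submodule F (Fin n → F)} {v : Fin n → F} :
    v ∈ next U W ↔ ∀ u ∈ U, ((u : SS n) : Matrix (Fin n) (Fin n) F).mulVec v - v ∈ W := by
  simp [next, Submodule.mem_iInf, Matrix.mulVecLin_apply]

theorem exists_flag {p : ℕ} [Fact p.Prime] [CharP F p] (U : Subgroup (SS n)) (hU : IsPGroup p U)
    (hne : U ≠ ⊥) :
    ∃ (k : ℕ) (V : Fin (k + 2) → Submodule F (Fin n → F)), 1 ≤ k ∧ StrictMono V ∧ V 0 = ⊥ ∧
      V (Fin.last (k + 1)) = ⊤ ∧
      (∀ g ∈ Subgroup.normalizer (U : Set (SS n)), ∀ i,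
        (V i).map (Matrix.mulVecLin ((g : SS n) : Matrix (Fin n) (Fin n) F)) = V i) ∧
      (∀ u ∈ U, ∀ i : Fin (k + 1), ∀ v ∈ V i.succ,
        ((u : SS n) : Matrix (Fin n) (Fin n) F).mulVec v - v ∈ V (Fin.castSucc i)) := by
  classical
  let seq : ℕ → Submodule F (Fin n → F) := fun i => (next U)^[i] ⊥
  have hsucc : ∀ i, seq (i + 1) = next U (seq i) := fun i => Function.iterate_succ_apply' _ _ _
  have hmul : ∀ (a b : SS n) (v : Fin n → F), ((a * b : SS n) : Matrix (Fin n) (Fin n) F).mulVec v =
      (a : Matrix (Fin n) (Fin n) F).mulVec ((b : Matrix (Fin n) (Fin n) F).mulVec v) := fun a b v => by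
    rw [Matrix.SpecialLinearGroup.coe_mul, Matrix.mulVec_mulVec]
  have hle : ∀ i, seq i ≤ seq (i + 1) := by
    intro i
    induction i with
    | zero => exact bot_le
    | succ i ih =>
      intro v hv
      rw [hsucc, mem_next]
      intro u hu
      rw [hsucc, mem_next] at hv
      exact ih (hv u hu)
  have hinv : ∀ i, ∀ u ∈ U, seq i ≤ (seq i).comap (Matrix.mulVecLin ((u : SS n) : Matrix _ _ F)) := by
    intro i u hu v hv
    have h1 := hle i hv
    rw [hsucc, mem_next] at h1
    simpa using add_mem (h1 u hu) hv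
  have hlt : ∀ i, seq i ≠ ⊤ → seq i < seq (i + 1) := by
    intro i hi
    refine lt_of_le_of_ne (hle i) fun heq => hi ?_
    by_contra hW
    let act : U → ((Fin n → F) ⧸ seq i) → ((Fin n → F) ⧸ seq i) := fun u =>
      (seq i).mapQ (seq i) (Matrix.mulVecLin ((u : SS n) : Matrix (Fin n) (Fin n) F)) (hinv i u u.2)
    letI : MulAction U ((Fin n → F) ⧸ seq i) :=
      { smul := act
        one_smul := fun x => by
          obtain ⟨v, rfl⟩ := Submodule.Quotient.mk_surjective _ x
          show Submodule.Quotient.mk ((((1 : U) : SS n) : Matrix (Fin n) (Fin n) F).mulVec v) = _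
          simp
        mul_smul := fun a b x => by
          obtain ⟨v, rfl⟩ := Submodule.Quotient.mk_surjective _ x
          show Submodule.Quotient.mk ((((a * b : U) : SS n) : Matrix (Fin n) (Fin n) F).mulVec v) =
            Submodule.Quotient.mk (((a : SS n) : Matrix (Fin n) (Fin n) F).mulVec
              (((b : SS n) : Matrix (Fin n) (Fin n) F).mulVec v))
          rw [← hmul]; rfl }
    haveI : Nontrivial ((Fin n → F) ⧸ seq i) := Submodule.Quotient.nontrivial_iff.2 hW
    have hp : p ∣ Nat.card ((Fin n → F) ⧸ seq i) := by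
      obtain ⟨e, hprime, he⟩ := FiniteField.card F p
      rw [Module.natCard_eq_pow_finrank (K := F), Nat.card_eq_fintype_card, he, ← pow_mul]
      exact dvd_pow_self p (Nat.mul_ne_zero e.pos.ne' Module.finrank_pos.ne')
    obtain ⟨x, hx, hne0⟩ := hU.exists_fixed_point_of_prime_dvd_card_of_fixed_point
      ((Fin n → F) ⧸ seq i) hp (a := 0) (fun u => map_zero _)
    obtain ⟨v, rfl⟩ := Submodule.Quotient.mk_surjective _ x
    apply hne0
    rw [eq_comm, Submodule.Quotient.mk_eq_zero, heq, hsucc, mem_next]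
    intro u hu
    rw [← Submodule.Quotient.eq]
    exact hx ⟨u, hu⟩
  have hnorm : ∀ i, ∀ g ∈ Subgroup.normalizer (U : Set (SS n)), ∀ v ∈ seq i,
      ((g : SS n) : Matrix (Fin n) (Fin n) F).mulVec v ∈ seq i := by
    intro i
    induction i with
    | zero =>
      intro g _ v hv
      rw [show v = 0 from (Submodule.mem_bot F).1 hv, Matrix.mulVec_zero]
      exact zero_mem _
    | succ i ih =>
      intro g hg v hv
      rw [hsucc, mem_next] at hv ⊢
      intro u hu
      have hu' : g⁻¹ * u * g ∈ U := (Subgroup.mem_normalizer_iff''.1 hg u).1 hu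
      have := ih g hg _ (hv _ hu')
      rwa [Matrix.mulVec_sub, ← hmul, ← mul_assoc, ← mul_assoc, mul_inv_cancel, one_mul, hmul] at this
  have hex : ∃ m, seq m = ⊤ := by
    by_contra! hc
    have : ∀ i, i ≤ Module.finrank F (seq i) := fun i => by
      induction i with
      | zero => exact Nat.zero_le _
      | succ i ih => exact Nat.succ_le_of_lt (lt_of_le_of_lt ih (Submodule.finrank_lt_finrank_of_lt (hlt i (hc i))))
    have h1 := this (n + 1)
    have h2 := Submodule.finrank_le (seq (n + 1))
    rw [Module.finrank_fin_fun] at h2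
    omega
  obtain ⟨u0, hu0, hu01⟩ := (Subgroup.bot_or_exists_ne_one U).resolve_left hne
  have hm : 2 ≤ Nat.find hex := by
    by_contra hm'
    apply hu01
    have h1 : seq 1 = ⊤ := by
      rcases (show Nat.find hex = 0 ∨ Nat.find hex = 1 by omega) with h | h
      · exact top_le_iff.1 (((h ▸ Nat.find_spec hex : seq 0 = ⊤).ge).trans (hle 0))
      · exact h ▸ Nat.find_spec hex
    refine Subtype.ext (Matrix.mulVec_injective (funext fun v => ?_))
    have hv : v ∈ seq (0 + 1) := h1 ▸ Submodule.mem_top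
    rw [hsucc, mem_next] at hv
    have := (Submodule.mem_bot F).1 (hv u0 hu0)
    rw [sub_eq_zero] at this
    simpa using this
  obtain ⟨k, hk⟩ : ∃ k, Nat.find hex = k + 1 := ⟨Nat.find hex - 1, by omega⟩
  refine ⟨k, fun i => seq i, by omega, ?_, rfl, ?_, ?_, ?_⟩
  · refine Fin.strictMono_iff_lt_succ.2 fun i => ?_
    simp only [Fin.val_castSucc, Fin.val_succ]
    exact hlt i (Nat.find_min hex (by omega))
  · show seq (Fin.last (k + 1) : Fin (k + 2)) = ⊤
    rw [Fin.val_last, ← hk]
    exact Nat.find_spec hex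
  · intro g hg i
    refine le_antisymm ?_ fun v hv => ?_
    · rintro _ ⟨v, hv, rfl⟩
      exact hnorm _ g hg v hv
    · refine ⟨((g⁻¹ : SS n) : Matrix (Fin n) (Fin n) F).mulVec v, hnorm _ _ (inv_mem hg) v hv, ?_⟩
      rw [Matrix.mulVecLin_apply, ← hmul, mul_inv_cancel]
      simp
  · intro u hu i v hv
    simp only [Fin.val_succ, hsucc, mem_next] at hv
    exact hv u hu

end Cfsg.Agent.Classical.UnipotentFlag
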