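import Cfsg.Agent.Lib.Classical.InvolutionRanks
import Cfsg.Agent.Lib.Classical.JordanChains

/-! Parity of the multiplicities of Jordan blocks of unipotent isometries. -/

set_option autoImplicit false

namespace Cfsg.Agent.UnipotentParity

variable {F V : Type*} [Field F] [AddCommGroup V] [Module F V] [FiniteDimensional F V]

theorem count_eq_sums (m : Multiset ℕ) (j : ℕ) (hj : 0 < j) :
    m.count j + 2 * (m.map fun a => a - j).sum =
      (m.map fun a => a - (j - 1)).sum + (m.map fun a => a - (j + 1)).sum := by
  induction m using Multiset.induction with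
  | empty => simp
  | cons b m ih =>
    simp only [Multiset.map_cons, Multiset.sum_cons, Multiset.count_cons]
    split_ifs <;> omega

/-- The multiplicity of the parts `j` is even, provided the form is alternating and `j` odd, or symmetric
and `j` even in odd characteristic. -/
theorem even_count (B : LinearMap.BilinForm F V) (hB : B.Nondegenerate) (g g' : Module.End F V)
    (hg'g : g' * g = 1) (hgg' : g * g' = 1) (hiso : ∀ u v, B (g u) (g v) = B u v) (hN : IsNilpotent (g - 1))
    {j : ℕ} (hj : 0 < j)
    (hcase : (B.IsAlt ∧ Odd j) ∨ ((∀ u v, B u v = B v u) ∧ Even j ∧ (2 : F) ≠ 0)) :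
    Even ((JordanChains.parts (g - 1)).count j) := by
  classical
  set N := g - 1
  have hrefl : B.IsRefl := by
    rcases hcase with ⟨ha, -⟩ | ⟨hs, -⟩
    · exact ha.isRefl
    · exact fun u v h => by rw [hs]; exact h
  have hadj : ∀ u v, B u (g v) = B (g' u) v := fun u v => by
    conv_lhs => rw [show u = g (g' u) from (LinearMap.congr_fun hgg' u).symm]
    exact hiso _ _
  have hN' : ∀ u v, B u (N v) = B ((g' - 1) u) v := fun u v => by
    show B u (g v - v) = B (g' u - u) v
    rw [map_sub, map_sub, LinearMap.sub_apply, hadj]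
  have hNk : ∀ (k : ℕ) u v, B u ((N ^ k) v) = B (((g' - 1) ^ k) u) v := fun k => by
    induction k with
    | zero => intro u v; rfl
    | succ k ih => intro u v; rw [JordanChains.pow_succ_apply' N, ih, hN', JordanChains.pow_succ_apply (g' - 1)]
  have hN'eq : g' - 1 = (-1 : F) • (g' * N) := by
    rw [neg_one_smul, mul_sub, mul_one, hg'g, neg_sub]
  have hcomm : Commute g' N := by
    show g' * (g - 1) = (g - 1) * g'
    rw [mul_sub, sub_mul, hg'g, hgg', mul_one, one_mul]
  have hN'k : ∀ (k : ℕ) u, ((g' - 1) ^ k) u = (-1 : F) ^ k • (g' ^ k) ((N ^ k) u) := fun k u => by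
    rw [hN'eq, smul_pow, hcomm.mul_pow]; rfl
  have hBN : ∀ (a b : ℕ) u v, B ((N ^ a) u) ((N ^ b) v) = (-1 : F) ^ b * B ((g' ^ b) ((N ^ (a + b)) u)) v := by
    intro a b u v
    rw [hNk, hN'k, map_smul, LinearMap.smul_apply, smul_eq_mul, add_comm a b, pow_add, Module.End.mul_apply]
  have hfix : ∀ (k : ℕ) x, N x = 0 → (g' ^ k) x = x := by
    intro k x hx
    have h1 : g x = x := sub_eq_zero.1 hx
    induction k with
    | zero => rfl
    | succ k ih =>
      rw [JordanChains.pow_succ_apply, ih]
      conv_lhs => rw [← h1]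
      exact LinearMap.congr_fun hg'g x
  set K := LinearMap.ker (N ^ j)
  have hKN : ∀ v ∈ K, N ((N ^ (j - 1)) v) = 0 := fun v hv => by
    rw [← JordanChains.pow_succ_apply, Nat.sub_add_cancel hj]; exact hv
  let b : LinearMap.BilinForm F K := B.compl₁₂ K.subtype ((N ^ (j - 1)).comp K.subtype)
  have hb : ∀ v w : K, b v w = B (v : V) ((N ^ (j - 1)) (w : V)) := fun v w => rfl
  have hbsymm : ∀ v w : K, b v w = (-1 : F) ^ (j - 1) * B ((N ^ (j - 1)) (v : V)) (w : V) := fun v w => by
    rw [hb, hNk, hN'k, map_smul, LinearMap.smul_apply, smul_eq_mul, hfix _ _ (hKN v v.2)]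
  have halt : b.IsAlt := by
    intro v
    rcases hcase with ⟨ha, hodd⟩ | ⟨hs, hev, h2⟩
    · obtain ⟨i, hi⟩ := hodd
      set y := (N ^ i) (v : V)
      have hz : ∀ (a c k : ℕ), j ≤ a + c → B ((g' ^ k) ((N ^ a) (v : V))) ((N ^ c) (v : V)) = 0 := by
        intro a c k hac
        rw [hNk, hN'k, map_smul, LinearMap.smul_apply,
          show (N ^ c) ((g' ^ k) ((N ^ a) (v : V))) = (g' ^ k) ((N ^ (a + c)) (v : V)) by
            rw [show (N ^ c) ((g' ^ k) ((N ^ a) (v : V))) = ((N ^ c * g' ^ k) * N ^ a) (v : V) from rfl,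
              ← (hcomm.pow_pow k c).eq, mul_assoc, ← pow_add, add_comm c a]
            rfl,
          show (N ^ (a + c)) (v : V) = 0 from LinearMap.mem_ker.1
            (show (v : V) ∈ LinearMap.ker (N ^ (a + c)) by
              rw [LinearMap.mem_ker, ← Nat.add_sub_cancel' hac, add_comm j, pow_add, Module.End.mul_apply,
                LinearMap.mem_ker.1 v.2, map_zero]),
          map_zero, map_zero, map_zero, LinearMap.zero_apply, smul_zero]
      have hy : ∀ k : ℕ, B ((g' ^ k) y) y = 0 := by
        intro k
        induction k with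
        | zero => exact ha y
        | succ k ih =>
          have e : (g' ^ (k + 1)) y = (g' ^ k) y + (-1 : F) • (g' ^ (k + 1)) ((N ^ (i + 1)) (v : V)) := by
            rw [JordanChains.pow_succ_apply' g' k, JordanChains.pow_succ_apply' g' k,
              show g' ((N ^ (i + 1)) (v : V)) = y - g' y by
                rw [JordanChains.pow_succ_apply]
                show g' (g y - y) = _
                rw [map_sub]; congr 1; exact LinearMap.congr_fun hg'g y,
              map_sub, neg_one_smul]
            abel
          rw [e, map_add, LinearMap.add_apply, ih, map_smul, LinearMap.smul_apply, hz (i + 1) i (k + 1) (by omega),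
            smul_zero, zero_add]
      rw [hb, show j - 1 = i + i by omega, pow_add, Module.End.mul_apply, hNk, hN'k, map_smul, LinearMap.smul_apply,
        hy, smul_zero]
    · have h := hbsymm v v
      rw [(Nat.Even.sub_odd hj hev odd_one).neg_one_pow, hs, ← hb] at h
      have h' : (2 : F) * b v v = 0 := by linear_combination h
      exact (mul_eq_zero.1 h').resolve_left h2
  obtain ⟨m, hm⟩ := Lie.alt_rank_even b halt _ ⊤ rfl
  rw [finrank_top, top_inf_eq] at hm
  -- the radical
  have hRK : ∀ z ∈ LinearMap.range (N ^ j), ∀ v ∈ K, B v z = 0 := by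
    rintro _ ⟨z, rfl⟩ v hv
    rw [hNk, hN'k, LinearMap.mem_ker.1 hv, map_zero, smul_zero, map_zero, LinearMap.zero_apply]
  have horth : B.orthogonal K = LinearMap.range (N ^ j) := by
    symm
    refine Submodule.eq_of_le_of_finrank_eq (fun z hz => ?_) ?_
    · rw [LinearMap.BilinForm.mem_orthogonal_iff]
      exact fun v hv => hRK z hz v hv
    · have h1 := (N ^ j).finrank_range_add_finrank_ker
      rw [LinearMap.BilinForm.finrank_orthogonal hB]
      show _ = _ - Module.finrank F (LinearMap.ker (N ^ j))
      omega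
  let T : K →ₗ[F] V := (N ^ (j - 1)).comp K.subtype
  have hrad : b.orthogonal ⊤ = (LinearMap.range (N ^ j)).comap T := by
    ext w
    rw [LinearMap.BilinForm.mem_orthogonal_iff, Submodule.mem_comap, ← horth, LinearMap.BilinForm.mem_orthogonal_iff]
    exact ⟨fun h v hv => h ⟨v, hv⟩ trivial, fun h v _ => h v v.2⟩
  rw [hrad] at hm
  have hA : ∀ l, Module.finrank F ↥(LinearMap.ker N ⊓ LinearMap.range (N ^ l)) +
      Module.finrank F (LinearMap.range (N ^ (l + 1))) = Module.finrank F (LinearMap.range (N ^ l)) := by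
    intro l
    have h := LinearMap.finrank_range_add_finrank_ker (N.domRestrict (LinearMap.range (N ^ l)))
    have e1 : LinearMap.range (N.domRestrict (LinearMap.range (N ^ l))) = LinearMap.range (N ^ (l + 1)) := by
      rw [LinearMap.domRestrict, LinearMap.range_comp, Submodule.range_subtype, ← LinearMap.range_comp, pow_succ']
      rfl
    have e2 : LinearMap.ker (N.domRestrict (LinearMap.range (N ^ l))) =
        (LinearMap.ker N ⊓ LinearMap.range (N ^ l)).comap (LinearMap.range (N ^ l)).subtype := by
      ext x; simp [LinearMap.mem_ker]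
    rw [e1, e2, (Submodule.comapSubtypeEquivOfLe inf_le_right).finrank_eq] at h
    omega
  have hker : LinearMap.ker T ≤ (LinearMap.range (N ^ j)).comap T := fun x hx => by
    rw [Submodule.mem_comap, LinearMap.mem_ker.1 hx]; exact Submodule.zero_mem _
  have hTrange : LinearMap.range T = LinearMap.ker N ⊓ LinearMap.range (N ^ (j - 1)) := by
    ext z
    constructor
    · rintro ⟨v, rfl⟩
      exact ⟨hKN v v.2, LinearMap.mem_range_self _ _⟩
    · rintro ⟨hz, v, rfl⟩
      refine ⟨⟨v, ?_⟩, rfl⟩
      show (N ^ j) v = 0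
      rw [← Nat.sub_add_cancel hj, JordanChains.pow_succ_apply]
      exact hz
  have h1 := T.finrank_range_add_finrank_ker
  rw [hTrange] at h1
  have h2 := LinearMap.finrank_range_add_finrank_ker (T.domRestrict ((LinearMap.range (N ^ j)).comap T))
  have e3 : LinearMap.range (T.domRestrict ((LinearMap.range (N ^ j)).comap T)) = LinearMap.ker N ⊓ LinearMap.range (N ^ j) := by
    rw [LinearMap.domRestrict, LinearMap.range_comp, Submodule.range_subtype, Submodule.map_comap_eq, hTrange]
    refine le_antisymm (fun z hz => ⟨hz.1.1, hz.2⟩) fun z hz => ⟨⟨hz.1, ?_⟩, hz.2⟩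
    obtain ⟨v, rfl⟩ := hz.2
    exact ⟨N v, by rw [← JordanChains.pow_succ_apply', Nat.sub_add_cancel hj]⟩
  have e4 : LinearMap.ker (T.domRestrict ((LinearMap.range (N ^ j)).comap T)) =
      (LinearMap.ker T).comap ((LinearMap.range (N ^ j)).comap T).subtype := by
    ext x; simp [LinearMap.mem_ker]
  rw [e3, e4, (Submodule.comapSubtypeEquivOfLe hker).finrank_eq] at h2
  have h3 := hA (j - 1)
  rw [Nat.sub_add_cancel hj] at h3
  have h4 := hA j
  simp only [JordanChains.finrank_range_eq hN] at h3 h4
  have h5 := count_eq_sums (JordanChains.parts N) j hj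
  exact ⟨m, by omega⟩

end Cfsg.Agent.UnipotentParity
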