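import Cfsg.Agent.Lib.Classical.UnitAutLocal

/-!
Every automorphism of `PSU_n(q)`, `n ≥ 3`, is semilinear.
-/

set_option autoImplicit false
set_option linter.unusedSectionVars false

namespace Cfsg.Agent.Classical.PSUAut

open Matrix

variable {F : Type*} [Field F] [Fintype F] {q n : ℕ}

local notation "V" => (Fin n → F)
local notation "Mn" => Matrix (Fin n) (Fin n) F
local notation "PS" => PSU n F q

section
variable (hF : Fintype.card F = q ^ 2)

local notation "h" => hermForm n F q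
local notation "cj" => qFrob hF
local notation "π" => suToPSU n F q

include hF

theorem aniso_generates {e f : V} {v : V} (hv : v ∈ wSub q e f) (hvv : h v v ≠ 0) {C : V → Prop}
    (hC : ∀ w ∈ wSub q e f, h w w ≠ 0 → C w)
    (hadd : ∀ x y, x ∈ wSub q e f → y ∈ wSub q e f → C x → C y → C (x + y)) :
    ∀ w ∈ wSub q e f, C w := by
  intro w hw
  by_cases hww : h w w ≠ 0
  · exact hC w hw hww
  push Not at hww
  have hexp : ∀ a : F, h (w + a • v) (w + a • v) =
      a * cj a * h v v + (cj a * h w v + a * h v w) := fun a => by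
    rw [h_add_left, h_add_right hF, h_add_right hF, h_smul_left, h_smul_left, h_smul_right hF,
      h_smul_right hF, hww]
    ring
  obtain ⟨a, ha, hne⟩ : ∃ a : F, a ≠ 0 ∧ h (w + a • v) (w + a • v) ≠ 0 := by
    by_contra hcon
    push Not at hcon
    obtain ⟨r, hr⟩ := exists_trace_eq hF (a := (1 : F)) (map_one _)
    obtain ⟨t, ht0, ht⟩ := exists_trace_zero hF
    obtain ⟨b, hb1, hb⟩ : ∃ b : F, b + 1 ≠ 0 ∧ b + cj b = 1 := by
      by_cases h1 : r + 1 = 0
      · refine ⟨r + t, fun h2 => ht0 (by linear_combination h2 - h1), ?_⟩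
        rw [map_add]; linear_combination hr + ht
      · exact ⟨r, h1, hr⟩
    have hb0 : b ≠ 0 := fun h0 => by rw [h0, map_zero, add_zero] at hb; exact zero_ne_one hb
    have e1 := (hexp 1).symm.trans (hcon 1 one_ne_zero)
    have e2 := (hexp b).symm.trans (hcon b hb0)
    have e3 := (hexp (b + 1)).symm.trans (hcon (b + 1) hb1)
    rw [map_one] at e1
    rw [map_add, map_one] at e3
    exact hvv (by linear_combination e3 - e2 - e1 - (h v v) * hb)
  have h1 := hadd (w + a • v) (-(a • v)) (Submodule.add_mem _ hw (Submodule.smul_mem _ a hv))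
    (Submodule.neg_mem _ (Submodule.smul_mem _ a hv))
    (hC _ (Submodule.add_mem _ hw (Submodule.smul_mem _ a hv)) hne)
    (hC _ (Submodule.neg_mem _ (Submodule.smul_mem _ a hv)) (by
      rw [h_neg_left, h_neg_right hF, neg_neg, h_smul_left, h_smul_right hF, ← mul_assoc]
      exact mul_ne_zero (mul_ne_zero ha ((map_ne_zero _).2 ha)) hvv))
  rwa [add_neg_cancel_right] at h1

theorem eMat_mulVec_f {e f : V} (P : IsPair (q := q) e f) {w : V} (hw : w ∈ wSub q e f) (c : F) :
    eMat q e w c *ᵥ f = f + w + c • e := by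
  simp only [eMat_mulVec, P.fe hF, h_comm_zero hF hw.2, one_smul, zero_smul, sub_zero, mul_one, add_assoc]

theorem comb_inj {e f : V} (P : IsPair (q := q) e f) {a b a' b' : F} {u v : V}
    (hu : u ∈ wSub q e f) (hv : v ∈ wSub q e f) (e1 : a • e + b • f + u = a' • e + b' • f + v) :
    a = a' ∧ b = b' ∧ u = v := by
  have ha := congrArg (fun x => h x f) e1
  have hb := congrArg (fun x => h x e) e1
  simp only [h_add_left, h_smul_left, P.ef, P.ff, P.ee, P.fe hF, hu.1, hu.2, hv.1, hv.2, mul_one, mul_zero,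
    add_zero, zero_add] at ha hb
  refine ⟨ha, hb, ?_⟩
  rw [ha, hb] at e1
  exact add_left_cancel e1

/-- The image of the point of a vector in the chart. -/
theorem image_chart {e f : V} (P : IsPair (q := q) e f) {β : MulAut PS}
    (hf : β '' rootU hF f = rootU hF f) {w w' : V} {c c' : F} (hw : w ∈ wSub q e f) (hw' : w' ∈ wSub q e f)
    {H : EOK (q := q) e w c} {H' : EOK (q := q) e w' c'} (hβ : β (π (eSU hF H)) = π (eSU hF H')) :
    β '' rootU hF (f + w + c • e) = rootU hF (f + w' + c' • e) := by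
  rw [← eMat_mulVec_f hF P hw c, ← eMat_mulVec_f hF P hw' c', ← suVal_eSU hF H, ← suVal_eSU hF H',
    ← rootU_conj hF, ← rootU_conj hF, Set.image_image]
  rw [show (fun x => β (MulAut.conj (π (eSU hF H)) x)) = fun x => MulAut.conj (π (eSU hF H')) (β x) from
    funext fun x => by simp [hβ], ← Set.image_image (g := MulAut.conj (π (eSU hF H'))), hf]

/-- An automorphism fixing two points and acting trivially on one Heisenberg quotient is trivial on both
Heisenberg groups. -/
theorem normalised_fix (hn : 3 ≤ n) (hs : ¬(n = 3 ∧ q = 2)) {e f : V} (P : IsPair (q := q) e f)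
    {β : MulAut PS} (he : β '' rootU hF e = rootU hF e) (hf : β '' rootU hF f = rootU hF f)
    (hφ : ∀ w ∈ wSub q e f, ∀ c, ∀ H : EOK (q := q) e w c,
      ∃ c', ∃ H' : EOK (q := q) e w c', β (π (eSU hF H)) = π (eSU hF H'))
    (hθ : ∀ d, ∀ H : EOK (q := q) e 0 d, β (π (eSU hF H)) = π (eSU hF H)) :
    (∀ y ∈ qBar hF e P.ee, β y = y) ∧
      (∀ w ∈ wSub q e f, ∀ c, ∀ H : EOK (q := q) f w c,
        ∃ c', ∃ H' : EOK (q := q) f w c', β (π (eSU hF H)) = π (eSU hF H')) ∧
      (∀ d, ∀ H : EOK (q := q) f 0 d, β (π (eSU hF H)) = π (eSU hF H)) := by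
  classical
  have hn1 : 1 ≤ n := by omega
  have Pf := P.swap hF
  have hW : wSub q f e = wSub q e f := (wSub_swap hF e f).symm
  obtain ⟨ψ, τ, κ, hκ0, -, hψW, hψadd, hψτ, -, hψ, hψ0⟩ := semilinear_of_fix hF hn hs Pf hf he
  rw [hW] at hψW hψadd hψτ hψ
  have hT : ∀ t : F, t ≠ 0 → t + cj t = 0 → κ * τ (1 / t) = 1 / t := by
    intro t ht ht'
    have Ht : EOK (q := q) e 0 t := eOK_transvection hF P.ee ht'
    have ht'' : 1 / t + cj (1 / t) = 0 := by
      rw [map_div₀, map_one, show cj t = -t by linear_combination ht']; ring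
    have Hs : EOK (q := q) f 0 (1 / t) := eOK_transvection hF P.ff ht''
    obtain ⟨Hs', hs'⟩ := hψ0 _ Hs
    have e1 := image_chart hF P hf (Submodule.zero_mem _) (Submodule.zero_mem _) (hθ t Ht)
    have e2 := image_chart hF Pf he (Submodule.zero_mem _) (Submodule.zero_mem _) hs'
    rw [show f + 0 + t • e = t • (e + 0 + (1 / t) • f) by
      rw [smul_add, smul_add, smul_zero, smul_smul, mul_one_div_cancel ht, one_smul]; abel,
      rootU_smul hF _ ht, e2] at e1
    obtain ⟨a, -, ha⟩ := rootU_inj hF hn1 (fun h0 => by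
        have := congrArg (fun x => h x f) h0
        simp [h_add_left, h_smul_left, P.ef, P.ff, h_zero_left] at this)
      (by
        rw [← eMat_mulVec_f hF Pf (Submodule.zero_mem _), eMat_form hF Hs', P.ee])
      (by
        rw [← eMat_mulVec_f hF Pf (Submodule.zero_mem _), eMat_form hF Hs, P.ee]) e1
    obtain ⟨e3, e4, -⟩ := comb_inj hF P (u := 0) (v := 0) (a := 1) (b := κ * τ (1 / t)) (a' := a)
      (b' := a * (1 / t)) (Submodule.zero_mem _) (Submodule.zero_mem _) (by
        simp only [smul_add, smul_smul, add_zero, one_smul] at ha ⊢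
        exact ha)
    rw [e4, ← e3, one_mul]
  obtain ⟨v, hve, hvf, hvv⟩ := exists_aniso_orth hF hn P
  have hvW : v ∈ wSub q e f := ⟨hve, hvf⟩
  obtain ⟨t0, ht0, ht⟩ := exists_trace_zero hF
  -- the two charts
  have chart : ∀ w ∈ wSub q e f, h w w ≠ 0 → ∀ c, ∀ H : EOK (q := q) e w c, ∃ c',
      ∃ H' : EOK (q := q) e w c', β (π (eSU hF H)) = π (eSU hF H') ∧ w = (c' * τ (1 / c)) • ψ w := by
    intro w hw hww c H
    obtain ⟨c', H', hc'⟩ := hφ w hw c H
    have hcc := H.cc
    rw [cj_pow hF] at hcc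
    have hc0 : c ≠ 0 := fun h0 => hww (by rw [h0, map_zero, zero_add, zero_add] at hcc; exact hcc)
    have hwc : (1 / c) • w ∈ wSub q e f := Submodule.smul_mem _ _ hw
    have Hf : EOK (q := q) f ((1 / c) • w) (1 / c) := by
      refine ⟨P.ff, by rw [h_smul_left, hw.2, mul_zero], ?_⟩
      rw [cj_pow hF, h_smul_left, h_smul_right hF, map_div₀, map_one]
      have hcj : cj c ≠ 0 := (map_ne_zero _).2 hc0
      field_simp
      linear_combination hcc
    obtain ⟨d', Hd, hd'⟩ := hψ _ hwc _ Hf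
    have hψm : ψ ((1 / c) • w) ∈ wSub q e f := hψW _ hwc
    have e1 := image_chart hF P hf hw hw hc'
    have e2 := image_chart hF Pf he (hW.symm ▸ hwc) (hW.symm ▸ hψm) hd'
    rw [show f + w + c • e = c • (e + (1 / c) • w + (1 / c) • f) by
      rw [smul_add, smul_add, smul_smul, smul_smul, mul_one_div_cancel hc0, one_smul, one_smul]; abel,
      rootU_smul hF _ hc0, e2] at e1
    obtain ⟨a, ha0, ha⟩ := rootU_inj hF hn1 (fun h0 => by
        have := congrArg (fun x => h x f) h0
        simp only [h_add_left, h_smul_left, P.ef, P.ff, hψm.2, h_zero_left, mul_zero, add_zero,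
          one_ne_zero] at this)
      (by rw [← eMat_mulVec_f hF Pf (hW.symm ▸ hψm), eMat_form hF Hd, P.ee])
      (by rw [← eMat_mulVec_f hF P hw, eMat_form hF H', P.ff]) e1
    obtain ⟨e3, -, e5⟩ := comb_inj hF P (a := 1) (b := d') (a' := a * c') (b' := a)
      hψm (Submodule.smul_mem _ a hw) (u := ψ ((1 / c) • w)) (v := a • w) (by
        rw [one_smul]
        refine Eq.trans (by abel) (ha.trans ?_)
        rw [smul_add, smul_add, smul_smul]; abel)
    refine ⟨c', H', hc', ?_⟩
    rw [hψτ _ w hw] at e5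
    calc w = (c' * a) • w := by rw [mul_comm, ← e3, one_smul]
      _ = c' • (τ (1 / c) • ψ w) := by rw [e5, smul_smul]
      _ = _ := by rw [smul_smul]
  -- on anisotropic vectors `ψ` is multiplication by `κ`
  have shift : ∀ w ∈ wSub q e f, h w w ≠ 0 → ψ w = κ • w ∧
      ∀ c, ∀ H : EOK (q := q) e w c, ∃ H' : EOK (q := q) e w (τ c / κ),
        β (π (eSU hF H)) = π (eSU hF H') := by
    intro w hw hww
    have hw0 : w ≠ 0 := fun h0 => hww (by rw [h0, h_zero_left])
    have key : ∀ c, ∀ H : EOK (q := q) e w c, ∀ c', ∀ H' : EOK (q := q) e w c',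
        β (π (eSU hF H)) = π (eSU hF H') → τ c • w = c' • ψ w := by
      intro c H c' H' hcc'
      obtain ⟨c'', H'', h2, h3⟩ := chart w hw hww c H
      have hc : c'' = c' := (heis_inj hF hn1 P hw hw H'' H' (h2.symm.trans hcc')).2
      have hc0 : c ≠ 0 := fun h0 => by
        rw [h0, div_zero, map_zero, mul_zero, zero_smul] at h3; exact hw0 h3
      conv_lhs => rw [h3]
      rw [smul_smul, hc, ← mul_assoc, mul_comm (τ c), mul_assoc, ← map_mul, mul_one_div_cancel hc0,
        map_one, mul_one]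
    obtain ⟨c, H⟩ := EOK.exists_c hF P.ee hw.1
    obtain ⟨c', H', hc'⟩ := hφ w hw c H
    have Ht : EOK (q := q) e 0 t0 := eOK_transvection hF P.ee ht
    have hH2 : eSU hF H * eSU hF Ht = eSU hF (H.mul hF Ht) := eSU_mul hF H Ht
    have hsum : ∀ r r' : F, ∀ A : EOK (q := q) e w r, ∀ B : EOK (q := q) e (w + 0) r', r' = r + t0 - h 0 w →
        ∃ C : EOK (q := q) e w (r + t0), π (eSU hF B) = π (eSU hF C) := fun r r' A B hr => by
      have hr' : r' = r + t0 := by rw [hr, h_zero_left, sub_zero]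
      have C : EOK (q := q) e w (r + t0) := by
        have hB := B
        rw [add_zero, hr'] at hB
        exact hB
      exact ⟨C, congrArg π (eSU_congr hF _ _ (add_zero w) hr')⟩
    obtain ⟨C1, hC1⟩ := hsum c _ H (H.mul hF Ht) rfl
    obtain ⟨C2, hC2⟩ := hsum c' _ H' (H'.mul hF Ht) rfl
    have h2 : β (π (eSU hF C1)) = π (eSU hF C2) := by
      rw [← hC1, ← hH2, map_mul, map_mul, hc', hθ t0 Ht, ← map_mul, eSU_mul hF H' Ht, hC2]
    have k1 := key c H c' H' hc'
    have k2 := key _ C1 _ C2 h2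
    rw [map_add, add_smul, add_smul, k1, add_right_inj] at k2
    have hτt : τ t0 = κ * t0 := by
      have h3 := hT t0 ht0 ht
      rw [map_div₀, map_one] at h3
      have := (map_ne_zero τ).2 ht0
      field_simp at h3
      linear_combination -h3
    have hψw : ψ w = κ • w := by
      rw [hτt, mul_comm, ← smul_smul] at k2
      exact (smul_right_injective _ ht0 k2).symm
    refine ⟨hψw, fun d D => ?_⟩
    obtain ⟨d', D', hd'⟩ := hφ w hw d D
    have k := key d D d' D' hd'
    rw [hψw, smul_smul] at k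
    have hdd : d' = τ d / κ := by
      rw [smul_left_injective F hw0 k, mul_div_cancel_right₀ _ hκ0]
    subst hdd
    exact ⟨D', hd'⟩
  -- the field automorphism is trivial
  have hτ1 : ∀ a, τ a = a := by
    intro a
    by_cases ha : a = 0
    · rw [ha, map_zero]
    have hav : h (a • v) (a • v) ≠ 0 := by
      rw [h_smul_left, h_smul_right hF, ← mul_assoc]
      exact mul_ne_zero (mul_ne_zero ha ((map_ne_zero _).2 ha)) hvv
    have hv0 : v ≠ 0 := fun h0 => hvv (by rw [h0, h_zero_left])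
    have h1 := (shift _ (Submodule.smul_mem _ a hvW) hav).1
    rw [hψτ a v hvW, (shift v hvW hvv).1, smul_comm] at h1
    exact smul_left_injective F hv0 (smul_right_injective _ hκ0 h1)
  have hκ1 : κ = 1 := by
    have h3 := hT t0 ht0 ht
    rw [hτ1] at h3
    exact (mul_eq_right₀ (one_div_ne_zero ht0)).1 h3
  have hψid : ∀ w ∈ wSub q e f, ψ w = w := aniso_generates hF hvW hvv
    (fun w hw hww => by rw [(shift w hw hww).1, hκ1, one_smul])
    (fun x y hx hy h1 h2 => by rw [hψadd x hx y hy, h1, h2])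
  refine ⟨?_, fun w hw c H => ?_, fun d H => ?_⟩
  · have hone : ∀ w ∈ wSub q e f, h w w ≠ 0 → ∀ c, ∀ H : EOK (q := q) e w c,
        β (π (eSU hF H)) = π (eSU hF H) := fun w hw hww c H => by
      obtain ⟨H', hH'⟩ := (shift w hw hww).2 c H
      rw [hH']
      exact congrArg π (eSU_congr hF _ _ rfl (by rw [hτ1, hκ1, div_one]))
    have hall := aniso_generates hF hvW hvv
      (C := fun w => ∀ c, ∀ H : EOK (q := q) e w c, β (π (eSU hF H)) = π (eSU hF H)) hone
      (fun x y hx hy hcx hcy c H => by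
        obtain ⟨cx, Hx⟩ := EOK.exists_c hF P.ee hx.1
        obtain ⟨cy, Hy⟩ := EOK.exists_c hF P.ee hy.1
        have Hxy := Hx.mul hF Hy
        have Hd : EOK (q := q) e 0 (c - (cx + cy - h y x)) := by
          refine eOK_transvection hF P.ee ?_
          have h1 := H.cc
          have h2 := Hxy.cc
          rw [cj_pow hF] at h1 h2
          rw [map_sub]; linear_combination h1 - h2
        have he' : eSU hF H = eSU hF Hx * eSU hF Hy * eSU hF Hd := by
          rw [eSU_mul hF Hx Hy, eSU_mul hF Hxy Hd]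
          exact eSU_congr hF _ _ (add_zero _).symm (by rw [h_zero_left]; ring)
        rw [he', map_mul, map_mul, map_mul, map_mul, hcx cx Hx, hcy cy Hy, hθ _ Hd])
    intro y hy
    obtain ⟨w, c, H, hw, rfl⟩ := qBar_repr hF P hy
    exact hall w hw c H
  · obtain ⟨c', H', hc'⟩ := hψ w hw c H
    have hc'' : EOK (q := q) f w c' := hψid w hw ▸ H'
    exact ⟨c', hc'', hc'.trans (congrArg π (eSU_congr hF _ _ (hψid w hw) rfl))⟩
  · obtain ⟨H', hd⟩ := hψ0 d H
    exact hd.trans (congrArg π (eSU_congr hF _ _ rfl (by rw [hκ1, hτ1, one_mul])))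

/-- A unitary map fixing every isotropic line is scalar. -/
theorem scalar_of_fix_points {e f : V} (P : IsPair (q := q) e f) {u : Mn}
    (hu : ∀ x y, h (u *ᵥ x) (u *ᵥ y) = h x y)
    (hall : ∀ x : V, x ≠ 0 → h x x = 0 → ∃ a : F, u *ᵥ x = a • x) : ∃ a : F, u = a • (1 : Mn) := by
  obtain ⟨a, ha⟩ := hall e P.ne_zero P.ee
  obtain ⟨b, hb⟩ := hall f (P.swap hF).ne_zero P.ff
  have hab : a * cj b = 1 := by
    have h1 := hu e f
    rwa [ha, hb, h_smul_left, h_smul_right hF, P.ef, mul_one] at h1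
  obtain ⟨t, ht0, ht⟩ := exists_trace_zero hF
  have hmove : ∀ w ∈ wSub q e f, ∀ c : F, c ≠ 0 → c + cj c + h w w = 0 → u *ᵥ w = b • w ∧ a = b := by
    intro w hw c hc0 hc
    have hne : f + w + c • e ≠ 0 := fun h0 => by
      have := congrArg (fun x => h x e) h0
      simp [h_add_left, h_smul_left, P.fe hF, hw.1, P.ee, h_zero_left] at this
    have hiso : h (f + w + c • e) (f + w + c • e) = 0 := by
      rw [← eMat_mulVec_f hF P hw, eMat_form hF (⟨P.ee, hw.1, by rw [cj_pow hF]; exact hc⟩ :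
        EOK (q := q) e w c), P.ff]
    obtain ⟨k, hk⟩ := hall _ hne hiso
    rw [Matrix.mulVec_add, Matrix.mulVec_add, Matrix.mulVec_smul, ha, hb] at hk
    have huw : u *ᵥ w ∈ wSub q e f := by
      have h1 := hu w e
      have h2 := hu w f
      rw [ha, h_smul_right hF, hw.1] at h1
      rw [hb, h_smul_right hF, hw.2] at h2
      exact ⟨(mul_eq_zero.1 h1).resolve_left (fun h0 => by
        rw [(map_eq_zero _).1 h0, zero_mul] at hab; exact zero_ne_one hab),
        (mul_eq_zero.1 h2).resolve_left (fun h0 => by rw [h0, mul_zero] at hab; exact zero_ne_one hab)⟩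
    obtain ⟨e1, e2, e3⟩ := comb_inj hF P (a := c * a) (b := b) (a' := k * c) (b' := k) huw
      (Submodule.smul_mem _ k hw) (by
        rw [← smul_smul c a]
        refine Eq.trans (by abel) (hk.trans ?_)
        rw [smul_add, smul_add, smul_smul]; abel)
    subst e2
    exact ⟨e3, mul_left_cancel₀ hc0 (by rw [e1]; ring)⟩
  obtain ⟨-, hab'⟩ := hmove 0 (Submodule.zero_mem _) t ht0 (by rw [h_zero_left, add_zero]; exact ht)
  have hw' : ∀ w ∈ wSub q e f, u *ᵥ w = a • w := by
    intro w hw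
    obtain ⟨r, hr⟩ := exists_trace_eq hF (a := -h w w) (by rw [map_neg, cj_h_self hF])
    by_cases hr0 : r = 0
    · rw [hab']
      exact (hmove w hw (r + t) (by rw [hr0, zero_add]; exact ht0)
        (by rw [map_add]; linear_combination hr + ht)).1
    · rw [hab']
      exact (hmove w hw r hr0 (by linear_combination hr)).1
  refine ⟨a, Matrix.ext_iff_mulVec.2 fun x => ?_⟩
  rw [Matrix.smul_mulVec, Matrix.one_mulVec]
  conv_lhs => rw [wPart_eq (q := q) e f x, Matrix.mulVec_add, Matrix.mulVec_add, Matrix.mulVec_smul,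
    Matrix.mulVec_smul, ha, hb, hw' _ (wPart_mem hF P x), ← hab']
  conv_rhs => rw [wPart_eq (q := q) e f x]
  module

/-- An automorphism trivial on two opposite Heisenberg groups is trivial. -/
theorem eq_one_of_fix (hn : 3 ≤ n) {e f : V} (P : IsPair (q := q) e f) {β : MulAut PS}
    (he : β '' rootU hF e = rootU hF e) (hf : β '' rootU hF f = rootU hF f)
    (hQe : ∀ y ∈ qBar hF e P.ee, β y = y) (hQf : ∀ y ∈ qBar hF f P.ff, β y = y) : β = 1 := by
  classical
  have hn1 : 1 ≤ n := by omega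
  have chart : ∀ {a b : V} (Pab : IsPair (q := q) a b), β '' rootU hF b = rootU hF b →
      (∀ y ∈ qBar hF a Pab.ee, β y = y) →
      ∀ x : V, h x x = 0 → h x a ≠ 0 → β '' rootU hF x = rootU hF x := by
    intro a b Pab hb hQ x hxx hxa
    set r := h x a
    set w := wPart (q := q) a b x
    set w' := r⁻¹ • w
    set c := h x b / r
    have hw' : w' ∈ wSub q a b := Submodule.smul_mem _ _ (wPart_mem hF Pab x)
    have hx : x = r • (b + w' + c • a) := by
      rw [smul_add, smul_add, smul_smul, smul_smul, mul_inv_cancel₀ hxa, one_smul, mul_div_cancel₀ _ hxa]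
      conv_lhs => rw [wPart_eq (q := q) a b x]
      abel
    have H : EOK (q := q) a w' c := by
      refine ⟨Pab.ee, hw'.1, ?_⟩
      rw [hx, h_smul_left, h_smul_right hF] at hxx
      have h1 := (mul_eq_zero.1 ((mul_eq_zero.1 hxx).resolve_left hxa)).resolve_left ((map_ne_zero _).2 hxa)
      simp only [h_add_left, h_add_right hF, h_smul_left, h_smul_right hF, Pab.ff, Pab.ef, Pab.fe hF, Pab.ee,
        hw'.1, hw'.2, h_comm_zero hF hw'.1, h_comm_zero hF hw'.2] at h1
      rw [cj_pow hF]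
      linear_combination h1
    rw [hx, rootU_smul hF _ hxa]
    exact image_chart hF Pab hb hw' hw' (hQ _ ⟨_, eSU_mem_heisU hF H, rfl⟩ : β (π (eSU hF H)) = π (eSU hF H))
  have Pf := P.swap hF
  have hall : ∀ x : V, x ≠ 0 → h x x = 0 → β '' rootU hF x = rootU hF x := by
    intro x hx hxx
    by_cases h1 : h x e ≠ 0
    · exact chart P hf hQe x hxx h1
    by_cases h2 : h x f ≠ 0
    · exact chart Pf he hQf x hxx h2
    push Not at h1 h2
    have hxW : x ∈ wSub q e f := ⟨h1, h2⟩
    obtain ⟨y, hy, hyy, hβx⟩ := exists_image_rootU hF hn β hx hxx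
    have hye : h y e = 0 :=
      (orth_iff hF hn hx P.ne_zero hy P.ne_zero hxx P.ee hyy P.ee hβx he).1 h1
    have hyf : h y f = 0 :=
      (orth_iff hF hn hx Pf.ne_zero hy Pf.ne_zero hxx P.ff hyy P.ff hβx hf).1 h2
    have hyW : y ∈ wSub q e f := ⟨hye, hyf⟩
    obtain ⟨w, hw, hxw⟩ : ∃ w ∈ wSub q e f, h x w ≠ 0 := by
      by_contra hcon
      push Not at hcon
      exact hx (wSub_eq_zero hF P hxW hcon)
    obtain ⟨c, H⟩ := EOK.exists_c hF P.ee hw.1
    set u := eSU hF H
    have hu : β (π u) = π u := hQe _ ⟨_, eSU_mem_heisU hF H, rfl⟩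
    have himg : ∀ z, suVal u *ᵥ z = z + (h z e • w - h z w • e + (c * h z e) • e) := fun z => by
      rw [suVal_eSU, eMat_mulVec]
    have hx' : suVal u *ᵥ x = (-h x w) • e + x := by rw [himg, hxW.1]; module
    have hy' : suVal u *ᵥ y = (-h y w) • e + y := by rw [himg, hyW.1]; module
    have e1 : β '' rootU hF (suVal u *ᵥ x) = rootU hF (suVal u *ᵥ y) := by
      rw [← rootU_conj hF, ← rootU_conj hF, Set.image_image]
      rw [show (fun z => β (MulAut.conj (π u) z)) = fun z => MulAut.conj (π u) (β z) from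
        funext fun z => by simp [hu], ← Set.image_image (g := MulAut.conj (π u)), hβx]
    have e2 : β '' rootU hF (suVal u *ᵥ x) = rootU hF (suVal u *ᵥ x) :=
      chart Pf he hQf _ (by rw [su_form, hxx]) (by
        rw [hx', h_add_left, h_smul_left, P.ef, hxW.2, mul_one, add_zero]; exact neg_ne_zero.2 hxw)
    rw [e2] at e1
    obtain ⟨a, ha0, ha⟩ := rootU_inj hF hn1 (fun h0 => hx (su_injective u h0))
      (by rw [su_form, hxx]) (by rw [su_form, hyy]) e1
    rw [hx', hy'] at ha
    have hcomp := (comb_inj hF P (b := 0) (b' := 0) hxW (Submodule.smul_mem _ a hyW)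
      (a := -h x w) (a' := a * -h y w) (by
        rw [zero_smul, add_zero, add_zero, ← smul_smul]
        refine ha.trans ?_
        rw [smul_add])).2.2
    rw [hβx, hcomp, rootU_smul hF _ ha0]
  refine MulEquiv.ext fun g => ?_
  obtain ⟨s, rfl⟩ := pi_surjective (n := n) (q := q) g
  obtain ⟨s', hs'⟩ := pi_surjective (n := n) (q := q) (β (π s))
  have hkey : ∀ x : V, x ≠ 0 → h x x = 0 → ∃ a : F, suVal (s⁻¹ * s') *ᵥ x = a • x := by
    intro x hx hxx
    have hsx : suVal s *ᵥ x ≠ 0 := fun h0 => hx (su_injective s h0)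
    have e1 : rootU hF (suVal s' *ᵥ x) = rootU hF (suVal s *ᵥ x) := by
      calc rootU hF (suVal s' *ᵥ x) = MulAut.conj (π s') '' (β '' rootU hF x) := by
            rw [hall x hx hxx, rootU_conj hF]
        _ = β '' (MulAut.conj (π s) '' rootU hF x) := by
            rw [Set.image_image, Set.image_image]
            exact congrArg (fun k : PS → PS => k '' rootU hF x) (funext fun z => by simp [hs'])
        _ = rootU hF (suVal s *ᵥ x) := by rw [rootU_conj hF, hall _ hsx (by rw [su_form, hxx])]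
    obtain ⟨a, -, ha⟩ := rootU_inj hF hn1 (fun h0 => hx (su_injective s' h0))
      (by rw [su_form, hxx]) (by rw [su_form, hxx]) e1
    refine ⟨a, ?_⟩
    rw [suVal_mul, ← Matrix.mulVec_mulVec, ha, Matrix.mulVec_smul, Matrix.mulVec_mulVec, suVal_inv_mul,
      Matrix.one_mulVec]
  obtain ⟨a, ha⟩ := scalar_of_fix_points hF P (su_form (s⁻¹ * s')) hkey
  have h1 : π (s⁻¹ * s') = 1 := (pi_eq_one_iff hF).2 ⟨a, ha⟩
  rw [map_mul, map_inv, inv_mul_eq_one] at h1
  rw [← hs', ← h1]
  rfl

/-- Every automorphism of `PSU_n(q)` is semilinear. -/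
theorem exists_param (hn : 3 ≤ n) (hs : ¬(n = 3 ∧ q = 2)) (β : MulAut PS) :
    ∃ (g : GU n F q) (σ : RingAut F), β = psuSemi g σ := by
  classical
  have hn1 : 1 ≤ n := by omega
  obtain ⟨e, hee0, hee⟩ := exists_isotropic hF (show 2 ≤ n by omega)
  obtain ⟨f, P⟩ := exists_pair hF hee0 hee
  -- move the two points back
  obtain ⟨v, hv, hvv, hβe⟩ := exists_image_rootU hF hn β P.ne_zero P.ee
  obtain ⟨w, hw, hww, hβf⟩ := exists_image_rootU hF hn β (P.swap hF).ne_zero P.ff
  have hvw : h v w ≠ 0 := fun h0 => by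
    have := (orth_iff hF hn P.ne_zero (P.swap hF).ne_zero hv hw P.ee P.ff hvv hww hβe hβf).2 h0
    rw [P.ef] at this
    exact one_ne_zero this
  set r := cj (1 / h v w)
  have hr : r ≠ 0 := (map_ne_zero _).2 (one_div_ne_zero hvw)
  have P' : IsPair (q := q) v (r • w) := ⟨hvv, by rw [h_smul_left, h_smul_right hF, hww]; ring, by
    rw [h_smul_right hF, cj_cj, one_div_mul_cancel hvw]⟩
  obtain ⟨g1, hg1, hg1e, hg1f⟩ := exists_gu_pair hF P P'
  set G1 : GU n F q := ⟨g1, hg1⟩
  set β0 : MulAut PS := (psuSemi G1 (RingEquiv.refl F))⁻¹ * β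
  have hback : ∀ (G : GU n F q) (σ : RingAut F) (γ : MulAut PS) (x x' : V),
      γ '' rootU hF x = rootU hF x' →
      ((((G : GL (Fin n) F) : Mn) *ᵥ (σ ∘ x) = x')) →
      ((psuSemi G σ)⁻¹ * γ : MulAut PS) '' rootU hF x = rootU hF x := by
    intro G σ γ x x' e1 e2
    rw [show ⇑((psuSemi G σ)⁻¹ * γ : MulAut PS) = ⇑((psuSemi G σ)⁻¹ : MulAut PS) ∘ ⇑γ from rfl,
      Set.image_comp, e1, ← e2, ← image_rootU hF G σ x, Set.image_image]
    simp
  have hid : ∀ x : V, (RingEquiv.refl F : F ≃+* F) ∘ x = x := fun x => rfl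
  have he0 : β0 '' rootU hF e = rootU hF e := hback G1 _ β e v hβe (by rw [hid]; exact hg1e)
  have hf0 : β0 '' rootU hF f = rootU hF f := hback G1 _ β f (r • w) (by rw [rootU_smul hF _ hr]; exact hβf)
    (by rw [hid]; exact hg1f)
  obtain ⟨φ, τ, κ, hκ0, hκ, hφW, hφadd, hφτ, hφh, hφ, hφ0⟩ := semilinear_of_fix hF hn hs P he0 hf0
  obtain ⟨s, hsN⟩ := exists_norm hF hκ
  have hs0 : s ≠ 0 := fun h0 => hκ0 (by rw [← hsN, h0, zero_mul])
  have hcs : cj s ≠ 0 := (map_ne_zero _).2 hs0
  have hτcj : ∀ x, cj (τ x) = τ (cj x) := fun x => by simp [qFrob_apply, map_pow]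
  -- the semilinear map
  let G : V → V := fun x => (s * τ (h x f)) • e + ((cj s)⁻¹ * τ (h x e)) • f + (cj s)⁻¹ • φ (wPart (q := q) e f x)
  have hG : ∀ x y, h (G x) (G y) = τ (h x y) := by
    intro x y
    have hx := hφW _ (wPart_mem hF P x)
    have hy := hφW _ (wPart_mem hF P y)
    have key : h x y = h x f * h e y + h x e * h f y +
        h (wPart (q := q) e f x) (wPart (q := q) e f y) := by
      conv_lhs => rw [wPart_eq (q := q) e f x, h_add_left, h_add_left, h_smul_left, h_smul_left]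
      congr 1
      have hx' := wPart_mem hF P x
      conv_lhs => rw [wPart_eq (q := q) e f y]
      simp only [h_add_right hF, h_smul_right hF, hx'.1, hx'.2]
      ring
    simp only [G, h_add_left, h_add_right hF, h_smul_left, h_smul_right hF, map_mul, map_inv₀, cj_cj, P.ee,
      P.ef, P.ff, P.fe hF, hx.1, hx.2, h_comm_zero hF hy.1, h_comm_zero hF hy.2,
      hφh _ (wPart_mem hF P x) _ (wPart_mem hF P y), hτcj, cj_h hF]
    rw [key, map_add, map_add, map_mul, map_mul]
    field_simp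
    linear_combination -(τ (h (wPart (q := q) e f x) (wPart (q := q) e f y))) * hsN
  let L : V →ₗ[F] V :=
    { toFun := fun x => G (τ.symm ∘ x)
      map_add' := fun x y => by
        have e1 : τ.symm ∘ (x + y) = (τ.symm ∘ x) + (τ.symm ∘ y) := funext fun i => map_add _ _ _
        simp only [G, e1, h_add_left, map_add, wPart_add hF,
          hφadd _ (wPart_mem hF P _) _ (wPart_mem hF P _)]
        module
      map_smul' := fun a x => by
        have e1 : τ.symm ∘ (a • x) = τ.symm a • (τ.symm ∘ x) := funext fun i => map_mul τ.symm _ _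
        simp only [G, e1, h_smul_left, map_mul, RingEquiv.apply_symm_apply, wPart_smul hF,
          hφτ _ _ (wPart_mem hF P _), RingHom.id_apply]
        module }
  have hL : ∀ x y, h (L x) (L y) = h x y := fun x y => by
    show h (G (τ.symm ∘ x)) (G (τ.symm ∘ y)) = _
    rw [hG, ← h_comp (q := q) τ, show τ ∘ (τ.symm ∘ x) = x from funext fun i => τ.apply_symm_apply _,
      show τ ∘ (τ.symm ∘ y) = y from funext fun i => τ.apply_symm_apply _]
  have hu : IsUnit (LinearMap.toMatrix' L).det := by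
    rw [← Matrix.isUnit_iff_isUnit_det]
    refine Matrix.mulVec_injective_iff_isUnit.1 fun x y hxy => sub_eq_zero.1 (eq_zero_of_h hF fun z => ?_)
    rw [← hL]
    simp only [LinearMap.toMatrix'_mulVec] at hxy
    rw [map_sub, hxy, sub_self, h_zero_left]
  set G2 : GU n F q := ⟨Matrix.GeneralLinearGroup.mk'' _ hu, fun x y => by
    show h (LinearMap.toMatrix' L *ᵥ x) (LinearMap.toMatrix' L *ᵥ y) = h x y
    rw [LinearMap.toMatrix'_mulVec, LinearMap.toMatrix'_mulVec, hL]⟩
  have hG2 : ∀ x, ((G2 : GL (Fin n) F) : Mn) *ᵥ (τ ∘ x) = G x := fun x => by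
    show LinearMap.toMatrix' L *ᵥ _ = _
    rw [LinearMap.toMatrix'_mulVec]
    show G (τ.symm ∘ τ ∘ x) = G x
    rw [show τ.symm ∘ τ ∘ x = x from funext fun i => τ.symm_apply_apply _]
  have hφ00 : φ 0 = 0 := by simpa using hφadd 0 (Submodule.zero_mem _) 0 (Submodule.zero_mem _)
  have hGe : G e = s • e := by
    simp [G, P.ef, P.ee, wPart_left hF P, hφ00]
  have hGf : G f = (cj s)⁻¹ • f := by
    have : wPart (q := q) e f f = 0 := by rw [wPart, P.ff, P.fe hF]; simp
    simp [G, P.fe hF, P.ff, this, hφ00]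
  have hGw : ∀ w ∈ wSub q e f, G w = (cj s)⁻¹ • φ w := fun w hw => by
    simp [G, hw.1, hw.2, wPart_of_mem hF hw]
  set β1 : MulAut PS := (psuSemi G2 τ)⁻¹ * β0
  have he1 : β1 '' rootU hF e = rootU hF e := hback G2 τ β0 e (s • e) (by rw [rootU_smul hF _ hs0]; exact he0)
    (by rw [hG2, hGe])
  have hf1 : β1 '' rootU hF f = rootU hF f := hback G2 τ β0 f ((cj s)⁻¹ • f)
    (by rw [rootU_smul hF _ (inv_ne_zero hcs)]; exact hf0) (by rw [hG2, hGf])
  have hsemi : ∀ w ∈ wSub q e f, ∀ c, ∀ H : EOK (q := q) e w c, ∃ H' : EOK (q := q) e (φ w) (κ * τ c),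
      psuSemi G2 τ (π (eSU hF H)) = π (eSU hF H') := by
    intro w hw c H
    have hw' := hφW w hw
    refine ⟨⟨P.ee, hw'.1, ?_⟩, ?_⟩
    · have h1 := congrArg τ H.cc
      rw [map_add, map_add, map_zero, cj_pow hF, ← hτcj] at h1
      rw [cj_pow hF, map_mul, hκ, hφh w hw w hw]
      linear_combination κ * h1
    · rw [psuSemi_mk]
      refine congrArg π (suVal_ext ?_)
      rw [suSemi_eMat G2 τ _ (suVal_eSU hF H), hG2, hG2, hGe, hGw w hw, eMat_smul hF, smul_smul,
        mul_inv_cancel₀ hcs, one_smul, hsN]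
      rfl
  have hφ1 : ∀ w ∈ wSub q e f, ∀ c, ∀ H : EOK (q := q) e w c,
      ∃ c', ∃ H' : EOK (q := q) e w c', β1 (π (eSU hF H)) = π (eSU hF H') := by
    intro w hw c H
    obtain ⟨c', H', hc'⟩ := hφ w hw c H
    have hK : EOK (q := q) e w (τ.symm (c' / κ)) := by
      refine ⟨P.ee, hw.1, τ.injective ?_⟩
      have h1 := H'.cc
      rw [cj_pow hF, hφh w hw w hw] at h1
      rw [cj_pow hF, map_add, map_add, map_zero, ← hτcj, RingEquiv.apply_symm_apply, map_div₀, hκ]
      field_simp
      linear_combination h1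
    obtain ⟨H'', hc''⟩ := hsemi w hw _ hK
    refine ⟨_, hK, ?_⟩
    show ((psuSemi G2 τ)⁻¹ : MulAut PS) (β0 (π (eSU hF H))) = _
    rw [hc', show π (eSU hF H') = π (eSU hF H'') from congrArg π (eSU_congr hF _ _ rfl (by
      rw [RingEquiv.apply_symm_apply, mul_div_cancel₀ _ hκ0])), ← hc'']
    exact (psuSemi G2 τ).symm_apply_apply _
  have hθ1 : ∀ d, ∀ H : EOK (q := q) e 0 d, β1 (π (eSU hF H)) = π (eSU hF H) := by
    intro d H
    obtain ⟨H', hd⟩ := hφ0 d H
    obtain ⟨H'', hd''⟩ := hsemi 0 (Submodule.zero_mem _) d H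
    show ((psuSemi G2 τ)⁻¹ : MulAut PS) (β0 (π (eSU hF H))) = _
    rw [hd, show π (eSU hF H') = π (eSU hF H'') from congrArg π (eSU_congr hF _ _ hφ00.symm rfl), ← hd'']
    exact (psuSemi G2 τ).symm_apply_apply _
  obtain ⟨hQe, hψ, hψ0⟩ := normalised_fix hF hn hs P he1 hf1 hφ1 hθ1
  have hW : wSub q f e = wSub q e f := (wSub_swap hF e f).symm
  obtain ⟨hQf, -, -⟩ := normalised_fix hF hn hs (P.swap hF) hf1 he1 (fun w hw => hψ w (hW ▸ hw)) hψ0
  have h1 := eq_one_of_fix hF hn P he1 hf1 hQe hQf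
  refine ⟨G1 * G2, τ, ?_⟩
  rw [← psuSemi_refl_mul]
  have h2 : β0 = psuSemi G2 τ := (inv_mul_eq_one.1 h1).symm
  rw [← h2]
  exact (mul_inv_cancel_left _ β).symm

end

end Cfsg.Agent.Classical.PSUAut
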