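import Cfsg.Agent.Lib.Classical.UnitPointStab
import Cfsg.Agent.Lib.Classical.UnitSemilinear

/-!
The action on the Heisenberg group of an automorphism of `PSU_n` fixing two transvection groups that
do not commute is semilinear.
-/

set_option autoImplicit false
set_option linter.unusedSectionVars false

namespace Cfsg.Agent.Classical.PSUAut

open Matrix
open scoped Pointwise

variable {F : Type*} [Field F] [Fintype F] {q n : ℕ}

local notation "V" => (Fin n → F)
local notation "Mn" => Matrix (Fin n) (Fin n) F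
local notation "PS" => PSU n F q

section
variable (hF : Fintype.card F = q ^ 2)

local notation "h" => hermForm n F q
local notation "cj" => qFrob hF
local notation "π" => suToPSU n F q

omit [Fintype F] in
/-- A subring of a finite field containing more elements than the square root of the order is everything. -/
theorem subring_all {K : Type*} [Field K] [Fintype K] {q : ℕ} (hK : Fintype.card K = q ^ 2)
    (R : Subring K) (hR : q < Nat.card R) : ∀ x, x ∈ R := by
  intro x
  by_contra hx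
  have hinv : ∀ r ∈ R, r⁻¹ ∈ R := by
    intro r hr
    by_cases h0 : r = 0
    · rw [h0, _root_.inv_zero]; exact R.zero_mem
    have h1 : r⁻¹ = r ^ (Fintype.card K - 2) := by
      refine inv_eq_of_mul_eq_one_right ?_
      have hc := Fintype.one_lt_card (α := K)
      rw [← pow_succ', show Fintype.card K - 2 + 1 = Fintype.card K - 1 by omega]
      exact FiniteField.pow_card_sub_one_eq_one r h0
    rw [h1]
    exact pow_mem hr _
  have hinj : Function.Injective fun p : R × R => (p.1 : K) + p.2 * x := by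
    rintro ⟨a, b⟩ ⟨a', b'⟩ e
    simp only at e
    by_cases hb : (b : K) = b'
    · rw [hb] at e
      exact Prod.ext (Subtype.ext (add_right_cancel e)) (Subtype.ext hb)
    · refine absurd ?_ hx
      have h2 : x = ((a : K) - a') * ((b' : K) - b)⁻¹ := by
        rw [eq_mul_inv_iff_mul_eq₀ (sub_ne_zero.2 (Ne.symm hb))]
        linear_combination -e
      rw [h2]
      exact R.mul_mem (R.sub_mem a.2 a'.2) (hinv _ (R.sub_mem b'.2 b.2))
  have h3 := Nat.card_le_card_of_injective _ hinj
  rw [Nat.card_prod, Nat.card_eq_fintype_card (α := K), hK] at h3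
  nlinarith

include hF

theorem exists_h90 {x : F} (hx : x * cj x = 1) : ∃ a : F, a ≠ 0 ∧ cj a = x * a := by
  obtain ⟨y, hy⟩ : ∃ y, y + cj x * cj y ≠ 0 := by
    by_contra hcon
    push Not at hcon
    have h1 := hcon 1
    rw [map_one, mul_one] at h1
    exact qFrob_ne_id hF (RingHom.ext fun y => by
      have h2 := hcon y
      rw [RingHom.id_apply]
      linear_combination -h2 + (cj y) * h1)
  refine ⟨_, hy, ?_⟩
  rw [map_add, map_mul, cj_cj, cj_cj]
  linear_combination -(cj y) * hx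

/-- The element scaling a hyperbolic pair. -/
theorem exists_scaler {z y : V} (P : IsPair (q := q) z y) {a : F} (ha : a ≠ 0) :
    ∃ g : GL (Fin n) F, g ∈ GU n F q ∧ (g : Mn).det = a / cj a ∧
      ∀ x, (g : Mn) *ᵥ x = x + ((a - 1) * h x y) • z + (((cj a)⁻¹ - 1) * h x z) • y := by
  classical
  have hca : cj a ≠ 0 := (map_ne_zero _).2 ha
  set U : Matrix (Fin n) (Fin 2) F := Matrix.of fun i j => if j = 0 then z i else y i
  set W : Matrix (Fin 2) (Fin n) F := Matrix.of fun j i =>
    if j = 0 then (a - 1) * y i ^ q else ((cj a)⁻¹ - 1) * z i ^ q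
  set M : Mn := 1 + U * W
  have hd : ∀ u x : V, ∑ i, u i ^ q * x i = h x u := fun u x => by
    simp [hermForm, mul_comm]
  have hMv : ∀ x, M *ᵥ x = x + ((a - 1) * h x y) • z + (((cj a)⁻¹ - 1) * h x z) • y := fun x => by
    rw [Matrix.add_mulVec, Matrix.one_mulVec, ← Matrix.mulVec_mulVec, add_assoc]
    congr 1
    funext i
    have e0 : (W *ᵥ x) 0 = (a - 1) * h x y := by
      simp [W, Matrix.mulVec, dotProduct, mul_assoc, ← Finset.mul_sum, hd]
    have e1 : (W *ᵥ x) 1 = ((cj a)⁻¹ - 1) * h x z := by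
      simp [W, Matrix.mulVec, dotProduct, mul_assoc, ← Finset.mul_sum, hd]
    rw [Matrix.mulVec, dotProduct, Fin.sum_univ_two, e0, e1]
    simp [U]; ring
  have hdet : M.det = a / cj a := by
    have h00 : (W * U) 0 0 = a - 1 := by
      simp [W, U, Matrix.mul_apply, mul_assoc, ← Finset.mul_sum, hd, P.ef]
    have h01 : (W * U) 0 1 = 0 := by
      simp [W, U, Matrix.mul_apply, mul_assoc, ← Finset.mul_sum, hd, P.ff]
    have h10 : (W * U) 1 0 = 0 := by
      simp [W, U, Matrix.mul_apply, mul_assoc, ← Finset.mul_sum, hd, P.ee]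
    have h11 : (W * U) 1 1 = (cj a)⁻¹ - 1 := by
      simp [W, U, Matrix.mul_apply, mul_assoc, ← Finset.mul_sum, hd, P.fe hF]
    rw [show M = 1 + U * W from rfl, Matrix.det_one_add_mul_comm, Matrix.det_fin_two]
    simp only [Matrix.add_apply, h00, h01, h10, h11]
    simp [div_eq_mul_inv]
  refine ⟨Matrix.GeneralLinearGroup.mk'' M (hdet ▸ (div_ne_zero ha hca).isUnit), fun u v => ?_, hdet, hMv⟩
  show h (M *ᵥ u) (M *ᵥ v) = h u v
  rw [hMv, hMv]
  simp only [h_add_left, h_add_right hF, h_smul_left, h_smul_right hF, map_mul, map_sub, map_one, map_inv₀,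
    cj_cj, cj_h hF, P.ee, P.ef, P.ff, P.fe hF]
  field_simp
  ring

/-- An element fixing two points, with its factor. -/
def FixPts (e f : V) (s : SU n F q) (a : F) : Prop :=
  a ≠ 0 ∧ suVal s *ᵥ e = a • e ∧ suVal s *ᵥ f = (qFrob hF a)⁻¹ • f

theorem FixPts.wmem {e f : V} {s : SU n F q} {a : F} (hs : FixPts hF e f s a) {w : V} (hw : w ∈ wSub q e f) :
    suVal s *ᵥ w ∈ wSub q e f := by
  obtain ⟨ha, hse, hsf⟩ := hs
  have h1 := su_form s w e
  have h2 := su_form s w f
  rw [hse, h_smul_right hF, hw.1] at h1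
  rw [hsf, h_smul_right hF, hw.2] at h2
  exact ⟨(mul_eq_zero.1 h1).resolve_left ((map_ne_zero _).2 ha),
    (mul_eq_zero.1 h2).resolve_left ((map_ne_zero _).2 (inv_ne_zero ((map_ne_zero _).2 ha)))⟩

theorem fixPts_iff (hn : 1 ≤ n) {e f : V} (P : IsPair (q := q) e f) {s : SU n F q} :
    (∃ a, FixPts hF e f s a) ↔
      MulAut.conj (π s) '' rootU hF e = rootU hF e ∧ MulAut.conj (π s) '' rootU hF f = rootU hF f := by
  constructor
  · rintro ⟨a, ha, hse, hsf⟩
    rw [rootU_conj hF, rootU_conj hF, hse, hsf, rootU_smul hF _ ha,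
      rootU_smul hF _ (inv_ne_zero ((map_ne_zero _).2 ha))]
    exact ⟨rfl, rfl⟩
  · rintro ⟨h1, h2⟩
    rw [rootU_conj hF] at h1 h2
    obtain ⟨a, ha, hse⟩ := rootU_inj hF hn (fun h0 => P.ne_zero (su_injective s h0))
      (by rw [su_form, P.ee]) P.ee h1
    obtain ⟨b, -, hsf⟩ := rootU_inj hF hn (fun h0 => (P.swap hF).ne_zero (su_injective s h0))
      (by rw [su_form, P.ff]) P.ff h2
    refine ⟨a, ha, hse, ?_⟩
    have h3 := su_form s e f
    rw [hse, hsf, h_smul_left, h_smul_right hF, P.ef, mul_one] at h3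
    have h4 : cj a * b = 1 := by
      have := congrArg cj h3
      rwa [map_mul, cj_cj, map_one] at this
    rw [hsf, eq_inv_of_mul_eq_one_right h4]

/-- The factor on the Heisenberg group of an element fixing two points. -/
theorem fixPts_conj {e f : V} {s : SU n F q} {a : F} (hs : FixPts hF e f s a) {w : V} {c : F}
    (hw : w ∈ wSub q e f) (H : EOK (q := q) e w c) :
    ∃ H' : EOK (q := q) e (cj a • (suVal s *ᵥ w)) (a * cj a * c),
      s * eSU hF H * s⁻¹ = eSU hF H' := by
  have hmem := hs.wmem hF hw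
  refine ⟨⟨H.ee, by rw [h_smul_left, hmem.1, mul_zero], ?_⟩, suVal_ext ?_⟩
  · have h1 := H.cc
    rw [cj_pow hF] at h1 ⊢
    rw [h_smul_left, h_smul_right hF, su_form, map_mul, map_mul, cj_cj]
    linear_combination (a * cj a) * h1
  · rw [suVal_mul, suVal_mul, suVal_eSU, eMat_conj hF, hs.2.1, eMat_smul hF]
    rfl

/-- Additive maps commuting with the factors are scalar. -/
theorem scalar_of_commute (hn : 3 ≤ n) (hs : ¬(n = 3 ∧ q = 2)) {e f : V} (P : IsPair (q := q) e f)
    (J : V → V) (hJW : ∀ w ∈ wSub q e f, J w ∈ wSub q e f)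
    (hJadd : ∀ x ∈ wSub q e f, ∀ y ∈ wSub q e f, J (x + y) = J x + J y)
    (hcomm : ∀ s a, FixPts hF e f s a → ∀ w ∈ wSub q e f,
      J (cj a • (suVal s *ᵥ w)) = cj a • (suVal s *ᵥ J w)) :
    ∃ k : F, ∀ w ∈ wSub q e f, J w = k • w := by
  classical
  set Wsp := wSub q e f
  have hJ0 : J 0 = 0 := by simpa using hJadd 0 (Submodule.zero_mem _) 0 (Submodule.zero_mem _)
  have hJneg : ∀ x ∈ Wsp, J (-x) = -J x := fun x hx => by
    have h1 := hJadd x hx (-x) (Submodule.neg_mem _ hx)
    rw [add_neg_cancel, hJ0] at h1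
    exact (neg_eq_of_add_eq_zero_right h1.symm).symm
  -- the multipliers commuting with `J` on a line
  have mkR : ∀ w ∈ Wsp, ∃ R : Subring F, ∀ x, x ∈ R ↔ ∀ b : F, J ((x * b) • w) = x • J (b • w) := by
    intro w hw
    refine ⟨{ carrier := {x | ∀ b : F, J ((x * b) • w) = x • J (b • w)}
              one_mem' := fun b => by rw [one_mul, one_smul]
              mul_mem' := fun {x y} hx hy b => by rw [mul_assoc, hx, hy, smul_smul]
              zero_mem' := fun b => by rw [zero_mul, zero_smul, zero_smul, hJ0]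
              add_mem' := fun {x y} hx hy b => by
                rw [add_mul, add_smul, hJadd _ (Submodule.smul_mem _ _ hw) _ (Submodule.smul_mem _ _ hw), hx, hy,
                  ← add_smul]
              neg_mem' := fun {x} hx b => by
                rw [neg_mul, neg_smul, hJneg _ (Submodule.smul_mem _ _ hw), hx, neg_smul] }, fun x => Iff.rfl⟩
  have hq := two_le_q hF
  rcases wSub_dichotomy hF (e := e) (f := f) with ⟨z0, hz0, hz0ne, hz0z⟩ | hline
  swap
  · -- the orthogonal space is a line, so `n = 3`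
    obtain ⟨w, hwe, hwf, hww⟩ := exists_aniso_orth hF hn P
    have hw : w ∈ Wsp := ⟨hwe, hwf⟩
    have hw0 : w ≠ 0 := fun h0 => hww (by rw [h0, h_zero_left])
    have hq2 : q ≠ 2 := by
      intro h2
      have h1 : (⊤ : Submodule F V) ≤ Submodule.span F (({e, f, w} : Finset V) : Set V) := fun x _ => by
        obtain ⟨a, ha⟩ := hline w hw hw0 _ (wPart_mem hF P x)
        rw [wPart_eq (q := q) e f x, ha]
        refine Submodule.add_mem _ (Submodule.add_mem _ (Submodule.smul_mem _ _ (Submodule.subset_span ?_))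
          (Submodule.smul_mem _ _ (Submodule.subset_span ?_)))
          (Submodule.smul_mem _ _ (Submodule.subset_span ?_)) <;> simp
      have h2' := (Submodule.finrank_mono h1).trans (finrank_span_finset_le_card _)
      rw [finrank_top, Module.finrank_pi, Fintype.card_fin] at h2'
      have := Finset.card_le_three (a := e) (b := f) (c := w)
      exact hs ⟨by omega, h2⟩
    obtain ⟨R, hR⟩ := mkR w hw
    have htor : ∀ a : F, a ≠ 0 → cj a * cj a / a ∈ R := by
      intro a ha
      have hca : cj a ≠ 0 := (map_ne_zero _).2 ha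
      obtain ⟨g, hg, hgdet, hgv⟩ := exists_scaler hF P ha
      obtain ⟨g', hg', hg'det, hg'v⟩ := exists_reflection hF hww (a := cj a / a)
        (by rw [map_div₀, cj_cj]; field_simp)
      have hdet : ((g : Mn) * (g' : Mn)).det = 1 := by
        rw [Matrix.det_mul, hgdet, hg'det]; field_simp
      let s : SU n F q := ⟨⟨(g : Mn) * (g' : Mn), hdet⟩, fun u v => by
        show h (((g : Mn) * (g' : Mn)) *ᵥ u) (((g : Mn) * (g' : Mn)) *ᵥ v) = h u v
        rw [← Matrix.mulVec_mulVec, ← Matrix.mulVec_mulVec]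
        exact (hg _ _).trans (hg' u v)⟩
      have hsv : ∀ x, suVal s *ᵥ x = (g : Mn) *ᵥ ((g' : Mn) *ᵥ x) := fun x => by
        rw [Matrix.mulVec_mulVec]
      have hse : suVal s *ᵥ e = a • e := by
        rw [hsv, hg'v, h_comm_zero hF hwe, mul_zero, zero_div, zero_smul, add_zero, hgv, P.ef, P.ee]
        module
      have hsf : suVal s *ᵥ f = (cj a)⁻¹ • f := by
        rw [hsv, hg'v, h_comm_zero hF hwf, mul_zero, zero_div, zero_smul, add_zero, hgv, P.ff, P.fe hF]
        module
      have hsw : ∀ b : F, suVal s *ᵥ (b • w) = (cj a / a * b) • w := fun b => by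
        rw [Matrix.mulVec_smul, hsv, hg'v, hgv]
        simp only [h_add_left, h_smul_left, hwe, hwf, mul_zero, add_zero, zero_smul]
        rw [mul_div_assoc, div_self hww]
        module
      refine (hR _).2 fun b => ?_
      have h1 := hcomm s a ⟨ha, hse, hsf⟩ (b • w) (Submodule.smul_mem _ b hw)
      obtain ⟨b', hb'⟩ := hline w hw hw0 _ (hJW _ (Submodule.smul_mem _ b hw))
      rw [hsw, smul_smul, hb', hsw, smul_smul] at h1
      rw [hb', smul_smul, show cj a * cj a / a * b = cj a * (cj a / a * b) by ring, h1]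
      congr 1
      ring
    have hall : ∀ x, x ∈ R := by
      refine subring_all hF R ?_
      by_contra hle
      push Not at hle
      set S := (Finset.univ : Finset F).filter (fun a => a ≠ 0)
      have hfib : ∀ b ∈ S.image (fun a => cj a * cj a / a),
          (S.filter fun a => cj a * cj a / a = b).card ≤ 3 := by
        intro b hb
        obtain ⟨a0, ha0, rfl⟩ := Finset.mem_image.1 hb
        have ha0' : a0 ≠ 0 := (Finset.mem_filter.1 ha0).2
        refine (Finset.card_le_card_of_injOn (fun a => a / a0) (t := (Polynomial.nthRoots 3 (1 : F)).toFinset)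
          (fun a ha => ?_) (fun a _ a' _ e' => (div_left_inj' ha0').1 e')).trans
          ((Multiset.toFinset_card_le _).trans (Polynomial.card_nthRoots 3 1))
        simp only [Finset.coe_filter, Set.mem_setOf_eq, Finset.mem_coe, Multiset.mem_toFinset,
          Polynomial.mem_nthRoots (by norm_num : 0 < 3)] at ha ⊢
        obtain ⟨haS, hab⟩ := ha
        have ha' : a ≠ 0 := (Finset.mem_filter.1 haS).2
        have hu0 : a / a0 ≠ 0 := div_ne_zero ha' ha0'
        have e1 : (a / a0) ^ (2 * q) = a / a0 := by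
          rw [div_pow, pow_mul', pow_mul', ← qFrob_apply hF, ← qFrob_apply hF]
          rw [div_eq_div_iff ha' ha0'] at hab
          rw [div_eq_div_iff (pow_ne_zero _ ((map_ne_zero _).2 ha0')) ha0']
          linear_combination hab
        have e2 : (a / a0) ^ (4 * (q * q)) = (a / a0) ^ 4 := by
          rw [mul_comm, pow_mul, ← sq q, ← hF, FiniteField.pow_card]
        have e3 : (a / a0) ^ 4 = a / a0 := by
          rw [← e2, show 4 * (q * q) = (2 * q) * (2 * q) by ring, pow_mul, e1, e1]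
        exact mul_right_cancel₀ hu0 (by rw [← pow_succ, one_mul]; exact e3)
      have h1 := Finset.card_le_mul_card_image S 3 hfib
      have h2 : (S.image (fun a => cj a * cj a / a)).card + 1 ≤ Nat.card R := by
        rw [Nat.card_eq_fintype_card, ← Finset.card_insert_of_notMem (a := (0 : F))]
        · refine (Finset.card_le_card (t := (R : Set F).toFinset) fun x hx => ?_).trans_eq (Set.toFinset_card _)
          rw [Set.mem_toFinset]
          rcases Finset.mem_insert.1 hx with rfl | hx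
          · exact R.zero_mem
          · obtain ⟨a, ha, rfl⟩ := Finset.mem_image.1 hx
            exact htor a (Finset.mem_filter.1 ha).2
        · intro hx
          obtain ⟨a, ha, hax⟩ := Finset.mem_image.1 hx
          have ha' := (Finset.mem_filter.1 ha).2
          exact div_ne_zero (mul_ne_zero ((map_ne_zero _).2 ha') ((map_ne_zero _).2 ha')) ha' hax
      have h3 : S.card + 1 = q ^ 2 := by
        rw [← hF]; simp only [S]; rw [Finset.filter_ne' Finset.univ (0 : F), Finset.card_erase_of_mem (Finset.mem_univ _),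
          Finset.card_univ]
        have := Fintype.one_lt_card (α := F)
        omega
      have hq3 : 3 ≤ q := by omega
      nlinarith
    obtain ⟨k, hk⟩ := hline w hw hw0 _ (hJW w hw)
    refine ⟨k, fun y hy => ?_⟩
    obtain ⟨b, rfl⟩ := hline w hw hw0 y hy
    have h1 := (hR b).1 (hall b) 1
    rw [mul_one, one_smul, hk] at h1
    rw [h1, smul_comm]
  -- there are isotropic vectors
  obtain ⟨c0, hc00, hc0⟩ := exists_trace_zero hF
  have hT : ∀ z ∈ Wsp, h z z = 0 → ∀ x ∈ Wsp,
      J ((c0 * h x z) • z) = (c0 * h (J x) z) • z := by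
    intro z hz hzz x hx
    set u := eSU hF (eOK_transvection hF hzz hc0)
    have hue : suVal u *ᵥ e = (1 : F) • e := by
      rw [suVal_eSU, tv_apply' hF, h_comm_zero hF hz.1, mul_zero, zero_smul, add_zero, one_smul]
    have huf : suVal u *ᵥ f = (cj (1 : F))⁻¹ • f := by
      rw [suVal_eSU, tv_apply' hF, h_comm_zero hF hz.2, mul_zero, zero_smul, add_zero, map_one, inv_one,
        one_smul]
    have h1 := hcomm u 1 ⟨one_ne_zero, hue, huf⟩ x hx
    rw [map_one, one_smul, one_smul, suVal_eSU, tv_apply' hF, tv_apply' hF,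
      hJadd _ hx _ (Submodule.smul_mem _ _ hz), add_right_inj] at h1
    exact h1
  have hline : ∀ z ∈ Wsp, z ≠ 0 → h z z = 0 →
      ∃ k : F, ∀ x ∈ Wsp, h (J x) z = k * h x z := by
    intro z hz hzne hzz
    obtain ⟨y, hy, hyy, hzy⟩ := wSub_partner hF P hz hzne hzz
    have hyz : h y z = 1 := by rw [← cj_h hF, hzy, map_one]
    have hJz : ∀ b : F, ∃ b', J (b • z) = b' • z := fun b => by
      refine ⟨c0 * h (J ((b / c0) • y)) z, ?_⟩
      rw [← hT z hz hzz _ (Submodule.smul_mem _ _ hy), h_smul_left, hyz, mul_one, mul_div_cancel₀ _ hc00]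
    obtain ⟨R, hR⟩ := mkR z hz
    have htor : ∀ a : F, a ≠ 0 → cj a / a ∈ R := by
      intro a ha
      have Pzy : IsPair (q := q) z y := ⟨hzz, hyy, hzy⟩
      obtain ⟨g, hg, hgdet, hgv⟩ := exists_scaler hF P ha
      obtain ⟨g', hg', hg'det, hg'v⟩ := exists_scaler hF Pzy (inv_ne_zero ha)
      have hca : cj a ≠ 0 := (map_ne_zero _).2 ha
      have hdet : ((g : Mn) * (g' : Mn)).det = 1 := by
        rw [Matrix.det_mul, hgdet, hg'det, map_inv₀]; field_simp
      let s : SU n F q := ⟨⟨(g : Mn) * (g' : Mn), hdet⟩, fun u v => by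
        show h (((g : Mn) * (g' : Mn)) *ᵥ u) (((g : Mn) * (g' : Mn)) *ᵥ v) = h u v
        rw [← Matrix.mulVec_mulVec, ← Matrix.mulVec_mulVec]
        exact (hg _ _).trans (hg' u v)⟩
      have hsv : ∀ x, suVal s *ᵥ x = (g : Mn) *ᵥ ((g' : Mn) *ᵥ x) := fun x => by
        rw [Matrix.mulVec_mulVec]
      have hse : suVal s *ᵥ e = a • e := by
        rw [hsv, hg'v, h_comm_zero hF hy.1, h_comm_zero hF hz.1]
        simp only [mul_zero, zero_smul, add_zero]
        rw [hgv, P.ef, P.ee]
        module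
      have hsf : suVal s *ᵥ f = (cj a)⁻¹ • f := by
        rw [hsv, hg'v, h_comm_zero hF hy.2, h_comm_zero hF hz.2]
        simp only [mul_zero, zero_smul, add_zero]
        rw [hgv, P.ff, P.fe hF]
        module
      have hsz : ∀ b : F, suVal s *ᵥ (b • z) = (a⁻¹ * b) • z := fun b => by
        rw [Matrix.mulVec_smul, hsv, hg'v, hzz, hzy, hgv]
        simp only [h_add_left, h_smul_left, hz.1, hz.2, mul_zero, zero_smul, add_zero]
        module
      refine (hR _).2 fun b => ?_
      have h1 := hcomm s a ⟨ha, hse, hsf⟩ (b • z) (Submodule.smul_mem _ b hz)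
      obtain ⟨b', hb'⟩ := hJz b
      rw [hsz, smul_smul, hb', hsz, smul_smul] at h1
      rw [hb', smul_smul, show cj a / a * b = cj a * (a⁻¹ * b) by rw [div_eq_mul_inv, mul_assoc], h1]
      congr 1
      ring
    have hall : ∀ x, x ∈ R := by
      refine subring_all hF R ?_
      have h1 : Nat.card {x : F // x ^ (q + 1) = 1} ≤ Nat.card R := by
        refine Nat.card_le_card_of_injective (fun x => ⟨(x : F), ?_⟩)
          (fun x y e' => Subtype.ext (congrArg (fun r : R => (r : F)) e'))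
        have hx : (x : F) * cj (x : F) = 1 := by rw [qFrob_apply, ← pow_succ']; exact x.2
        obtain ⟨a, ha, hax⟩ := exists_h90 hF hx
        have := htor a ha
        rwa [hax, mul_div_cancel_right₀ _ ha] at this
      rw [natCard_norm_eq hF (one_pow q) one_ne_zero] at h1
      omega
    obtain ⟨k, hk⟩ := hJz 1
    rw [one_smul] at hk
    refine ⟨k, fun x hx => ?_⟩
    have h1 := (hR _).1 (hall (c0 * h x z)) 1
    rw [mul_one, one_smul, hT z hz hzz x hx, hk, smul_smul] at h1
    refine mul_left_cancel₀ hc00 ?_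
    rw [smul_left_injective F hzne h1]
    ring
  obtain ⟨k, hk⟩ := hline z0 hz0 hz0ne hz0z
  -- the factor is the same for all isotropic vectors
  have hsame : ∀ z ∈ Wsp, ∀ z' ∈ Wsp, h z z = 0 → h z' z' = 0 → h z z' ≠ 0 → ∀ a,
      (∀ x ∈ Wsp, h (J x) z = a * h x z) → ∀ x ∈ Wsp, h (J x) z' = a * h x z' := by
    intro z hz z' hz' hzz hz'z' hne a ha
    have hne' : h z' z ≠ 0 := fun h0 => hne (h_comm_zero hF h0)
    have hz'ne : z' ≠ 0 := fun h0 => hne (by rw [h0, h_zero_right hF])
    obtain ⟨b, hb⟩ := hline z' hz' hz'ne hz'z'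
    -- `J z'` lies on the line of `z'`
    obtain ⟨y, hy, hyy, hzy⟩ := wSub_partner hF P hz' hz'ne hz'z'
    have hyz : h y z' = 1 := by rw [← cj_h hF, hzy, map_one]
    have hJz' : J z' = b • z' := by
      have h1 := hT z' hz' hz'z' ((1 / c0) • y) (Submodule.smul_mem _ _ hy)
      rw [hb _ (Submodule.smul_mem _ _ hy), h_smul_left, hyz, mul_one, mul_div_cancel₀ _ hc00, one_smul,
        mul_left_comm, mul_div_cancel₀ _ hc00, mul_one] at h1
      exact h1
    have h2 := ha z' hz'
    rw [hJz', h_smul_left] at h2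
    intro x hx
    rw [hb x hx, mul_right_cancel₀ hne' h2]
  have hkall : ∀ z ∈ Wsp, h z z = 0 → ∀ x ∈ Wsp, h (J x) z = k * h x z := by
    intro z hz hzz
    by_cases hzne : z = 0
    · intro x hx; rw [hzne, h_zero_right hF, h_zero_right hF, mul_zero]
    by_cases h1 : h z0 z ≠ 0
    · exact hsame z0 hz0 z hz hz0z hzz h1 k hk
    push Not at h1
    obtain ⟨y1, hy1, hy1y, hzy1⟩ := wSub_partner hF P hz0 hz0ne hz0z
    by_cases h2 : h y1 z ≠ 0
    · exact hsame y1 hy1 z hz hy1y hzz h2 k
        (hsame z0 hz0 y1 hy1 hz0z hy1y (by rw [hzy1]; exact one_ne_zero) k hk)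
    push Not at h2
    obtain ⟨y2, hy2, hy2y, hzy2⟩ := wSub_partner hF P hz hzne hzz
    by_cases h3 : h z0 y2 ≠ 0
    · exact hsame y2 hy2 z hz hy2y hzz (fun h0 => by rw [h_comm_zero hF h0] at hzy2; exact zero_ne_one hzy2) k
        (hsame z0 hz0 y2 hy2 hz0z hy2y h3 k hk)
    push Not at h3
    obtain ⟨b, hb0, hb⟩ : ∃ b : F, b ≠ 0 ∧ cj b * h y1 y2 + b * h y2 y1 = 0 := by
      by_cases h4 : h y1 y2 = 0
      · exact ⟨1, one_ne_zero, by rw [h4, h_comm_zero hF h4]; ring⟩
      obtain ⟨t, ht0, ht⟩ := exists_trace_zero hF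
      refine ⟨t / h y2 y1, div_ne_zero ht0 (fun h0 => h4 (h_comm_zero hF h0)), ?_⟩
      rw [map_div₀, cj_h hF, div_mul_cancel₀ _ h4, div_mul_cancel₀ _ (fun h0 => h4 (h_comm_zero hF h0))]
      linear_combination ht
    set y := y1 + b • y2
    have hy : y ∈ Wsp := Submodule.add_mem _ hy1 (Submodule.smul_mem _ b hy2)
    have hyy : h y y = 0 := by
      rw [h_add_left, h_add_right hF, h_add_right hF, h_smul_left, h_smul_left, h_smul_right hF,
        h_smul_right hF, hy1y, hy2y]
      linear_combination hb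
    have hz0y : h z0 y = 1 := by rw [h_add_right hF, h_smul_right hF, hzy1, h3]; ring
    have hyz : h y z = b := by
      rw [h_add_left, h_smul_left, h2, ← cj_h hF z y2, hzy2, map_one]; ring
    exact hsame y hy z hz hyy hzz (by rw [hyz]; exact hb0) k
      (hsame z0 hz0 y hy hz0z hyy (by rw [hz0y]; exact one_ne_zero) k hk)
  refine ⟨k, fun x hx => sub_eq_zero.1 (wSub_eq_zero hF P
    (Submodule.sub_mem _ (hJW x hx) (Submodule.smul_mem _ k hx)) fun y hy => ?_)⟩
  refine wSub_induction hF P hz0 hz0ne hz0z (C := fun y => h (J x - k • x) y = 0) (fun z hz hzz => ?_)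
    (fun a b _ _ ha hb => by rw [h_add_right hF, ha, hb, add_zero]) y hy
  rw [h_sub_left, h_smul_left, hkall z hz hzz x hx, sub_self]

theorem qBar_image (hn : 3 ≤ n) {e f : V} (P : IsPair (q := q) e f) {β : MulAut PS}
    (he : β '' rootU hF e = rootU hF e) :
    (qBar hF e P.ee).map β.toMonoidHom = qBar hF e P.ee := by
  obtain ⟨p, hp⟩ := CharP.exists F
  haveI : Fact p.Prime := ⟨CharP.char_is_prime F p⟩
  have hC : (centR hF e).map β.toMonoidHom = centR hF e := by
    ext x
    simp only [centR, Subgroup.mem_map_equiv, Subgroup.mem_centralizer_iff]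
    constructor
    · intro hx y hy
      rw [← he] at hy
      obtain ⟨y', hy', rfl⟩ := hy
      have := congrArg β (hx y' hy')
      rwa [map_mul, map_mul, MulEquiv.apply_symm_apply] at this
    · intro hx y hy
      apply β.injective
      rw [map_mul, map_mul, MulEquiv.apply_symm_apply]
      exact hx _ (he ▸ Set.mem_image_of_mem β hy)
  refine Subgroup.eq_of_le_of_card_ge (le_qBar hF hn (p := p) P ?_ ?_ ?_) ?_
  · exact (Subgroup.map_mono (qBar_le_centR hF P.ee)).trans hC.le
  · exact ((isPGroup_heisU hF P.ee).map _).map _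
  · intro x hx y hy
    rw [← hC] at hx
    obtain ⟨x', hx', rfl⟩ := hx
    obtain ⟨y', hy', rfl⟩ := hy
    exact ⟨x' * y' * x'⁻¹, qBar_conj hF (by omega) P.ne_zero P.ee hx' hy', by simp⟩
  · rw [Subgroup.card_map_of_injective β.injective]

theorem heis_inj (hn : 1 ≤ n) {e f : V} (P : IsPair (q := q) e f) {w w' : V} {c c' : F}
    (hw : w ∈ wSub q e f) (hw' : w' ∈ wSub q e f) (H : EOK (q := q) e w c) (H' : EOK (q := q) e w' c')
    (he : π (eSU hF H) = π (eSU hF H')) : w = w' ∧ c = c' := by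
  have h1 := congrArg (· *ᵥ f) (eMat_eq_of_pi_eq hF hn H H' he)
  simp only [eMat_mulVec, P.fe hF, h_comm_zero hF hw.2, h_comm_zero hF hw'.2, one_smul, zero_smul, sub_zero,
    mul_one, add_right_inj] at h1
  have h2 := congrArg (fun v => h v f) h1
  simp only [h_add_left, h_smul_left, hw.2, hw'.2, P.ef, zero_add, mul_one] at h2
  exact ⟨by rw [h2] at h1; exact add_right_cancel h1, h2⟩

theorem qBar_repr {e f : V} (P : IsPair (q := q) e f) {y : PS} (hy : y ∈ qBar hF e P.ee) :
    ∃ (w : V) (c : F) (H : EOK (q := q) e w c), w ∈ wSub q e f ∧ y = π (eSU hF H) := by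
  obtain ⟨s, ⟨w0, c0, H0, hs⟩, rfl⟩ := hy
  set b := h w0 f
  set w := wPart (q := q) e f w0
  have hw : w ∈ wSub q e f := wPart_mem hF P w0
  have hw0 : w0 = b • e + w := by
    conv_lhs => rw [wPart_eq (q := q) e f w0]
    rw [H0.we, zero_smul, add_zero]
  refine ⟨w, c0 + b - cj b, ⟨P.ee, hw.1, ?_⟩, hw, congrArg π (suVal_ext ?_)⟩
  · have h1 := H0.cc
    rw [hw0, cj_pow hF] at h1
    simp only [h_add_left, h_add_right hF, h_smul_left, h_smul_right hF, P.ee, hw.1,
      h_comm_zero hF hw.1] at h1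
    rw [cj_pow hF, map_sub, map_add, cj_cj]
    linear_combination h1
  · rw [hs, suVal_eSU]
    refine Matrix.ext_iff_mulVec.2 fun x => ?_
    rw [eMat_mulVec, eMat_mulVec, hw0, h_add_right hF, h_smul_right hF]
    module

/-- The local structure of an automorphism fixing two non-commuting transvection groups. -/
theorem semilinear_of_fix (hn : 3 ≤ n) (hs : ¬(n = 3 ∧ q = 2)) {e f : V} (P : IsPair (q := q) e f)
    {β : MulAut PS} (he : β '' rootU hF e = rootU hF e) (hf : β '' rootU hF f = rootU hF f) :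
    ∃ (φ : V → V) (τ : RingAut F) (κ : F), κ ≠ 0 ∧ cj κ = κ ∧
      (∀ w ∈ wSub q e f, φ w ∈ wSub q e f) ∧
      (∀ x ∈ wSub q e f, ∀ y ∈ wSub q e f, φ (x + y) = φ x + φ y) ∧
      (∀ (a : F), ∀ w ∈ wSub q e f, φ (a • w) = τ a • φ w) ∧
      (∀ x ∈ wSub q e f, ∀ y ∈ wSub q e f, h (φ x) (φ y) = κ * τ (h x y)) ∧
      (∀ w ∈ wSub q e f, ∀ c, ∀ H : EOK (q := q) e w c,
        ∃ c', ∃ H' : EOK (q := q) e (φ w) c', β (π (eSU hF H)) = π (eSU hF H')) ∧
      (∀ d, ∀ H : EOK (q := q) e 0 d, ∃ H' : EOK (q := q) e 0 (κ * τ d),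
        β (π (eSU hF H)) = π (eSU hF H')) := by
  classical
  have hn1 : 1 ≤ n := by omega
  set Wsp := wSub q e f
  -- the action on the centre
  have hθ : ∀ d, ∀ H : EOK (q := q) e 0 d, ∃ d', ∃ H' : EOK (q := q) e 0 d',
      β (π (eSU hF H)) = π (eSU hF H') := by
    intro d H
    obtain ⟨s, d', hd', hs', hsd⟩ : β (π (eSU hF H)) ∈ rootU hF e := he ▸ Set.mem_image_of_mem β
      ⟨eSU hF H, d, by have := H.cc; rwa [cj_pow hF, h_zero_left, add_zero] at this, rfl, rfl⟩
    refine ⟨d', eOK_transvection hF P.ee hd', ?_⟩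
    rw [← hsd]
    exact congrArg π (suVal_ext hs')
  choose! θ hθ' hθβ using hθ
  have hex : ∀ w, ∀ c, EOK (q := q) e w c →
      ∃ w' c', w' ∈ Wsp ∧ ∀ H : EOK (q := q) e w c, ∃ H' : EOK (q := q) e w' c',
        β (π (eSU hF H)) = π (eSU hF H') := by
    intro w c H
    have h1 : β (π (eSU hF H)) ∈ qBar hF e P.ee := by
      rw [← qBar_image hF hn P he]
      exact Subgroup.mem_map_of_mem _ ⟨_, eSU_mem_heisU hF H, rfl⟩
    obtain ⟨w', c', H', hw', he'⟩ := qBar_repr hF P h1
    exact ⟨w', c', hw', fun _ => ⟨H', he'⟩⟩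
  choose! Φ χ hΦW hΦ using hex
  -- the value does not depend on the coefficient
  have hcoef : ∀ w ∈ Wsp, ∀ c c', EOK (q := q) e w c → EOK (q := q) e w c' → Φ w c = Φ w c' := by
    intro w hw c c' H H'
    have hd : EOK (q := q) e 0 (c' - c) := by
      refine eOK_transvection hF P.ee ?_
      have h1 := H.cc
      have h2 := H'.cc
      rw [cj_pow hF] at h1 h2
      rw [map_sub]; linear_combination h2 - h1
    obtain ⟨H1, e1⟩ := hΦ w c H H
    obtain ⟨H2, e2⟩ := hΦ w c' H' H'
    have e3 := hθβ _ hd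
    have hprod : eSU hF H * eSU hF hd = eSU hF H' := by
      rw [eSU_mul hF H hd]
      exact eSU_congr hF _ _ (add_zero w) (by rw [h_zero_left]; ring)
    rw [← hprod, map_mul, map_mul, e1, e3, ← map_mul, eSU_mul] at e2
    have := (heis_inj hF hn1 P (by simpa using hΦW w c H) (hΦW w c' H') _ _ e2).1
    simpa using this
  have hcex : ∀ w, w ∈ Wsp → ∃ c, EOK (q := q) e w c := fun w hw => EOK.exists_c hF P.ee hw.1
  choose! c0 hc0 using hcex
  set φ : V → V := fun w => Φ w (c0 w)
  have hφW : ∀ w ∈ Wsp, φ w ∈ Wsp := fun w hw => hΦW w _ (hc0 w hw)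
  have hφ : ∀ w ∈ Wsp, ∀ c, ∀ H : EOK (q := q) e w c,
      ∃ c', ∃ H' : EOK (q := q) e (φ w) c', β (π (eSU hF H)) = π (eSU hF H') := by
    intro w hw c H
    rw [show φ w = Φ w c from hcoef w hw _ _ (hc0 w hw) H]
    exact ⟨_, hΦ w c H H⟩
  have hadd : ∀ x ∈ Wsp, ∀ y ∈ Wsp, φ (x + y) = φ x + φ y := by
    intro x hx y hy
    obtain ⟨cx, Hx, ex⟩ := hφ x hx _ (hc0 x hx)
    obtain ⟨cy, Hy, ey⟩ := hφ y hy _ (hc0 y hy)
    obtain ⟨cxy, Hxy, exy⟩ := hφ _ (Submodule.add_mem _ hx hy) _ ((hc0 x hx).mul hF (hc0 y hy))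
    rw [← eSU_mul hF (hc0 x hx) (hc0 y hy), map_mul, map_mul, ex, ey, ← map_mul, eSU_mul] at exy
    exact ((heis_inj hF hn1 P (Submodule.add_mem _ (hφW x hx) (hφW y hy))
      (hφW _ (Submodule.add_mem _ hx hy)) _ _ exy).1).symm
  have hφ0 : φ 0 = 0 := by simpa using hadd 0 (Submodule.zero_mem _) 0 (Submodule.zero_mem _)
  have hφsub : ∀ x ∈ Wsp, ∀ y ∈ Wsp, φ (x - y) = φ x - φ y := fun x hx y hy => by
    rw [eq_sub_iff_add_eq, ← hadd _ (Submodule.sub_mem _ hx hy) _ hy, sub_add_cancel]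
  have hinj : ∀ x ∈ Wsp, φ x = 0 → x = 0 := by
    intro x hx h0
    obtain ⟨c, H, ec⟩ := hφ x hx _ (hc0 x hx)
    have hc' : c + cj c = 0 := by
      have h1 := H.cc
      rwa [h0, h_zero_left, add_zero, cj_pow hF] at h1
    obtain ⟨y, hy, hye⟩ : π (eSU hF H) ∈ β '' rootU hF e := he.symm ▸
      (⟨_, c, hc', by rw [suVal_eSU, h0], rfl⟩ : π (eSU hF H) ∈ rootU hF e)
    obtain ⟨t, d, hd, hdt, rfl⟩ := hy
    have h2 : π (eSU hF (hc0 x hx)) = π (eSU hF (eOK_transvection hF P.ee hd)) := by
      rw [← show t = eSU hF (eOK_transvection hF P.ee hd) from suVal_ext hdt]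
      exact β.injective (ec.trans hye.symm)
    exact (heis_inj hF hn1 P hx (Submodule.zero_mem _) _ _ h2).1
  have hbij : Function.Bijective (fun x : Wsp => (⟨φ x, hφW x x.2⟩ : Wsp)) := by
    refine Finite.injective_iff_bijective.1 fun x y e' => Subtype.ext (sub_eq_zero.1 ?_)
    refine hinj _ (Submodule.sub_mem _ x.2 y.2) ?_
    rw [hφsub _ x.2 _ y.2, sub_eq_zero]
    exact congrArg Subtype.val e'
  -- conjugation by elements fixing the two points
  have heq : ∀ s a, FixPts hF e f s a → ∀ s' a', FixPts hF e f s' a' → β (π s) = π s' → ∀ w ∈ Wsp,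
      φ (cj a • (suVal s *ᵥ w)) = cj a' • (suVal s' *ᵥ φ w) := by
    intro s a hsa s' a' hsa' hss w hw
    obtain ⟨H1, e1⟩ := fixPts_conj hF hsa hw (hc0 w hw)
    obtain ⟨c, H, ec⟩ := hφ w hw _ (hc0 w hw)
    obtain ⟨H2, e2⟩ := fixPts_conj hF hsa' (hφW w hw) H
    have hmem : cj a • (suVal s *ᵥ w) ∈ Wsp := Submodule.smul_mem _ _ (hsa.wmem hF hw)
    obtain ⟨c', H', ec'⟩ := hφ _ hmem _ H1
    rw [← e1, map_mul, map_mul, map_inv, map_mul, map_mul, map_inv, hss, ec, ← map_inv, ← map_mul,
      ← map_mul, e2] at ec'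
    exact ((heis_inj hF hn1 P (Submodule.smul_mem _ _ (hsa'.wmem hF (hφW w hw))) (hφW _ hmem) _ _ ec').1).symm
  have hL : ∀ s', (∃ a', FixPts hF e f s' a') → ∃ s a, FixPts hF e f s a ∧ β (π s) = π s' := by
    intro s' hs'
    obtain ⟨h1, h2⟩ := (fixPts_iff hF hn1 P).1 hs'
    obtain ⟨s, hs0⟩ := pi_surjective (n := n) (q := q) ((β⁻¹ : MulAut PS) (π s'))
    have hss : β (π s) = π s' := by rw [hs0]; simp
    have key : ∀ v, β '' rootU hF v = rootU hF v → MulAut.conj (π s') '' rootU hF v = rootU hF v →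
        MulAut.conj (π s) '' rootU hF v = rootU hF v := by
      intro v hv hv'
      refine (Set.image_injective.2 β.injective) ?_
      rw [hv, Set.image_image]
      rw [show (fun x => β (MulAut.conj (π s) x)) = fun x => MulAut.conj (π s') (β x) from
        funext fun x => by simp [hss], ← Set.image_image (g := MulAut.conj (π s')), hv, hv']
    obtain ⟨a, ha⟩ := (fixPts_iff hF hn1 P).2 ⟨key e he h1, key f hf h2⟩
    exact ⟨s, a, ha, hss⟩
  obtain ⟨w1, hw1e, hw1f, hw11⟩ := exists_aniso_orth hF hn P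
  have hw1 : w1 ∈ Wsp := ⟨hw1e, hw1f⟩
  have hw1ne : w1 ≠ 0 := fun h0 => hw11 (by rw [h0, h_zero_left])
  -- semilinearity
  have hτ : ∀ a : F, ∃ k : F, ∀ w ∈ Wsp, φ (a • w) = k • φ w := by
    intro a
    let ψ : V → V := fun y => if hy : y ∈ Wsp then ((Equiv.ofBijective _ hbij).symm ⟨y, hy⟩ : Wsp).1 else 0
    have hψW : ∀ y, ψ y ∈ Wsp := fun y => by
      simp only [ψ]; split_ifs
      · exact Subtype.coe_prop _
      · exact Submodule.zero_mem _
    have hψr : ∀ y ∈ Wsp, φ (ψ y) = y := fun y hy => by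
      simp only [ψ, dif_pos hy]
      exact congrArg Subtype.val ((Equiv.ofBijective _ hbij).apply_symm_apply ⟨y, hy⟩)
    have hψl : ∀ x ∈ Wsp, ψ (φ x) = x := fun x hx => by
      simp only [ψ, dif_pos (hφW x hx)]
      exact congrArg Subtype.val ((Equiv.ofBijective _ hbij).symm_apply_apply ⟨x, hx⟩)
    obtain ⟨k, hk⟩ := scalar_of_commute hF hn hs P (fun y => φ (a • ψ y))
      (fun y _ => hφW _ (Submodule.smul_mem _ a (hψW y)))
      (fun x hx y hy => by
        have h1 : ψ (x + y) = ψ x + ψ y := by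
          refine (congrArg ψ ?_).trans (hψl _ (Submodule.add_mem _ (hψW x) (hψW y)))
          rw [hadd _ (hψW x) _ (hψW y), hψr x hx, hψr y hy]
        show φ (a • ψ (x + y)) = _
        rw [h1, smul_add, hadd _ (Submodule.smul_mem _ a (hψW x)) _ (Submodule.smul_mem _ a (hψW y))])
      (fun s' a' hs' y hy => by
        obtain ⟨s, b, hsb, hss⟩ := hL s' ⟨a', hs'⟩
        have h1 : ψ (cj a' • (suVal s' *ᵥ y)) = cj b • (suVal s *ᵥ ψ y) := by
          refine (congrArg ψ ?_).trans (hψl _ (Submodule.smul_mem _ _ (hsb.wmem hF (hψW y))))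
          rw [heq s b hsb s' a' hs' hss _ (hψW y), hψr y hy]
        show φ (a • ψ (cj a' • (suVal s' *ᵥ y))) = cj a' • (suVal s' *ᵥ φ (a • ψ y))
        rw [h1, smul_comm, ← Matrix.mulVec_smul]
        exact heq s b hsb s' a' hs' hss _ (Submodule.smul_mem _ a (hψW y)))
    exact ⟨k, fun w hw => by rw [← hk (φ w) (hφW w hw), hψl w hw]⟩
  choose τ0 hτ0 using hτ
  have hφw1 : φ w1 ≠ 0 := fun h0 => hw1ne (hinj w1 hw1 h0)
  have hτinj : Function.Injective τ0 := fun a b e' => by
    refine sub_eq_zero.1 ((smul_eq_zero.1 (hinj _ (Submodule.smul_mem _ (a - b) hw1) ?_)).resolve_right hw1ne)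
    rw [sub_smul, hφsub _ (Submodule.smul_mem _ a hw1) _ (Submodule.smul_mem _ b hw1), hτ0 a w1 hw1,
      hτ0 b w1 hw1, e', sub_self]
  let τ : RingAut F :=
    { Equiv.ofBijective τ0 (Finite.injective_iff_bijective.1 hτinj) with
      map_mul' := fun a b => smul_left_injective F hφw1 (by
        show τ0 (a * b) • φ w1 = (τ0 a * τ0 b) • φ w1
        rw [← hτ0 _ w1 hw1, ← smul_smul, hτ0 a _ (Submodule.smul_mem _ b hw1), hτ0 b w1 hw1, smul_smul])
      map_add' := fun a b => smul_left_injective F hφw1 (by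
        show τ0 (a + b) • φ w1 = (τ0 a + τ0 b) • φ w1
        rw [← hτ0 _ w1 hw1, add_smul, hadd _ (Submodule.smul_mem _ a hw1) _ (Submodule.smul_mem _ b hw1),
          hτ0 a w1 hw1, hτ0 b w1 hw1, add_smul]) }
  have hτ' : ∀ a, ∀ w ∈ Wsp, φ (a • w) = τ a • φ w := hτ0
  have hτcj : ∀ x, cj (τ x) = τ (cj x) := fun x => by simp [qFrob_apply, map_pow]
  -- the commutator
  have hcomm : ∀ x ∈ Wsp, ∀ y ∈ Wsp,
      θ (h x y - h y x) = h (φ x) (φ y) - h (φ y) (φ x) := by
    intro x hx y hy
    have hd : EOK (q := q) e 0 (h x y - h y x) :=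
      eOK_transvection hF P.ee (by rw [map_sub, cj_h hF, cj_h hF]; ring)
    have e0 : eSU hF (hc0 x hx) * eSU hF (hc0 y hy) =
        eSU hF hd * (eSU hF (hc0 y hy) * eSU hF (hc0 x hx)) := by
      rw [eSU_mul, eSU_mul, eSU_mul]
      refine eSU_congr hF _ _ (by rw [zero_add]; exact add_comm x y) ?_
      rw [h_zero_right hF]; ring
    obtain ⟨cx, Hx, ex⟩ := hφ x hx _ (hc0 x hx)
    obtain ⟨cy, Hy, ey⟩ := hφ y hy _ (hc0 y hy)
    have e1 := congrArg (fun z => β (π z)) e0
    simp only [map_mul, ex, ey, hθβ _ hd] at e1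
    rw [← map_mul, ← map_mul, ← map_mul, eSU_mul, eSU_mul, eSU_mul] at e1
    have e2 := (heis_inj hF hn1 P (Submodule.add_mem _ (hφW x hx) (hφW y hy))
      (by rw [zero_add]; exact Submodule.add_mem _ (hφW y hy) (hφW x hx)) _ _ e1).2
    rw [h_zero_right hF, sub_zero] at e2
    linear_combination -e2
  have hkey : ∀ x ∈ Wsp, ∀ y ∈ Wsp, ∀ a : F,
      θ (a * h x y - cj (a * h x y)) = τ a * h (φ x) (φ y) - cj (τ a * h (φ x) (φ y)) := by
    intro x hx y hy a
    have h1 := hcomm _ (Submodule.smul_mem _ a hx) y hy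
    rw [hτ' a x hx, h_smul_left, h_smul_left, h_smul_right hF, h_smul_right hF] at h1
    rw [map_mul, map_mul, cj_h hF, cj_h hF]
    exact h1
  have hθ0 : θ 0 = 0 := by
    have h1 := hcomm _ hw1 _ hw1
    rwa [sub_self, sub_self] at h1
  obtain ⟨t0, ht00, ht0⟩ := exists_trace_zero hF
  obtain ⟨r, hr⟩ := exists_trace_eq hF (a := (1 : F)) (map_one _)
  -- the multiplier attached to a non-zero value
  have hmult : ∀ x ∈ Wsp, ∀ y ∈ Wsp, h x y ≠ 0 →
      cj (h (φ x) (φ y) / τ (h x y)) = h (φ x) (φ y) / τ (h x y) ∧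
      ∀ d, d + cj d = 0 → θ d = h (φ x) (φ y) / τ (h x y) * τ d := by
    intro x hx y hy hne
    set K := h (φ x) (φ y) / τ (h x y)
    have hgen : ∀ b, θ (b - cj b) = τ b * K - cj (τ b * K) := fun b => by
      have h1 := hkey x hx y hy (b / h x y)
      rw [div_mul_cancel₀ b hne, map_div₀, div_mul_eq_mul_div, mul_div_assoc] at h1
      exact h1
    have hK : cj K = K := by
      have h1 := hgen 1
      rw [map_one, sub_self, hθ0, map_one, one_mul] at h1
      exact (sub_eq_zero.1 h1.symm).symm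
    refine ⟨hK, fun d hd => ?_⟩
    have hcd : cj d = -d := by linear_combination hd
    have hb : d * r - cj (d * r) = d := by
      rw [map_mul, hcd]; linear_combination d * hr
    have h1 := hgen (d * r)
    have h2 : τ (d * r) - cj (τ (d * r)) = τ d := by rw [hτcj, ← map_sub, hb]
    rw [hb, map_mul cj, hK] at h1
    linear_combination h1 + K * h2
  set κ := h (φ w1) (φ w1) / τ (h w1 w1)
  obtain ⟨hκ, hκθ⟩ : cj κ = κ ∧ ∀ d, d + cj d = 0 → θ d = κ * τ d := hmult _ hw1 _ hw1 hw11
  have hκ0 : κ ≠ 0 := by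
    intro h0
    have hT : EOK (q := q) e 0 t0 := eOK_transvection hF P.ee ht0
    have h1 := hθβ _ hT
    have hd0 : θ t0 = 0 := by rw [hκθ t0 ht0, h0, zero_mul]
    have H0 : EOK (q := q) e 0 0 := EOK.zero hF P.ee
    rw [eSU_congr hF (hθ' _ hT) H0 rfl hd0, eSU_zero hF P.ee, map_one] at h1
    exact tv_ne_one hF hn1 P.ne_zero P.ee ht0 ht00 (suVal_eSU hF hT) (β.injective (h1.trans (map_one β).symm))
  refine ⟨φ, τ, κ, hκ0, hκ, hφW, hadd, hτ', fun x hx y hy => ?_, hφ, fun d H => ?_⟩
  · by_cases hne : h x y = 0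
    · rw [hne, map_zero, mul_zero]
      set Y := h (φ x) (φ y)
      have hY : ∀ a, τ a * Y - cj (τ a * Y) = 0 := fun a => by
        rw [← hkey x hx y hy a, hne, mul_zero, map_zero, sub_zero, hθ0]
      have h1 := hY 1
      have h2 := hY t0
      rw [map_one, one_mul] at h1
      have hYY : cj Y = Y := (sub_eq_zero.1 h1).symm
      rw [map_mul, hYY, ← sub_mul] at h2
      rcases mul_eq_zero.1 h2 with h3 | h3
      · rw [hτcj, ← map_sub, map_eq_zero_iff τ τ.injective, sub_eq_zero] at h3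
        -- then the field has odd or even characteristic; in both cases use a second element
        have h4 := hY r
        rw [map_mul, hYY, ← sub_mul] at h4
        rcases mul_eq_zero.1 h4 with h5 | h5
        · rw [hτcj, ← map_sub, map_eq_zero_iff τ τ.injective, sub_eq_zero] at h5
          exfalso
          have : (2 : F) * r = 1 := by linear_combination hr + h5
          have h2t : (2 : F) * t0 = 0 := by linear_combination ht0 + h3
          rcases mul_eq_zero.1 h2t with h6 | h6
          · rw [h6, zero_mul] at this; exact zero_ne_one this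
          · exact ht00 h6
        · exact h5
      · exact h3
    · obtain ⟨-, hd⟩ := hmult x hx y hy hne
      have h1 := (hd t0 ht0).symm.trans (hκθ t0 ht0)
      rw [← mul_right_cancel₀ ((map_ne_zero τ).2 ht00) h1, div_mul_cancel₀ _ ((map_ne_zero τ).2 hne)]
  · have hd : d + cj d = 0 := by
      have h1 := H.cc
      rwa [h_zero_left, add_zero, cj_pow hF] at h1
    have H' : EOK (q := q) e 0 (κ * τ d) := hκθ d hd ▸ hθ' d H
    exact ⟨H', (hθβ d H).trans (congrArg π (eSU_congr hF _ _ rfl (hκθ d hd)))⟩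

end

end Cfsg.Agent.Classical.PSUAut
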