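import Cfsg.Agent.Lib.Classical.SLClassNumber
import Cfsg.Agent.Lib.Classical.UnitaryDetCentralizer
import Cfsg.Agent.Lib.Classical.SimilarTranspose

/-!
Uniqueness of labels, labels of elements of `GU_n` are conjugate self-dual, and the determinants of their
centralisers in `GU_n`.
-/

set_option autoImplicit false

namespace Cfsg.Agent.Classical.UnitClasses

open Polynomial Module Cfsg.Agent.Classical Cfsg.Agent.Classical.SLClasses Cfsg.Agent.Classical.CommutatorSL

universe u

section General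

attribute [local instance] Classical.propDecidable

variable {F : Type u} [Field F] {V W : Type*} [AddCommGroup V] [Module F V] [AddCommGroup W] [Module F W]

theorem pow_intertwine {h : End F V} {h' : End F W} (L : V →ₗ[F] W) (hL : ∀ x, h' (L x) = L (h x)) :
    ∀ (j : ℕ) (x : V), (h' ^ j) (L x) = L ((h ^ j) x) := by
  intro j
  induction j with
  | zero => intro x; simp
  | succ j ih => intro x; rw [pow_succ, pow_succ, Module.End.mul_apply, Module.End.mul_apply, hL, ih]

theorem aeval_intertwine {h : End F V} {h' : End F W} (L : V →ₗ[F] W) (hL : ∀ x, h' (L x) = L (h x))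
    (P : F[X]) (x : V) : aeval h' P (L x) = L (aeval h P x) := by
  induction P using Polynomial.induction_on' with
  | add p q hp hq => simp [hp, hq]
  | monomial k c =>
    simp only [aeval_monomial, Module.End.mul_apply, Module.algebraMap_end_apply, pow_intertwine L hL, map_smul]

theorem model_apply {ι : Type*} {h : End F V} {Q : ι → F[X]} (φ : (∀ i, AdjoinRoot (Q i)) ≃ₗ[F] V)
    (hφ : ∀ x, h (φ x) = φ fun i => AdjoinRoot.root (Q i) * x i) (P : F[X]) :
    ∀ x, aeval h P (φ x) = φ fun i => AdjoinRoot.mk (Q i) P * x i := by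
  induction P using Polynomial.induction_on' with
  | add p q hp hq =>
    intro x
    rw [map_add, LinearMap.add_apply, hp, hq, ← map_add]
    congr 1
    funext i
    rw [map_add, add_mul]
    rfl
  | monomial k c =>
    intro x
    rw [aeval_monomial, Module.End.mul_apply, Module.algebraMap_end_apply]
    have hk : ∀ (k : ℕ) (x : ∀ i, AdjoinRoot (Q i)),
        (h ^ k) (φ x) = φ fun i => AdjoinRoot.root (Q i) ^ k * x i := fun k => by
      induction k with
      | zero => intro x; simp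
      | succ k ih => intro x; simp only [pow_succ, Module.End.mul_apply, hφ, ih, mul_assoc]
    rw [hk, ← map_smul]
    congr 1
    funext i
    rw [Pi.smul_apply, Algebra.smul_def, ← C_mul_X_pow_eq_monomial, map_mul, map_pow, AdjoinRoot.mk_X,
      AdjoinRoot.mk_C, AdjoinRoot.algebraMap_eq, mul_assoc]

theorem labels_transport {h : End F V} {h' : End F W} (e : V ≃ₗ[F] W) (he : ∀ x, e (h x) = h' (e x))
    {S : Multiset (F[X] × ℕ)} (hS : Labels h S) : Labels h' S := by
  obtain ⟨r, c, hc, hp, φ, hφ⟩ := hS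
  exact ⟨r, c, hc, hp, φ.trans e, fun x => by simp [← he, hφ]⟩

/-- Kernels of multiplications on a primary cyclic module. -/
theorem finrank_ker_mul {f g : F[X]} (hf : f.Monic) (hfi : Irreducible f) (hg : g.Monic) (hgi : Irreducible g)
    (j k : ℕ) :
    finrank F (LinearMap.ker (LinearMap.mulLeft F (AdjoinRoot.mk (g ^ k) (f ^ j)))) =
      if g = f then min j k * f.natDegree else 0 := by
  split_ifs with hgf
  · subst hgf
    set m := min j k with hm
    haveI : Module.Finite F (AdjoinRoot (g ^ m)) := (AdjoinRoot.powerBasis (hg.pow m).ne_zero).finite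
    let ψ : AdjoinRoot (g ^ m) →ₗ[F] AdjoinRoot (g ^ k) :=
      ((AdjoinRoot.mkₐ (g ^ k)).toLinearMap.comp (LinearMap.mulLeft F (g ^ (k - m)))).comp
        (AdjoinRoot.modByMonicHom (hg.pow m))
    have hψ : ∀ P, ψ (AdjoinRoot.mk (g ^ m) P) = AdjoinRoot.mk (g ^ k) (g ^ (k - m) * P) := fun P => by
      show AdjoinRoot.mk (g ^ k) (g ^ (k - m) * AdjoinRoot.modByMonicHom (hg.pow m) (AdjoinRoot.mk (g ^ m) P)) = _
      rw [AdjoinRoot.modByMonicHom_mk, AdjoinRoot.mk_eq_mk]
      refine ⟨-(P /ₘ g ^ m), ?_⟩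
      have hkm : (g ^ k : F[X]) = g ^ (k - m) * g ^ m := by
        rw [← pow_add, Nat.sub_add_cancel (min_le_right _ _)]
      rw [hkm]
      have h1 := modByMonic_add_div P (g ^ m)
      linear_combination g ^ (k - m) * h1
    have hrange : LinearMap.range ψ = LinearMap.ker (LinearMap.mulLeft F (AdjoinRoot.mk (g ^ k) (g ^ j))) := by
      refine le_antisymm ?_ fun x hx => ?_
      · rintro _ ⟨y, rfl⟩
        obtain ⟨P, rfl⟩ := AdjoinRoot.mk_surjective y
        rw [LinearMap.mem_ker, LinearMap.mulLeft_apply, hψ, ← map_mul, AdjoinRoot.mk_eq_zero, ← mul_assoc, ← pow_add]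
        exact (pow_dvd_pow g (by omega)).mul_right P
      · obtain ⟨P, rfl⟩ := AdjoinRoot.mk_surjective x
        rw [LinearMap.mem_ker, LinearMap.mulLeft_apply, ← map_mul, AdjoinRoot.mk_eq_zero] at hx
        have h1 : g ^ (k - m) ∣ P := by
          rcases le_total k j with h | h
          · rw [show k - m = 0 by omega, pow_zero]; exact one_dvd P
          · rw [show k - m = k - j by omega]
            refine (mul_dvd_mul_iff_left (pow_ne_zero j hg.ne_zero)).1 ?_
            rw [← pow_add, show j + (k - j) = k by omega]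
            exact hx
        obtain ⟨R, rfl⟩ := h1
        exact ⟨AdjoinRoot.mk _ R, hψ R⟩
    have hinj : Function.Injective ψ := by
      rw [← LinearMap.ker_eq_bot, eq_bot_iff]
      intro x hx
      obtain ⟨P, rfl⟩ := AdjoinRoot.mk_surjective x
      rw [LinearMap.mem_ker, hψ, AdjoinRoot.mk_eq_zero] at hx
      rw [Submodule.mem_bot, AdjoinRoot.mk_eq_zero]
      refine (mul_dvd_mul_iff_left (pow_ne_zero (k - m) hg.ne_zero)).1 ?_
      rwa [← pow_add, Nat.sub_add_cancel (min_le_right _ _)]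
    rw [← hrange, LinearMap.finrank_range_of_inj hinj, (AdjoinRoot.powerBasis (hg.pow m).ne_zero).finrank,
      AdjoinRoot.powerBasis_dim, natDegree_pow]
  · have hcp : IsCoprime (f ^ j) (g ^ k) := (hfi.coprime_iff_not_dvd.2 fun hd =>
      hgf (eq_of_monic_of_associated hg hf (hfi.associated_of_dvd hgi hd).symm)).pow
    obtain ⟨s, t, hst⟩ := hcp
    have hunit : AdjoinRoot.mk (g ^ k) s * AdjoinRoot.mk (g ^ k) (f ^ j) = 1 := by
      rw [← map_mul, ← map_one (AdjoinRoot.mk (g ^ k)), AdjoinRoot.mk_eq_mk]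
      exact ⟨-t, by linear_combination hst⟩
    rw [show LinearMap.ker (LinearMap.mulLeft F (AdjoinRoot.mk (g ^ k) (f ^ j))) = ⊥ from ?_, finrank_bot]
    rw [eq_bot_iff]
    intro x hx
    rw [LinearMap.mem_ker, LinearMap.mulLeft_apply] at hx
    rw [Submodule.mem_bot, ← one_mul x, ← hunit, mul_assoc, hx, mul_zero]

theorem finrank_ker_of_labels [FiniteDimensional F V] {h : End F V} {S : Multiset (F[X] × ℕ)} (hS : Labels h S)
    {f : F[X]} (hf : f.Monic) (hfi : Irreducible f) (j : ℕ) :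
    finrank F (LinearMap.ker (aeval h (f ^ j))) =
      (S.map fun x => if x.1 = f then min j x.2 * f.natDegree else 0).sum := by
  classical
  obtain ⟨r, c, rfl, hc, φ, hφ⟩ := hS
  haveI : ∀ i, FiniteDimensional F (AdjoinRoot ((c i).1 ^ (c i).2)) := fun i =>
    (AdjoinRoot.powerBasis ((hc i).1.pow _).ne_zero).finite
  let K : ∀ i, Submodule F (AdjoinRoot ((c i).1 ^ (c i).2)) := fun i =>
    LinearMap.ker (LinearMap.mulLeft F (AdjoinRoot.mk ((c i).1 ^ (c i).2) (f ^ j)))
  have hmem : ∀ x, φ x ∈ LinearMap.ker (aeval h (f ^ j)) ↔ ∀ i, x i ∈ K i := fun x => by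
    rw [LinearMap.mem_ker, model_apply φ hφ, LinearEquiv.map_eq_zero_iff, funext_iff]
    exact forall_congr' fun i => Iff.rfl
  let E : LinearMap.ker (aeval h (f ^ j)) ≃ₗ[F] ∀ i, K i :=
    { toFun := fun x i => ⟨φ.symm (x : V) i, (hmem _).1 (by rw [LinearEquiv.apply_symm_apply]; exact x.2) i⟩
      map_add' := fun x y => funext fun i => Subtype.ext (by simp)
      map_smul' := fun a x => funext fun i => Subtype.ext (by simp)
      invFun := fun y => ⟨φ fun i => (y i : AdjoinRoot ((c i).1 ^ (c i).2)), (hmem _).2 fun i => (y i).2⟩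
      left_inv := fun x => Subtype.ext (by simp)
      right_inv := fun y => funext fun i => Subtype.ext (by simp) }
  rw [E.finrank_eq, Module.finrank_pi_fintype, Multiset.map_map]
  exact Finset.sum_congr rfl fun i _ => finrank_ker_mul hf hfi (hc i).1 (hc i).2.1 j (c i).2

/-- Labels are unique. -/
theorem labels_unique [FiniteDimensional F V] {h : End F V} {S S' : Multiset (F[X] × ℕ)} (hS : Labels h S)
    (hS' : Labels h S') : S = S' := by
  classical
  have hmon : ∀ {S : Multiset (F[X] × ℕ)}, Labels h S → ∀ x ∈ S, x.1.Monic ∧ Irreducible x.1 ∧ 1 ≤ x.2 := by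
    rintro S ⟨r, c, rfl, hc, -⟩ x hx
    obtain ⟨i, -, rfl⟩ := Multiset.mem_map.1 hx
    exact hc i
  refine Multiset.ext.2 fun x => ?_
  by_cases hx : x.1.Monic ∧ Irreducible x.1 ∧ 1 ≤ x.2
  · obtain ⟨hxm, hxi, hx2⟩ := hx
    obtain ⟨f, k⟩ := x
    dsimp only at hxm hxi hx2
    have hcount : ∀ S : Multiset (F[X] × ℕ),
        2 * (S.map fun y => if y.1 = f then min k y.2 * f.natDegree else 0).sum =
          (S.map fun y => if y.1 = f then min (k - 1) y.2 * f.natDegree else 0).sum +
          (S.map fun y => if y.1 = f then min (k + 1) y.2 * f.natDegree else 0).sum + S.count (f, k) * f.natDegree := by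
      intro S
      induction S using Multiset.induction with
      | empty => simp
      | cons a s ih =>
        simp only [Multiset.map_cons, Multiset.sum_cons, Multiset.count_cons, add_mul, ite_mul, one_mul, zero_mul]
        have key : 2 * (if a.1 = f then min k a.2 * f.natDegree else 0) =
            (if a.1 = f then min (k - 1) a.2 * f.natDegree else 0) +
            (if a.1 = f then min (k + 1) a.2 * f.natDegree else 0) + if (f, k) = a then f.natDegree else 0 := by
          by_cases h1 : a.1 = f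
          · simp only [if_pos h1]
            by_cases h2 : a.2 = k
            · rw [if_pos (Prod.ext h1.symm h2.symm), h2, min_self, min_eq_left (by omega : k - 1 ≤ k),
                min_eq_right (by omega : k ≤ k + 1), ← mul_assoc, ← add_mul, ← Nat.succ_mul]
              congr 1
              omega
            · rw [if_neg fun h => h2 (congrArg Prod.snd h).symm, add_zero, ← mul_assoc, ← add_mul]
              congr 1
              omega
          · simp only [if_neg h1]
            rw [if_neg fun h => h1 (congrArg Prod.fst h).symm]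
        omega
    have h1 := hcount S
    rw [← finrank_ker_of_labels hS hxm hxi, ← finrank_ker_of_labels hS hxm hxi,
      ← finrank_ker_of_labels hS hxm hxi] at h1
    have h2 := hcount S'
    rw [← finrank_ker_of_labels hS' hxm hxi, ← finrank_ker_of_labels hS' hxm hxi,
      ← finrank_ker_of_labels hS' hxm hxi] at h2
    exact Nat.eq_of_mul_eq_mul_right hxi.natDegree_pos (by omega)
  · rw [Multiset.count_eq_zero_of_notMem fun hm => hx (hmon hS x hm),
      Multiset.count_eq_zero_of_notMem fun hm => hx (hmon hS' x hm)]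

end General

section Matrices

variable {F : Type u} [Field F] {n : ℕ}

theorem endOf_apply (A : Matrix (Fin n) (Fin n) F) (v : Fin n → F) : endOf A v = A.mulVec v :=
  Matrix.toLinAlgEquiv'_apply A v

theorem labels_semiconj {A B : Matrix (Fin n) (Fin n) F} (P : GL (Fin n) F)
    (hP : (P : Matrix (Fin n) (Fin n) F) * A = B * P) {S : Multiset (F[X] × ℕ)} (hS : Labels (endOf A) S) :
    Labels (endOf B) S := by
  refine labels_transport (LinearMap.GeneralLinearGroup.generalLinearEquiv F _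
    (Matrix.GeneralLinearGroup.toLin P)) (fun x => ?_) hS
  show (P : Matrix (Fin n) (Fin n) F).mulVec (endOf A x) = endOf B ((P : Matrix (Fin n) (Fin n) F).mulVec x)
  rw [endOf_apply, endOf_apply, Matrix.mulVec_mulVec, Matrix.mulVec_mulVec, hP]

theorem exists_semiconj {A B : Matrix (Fin n) (Fin n) F} {S : Multiset (F[X] × ℕ)} (hA : Labels (endOf A) S)
    (hB : Labels (endOf B) S) : ∃ P : GL (Fin n) F, (P : Matrix (Fin n) (Fin n) F) * A = B * P := by
  obtain ⟨e, he⟩ := conj_of_labels hA hB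
  refine ⟨Matrix.GeneralLinearGroup.toLin.symm (LinearMap.GeneralLinearGroup.ofLinearEquiv e), ?_⟩
  set P := Matrix.GeneralLinearGroup.toLin.symm (LinearMap.GeneralLinearGroup.ofLinearEquiv e) with hP
  have hPv : ∀ v, Matrix.mulVec (P : Matrix (Fin n) (Fin n) F) v = e v := fun v => by
    have h1 : Matrix.GeneralLinearGroup.toLin P = LinearMap.GeneralLinearGroup.ofLinearEquiv e := by
      rw [hP, MulEquiv.apply_symm_apply]
    exact LinearMap.congr_fun (congrArg Units.val h1) v
  refine Matrix.ext_of_mulVec_single fun j => ?_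
  rw [← Matrix.mulVec_mulVec, ← Matrix.mulVec_mulVec, hPv, hPv, ← endOf_apply, ← endOf_apply]
  exact he _

/-- A matrix with a prescribed label. -/
theorem exists_matrix {S : Multiset (F[X] × ℕ)}
    (hS : ∀ x ∈ S, x.1.Monic ∧ Irreducible x.1 ∧ x.1.coeff 0 ≠ 0 ∧ 1 ≤ x.2)
    (hn : (S.map fun x => x.2 * x.1.natDegree).sum = n) :
    ∃ A : GL (Fin n) F, Labels (endOf (A : Matrix (Fin n) (Fin n) F)) S := by
  classical
  obtain ⟨L, rfl⟩ := Quot.exists_rep S
  let c : Fin L.length → F[X] × ℕ := fun i => L.get i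
  have hc : ∀ i, (c i).1.Monic ∧ Irreducible (c i).1 ∧ (c i).1.coeff 0 ≠ 0 ∧ 1 ≤ (c i).2 := fun i =>
    hS _ (L.get_mem i)
  have hmap : Finset.univ.val.map c = (↑L : Multiset (F[X] × ℕ)) := by
    show (↑(List.finRange L.length) : Multiset (Fin L.length)).map c = _
    rw [Multiset.map_coe, List.map_get_finRange]
  haveI : ∀ i, FiniteDimensional F (AdjoinRoot ((c i).1 ^ (c i).2)) := fun i =>
    (AdjoinRoot.powerBasis ((hc i).1.pow _).ne_zero).finite
  have hdim : finrank F (∀ i, AdjoinRoot ((c i).1 ^ (c i).2)) = finrank F (Fin n → F) := by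
    rw [Module.finrank_fin_fun, Module.finrank_pi_fintype, ← hn]
    show _ = ((↑L : Multiset (F[X] × ℕ)).map fun x => x.2 * x.1.natDegree).sum
    rw [← hmap, Multiset.map_map]
    exact Finset.sum_congr rfl fun i _ => by
      rw [(AdjoinRoot.powerBasis ((hc i).1.pow _).ne_zero).finrank, AdjoinRoot.powerBasis_dim, natDegree_pow]
      rfl
  let φ := LinearEquiv.ofFinrankEq _ _ hdim
  let g : End F (∀ i, AdjoinRoot ((c i).1 ^ (c i).2)) :=
    LinearMap.pi fun i => (LinearMap.mulLeft F (AdjoinRoot.root ((c i).1 ^ (c i).2))).comp (LinearMap.proj i)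
  let A : Matrix (Fin n) (Fin n) F := Matrix.toLinAlgEquiv'.symm (φ.conj g)
  have hA : Labels (endOf A) (Quot.mk _ L) := by
    refine ⟨L.length, c, hmap, fun i => ⟨(hc i).1, (hc i).2.1, (hc i).2.2.2⟩, φ, fun x => ?_⟩
    rw [endOf, AlgEquiv.apply_symm_apply, LinearEquiv.conj_apply]
    simp only [LinearMap.comp_apply, LinearEquiv.coe_coe, LinearEquiv.symm_apply_apply]
    rfl
  refine ⟨Matrix.GeneralLinearGroup.mkOfDetNeZero A ?_, hA⟩
  rw [show A.det = LinearMap.det (endOf A) from (LinearMap.det_toLin' A).symm, det_of_labels hA]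
  refine Multiset.prod_ne_zero fun h0 => ?_
  obtain ⟨x, hx, hx0⟩ := Multiset.mem_map.1 h0
  exact (hS x hx).2.2.1 ((mul_eq_zero.1 (pow_eq_zero_iff'.1 hx0).1).resolve_left
    (pow_ne_zero _ (neg_ne_zero.2 one_ne_zero)))

theorem labels_blk {a b : ℕ} {A : Matrix (Fin a) (Fin a) F} {B : Matrix (Fin b) (Fin b) F}
    {S T : Multiset (F[X] × ℕ)} (hA : Labels (endOf A) S) (hB : Labels (endOf B) T) :
    Labels (endOf (UnitaryDetCentralizer.blk A B)) (S + T) := by
  classical
  set M := UnitaryDetCentralizer.blk A B with hM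
  let e : ((Fin a → F) × (Fin b → F)) ≃ₗ[F] (Fin (a + b) → F) :=
    (LinearEquiv.sumArrowLequivProdArrow (Fin a) (Fin b) F F).symm.trans
      (LinearEquiv.funCongrLeft F F finSumFinEquiv.symm)
  have hfun : ∀ x y, e (x, y) = Sum.elim x y ∘ finSumFinEquiv.symm := fun x y => rfl
  have he : ∀ x y, endOf M (e (x, y)) = e (endOf A x, endOf B y) := fun x y => by
    simp only [endOf_apply, hfun, hM, UnitaryDetCentralizer.blk, Matrix.reindex_apply, Matrix.submatrix_mulVec_equiv,
      Function.comp_assoc, Equiv.symm_comp_self, Function.comp_id, Matrix.fromBlocks_mulVec, Sum.elim_comp_inl,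
      Sum.elim_comp_inr, Matrix.zero_mulVec, add_zero, zero_add, Equiv.symm_symm]
  let L₁ := e.toLinearMap.comp (LinearMap.inl F (Fin a → F) (Fin b → F))
  let L₂ := e.toLinearMap.comp (LinearMap.inr F (Fin a → F) (Fin b → F))
  have h1 : ∀ x, endOf M (L₁ x) = L₁ (endOf A x) := fun x => by
    show endOf M (e (x, 0)) = e (endOf A x, 0)
    rw [he, map_zero]
  have h2 : ∀ x, endOf M (L₂ x) = L₂ (endOf B x) := fun x => by
    show endOf M (e (0, x)) = e (0, endOf B x)
    rw [he, map_zero]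
  obtain ⟨r, c, rfl, hc, hMA⟩ := hA
  obtain ⟨r', c', rfl, hc', hMB⟩ := hB
  obtain ⟨v, hv, hvs⟩ := exists_vectors hMA
  obtain ⟨w, hw, hws⟩ := exists_vectors hMB
  refine ⟨r + r', Fin.append c c', ?_, fun i => ?_, ?_⟩
  · simp only [Fin.univ_def, Multiset.map_coe, ← List.ofFn_eq_map, Multiset.coe_add, ← List.ofFn_fin_append]
  · refine Fin.addCases (fun i => ?_) (fun i => ?_) i
    · rw [Fin.append_left]; exact hc i
    · rw [Fin.append_right]; exact hc' i
  refine model_of_vectors _ _ (fun i => ?_) (Fin.append (fun i => L₁ (v i)) (fun i => L₂ (w i))) (fun i => ?_) ?_ ?_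
  · refine Fin.addCases (fun i => ?_) (fun i => ?_) i
    · rw [Fin.append_left]; exact (hc i).1.pow _
    · rw [Fin.append_right]; exact (hc' i).1.pow _
  · refine Fin.addCases (fun i => ?_) (fun i => ?_) i
    · rw [Fin.append_left, Fin.append_left, aeval_intertwine L₁ h1, hv, map_zero]
    · rw [Fin.append_right, Fin.append_right, aeval_intertwine L₂ h2, hw, map_zero]
  · intro z _
    obtain ⟨⟨x, y⟩, rfl⟩ := e.surjective z
    rw [show ((x, y) : (Fin a → F) × (Fin b → F)) = (x, 0) + (0, y) by simp, map_add]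
    refine Submodule.add_mem _ ?_ ?_
    · have hle : Submodule.map L₁ ⊤ ≤ Submodule.span F (Set.range fun z : Fin (r + r') × ℕ =>
          (endOf M ^ z.2) (Fin.append (fun i => L₁ (v i)) (fun i => L₂ (w i)) z.1)) := by
        refine (Submodule.map_mono hvs).trans ?_
        rw [Submodule.map_span, Submodule.span_le]
        rintro _ ⟨_, ⟨⟨i, j⟩, rfl⟩, rfl⟩
        refine Submodule.subset_span ⟨(Fin.castAdd r' i, j), ?_⟩
        show (endOf M ^ j) (Fin.append (fun i => L₁ (v i)) (fun i => L₂ (w i)) (Fin.castAdd r' i)) = _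
        rw [Fin.append_left, pow_intertwine L₁ h1]
      exact hle (Submodule.mem_map_of_mem (f := L₁) Submodule.mem_top)
    · have hle : Submodule.map L₂ ⊤ ≤ Submodule.span F (Set.range fun z : Fin (r + r') × ℕ =>
          (endOf M ^ z.2) (Fin.append (fun i => L₁ (v i)) (fun i => L₂ (w i)) z.1)) := by
        refine (Submodule.map_mono hws).trans ?_
        rw [Submodule.map_span, Submodule.span_le]
        rintro _ ⟨_, ⟨⟨i, j⟩, rfl⟩, rfl⟩
        refine Submodule.subset_span ⟨(Fin.natAdd r i, j), ?_⟩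
        show (endOf M ^ j) (Fin.append (fun i => L₁ (v i)) (fun i => L₂ (w i)) (Fin.natAdd r i)) = _
        rw [Fin.append_right, pow_intertwine L₂ h2]
      exact hle (Submodule.mem_map_of_mem (f := L₂) Submodule.mem_top)
  · rw [Fin.sum_univ_add, Module.finrank_fin_fun]
    simp only [Fin.append_left, Fin.append_right]
    rw [finrank_of_model (fun i => (hc i).1.pow _) hMA, finrank_of_model (fun i => (hc' i).1.pow _) hMB,
      Module.finrank_fin_fun, Module.finrank_fin_fun]

end Matrices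

section Unitary

open UnitaryConjugacy UnitaryDetCentralizer

variable {K : Type u} [Field K]

theorem cdual_one (σ : K →+* K) : cdual σ (1 : K[X]) = 1 := by
  rw [cdual, coeff_one_zero, map_one, inv_one, map_one, Polynomial.map_one, one_mul, ← C_1, reverse_C]

theorem cdual_pow (σ : K →+* K) (P : K[X]) (k : ℕ) : cdual σ (P ^ k) = cdual σ P ^ k := by
  induction k with
  | zero => rw [pow_zero, pow_zero, cdual_one]
  | succ k ih => rw [pow_succ, pow_succ, cdual_mul, ih]

/-- The dual of a label. -/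
noncomputable def cd (σ : K →+* K) (x : K[X] × ℕ) : K[X] × ℕ := (cdual σ x.1, x.2)

variable [Fintype K] {n q : ℕ}

theorem cd_cd (hK : Fintype.card K = q ^ 2) {x : K[X] × ℕ} (hm : x.1.Monic) (h0 : x.1.coeff 0 ≠ 0) :
    cd (qFrob hK) (cd (qFrob hK) x) = x :=
  Prod.ext (cdual_cdual _ (qFrob_qFrob hK) hm h0) rfl

theorem labels_st_inv (hK : Fintype.card K = q ^ 2) (A B : GL (Fin n) K)
    (hB : (B : Matrix (Fin n) (Fin n) K) = (st hK (A : Matrix (Fin n) (Fin n) K))⁻¹)
    {S : Multiset (K[X] × ℕ)} (hS : Labels (endOf (A : Matrix (Fin n) (Fin n) K)) S) :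
    Labels (endOf (B : Matrix (Fin n) (Fin n) K)) (S.map (cd (qFrob hK))) := by
  classical
  set σ := qFrob hK with hσd
  set A₁ : GL (Fin n) K := Matrix.GeneralLinearGroup.map σ A with hA₁
  set C : Matrix (Fin n) (Fin n) K := ((A₁⁻¹ : GL (Fin n) K) : Matrix (Fin n) (Fin n) K) with hC
  have hA₁v : (A₁ : Matrix (Fin n) (Fin n) K) = (A : Matrix (Fin n) (Fin n) K).map σ := rfl
  have hmem := labels_mem (by rw [det_endOf]; exact ((Matrix.isUnit_iff_isUnit_det _).1 A.isUnit).ne_zero) hS
  obtain ⟨r, c, rfl, hc, hM⟩ := hS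
  obtain ⟨v, hv, hspan⟩ := exists_vectors hM
  have hc0 : ∀ i, (c i).1.coeff 0 ≠ 0 := fun i => (hmem _ (Multiset.mem_map_of_mem c (Finset.mem_univ_val i))).2.2.1
  -- powers
  have hpow : ∀ (j : ℕ) (x : Fin n → K),
      ((A₁ : Matrix (Fin n) (Fin n) K) ^ j).mulVec (σ ∘ x) = σ ∘ ((endOf (A : Matrix (Fin n) (Fin n) K) ^ j) x) := by
    intro j x
    rw [hA₁v, ← Matrix.map_pow, endOf, ← map_pow, Matrix.toLinAlgEquiv'_apply]
    funext i
    simp only [Function.comp_apply, Matrix.mulVec, dotProduct, map_sum, map_mul, Matrix.map_apply]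
  have haev : ∀ (P : K[X]) (x : Fin n → K),
      (aeval (A₁ : Matrix (Fin n) (Fin n) K) (P.map σ)).mulVec (σ ∘ x) = σ ∘ (aeval (endOf (A : Matrix (Fin n) (Fin n) K)) P x) := by
    intro P x
    induction P using Polynomial.induction_on' with
    | add p p' hp hp' =>
      rw [Polynomial.map_add, map_add, Matrix.add_mulVec, hp, hp', map_add, LinearMap.add_apply]
      funext i
      simp
    | monomial k a =>
      rw [Polynomial.map_monomial, aeval_monomial, aeval_monomial, ← Algebra.smul_def, Matrix.smul_mulVec,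
        hpow, Module.End.mul_apply, Module.algebraMap_end_apply]
      funext i
      simp
  have hrev : ∀ P : K[X], aeval C P.reverse * (A₁ : Matrix (Fin n) (Fin n) K) ^ P.natDegree = aeval (A₁ : Matrix (Fin n) (Fin n) K) P := by
    intro P
    rw [aeval_eq_sum_range' (Nat.lt_succ_of_le (reverse_natDegree_le P)), aeval_eq_sum_range' (Nat.lt_succ_self _),
      ← Finset.sum_range_reflect, Finset.sum_mul]
    refine Finset.sum_congr rfl fun i hi => ?_
    have hi' : i ≤ P.natDegree := by have := Finset.mem_range.1 hi; omega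
    rw [show P.natDegree.succ - 1 - i = P.natDegree - i by omega, smul_mul_assoc, coeff_reverse,
      revAt_le (by omega : P.natDegree - i ≤ P.natDegree), show P.natDegree - (P.natDegree - i) = i by omega, hC,
      ← Units.val_pow_eq_pow_val, ← Units.val_pow_eq_pow_val, ← Units.val_mul, ← Units.val_pow_eq_pow_val, inv_pow,
      show A₁ ^ P.natDegree = A₁ ^ (P.natDegree - i) * A₁ ^ i by rw [← pow_add]; congr 1; omega,
      inv_mul_cancel_left]
  have hlab : Labels (endOf C) ((Finset.univ.val.map c).map (cd σ)) := by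
    refine ⟨r, fun i => cd σ (c i), by rw [Multiset.map_map]; rfl, fun i =>
      ⟨cdual_monic σ (hc0 i), irreducible_cdual σ (qFrob_qFrob hK) (hc i).1 (hc0 i) (hc i).2.1, (hc i).2.2⟩,
      model_of_vectors _ _ (fun i => (cdual_monic σ (hc0 i)).pow _) (fun i => σ ∘ v i) (fun i => ?_) ?_ ?_⟩
    · set P := (c i).1 ^ (c i).2 with hP
      show aeval (endOf C) ((cdual σ (c i).1) ^ (c i).2) (σ ∘ v i) = 0
      rw [← cdual_pow, cdual, map_mul, Module.End.mul_apply, endOf]
      simp only [aeval_algHom_apply, Matrix.toLinAlgEquiv'_apply]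
      have h1 : (aeval C (P.map σ).reverse).mulVec (σ ∘ v i) = 0 := by
        have h2 := congrArg (fun M : Matrix (Fin n) (Fin n) K => M * ((A₁⁻¹ : GL (Fin n) K) : Matrix (Fin n) (Fin n) K) ^ (P.map σ).natDegree)
          (hrev (P.map σ))
        simp only [mul_assoc, ← Units.val_pow_eq_pow_val, ← Units.val_mul] at h2
        rw [inv_pow, mul_inv_cancel, Units.val_one, mul_one] at h2
        rw [h2]
        have hcomm : Commute (aeval (A₁ : Matrix (Fin n) (Fin n) K) (P.map σ))
            ((((A₁ ^ (P.map σ).natDegree)⁻¹ : GL (Fin n) K)) : Matrix (Fin n) (Fin n) K) := by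
          refine Commute.units_inv_right ?_
          rw [Units.val_pow_eq_pow_val]
          exact (commute_aeval_self _ _).pow_right _
        rw [hcomm.eq, ← Matrix.mulVec_mulVec, haev, hv i]
        have h0 : σ ∘ (0 : Fin n → K) = 0 := by funext i; simp
        rw [h0, Matrix.mulVec_zero]
      rw [h1, Matrix.mulVec_zero]
    · intro z hz
      clear hz
      obtain ⟨z₀, rfl⟩ : ∃ z₀, σ ∘ z₀ = z := ⟨σ ∘ z, by funext i; simp [σ, qFrob_qFrob hK]⟩
      have hz₀ : z₀ ∈ Submodule.span K (Set.range fun x : Fin r × ℕ => (endOf (A : Matrix (Fin n) (Fin n) K) ^ x.2) (v x.1)) :=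
        hspan Submodule.mem_top
      induction hz₀ using Submodule.span_induction with
      | mem x hx =>
        obtain ⟨⟨i, j⟩, rfl⟩ := hx
        refine Submodule.subset_span ⟨(i, (orderOf A₁ - 1) * j), ?_⟩
        show (endOf C ^ ((orderOf A₁ - 1) * j)) (σ ∘ v i) = _
        rw [endOf, ← map_pow, Matrix.toLinAlgEquiv'_apply, ← hpow]
        congr 1
        rw [hC, ← Units.val_pow_eq_pow_val, ← Units.val_pow_eq_pow_val, pow_mul, inv_pow]
        congr 1
        rw [inv_eq_of_mul_eq_one_right (b := A₁)]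
        rw [← pow_succ, Nat.sub_add_cancel (orderOf_pos A₁), pow_orderOf_eq_one]
      | zero =>
        have h0 : σ ∘ (0 : Fin n → K) = 0 := by funext i; simp
        rw [h0]
        exact Submodule.zero_mem _
      | add x y _ _ hx hy =>
        have h0 : σ ∘ (x + y) = σ ∘ x + σ ∘ y := by funext i; simp
        rw [h0]
        exact Submodule.add_mem _ hx hy
      | smul a x _ hx =>
        have h0 : σ ∘ (a • x) = σ a • (σ ∘ x) := by funext i; simp
        rw [h0]
        exact Submodule.smul_mem _ _ hx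
    · rw [← finrank_of_model (fun i => (hc i).1.pow _) hM]
      exact Finset.sum_congr rfl fun i _ => by
        show ((cdual σ (c i).1) ^ (c i).2).natDegree = _
        rw [natDegree_pow, natDegree_pow, natDegree_cdual σ (hc0 i)]
  -- transpose
  have hBC : (B : Matrix (Fin n) (Fin n) K) = C.transpose := by
    rw [hB, hC, Matrix.coe_units_inv, Matrix.transpose_nonsing_inv, st, hA₁v]
  obtain ⟨P, hP⟩ := SimilarTranspose.isConj_transpose C
  rw [hBC]
  exact labels_semiconj P hP hlab

theorem labels_self (hK : Fintype.card K = q ^ 2) (g : GU n K q) {S : Multiset (K[X] × ℕ)}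
    (hS : Labels (endOf ((g : GL (Fin n) K) : Matrix (Fin n) (Fin n) K)) S) : S.map (cd (qFrob hK)) = S := by
  have h := (mem_GU_iff hK _).1 g.2
  exact labels_unique (labels_st_inv hK _ _ (Matrix.inv_eq_right_inv h).symm hS) hS

/-- An invariant matrix label is realised in the unitary group. -/
theorem exists_unitary (hK : Fintype.card K = q ^ 2) (A : GL (Fin n) K) {S : Multiset (K[X] × ℕ)}
    (hS : Labels (endOf (A : Matrix (Fin n) (Fin n) K)) S) (hself : S.map (cd (qFrob hK)) = S) :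
    ∃ (u : GU n K q) (P : GL (Fin n) K), ((u : GL (Fin n) K) : Matrix (Fin n) (Fin n) K) * P = P * A := by
  obtain ⟨B, hB⟩ : ∃ B : GL (Fin n) K, (B : Matrix (Fin n) (Fin n) K) = (st hK (A : Matrix (Fin n) (Fin n) K))⁻¹ :=
    Matrix.isUnit_nonsing_inv_iff.2 (st_unit hK A.isUnit)
  have hSB := labels_st_inv hK A B hB hS
  rw [hself] at hSB
  obtain ⟨H, hH⟩ := exists_semiconj hS hSB
  obtain ⟨u, hu⟩ := exists_similar_mem hK A H (by
    rw [mul_assoc, hH, hB, ← mul_assoc,
      Matrix.mul_nonsing_inv _ ((Matrix.isUnit_iff_isUnit_det _).1 (st_unit hK A.isUnit)), one_mul])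
  obtain ⟨P, hP⟩ := isConj_iff.1 hu
  refine ⟨u, P, ?_⟩
  rw [← Units.val_mul, ← Units.val_mul, ← hP, inv_mul_cancel_right]

theorem exists_unitary_labels (hK : Fintype.card K = q ^ 2) {S : Multiset (K[X] × ℕ)}
    (hS : ∀ x ∈ S, x.1.Monic ∧ Irreducible x.1 ∧ x.1.coeff 0 ≠ 0 ∧ 1 ≤ x.2)
    (hn : (S.map fun x => x.2 * x.1.natDegree).sum = n) (hself : S.map (cd (qFrob hK)) = S) :
    ∃ u : GU n K q, Labels (endOf ((u : GL (Fin n) K) : Matrix (Fin n) (Fin n) K)) S := by
  obtain ⟨A, hA⟩ := exists_matrix hS hn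
  obtain ⟨u, P, hP⟩ := exists_unitary hK A hA hself
  exact ⟨u, labels_semiconj P hP.symm hA⟩

theorem commute_mulRoot {Q : K[X]} (z : End K (AdjoinRoot Q))
    (hz : Commute z (LinearMap.mulLeft K (AdjoinRoot.root Q))) :
    ∃ P : K[X], z = LinearMap.mulLeft K (AdjoinRoot.mk Q P) := by
  obtain ⟨P, hP⟩ := AdjoinRoot.mk_surjective (z 1)
  refine ⟨P, LinearMap.ext fun x => ?_⟩
  obtain ⟨R, rfl⟩ := AdjoinRoot.mk_surjective x
  rw [LinearMap.mulLeft_apply]
  induction R using Polynomial.induction_on' with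
  | add a b ha hb => rw [map_add, map_add, ha, hb, mul_add]
  | monomial k c =>
    rw [← C_mul_X_pow_eq_monomial, map_mul, map_pow, AdjoinRoot.mk_X, AdjoinRoot.mk_C, ← AdjoinRoot.algebraMap_eq,
      ← Algebra.smul_def, map_smul, mul_smul_comm]
    congr 1
    induction k with
    | zero => rw [pow_zero, mul_one, hP]
    | succ k ih =>
      have h := LinearMap.congr_fun hz.eq (AdjoinRoot.root Q ^ k)
      simp only [Module.End.mul_apply, LinearMap.mulLeft_apply] at h
      rw [pow_succ', h, ih, mul_left_comm]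

/-- The centraliser in `GU_n` of an element with a label of exponent `e` has all determinants `t ^ e`,
`t` of norm one. -/
theorem exists_commute_det (hK : Fintype.card K = q ^ 2) (g : GU n K q) {S : Multiset (K[X] × ℕ)}
    (hS : Labels (endOf ((g : GL (Fin n) K) : Matrix (Fin n) (Fin n) K)) S) {x : K[X] × ℕ} (hx : x ∈ S) {d : K}
    (hd : d * qFrob hK d = 1) :
    ∃ c : GU n K q, c * g = g * c ∧ ((c : GL (Fin n) K) : Matrix (Fin n) (Fin n) K).det = d ^ x.2 := by
  classical
  set σ := qFrob hK with hσd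
  obtain ⟨c₀, hc₀⟩ := exists_ne_qFrob hK
  obtain ⟨e, heu, hed⟩ := hilbert90 σ (qFrob_qFrob hK) (θ := c₀)
    (IsUnit.mk0 _ (sub_ne_zero.2 hc₀.symm)) hd
  have hmem := labels_mem (by
    rw [det_endOf]; exact ((Matrix.isUnit_iff_isUnit_det _).1 (g : GL (Fin n) K).isUnit).ne_zero) hS
  have hself := labels_self hK g hS
  obtain ⟨f, k⟩ := x
  obtain ⟨hf, hfi, hf0, hk⟩ := hmem _ hx
  dsimp only at hf hfi hf0 hk ⊢
  have hf' : (cdual σ f).Monic := cdual_monic σ hf0
  have hf'0 : (cdual σ f).coeff 0 ≠ 0 := by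
    rw [coeff_zero_cdual σ f hf]
    exact inv_ne_zero ((map_ne_zero σ).2 hf0)
  -- the block
  obtain ⟨T, R₀, hR₀, hcp, hTS, hTself, hTlab⟩ : ∃ (T : Multiset (K[X] × ℕ)) (R₀ : K[X]), R₀.Monic ∧
      IsCoprime (f ^ k) R₀ ∧ T ≤ S ∧ T.map (cd σ) = T ∧
      Labels (LinearMap.mulLeft K (AdjoinRoot.root (f ^ k * R₀))) T := by
    have hgen : ∀ (Q : K[X]) (P : K[X]) (w : AdjoinRoot Q),
        aeval (LinearMap.mulLeft K (AdjoinRoot.root Q)) P w = AdjoinRoot.mk Q P * w := fun Q P w => by
      have h2 : aeval (Algebra.lmul K (AdjoinRoot Q) (AdjoinRoot.root Q)) P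
          = Algebra.lmul K (AdjoinRoot Q) (AdjoinRoot.mk Q P) := by
        rw [aeval_algHom_apply, AdjoinRoot.aeval_eq]
      exact LinearMap.congr_fun h2 w
    have hspanQ : ∀ (Q : K[X]) (P : K[X]) (w : AdjoinRoot Q) (Sp : Submodule K (AdjoinRoot Q)),
        (∀ j, (LinearMap.mulLeft K (AdjoinRoot.root Q) ^ j) w ∈ Sp) → AdjoinRoot.mk Q P * w ∈ Sp := fun Q P w Sp h => by
      rw [← hgen, aeval_eq_sum_range, LinearMap.sum_apply]
      exact Submodule.sum_mem _ fun j _ => by rw [LinearMap.smul_apply]; exact Submodule.smul_mem _ _ (h j)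
    by_cases hff : cdual σ f = f
    · refine ⟨{(f, k)}, 1, monic_one, isCoprime_one_right, Multiset.singleton_le.2 hx, by simp [cd, hff], ?_⟩
      rw [mul_one]
      haveI : FiniteDimensional K (AdjoinRoot (f ^ k)) := (AdjoinRoot.powerBasis (hf.pow k).ne_zero).finite
      refine ⟨1, fun _ => (f, k), rfl, fun _ => ⟨hf, hfi, hk⟩,
        model_of_vectors _ _ (fun _ => hf.pow k) (fun _ => 1) (fun _ => ?_) ?_ ?_⟩
      · rw [hgen, mul_one, AdjoinRoot.mk_self]
      · intro z _
        obtain ⟨Z, rfl⟩ := AdjoinRoot.mk_surjective z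
        rw [← mul_one (AdjoinRoot.mk _ Z)]
        exact hspanQ _ _ _ _ fun j => Submodule.subset_span ⟨(0, j), rfl⟩
      · rw [(AdjoinRoot.powerBasis (hf.pow k).ne_zero).finrank, AdjoinRoot.powerBasis_dim]
        simp
    · have hcp : IsCoprime (f ^ k) (cdual σ f ^ k) := (hfi.coprime_iff_not_dvd.2 fun hdvd => hff
        (Polynomial.eq_of_monic_of_associated hf' hf
          ((hfi.associated_of_dvd (irreducible_cdual σ (qFrob_qFrob hK) hf hf0 hfi) hdvd)).symm)).pow
      have hne : (f, k) ≠ cd σ (f, k) := fun h => hff (congrArg Prod.fst h).symm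
      refine ⟨(f, k) ::ₘ {cd σ (f, k)}, cdual σ f ^ k, hf'.pow k, hcp, ?_, ?_, ?_⟩
      · refine (Multiset.le_iff_subset ?_).2 fun y hy => ?_
        · simp [hne]
        · rcases Multiset.mem_cons.1 hy with rfl | hy
          · exact hx
          · rw [Multiset.mem_singleton.1 hy, ← hself]
            exact Multiset.mem_map_of_mem _ hx
      · rw [Multiset.map_cons, Multiset.map_singleton, cd_cd hK hf hf0, Multiset.cons_eq_cons]
        exact Or.inr ⟨hne.symm, 0, rfl, rfl⟩
      · set Q := f ^ k * cdual σ f ^ k with hQ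
        have hQm : Q.Monic := (hf.pow k).mul (hf'.pow k)
        haveI : FiniteDimensional K (AdjoinRoot Q) := (AdjoinRoot.powerBasis hQm.ne_zero).finite
        refine ⟨2, ![(f, k), cd σ (f, k)], rfl, fun i => ?_,
          model_of_vectors _ _ (fun i => ?_) ![AdjoinRoot.mk Q (cdual σ f ^ k), AdjoinRoot.mk Q (f ^ k)] (fun i => ?_) ?_ ?_⟩
        · fin_cases i
          · exact ⟨hf, hfi, hk⟩
          · exact ⟨hf', irreducible_cdual σ (qFrob_qFrob hK) hf hf0 hfi, hk⟩
        · fin_cases i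
          · exact hf.pow k
          · exact hf'.pow k
        · fin_cases i
          · show aeval (LinearMap.mulLeft K (AdjoinRoot.root Q)) (f ^ k) (AdjoinRoot.mk Q (cdual σ f ^ k)) = 0
            rw [hgen, ← map_mul, AdjoinRoot.mk_self]
          · show aeval (LinearMap.mulLeft K (AdjoinRoot.root Q)) (cdual σ f ^ k) (AdjoinRoot.mk Q (f ^ k)) = 0
            rw [hgen, ← map_mul, mul_comm, AdjoinRoot.mk_self]
        · intro z _
          obtain ⟨Z, rfl⟩ := AdjoinRoot.mk_surjective z
          obtain ⟨s, t, hst⟩ := hcp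
          rw [show Z = Z * t * cdual σ f ^ k + Z * s * f ^ k by linear_combination -(Z : K[X]) * hst, map_add,
            map_mul _ (Z * t), map_mul _ (Z * s)]
          exact Submodule.add_mem _ (hspanQ _ _ _ _ fun j => Submodule.subset_span ⟨(0, j), rfl⟩)
            (hspanQ _ _ _ _ fun j => Submodule.subset_span ⟨(1, j), rfl⟩)
        · rw [(AdjoinRoot.powerBasis hQm.ne_zero).finrank, AdjoinRoot.powerBasis_dim, hQ,
            (hf.pow k).natDegree_mul (hf'.pow k)]
          simp [cd, Fin.sum_univ_two]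
  set Q := f ^ k * R₀ with hQ
  have hQm : Q.Monic := (hf.pow k).mul hR₀
  haveI : FiniteDimensional K (AdjoinRoot Q) := (AdjoinRoot.powerBasis hQm.ne_zero).finite
  have hfinQ : finrank K (AdjoinRoot Q) = Q.natDegree := (AdjoinRoot.powerBasis hQm.ne_zero).finrank
  -- a centralising element with the determinant of a power
  set h₁ := LinearMap.mulLeft K (AdjoinRoot.root Q) with hh₁
  have hae : ∀ P : K[X], aeval h₁ P = LinearMap.mulLeft K (AdjoinRoot.mk Q P) := fun P => by
    have h2 : aeval (Algebra.lmul K (AdjoinRoot Q) (AdjoinRoot.root Q)) P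
        = Algebra.lmul K (AdjoinRoot Q) (AdjoinRoot.mk Q P) := by
      rw [aeval_algHom_apply, AdjoinRoot.aeval_eq]
    exact h2
  obtain ⟨z, hz, hzdet⟩ := exists_commute_det_of_component h₁ f R₀ k hf hfi hR₀ hcp
    (by rw [← hQ, hae, AdjoinRoot.mk_self]; simp) (by rw [← hQ, hfinQ])
    (fun P hP h0 => by
      rw [hae] at h0
      have h1 := LinearMap.congr_fun h0 1
      rw [LinearMap.mulLeft_apply, mul_one, LinearMap.zero_apply, AdjoinRoot.mk_eq_zero] at h1
      exact eq_zero_of_dvd_of_natDegree_lt h1 (hfinQ ▸ hP)) e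
  obtain ⟨P, rfl⟩ := commute_mulRoot z hz
  rw [← hae] at hzdet
  -- the two unitary pieces
  set R := S - T with hR
  have hSTR : T + R = S := add_tsub_cancel_of_le hTS
  have hRself : R.map (cd σ) = R := by
    have h1 := hself
    rw [← hSTR, Multiset.map_add, hTself] at h1
    exact add_left_cancel h1
  have hsum : n = (T.map fun x => x.2 * x.1.natDegree).sum + (R.map fun x => x.2 * x.1.natDegree).sum := by
    rw [← Multiset.sum_add, ← Multiset.map_add, hSTR, labels_sum hS, Module.finrank_fin_fun]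
  have hTn : (T.map fun x => x.2 * x.1.natDegree).sum = Q.natDegree := by rw [labels_sum hTlab, hfinQ]
  rw [hTn] at hsum
  obtain ⟨u₂, hu₂⟩ := exists_unitary_labels (n := (R.map fun x => x.2 * x.1.natDegree).sum) hK
    (fun x hx => hmem x (Multiset.mem_of_le (Multiset.sub_le_self S T) hx)) rfl hRself
  generalize (R.map fun x => x.2 * x.1.natDegree).sum = b at u₂ hu₂ hsum
  obtain ⟨u₁, hu₁, k₁, hk₁c, hk₁adj, hk₁d⟩ : ∃ u₁ : GU Q.natDegree K q,
      Labels (endOf ((u₁ : GL (Fin Q.natDegree) K) : Matrix (Fin Q.natDegree) (Fin Q.natDegree) K)) T ∧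
      ∃ k₁ : Matrix (Fin Q.natDegree) (Fin Q.natDegree) K,
        Commute ((u₁ : GL (Fin Q.natDegree) K) : Matrix (Fin Q.natDegree) (Fin Q.natDegree) K) k₁ ∧
        k₁ ∈ Algebra.adjoin K ({((u₁ : GL (Fin Q.natDegree) K) : Matrix (Fin Q.natDegree) (Fin Q.natDegree) K)} : Set _) ∧
        k₁.det = e ^ k := by
    let φ : AdjoinRoot Q ≃ₗ[K] (Fin Q.natDegree → K) :=
      LinearEquiv.ofFinrankEq _ _ (by rw [hfinQ, Module.finrank_fin_fun])
    set M : Matrix (Fin Q.natDegree) (Fin Q.natDegree) K := Matrix.toLinAlgEquiv'.symm (φ.conj h₁) with hM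
    have hMlab : Labels (endOf M) T := labels_transport φ (fun x => by
      rw [endOf, hM, AlgEquiv.apply_symm_apply, LinearEquiv.conj_apply]
      simp) hTlab
    obtain ⟨A, hA⟩ : IsUnit M := (Matrix.isUnit_iff_isUnit_det M).2 (IsUnit.mk0 _ (by
      rw [← det_endOf, det_of_labels hMlab]
      refine Multiset.prod_ne_zero fun h0 => ?_
      obtain ⟨y, hy, hy0⟩ := Multiset.mem_map.1 h0
      exact (hmem y (Multiset.mem_of_le hTS hy)).2.2.1 ((mul_eq_zero.1 (pow_eq_zero_iff'.1 hy0).1).resolve_left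
        (pow_ne_zero _ (neg_ne_zero.2 one_ne_zero)))))
    rw [← hA] at hMlab
    obtain ⟨u₁, P₁, hP₁⟩ := exists_unitary hK A hMlab hTself
    refine ⟨u₁, labels_semiconj P₁ hP₁.symm hMlab, _, ((commute_aeval_self _ P)).symm, aeval_mem_adjoin_singleton K _, ?_⟩
    rw [← det_endOf, endOf, ← aeval_algHom_apply]
    set φ₁ := φ.trans (LinearMap.GeneralLinearGroup.generalLinearEquiv K _ (Matrix.GeneralLinearGroup.toLin P₁))
      with hφ₁
    have hint : ∀ y, endOf ((u₁ : GL (Fin Q.natDegree) K) : Matrix (Fin Q.natDegree) (Fin Q.natDegree) K) (φ₁ y)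
        = φ₁ (h₁ y) := fun y => by
      show endOf _ ((P₁ : Matrix (Fin Q.natDegree) (Fin Q.natDegree) K).mulVec (φ y)) =
        (P₁ : Matrix (Fin Q.natDegree) (Fin Q.natDegree) K).mulVec (φ (h₁ y))
      rw [endOf_apply, Matrix.mulVec_mulVec, hP₁, ← Matrix.mulVec_mulVec, hA, ← endOf_apply M, endOf, hM,
        AlgEquiv.apply_symm_apply, LinearEquiv.conj_apply]
      simp
    have hconj : aeval (Matrix.toLinAlgEquiv' ((u₁ : GL (Fin Q.natDegree) K) : Matrix (Fin Q.natDegree) (Fin Q.natDegree) K)) P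
        = φ₁.conj (aeval h₁ P) := LinearMap.ext fun w => by
      obtain ⟨y, rfl⟩ := φ₁.surjective w
      rw [LinearEquiv.conj_apply]
      simp only [LinearMap.comp_apply, LinearEquiv.coe_coe, LinearEquiv.symm_apply_apply]
      exact aeval_intertwine φ₁.toLinearMap hint P y
    refine (congrArg LinearMap.det hconj).trans ?_
    rw [LinearEquiv.conj_apply, LinearMap.comp_assoc, LinearMap.det_conj, hzdet]
  generalize Q.natDegree = a at u₁ hu₁ k₁ hk₁c hk₁adj hk₁d hsum
  subst hsum
  set U₁ : Matrix (Fin a) (Fin a) K := ((u₁ : GL (Fin a) K) : Matrix (Fin a) (Fin a) K)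
  set U₂ : Matrix (Fin b) (Fin b) K := ((u₂ : GL (Fin b) K) : Matrix (Fin b) (Fin b) K)
  have hM : st hK (blk U₁ U₂) * blk U₁ U₂ = 1 := by
    rw [blk_st, blk_mul, (mem_GU_iff hK _).1 u₁.2, (mem_GU_iff hK _).1 u₂.2, blk_one]
  set M : GL (Fin (a + b)) K := ⟨blk U₁ U₂, st hK (blk U₁ U₂), mul_eq_one_comm.1 hM, hM⟩
  have hlabM : Labels (endOf (M : Matrix (Fin (a + b)) (Fin (a + b)) K)) S := hSTR ▸ labels_blk hu₁ hu₂
  have hconjGL : IsConj M (g : GL (Fin (a + b)) K) := by
    obtain ⟨P₂, hP₂⟩ := exists_semiconj hlabM hS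
    exact isConj_iff.2 ⟨P₂, mul_inv_eq_iff_eq_mul.2 (Units.ext (by rw [Units.val_mul, Units.val_mul]; exact hP₂))⟩
  obtain ⟨w, hw⟩ := isConj_iff.1 (isConj_of_isConj hK ⟨M, (mem_GU_iff hK M).2 hM⟩ g hconjGL)
  have hcomm2 : Commute U₁ (st hK k₁) := by
    have h1 := congrArg (st hK) hk₁c.eq
    rw [st_mul, st_mul] at h1
    have hs : st hK U₁ * U₁ = 1 := (mem_GU_iff hK _).1 u₁.2
    have h2 := congrArg (fun z => U₁ * z * U₁) h1
    simp only [mul_assoc] at h2
    rw [hs, mul_one, ← mul_assoc U₁ (st hK U₁), mul_eq_one_comm.1 hs, one_mul] at h2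
    exact h2
  have hcomm3 : Commute k₁ (st hK k₁) :=
    (Algebra.commute_of_mem_adjoin_singleton_of_commute hk₁adj hcomm2.symm).symm
  have hstdet : ∀ {m : ℕ} (A : Matrix (Fin m) (Fin m) K), (st hK A).det = σ A.det := fun A => by
    rw [st, Matrix.det_transpose]; exact ((qFrob hK).map_det A).symm
  have he0 : e ≠ 0 := heu.ne_zero
  obtain ⟨K₁, hK₁⟩ : IsUnit k₁ := (Matrix.isUnit_iff_isUnit_det _).2 (IsUnit.mk0 _ (by
    rw [hk₁d]; exact pow_ne_zero _ he0))
  obtain ⟨S₁, hS₁⟩ := st_unit hK (n := a) K₁.isUnit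
  rw [hK₁] at hS₁
  set c₁ : GL (Fin a) K := K₁ * S₁⁻¹
  have hS₁d : (S₁ : Matrix (Fin a) (Fin a) K).det = σ (e ^ k) := by rw [hS₁, hstdet, hk₁d]
  have hc₁ : st hK (c₁ : Matrix (Fin a) (Fin a) K) * c₁ = 1 := by
    have hcSK : S₁⁻¹ * K₁ = K₁ * S₁⁻¹ := by
      refine (Commute.inv_left ?_).eq
      exact Units.ext (by rw [Units.val_mul, Units.val_mul, hS₁, hK₁]; exact hcomm3.eq.symm)
    have hKst : st hK ((S₁⁻¹ : GL (Fin a) K) : Matrix (Fin a) (Fin a) K) = ((K₁⁻¹ : GL (Fin a) K) : Matrix (Fin a) (Fin a) K) := by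
      have h1 := congrArg (st hK) (show (S₁ : Matrix (Fin a) (Fin a) K) * (S₁⁻¹ : GL (Fin a) K) = 1 from Units.mul_inv S₁)
      rw [st_mul, st_one, hS₁, st_st, ← hK₁] at h1
      exact left_inv_eq_right_inv h1 K₁.mul_inv
    show st hK ((K₁ * S₁⁻¹ : GL (Fin a) K) : Matrix (Fin a) (Fin a) K) * _ = 1
    rw [Units.val_mul, st_mul, hKst, show st hK (K₁ : Matrix (Fin a) (Fin a) K) = (S₁ : Matrix (Fin a) (Fin a) K) by rw [hS₁, hK₁], ← Units.val_mul, ← Units.val_mul, ← Units.val_mul, ← Units.val_one]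
    congr 1
    rw [← hcSK]
    group
  have hc₁U : Commute U₁ (c₁ : Matrix (Fin a) (Fin a) K) := by
    rw [Units.val_mul]
    exact (hK₁ ▸ hk₁c).mul_right ((show Commute U₁ (S₁ : Matrix (Fin a) (Fin a) K) from hS₁ ▸ hcomm2).units_inv_right)
  have hc₁d : (c₁ : Matrix (Fin a) (Fin a) K).det = d ^ k := by
    have he' : σ e ≠ 0 := (map_ne_zero σ).2 he0
    rw [Units.val_mul, Matrix.det_mul, hK₁, hk₁d, Matrix.coe_units_inv, Matrix.det_nonsing_inv,
      Ring.inverse_eq_inv', hS₁d, map_pow, ← div_eq_mul_inv, ← div_pow]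
    congr 1
    rw [div_eq_iff he']
    exact hed.symm
  have hC : st hK (blk (c₁ : Matrix (Fin a) (Fin a) K) (1 : Matrix (Fin b) (Fin b) K)) *
      blk (c₁ : Matrix (Fin a) (Fin a) K) (1 : Matrix (Fin b) (Fin b) K) = 1 := by
    rw [blk_st, blk_mul, hc₁, st_one, mul_one, blk_one]
  set C : GU (a + b) K q := ⟨⟨_, _, mul_eq_one_comm.1 hC, hC⟩, (mem_GU_iff hK _).2 hC⟩
  have hCM : C * ⟨M, (mem_GU_iff hK M).2 hM⟩ = ⟨M, (mem_GU_iff hK M).2 hM⟩ * C := by
    refine Subtype.ext (Units.ext ?_)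
    show blk (c₁ : Matrix (Fin a) (Fin a) K) 1 * blk U₁ U₂ = blk U₁ U₂ * blk (c₁ : Matrix (Fin a) (Fin a) K) 1
    rw [blk_mul, blk_mul, hc₁U.eq, one_mul, mul_one]
  refine ⟨w * C * w⁻¹, ?_, ?_⟩
  · rw [← hw]
    calc w * C * w⁻¹ * (w * ⟨M, _⟩ * w⁻¹) = w * (C * ⟨M, _⟩) * w⁻¹ := by group
      _ = _ := by rw [hCM]; group
  · show ((((w : GL (Fin (a + b)) K) * (C : GL (Fin (a + b)) K) * (w : GL (Fin (a + b)) K)⁻¹) :
        GL (Fin (a + b)) K) : Matrix (Fin (a + b)) (Fin (a + b)) K).det = d ^ k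
    rw [Units.val_mul, Units.val_mul, Matrix.det_units_conj]
    show (blk (c₁ : Matrix (Fin a) (Fin a) K) 1).det = d ^ k
    rw [blk, Matrix.det_reindex_self, Matrix.det_fromBlocks_zero₁₂, hc₁d, Matrix.det_one, mul_one]

end Unitary

end Cfsg.Agent.Classical.UnitClasses
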