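import Mathlib

/-!
Bounds on the weighted numbers of self-dual labels: `Bd q 1 n ≤ 8 q ^ (n - 1)`.
-/

set_option autoImplicit false

namespace Cfsg.Agent.Classical.UnitClasses

open Finset

/-- Self-dual labels with all exponents at least `k`. -/
def U (q k n : ℕ) : ℕ :=
  if n = 0 then 1 else if k = 0 ∨ n < k then 0
  else U q (k + 1) n + (q + 1) * ∑ d : Fin (n / k), q ^ (d : ℕ) * U q (k + 1) (n - k * ((d : ℕ) + 1))
termination_by n + 1 - k
decreasing_by
  · omega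
  · omega

theorem U_zero (q k : ℕ) : U q k 0 = 1 := by rw [U]; simp

theorem U_of_lt (q : ℕ) {k n : ℕ} (hn : 0 < n) (h : n < k) : U q k n = 0 := by
  rw [U]; simp [hn.ne', h]

/-- The recursion term. -/
def D (q k n : ℕ) : ℕ := ∑ d ∈ range (n / k), q ^ d * U q (k + 1) (n - k * (d + 1))

theorem U_of_le (q : ℕ) {k n : ℕ} (hk : 0 < k) (h : k ≤ n) :
    U q k n = U q (k + 1) n + (q + 1) * D q k n := by
  rw [U, if_neg (show n ≠ 0 by omega), if_neg (show ¬ (k = 0 ∨ n < k) by omega),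
    Fin.sum_univ_eq_sum_range (fun d => q ^ d * U q (k + 1) (n - k * (d + 1))), D]

theorem U_step (q : ℕ) {k n : ℕ} (hk : 0 < k) (h : k ≤ n) :
    U q k n = U q (k + 1) n + U q (k + 1) (n - k) + q * U q k (n - k) := by
  obtain ⟨m, rfl⟩ : ∃ m, n = m + k := ⟨n - k, by omega⟩
  rw [Nat.add_sub_cancel, U_of_le q hk (by omega), D, Nat.add_div_right _ hk, sum_range_succ']
  have e0 : m + k - k * (0 + 1) = m := by omega
  have e1 : ∀ d : ℕ, m + k - k * (d + 1 + 1) = m - k * (d + 1) := fun d => by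
    rw [show k * (d + 1 + 1) = k * (d + 1) + k by ring, Nat.add_sub_add_right]
  simp only [e0, e1, pow_zero, one_mul, pow_succ]
  by_cases hm : k ≤ m
  · rw [U_of_le q hk hm, D]
    rw [show ∑ d ∈ range (m / k), q ^ d * q * U q (k + 1) (m - k * (d + 1)) =
      q * ∑ d ∈ range (m / k), q ^ d * U q (k + 1) (m - k * (d + 1)) by
      rw [mul_sum]; exact sum_congr rfl fun d _ => by ring]
    ring
  · rw [Nat.div_eq_of_lt (not_le.1 hm), sum_range_zero, zero_add]
    rcases Nat.eq_zero_or_pos m with rfl | hm0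
    · rw [U_zero, U_zero]; ring
    · rw [U_of_lt _ hm0 (not_le.1 hm), U_of_lt _ hm0 (by omega)]; ring

theorem U_succ_le (q : ℕ) {k : ℕ} (hk : 0 < k) (n : ℕ) : U q (k + 1) n ≤ U q k n := by
  rcases Nat.eq_zero_or_pos n with rfl | hn
  · rw [U_zero, U_zero]
  rcases Nat.lt_or_ge n k with h | h
  · rw [U_of_lt q hn h, U_of_lt q hn (by omega)]
  · rw [U_of_le q hk h]; exact Nat.le_add_right _ _

theorem U_mono (q : ℕ) {K j : ℕ} (hK : 0 < K) (hj : K ≤ j) (n : ℕ) : U q j n ≤ U q K n := by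
  induction hj with
  | refl => rfl
  | step hle ih => exact (U_succ_le q (hK.trans_le hle) n).trans ih

theorem U_le_sum (q : ℕ) {K : ℕ} (hK : 0 < K) : ∀ (i j n : ℕ), n + 1 - j ≤ i → K ≤ j → 1 ≤ n →
    U q j n ≤ (q + 1) * ∑ t ∈ range (n + 1 - j), U q K t := by
  intro i
  induction i with
  | zero => intro j n hi hj hn; rw [U_of_lt q hn (by omega)]; exact Nat.zero_le _
  | succ i ih =>
    intro j n hi hj hn
    rcases Nat.lt_or_ge n j with h | h
    · rw [U_of_lt q hn h]; exact Nat.zero_le _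
    rw [U_step q (by omega) h, show n + 1 - j = (n + 1 - (j + 1)) + 1 by omega, sum_range_succ,
      show n + 1 - (j + 1) = n - j by omega, mul_add, add_assoc]
    refine Nat.add_le_add ((ih (j + 1) n (by omega) (by omega) hn).trans
      (le_of_eq (by rw [show n + 1 - (j + 1) = n - j by omega]))) ?_
    rw [add_mul, one_mul, add_comm]
    exact Nat.add_le_add (Nat.mul_le_mul_left _ (U_mono q hK hj _))
      (U_mono q hK (by omega) _)

theorem sum_D (q : ℕ) : ∀ (j k n : ℕ), n + 1 - k ≤ j → 1 ≤ k → 1 ≤ n →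
    (q + 1) * ∑ i ∈ Finset.Icc k n, D q i n = U q k n := by
  intro j
  induction j with
  | zero =>
    intro k n hj hk hn
    rw [Finset.Icc_eq_empty (by omega), U_of_lt q (by omega) (by omega)]; simp
  | succ j ih =>
    intro k n hj hk hn
    rcases Nat.lt_or_ge n k with h | h
    · rw [Finset.Icc_eq_empty (by omega), U_of_lt q (by omega) h]; simp
    rw [← Finset.add_sum_Ioc_eq_sum_Icc h, ← Finset.Icc_add_one_left_eq_Ioc, mul_add,
      ih (k + 1) n (by omega) (by omega) hn, U_of_le q (by omega) h, add_comm]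

/-- The bound for weighted labels. -/
def Bd (q k n : ℕ) : ℕ := ∑ j ∈ Icc k n, Nat.gcd (q + 1) j ^ 2 * D q j n

/-- Partial sums of the generating function at `1 / q`. -/
def S (q k n : ℕ) : ℚ := ∑ j ∈ range (n + 1), (U q k j : ℚ) / (q : ℚ) ^ j

theorem S_of_lt (q : ℕ) {k n : ℕ} (h : n < k) : S q k n = 1 := by
  rw [S, sum_eq_single 0]
  · simp [U_zero]
  · intro j hj hj0
    have := mem_range.1 hj
    simp [U_of_lt q (Nat.pos_of_ne_zero hj0) (show j < k by omega)]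
  · simp

theorem S_nonneg (q k n : ℕ) : 0 ≤ S q k n := sum_nonneg fun _ _ => by positivity

theorem S_mono (q k : ℕ) {m n : ℕ} (h : m ≤ n) : S q k m ≤ S q k n :=
  sum_le_sum_of_subset_of_nonneg (range_mono (by omega)) fun _ _ _ => by positivity

theorem S_step {q : ℕ} (hq : 2 ≤ q) {k : ℕ} (hk : 2 ≤ k) (n : ℕ) :
    S q k n * (1 - (q : ℚ) / (q : ℚ) ^ k) ≤ (1 + 1 / (q : ℚ) ^ k) * S q (k + 1) n := by
  rcases Nat.lt_or_ge n k with h | h
  · have h1 : (0 : ℚ) ≤ (q : ℚ) / (q : ℚ) ^ k := by positivity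
    have h2 : (0 : ℚ) ≤ 1 / (q : ℚ) ^ k := by positivity
    rw [S_of_lt q h, S_of_lt q (show n < k + 1 by omega)]
    linarith
  obtain ⟨m, rfl⟩ : ∃ m, n = k + m := ⟨n - k, by omega⟩
  have hsplit : ∀ f : ℕ → ℚ, ∑ j ∈ range (k + m + 1), f j = ∑ j ∈ range k, f j + ∑ i ∈ range (m + 1), f (k + i) :=
    fun f => by rw [show k + m + 1 = k + (m + 1) by omega, sum_range_add]
  have hlow : ∑ j ∈ range k, (U q k j : ℚ) / (q : ℚ) ^ j = ∑ j ∈ range k, (U q (k + 1) j : ℚ) / (q : ℚ) ^ j :=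
    sum_congr rfl fun j hj => by
      rcases Nat.eq_zero_or_pos j with rfl | h0
      · rw [U_zero, U_zero]
      · rw [U_of_lt q h0 (mem_range.1 hj), U_of_lt q h0 (by have := mem_range.1 hj; omega)]
  have hhigh : ∀ i, (U q k (k + i) : ℚ) / (q : ℚ) ^ (k + i) = (U q (k + 1) (k + i) : ℚ) / (q : ℚ) ^ (k + i) +
      1 / (q : ℚ) ^ k * ((U q (k + 1) i : ℚ) / (q : ℚ) ^ i) + (q : ℚ) / (q : ℚ) ^ k * ((U q k i : ℚ) / (q : ℚ) ^ i) :=
    fun i => by
      rw [U_step q (show 0 < k by omega) (Nat.le_add_right k i), Nat.add_sub_cancel_left]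
      push_cast
      rw [pow_add]
      ring
  have e : S q k (k + m) = S q (k + 1) (k + m) + 1 / (q : ℚ) ^ k * S q (k + 1) m + (q : ℚ) / (q : ℚ) ^ k * S q k m := by
    simp only [S]
    rw [hsplit, hsplit (fun j => (U q (k + 1) j : ℚ) / (q : ℚ) ^ j), hlow, sum_congr rfl fun i _ => hhigh i,
      sum_add_distrib, sum_add_distrib, ← mul_sum, ← mul_sum]
    ring
  have h1 := mul_le_mul_of_nonneg_left (S_mono q (k + 1) (show m ≤ k + m by omega))
    (show (0 : ℚ) ≤ 1 / (q : ℚ) ^ k by positivity)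
  have h2 := mul_le_mul_of_nonneg_left (S_mono q k (show m ≤ k + m by omega))
    (show (0 : ℚ) ≤ (q : ℚ) / (q : ℚ) ^ k by positivity)
  linarith

theorem S_step_two {q : ℕ} (hq : 2 ≤ q) {k : ℕ} (hk : 2 ≤ k) (n : ℕ) :
    S q k n * (1 - 2 / (2 : ℚ) ^ k) ≤ (1 + 1 / (2 : ℚ) ^ k) * S q (k + 1) n := by
  have h2 : (2 : ℚ) ≤ q := by exact_mod_cast hq
  obtain ⟨j, rfl⟩ : ∃ j, k = j + 1 := ⟨k - 1, by omega⟩
  have hp : (q : ℚ) / (q : ℚ) ^ (j + 1) ≤ 2 / (2 : ℚ) ^ (j + 1) := by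
    rw [pow_succ', pow_succ', div_mul_eq_div_div, div_mul_eq_div_div, div_self (by positivity), div_self (by norm_num)]
    exact one_div_le_one_div_of_le (by positivity) (pow_le_pow_left₀ (by norm_num) h2 j)
  have hr : 1 / (q : ℚ) ^ (j + 1) ≤ 1 / (2 : ℚ) ^ (j + 1) :=
    one_div_le_one_div_of_le (by positivity) (pow_le_pow_left₀ (by norm_num) h2 _)
  calc S q (j + 1) n * (1 - 2 / (2 : ℚ) ^ (j + 1))
      ≤ S q (j + 1) n * (1 - (q : ℚ) / (q : ℚ) ^ (j + 1)) := mul_le_mul_of_nonneg_left (by linarith) (S_nonneg _ _ _)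
    _ ≤ (1 + 1 / (q : ℚ) ^ (j + 1)) * S q (j + 1 + 1) n := S_step hq hk n
    _ ≤ _ := mul_le_mul_of_nonneg_right (by linarith) (S_nonneg _ _ _)

theorem S_tail {q : ℕ} (hq : 2 ≤ q) : ∀ (i k n : ℕ), n + 1 - k ≤ i → 4 ≤ k →
    S q k n * (1 - 6 / (2 : ℚ) ^ k) ≤ 1 := by
  intro i
  induction i with
  | zero =>
    intro k n hi hk
    rw [S_of_lt q (by omega), one_mul]
    exact sub_le_self _ (by positivity)
  | succ i ih =>
    intro k n hi hk
    have h1 := S_step_two hq (show 2 ≤ k by omega) n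
    have h2 := ih (k + 1) n (by omega) (by omega)
    rw [pow_succ] at h2
    have hx : (16 : ℚ) ≤ 2 ^ k := by
      calc (16 : ℚ) = 2 ^ 4 := by norm_num
        _ ≤ 2 ^ k := pow_le_pow_right₀ (by norm_num) hk
    set x : ℚ := 1 / (2 : ℚ) ^ k with hxd
    have hx0 : 0 < x := by positivity
    have hx1 : x ≤ 1 / 16 := one_div_le_one_div_of_le (by norm_num) hx
    rw [show 2 / (2 : ℚ) ^ k = 2 * x by rw [hxd]; ring] at h1
    rw [show 6 / ((2 : ℚ) ^ k * 2) = 3 * x by rw [hxd]; ring] at h2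
    rw [show 6 / (2 : ℚ) ^ k = 6 * x by rw [hxd]; ring]
    have hS := S_nonneg q k n
    have h3 : S q k n * ((1 - 2 * x) * (1 - 3 * x)) ≤ (1 + x) * 1 := by
      calc S q k n * ((1 - 2 * x) * (1 - 3 * x)) = S q k n * (1 - 2 * x) * (1 - 3 * x) := by ring
        _ ≤ (1 + x) * S q (k + 1) n * (1 - 3 * x) := mul_le_mul_of_nonneg_right h1 (by linarith)
        _ = (1 + x) * (S q (k + 1) n * (1 - 3 * x)) := by ring
        _ ≤ (1 + x) * 1 := mul_le_mul_of_nonneg_left h2 (by linarith)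
    nlinarith [mul_nonneg hS (sq_nonneg x), mul_nonneg hS hx0.le, h3, hx0, hx1]

theorem S_three {q : ℕ} (hq : 2 ≤ q) (n : ℕ) : S q 3 n ≤ 9 / 4 := by
  have h3 := S_step_two hq (show 2 ≤ 3 by omega) n
  have h4 := S_step_two hq (show 2 ≤ 4 by omega) n
  have h5 := S_tail hq (n + 1) 5 n (by omega) (by omega)
  norm_num at h3 h4 h5
  linarith

theorem S_two_two (n : ℕ) : S 2 2 n ≤ 6 := by
  have h2 := S_step (le_refl 2) (le_refl 2) n
  have h3 := S_three (le_refl 2) n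
  norm_num at h2
  linarith

theorem S_two {q : ℕ} (hq : 3 ≤ q) (n : ℕ) : S q 2 n ≤ 4 := by
  have h2 := S_step (show 2 ≤ q by omega) (le_refl 2) n
  have h3 := S_three (show 2 ≤ q by omega) n
  have hq' : (3 : ℚ) ≤ q := by exact_mod_cast hq
  have e1 : (q : ℚ) / (q : ℚ) ^ 2 ≤ 1 / 3 := by
    rw [pow_two, div_mul_eq_div_div, div_self (by positivity)]
    exact one_div_le_one_div_of_le (by norm_num) hq'
  have e2 : 1 / (q : ℚ) ^ 2 ≤ 1 / 9 := one_div_le_one_div_of_le (by norm_num) (by nlinarith)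
  have h4 : S q 2 n * (2 / 3) ≤ (10 / 9) * (9 / 4) :=
    (mul_le_mul_of_nonneg_left (by linarith) (S_nonneg _ _ _)).trans
      (h2.trans (mul_le_mul (by linarith) h3 (S_nonneg _ _ _) (by norm_num)))
  linarith

theorem U_one_le {q : ℕ} (hq : 2 ≤ q) {n : ℕ} (hn : 1 ≤ n) {c : ℕ} (hc : ∀ m, S q 2 m ≤ c) :
    U q 1 n ≤ c * ((q + 1) * q ^ (n - 1)) := by
  have key : ∀ m : ℕ, (U q 1 (m + 1) : ℚ) / (q : ℚ) ^ (m + 1) ≤ S q 2 (m + 1) + S q 2 m / q := by
    intro m
    have hqq : (0 : ℚ) < q := by exact_mod_cast (show 0 < q by omega)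
    induction m with
    | zero =>
      rw [Nat.zero_add, U_step q one_pos le_rfl, Nat.sub_self, U_zero, U_zero, U_of_lt q one_pos (by omega : 1 < 1 + 1)]
      simp [S, Finset.sum_range_succ, U_zero, U_of_lt]
      field_simp
      linarith
    | succ m ih =>
      rw [U_step q one_pos (show 1 ≤ m + 1 + 1 by omega), Nat.add_sub_cancel]
      simp only [S, sum_range_succ _ (m + 1 + 1), sum_range_succ _ (m + 1)] at ih ⊢
      push_cast
      have e : ((U q 2 (m + 1 + 1) : ℚ) + U q 2 (m + 1) + q * U q 1 (m + 1)) / (q : ℚ) ^ (m + 1 + 1) =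
          (U q 2 (m + 1 + 1) : ℚ) / (q : ℚ) ^ (m + 1 + 1) + (U q 2 (m + 1) : ℚ) / (q : ℚ) ^ (m + 1) / q
            + (U q 1 (m + 1) : ℚ) / (q : ℚ) ^ (m + 1) := by
        rw [pow_succ _ (m + 1)]
        field_simp
      rw [e, add_div]
      linarith
  obtain ⟨m, rfl⟩ : ∃ m, n = m + 1 := ⟨n - 1, by omega⟩
  have h := key m
  have hqq : (0 : ℚ) < q := by exact_mod_cast (show 0 < q by omega)
  have h1 : (U q 1 (m + 1) : ℚ) / (q : ℚ) ^ (m + 1) ≤ c + (c : ℚ) / q :=
    h.trans (add_le_add (hc _) (div_le_div_of_nonneg_right (hc _) hqq.le))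
  rw [div_le_iff₀ (by positivity)] at h1
  rw [Nat.add_sub_cancel, ← Nat.cast_le (α := ℚ)]
  refine h1.trans (le_of_eq ?_)
  push_cast
  field_simp
  ring

/-- The growth bound for labels without exponent one. -/
def Ψ (q : ℕ) : ℕ → ℕ
  | 0 => 1
  | 1 => 0
  | n + 2 => Ψ q (n + 1) + (q + 1) * Ψ q n

theorem Ψ_succ (q n : ℕ) : Ψ q (n + 2) = Ψ q (n + 1) + (q + 1) * Ψ q n := by
  rw [Ψ]

theorem Ψ_sum (q : ℕ) : ∀ n, Ψ q (n + 1) = (q + 1) * ∑ i ∈ Finset.range n, Ψ q i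
  | 0 => by simp [Ψ]
  | n + 1 => by rw [Ψ_succ, Ψ_sum q n, Finset.sum_range_succ]; ring

theorem U_two_le (q n : ℕ) : U q 2 n ≤ Ψ q n := by
  induction n using Nat.strong_induction_on with
  | _ n ih =>
    rcases Nat.eq_zero_or_pos n with rfl | hn
    · simp [U_zero, Ψ]
    refine (U_le_sum q two_pos (n + 1) 2 n (by omega) le_rfl hn).trans ?_
    obtain ⟨m, rfl⟩ : ∃ m, n = m + 1 := ⟨n - 1, by omega⟩
    rw [Ψ_sum, show m + 1 + 1 - 2 = m by omega]
    exact Nat.mul_le_mul_left _ (sum_le_sum fun i hi => ih i (by have := mem_range.1 hi; omega))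

theorem U_three_two : ∀ n, 1 ≤ n → 8 * U 2 3 n ≤ 3 * 2 ^ n := by
  intro n
  induction n using Nat.strong_induction_on with
  | _ n ih =>
    intro hn
    rcases Nat.lt_or_ge n 3 with h | h
    · rw [U_of_lt 2 hn h]; simp
    refine (Nat.mul_le_mul_left 8 (U_le_sum 2 three_pos (n + 1) 3 n (by omega) le_rfl hn)).trans ?_
    obtain ⟨m, rfl⟩ : ∃ m, n = m + 3 := ⟨n - 3, by omega⟩
    rw [show m + 3 + 1 - 3 = m + 1 by omega]
    have hs : 8 * ∑ t ∈ range (m + 1), U 2 3 t ≤ 6 * 2 ^ m + 2 := by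
      have : ∀ j, j ≤ m → 8 * ∑ t ∈ range (j + 1), U 2 3 t ≤ 6 * 2 ^ j + 2 := by
        intro j
        induction j with
        | zero => intro _; simp [U_zero]
        | succ j ihj =>
          intro hj
          rw [sum_range_succ, mul_add]
          have h1 := ihj (by omega)
          have h2 := ih (j + 1) (by omega) (by omega)
          rw [pow_succ] at h2 ⊢
          omega
      exact this m le_rfl
    rw [pow_add]
    calc 8 * ((2 + 1) * ∑ t ∈ range (m + 1), U 2 3 t) = 3 * (8 * ∑ t ∈ range (m + 1), U 2 3 t) := by ring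
      _ ≤ 3 * (6 * 2 ^ m + 2) := Nat.mul_le_mul_left _ hs
      _ ≤ _ := by
        have := Nat.one_le_two_pow (n := m)
        omega

theorem Ψ_three : ∀ n, 3 ≤ n → 15 * Ψ 3 n ≤ 12 * 3 ^ (n - 1) := by
  intro n
  induction n using Nat.strong_induction_on with
  | _ n ih =>
    intro hn
    rcases Nat.lt_or_ge n 5 with h | h
    · interval_cases n <;> simp [Ψ]
    obtain ⟨k, rfl⟩ : ∃ k, n = k + 5 := ⟨n - 5, by omega⟩
    have i1 := ih (k + 4) (by omega) (by omega)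
    have i2 := ih (k + 3) (by omega) (by omega)
    rw [show k + 5 = k + 3 + 2 from rfl, Ψ_succ, show k + 3 + 1 = k + 4 from rfl]
    simp only [Nat.add_sub_cancel, show k + 4 - 1 = k + 3 by omega, show k + 3 - 1 = k + 2 by omega,
      show k + 3 + 2 - 1 = k + 4 by omega, pow_succ] at i1 i2 ⊢
    omega

theorem Ψ_growth {q : ℕ} (hq : 4 ≤ q) : ∀ n, 2 ≤ n → (n ^ 2 - 1) * Ψ q n ≤ 3 * ((q + 1) * q ^ (n - 1)) := by
  intro n
  induction n using Nat.strong_induction_on with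
  | _ n ih =>
    intro hn
    rcases Nat.lt_or_ge n 7 with h | h
    · obtain ⟨r, rfl⟩ : ∃ r, q = r + 4 := ⟨q - 4, by omega⟩
      interval_cases n <;> simp only [Ψ] <;> norm_num <;>
        nlinarith [sq_nonneg r, mul_nonneg (Nat.zero_le r) (sq_nonneg r), mul_nonneg (sq_nonneg r) (sq_nonneg r),
          mul_nonneg (mul_nonneg (Nat.zero_le r) (sq_nonneg r)) (sq_nonneg r)]
    obtain ⟨k, rfl⟩ : ∃ k, n = k + 7 := ⟨n - 7, by omega⟩
    have i1 := ih (k + 6) (by omega) (by omega)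
    have i2 := ih (k + 5) (by omega) (by omega)
    rw [show k + 7 = k + 5 + 2 from rfl, Ψ_succ]
    simp only [show k + 6 - 1 = k + 5 by omega, show k + 5 - 1 = k + 4 by omega,
      show k + 5 + 2 - 1 = k + 6 by omega, show k + 5 + 2 = k + 7 from rfl, show k + 5 + 1 = k + 6 from rfl] at i1 i2 ⊢
    have a1 : 2 * ((k + 7) ^ 2 - 1) ≤ 3 * ((k + 6) ^ 2 - 1) := by
      have : 2 * (k + 7) ^ 2 + 1 ≤ 3 * (k + 6) ^ 2 := by nlinarith
      omega
    have a2 : (k + 7) ^ 2 - 1 ≤ 2 * ((k + 5) ^ 2 - 1) := by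
      have : (k + 7) ^ 2 + 1 ≤ 2 * (k + 5) ^ 2 := by nlinarith
      omega
    refine Nat.le_of_mul_le_mul_left ?_ (show 0 < 2 by omega)
    set A := (k + 6) ^ 2 - 1
    set B := (k + 5) ^ 2 - 1
    set C := (k + 7) ^ 2 - 1
    calc 2 * (C * (Ψ q (k + 6) + (q + 1) * Ψ q (k + 5)))
        = 2 * C * Ψ q (k + 6) + 2 * (q + 1) * (C * Ψ q (k + 5)) := by ring
      _ ≤ 3 * A * Ψ q (k + 6) + 2 * (q + 1) * (2 * B * Ψ q (k + 5)) :=
        Nat.add_le_add (Nat.mul_le_mul_right _ a1) (Nat.mul_le_mul_left _ (Nat.mul_le_mul_right _ a2))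
      _ = 3 * (A * Ψ q (k + 6)) + 4 * (q + 1) * (B * Ψ q (k + 5)) := by ring
      _ ≤ 3 * (3 * ((q + 1) * q ^ (k + 5))) + 4 * (q + 1) * (3 * ((q + 1) * q ^ (k + 4))) :=
        Nat.add_le_add (Nat.mul_le_mul_left _ i1) (Nat.mul_le_mul_left _ i2)
      _ = (3 * q + 4 * (q + 1)) * (3 * ((q + 1) * q ^ (k + 4))) := by ring
      _ ≤ (2 * (q * q)) * (3 * ((q + 1) * q ^ (k + 4))) := Nat.mul_le_mul_right _ (by nlinarith)
      _ = _ := by ring

theorem Bd_bound {q n : ℕ} (hq : 2 ≤ q) (hn : 2 ≤ n) : Bd q 1 n ≤ 8 * q ^ (n - 1) := by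
  have split : ∀ K M : ℕ, 1 ≤ K → (∀ i ∈ Icc 1 n, Nat.gcd (q + 1) i ^ 2 ≤ 1 + if K ≤ i then M else 0) →
      (q + 1) * Bd q 1 n ≤ U q 1 n + M * U q K n := by
    intro K M hK hM
    rw [← sum_D q (n + 1) 1 n (by omega) le_rfl (by omega), ← sum_D q (n + 1) K n (by omega) hK (by omega),
      mul_left_comm M, ← mul_add]
    refine Nat.mul_le_mul_left _ ?_
    calc Bd q 1 n ≤ ∑ i ∈ Icc 1 n, (D q i n + if K ≤ i then M * D q i n else 0) := sum_le_sum fun i hi => by
          refine (Nat.mul_le_mul_right _ (hM i hi)).trans (le_of_eq ?_)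
          split_ifs <;> ring
      _ = _ := by
        rw [sum_add_distrib, mul_sum, ← sum_filter]
        congr 1
        refine sum_congr ?_ fun _ _ => rfl
        ext i
        simp only [mem_filter, mem_Icc]
        omega
  refine Nat.le_of_mul_le_mul_left ?_ (show 0 < q + 1 by omega)
  rcases eq_or_lt_of_le hq with rfl | hq3
  · refine (split 3 8 (by omega) fun i hi => ?_).trans ?_
    · simp only [mem_Icc] at hi
      split_ifs with h3
      · exact (Nat.pow_le_pow_left (Nat.le_of_dvd (by norm_num) (Nat.gcd_dvd_left 3 i)) 2).trans (by norm_num)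
      · rcases (show i = 1 ∨ i = 2 by omega) with rfl | rfl <;> norm_num
    · have h1 := U_one_le (le_refl 2) (show 1 ≤ n by omega) (c := 6) (fun m => S_two_two m)
      have h2 := U_three_two n (by omega)
      obtain ⟨m, rfl⟩ : ∃ m, n = m + 1 := ⟨n - 1, by omega⟩
      rw [Nat.add_sub_cancel] at h1 ⊢
      rw [pow_succ] at h2
      omega
  set M := min n (q + 1) ^ 2 - 1 with hM
  refine (split 2 M (by omega) fun i hi => ?_).trans ?_
  · simp only [mem_Icc] at hi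
    split_ifs with h2
    · have h := Nat.pow_le_pow_left (le_min ((Nat.le_of_dvd (by omega) (Nat.gcd_dvd_right (q + 1) i)).trans hi.2)
        (Nat.le_of_dvd (by omega) (Nat.gcd_dvd_left (q + 1) i))) 2
      omega
    · rw [show i = 1 by omega, Nat.gcd_one_right]; norm_num
  have h1 := U_one_le hq (show 1 ≤ n by omega) (c := 4) (fun m => by exact_mod_cast S_two hq3 m)
  suffices h2 : M * Ψ q n ≤ 3 * ((q + 1) * q ^ (n - 1)) by
    have h3 := Nat.mul_le_mul_left M (U_two_le q n)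
    calc U q 1 n + M * U q 2 n ≤ 7 * ((q + 1) * q ^ (n - 1)) := by omega
      _ ≤ 8 * ((q + 1) * q ^ (n - 1)) := Nat.mul_le_mul_right _ (by omega)
      _ = _ := by ring
  rcases eq_or_lt_of_le (show 3 ≤ q from hq3) with rfl | hq4
  · rcases eq_or_lt_of_le hn with rfl | hn3
    · simp [hM, Ψ]
    · refine (Nat.mul_le_mul_right _ ?_).trans ((Ψ_three n hn3).trans (le_of_eq (by ring)))
      have := Nat.pow_le_pow_left (min_le_right n (3 + 1)) 2
      omega
  · refine (Nat.mul_le_mul_right _ ?_).trans (Ψ_growth hq4 n hn)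
    have := Nat.pow_le_pow_left (min_le_left n (q + 1)) 2
    omega

end Cfsg.Agent.Classical.UnitClasses
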