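import Cfsg.Agent.Lib.Classical.UnitClassLabels
import Cfsg.Agent.Lib.Classical.UnitClassNumeric

/-!
The class number of `SU(n, q)`.
-/

set_option autoImplicit false

namespace Cfsg.Agent.Classical.UnitClasses

open Polynomial Module Cfsg.Agent.Classical Cfsg.Agent.Classical.SLClasses UnitaryConjugacy UnitaryDetCentralizer
  GLClassNumber UniqueFactorizationMonoid

variable {K : Type*} [Field K] [Fintype K] {q : ℕ}

theorem two_le_of_card (hK : Fintype.card K = q ^ 2) : 2 ≤ q := by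
  rcases Nat.lt_or_ge q 2 with h | h
  · have := Fintype.one_lt_card (α := K)
    interval_cases q <;> simp_all
  · exact h

/-- The group of elements of norm one. -/
abbrev Mu (K : Type*) [Field K] (q : ℕ) : Subgroup Kˣ := (powMonoidHom (q + 1) : Kˣ →* Kˣ).ker

theorem card_Mu (hK : Fintype.card K = q ^ 2) : Nat.card (Mu K q) = q + 1 := by
  rw [IsCyclic.card_powMonoidHom_ker, Nat.card_units, Nat.card_eq_fintype_card, hK]
  refine Nat.gcd_eq_right ⟨q - 1, ?_⟩
  have hq := two_le_of_card hK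
  obtain ⟨r, rfl⟩ : ∃ r, q = r + 1 := ⟨q - 1, by omega⟩
  rw [Nat.add_sub_cancel, show (r + 1) ^ 2 = (r + 1 + 1) * r + 1 by ring, Nat.add_sub_cancel]

theorem Mu_norm (hK : Fintype.card K = q ^ 2) (c : Mu K q) :
    ((c : Kˣ) : K) * qFrob hK ((c : Kˣ) : K) = 1 := by
  have h := congrArg Units.val (MonoidHom.mem_ker.1 c.2)
  rw [qFrob_apply, ← pow_succ']
  simpa using h

/-- Self-dual labels. -/
abbrev TU (hK : Fintype.card K = q ^ 2) (k n : ℕ) : Type _ :=
  {S : T K k n // S.1.map (cd (qFrob hK)) = S.1}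

/-- Middle coefficients of self-dual polynomials. -/
abbrev Mid (hK : Fintype.card K = q ^ 2) (d : ℕ) (κ : K) : Type _ :=
  {m : Fin d → K // ∀ t, κ * qFrob hK (m (Fin.rev t)) = m t}

theorem card_Mid_le (hK : Fintype.card K = q ^ 2) (d : ℕ) (κ : K) : Nat.card (Mid hK d κ) ≤ q ^ d := by
  obtain ⟨θ, hθ⟩ := exists_ne_qFrob hK
  have h : Nat.card (Mid hK d κ × Mid hK d κ) ≤ Nat.card (Fin d → K) := by
    refine Nat.card_le_card_of_injective (fun p => fun t => p.1.1 t + θ * p.2.1 t) fun p p' hp => ?_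
    have h1 : ∀ t, p.1.1 t + θ * p.2.1 t = p'.1.1 t + θ * p'.2.1 t := congrFun hp
    have h2 : ∀ t, p.1.1 t + qFrob hK θ * p.2.1 t = p'.1.1 t + qFrob hK θ * p'.2.1 t := fun t => by
      have h3 := congrArg (fun z => κ * qFrob hK z) (h1 (Fin.rev t))
      simp only [map_add, map_mul, mul_add, mul_left_comm κ, p.1.2, p.2.2, p'.1.2, p'.2.2] at h3
      exact h3
    have h4 : ∀ t, p.2.1 t = p'.2.1 t := fun t =>
      mul_left_cancel₀ (sub_ne_zero.2 hθ) (by linear_combination (h2 t) - (h1 t))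
    exact Prod.ext (Subtype.ext (funext fun t => by linear_combination (h1 t) - θ * (h4 t)))
      (Subtype.ext (funext h4))
  rw [Nat.card_prod, Nat.card_fun, Nat.card_fin, Nat.card_eq_fintype_card (α := K), hK, ← pow_mul,
    mul_comm 2, pow_mul, ← pow_two] at h
  exact (pow_le_pow_iff_left₀ (Nat.zero_le _) (Nat.zero_le _) two_ne_zero).1 h

theorem le_card_Mid (hK : Fintype.card K = q ^ 2) (d : ℕ) {κ : K} (hκ : κ * qFrob hK κ = 1) :
    q ^ d ≤ Nat.card (Mid hK d κ) := by
  let f : (Fin d → K) →+ (Fin d → K) :=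
    { toFun := fun m t => m t + κ * qFrob hK (m (Fin.rev t))
      map_zero' := funext fun t => by simp
      map_add' := fun a b => funext fun t => by simp [mul_add]; ring }
  have h1 : Nat.card f.ker ≤ q ^ d := by
    refine le_trans (Nat.card_le_card_of_injective (fun m : f.ker => (⟨m.1, fun t => ?_⟩ : Mid hK d (-κ))) ?_)
      (card_Mid_le hK d (-κ))
    · have h := congrFun (AddMonoidHom.mem_ker.1 m.2) t
      simp only [f, AddMonoidHom.coe_mk, ZeroHom.coe_mk, Pi.zero_apply] at h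
      linear_combination -h
    · exact fun a b h => Subtype.ext (congrArg (fun z : Mid hK d (-κ) => z.1) h)
  have h2 : Nat.card f.range ≤ Nat.card (Mid hK d κ) := by
    refine Nat.card_le_card_of_injective (fun m : f.range => (⟨m.1, fun t => ?_⟩ : Mid hK d κ)) ?_
    · obtain ⟨z, hz⟩ := m.2
      rw [← hz]
      simp only [f, AddMonoidHom.coe_mk, ZeroHom.coe_mk, map_add, map_mul, qFrob_qFrob, Fin.rev_rev]
      linear_combination (z t) * hκ
    · exact fun a b h => Subtype.ext (congrArg (fun z : Mid hK d κ => z.1) h)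
  have h3 := f.ker.card_eq_card_quotient_mul_card_addSubgroup
  rw [Nat.card_congr (QuotientAddGroup.quotientKerEquivRange f).toEquiv, Nat.card_fun, Nat.card_fin,
    Nat.card_eq_fintype_card (α := K), hK, ← pow_mul, mul_comm 2, pow_mul, pow_two] at h3
  have h4 := Nat.mul_le_mul h2 h1
  rw [← h3] at h4
  exact Nat.le_of_mul_le_mul_right h4 (pow_pos (by have := two_le_of_card hK; omega) d)

omit [Fintype K] in
theorem cdual_prod (σ : K →+* K) : ∀ M : Multiset K[X], cdual σ M.prod = (M.map (cdual σ)).prod := by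
  intro M
  induction M using Multiset.induction with
  | empty => simp [cdual_one]
  | cons a s ih => rw [Multiset.prod_cons, cdual_mul, ih, Multiset.map_cons, Multiset.prod_cons]

theorem coeff_selfDual (hK : Fintype.card K = q ^ 2) {P : K[X]} (hP : P.Monic)
    (hs : cdual (qFrob hK) P = P) :
    P.coeff 0 * qFrob hK (P.coeff 0) = 1 ∧
      ∀ u ≤ P.natDegree, P.coeff u = P.coeff 0 * qFrob hK (P.coeff (P.natDegree - u)) := by
  have h0 : P.coeff 0 ≠ 0 := fun h => hP.ne_zero (by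
    rw [← hs, cdual, h, map_zero, inv_zero, map_zero, zero_mul])
  have hinv : (qFrob hK (P.coeff 0))⁻¹ = P.coeff 0 := by
    conv_rhs => rw [← hs, coeff_zero_cdual _ _ hP]
  refine ⟨?_, fun u hu => ?_⟩
  · nth_rewrite 1 [← hinv]
    exact inv_mul_cancel₀ ((_root_.map_ne_zero _).2 h0)
  · conv_lhs => rw [← hs, cdual, coeff_C_mul, coeff_reverse, natDegree_map, revAt_le hu, coeff_map, hinv]

theorem finite_TU (hK : Fintype.card K = q ^ 2) {k n : ℕ} (hk : 1 ≤ k) : Finite (TU hK k n) :=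
  haveI := finite_T (F := K) (n := n) hk
  Subtype.finite

theorem split (hK : Fintype.card K = q ^ 2) {k n : ℕ} (hk : 1 ≤ k) :
    ∃ ψ : TU hK k n → TU hK (k + 1) n ⊕ Σ d : Fin (n / k), Σ _ : TU hK (k + 1) (n - k * ((d : ℕ) + 1)),
        Σ c : Mu K q, Mid hK (d : ℕ) ((-1) ^ ((d : ℕ) + 1) * ((c : Kˣ) : K)),
      Function.Injective ψ ∧ ∀ S, match ψ S with
        | .inl y => y.1.1 = S.1.1
        | .inr ⟨_, rest, c, _⟩ =>
          lblDet S.1.1 = ((c : Kˣ) : K) ^ k * lblDet rest.1.1 ∧ ∃ x ∈ S.1.1, x.2 = k := by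
  classical
  set σ := qFrob hK with hσ
  let R := TU hK (k + 1) n ⊕ Σ d : Fin (n / k), Σ _ : TU hK (k + 1) (n - k * ((d : ℕ) + 1)),
        Σ c : Mu K q, Mid hK (d : ℕ) ((-1) ^ ((d : ℕ) + 1) * ((c : Kˣ) : K))
  let Rel : TU hK k n → R → Prop := fun S r => match r with
    | .inl y => y.1.1 = S.1.1
    | .inr ⟨d, rest, c, m⟩ => rest.1.1 = S.1.1.filter (fun y => ¬ y.2 = k) ∧
        (part S.1.1 k).prod.natDegree = (d : ℕ) + 1 ∧ sgn0 (part S.1.1 k).prod = ((c : Kˣ) : K) ∧
        (∀ t : Fin (d : ℕ), (part S.1.1 k).prod.coeff (t + 1) = m.1 t) ∧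
        lblDet S.1.1 = ((c : Kˣ) : K) ^ k * lblDet rest.1.1 ∧ ∃ x ∈ S.1.1, x.2 = k
  have hmon : ∀ (S : T K k n), ∀ f ∈ part S.1 k, f.Monic ∧ Irreducible f ∧ f.coeff 0 ≠ 0 := fun S f hf => by
    obtain ⟨x, hx, rfl⟩ := Multiset.mem_map.1 hf
    obtain ⟨a, b, c, -⟩ := S.2.1 x (Multiset.mem_filter.1 hx).1
    exact ⟨a, b, c⟩
  have hpm : ∀ S : T K k n, (part S.1 k).prod.Monic := fun S => by
    have := monic_multiset_prod_of_monic (part S.1 k) (fun f => f) fun f hf => (hmon S f hf).1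
    rwa [Multiset.map_id'] at this
  have key : ∀ S, ∃ r, Rel S r := by
    rintro ⟨S, hS⟩
    by_cases h0 : part S.1 k = 0
    · refine ⟨.inl ⟨⟨S.1, fun x hx => ?_, S.2.2⟩, hS⟩, rfl⟩
      obtain ⟨a, b, c, e⟩ := S.2.1 x hx
      refine ⟨a, b, c, lt_of_le_of_ne e fun he => ?_⟩
      have : x.1 ∈ part S.1 k := Multiset.mem_map.2 ⟨x, Multiset.mem_filter.2 ⟨hx, he.symm⟩, rfl⟩
      rw [h0] at this
      exact Multiset.notMem_zero _ this
    set M := part S.1 k with hM
    have hdeg : M.prod.natDegree = (M.map natDegree).sum :=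
      natDegree_multiset_prod _ fun h0 => (hmon S 0 h0).1.ne_zero rfl
    obtain ⟨f₀, hf₀⟩ := Multiset.exists_mem_of_ne_zero h0
    have hd1 : 1 ≤ M.prod.natDegree := by
      rw [hdeg]
      exact le_trans (hmon S f₀ hf₀).2.1.natDegree_pos (Multiset.le_sum_of_mem (Multiset.mem_map_of_mem _ hf₀))
    obtain ⟨D, hD⟩ : ∃ D, M.prod.natDegree = D + 1 := ⟨_, (Nat.sub_add_cancel hd1).symm⟩
    have hsum : k * M.prod.natDegree + ((S.1.filter fun x => ¬ x.2 = k).map fun x => x.2 * x.1.natDegree).sum = n := by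
      conv_rhs => rw [← S.2.2, ← Multiset.filter_add_not (fun x => x.2 = k) S.1, Multiset.map_add, Multiset.sum_add]
      congr 1
      rw [hdeg, hM, part, Multiset.map_map, ← Multiset.sum_map_mul_left]
      exact congrArg Multiset.sum (Multiset.map_congr rfl fun x hx => by
        rw [Function.comp_apply, (Multiset.mem_filter.1 hx).2])
    rw [hD] at hsum
    have hd : D < n / k := Nat.lt_of_succ_le ((Nat.le_div_iff_mul_le hk).2 (by
      rw [mul_comm]; show k * (D + 1) ≤ n; omega))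
    have hfk : ∀ p : ℕ → Prop, [DecidablePred p] → (S.1.filter fun x => p x.2).map (cd σ) = S.1.filter fun x => p x.2 := by
      intro p _
      conv_rhs => rw [← hS, Multiset.filter_map]
      exact congrArg _ (Multiset.filter_congr fun x _ => Iff.rfl)
    have hMself : M.map (cdual σ) = M := by
      rw [hM, part, Multiset.map_map]
      conv_rhs => rw [← hfk (fun e => e = k), Multiset.map_map]
      rfl
    have hPself : cdual σ M.prod = M.prod := by rw [cdual_prod, hMself]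
    obtain ⟨hn1, hco⟩ := coeff_selfDual hK (hpm S) hPself
    obtain ⟨c, hc⟩ : ∃ c : Mu K q, ((c : Kˣ) : K) = sgn0 M.prod := by
      have hne : sgn0 M.prod ≠ 0 :=
        mul_ne_zero (pow_ne_zero _ (neg_ne_zero.2 one_ne_zero)) (left_ne_zero_of_mul_eq_one hn1)
      refine ⟨⟨Units.mk0 _ hne, MonoidHom.mem_ker.2 (Units.ext ?_)⟩, rfl⟩
      show sgn0 M.prod ^ (q + 1) = 1
      rw [pow_succ', ← qFrob_apply hK, sgn0, map_mul, map_pow, map_neg, map_one, mul_mul_mul_comm, ← mul_pow,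
        neg_mul_neg, one_mul, one_pow, one_mul, hn1]
    have hκ : (-1 : K) ^ (D + 1) * ((c : Kˣ) : K) = M.prod.coeff 0 := by
      rw [hc, sgn0, hD, ← mul_assoc, ← mul_pow, neg_mul_neg, one_mul, one_pow, one_mul]
    have hT : ∀ t : Fin D, (-1 : K) ^ (D + 1) * ((c : Kˣ) : K) * σ (M.prod.coeff ((Fin.rev t : ℕ) + 1))
        = M.prod.coeff ((t : ℕ) + 1) := fun t => by
      have ht := t.2
      rw [hκ, hco ((t : ℕ) + 1) (show (t : ℕ) + 1 ≤ M.prod.natDegree by rw [hD]; omega), Fin.val_rev, hD,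
        show D + 1 - ((t : ℕ) + 1) = D - ((t : ℕ) + 1) + 1 by omega]
    obtain ⟨y₀, hy₀, -⟩ := Multiset.mem_map.1 hf₀
    refine ⟨.inr ⟨⟨D, hd⟩, ⟨⟨S.1.filter fun x => ¬ x.2 = k, fun x hx => ?_, ?_⟩, hfk fun e => ¬ e = k⟩, c,
      ⟨fun t => M.prod.coeff (t + 1), hT⟩⟩, rfl, hD, hc.symm, fun t => rfl, ?_, y₀, Multiset.mem_filter.1 hy₀⟩
    · obtain ⟨hx1, hx2⟩ := Multiset.mem_filter.1 hx
      obtain ⟨a, b, c, e⟩ := S.2.1 x hx1
      exact ⟨a, b, c, by omega⟩
    · show _ = n - k * (D + 1)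
      omega
    · show lblDet S.1 = ((c : Kˣ) : K) ^ k * lblDet (S.1.filter fun x => ¬ x.2 = k)
      rw [hc, hM, ← lblDet_filter _ _ fun x hx => (S.2.1 x hx).1, ← lblDet_add, Multiset.filter_add_not]
  choose ψ hψ using key
  refine ⟨ψ, fun S S' hab => ?_, fun S => ?_⟩
  · have ha := hψ S
    have hb := hψ S'
    rw [← hab] at hb
    refine Subtype.ext (Subtype.ext ?_)
    rcases hr : ψ S with y | ⟨d, rest, c, m⟩
    · rw [hr] at ha hb
      exact ha.symm.trans hb
    · rw [hr] at ha hb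
      obtain ⟨ha1, ha2, ha3, ha4, -⟩ := ha
      obtain ⟨hb1, hb2, hb3, hb4, -⟩ := hb
      have hP : (part S.1.1 k).prod = (part S'.1.1 k).prod := Polynomial.ext fun u => by
        rcases lt_trichotomy u ((d : ℕ) + 1) with hu | rfl | hu
        · rcases u with _ | u
          · have h1 := ha3.trans hb3.symm
            rw [sgn0, sgn0, ha2, hb2] at h1
            exact mul_left_cancel₀ (pow_ne_zero _ (neg_ne_zero.2 one_ne_zero)) h1
          · exact (ha4 ⟨u, by omega⟩).trans (hb4 ⟨u, by omega⟩).symm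
        · have h1 := (hpm S.1).coeff_natDegree
          have h2 := (hpm S'.1).coeff_natDegree
          rw [ha2] at h1
          rw [hb2] at h2
          rw [h1, h2]
        · rw [coeff_eq_zero_of_natDegree_lt (by rw [ha2]; exact hu), coeff_eq_zero_of_natDegree_lt (by rw [hb2]; exact hu)]
      have hnf : ∀ S : T K k n, normalizedFactors (part S.1 k).prod = part S.1 k := fun S => by
        rw [normalizedFactors_prod_eq _ fun f hf => (hmon S f hf).2.1]
        conv_rhs => rw [← Multiset.map_id' (part S.1 k)]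
        exact Multiset.map_congr rfl fun f hf => (hmon S f hf).1.normalize_eq_self
      have h3 := hnf S.1
      rw [hP, hnf S'.1] at h3
      rw [← Multiset.filter_add_not (fun x => x.2 = k) S.1.1, ← Multiset.filter_add_not (fun x => x.2 = k) S'.1.1,
        ← ha1, ← hb1, filter_eq_part, filter_eq_part, h3]
  · have ha := hψ S
    rcases hr : ψ S with y | ⟨d, rest, c, m⟩
    · rw [hr] at ha; exact ha
    · rw [hr] at ha; exact ha.2.2.2.2

theorem card_TU (hK : Fintype.card K = q ^ 2) : ∀ (j k n : ℕ), n + 1 - k ≤ j → 1 ≤ k →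
    Nat.card (TU hK k n) ≤ U q k n := by
  intro j
  induction j with
  | zero =>
    intro k n hj hk
    haveI : Subsingleton (TU hK k n) := ⟨fun a b => Subtype.ext (Subtype.ext ((T_zero_or hk (by omega) a.1).trans
      (T_zero_or hk (by omega) b.1).symm))⟩
    rcases Nat.eq_zero_or_pos n with rfl | hn
    · rw [U_zero]; exact Finite.card_le_one_iff_subsingleton.2 inferInstance
    · haveI : IsEmpty (TU hK k n) := ⟨fun a => T_ne_zero hn a.1 (T_zero_or hk (by omega) a.1)⟩
      simp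
  | succ j ih =>
    intro k n hj hk
    rcases Nat.lt_or_ge n k with hnk | hnk
    · haveI : Subsingleton (TU hK k n) := ⟨fun a b => Subtype.ext (Subtype.ext ((T_zero_or hk hnk a.1).trans
        (T_zero_or hk hnk b.1).symm))⟩
      rcases Nat.eq_zero_or_pos n with rfl | hn
      · rw [U_zero]; exact Finite.card_le_one_iff_subsingleton.2 inferInstance
      · haveI : IsEmpty (TU hK k n) := ⟨fun a => T_ne_zero hn a.1 (T_zero_or hk hnk a.1)⟩
        simp
    haveI : ∀ m, Finite (TU hK (k + 1) m) := fun m => finite_TU hK (by omega)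
    obtain ⟨ψ, hψ, -⟩ := split hK (n := n) hk
    refine (Nat.card_le_card_of_injective ψ hψ).trans ?_
    rw [Nat.card_sum, U_of_le q hk hnk, Nat.card_sigma, D, Finset.mul_sum,
      ← Fin.sum_univ_eq_sum_range (fun d => (q + 1) * (q ^ d * U q (k + 1) (n - k * (d + 1)))) (n / k)]
    refine Nat.add_le_add (ih _ _ (by omega) (by omega)) (Finset.sum_le_sum fun d _ => ?_)
    haveI := Fintype.ofFinite (TU hK (k + 1) (n - k * ((d : ℕ) + 1)))
    haveI := Fintype.ofFinite (Mu K q)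
    rw [Nat.card_sigma]
    refine (Finset.sum_le_sum (g := fun _ => (q + 1) * q ^ (d : ℕ)) fun rest _ => ?_).trans ?_
    · rw [Nat.card_sigma]
      refine (Finset.sum_le_sum fun c _ => card_Mid_le hK _ _).trans ?_
      rw [Finset.sum_const, Finset.card_univ, smul_eq_mul, ← Nat.card_eq_fintype_card, card_Mu hK]
    · rw [Finset.sum_const, Finset.card_univ, smul_eq_mul, ← Nat.card_eq_fintype_card]
      refine (Nat.mul_le_mul_right _ (ih (k + 1) _ (by omega) (by omega))).trans (le_of_eq ?_)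
      ring

/-- Self-dual labels of determinant `v`. -/
abbrev LTU (hK : Fintype.card K = q ^ 2) (k n : ℕ) (v : K) : Type _ := {S : TU hK k n // lblDet S.1.1 = v}

theorem card_root_Mu (hK : Fintype.card K = q ^ 2) (k : ℕ) (a b : K) (hb : b ≠ 0) :
    Nat.card {c : Mu K q // ((c : Kˣ) : K) ^ k * b = a} ≤ Nat.gcd (q + 1) k := by
  rcases isEmpty_or_nonempty {c : Mu K q // ((c : Kˣ) : K) ^ k * b = a} with h | ⟨⟨c₀, hc₀⟩⟩
  · simp
  refine le_trans (Nat.card_le_card_of_injective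
    (fun c : {c : Mu K q // ((c : Kˣ) : K) ^ k * b = a} => (⟨c.1 / c₀, ?_⟩ : (powMonoidHom k : Mu K q →* Mu K q).ker)) ?_) ?_
  · have h1 : c.1 ^ k = c₀ ^ k := Subtype.ext (Units.ext (by
      simpa using mul_right_cancel₀ hb (c.2.trans hc₀.symm)))
    rw [MonoidHom.mem_ker, powMonoidHom_apply, div_pow, h1, div_self']
  · intro c c' hcc
    exact Subtype.ext (div_left_injective (congrArg Subtype.val hcc))
  · rw [IsCyclic.card_powMonoidHom_ker, card_Mu hK]

theorem card_WTU (hK : Fintype.card K = q ^ 2) : ∀ (j k n : ℕ), n + 1 - k ≤ j → 1 ≤ k → 1 ≤ n → ∀ v : K,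
    Nat.card (Σ S : LTU hK k n v, Fin (wt (q + 2) S.1.1.1)) ≤ Bd q k n := by
  classical
  intro j
  induction j with
  | zero =>
    intro k n hj hk hn v
    haveI : IsEmpty (LTU hK k n v) := ⟨fun S => T_ne_zero hn S.1.1 (T_zero_or hk (by omega) S.1.1)⟩
    simp
  | succ j ih =>
    intro k n hj hk hn v
    by_cases hnk : n < k
    · haveI : IsEmpty (LTU hK k n v) := ⟨fun S => T_ne_zero hn S.1.1 (T_zero_or hk hnk S.1.1)⟩
      simp
    obtain ⟨ψ, hψ, hprop⟩ := split hK (n := n) hk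
    let R := (Σ S : LTU hK (k + 1) n v, Fin (wt (q + 2) S.1.1.1)) ⊕
      (Σ d : Fin (n / k), Σ rest : TU hK (k + 1) (n - k * ((d : ℕ) + 1)),
        Σ c : {c : Mu K q // ((c : Kˣ) : K) ^ k * lblDet rest.1.1 = v},
          Mid hK (d : ℕ) ((-1) ^ ((d : ℕ) + 1) * ((c.1 : Kˣ) : K)) × Fin (Nat.gcd (q + 1) k))
    haveI : ∀ m, Finite (TU hK (k + 1) m) := fun m => finite_TU hK (by omega)
    haveI : Finite (LTU hK (k + 1) n v) := Subtype.finite
    let Rel : (Σ S : LTU hK k n v, Fin (wt (q + 2) S.1.1.1)) → R → Prop := fun x r => match r with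
      | .inl y => ψ x.1.1 = .inl y.1.1 ∧ (y.2 : ℕ) = x.2
      | .inr ⟨d, rest, c, m, i⟩ => ψ x.1.1 = .inr ⟨d, rest, c.1, m⟩ ∧ (i : ℕ) = x.2
    have key : ∀ x, ∃ r, Rel x r := by
      rintro ⟨⟨S, hv⟩, i⟩
      have h := hprop S
      rcases hr : ψ S with y | ⟨d, rest, c, m⟩ <;> rw [hr] at h
      · refine ⟨.inl ⟨⟨y, by rw [h]; exact hv⟩, ⟨i, lt_of_lt_of_eq i.2 (by rw [h])⟩⟩, hr, rfl⟩
      · obtain ⟨hdet, x, hx, rfl⟩ := h
        refine ⟨.inr ⟨d, rest, ⟨c, hdet.symm.trans hv⟩, m, ⟨i, lt_of_lt_of_le i.2 ?_⟩⟩, hr, rfl⟩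
        exact (wt_le hx).trans_eq (by rw [Nat.add_sub_cancel (n := q + 1) (m := 1)])
    choose Φ' hΦ using key
    have hinj : Function.Injective Φ' := by
      rintro ⟨⟨S, hS⟩, i⟩ ⟨⟨S', hS'⟩, i'⟩ hab
      have ha := hΦ ⟨⟨S, hS⟩, i⟩
      have hb := hΦ ⟨⟨S', hS'⟩, i'⟩
      rw [← hab] at hb
      have hfin : ψ S = ψ S' ∧ (i : ℕ) = i' := by
        rcases hr : Φ' ⟨⟨S, hS⟩, i⟩ with y | ⟨d, rest, c, m, t⟩ <;> rw [hr] at ha hb <;>
          exact ⟨ha.1.trans hb.1.symm, ha.2.symm.trans hb.2⟩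
      obtain ⟨h1, h2⟩ := hfin
      obtain rfl : S = S' := hψ h1
      obtain rfl : i = i' := Fin.ext h2
      rfl
    refine (Nat.card_le_card_of_injective Φ' hinj).trans ?_
    rw [Nat.card_sum, Bd, ← Finset.add_sum_Ioc_eq_sum_Icc (by omega : k ≤ n), ← Finset.Icc_add_one_left_eq_Ioc,
      add_comm]
    refine Nat.add_le_add ?_ (ih (k + 1) n (by omega) (by omega) hn v)
    rw [Nat.card_sigma, D, Finset.mul_sum,
      ← Fin.sum_univ_eq_sum_range (fun d => Nat.gcd (q + 1) k ^ 2 * (q ^ d * U q (k + 1) (n - k * (d + 1)))) (n / k)]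
    refine Finset.sum_le_sum fun d _ => ?_
    haveI := Fintype.ofFinite (TU hK (k + 1) (n - k * ((d : ℕ) + 1)))
    rw [Nat.card_sigma]
    refine (Finset.sum_le_sum (g := fun _ => Nat.gcd (q + 1) k ^ 2 * q ^ (d : ℕ)) fun rest _ => ?_).trans ?_
    · haveI := Fintype.ofFinite {c : Mu K q // ((c : Kˣ) : K) ^ k * lblDet rest.1.1 = v}
      rw [Nat.card_sigma]
      refine (Finset.sum_le_sum (g := fun _ => q ^ (d : ℕ) * Nat.gcd (q + 1) k) fun c _ => ?_).trans ?_
      · rw [Nat.card_prod, Nat.card_fin]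
        exact Nat.mul_le_mul_right _ (card_Mid_le hK _ _)
      · rw [Finset.sum_const, Finset.card_univ, smul_eq_mul, ← Nat.card_eq_fintype_card]
        refine (Nat.mul_le_mul_right _ (card_root_Mu hK k v _ (lblDet_ne_zero rest.1))).trans (le_of_eq ?_)
        ring
    · rw [Finset.sum_const, Finset.card_univ, smul_eq_mul, ← Nat.card_eq_fintype_card]
      refine (Nat.mul_le_mul_right _ (card_TU hK _ (k + 1) _ le_rfl (by omega))).trans (le_of_eq ?_)
      ring

variable {n : ℕ}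

/-- The inclusion of `SU_n` in `GU_n`. -/
def toGU : SU n K q →* GU n K q :=
  (Matrix.SpecialLinearGroup.toGL.comp (SU n K q).subtype).codRestrict _ fun g u v => g.2 u v

omit [Fintype K] in
theorem toGU_coe (g : SU n K q) : (((toGU g : GU n K q) : GL (Fin n) K) : Matrix (Fin n) (Fin n) K) = suVal g := rfl

/-- The determinant of a unitary matrix. -/
noncomputable def detMu (hK : Fintype.card K = q ^ 2) : GU n K q →* Mu K q :=
  ((Matrix.GeneralLinearGroup.det).comp (GU n K q).subtype).codRestrict _ fun g => by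
    refine MonoidHom.mem_ker.2 (Units.ext ?_)
    show (((g : GL (Fin n) K) : Matrix (Fin n) (Fin n) K).det) ^ (q + 1) = 1
    have h := congrArg Matrix.det ((mem_GU_iff hK _).1 g.2)
    rw [Matrix.det_mul, Matrix.det_one, st, Matrix.det_transpose] at h
    rw [pow_succ, ← qFrob_apply hK]
    exact ((congrArg (· * _) ((qFrob hK).map_det _)).trans h : _)

theorem card_su_le (hK : Fintype.card K = q ^ 2) (hn : 0 < n) :
    Nat.card (ConjClasses (SU n K q)) ≤ Bd q 1 n := by
  classical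
  haveI := finite_TU hK (n := n) (le_refl 1)
  haveI : Finite (LTU hK 1 n (1 : K)) := Subtype.finite
  choose g hg using fun C : ConjClasses (SU n K q) => ConjClasses.mk_surjective C
  have hlabel : ∀ C, ∃ S : LTU hK 1 n (1 : K), Labels (endOf (suVal (g C))) S.1.1.1 := fun C => by
    obtain ⟨S, hS⟩ := exists_labels (endOf (suVal (g C)))
    have hdet : LinearMap.det (endOf (suVal (g C))) = 1 := by rw [det_endOf]; exact (g C).1.2
    refine ⟨⟨⟨⟨S, labels_mem (by rw [hdet]; exact one_ne_zero) hS, ?_⟩, labels_self hK (toGU (g C)) hS⟩,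
      (det_of_labels hS).symm.trans hdet⟩, hS⟩
    rw [labels_sum hS, Module.finrank_fin_fun]
  choose L hL using hlabel
  have hx : ∀ C C', L C = L C' → ∃ x : GU n K q, x * toGU (g C) * x⁻¹ = toGU (g C') := fun C C' h => by
    obtain ⟨P, hP⟩ := exists_semiconj (hL C) (h ▸ hL C')
    refine isConj_iff.1 (isConj_of_isConj hK _ _ (isConj_iff.2 ⟨P, mul_inv_eq_iff_eq_mul.2 (Units.ext ?_)⟩))
    rw [Units.val_mul, Units.val_mul]
    exact hP
  have hfib : ∀ S : LTU hK 1 n (1 : K), Nat.card {C // L C = S} ≤ wt (q + 2) S.1.1.1 := fun S => by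
    rcases isEmpty_or_nonempty {C // L C = S} with h | ⟨⟨C₀, rfl⟩⟩
    · simp
    obtain ⟨y, hy, hyw⟩ := exists_wt (q + 2) (T_ne_zero hn (L C₀).1.1)
    rw [show q + 2 - 1 = q + 1 by omega] at hyw
    choose x hx' using fun C : {C // L C = L C₀} => hx C₀ C C.2.symm
    let H : Subgroup (Mu K q) := (Subgroup.centralizer {toGU (g C₀)}).map (detMu hK)
    have hH : (powMonoidHom y.2 : Mu K q →* Mu K q).range ≤ H := by
      rintro _ ⟨t, rfl⟩
      obtain ⟨c, hc, hcd⟩ := exists_commute_det hK (toGU (g C₀)) (hL C₀) hy (Mu_norm hK t)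
      refine Subgroup.mem_map.2 ⟨c, Subgroup.mem_centralizer_singleton_iff.2 hc, Subtype.ext (Units.ext ?_)⟩
      show ((c : GL (Fin n) K) : Matrix (Fin n) (Fin n) K).det = _
      rw [hcd]
      simp
    refine le_trans (Nat.card_le_card_of_injective
      (fun C : {C // L C = L C₀} => (QuotientGroup.mk (detMu hK (x C)) : Mu K q ⧸ H)) ?_) ?_
    · intro C C' h
      obtain ⟨c, hc, hcd⟩ := Subgroup.mem_map.1 (QuotientGroup.eq.1 h)
      have hcc := Subgroup.mem_centralizer_singleton_iff.1 hc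
      refine Subtype.ext ((hg C.1).symm.trans (Eq.trans ?_ (hg C'.1)))
      rw [ConjClasses.mk_eq_mk_iff_isConj, isConj_iff]
      have hdet1 : detMu hK (x C' * c⁻¹ * (x C)⁻¹) = 1 := by
        rw [map_mul, map_mul, map_inv, map_inv, hcd]
        group
      obtain ⟨s, hs⟩ : ∃ s : SU n K q, toGU s = x C' * c⁻¹ * (x C)⁻¹ := by
        refine ⟨⟨⟨(((x C' * c⁻¹ * (x C)⁻¹ : GU n K q) : GL (Fin n) K) : Matrix (Fin n) (Fin n) K),
          congrArg (fun z : Mu K q => ((z : Kˣ) : K)) hdet1⟩, fun u v => (x C' * c⁻¹ * (x C)⁻¹).2 u v⟩,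
          Subtype.ext (Units.ext rfl)⟩
      refine ⟨s, suVal_ext ?_⟩
      rw [← toGU_coe, ← toGU_coe]
      congr 2
      rw [map_mul, map_mul, map_inv, hs, ← hx' C, ← hx' C']
      calc x C' * c⁻¹ * (x C)⁻¹ * (x C * toGU (g C₀) * (x C)⁻¹) * (x C' * c⁻¹ * (x C)⁻¹)⁻¹
          = x C' * (c⁻¹ * (toGU (g C₀) * c)) * (x C')⁻¹ := by group
        _ = _ := by rw [← hcc, inv_mul_cancel_left]
    · show H.index ≤ _
      refine (Nat.le_of_dvd ?_ (Subgroup.index_dvd_of_le hH)).trans ?_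
      · exact Nat.pos_of_ne_zero Subgroup.index_ne_zero_of_finite
      · rw [IsCyclic.index_powMonoidHom_range, card_Mu hK, hyw]
  haveI : Fintype (LTU hK 1 n (1 : K)) := Fintype.ofFinite _
  rw [Nat.card_congr (Equiv.sigmaFiberEquiv L).symm, Nat.card_sigma]
  refine (Finset.sum_le_sum fun S _ => hfib S).trans ?_
  refine le_trans (le_of_eq ?_) (card_WTU hK (n + 1) 1 n (by omega) le_rfl hn 1)
  rw [Nat.card_sigma]
  exact Finset.sum_congr rfl fun S _ => (Nat.card_fin _).symm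

theorem le_card_su (hK : Fintype.card K = q ^ 2) (hn : 0 < n) :
    q ^ (n - 1) ≤ Nat.card (ConjClasses (SU n K q)) := by
  classical
  obtain ⟨p, hp⟩ := CharP.exists K
  haveI : Fact p.Prime := ⟨CharP.char_is_prime K p⟩
  set κ : K := (-1) ^ n with hκd
  have hκκ : κ * κ = 1 := by rw [hκd, ← mul_pow, neg_mul_neg, one_mul, one_pow]
  have hσκ : qFrob hK κ = κ := by rw [hκd, map_pow, map_neg, map_one]
  have hκ : κ * qFrob hK κ = 1 := by rw [hσκ, hκκ]
  have key : ∀ m : Mid hK (n - 1) κ, ∃ g : SU n K q, (suVal g).charpoly = cpol n m.1 := fun m => by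
    obtain ⟨hmon, hd, h0, hc⟩ := cpol_props hn m.1
    have hne : (cpol n m.1).coeff 0 ≠ 0 := by rw [h0]; exact pow_ne_zero _ (neg_ne_zero.2 one_ne_zero)
    have hlead : (cpol n m.1).coeff n = 1 := by
      have h := hmon.coeff_natDegree
      rwa [hd] at h
    have hself : cdual (qFrob hK) (cpol n m.1) = cpol n m.1 := by
      refine Polynomial.ext fun u => ?_
      rcases lt_or_ge n u with hu | hu
      · rw [coeff_eq_zero_of_natDegree_lt (by rw [natDegree_cdual _ hne, hd]; exact hu),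
          coeff_eq_zero_of_natDegree_lt (by rw [hd]; exact hu)]
      rw [cdual, coeff_C_mul, coeff_reverse, natDegree_map, hd, revAt_le hu, coeff_map, h0, ← hκd, hσκ,
        inv_eq_of_mul_eq_one_left hκκ]
      rcases eq_or_lt_of_le hu with rfl | hu'
      · rw [Nat.sub_self, h0, ← hκd, hσκ, hκκ]
        rw [hlead]
      rcases Nat.eq_zero_or_pos u with rfl | hu0
      · rw [Nat.sub_zero, h0, ← hκd]
        rw [hlead, map_one, mul_one]
      have h1 := m.2 ⟨u - 1, by omega⟩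
      rw [← hc, ← hc, Fin.val_rev] at h1
      rw [show n - u = n - 1 - (u - 1 + 1) + 1 by omega, show u = u - 1 + 1 by omega]
      exact h1
    obtain ⟨u, -, hu⟩ := exists_mem_charpoly (p := p) hK hmon hd hne hself
    refine ⟨⟨⟨((u : GL (Fin n) K) : Matrix (Fin n) (Fin n) K), ?_⟩, fun a b => u.2 a b⟩, hu⟩
    rw [Matrix.det_eq_sign_charpoly_coeff, hu, h0, Fintype.card_fin, ← hκd, hκκ]
  choose g hg using key
  refine (le_card_Mid hK (n - 1) hκ).trans (Nat.card_le_card_of_injective (fun m => ConjClasses.mk (g m)) ?_)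
  intro m m' h
  obtain ⟨c, hc⟩ := isConj_iff.1 (ConjClasses.mk_eq_mk_iff_isConj.1 h)
  have h1 : (suVal (g m')).charpoly = (suVal (g m)).charpoly := by
    rw [← hc, suVal_mul, Matrix.charpoly_mul_comm, ← suVal_mul, inv_mul_cancel_left]
  rw [hg, hg] at h1
  refine Subtype.ext (funext fun i => ?_)
  rw [← (cpol_props hn m.1).2.2.2 i, ← (cpol_props hn m'.1).2.2.2 i, h1]

end Cfsg.Agent.Classical.UnitClasses
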