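import Cfsg.Agent.Lib.Classical.SelfRecipDivisors

/-!
Conjugate self-dual products of the irreducible factors of `X ^ r - 1` over the field with `q ^ 2` elements, and the
degrees of their self-dual divisors and of their divisors `D · D†`.
-/

set_option autoImplicit false
set_option linter.unusedSectionVars false

namespace Cfsg.Agent.UnitSelfDualFactors

open Polynomial UniqueFactorizationMonoid Cfsg.Agent.Classical Cfsg.Agent.UnitaryDetCentralizer
  Cfsg.Agent.SelfReciprocalFactors

variable {K : Type*} [Field K] [Fintype K] {q r i : ℕ}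

/-- The degree of the irreducible factors. -/
def bDeg (i : ℕ) : ℕ := if Even i then i / 2 else i

/-- The degree of the basic self-dual products. -/
def cDeg (i : ℕ) : ℕ := if i % 4 = 0 then i else if i % 4 = 2 then i / 2 else 2 * i

theorem deg_two {i : ℕ} (h : i % 4 = 2) : i = 2 * bDeg i ∧ cDeg i = bDeg i ∧ Odd (bDeg i) := by
  have he : Even i := Nat.even_iff.2 (by omega)
  rw [bDeg, cDeg, if_pos he, if_neg (by omega), if_pos h]
  exact ⟨by omega, rfl, Nat.odd_iff.2 (by omega)⟩

theorem deg_other {i : ℕ} (h : i % 4 ≠ 2) : cDeg i = 2 * bDeg i := by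
  unfold cDeg bDeg
  by_cases h0 : i % 4 = 0
  · rw [if_pos h0, if_pos (Nat.even_iff.2 (by omega))]; omega
  · rw [if_neg h0, if_neg h, if_neg (by rw [Nat.even_iff]; omega)]

/-- The data attached to an odd prime `r` prime to the characteristic. -/
structure UCtx (K : Type*) [Field K] [Fintype K] (q r i : ℕ) : Prop where
  card : Fintype.card K = q ^ 2
  prime : r.Prime
  odd : r ≠ 2
  ne : (r : K) ≠ 0
  hi : i = orderOf (q : ZMod r)

theorem q_ne (h : UCtx K q r i) : (q : ZMod r) ≠ 0 := by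
  haveI : Fact r.Prime := ⟨h.prime⟩
  intro h0
  rw [ZMod.natCast_eq_zero_iff] at h0
  obtain ⟨p, hp⟩ := CharP.exists K
  haveI := hp
  haveI : Fact p.Prime := ⟨CharP.char_is_prime K p⟩
  obtain ⟨e, -, he⟩ := FiniteField.card K p
  have h1 : r ∣ p ^ (e : ℕ) := he ▸ h.card ▸ h0.trans (dvd_pow_self q two_ne_zero)
  exact h.ne (((Nat.prime_dvd_prime_iff_eq h.prime Fact.out).1 (h.prime.dvd_of_dvd_pow h1)) ▸ CharP.cast_eq_zero K p)

theorem i_pos (h : UCtx K q r i) : 0 < i := by
  haveI : Fact r.Prime := ⟨h.prime⟩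
  rw [h.hi, orderOf_pos_iff]
  exact isOfFinOrder_iff_pow_eq_one.2
    ⟨r - 1, by have := h.prime.two_le; omega, ZMod.pow_card_sub_one_eq_one (q_ne h)⟩

theorem b_pos (h : UCtx K q r i) : 0 < bDeg i := by
  have := i_pos h
  unfold bDeg
  split_ifs with he
  · have := Nat.even_iff.1 he; omega
  · exact this

theorem c_pos (h : UCtx K q r i) : 0 < cDeg i := by
  have := b_pos h
  by_cases h4 : i % 4 = 2
  · rw [(deg_two h4).2.1]; exact this
  · rw [deg_other h4]; omega

theorem base (h : UCtx K q r i) : Ctx K r (bDeg i) ((r - 1) / bDeg i) := by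
  haveI : Fact r.Prime := ⟨h.prime⟩
  refine ⟨h.prime, h.odd, h.ne, ?_, Nat.div_mul_cancel ?_⟩
  · rw [h.card, Nat.cast_pow, orderOf_pow' _ two_ne_zero, ← h.hi, bDeg]
    split_ifs with he
    · rw [Nat.gcd_eq_right (even_iff_two_dvd.1 he)]
    · rw [Nat.Coprime.gcd_eq_one (Nat.coprime_two_right.2 (Nat.not_even_iff_odd.1 he)), Nat.div_one]
  · have hir : i ∣ r - 1 := h.hi ▸ ZMod.orderOf_dvd_card_sub_one (q_ne h)
    refine Dvd.dvd.trans ?_ hir
    unfold bDeg
    split_ifs with he
    · exact Nat.div_dvd_of_dvd (even_iff_two_dvd.1 he)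
    · exact dvd_rfl

/-- The conjugate dual. -/
noncomputable abbrev tau (hK : Fintype.card K = q ^ 2) (P : K[X]) : K[X] := cdual (qFrob hK) P

variable (h : UCtx K q r i)

theorem tau_one (hK : Fintype.card K = q ^ 2) : tau hK (1 : K[X]) = 1 := by
  simp [tau, cdual, show (1 : K[X]).reverse = 1 from by rw [← map_one Polynomial.C, reverse_C]]

theorem tau_X_sub_one_pow (hK : Fintype.card K = q ^ 2) (k : ℕ) :
    tau hK ((X - Polynomial.C 1 : K[X]) ^ k) = (X - Polynomial.C 1) ^ k := by
  induction k with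
  | zero => rw [pow_zero, tau_one]
  | succ k ih => rw [pow_succ, tau, cdual_mul, UnitPrimeOrderClasses.cdual_X_sub_one]; exact congrArg (· * _) ih

theorem tau_tau {f : K[X]} (hf : f ∈ factorSet K r) : tau h.card (tau h.card f) = f :=
  cdual_cdual _ (qFrob_qFrob h.card) (mem_data (base h) hf).1 (coeff_zero_ne (base h) (dvd_pow_sub_one (base h) hf))

/-- Duals of factors are factors, equal to them iff `i ≡ 2 (mod 4)`. -/
theorem tau_mem {f : K[X]} (hf : f ∈ factorSet K r) :
    tau h.card f ∈ factorSet K r ∧ (tau h.card f = f ↔ i % 4 = 2) := by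
  classical
  haveI : Fact r.Prime := ⟨h.prime⟩
  have hB := base h
  obtain ⟨p, e, hp, hpr, hch, he, hord⟩ := orderOf_card hB
  haveI := hch
  haveI := Fact.mk hp
  obtain ⟨hfm, hfi, hfd, hfc⟩ := mem_data hB hf
  haveI := Fact.mk hfi
  haveI := hfm.finite_adjoinRoot
  haveI : Finite (AdjoinRoot f) := Module.finite_of_finite K
  set c : ZMod r := (q : ZMod r) with hc
  set z := AdjoinRoot.root f with hz
  have hzo : orderOf z = r := orderOf_root hB hf
  have hzr : z ^ r = 1 := by rw [← hzo]; exact pow_orderOf_eq_one z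
  have hz0 : z ≠ 0 := fun h' => by rw [h', zero_pow h.prime.ne_zero] at hzr; exact zero_ne_one hzr
  have hzz : IsOfFinOrder z := isOfFinOrder_iff_pow_eq_one.2 ⟨r, h.prime.pos, hzr⟩
  have h0 := coeff_zero_ne hB (dvd_pow_sub_one hB hf)
  have hwroot : aeval (z ^ q)⁻¹ (tau h.card f) = 0 := UnitPrimeOrderClasses.cdual_root p h.card hfm hz0
  have hτm : (tau h.card f).Monic := cdual_monic _ h0
  have hτi : Irreducible (tau h.card f) := irreducible_cdual _ (qFrob_qFrob h.card) hfm h0 hfi
  have hτw : minpoly K (z ^ q)⁻¹ = tau h.card f := (minpoly.eq_of_irreducible_of_monic hτi hwroot hτm).symm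
  have hdvd : tau h.card f ∣ X ^ r - 1 := by
    rw [← hτw]
    have hzq : (z ^ q) ^ r = 1 := by rw [← pow_mul, mul_comm, pow_mul, hzr, one_pow]
    exact minpoly.dvd K _ (by simp [inv_pow, hzq])
  refine ⟨((dvd_X_pow_iff hB hτm hτi).1 hdvd).resolve_left fun he' => X_sub_one_notMem hB (by
    have h2 := tau_tau h hf
    rw [he', show tau h.card (X - Polynomial.C 1) = X - Polynomial.C 1 from
      UnitPrimeOrderClasses.cdual_X_sub_one _] at h2
    rw [h2]; exact hf), ?_⟩
  have hci : c ^ i = 1 := h.hi ▸ pow_orderOf_eq_one c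
  have hpow : ∀ j : ℕ, (z ^ q)⁻¹ = z ^ (Fintype.card K) ^ j ↔ c ^ (2 * j) = -c := fun j => by
    rw [show ((z ^ q)⁻¹ = z ^ (Fintype.card K) ^ j ↔ z ^ q * z ^ (Fintype.card K) ^ j = 1) from
      ⟨fun h' => by rw [← h']; exact mul_inv_cancel₀ (pow_ne_zero _ hz0), fun h' => (eq_inv_of_mul_eq_one_right h').symm⟩,
      ← pow_add, ← orderOf_dvd_iff_pow_eq_one, hzo,
      ← ZMod.natCast_eq_zero_iff, Nat.cast_add, Nat.cast_pow, h.card, Nat.cast_pow, ← hc, ← pow_mul, add_comm,
      add_eq_zero_iff_eq_neg]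
  have hconj : ∀ j : ℕ, aeval (z ^ (Fintype.card K) ^ j) f = 0 := fun j => by
    induction j with
    | zero => rw [pow_zero, pow_one]; exact AdjoinRoot.eval₂_root f
    | succ j ih =>
      rw [pow_succ, pow_mul, show (z ^ Fintype.card K ^ j) ^ Fintype.card K =
        FiniteField.frobeniusAlgHom K (AdjoinRoot f) (z ^ Fintype.card K ^ j) from rfl,
        Polynomial.aeval_algHom_apply, ih, map_zero]
  have hi0 := i_pos h
  constructor
  · intro hfix
    rw [hfix] at hwroot
    set R : Finset (AdjoinRoot f) := (Finset.range (bDeg i)).image fun j => z ^ (Fintype.card K) ^ j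
    have hRcard : R.card = bDeg i := by
      rw [Finset.card_image_of_injOn, Finset.card_range]
      intro a ha a' ha' heq
      simp only [Finset.coe_range, Set.mem_Iio] at ha ha'
      rw [hzz.pow_eq_pow_iff_modEq, hzo, ← ZMod.natCast_eq_natCast_iff, he] at heq
      simp only [Nat.cast_pow] at heq
      rw [← Nat.cast_pow, ← ZMod.coe_unitOfCoprime _ (hpr.pow_left e)] at heq
      refine pow_injOn_Iio_orderOf (G := (ZMod r)ˣ) (x := ZMod.unitOfCoprime _ (hpr.pow_left e))
        (by rwa [Set.mem_Iio, hord]) (by rwa [Set.mem_Iio, hord]) ?_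
      exact Units.ext (by rw [Units.val_pow_eq_pow_val, Units.val_pow_eq_pow_val]; exact heq)
    have hroots : R ⊆ (f.map (algebraMap K (AdjoinRoot f))).roots.toFinset := by
      intro x hx
      obtain ⟨j, -, rfl⟩ := Finset.mem_image.1 hx
      rw [Multiset.mem_toFinset, mem_roots (map_monic_ne_zero hfm), IsRoot.def, eval_map, ← Polynomial.aeval_def]
      exact hconj j
    have hle : (f.map (algebraMap K (AdjoinRoot f))).roots.toFinset.card ≤ bDeg i :=
      (Multiset.toFinset_card_le _).trans ((card_roots' _).trans (by rw [natDegree_map, hfd]))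
    have heq := Finset.eq_of_subset_of_card_le hroots (by rw [hRcard]; exact hle)
    have hw : (z ^ q)⁻¹ ∈ R := by
      rw [heq, Multiset.mem_toFinset, mem_roots (map_monic_ne_zero hfm), IsRoot.def, eval_map, ← Polynomial.aeval_def]
      exact hwroot
    obtain ⟨j, -, hj⟩ := Finset.mem_image.1 hw
    have hjc := (hpow j).1 hj.symm
    by_contra h4
    have hee : c ^ (2 * j + (i - 1)) = -1 := by
      rw [pow_add, hjc, neg_mul, ← pow_succ', Nat.sub_add_cancel hi0, hci]
    set E := 2 * j + (i - 1) with hE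
    have h2 : i ∣ 2 * E := by
      have h' : c ^ (2 * E) = 1 := by rw [two_mul, pow_add, hee, neg_one_mul, neg_neg]
      exact h.hi ▸ orderOf_dvd_of_pow_eq_one h'
    have h3 : ¬ i ∣ E := fun hd => by
      obtain ⟨k, hk⟩ := hd
      rw [hk, pow_mul, hci, one_pow] at hee
      have h20 : ((2 : ℕ) : ZMod r) = 0 := by push_cast; linear_combination hee
      exact h.odd ((Nat.prime_dvd_prime_iff_eq h.prime Nat.prime_two).1 ((ZMod.natCast_eq_zero_iff _ _).1 h20))
    rcases Nat.even_or_odd i with hev | hodd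
    · obtain ⟨l, hl⟩ : ∃ l, i = 4 * l := ⟨i / 4, by obtain ⟨a, ha⟩ := hev; omega⟩
      obtain ⟨k, hk⟩ := h2
      rw [hl, mul_assoc] at hk
      have hk' : 2 * (l * k) = E := by omega
      omega
    · exact h3 ((Nat.coprime_two_right.2 hodd).dvd_of_dvd_mul_left h2)
  · intro h4
    obtain ⟨l, hl⟩ : ∃ l, i = 2 * (2 * l + 1) := ⟨i / 4, by omega⟩
    have h1 : c ^ (2 * l + 1) ≠ 1 := fun h' => by
      have h'' := orderOf_dvd_of_pow_eq_one h'
      rw [← h.hi] at h''
      have := Nat.le_of_dvd (by omega) h''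
      omega
    have h2 : c ^ (2 * l + 1) = -1 := by
      refine (mul_self_eq_one_iff.1 ?_).resolve_left h1
      rw [← pow_add, ← two_mul, ← hl, hci]
    have h3 : c ^ (2 * (l + 1)) = -c := by
      rw [show 2 * (l + 1) = 2 * l + 1 + 1 by ring, pow_succ, h2, neg_one_mul]
    have hfw : aeval (z ^ q)⁻¹ f = 0 := by rw [(hpow _).2 h3]; exact hconj _
    rw [← hτw]
    exact (minpoly.eq_of_irreducible_of_monic hfi hfw hfm).symm

/-- The basic self-dual polynomial of a factor. -/
noncomputable def basic (hK : Fintype.card K = q ^ 2) (i : ℕ) (f : K[X]) : K[X] :=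
  if i % 4 = 2 then f else f * tau hK f

theorem basic_data {f : K[X]} (hf : f ∈ factorSet K r) :
    (basic h.card i f).Monic ∧ (basic h.card i f).natDegree = cDeg i ∧
      tau h.card (basic h.card i f) = basic h.card i f ∧ (basic h.card i f).eval 1 ≠ 0 := by
  obtain ⟨hm, hi', hd, -⟩ := mem_data (base h) hf
  obtain ⟨hτ, hiff⟩ := tau_mem h hf
  have he : ∀ g ∈ factorSet K r, g.eval 1 ≠ 0 := fun g hg h1 => X_sub_one_notMem (base h) (by
    have := Polynomial.eq_of_monic_of_associated (monic_X_sub_C 1) (mem_data (base h) hg).1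
      ((irreducible_X_sub_C 1).associated_of_dvd (mem_data (base h) hg).2.1 (dvd_iff_isRoot.2 h1))
    rwa [this])
  unfold basic
  split_ifs with h4
  · exact ⟨hm, by rw [hd, (deg_two h4).2.1], hiff.2 h4, he f hf⟩
  · refine ⟨hm.mul (mem_data (base h) hτ).1, ?_, ?_, by rw [eval_mul]; exact mul_ne_zero (he f hf) (he _ hτ)⟩
    · rw [hm.natDegree_mul (mem_data (base h) hτ).1, hd, (mem_data (base h) hτ).2.2.1, deg_other h4, two_mul]
    · rw [tau, cdual_mul]
      show tau h.card f * tau h.card (tau h.card f) = _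
      rw [tau_tau h hf, mul_comm]

/-- The basic self-dual polynomials. -/
noncomputable def basics (hK : Fintype.card K = q ^ 2) (r i : ℕ) : Finset K[X] := by
  classical exact (factorSet K r).image (basic hK i)

theorem mem_basics {hK : Fintype.card K = q ^ 2} {u : K[X]} :
    u ∈ basics hK r i ↔ ∃ f ∈ factorSet K r, basic hK i f = u := by
  classical
  simp [basics]

include h in
theorem basics_nonempty : ∃ f : K[X], f ∈ factorSet K r := by
  by_contra hne
  push Not at hne
  have h0 : (factorSet K r).card = 0 := Finset.card_eq_zero.2 (Finset.eq_empty_of_forall_notMem hne)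
  rw [card_factorSet (base h)] at h0
  have h1 := (base h).ht
  rw [h0, zero_mul] at h1
  have := h.prime.two_le
  omega

theorem prod_data {N : Multiset K[X]} (hN : ∀ u ∈ N, u ∈ basics h.card r i) :
    N.prod.Monic ∧ N.prod.natDegree = cDeg i * N.card ∧ N.prod.eval 1 ≠ 0 ∧ tau h.card N.prod = N.prod := by
  induction N using Multiset.induction with
  | empty => exact ⟨monic_one, by simp, by simp, by rw [Multiset.prod_zero, tau_one]⟩
  | cons u N ih =>
    obtain ⟨h1, h2, h3, h4⟩ := ih fun v hv => hN v (Multiset.mem_cons_of_mem hv)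
    obtain ⟨f, hf, rfl⟩ := mem_basics.1 (hN u (Multiset.mem_cons_self _ _))
    obtain ⟨hm, hd, hs, he⟩ := basic_data h hf
    rw [Multiset.prod_cons]
    refine ⟨hm.mul h1, ?_, by rw [eval_mul]; exact mul_ne_zero he h3, ?_⟩
    · rw [hm.natDegree_mul h1, hd, h2, Multiset.card_cons]; ring
    · show cdual _ _ = _
      rw [cdual_mul]
      exact congrArg₂ (· * ·) hs h4

/-- Self-dual monic polynomials of degree `n` all whose factors divide `X ^ r - 1`. -/
def selfDual (hK : Fintype.card K = q ^ 2) (r n : ℕ) : Set K[X] :=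
  {P | P.Monic ∧ P.natDegree = n ∧ tau hK P = P ∧ ∀ f : K[X], f.Monic → Irreducible f → f ∣ P → f ∣ X ^ r - 1}

theorem shape {n : ℕ} {P : K[X]} (hP : P ∈ selfDual h.card r n) :
    ∃ (N : Multiset K[X]) (k : ℕ), (∀ u ∈ N, u ∈ basics h.card r i) ∧
      P = N.prod * (X - Polynomial.C 1) ^ k ∧ cDeg i * N.card + k = n := by
  classical
  obtain ⟨hP, hPd, hPs, hPf⟩ := hP
  have key : ∀ d, ∀ Q : K[X], Q.natDegree = d → Q.Monic → tau h.card Q = Q →
      (∀ f : K[X], f.Monic → Irreducible f → f ∣ Q → f ∣ X ^ r - 1) →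
      ∃ (N : Multiset K[X]) (k : ℕ), (∀ u ∈ N, u ∈ basics h.card r i) ∧
        Q = N.prod * (X - Polynomial.C 1) ^ k := by
    intro d
    induction d using Nat.strong_induction_on with
    | _ d ih =>
    intro Q hd hQ hQs hQf
    rcases Nat.eq_zero_or_pos d with rfl | hpos
    · exact ⟨0, 0, by simp, by rw [hQ.natDegree_eq_zero.1 hd]; simp⟩
    obtain ⟨f, hfm, hfi, Q', hQ'⟩ := Polynomial.exists_monic_irreducible_factor Q
      (fun hu => by rw [Polynomial.natDegree_eq_zero_of_isUnit hu] at hd; omega)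
    have step : ∀ u : K[X], u.Monic → 0 < u.natDegree → tau h.card u = u → u ∣ Q →
        ∃ (N : Multiset K[X]) (k : ℕ), (∀ v ∈ N, v ∈ basics h.card r i) ∧
          Q = u * (N.prod * (X - Polynomial.C 1) ^ k) := by
      intro u hu hud hus ⟨Q₁, hQ₁⟩
      have hQ₁m : Q₁.Monic := hu.of_mul_monic_left (hQ₁ ▸ hQ)
      obtain ⟨N, k, hN, hNk⟩ := ih Q₁.natDegree (by rw [← hd, hQ₁, hu.natDegree_mul hQ₁m]; omega) Q₁ rfl hQ₁m
        (by
          refine mul_left_cancel₀ hu.ne_zero ?_
          calc u * tau h.card Q₁ = tau h.card u * tau h.card Q₁ := by rw [hus]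
            _ = tau h.card (u * Q₁) := (cdual_mul _ u Q₁).symm
            _ = u * Q₁ := by rw [← hQ₁, hQs])
        (fun f' h1 h2 h3 => hQf f' h1 h2 (h3.trans (hQ₁ ▸ dvd_mul_left Q₁ u)))
      exact ⟨N, k, hN, by rw [hQ₁, hNk]⟩
    rcases (dvd_X_pow_iff (base h) hfm hfi).1 (hQf f hfm hfi (hQ' ▸ dvd_mul_right f Q')) with rfl | hfT
    · obtain ⟨N, k, hN, hQN⟩ := step _ (monic_X_sub_C 1) (by rw [natDegree_X_sub_C]; exact one_pos)
        (UnitPrimeOrderClasses.cdual_X_sub_one _) (hQ' ▸ dvd_mul_right _ Q')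
      exact ⟨N, k + 1, hN, by rw [hQN]; ring⟩
    · have hdiv : basic h.card i f ∣ Q := by
        unfold basic
        split_ifs with he
        · rw [hQ']; exact dvd_mul_right _ _
        · refine IsCoprime.mul_dvd (hfi.coprime_iff_not_dvd.2 fun hd' => he ?_) (hQ' ▸ dvd_mul_right _ _) ?_
          · exact (tau_mem h hfT).2.1 (Polynomial.eq_of_monic_of_associated hfm
              (mem_data (base h) (tau_mem h hfT).1).1
              (hfi.associated_of_dvd (mem_data (base h) (tau_mem h hfT).1).2.1 hd')).symm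
          · rw [← hQs, hQ']; show _ ∣ cdual _ (f * Q'); rw [cdual_mul]; exact dvd_mul_right _ _
      obtain ⟨hum, hud, hus, -⟩ := basic_data h hfT
      obtain ⟨N, k, hN, hQN⟩ := step _ hum (by rw [hud]; exact c_pos h) hus hdiv
      refine ⟨basic h.card i f ::ₘ N, k, fun v hv => ?_, by rw [hQN, Multiset.prod_cons, mul_assoc]⟩
      rcases Multiset.mem_cons.1 hv with rfl | hv
      exacts [mem_basics.2 ⟨f, hfT, rfl⟩, hN v hv]
  obtain ⟨N, k, hN, hNk⟩ := key _ P rfl hP hPs hPf
  refine ⟨N, k, hN, hNk, ?_⟩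
  obtain ⟨h1, h2, -⟩ := prod_data h hN
  rw [hNk, h1.natDegree_mul ((monic_X_sub_C 1).pow k), h2, natDegree_pow, natDegree_X_sub_C, mul_one] at hPd
  exact hPd

theorem mem_selfDual {N : Multiset K[X]} (hN : ∀ u ∈ N, u ∈ basics h.card r i) (k : ℕ) :
    N.prod * (X - Polynomial.C 1) ^ k ∈ selfDual h.card r (cDeg i * N.card + k) := by
  classical
  obtain ⟨h1, h2, -, h4⟩ := prod_data h hN
  refine ⟨h1.mul ((monic_X_sub_C 1).pow k), ?_, ?_, fun g hg hgi hd => (dvd_X_pow_iff (base h) hg hgi).2 ?_⟩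
  · rw [h1.natDegree_mul ((monic_X_sub_C 1).pow k), h2, natDegree_pow, natDegree_X_sub_C, mul_one]
  · show cdual _ _ = _
    rw [cdual_mul]
    exact congrArg₂ (· * ·) h4 (tau_X_sub_one_pow h.card k)
  · rcases hgi.prime.dvd_or_dvd hd with hd | hd
    · obtain ⟨u, hu, hgu⟩ := (hgi.prime).exists_mem_multiset_dvd hd
      obtain ⟨f, hf, rfl⟩ := mem_basics.1 (hN u hu)
      have hcase : g ∣ f ∨ g ∣ tau h.card f := by
        unfold basic at hgu
        split_ifs at hgu
        exacts [Or.inl hgu, hgi.prime.dvd_or_dvd hgu]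
      rcases hcase with hc | hc
      · exact Or.inr (Polynomial.eq_of_monic_of_associated hg (mem_data (base h) hf).1
          (hgi.associated_of_dvd (mem_data (base h) hf).2.1 hc) ▸ hf)
      · have hτ := (tau_mem h hf).1
        exact Or.inr (Polynomial.eq_of_monic_of_associated hg (mem_data (base h) hτ).1
          (hgi.associated_of_dvd (mem_data (base h) hτ).2.1 hc) ▸ hτ)
    · exact Or.inl (Polynomial.eq_of_monic_of_associated hg (monic_X_sub_C 1)
        (hgi.associated_of_dvd (irreducible_X_sub_C 1) (hgi.prime.dvd_of_dvd_pow hd)))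

theorem mult_one {N : Multiset K[X]} (hN : ∀ u ∈ N, u ∈ basics h.card r i) (k : ℕ) :
    (N.prod * (X - Polynomial.C (1 : K)) ^ k).rootMultiplicity 1 = k := by
  obtain ⟨h1, -, h3, -⟩ := prod_data h hN
  rw [rootMultiplicity_mul_X_sub_C_pow h1.ne_zero, rootMultiplicity_eq_zero (fun e => h3 e), zero_add]

/-- The root `1` has the same multiplicity in a polynomial and in its dual. -/
theorem mult_tau (hK : Fintype.card K = q ^ 2) {D : K[X]} (hD : D.Monic) (h0 : D.coeff 0 ≠ 0) :
    (tau hK D).rootMultiplicity 1 = D.rootMultiplicity 1 := by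
  have hle : ∀ {E : K[X]}, E.Monic → E.coeff 0 ≠ 0 → E.rootMultiplicity 1 ≤ (tau hK E).rootMultiplicity 1 := by
    intro E hE hE0
    refine (le_rootMultiplicity_iff (cdual_monic _ hE0).ne_zero).2 ?_
    obtain ⟨E₁, hE₁⟩ := pow_rootMultiplicity_dvd E 1
    refine ⟨tau hK E₁, ?_⟩
    conv_lhs => rw [hE₁]
    show cdual _ _ = _
    rw [cdual_mul]
    exact congrArg (· * _) (tau_X_sub_one_pow hK _)
  refine le_antisymm ?_ (hle hD h0)
  have h1 := hle (cdual_monic (qFrob hK) h0) (by
    rw [coeff_zero_cdual _ _ hD]; exact inv_ne_zero ((_root_.map_ne_zero _).2 h0))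
  rwa [show tau hK (cdual (qFrob hK) D) = D from cdual_cdual _ (qFrob_qFrob hK) hD h0] at h1

/-- When `i ≡ 2 (mod 4)` every product of factors is self-dual. -/
theorem tau_fixed (h4 : i % 4 = 2) : ∀ {D : K[X]}, D.Monic →
    (∀ f : K[X], f.Monic → Irreducible f → f ∣ D → f ∣ X ^ r - 1) → tau h.card D = D := by
  intro D hD hf
  induction hd : D.natDegree using Nat.strong_induction_on generalizing D with
  | _ d ih =>
  rcases Nat.eq_zero_or_pos d with rfl | hpos
  · rw [hD.natDegree_eq_zero.1 hd, tau_one]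
  obtain ⟨g, hgm, hgi, D', rfl⟩ := Polynomial.exists_monic_irreducible_factor D
    (fun hu => by rw [natDegree_eq_zero_of_isUnit hu] at hd; omega)
  have hD' : D'.Monic := hgm.of_mul_monic_left hD
  have hgd := hgi.natDegree_pos
  rw [hgm.natDegree_mul hD'] at hd
  have hg : tau h.card g = g := by
    rcases (dvd_X_pow_iff (base h) hgm hgi).1 (hf g hgm hgi (dvd_mul_right _ _)) with rfl | hgT
    · exact UnitPrimeOrderClasses.cdual_X_sub_one _
    · exact (tau_mem h hgT).2.2 h4
  show cdual _ _ = _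
  rw [cdual_mul]
  exact congrArg₂ (· * ·) hg (ih D'.natDegree (by omega) hD' (fun f a b c => hf f a b (c.trans (dvd_mul_left _ _))) rfl)

theorem nf_prod [DecidableEq K] {N : Multiset K[X]} (hN : ∀ u ∈ N, u.Monic ∧ Irreducible u) :
    normalizedFactors N.prod = N := by
  induction N using Multiset.induction with
  | empty => simp
  | cons u N ih =>
    obtain ⟨hu, hui⟩ := hN u (Multiset.mem_cons_self _ _)
    have hN' : ∀ v ∈ N, v.Monic ∧ Irreducible v := fun v hv => hN v (Multiset.mem_cons_of_mem hv)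
    rw [Multiset.prod_cons, normalizedFactors_mul hui.ne_zero (Multiset.prod_ne_zero fun h0 =>
      (hN' 0 h0).2.ne_zero rfl), normalizedFactors_irreducible hui, hu.normalize_eq_self, ih hN',
      Multiset.singleton_add]

/-- A square dividing a product: the factors occur twice. -/
theorem sq_le (h4 : i % 4 = 2) {N N₀ : Multiset K[X]} (hN : ∀ u ∈ N, u ∈ basics h.card r i)
    (hN₀ : ∀ u ∈ N₀, u ∈ basics h.card r i) {k l : ℕ}
    (hd : (N₀.prod * (X - Polynomial.C 1) ^ l) * (N₀.prod * (X - Polynomial.C 1) ^ l) ∣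
      N.prod * (X - Polynomial.C 1) ^ k) : N₀ + N₀ ≤ N := by
  classical
  have hb : ∀ {M : Multiset K[X]}, (∀ u ∈ M, u ∈ basics h.card r i) → ∀ u ∈ M, u ∈ factorSet K r := fun hM u hu => by
    obtain ⟨f, hf, rfl⟩ := mem_basics.1 (hM u hu)
    rwa [basic, if_pos h4]
  have hall : ∀ {M : Multiset K[X]}, (∀ u ∈ M, u ∈ basics h.card r i) → ∀ (j : ℕ),
      normalizedFactors (M.prod * (X - Polynomial.C (1 : K)) ^ j) = M + Multiset.replicate j (X - Polynomial.C 1) := by
    intro M hM j
    rw [← Multiset.prod_replicate, ← Multiset.prod_add, nf_prod]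
    intro u hu
    rcases Multiset.mem_add.1 hu with hu | hu
    · exact ⟨(mem_data (base h) (hb hM u hu)).1, (mem_data (base h) (hb hM u hu)).2.1⟩
    · rw [Multiset.eq_of_mem_replicate hu]; exact ⟨monic_X_sub_C 1, irreducible_X_sub_C 1⟩
  have hne : ∀ {M : Multiset K[X]}, (∀ u ∈ M, u ∈ basics h.card r i) → ∀ (j : ℕ),
      M.prod * (X - Polynomial.C (1 : K)) ^ j ≠ 0 := fun hM j =>
    ((prod_data h hM).1.mul ((monic_X_sub_C 1).pow j)).ne_zero
  rw [dvd_iff_normalizedFactors_le_normalizedFactors (mul_ne_zero (hne hN₀ l) (hne hN₀ l)) (hne hN k),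
    normalizedFactors_mul (hne hN₀ l) (hne hN₀ l), hall hN₀, hall hN] at hd
  refine Multiset.le_iff_count.2 fun u => ?_
  have hc := Multiset.le_iff_count.1 hd u
  simp only [Multiset.count_add, Multiset.count_replicate] at hc
  by_cases hu : X - Polynomial.C (1 : K) = u
  · rw [Multiset.count_add, Multiset.count_eq_zero.2 fun hm => X_sub_one_notMem (base h) (hu ▸ hb hN₀ u hm)]
    omega
  · simp only [if_neg hu] at hc
    rw [Multiset.count_add]
    omega

/-- Condition (with `c`) for self-dual divisors of degree `m`. -/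
theorem exists_nd {n m : ℕ} (hmn : m ≤ n) (hmod : m % cDeg i ≤ n % cDeg i) {P : K[X]}
    (hP : P ∈ selfDual h.card r n) : ∃ D : K[X], D.Monic ∧ D.natDegree = m ∧ tau h.card D = D ∧ D ∣ P := by
  obtain ⟨N, k, hN, rfl, hd⟩ := shape h hP
  have hk : n % cDeg i ≤ k := by
    rw [← hd, Nat.add_comm, Nat.add_mul_mod_self_left]; exact Nat.mod_le _ _
  have hmd := Nat.div_add_mod m (cDeg i)
  obtain ⟨e, l, he, hl, hel⟩ : ∃ e l, e ≤ N.card ∧ l ≤ k ∧ cDeg i * e + l = m := by
    rcases le_or_gt (m / cDeg i) N.card with hle | hlt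
    · exact ⟨m / cDeg i, m % cDeg i, hle, by omega, hmd⟩
    · have := Nat.mul_le_mul_left (cDeg i) hlt.le
      exact ⟨N.card, m - cDeg i * N.card, le_rfl, by omega, by omega⟩
  obtain ⟨N₁, hN₁, hc⟩ : ∃ N₁ ≤ N, N₁.card = e := by
    refine ⟨↑(N.toList.take e), ?_, ?_⟩
    · conv_rhs => rw [← N.coe_toList]
      rw [Multiset.coe_le]; exact (List.take_sublist _ _).subperm
    · rw [Multiset.coe_card, List.length_take, Multiset.length_toList]; exact min_eq_left he
  have hmem := mem_selfDual h (fun u hu => hN u (Multiset.mem_of_le hN₁ hu)) l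
  refine ⟨_, hmem.1, by rw [hmem.2.1, hc, hel], hmem.2.2.1, ?_⟩
  exact mul_dvd_mul (Multiset.prod_dvd_prod_of_le hN₁) (pow_dvd_pow _ hl)

/-- Condition for divisors `D · D†` with `D` of degree `m`. -/
theorem exists_iso {n m : ℕ} (hmn : 2 * m ≤ n) (hmod : 2 * (m % bDeg i) ≤ n % cDeg i)
    (h2 : i % 4 = 2 → (r - 1) / bDeg i + 2 * (m / bDeg i) ≤ n / bDeg i) {P : K[X]}
    (hP : P ∈ selfDual h.card r n) : ∃ D : K[X], D.Monic ∧ D.natDegree = m ∧ D * tau h.card D ∣ P := by
  classical
  obtain ⟨N, k, hN, rfl, hd⟩ := shape h hP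
  have hk : n % cDeg i ≤ k := by
    rw [← hd, Nat.add_comm, Nat.add_mul_mod_self_left]; exact Nat.mod_le _ _
  have hmd := Nat.div_add_mod m (bDeg i)
  -- `M` : the available pairs
  obtain ⟨M, hM, hMd, hMe⟩ : ∃ M : Multiset K[X], (∀ f ∈ M, f ∈ factorSet K r) ∧
      (M.map fun f => f * tau h.card f).prod ∣ N.prod ∧
      (m / bDeg i ≤ M.card ∨ 2 * m ≤ 2 * (bDeg i * M.card) + k) := by
    by_cases h4 : i % 4 = 2
    · obtain ⟨hib, hcb, -⟩ := deg_two h4
      obtain ⟨M, S, rfl, -, hS, hM, hS'⟩ := SelfRecipDivisors.exists_pairs (basics h.card r i) N hN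
      have hb : ∀ u ∈ M, u ∈ factorSet K r := fun u hu => by
        obtain ⟨f, hf, rfl⟩ := mem_basics.1 (hM u hu)
        rwa [basic, if_pos h4]
      refine ⟨M, hb, ?_, ?_⟩
      · rw [Multiset.prod_map_mul, Multiset.map_id', Multiset.map_congr rfl (g := fun u => u)
          (fun u hu => (tau_mem h (hb u hu)).2.2 h4), Multiset.map_id', Multiset.prod_add, Multiset.prod_add]
        exact dvd_mul_right _ _
      · refine or_iff_not_imp_left.2 fun hlt => ?_
        push Not at hlt
        have hSc : S.card ≤ (r - 1) / bDeg i := hS.trans (by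
          rw [← card_factorSet (base h), basics]; exact Finset.card_image_le)
        have e1 := Nat.mul_le_mul_left (bDeg i) hSc
        have e2 := Nat.mul_le_mul_left (bDeg i) (h2 h4)
        have e3 := Nat.div_add_mod n (bDeg i)
        simp only [Multiset.card_add, hcb] at hd hmod
        rw [Nat.mul_add, ← mul_assoc, mul_comm (bDeg i) 2, mul_assoc] at e2
        rw [Nat.mul_add, Nat.mul_add] at hd
        omega
    · have hex : ∀ u ∈ N, ∃ f ∈ factorSet K r, f * tau h.card f = u := fun u hu => by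
        obtain ⟨f, hf, rfl⟩ := mem_basics.1 (hN u hu)
        exact ⟨f, hf, by rw [basic, if_neg h4]⟩
      choose g hg hgu using hex
      refine ⟨N.attach.map fun u => g u.1 u.2, fun f hf => ?_, ?_, Or.inr ?_⟩
      · obtain ⟨u, -, rfl⟩ := Multiset.mem_map.1 hf; exact hg _ _
      · rw [Multiset.map_map, show N.attach.map ((fun f => f * tau h.card f) ∘ fun u => g u.1 u.2) = N from
          (Multiset.map_congr rfl fun u _ => hgu u.1 u.2).trans (Multiset.attach_map_val N)]
      · rw [Multiset.card_map, Multiset.card_attach, ← mul_assoc, ← deg_other h4]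
        omega
  obtain ⟨e, l, he, hl, hel⟩ : ∃ e l, e ≤ M.card ∧ 2 * l ≤ k ∧ bDeg i * e + l = m := by
    rcases le_or_gt (m / bDeg i) M.card with hle | hlt
    · exact ⟨m / bDeg i, m % bDeg i, hle, by omega, hmd⟩
    · have := Nat.mul_le_mul_left (bDeg i) hlt.le
      have := hMe.resolve_left (not_le.2 hlt)
      exact ⟨M.card, m - bDeg i * M.card, le_rfl, by omega, by omega⟩
  obtain ⟨M₁, hM₁, hc⟩ : ∃ M₁ ≤ M, M₁.card = e := by
    refine ⟨↑(M.toList.take e), ?_, ?_⟩
    · conv_rhs => rw [← M.coe_toList]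
      rw [Multiset.coe_le]; exact (List.take_sublist _ _).subperm
    · rw [Multiset.coe_card, List.length_take, Multiset.length_toList]; exact min_eq_left he
  have hmon : ∀ f ∈ M₁, f.Monic := fun f hf => (mem_data (base h) (hM f (Multiset.mem_of_le hM₁ hf))).1
  have hprod : M₁.prod.Monic := by simpa using monic_multiset_prod_of_monic M₁ id hmon
  refine ⟨M₁.prod * (X - Polynomial.C 1) ^ l, hprod.mul ((monic_X_sub_C 1).pow l), ?_, ?_⟩
  · rw [hprod.natDegree_mul ((monic_X_sub_C 1).pow l), natDegree_multiset_prod_of_monic M₁ hmon,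
      Multiset.map_congr rfl (g := fun _ => bDeg i) (fun f hf => (mem_data (base h) (hM f (Multiset.mem_of_le hM₁ hf))).2.2.1),
      Multiset.map_const', Multiset.sum_replicate, natDegree_pow, natDegree_X_sub_C, smul_eq_mul, hc, mul_one,
      mul_comm, hel]
  · have hτM : tau h.card M₁.prod = (M₁.map (tau h.card)).prod := by
      clear hc hprod hmon hM₁
      induction M₁ using Multiset.induction with
      | empty => rw [Multiset.prod_zero, Multiset.map_zero, Multiset.prod_zero, tau_one]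
      | cons u M₁ ih =>
        rw [Multiset.prod_cons, Multiset.map_cons, Multiset.prod_cons, ← ih]
        exact cdual_mul _ _ _
    rw [show tau h.card (M₁.prod * (X - Polynomial.C 1) ^ l) = tau h.card M₁.prod * (X - Polynomial.C 1) ^ l from
      (cdual_mul _ _ _).trans (congrArg (_ * ·) (tau_X_sub_one_pow h.card l)), hτM, mul_mul_mul_comm, ← pow_add]
    refine mul_dvd_mul ((?_ : M₁.prod * (M₁.map (tau h.card)).prod ∣ _).trans hMd) (pow_dvd_pow _ (by omega))
    rw [show M₁.prod * (M₁.map (tau h.card)).prod = (M₁.map fun f => f * tau h.card f).prod by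
      rw [Multiset.prod_map_mul, Multiset.map_id']]
    exact Multiset.prod_dvd_prod_of_le (Multiset.map_le_map hM₁)

theorem ne_trivial {N : Multiset K[X]} (hN : ∀ u ∈ N, u ∈ basics h.card r i) (hpos : 0 < N.card) (k : ℕ) :
    N.prod * (X - Polynomial.C 1) ^ k ≠ (X - Polynomial.C 1) ^ (cDeg i * N.card + k) := fun heq => by
  have h1 := congrArg (fun Q : K[X] => Q.rootMultiplicity 1) heq
  simp only [mult_one h hN, rootMultiplicity_X_sub_C_pow] at h1
  have := Nat.mul_pos (c_pos h) hpos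
  omega

/-- A polynomial without self-dual divisor of degree `m`. -/
theorem bad_nd {n m : ℕ} (hcn : cDeg i ≤ n) (hmod : n % cDeg i < m % cDeg i) :
    ∃ P ∈ selfDual h.card r n, P ≠ (X - Polynomial.C 1) ^ n ∧
      ∀ D : K[X], D.Monic → tau h.card D = D → D ∣ P → D.natDegree ≠ m := by
  obtain ⟨f, hf⟩ := basics_nonempty h
  set N := Multiset.replicate (n / cDeg i) (basic h.card i f)
  have hN : ∀ u ∈ N, u ∈ basics h.card r i := fun u hu => by
    rw [Multiset.eq_of_mem_replicate hu]; exact mem_basics.2 ⟨f, hf, rfl⟩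
  have hP := mem_selfDual h hN (n % cDeg i)
  have hne := ne_trivial h hN (by rw [Multiset.card_replicate]; exact Nat.div_pos hcn (c_pos h)) (n % cDeg i)
  rw [Multiset.card_replicate, Nat.div_add_mod] at hP hne
  refine ⟨_, hP, hne, fun D hD hDs hDd hm => ?_⟩
  have hDmem : D ∈ selfDual h.card r m := ⟨hD, hm, hDs, fun g a b c => hP.2.2.2 g a b (c.trans hDd)⟩
  obtain ⟨N₁, l, hN₁, rfl, hl⟩ := shape h hDmem
  have h3 := (le_rootMultiplicity_iff hP.1.ne_zero).2 ((dvd_mul_left _ _).trans hDd)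
  rw [mult_one h hN] at h3
  have hlt : l < cDeg i := lt_of_le_of_lt h3 (Nat.mod_lt _ (c_pos h))
  rw [← hl, Nat.add_comm, Nat.add_mul_mod_self_left, Nat.mod_eq_of_lt hlt] at hmod
  omega

/-- The degree of `D` against the shape of `D · D†`. -/
theorem iso_degree {n m k : ℕ} {N : Multiset K[X]} (hN : ∀ u ∈ N, u ∈ basics h.card r i)
    (hP : N.prod * (X - Polynomial.C 1) ^ k ∈ selfDual h.card r n) {D : K[X]} (hD : D.Monic)
    (hDd : D * tau h.card D ∣ N.prod * (X - Polynomial.C 1) ^ k) (hm : D.natDegree = m) :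
    ∃ e l : ℕ, m = bDeg i * e + l ∧ 2 * l ≤ k ∧ l = D.rootMultiplicity 1 := by
  have h0 : D.coeff 0 ≠ 0 := fun h0 => by
    have hX : X ∣ N.prod * (X - Polynomial.C 1) ^ k := ((X_dvd_iff.2 h0).trans (dvd_mul_right _ _)).trans hDd
    exact coeff_zero_ne (base h) (hP.2.2.2 X monic_X irreducible_X hX) coeff_X_zero
  have hτm := cdual_monic (qFrob h.card) h0
  have hself : tau h.card (D * tau h.card D) = D * tau h.card D := by
    show cdual _ _ = _
    rw [cdual_mul, cdual_cdual _ (qFrob_qFrob h.card) hD h0, mul_comm]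
  have hmem : D * tau h.card D ∈ selfDual h.card r (2 * m) := ⟨hD.mul hτm, by
    rw [hD.natDegree_mul hτm, natDegree_cdual _ h0, hm, two_mul], hself,
    fun g a b c => hP.2.2.2 g a b (c.trans hDd)⟩
  obtain ⟨N₂, k₂, hN₂, heq, hk₂⟩ := shape h hmem
  have hk : k₂ = 2 * D.rootMultiplicity 1 := by
    rw [← mult_one h hN₂ k₂, ← heq, rootMultiplicity_mul (mul_ne_zero hD.ne_zero hτm.ne_zero),
      mult_tau h.card hD h0, two_mul]
  have h3 : k₂ ≤ k := by
    have h5 : (X - Polynomial.C (1 : K)) ^ k₂ ∣ D * tau h.card D := by rw [heq]; exact dvd_mul_left _ _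
    have h4 := (le_rootMultiplicity_iff hP.1.ne_zero).2 (h5.trans hDd)
    rwa [mult_one h hN] at h4
  refine ⟨if i % 4 = 2 then N₂.card / 2 else N₂.card, D.rootMultiplicity 1, ?_, by omega, rfl⟩
  split_ifs with h4
  · obtain ⟨-, hcb, hodd⟩ := deg_two h4
    rw [hcb, hk] at hk₂
    obtain ⟨w, hw⟩ : Even N₂.card := by
      have he : Even (bDeg i * N₂.card) := ⟨m - D.rootMultiplicity 1, by omega⟩
      exact (Nat.even_mul.1 he).resolve_left (Nat.not_even_iff_odd.2 hodd)
    rw [hw, show (w + w) / 2 = w by omega]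
    rw [hw, Nat.mul_add] at hk₂
    omega
  · rw [deg_other h4, hk, mul_assoc] at hk₂
    omega

/-- A polynomial without `D · D†`: the residue condition fails. -/
theorem bad_iso_mod {n m : ℕ} (hcn : cDeg i ≤ n) (hmod : n % cDeg i < 2 * (m % bDeg i)) :
    ∃ P ∈ selfDual h.card r n, P ≠ (X - Polynomial.C 1) ^ n ∧
      ∀ D : K[X], D.Monic → D * tau h.card D ∣ P → D.natDegree ≠ m := by
  obtain ⟨f, hf⟩ := basics_nonempty h
  set N := Multiset.replicate (n / cDeg i) (basic h.card i f)
  have hN : ∀ u ∈ N, u ∈ basics h.card r i := fun u hu => by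
    rw [Multiset.eq_of_mem_replicate hu]; exact mem_basics.2 ⟨f, hf, rfl⟩
  have hP := mem_selfDual h hN (n % cDeg i)
  have hne := ne_trivial h hN (by rw [Multiset.card_replicate]; exact Nat.div_pos hcn (c_pos h)) (n % cDeg i)
  rw [Multiset.card_replicate, Nat.div_add_mod] at hP hne
  refine ⟨_, hP, hne, fun D hD hDd hm => ?_⟩
  obtain ⟨e, l, hel, hl, -⟩ := iso_degree h hN hP hD hDd hm
  have hlb : l < bDeg i := by
    have := Nat.mod_lt n (c_pos h)
    by_cases h4 : i % 4 = 2
    · have := (deg_two h4).2.1; omega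
    · have := deg_other h4; omega
  rw [hel, Nat.mul_add_mod, Nat.mod_eq_of_lt hlb] at hmod
  omega

theorem arith_bad {n b s n' S e₁ k : ℕ} (hb : 0 < b) (hn' : n' = n / b) (hS : S = min s n')
    (he : e₁ = (n' - s) / 2) (hk : b * (S + 2 * e₁) + k = n) : k < 2 * b := by
  have hd := Nat.div_add_mod n b
  have hlt := Nat.mod_lt n hb
  rw [← hn'] at hd
  obtain ⟨δ, hδ, hδ1⟩ : ∃ δ, S + 2 * e₁ + δ = n' ∧ δ ≤ 1 := ⟨n' - (S + 2 * e₁), by omega, by omega⟩
  rw [← hδ, Nat.mul_add] at hd
  have := Nat.mul_le_mul_left b hδ1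
  omega

/-- A polynomial without `D · D†`: too many single factors. -/
theorem bad_iso_singles (h4 : i % 4 = 2) {n m : ℕ} (hbn : bDeg i ≤ n) (hbm : bDeg i ≤ m)
    (hlt : n / bDeg i < (r - 1) / bDeg i + 2 * (m / bDeg i)) :
    ∃ P ∈ selfDual h.card r n, P ≠ (X - Polynomial.C 1) ^ n ∧
      ∀ D : K[X], D.Monic → D * tau h.card D ∣ P → D.natDegree ≠ m := by
  classical
  obtain ⟨f, hf⟩ := basics_nonempty h
  have hb0 := b_pos h
  obtain ⟨hib, hcb, hbodd⟩ := deg_two h4
  set s := (r - 1) / bDeg i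
  have hbas : ∀ g ∈ factorSet K r, basic h.card i g = g := fun g _ => if_pos h4
  set S₀ := min s (n / bDeg i) with hS₀
  set e₁ := (n / bDeg i - s) / 2 with he₁
  obtain ⟨S, hS, hSc⟩ := Finset.exists_subset_card_eq (s := factorSet K r) (n := S₀)
    (by rw [card_factorSet (base h)]; exact min_le_left _ _)
  set N := S.val + Multiset.replicate (2 * e₁) f with hNdef
  have hN : ∀ u ∈ N, u ∈ basics h.card r i := fun u hu => by
    rcases Multiset.mem_add.1 hu with hu | hu
    · exact mem_basics.2 ⟨u, hS hu, hbas u (hS hu)⟩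
    · rw [Multiset.eq_of_mem_replicate hu]; exact mem_basics.2 ⟨f, hf, hbas f hf⟩
  have hNc : N.card = S₀ + 2 * e₁ := by
    rw [hNdef, Multiset.card_add, Multiset.card_replicate, ← hSc]; rfl
  have hle : bDeg i * (S₀ + 2 * e₁) ≤ n :=
    (Nat.mul_le_mul_left _ (by omega)).trans (Nat.mul_div_le n (bDeg i))
  set k := n - bDeg i * (S₀ + 2 * e₁) with hk
  have hP := mem_selfDual h hN k
  have hne := ne_trivial h hN (by
    have h1 : 0 < n / bDeg i := Nat.div_pos hbn hb0
    have h2 : 0 < s := Nat.div_pos (Nat.le_of_dvd (by have := h.prime.two_le; omega) ⟨_, ((base h).ht.symm.trans (mul_comm _ _))⟩) hb0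
    omega) k
  rw [hNc, hcb, Nat.add_sub_cancel' hle] at hP hne
  refine ⟨_, hP, hne, fun D hD hDd hm => ?_⟩
  have hfac : ∀ g : K[X], g.Monic → Irreducible g → g ∣ D → g ∣ X ^ r - 1 := fun g a b c =>
    hP.2.2.2 g a b ((c.trans (dvd_mul_right _ _)).trans hDd)
  have hfix := tau_fixed h h4 hD hfac
  obtain ⟨N₀, l, hN₀, rfl, hdeg⟩ := shape h (P := D) ⟨hD, hm, hfix, hfac⟩
  rw [hcb] at hdeg
  rw [hfix] at hDd
  have hle2 := sq_le h h4 hN hN₀ hDd
  have hl : 2 * l ≤ k := by
    have h5 := (le_rootMultiplicity_iff hP.1.ne_zero).2 ((mul_dvd_mul (dvd_mul_left _ N₀.prod) (dvd_mul_left _ N₀.prod)).trans hDd |> fun h6 => by rwa [← pow_add] at h6)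
    rw [mult_one h hN] at h5
    omega
  have hk2 : k < 2 * bDeg i := arith_bad hb0 rfl hS₀ he₁ (by rw [hk]; omega)
  -- singles cannot be used twice
  have hcount : N₀ + N₀ + S.val.filter (fun u => u ≠ f) ≤ N := Multiset.le_iff_count.2 fun u => by
    have h1 := Multiset.le_iff_count.1 hle2 u
    rw [hNdef, Multiset.count_add, Multiset.count_add] at h1
    rw [hNdef, Multiset.count_add, Multiset.count_add, Multiset.count_add, Multiset.count_filter]
    have hnd := Multiset.nodup_iff_count_le_one.1 S.nodup u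
    rw [Multiset.count_replicate] at h1 ⊢
    by_cases hu : u = f
    · rw [if_neg (not_not.2 hu)]; omega
    · rw [if_pos hu, if_neg (fun e => hu e.symm)] at *
      omega
  have hcard := Multiset.card_le_card hcount
  rw [Multiset.card_add, Multiset.card_add, hNc] at hcard
  have hfilt : S₀ ≤ (S.val.filter (fun u => u ≠ f)).card + 1 := by
    have h1 := congrArg Multiset.card (Multiset.filter_add_not (fun u => u ≠ f) S.val)
    rw [Multiset.card_add] at h1
    have h2 : (S.val.filter (fun u => ¬ u ≠ f)).card ≤ 1 := by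
      rw [Multiset.filter_congr (q := fun u => u = f) (fun u _ => not_not), Multiset.filter_eq',
        Multiset.card_replicate]
      exact Multiset.nodup_iff_count_le_one.1 S.nodup f
    have h3 : S.val.card = S₀ := hSc
    omega
  have hm1 : 1 ≤ m / bDeg i := Nat.div_pos hbm hb0
  have he : N₀.card ≤ e₁ := by omega
  have hlb : l < bDeg i := by omega
  have h6 : m / bDeg i = N₀.card := by
    rw [← hdeg, Nat.mul_add_div hb0, Nat.div_eq_of_lt hlb, add_zero]
  omega

end Cfsg.Agent.UnitSelfDualFactors
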