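import Cfsg.Agent.Lib.Classical.UnitInvariant
import Cfsg.Agent.Lib.Classical.UnitSelfDualFactors
import Cfsg.Agent.Lib.Classical.SubspaceDerange
import Cfsg.Agent.Lib.Classical.UnitCenter

/-!
Elements of prime order modulo scalars of `SU_n(q)`: normalisation and realisation.
-/

set_option autoImplicit false
set_option linter.unusedSectionVars false

namespace Cfsg.Agent.UnitDerangeBasic

open Polynomial Matrix Cfsg.Agent.Classical Cfsg.Agent.UnitaryConjugacy Cfsg.Agent.UnitaryDetCentralizer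
  Cfsg.Agent.UnitInvariant Cfsg.Agent.UnitSelfDualFactors

variable {K : Type*} [Field K] [Fintype K] {q n m r : ℕ}

/-- Every element of `SU_n` of order `r` modulo scalars has the property `Φ`. -/
def Fixes (q r : ℕ) (Φ : Matrix (Fin n) (Fin n) K → Prop) : Prop :=
  ∀ g : GU n K q, (g.1 : Matrix (Fin n) (Fin n) K).det = 1 →
    (∃ z : K, (g.1 : Matrix (Fin n) (Fin n) K) ^ r = z • 1) →
    (∀ z : K, (g.1 : Matrix (Fin n) (Fin n) K) ≠ z • 1) → Φ (g.1 : Matrix (Fin n) (Fin n) K)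

theorem fixes_iff (Φ : Matrix (Fin n) (Fin n) K → Prop) :
    (∀ x : Matrix.SpecialLinearGroup (Fin n) K, x ∈ Cfsg.SU n K q →
      (∃ z : K, ((x ^ r : Matrix.SpecialLinearGroup (Fin n) K) : Matrix (Fin n) (Fin n) K) =
        z • (1 : Matrix (Fin n) (Fin n) K)) →
      (∀ z : K, (x : Matrix (Fin n) (Fin n) K) ≠ z • (1 : Matrix (Fin n) (Fin n) K)) →
      Φ (x : Matrix (Fin n) (Fin n) K)) ↔ Fixes q r Φ := by
  constructor
  · intro H g hdet hz hns
    refine H ⟨_, hdet⟩ (fun u v => g.2 u v) ?_ hns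
    obtain ⟨z, hz⟩ := hz
    exact ⟨z, (Matrix.SpecialLinearGroup.coe_pow _ r).trans hz⟩
  · intro H x hx hz hns
    refine H ⟨Matrix.SpecialLinearGroup.toGL x, fun u v => hx u v⟩ x.2 ?_ hns
    obtain ⟨z, hz⟩ := hz
    rw [Matrix.SpecialLinearGroup.coe_pow] at hz
    exact ⟨z, hz⟩

theorem invariant_map {A : Matrix (Fin n) (Fin n) K} (W : Submodule K (Fin n → K)) :
    W.map (Matrix.toLin' A) ≤ W ↔ ∀ w ∈ W, A *ᵥ w ∈ W := by
  rw [Submodule.map_le_iff_le_comap]
  exact ⟨fun h w hw => by simpa using h hw, fun h w hw => by simpa using h w hw⟩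

theorem iso_smul {A : Matrix (Fin n) (Fin n) K} (d : K) (h : IsoFix q m A) : IsoFix q m (d • A) := by
  obtain ⟨W, h1, h2, h3⟩ := h
  exact ⟨W, h1, h2, fun w hw => by rw [Matrix.smul_mulVec]; exact W.smul_mem d (h3 w hw)⟩

theorem nd_smul {A : Matrix (Fin n) (Fin n) K} (d : K) (h : NdFix q m A) : NdFix q m (d • A) := by
  obtain ⟨W, h1, h2, h3⟩ := h
  exact ⟨W, h1, h2, fun w hw => by rw [Matrix.smul_mulVec]; exact W.smul_mem d (h3 w hw)⟩

theorem charpoly_scalar (a : K) : (a • (1 : Matrix (Fin n) (Fin n) K)).charpoly = (X - Polynomial.C a) ^ n := by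
  rw [Matrix.smul_one_eq_diagonal, Matrix.charpoly_diagonal, Finset.prod_const, Finset.card_univ, Fintype.card_fin]

theorem st_smul (hK : Fintype.card K = q ^ 2) (d : K) (A : Matrix (Fin n) (Fin n) K) :
    st hK (d • A) = qFrob hK d • st hK A := by
  ext i j; simp [st]

theorem qFrob_norm_one (hK : Fintype.card K = q ^ 2) {z : K} : qFrob hK z * z = 1 ↔ z ^ (q + 1) = 1 := by
  rw [qFrob_apply, ← pow_succ]

/-- Scalars of norm one in `GU_n`. -/
theorem exists_smul (hK : Fintype.card K = q ^ 2) (g : GU n K q) {d : K} (hd : d ^ (q + 1) = 1) :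
    ∃ y : GU n K q, (y.1 : Matrix (Fin n) (Fin n) K) = d • (g.1 : Matrix (Fin n) (Fin n) K) := by
  have h : st hK (d • (g.1 : Matrix (Fin n) (Fin n) K)) * (d • (g.1 : Matrix (Fin n) (Fin n) K)) = 1 := by
    rw [st_smul, smul_mul_smul_comm, (qFrob_norm_one hK).2 hd, one_smul, (mem_GU_iff hK _).1 g.2]
  exact ⟨⟨⟨_, _, mul_eq_one_comm.1 h, h⟩, (mem_GU_iff hK _).2 h⟩, rfl⟩

theorem norm_scalar (hK : Fintype.card K = q ^ 2) (hn : 1 ≤ n) (g : GU n K q) {z : K}
    (hz : (g.1 : Matrix (Fin n) (Fin n) K) ^ r = z • 1) : z ^ (q + 1) = 1 := by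
  have h := (mem_GU_iff hK _).1 (g ^ r).2
  rw [SubgroupClass.coe_pow, Units.val_pow_eq_pow_val, hz, st_smul, st_one, smul_mul_smul_comm, one_mul] at h
  have h' := congrFun (congrFun h ⟨0, hn⟩) ⟨0, hn⟩
  rw [Matrix.smul_apply, Matrix.one_apply_eq, smul_eq_mul, mul_one] at h'
  exact (qFrob_norm_one hK).1 h'

theorem norm_det (hK : Fintype.card K = q ^ 2) (g : GU n K q) :
    (g.1 : Matrix (Fin n) (Fin n) K).det ^ (q + 1) = 1 := by
  rw [pow_succ']
  exact det_unitary hK g.2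

variable {p : ℕ} [Fact p.Prime] [CharP K p]

theorem coprime_p (hK : Fintype.card K = q ^ 2) : (q + 1).Coprime p := by
  obtain ⟨e, -, he⟩ := FiniteField.card K p
  have hpq : p ∣ q := (Fact.out : p.Prime).dvd_of_dvd_pow (n := 2) (by
    rw [← hK, he]; exact dvd_pow_self p e.pos.ne')
  rw [Nat.coprime_comm, (Fact.out : p.Prime).coprime_iff_not_dvd]
  intro h
  exact (Fact.out : p.Prime).ne_one (Nat.dvd_one.1 ((Nat.dvd_add_right hpq).1 h))

theorem semisimple (hK : Fintype.card K = q ^ 2) (hr : r.Prime) (hrp : r ≠ p) (g : GU n K q) {z : K}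
    (hz : (g.1 : Matrix (Fin n) (Fin n) K) ^ r = z • 1) (hz1 : z ^ (q + 1) = 1) : (orderOf g).Coprime p := by
  refine Nat.Coprime.coprime_dvd_left (orderOf_dvd_of_pow_eq_one (n := r * (q + 1)) ?_)
    (((Nat.coprime_primes hr Fact.out).2 hrp).mul_left (coprime_p hK))
  refine Subtype.ext (Units.ext ?_)
  rw [SubgroupClass.coe_pow, Units.val_pow_eq_pow_val, pow_mul, hz, _root_.smul_pow, one_pow, hz1, one_smul]
  rfl

/-- Scalars which are `r`-th powers can be removed. -/
theorem exists_normalised (hK : Fintype.card K = q ^ 2) (g : GU n K q) {z d : K}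
    (hz : (g.1 : Matrix (Fin n) (Fin n) K) ^ r = z • 1) (hd : d ^ (q + 1) = 1) (hdz : d ^ r = z) :
    ∃ y : GU n K q, y ^ r = 1 ∧ (g.1 : Matrix (Fin n) (Fin n) K) = d • (y.1 : Matrix (Fin n) (Fin n) K) := by
  have hd0 : d ≠ 0 := fun h => by rw [h, zero_pow (Nat.succ_ne_zero q)] at hd; exact zero_ne_one hd
  obtain ⟨y, hy⟩ := exists_smul hK g (d := d⁻¹) (by rw [inv_pow, hd, inv_one])
  refine ⟨y, Subtype.ext (Units.ext ?_), by rw [hy, smul_smul, mul_inv_cancel₀ hd0, one_smul]⟩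
  rw [SubgroupClass.coe_pow, Units.val_pow_eq_pow_val, hy, _root_.smul_pow, hz, smul_smul, inv_pow, hdz,
    inv_mul_cancel₀ (fun h => pow_ne_zero r hd0 (hdz.trans h)), one_smul]
  rfl

theorem root_of_coprime {z : K} (hz : z ^ (q + 1) = 1) (hco : r.Coprime (q + 1)) :
    ∃ d : K, d ^ (q + 1) = 1 ∧ d ^ r = z := by
  obtain ⟨a, ha⟩ := exists_pow_eq_self_of_coprime (x := z) (n := r)
    (hco.coprime_dvd_right (orderOf_dvd_of_pow_eq_one hz))
  exact ⟨z ^ a, by rw [← pow_mul, mul_comm, pow_mul, hz, one_pow], by rw [← pow_mul, mul_comm, pow_mul, ha]⟩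

omit [Fintype K] in
theorem eq_one_of_pow {d : K} (hr : d ^ r = 1) (hq : d ^ (q + 1) = 1) (hco : r.Coprime (q + 1)) : d = 1 :=
  orderOf_eq_one_iff.1 (Nat.dvd_one.1 (hco ▸ Nat.dvd_gcd (orderOf_dvd_of_pow_eq_one hr) (orderOf_dvd_of_pow_eq_one hq)))

/-- A generator of the elements of norm one. -/
theorem exists_gen (hK : Fintype.card K = q ^ 2) : ∃ ζ : K, IsPrimitiveRoot ζ (q + 1) := by
  obtain ⟨u, hu⟩ := IsCyclic.exists_ofOrder_eq_natCard (α := Kˣ)
  rw [Nat.card_units, Nat.card_eq_fintype_card, hK] at hu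
  have hq := two_le_q hK
  refine ⟨((u ^ (q - 1) : Kˣ) : K), ?_⟩
  rw [IsPrimitiveRoot.coe_units_iff]
  have h1 : orderOf u = (q - 1) * (q + 1) := by
    rw [hu]
    obtain ⟨t, rfl⟩ : ∃ t, q = t + 1 := ⟨q - 1, by omega⟩
    rw [Nat.add_sub_cancel, show (t + 1) ^ 2 = t * (t + 1 + 1) + 1 by ring, Nat.add_sub_cancel]
  have h2 : orderOf (u ^ (q - 1)) = q + 1 := by
    rw [orderOf_pow_of_dvd (by omega) (h1 ▸ dvd_mul_right _ _), h1, Nat.mul_div_cancel_left _ (by omega)]
  exact h2 ▸ IsPrimitiveRoot.orderOf _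

/-- Non-powers among the elements of norm one killed by `w`. -/
theorem nonpower_iff (hK : Fintype.card K = q ^ 2) (hr : r.Prime) (hrq : r ∣ q + 1) {w : ℕ} (hw : 1 ≤ w) :
    (∃ z : K, z ^ (q + 1) = 1 ∧ (∀ d : K, d ^ (q + 1) = 1 → d ^ r ≠ z) ∧ z ^ w = 1) ↔
      padicValNat r (q + 1) ≤ padicValNat r w := by
  haveI : Fact r.Prime := ⟨hr⟩
  obtain ⟨ζ, hζ⟩ := exists_gen hK
  have hq0 : q + 1 ≠ 0 := Nat.succ_ne_zero q
  haveI : NeZero (q + 1) := ⟨hq0⟩
  constructor
  · rintro ⟨z, hz, hnp, hzw⟩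
    obtain ⟨a, -, rfl⟩ := hζ.eq_pow_of_pow_eq_one hz
    have hra : ¬ r ∣ a := fun ⟨b, hb⟩ => hnp (ζ ^ b) (by rw [← pow_mul, mul_comm, pow_mul, hζ.pow_eq_one, one_pow])
      (by rw [← pow_mul, hb, mul_comm])
    rw [← pow_mul, hζ.pow_eq_one_iff_dvd] at hzw
    have h1 : r ^ padicValNat r (q + 1) ∣ a * w := (pow_padicValNat_dvd).trans hzw
    exact (padicValNat_dvd_iff_le (by omega)).1
      (((hr.coprime_iff_not_dvd.2 hra).pow_left _).dvd_of_dvd_mul_left h1)
  · intro hle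
    obtain ⟨M, hM⟩ : r ^ padicValNat r (q + 1) ∣ q + 1 := pow_padicValNat_dvd
    refine ⟨ζ ^ M, by rw [← pow_mul, mul_comm, pow_mul, hζ.pow_eq_one, one_pow], fun d hd he => ?_, ?_⟩
    · obtain ⟨b, -, rfl⟩ := hζ.eq_pow_of_pow_eq_one hd
      have hpp : r ∣ M := by
        have h1 : ζ ^ (b * r) = ζ ^ M := by rw [pow_mul, he]
        have h2 := ((hζ.isOfFinOrder hq0).pow_eq_pow_iff_modEq.1 h1)
        rw [← hζ.eq_orderOf] at h2
        have h3 := h2.of_dvd hrq
        rw [Nat.ModEq, Nat.mul_mod_left] at h3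
        exact Nat.dvd_of_mod_eq_zero h3.symm
      obtain ⟨M', rfl⟩ := hpp
      refine pow_succ_padicValNat_not_dvd (p := r) hq0 ?_
      exact ⟨M', by rw [pow_succ, mul_assoc]; exact hM⟩
    · rw [← pow_mul, hζ.pow_eq_one_iff_dvd, hM, mul_comm M]
      exact mul_dvd_mul_right ((padicValNat_dvd_iff_le (by omega)).2 hle) M

/-- Realising a self-dual polynomial by an element killed by `X ^ r - z`. -/
theorem realise (p : ℕ) [Fact p.Prime] [CharP K p] (hK : Fintype.card K = q ^ 2) (hr : (r : K) ≠ 0) {z : K} (hz : z ≠ 0) {P : K[X]} (hP : P.Monic)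
    (hd : P.natDegree = n) (hself : cdual (qFrob hK) P = P)
    (hfac : ∀ f : K[X], f.Monic → Irreducible f → f ∣ P → f ∣ X ^ r - Polynomial.C z) :
    ∃ g : GU n K q, (g.1 : Matrix (Fin n) (Fin n) K).charpoly = P ∧
      (g.1 : Matrix (Fin n) (Fin n) K) ^ r = z • 1 := by
  have hr0 : r ≠ 0 := fun h => hr (by rw [h, Nat.cast_zero])
  have h0 : P.coeff 0 ≠ 0 := fun h0 => by
    obtain ⟨w, hw⟩ := hfac X monic_X irreducible_X (X_dvd_iff.2 h0)
    have h2 := congrArg (fun P => Polynomial.coeff P 0) hw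
    simp [coeff_X_pow, hr0.symm, hz] at h2
  obtain ⟨g, hg, hgP⟩ := exists_mem_charpoly (p := p) hK hP hd h0 hself
  refine ⟨g, hgP, ?_⟩
  have h := ProjPrimeOrderClasses.aeval_eq_zero_of_factors (M := orderOf (g : GL (Fin n) K))
    ((cast_ne_zero_iff (p := p) _).2 (by rwa [Subgroup.orderOf_coe])) g.1 (pow_orderOf_eq_one _)
    (X_pow_sub_C_ne_zero (Nat.pos_of_ne_zero hr0) z) (fun f a b c => hfac f a b (hgP ▸ c))
  rw [map_sub, map_pow, aeval_X, aeval_C, sub_eq_zero, Algebra.algebraMap_eq_smul_one] at h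
  refine Matrix.toLinAlgEquiv'.injective ?_
  rw [map_pow, h, map_smul, map_one]

/-- The conjugate dual of `X ^ r - z`. -/
theorem cdual_X_pow_sub_C (hK : Fintype.card K = q ^ 2) (hr : 0 < r) {z : K} (hz : z ≠ 0) :
    cdual (qFrob hK) (X ^ r - Polynomial.C z) = X ^ r - Polynomial.C (qFrob hK z)⁻¹ := by
  have hz' : qFrob hK z ≠ 0 := (_root_.map_ne_zero _).2 hz
  have hmap : (X ^ r - Polynomial.C z).map (qFrob hK) = X ^ r - Polynomial.C (qFrob hK z) := by simp
  have hrev : (X ^ r - Polynomial.C (qFrob hK z)).reverse = 1 - Polynomial.C (qFrob hK z) * X ^ r := by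
    rw [reverse, natDegree_X_pow_sub_C, reflect_sub, reflect_monomial, reflect_C,
      revAt_le le_rfl, Nat.sub_self, pow_zero]
  rw [cdual, hmap, hrev, coeff_sub, coeff_X_pow, coeff_C_zero, if_neg hr.ne, zero_sub, map_neg, inv_neg, map_neg,
    mul_sub, mul_one, ← mul_assoc, neg_mul, ← map_mul, inv_mul_cancel₀ hz', map_one]
  ring

theorem cdual_root_sub (hK : Fintype.card K = q ^ 2) {a : K} (ha : a ≠ 0) :
    cdual (qFrob hK) (X - Polynomial.C a) = X - Polynomial.C (qFrob hK a)⁻¹ := by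
  simpa using cdual_X_pow_sub_C (r := 1) hK one_pos ha

theorem cdual_fixed_root (hK : Fintype.card K = q ^ 2) {a : K} (ha : a ^ (q + 1) = 1) :
    cdual (qFrob hK) (X - Polynomial.C a) = X - Polynomial.C a := by
  have ha0 : a ≠ 0 := fun h => by rw [h, zero_pow (Nat.succ_ne_zero q)] at ha; exact zero_ne_one ha
  rw [cdual_root_sub hK ha0, ← eq_inv_of_mul_eq_one_right ((qFrob_norm_one hK).2 ha)]

/-- A diagonal element. -/
theorem exists_diag (hK : Fintype.card K = q ^ 2) (d : Fin n → K) (hd : ∀ j, d j ^ (q + 1) = 1) :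
    ∃ g : GU n K q, (g.1 : Matrix (Fin n) (Fin n) K) = Matrix.diagonal d := by
  have h : st hK (Matrix.diagonal d) * Matrix.diagonal d = 1 := by
    rw [st, Matrix.diagonal_map (map_zero _), Matrix.diagonal_transpose, Matrix.diagonal_mul_diagonal,
      ← Matrix.diagonal_one]
    exact congrArg _ (funext fun j => (qFrob_norm_one hK).2 (hd j))
  exact ⟨⟨⟨_, _, mul_eq_one_comm.1 h, h⟩, (mem_GU_iff hK _).2 h⟩, rfl⟩

/-- Roots of norm one occur twice in `D · D†`. -/
theorem roots_twice (hK : Fintype.card K = q ^ 2) {v : Multiset K} (hv : ∀ a ∈ v, a ^ (q + 1) = 1) {D : K[X]}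
    (hD : D.Monic) (hd : D * cdual (qFrob hK) D ∣ (v.map fun a => X - Polynomial.C a).prod) :
    ∃ R : Multiset K, R.card = D.natDegree ∧ R + R ≤ v := by
  classical
  set P := (v.map fun a => X - Polynomial.C a).prod
  have hPm : P.Monic := monic_multiset_prod_of_monic v _ fun a _ => monic_X_sub_C a
  have hDP : D ∣ P := (dvd_mul_right _ _).trans hd
  have hPs : Splits P := Splits.multisetProd fun f hf => by
    obtain ⟨a, -, rfl⟩ := Multiset.mem_map.1 hf
    exact Splits.X_sub_C a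
  have hDs : Splits D := hPs.of_dvd hPm.ne_zero hDP
  have hsub : ∀ a ∈ D.roots, a ∈ v := fun a ha => by
    have := Multiset.mem_of_le (roots.le_of_dvd hPm.ne_zero hDP) ha
    rwa [roots_multiset_prod_X_sub_C] at this
  have hfix : cdual (qFrob hK) D = D := by
    rw [hDs.eq_prod_roots_of_monic hD]
    generalize D.roots = R at hsub
    induction R using Multiset.induction with
    | empty => rw [Multiset.map_zero, Multiset.prod_zero]; exact tau_one hK
    | cons a R ih =>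
      rw [Multiset.map_cons, Multiset.prod_cons, cdual_mul, ih fun b hb => hsub b (Multiset.mem_cons_of_mem hb),
        cdual_fixed_root hK (hv a (hsub a (Multiset.mem_cons_self _ _)))]
  rw [hfix] at hd
  refine ⟨D.roots, hDs.natDegree_eq_card_roots.symm, ?_⟩
  have h2 := roots.le_of_dvd hPm.ne_zero hd
  rwa [roots_mul (mul_ne_zero hD.ne_zero hD.ne_zero), roots_multiset_prod_X_sub_C] at h2

/-- The map of a matrix by a field automorphism has the same rank. -/
theorem rank_map (hK : Fintype.card K = q ^ 2) {a : ℕ} (A : Matrix (Fin a) (Fin a) K) :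
    (A.map (qFrob hK)).rank = A.rank := by
  have hker : ∀ B : Matrix (Fin a) (Fin a) K,
      Nat.card (LinearMap.ker B.mulVecLin) = Fintype.card K ^ (a - B.rank) := fun B => by
    rw [Module.natCard_eq_pow_finrank (K := K), Nat.card_eq_fintype_card]
    congr 1
    have := B.mulVecLin.finrank_range_add_finrank_ker
    rw [Module.finrank_fin_fun] at this
    change B.rank + _ = a at this
    omega
  have e : LinearMap.ker A.mulVecLin ≃ LinearMap.ker (A.map (qFrob hK)).mulVecLin :=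
    { toFun := fun v => ⟨fun i => qFrob hK (v.1 i), by
        rw [LinearMap.mem_ker, Matrix.mulVecLin_apply, ← frob_mulVec hK]
        funext i
        have hv : A *ᵥ v.1 = 0 := v.2
        rw [hv, Pi.zero_apply, map_zero]⟩
      invFun := fun v => ⟨fun i => qFrob hK (v.1 i), by
        have hv : A.map (qFrob hK) *ᵥ v.1 = 0 := v.2
        rw [LinearMap.mem_ker, Matrix.mulVecLin_apply]
        funext i
        refine (qFrob hK).injective ?_
        rw [RingHom.map_mulVec]
        simp only [Function.comp_def, qFrob_qFrob]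
        rw [hv, Pi.zero_apply, map_zero]⟩
      left_inv := fun v => Subtype.ext (funext fun i => qFrob_qFrob hK _)
      right_inv := fun v => Subtype.ext (funext fun i => qFrob_qFrob hK _) }
  have h := Nat.card_congr e
  rw [hker, hker] at h
  have h1 := Nat.pow_right_injective (Fintype.one_lt_card (α := K)) h
  have h2 := A.rank_le_width
  have h3 := (A.map (qFrob hK)).rank_le_width
  omega

/-- Every partition is the type of a unipotent element of `GU_n`. -/
theorem exists_unipotent (hK : Fintype.card K = q ^ 2) (μ : Multiset ℕ) (hμ : ∀ a ∈ μ, 0 < a) (hs : μ.sum = n) :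
    ∃ u : GU n K q, IsNilpotent ((u.1 : Matrix (Fin n) (Fin n) K) - 1) ∧
      GLUnipotentTypes.mparts ((u.1 : Matrix (Fin n) (Fin n) K) - 1) = μ := by
  obtain ⟨M, hM, hMp⟩ := GLUnipotentTypes.exists_mparts (F := K) (ι := Fin n) μ hμ (by rw [hs, Fintype.card_fin])
  obtain ⟨A, hA⟩ := hM.isUnit_one_add
  have hAM : (A : Matrix (Fin n) (Fin n) K) - 1 = M := by rw [hA, add_sub_cancel_left]
  set W := ((invSt hK A : GL (Fin n) K) : Matrix (Fin n) (Fin n) K)
  set T := hst hK M with hT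
  have hWA : W * hst hK (A : Matrix (Fin n) (Fin n) K) = 1 := (invSt hK A).mul_inv
  have hAW : hst hK (A : Matrix (Fin n) (Fin n) K) * W = 1 := (invSt hK A).inv_mul
  have hTA : T = hst hK (A : Matrix (Fin n) (Fin n) K) - 1 := by
    rw [hT, ← hAM]; ext i j; simp [hst, Matrix.one_apply, apply_ite (qFrob hK), eq_comm]
  have hW : W - 1 = -(W * T) := by rw [hTA, mul_sub, hWA, mul_one, neg_sub]
  have hc : Commute W T := by rw [hTA]; exact Commute.sub_right (hWA.trans hAW.symm) (Commute.one_right _)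
  have hu : IsUnit W.det := (Matrix.isUnit_iff_isUnit_det _).1 (invSt hK A).isUnit
  have hTl : ∀ l, T ^ l = hst hK (M ^ l) := fun l => by
    induction l with
    | zero => rw [pow_zero, pow_zero, hst_one]
    | succ l ih => rw [pow_succ, pow_succ', ih, hst_mul]
  obtain ⟨l, hl⟩ := hM
  have hn : IsNilpotent (W - 1) := ⟨l, by rw [hW, neg_pow, hc.mul_pow, hTl, hl, hst_zero, mul_zero, mul_zero]⟩
  have hBp : GLUnipotentTypes.mparts (W - 1) = μ := by
    rw [← hMp]
    refine GLUnipotentTypes.mparts_eq_of_rank hn ⟨l, hl⟩ fun k => ?_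
    rw [hW, neg_pow, hc.mul_pow, Matrix.rank_mul_eq_right_of_isUnit_det _ _ ?_,
      Matrix.rank_mul_eq_right_of_isUnit_det _ _ ?_, hTl, hst, Matrix.rank_transpose, rank_map hK]
    · rw [Matrix.det_pow]; exact hu.pow k
    · rw [Matrix.det_pow, Matrix.det_neg, Matrix.det_one, mul_one]; exact ((isUnit_one.neg).pow _).pow _
  obtain ⟨P, hP⟩ := GLUnipotentTypes.exists_similar (hAM ▸ ⟨l, hl⟩ : IsNilpotent ((A : Matrix (Fin n) (Fin n) K) - 1))
    hn (by rw [hBp, hAM, hMp])
  obtain ⟨u, hu'⟩ := exists_similar_mem hK A P (by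
    have h1 : (P : Matrix (Fin n) (Fin n) K) * A = W * P := by
      have h2 := hP
      rw [mul_sub, sub_mul, mul_one, one_mul, sub_left_inj] at h2
      exact h2
    show hst hK _ * _ * _ = _
    rw [mul_assoc, h1, ← mul_assoc, hAW, one_mul])
  obtain ⟨c, hcu⟩ := isConj_iff.1 hu'
  have h3 : (c : Matrix (Fin n) (Fin n) K) * ((A : Matrix (Fin n) (Fin n) K) - 1) =
      ((u.1 : Matrix (Fin n) (Fin n) K) - 1) * c := by
    rw [mul_sub, sub_mul, mul_one, one_mul, ← hcu, Units.val_mul, Units.val_mul, mul_assoc, Units.inv_mul, mul_one]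
  have hAn : IsNilpotent ((A : Matrix (Fin n) (Fin n) K) - 1) := hAM ▸ ⟨l, hl⟩
  have hun : IsNilpotent ((u.1 : Matrix (Fin n) (Fin n) K) - 1) := by
    refine ⟨l, ?_⟩
    have h4 := SemiconjBy.pow_right h3 l
    rw [hAM, hl, SemiconjBy, mul_zero] at h4
    simpa using congrArg (fun z => z * ((c⁻¹ : GL (Fin n) K) : Matrix (Fin n) (Fin n) K)) h4.symm
  exact ⟨u, hun, by rw [GLUnipotentTypes.mparts_eq_of_similar hAn c h3, hAM, hMp]⟩

end Cfsg.Agent.UnitDerangeBasic
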