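import Cfsg.Agent.Lib.Classical.UnitDerangeBasic

/-!
The shapes of the characteristic polynomials of elements of prime order modulo scalars of `SU_n(q)`, and the
elements with prescribed shape.
-/

set_option autoImplicit false
set_option linter.unusedSectionVars false

namespace Cfsg.Agent.UnitDerangeCases

open Polynomial Matrix UniqueFactorizationMonoid Cfsg.Agent.Classical Cfsg.Agent.UnitaryDetCentralizer
  Cfsg.Agent.UnitInvariant Cfsg.Agent.UnitSelfDualFactors Cfsg.Agent.UnitDerangeBasic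

variable {K : Type*} [Field K] [Fintype K] {q n r i : ℕ}

theorem eq_two_iff (h : UCtx K q r i) : i = 2 ↔ r ∣ q + 1 := by
  haveI : Fact r.Prime := ⟨h.prime⟩
  have hne : ((-1 : ZMod r)) ≠ 1 := fun e => by
    have h20 : ((2 : ℕ) : ZMod r) = 0 := by push_cast; linear_combination -e
    exact h.odd ((Nat.prime_dvd_prime_iff_eq h.prime Nat.prime_two).1 ((ZMod.natCast_eq_zero_iff _ _).1 h20))
  constructor
  · intro hi
    have h1 : (q : ZMod r) * q = 1 := by
      rw [← sq, show (2 : ℕ) = orderOf (q : ZMod r) from hi ▸ h.hi, pow_orderOf_eq_one]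
    rw [← ZMod.natCast_eq_zero_iff, Nat.cast_succ]
    rcases mul_self_eq_one_iff.1 h1 with e | e
    · have h2 : orderOf (q : ZMod r) = 1 := by rw [e, orderOf_one]
      rw [← h.hi] at h2
      omega
    · rw [e, neg_add_cancel]
  · intro hd
    rw [← ZMod.natCast_eq_zero_iff, Nat.cast_succ] at hd
    rw [h.hi, eq_neg_of_add_eq_zero_left hd]
    exact orderOf_eq_prime (by rw [neg_one_sq]) hne

/-- The characteristic polynomial of an element with `y ^ r = 1`. -/
theorem charpoly_selfDual (hK : Fintype.card K = q ^ 2) (y : GU n K q) (hy : y ^ r = 1) :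
    (y.1 : Matrix (Fin n) (Fin n) K).charpoly ∈ selfDual hK r n :=
  ⟨Matrix.charpoly_monic _, by rw [Matrix.charpoly_natDegree_eq_dim, Fintype.card_fin], cdual_charpoly_of_mem hK y,
    fun f hf hirr hd => GLPrimeOrderClasses.factor_dvd (g := y.1) (by rw [← SubgroupClass.coe_pow, hy]; rfl) hf hirr hd⟩

variable {p : ℕ} [Fact p.Prime] [CharP K p]

/-- An element of order `r` with prescribed characteristic polynomial. -/
theorem exists_element (p : ℕ) [Fact p.Prime] [CharP K p] (h : UCtx K q r i) (hn : 1 ≤ n) (hrq : ¬ r ∣ q + 1)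
    {P : K[X]} (hP : P ∈ selfDual h.card r n) (hne : P ≠ (X - Polynomial.C 1) ^ n) :
    ∃ g : GU n K q, (g.1 : Matrix (Fin n) (Fin n) K).det = 1 ∧
      (∃ z : K, (g.1 : Matrix (Fin n) (Fin n) K) ^ r = z • 1) ∧
      (∀ z : K, (g.1 : Matrix (Fin n) (Fin n) K) ≠ z • 1) ∧ (g.1 : Matrix (Fin n) (Fin n) K).charpoly = P := by
  have hco : r.Coprime (q + 1) := h.prime.coprime_iff_not_dvd.2 hrq
  obtain ⟨g, hgP, hg⟩ := realise p h.card h.ne one_ne_zero hP.1 hP.2.1 hP.2.2.1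
    (fun f a b c => by rw [map_one]; exact hP.2.2.2 f a b c)
  refine ⟨g, eq_one_of_pow ?_ (norm_det h.card g) hco, ⟨1, hg⟩, fun z hz => hne ?_, hgP⟩
  · rw [← Matrix.det_pow, hg, one_smul, Matrix.det_one]
  · haveI : Nonempty (Fin n) := ⟨⟨0, hn⟩⟩
    rw [hz, _root_.smul_pow, one_pow] at hg
    have hz1 : z = 1 := eq_one_of_pow (smul_left_injective K one_ne_zero hg)
      (norm_scalar (r := 1) h.card hn g (by rw [pow_one, hz])) hco
    rw [← hgP, hz, charpoly_scalar, hz1]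

/-- A polynomial with at most two roots. -/
theorem two_factors {a b : K} (hab : a ≠ b) : ∀ {D : K[X]}, D.Monic →
    (∀ f : K[X], f.Monic → Irreducible f → f ∣ D → f = X - Polynomial.C a ∨ f = X - Polynomial.C b) →
    ∃ j l : ℕ, D = (X - Polynomial.C a) ^ j * (X - Polynomial.C b) ^ l ∧ D.natDegree = j + l ∧
      D.rootMultiplicity a = j ∧ D.rootMultiplicity b = l := by
  intro D hD hf
  obtain ⟨j, l, rfl⟩ : ∃ j l : ℕ, D = (X - Polynomial.C a) ^ j * (X - Polynomial.C b) ^ l := by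
    induction hd : D.natDegree using Nat.strong_induction_on generalizing D with
    | _ d ih =>
    rcases Nat.eq_zero_or_pos d with rfl | hpos
    · exact ⟨0, 0, by rw [hD.natDegree_eq_zero.1 hd]; simp⟩
    obtain ⟨g, hgm, hgi, D', rfl⟩ := Polynomial.exists_monic_irreducible_factor D
      (fun hu => by rw [natDegree_eq_zero_of_isUnit hu] at hd; omega)
    have hD' : D'.Monic := hgm.of_mul_monic_left hD
    rw [hgm.natDegree_mul hD'] at hd
    have := hgi.natDegree_pos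
    obtain ⟨j, l, rfl⟩ := ih D'.natDegree (by omega) hD' (fun f a' b' c => hf f a' b' (c.trans (dvd_mul_left _ _))) rfl
    rcases hf g hgm hgi (dvd_mul_right _ _) with rfl | rfl
    · exact ⟨j + 1, l, by ring⟩
    · exact ⟨j, l + 1, by ring⟩
  have hne := hD.ne_zero
  refine ⟨j, l, rfl, ?_, ?_, ?_⟩
  · rw [((monic_X_sub_C a).pow j).natDegree_mul ((monic_X_sub_C b).pow l), natDegree_pow, natDegree_pow,
      natDegree_X_sub_C, natDegree_X_sub_C, mul_one, mul_one]
  · rw [rootMultiplicity_mul hne, rootMultiplicity_X_sub_C_pow, rootMultiplicity_eq_zero, add_zero]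
    simp [sub_eq_zero, hab]
  · rw [rootMultiplicity_mul hne, rootMultiplicity_X_sub_C_pow, rootMultiplicity_eq_zero, zero_add]
    simp [sub_eq_zero, hab.symm]

theorem odd_q (hK : Fintype.card K = q ^ 2) (hp : p ≠ 2) : q % 2 = 1 ∧ (2 : K) ≠ 0 := by
  refine ⟨?_, ?_⟩
  · have h := FiniteField.odd_card_of_char_ne_two (F := K) (by rwa [ringChar.eq K p])
    rw [hK, Nat.pow_mod] at h
    rcases Nat.mod_two_eq_zero_or_one q with e | e
    · rw [e] at h; simp at h
    · exact e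
  · rw [← Nat.cast_two, Ne, CharP.cast_eq_zero_iff K p, Nat.prime_dvd_prime_iff_eq Fact.out Nat.prime_two]
    exact hp

/-- The square roots of a non-square of norm one. -/
theorem exists_sqrt (hK : Fintype.card K = q ^ 2) (hp : p ≠ 2) {z : K} (hz : z ^ (q + 1) = 1)
    (hnp : ∀ d : K, d ^ (q + 1) = 1 → d ^ 2 ≠ z) :
    ∃ b : K, b * b = z ∧ b ≠ -b ∧ (qFrob hK b)⁻¹ = -b ∧ (qFrob hK (-b))⁻¹ = b := by
  obtain ⟨hq, h2⟩ := odd_q (p := p) hK hp
  have hz0 : z ≠ 0 := fun h => by rw [h, zero_pow (Nat.succ_ne_zero q)] at hz; exact zero_ne_one hz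
  obtain ⟨b, hb⟩ : IsSquare z := by
    rw [FiniteField.isSquare_iff (by rwa [ringChar.eq K p]) hz0, hK]
    obtain ⟨t, rfl⟩ : ∃ t, q = 2 * t + 1 := ⟨q / 2, by omega⟩
    rw [show (2 * t + 1) ^ 2 = (2 * t + 1 + 1) * t * 2 + 1 by ring, show ((2 * t + 1 + 1) * t * 2 + 1) / 2 =
      (2 * t + 1 + 1) * t by omega, pow_mul, hz, one_pow]
  have hb0 : b ≠ 0 := fun h => hz0 (by rw [hb, h, zero_mul])
  have hbn : b ≠ -b := fun h => hb0 (by
    have : (2 : K) * b = 0 := by linear_combination h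
    exact (mul_eq_zero.1 this).resolve_left h2)
  have h1 : b ^ (q + 1) = -1 := by
    refine (mul_self_eq_one_iff.1 ?_).resolve_left fun h => hnp b h (by rw [sq, hb])
    rw [← mul_pow, ← hb, hz]
  have hbq : (qFrob hK b)⁻¹ = -b := by
    refine inv_eq_of_mul_eq_one_right ?_
    rw [qFrob_apply, mul_neg, ← pow_succ, h1, neg_neg]
  exact ⟨b, hb.symm, hbn, hbq, by rw [map_neg, inv_neg, hbq, neg_neg]⟩

/-- The factors below an element squaring to a scalar with square root `b`. -/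
theorem factor_two {A : Matrix (Fin n) (Fin n) K} {b : K} (hA : A ^ 2 = (b * b) • 1) {f : K[X]} (hf : f.Monic)
    (hirr : Irreducible f) (hd : f ∣ A.charpoly) :
    f = X - Polynomial.C b ∨ f = X - Polynomial.C (-b) := by
  haveI : Fact (Nat.Prime 2) := ⟨Nat.prime_two⟩
  have h := SubspaceDerange.annihilated hA hf hirr hd
  rw [show (X ^ 2 - Polynomial.C (b * b) : K[X]) = (X - Polynomial.C b) * (X - Polynomial.C (-b)) by
    rw [map_neg, map_mul]; ring] at h
  rcases hirr.prime.dvd_or_dvd h with h' | h'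
  · exact Or.inl (Polynomial.eq_of_monic_of_associated hf (monic_X_sub_C b)
      (hirr.associated_of_dvd (irreducible_X_sub_C b) h'))
  · exact Or.inr (Polynomial.eq_of_monic_of_associated hf (monic_X_sub_C (-b))
      (hirr.associated_of_dvd (irreducible_X_sub_C (-b)) h'))

theorem cdual_two (hK : Fintype.card K = q ^ 2) {b : K} (hb : b ≠ -b) (h1 : (qFrob hK b)⁻¹ = -b)
    (h2 : (qFrob hK (-b))⁻¹ = b) (j l : ℕ) :
    cdual (qFrob hK) ((X - Polynomial.C b) ^ j * (X - Polynomial.C (-b)) ^ l) =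
      (X - Polynomial.C b) ^ l * (X - Polynomial.C (-b)) ^ j := by
  have hb0 : b ≠ 0 := fun h => hb (by rw [h, neg_zero])
  have hpow : ∀ (a a' : K), cdual (qFrob hK) (X - Polynomial.C a) = X - Polynomial.C a' → ∀ k : ℕ,
      cdual (qFrob hK) ((X - Polynomial.C a) ^ k) = (X - Polynomial.C a') ^ k := fun a a' ha k => by
    induction k with
    | zero => rw [pow_zero, pow_zero]; exact tau_one hK
    | succ k ih => rw [pow_succ, cdual_mul, ih, ha, pow_succ]
  rw [cdual_mul, hpow b (-b) (by rw [cdual_root_sub hK hb0, h1]),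
    hpow (-b) b (by rw [cdual_root_sub hK (neg_ne_zero.2 hb0), h2]), mul_comm]

/-- An element whose square is a non-square scalar has its two eigenvalues equally often. -/
theorem two_shape (hK : Fintype.card K = q ^ 2) (hp : p ≠ 2) (g : GU n K q) {z : K}
    (hz : (g.1 : Matrix (Fin n) (Fin n) K) ^ 2 = z • 1) (hz1 : z ^ (q + 1) = 1)
    (hnp : ∀ d : K, d ^ (q + 1) = 1 → d ^ 2 ≠ z) :
    ∃ (b : K) (a : ℕ), b ≠ -b ∧ (qFrob hK b)⁻¹ = -b ∧ (qFrob hK (-b))⁻¹ = b ∧ b * b = z ∧ n = 2 * a ∧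
      (g.1 : Matrix (Fin n) (Fin n) K).charpoly = (X - Polynomial.C b) ^ a * (X - Polynomial.C (-b)) ^ a := by
  obtain ⟨b, hb, hbn, h1, h2⟩ := exists_sqrt (p := p) hK hp hz1 hnp
  obtain ⟨j, l, hP, hd, hj, -⟩ := two_factors hbn (Matrix.charpoly_monic (g.1 : Matrix (Fin n) (Fin n) K))
    fun f a' b' c => factor_two (hb.symm ▸ hz) a' b' c
  have hs := cdual_charpoly_of_mem hK g
  rw [hP, cdual_two hK hbn h1 h2] at hs
  have hjl : j = l := by
    have h3 := congrArg (fun Q : K[X] => Q.rootMultiplicity b) hs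
    rw [← hP, hj] at h3
    rw [← h3, rootMultiplicity_mul (mul_ne_zero (pow_ne_zero _ (X_sub_C_ne_zero b)) (pow_ne_zero _ (X_sub_C_ne_zero _))),
      rootMultiplicity_X_sub_C_pow, rootMultiplicity_eq_zero, add_zero]
    rw [IsRoot.def, eval_pow, eval_sub, eval_X, eval_C]
    exact fun h => hbn (sub_eq_zero.1 (eq_zero_of_pow_eq_zero h))
  subst hjl
  rw [Matrix.charpoly_natDegree_eq_dim, Fintype.card_fin] at hd
  exact ⟨b, j, hbn, h1, h2, hb, by omega, hP⟩

/-- A non-power of norm one is a non-power. -/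
theorem irreducible_data (hK : Fintype.card K = q ^ 2) (hr : r.Prime) (hr2 : r ≠ 2) (hrq : r ∣ q + 1) {z : K}
    (hz1 : z ^ (q + 1) = 1) (hnp : ∀ d : K, d ^ (q + 1) = 1 → d ^ r ≠ z) : ∀ d : K, d ^ r ≠ z := by
  intro d hd
  refine hnp d ?_ hd
  have hd0 : d ≠ 0 := fun h => by
    rw [← hd, h, zero_pow hr.ne_zero, zero_pow (Nat.succ_ne_zero q)] at hz1
    exact zero_ne_one hz1
  refine orderOf_eq_one_iff.1 (Nat.dvd_one.1 ?_)
  have h1 : orderOf (d ^ (q + 1)) ∣ r := orderOf_dvd_of_pow_eq_one (by rw [← pow_mul, mul_comm, pow_mul, hd, hz1])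
  have h2 : orderOf (d ^ (q + 1)) ∣ q - 1 := orderOf_dvd_of_pow_eq_one (by
    rw [← pow_mul, show (q + 1) * (q - 1) = Fintype.card K - 1 by
      rw [hK, ← Nat.sq_sub_sq]]
    exact FiniteField.pow_card_sub_one_eq_one d hd0)
  have hco : r.Coprime (q - 1) := hr.coprime_iff_not_dvd.2 fun h => hr2 ((Nat.prime_dvd_prime_iff_eq hr
    Nat.prime_two).1 (by
      have h3 := Nat.dvd_sub hrq h
      have := two_le_q hK
      rwa [show q + 1 - (q - 1) = 2 by omega] at h3))
  exact Nat.dvd_one.2 ((hco.coprime_dvd_left h1).eq_one_of_dvd h2)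

/-- Kummer shape. -/
theorem kummer_shape (hK : Fintype.card K = q ^ 2) (hr : r.Prime) (hr2 : r ≠ 2) (hrq : r ∣ q + 1) (g : GU n K q)
    {z : K} (hz : (g.1 : Matrix (Fin n) (Fin n) K) ^ r = z • 1) (hz1 : z ^ (q + 1) = 1)
    (hnp : ∀ d : K, d ^ (q + 1) = 1 → d ^ r ≠ z) :
    ∃ w : ℕ, n = r * w ∧ Irreducible (X ^ r - Polynomial.C z) ∧
      cdual (qFrob hK) (X ^ r - Polynomial.C z) = X ^ r - Polynomial.C z ∧
      (g.1 : Matrix (Fin n) (Fin n) K).charpoly = (X ^ r - Polynomial.C z) ^ w := by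
  classical
  haveI : Fact r.Prime := ⟨hr⟩
  have hcp : ∀ d : K, d ^ r ≠ z := irreducible_data hK hr hr2 hrq hz1 hnp
  have hirr := X_pow_sub_C_irreducible_of_prime hr hcp
  have hz0 : z ≠ 0 := fun h => by rw [h, zero_pow (Nat.succ_ne_zero q)] at hz1; exact zero_ne_one hz1
  set A := (g.1 : Matrix (Fin n) (Fin n) K)
  have hfac : ∀ f : K[X], f.Monic → Irreducible f → f ∣ A.charpoly → f = X ^ r - Polynomial.C z :=
    fun f hm hi hdvd => SubspaceDerange.degree_of_nonpower hr hcp hm hi (SubspaceDerange.annihilated hz hm hi hdvd)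
  refine ⟨Multiset.card (normalizedFactors A.charpoly), ?_, hirr,
    by rw [cdual_X_pow_sub_C hK hr.pos hz0, ← eq_inv_of_mul_eq_one_right ((qFrob_norm_one hK).2 hz1)], ?_⟩
  all_goals
    have hrep : normalizedFactors A.charpoly =
        Multiset.replicate (Multiset.card (normalizedFactors A.charpoly)) (X ^ r - Polynomial.C z) := by
      refine Multiset.eq_replicate_card.2 fun f hf => hfac f ?_ (irreducible_of_normalized_factor f hf)
        (dvd_of_mem_normalizedFactors hf)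
      rw [← normalize_normalized_factor f hf]
      exact monic_normalize (irreducible_of_normalized_factor f hf).ne_zero
    have hprod := prod_normalizedFactors A.charpoly_monic.ne_zero
    rw [hrep, Multiset.prod_replicate] at hprod
    have heq := (eq_of_monic_of_associated ((monic_X_pow_sub_C z hr.ne_zero).pow _) A.charpoly_monic hprod).symm
  · have hd := congrArg natDegree heq
    rw [Matrix.charpoly_natDegree_eq_dim, Fintype.card_fin, natDegree_pow, natDegree_X_pow_sub_C] at hd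
    rw [mul_comm]; exact hd
  · exact heq

/-- An element with `x ^ r` a non-power scalar, `r` odd. -/
theorem exists_kummer (p : ℕ) [Fact p.Prime] [CharP K p] (hK : Fintype.card K = q ^ 2) (hr : r.Prime) (hr2 : r ≠ 2)
    (hrK : (r : K) ≠ 0) (hrq : r ∣ q + 1) {w : ℕ} (hw : 1 ≤ w) (hn : n = r * w)
    (hv : padicValNat r (q + 1) ≤ padicValNat r w) :
    ∃ (g : GU n K q) (z : K), (g.1 : Matrix (Fin n) (Fin n) K).det = 1 ∧
      (g.1 : Matrix (Fin n) (Fin n) K) ^ r = z • 1 ∧ (∀ d : K, (g.1 : Matrix (Fin n) (Fin n) K) ≠ d • 1) ∧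
      Irreducible (X ^ r - Polynomial.C z) ∧
      (g.1 : Matrix (Fin n) (Fin n) K).charpoly = (X ^ r - Polynomial.C z) ^ w := by
  obtain ⟨z, hz, hnp, hzw⟩ := (nonpower_iff hK hr hrq hw).2 hv
  have hcp := irreducible_data hK hr hr2 hrq hz hnp
  have hirr := X_pow_sub_C_irreducible_of_prime hr hcp
  have hz0 : z ≠ 0 := fun h => by rw [h, zero_pow (Nat.succ_ne_zero q)] at hz; exact zero_ne_one hz
  have hfix : cdual (qFrob hK) (X ^ r - Polynomial.C z) = X ^ r - Polynomial.C z := by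
    rw [cdual_X_pow_sub_C hK hr.pos hz0, ← eq_inv_of_mul_eq_one_right ((qFrob_norm_one hK).2 hz)]
  have hpow : ∀ k : ℕ, cdual (qFrob hK) ((X ^ r - Polynomial.C z) ^ k) = (X ^ r - Polynomial.C z) ^ k := fun k => by
    induction k with
    | zero => rw [pow_zero]; exact tau_one hK
    | succ k ihk => rw [pow_succ, cdual_mul, ihk, hfix]
  obtain ⟨g, hgP, hg⟩ := realise p hK (n := n) hrK hz0 ((monic_X_pow_sub_C z hr.ne_zero).pow w)
    (by rw [natDegree_pow, natDegree_X_pow_sub_C, hn, mul_comm]) (hpow w)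
    (fun f _ hi hd => hi.prime.dvd_of_dvd_pow hd)
  refine ⟨g, z, ?_, hg, fun d hd => ?_, hirr, hgP⟩
  · rw [Matrix.det_eq_sign_charpoly_coeff, hgP, ← constantCoeff_apply, map_pow, constantCoeff_apply,
      coeff_sub, coeff_X_pow, coeff_C_zero, if_neg hr.ne_zero.symm, zero_sub, Fintype.card_fin, hn, pow_mul,
      (hr.odd_of_ne_two hr2).neg_one_pow, ← mul_pow, neg_one_mul, neg_neg, hzw]
  · haveI : Nonempty (Fin n) := ⟨⟨0, hn ▸ Nat.mul_pos hr.pos hw⟩⟩
    rw [hd, _root_.smul_pow, one_pow] at hg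
    exact hcp d (smul_left_injective K one_ne_zero hg)

theorem half_pow {q : ℕ} {ζ : K} (hζ : IsPrimitiveRoot ζ (q + 1)) (hq : q % 2 = 1) :
    ζ ^ ((q + 1) / 2) = -1 := by
  refine (mul_self_eq_one_iff.1 ?_).resolve_left fun h => ?_
  · rw [← pow_add, show (q + 1) / 2 + (q + 1) / 2 = q + 1 by omega, hζ.pow_eq_one]
  · have := Nat.le_of_dvd (by omega) ((hζ.pow_eq_one_iff_dvd _).1 h)
    omega

/-- `-1` as an `n`-th power of an element of norm one. -/
theorem neg_one_power_iff (hK : Fintype.card K = q ^ 2) (hq : q % 2 = 1) (h2 : (2 : K) ≠ 0) {n : ℕ} (hn : 1 ≤ n) :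
    (∃ d : K, d ^ (q + 1) = 1 ∧ d ^ n = -1) ↔ padicValNat 2 n < padicValNat 2 (q + 1) := by
  haveI : Fact (Nat.Prime 2) := ⟨Nat.prime_two⟩
  obtain ⟨ζ, hζ⟩ := exists_gen hK
  haveI : NeZero (q + 1) := ⟨Nat.succ_ne_zero q⟩
  constructor
  · rintro ⟨d, hd, hdn⟩
    obtain ⟨a, -, rfl⟩ := hζ.eq_pow_of_pow_eq_one hd
    by_contra hle
    push Not at hle
    obtain ⟨M, hM⟩ : 2 ^ padicValNat 2 (q + 1) ∣ q + 1 := pow_padicValNat_dvd
    have hMo : ¬ 2 ∣ M := fun ⟨M', hM'⟩ => pow_succ_padicValNat_not_dvd (p := 2) (Nat.succ_ne_zero q)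
      ⟨M', by rw [pow_succ, mul_assoc, ← hM']; exact hM⟩
    have h1 : q + 1 ∣ a * n * 2 := by
      rw [← hζ.pow_eq_one_iff_dvd, pow_mul, pow_mul, hdn, neg_one_sq]
    have h3 : M ∣ a * n := ((Nat.prime_two.coprime_iff_not_dvd.2 hMo).symm.dvd_of_dvd_mul_right
      ((hM.symm ▸ dvd_mul_left M _ : M ∣ q + 1).trans h1))
    have h4 : 2 ^ padicValNat 2 (q + 1) ∣ a * n :=
      ((padicValNat_dvd_iff_le (p := 2) (by omega)).2 hle).mul_left a
    have h5 : q + 1 ∣ a * n := by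
      rw [hM]
      exact (((Nat.prime_two.coprime_iff_not_dvd.2 hMo).pow_left _)).mul_dvd_of_dvd_of_dvd h4 h3
    rw [← hζ.pow_eq_one_iff_dvd, pow_mul, hdn] at h5
    exact h2 (by linear_combination -h5)
  · intro hlt
    obtain ⟨w, hw⟩ : 2 ^ padicValNat 2 n ∣ n := pow_padicValNat_dvd
    have hwo : Odd w := Nat.odd_iff.2 (Nat.two_dvd_ne_zero.1 fun ⟨w', hw'⟩ =>
      pow_succ_padicValNat_not_dvd (p := 2) (show n ≠ 0 by omega) ⟨w', by rw [pow_succ, mul_assoc, ← hw']; exact hw⟩)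
    obtain ⟨M, hM⟩ : 2 ^ (padicValNat 2 n + 1) ∣ q + 1 := (pow_dvd_pow 2 hlt).trans pow_padicValNat_dvd
    refine ⟨ζ ^ M, by rw [← pow_mul, mul_comm, pow_mul, hζ.pow_eq_one, one_pow], ?_⟩
    have hh : (q + 1) / 2 = M * 2 ^ padicValNat 2 n := by
      rw [hM, pow_succ, mul_assoc, mul_comm (2 ^ padicValNat 2 n), mul_comm 2 M,
        mul_right_comm, Nat.mul_div_cancel _ two_pos]
    rw [← pow_mul]
    conv_lhs => rw [hw, ← mul_assoc, ← hh, pow_mul, half_pow hζ hq, hwo.neg_one_pow]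

/-- Non-squares `z` with `(-z) ^ w = 1`. -/
theorem nonsquare_iff (hK : Fintype.card K = q ^ 2) (hq : q % 2 = 1) (h2 : (2 : K) ≠ 0) {w : ℕ} (hw : 1 ≤ w) :
    (∃ z : K, z ^ (q + 1) = 1 ∧ (∀ d : K, d ^ (q + 1) = 1 → d ^ 2 ≠ z) ∧ (-z) ^ w = 1) ↔
      (q % 4 = 1 ∨ padicValNat 2 (q + 1) ≤ padicValNat 2 w) := by
  have hd2 : 2 ∣ q + 1 := by omega
  obtain ⟨ζ, hζ⟩ := exists_gen hK
  by_cases h4 : q % 4 = 1
  · refine ⟨fun _ => Or.inl h4, fun _ => ⟨-1, ?_, fun d hd he => ?_, by rw [neg_neg, one_pow]⟩⟩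
    · exact (Nat.even_iff.2 (by omega)).neg_one_pow
    · have h5 : (d ^ 2) ^ ((q + 1) / 2) = 1 := by rw [← pow_mul, show 2 * ((q + 1) / 2) = q + 1 by omega, hd]
      rw [he, (Nat.odd_iff.2 (by omega)).neg_one_pow] at h5
      exact h2 (by linear_combination -h5)
  · have h43 : q % 4 = 3 := by omega
    obtain ⟨ε, hε, hεq⟩ : ∃ ε : K, ε ^ 2 = -1 ∧ ε ^ (q + 1) = 1 := ⟨ζ ^ ((q + 1) / 4),
      by rw [← pow_mul, show (q + 1) / 4 * 2 = (q + 1) / 2 by omega, half_pow hζ hq],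
      by rw [← pow_mul, mul_comm, pow_mul, hζ.pow_eq_one, one_pow]⟩
    have hev : Even (q + 1) := Nat.even_iff.2 (by omega)
    have key : ∀ z : K, (∀ d : K, d ^ (q + 1) = 1 → d ^ 2 ≠ z) ↔ (∀ d : K, d ^ (q + 1) = 1 → d ^ 2 ≠ -z) := fun z => by
      constructor <;> intro H d hd he <;>
        exact H (ε * d) (by rw [mul_pow, hεq, hd, one_mul]) (by rw [mul_pow, hε, he]; ring)
    rw [or_iff_right h4, ← nonpower_iff hK Nat.prime_two hd2 hw]
    constructor
    · rintro ⟨z, hz, hnp, hw'⟩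
      exact ⟨-z, by rw [hev.neg_pow, hz], (key z).1 hnp, hw'⟩
    · rintro ⟨t, ht, hnp, hw'⟩
      exact ⟨-t, by rw [hev.neg_pow, ht], (key t).1 hnp, by rw [neg_neg, hw']⟩

/-- An element with `x ^ 2` a non-square scalar. -/
theorem exists_swap (p : ℕ) [Fact p.Prime] [CharP K p] (hK : Fintype.card K = q ^ 2) (hp : p ≠ 2) {w : ℕ}
    (hw : 1 ≤ w) (hn : n = 2 * w) (hc : q % 4 = 1 ∨ padicValNat 2 (q + 1) ≤ padicValNat 2 w) :
    ∃ (g : GU n K q) (b : K), (g.1 : Matrix (Fin n) (Fin n) K).det = 1 ∧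
      (g.1 : Matrix (Fin n) (Fin n) K) ^ 2 = (b * b) • 1 ∧ (∀ d : K, (g.1 : Matrix (Fin n) (Fin n) K) ≠ d • 1) ∧
      b ≠ -b ∧ (qFrob hK b)⁻¹ = -b ∧ (qFrob hK (-b))⁻¹ = b ∧
      (g.1 : Matrix (Fin n) (Fin n) K).charpoly = (X - Polynomial.C b) ^ w * (X - Polynomial.C (-b)) ^ w := by
  obtain ⟨hq, h2⟩ := odd_q (p := p) hK hp
  obtain ⟨z, hz, hnp, hzw⟩ := (nonsquare_iff hK hq h2 hw).2 hc
  obtain ⟨b, hb, hbn, h1, h1'⟩ := exists_sqrt (p := p) hK hp hz hnp
  have hz0 : z ≠ 0 := fun h => by rw [h, zero_pow (Nat.succ_ne_zero q)] at hz; exact zero_ne_one hz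
  obtain ⟨g, hgP, hg⟩ := realise p hK (n := n) (r := 2) (by exact_mod_cast h2) hz0
    (P := (X - Polynomial.C b) ^ w * (X - Polynomial.C (-b)) ^ w)
    (((monic_X_sub_C b).pow w).mul ((monic_X_sub_C (-b)).pow w))
    (by rw [((monic_X_sub_C b).pow w).natDegree_mul ((monic_X_sub_C (-b)).pow w), natDegree_pow, natDegree_pow,
      natDegree_X_sub_C, natDegree_X_sub_C, hn]; omega)
    (cdual_two hK hbn h1 h1' w w) (fun f _ hi hd => by
      rw [show (X ^ 2 - Polynomial.C z : K[X]) = (X - Polynomial.C b) * (X - Polynomial.C (-b)) by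
        rw [← hb, map_neg, map_mul]; ring]
      rcases hi.prime.dvd_or_dvd hd with h' | h'
      · exact (hi.prime.dvd_of_dvd_pow h').mul_right _
      · exact (hi.prime.dvd_of_dvd_pow h').mul_left _)
  refine ⟨g, b, ?_, hb.symm ▸ hg, fun d hd => ?_, hbn, h1, h1', hgP⟩
  · rw [Matrix.det_eq_sign_charpoly_coeff, hgP, ← constantCoeff_apply, map_mul, map_pow, map_pow,
      constantCoeff_apply, constantCoeff_apply, coeff_sub, coeff_sub, coeff_X_zero, coeff_C_zero, coeff_C_zero,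
      zero_sub, zero_sub, neg_neg, Fintype.card_fin, hn, (even_two_mul w).neg_one_pow, one_mul, ← mul_pow,
      neg_mul, hb, hzw]
  · rw [hd, charpoly_scalar] at hgP
    have e1 := congrArg (eval b) hgP
    have e2 := congrArg (eval (-b)) hgP
    simp only [eval_mul, eval_pow, eval_sub, eval_X, eval_C, sub_self, zero_pow (show w ≠ 0 by omega), zero_mul,
      mul_zero] at e1 e2
    exact hbn ((sub_eq_zero.1 (eq_zero_of_pow_eq_zero e1)).trans (sub_eq_zero.1 (eq_zero_of_pow_eq_zero e2)).symm)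

end Cfsg.Agent.UnitDerangeCases
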