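import Mathlib
import Cfsg.Agent.Lib.Classical.UnitOrders

/-! The dichotomy for element orders of `PSU_n`. -/

set_option autoImplicit false

namespace Cfsg.Agent.Classical

open Matrix Polynomial

variable {F : Type*} [Field F] {ι : Type*} [Fintype ι] [DecidableEq ι]

/-- A polynomial vanishing at all eigenvalues evaluates to a nilpotent. -/
theorem aeval_pow_eq_zero_of_eigRoots {K : Type*} [Field K] [Algebra F K] [IsAlgClosed K] [DecidableEq K]
    (A : Matrix ι ι F) (h : F[X]) (hv : ∀ x ∈ eigRoots K A, aeval x h = 0) :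
    (aeval A h) ^ Fintype.card ι = 0 := by
  set R := eigRoots K A
  set AK := A.map (algebraMap F K)
  by_cases hh : h = 0
  · subst hh
    rcases isEmpty_or_nonempty ι with hι | hι
    · exact Matrix.ext fun i => isEmptyElim i
    · rw [map_zero, zero_pow Fintype.card_pos.ne']
  have hsplit : AK.charpoly = (R.map fun a => X - C a).prod :=
    (IsAlgClosed.splits _).eq_prod_roots_of_monic (Matrix.charpoly_monic _)
  have hhK : h.map (algebraMap F K) ≠ 0 :=
    (Polynomial.map_ne_zero_iff (algebraMap F K).injective).2 hh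
  have hdvd : AK.charpoly ∣ (h.map (algebraMap F K)) ^ Fintype.card ι := by
    have h2 : (R.toFinset.val.map fun a => X - C a).prod ∣ h.map (algebraMap F K) := by
      refine (Multiset.prod_X_sub_C_dvd_iff_le_roots hhK _).2 ((Multiset.le_iff_subset R.toFinset.nodup).2 ?_)
      intro x hx
      rw [Polynomial.mem_roots hhK, IsRoot, eval_map_algebraMap]
      exact hv x (Multiset.mem_toFinset.1 hx)
    have h3 : R ≤ Fintype.card ι • R.toFinset.val := Multiset.le_iff_count.2 fun x => by
      rw [Multiset.count_nsmul]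
      by_cases hx : x ∈ R
      · rw [Multiset.count_eq_one_of_mem R.toFinset.nodup (Multiset.mem_toFinset.2 hx), mul_one]
        exact (Multiset.count_le_card x R).trans_eq (card_eigRoots A)
      · rw [Multiset.count_eq_zero.2 hx]; exact Nat.zero_le _
    rw [hsplit]
    refine (Multiset.prod_dvd_prod_of_le (Multiset.map_le_map h3)).trans ?_
    rw [Multiset.map_nsmul, Multiset.prod_nsmul]
    exact pow_dvd_pow_of_dvd h2 _
  obtain ⟨g, hg⟩ := hdvd
  have h4 := congrArg (aeval AK) hg
  rw [map_mul, Matrix.aeval_self_charpoly, zero_mul, map_pow, aeval_map_algebraMap] at h4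
  refine Matrix.map_injective (algebraMap F K).injective ?_
  show ((aeval A h) ^ Fintype.card ι).map (algebraMap F K) = (0 : Matrix ι ι F).map (algebraMap F K)
  rw [Matrix.map_zero _ (map_zero _), Matrix.map_pow]
  refine Eq.trans ?_ h4
  congr 1
  exact (Polynomial.aeval_algHom_apply (Algebra.ofId F K).mapMatrix A h).symm

/-- A polynomial annihilating a matrix vanishes at its eigenvalues. -/
theorem aeval_eigRoot_eq_zero {K : Type*} [Field K] [Algebra F K] [Nonempty ι] {A : Matrix ι ι F} {h : F[X]}
    (hA : aeval A h = 0) {x : K} (hx : x ∈ eigRoots K A) : aeval x h = 0 := by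
  have h1 : aeval (A.map (algebraMap F K)) (h.map (algebraMap F K)) = 0 := by
    rw [aeval_map_algebraMap]
    refine ((Polynomial.aeval_algHom_apply (Algebra.ofId F K).mapMatrix A h)).trans ?_
    rw [hA, map_zero]
  have h2 := spectrum.subset_polynomial_aeval (A.map (algebraMap F K)) (h.map (algebraMap F K))
    ⟨x, mem_eigRoots_iff.1 hx, rfl⟩
  rw [h1, spectrum.zero_eq] at h2
  simpa [eval_map_algebraMap] using h2

theorem transpose_aeval' {R : Type*} [CommRing R] (A : Matrix ι ι R) (h : R[X]) :
    (aeval A h)ᵀ = aeval Aᵀ h := by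
  induction h using Polynomial.induction_on' with
  | add p q hp hq => simp [map_add, Matrix.transpose_add, hp, hq]
  | monomial k a => simp [aeval_monomial, Algebra.algebraMap_eq_smul_one, Matrix.transpose_smul, Matrix.transpose_pow]

theorem map_aeval' {R : Type*} [CommRing R] (f : R →+* R) (A : Matrix ι ι R) (h : R[X]) :
    (aeval A h).map f = aeval (A.map f) (h.map f) := by
  induction h using Polynomial.induction_on' with
  | add p q hp hq => simp [map_add, Matrix.map_add, hp, hq, Polynomial.map_add]
  | monomial k a =>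
    rw [Polynomial.map_monomial, aeval_monomial, aeval_monomial, Algebra.algebraMap_eq_smul_one,
      Algebra.algebraMap_eq_smul_one, smul_one_mul, smul_one_mul, ← Matrix.map_pow]
    ext i j
    simp

theorem exists_idempotent_pow {M : Type*} [Monoid M] [Finite M] (x : M) :
    ∃ e, 0 < e ∧ x ^ e * x ^ e = x ^ e := by
  obtain ⟨i, j, hij, heq⟩ := Finite.exists_ne_map_eq_of_infinite (fun i : ℕ => x ^ i)
  wlog hlt : i < j generalizing i j
  · exact this j i hij.symm heq.symm (by omega)
  set d := j - i
  have hper : ∀ k, i ≤ k → ∀ t, x ^ (k + t * d) = x ^ k := by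
    intro k hk t
    induction t with
    | zero => simp
    | succ t ih =>
      obtain ⟨l, hl⟩ := Nat.exists_eq_add_of_le (show i ≤ k + t * d by omega)
      rw [show k + (t + 1) * d = j + l by rw [add_mul, one_mul]; omega, pow_add, ← heq, ← pow_add, ← hl, ih]
  refine ⟨(i + 1) * d, Nat.mul_pos (by omega) (by omega), ?_⟩
  rw [← pow_add]
  refine hper _ ?_ (i + 1)
  calc i ≤ (i + 1) * 1 := by omega
    _ ≤ (i + 1) * d := Nat.mul_le_mul_left _ (by omega)

theorem eq_of_idempotent_nilpotent {R : Type*} [Ring R] {e f : R} (he : e * e = e) (hf : f * f = f)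
    (hc : Commute e f) {k : ℕ} (hn : (e - f) ^ k = 0) : e = f := by
  have hfe : f * e = e * f := hc.eq.symm
  have h2 : (e - f) * (e - f) = e + f - 2 • (e * f) := by
    rw [sub_mul, mul_sub, mul_sub, he, hf, hfe]; abel
  have h3 : (e - f) * (e - f) * (e - f) = e - f := by
    rw [h2, mul_sub, sub_mul, sub_mul, add_mul, add_mul, smul_mul_assoc, smul_mul_assoc, he, hf, mul_assoc e f e,
      hfe, ← mul_assoc e e f, he, mul_assoc e f f, hf]
    abel
  have h4 : ∀ t, (e - f) ^ (2 * t + 1) = e - f := fun t => by
    induction t with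
    | zero => simp
    | succ t ih => rw [show 2 * (t + 1) + 1 = (2 * t + 1) + 2 by ring, pow_add, ih, sq, ← mul_assoc, h3]
  rw [← sub_eq_zero, ← h4 k]
  exact pow_eq_zero_of_le (by omega) hn

/-- The eigenvalues of an inverse. -/
theorem roots_charpoly_inv {K : Type*} [Field K] [IsAlgClosed K] {A B : Matrix ι ι K} (hBA : B * A = 1) :
    B.charpoly.roots = A.charpoly.roots.map (fun x => x⁻¹) := by
  have hAB : A * B = 1 := mul_eq_one_comm.1 hBA
  have hdetA : A.det ≠ 0 := fun h => by
    have := congrArg Matrix.det hAB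
    rw [Matrix.det_mul, h, zero_mul, Matrix.det_one] at this
    exact zero_ne_one this
  have h0 : ∀ x ∈ A.charpoly.roots, x ≠ 0 := by
    intro x hx hx0
    apply hdetA
    rw [Matrix.det_eq_prod_roots_charpoly]
    exact Multiset.prod_eq_zero (hx0 ▸ hx)
  have h1 : A.charpoly.reverse = C ((-1 : K) ^ Fintype.card ι * A.det) * B.charpoly := by
    rw [Matrix.reverse_charpoly, Matrix.charpolyRev, Matrix.charpoly, map_mul, map_pow, map_neg, map_one,
      mul_assoc, RingHom.map_det, ← Matrix.det_mul, ← Matrix.det_neg]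
    congr 1
    rw [Matrix.charmatrix, mul_sub, RingHom.mapMatrix_apply, RingHom.mapMatrix_apply, ← Matrix.map_mul, hAB,
      Matrix.map_one C (map_zero _) (map_one _), neg_sub, Matrix.scalar_apply]
    congr 1
    ext i j
    simp [Matrix.mul_diagonal, Matrix.diagonal_mul]
  have h2 : A.charpoly.reverse = (A.charpoly.roots.map fun x => C (-x) * (X - C x⁻¹)).prod := by
    conv_lhs => rw [(IsAlgClosed.splits A.charpoly).eq_prod_roots_of_monic (Matrix.charpoly_monic _)]
    generalize A.charpoly.roots = R at h0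
    induction R using Multiset.induction with
    | empty => simpa using Polynomial.reverse_C (1 : K)
    | cons a R ih =>
      rw [Multiset.map_cons, Multiset.prod_cons, Polynomial.reverse_mul_of_domain,
        ih fun x hx => h0 x (Multiset.mem_cons_of_mem hx), Multiset.map_cons, Multiset.prod_cons]
      congr 1
      rw [show (X - C a : K[X]) = X + C (-a) by rw [map_neg, sub_eq_add_neg], Polynomial.reverse_add_C,
        show (X : K[X]).reverse = 1 by rw [reverse, natDegree_X, ← pow_one X, reflect_monomial]; simp,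
        natDegree_X, pow_one, mul_sub, ← C_mul, neg_mul, mul_inv_cancel₀ (h0 a (Multiset.mem_cons_self a R))]
      simp
      ring
  have h3 := h1.symm.trans h2
  rw [Multiset.prod_map_mul, show (fun x : K => X - C x⁻¹) = (fun y => X - C y) ∘ (fun x => x⁻¹) from rfl,
    show (fun x : K => C (-x)) = C ∘ (fun x => -x) from rfl, ← Multiset.map_map, ← Multiset.map_map,
    ← map_multiset_prod] at h3
  have h4 := congrArg Polynomial.roots h3
  have hne : (A.charpoly.roots.map fun x => -x).prod ≠ 0 := by
    simp only [ne_eq, Multiset.prod_eq_zero_iff, Multiset.mem_map, neg_eq_zero, not_exists, not_and]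
    exact fun x hx => h0 x hx
  rwa [Polynomial.roots_C_mul _ (mul_ne_zero (pow_ne_zero _ (neg_ne_zero.2 one_ne_zero)) hdetA),
    Polynomial.roots_C_mul _ hne, Polynomial.roots_multiset_prod_X_sub_C] at h4

/-- Elements fixed by `x ↦ x ^ |F|` come from `F`. -/
theorem exists_algebraMap_of_pow_card [Fintype F] {K : Type*} [Field K] [Algebra F K] {x : K}
    (hx : x ^ Fintype.card F = x) : ∃ c : F, algebraMap F K c = x := by
  classical
  by_contra hcon
  push Not at hcon
  have hne : (X ^ Fintype.card F - X : K[X]) ≠ 0 := FiniteField.X_pow_card_sub_X_ne_zero K Fintype.one_lt_card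
  have hsub : insert x (Finset.univ.image (algebraMap F K)) ⊆ (X ^ Fintype.card F - X : K[X]).roots.toFinset := by
    intro y hy
    rw [Multiset.mem_toFinset, mem_roots hne]
    rcases Finset.mem_insert.1 hy with rfl | hy
    · simp [hx]
    · obtain ⟨c, -, rfl⟩ := Finset.mem_image.1 hy
      simp [← map_pow, FiniteField.pow_card]
  have h := (Finset.card_le_card hsub).trans ((Multiset.toFinset_card_le _).trans (card_roots' _))
  rw [Finset.card_insert_of_notMem (by simp only [Finset.mem_image, Finset.mem_univ, true_and, not_exists]; exact hcon),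
    Finset.card_image_of_injective _ (algebraMap F K).injective, Finset.card_univ,
    FiniteField.X_pow_card_sub_X_natDegree_eq K Fintype.one_lt_card] at h
  omega

/-- An element of order `r` commuting with `A` from a self-adjoint idempotent commuting with it. -/
theorem exists_psu_commuting_root [Fintype F] {q n : ℕ} (hF : Fintype.card F = q ^ 2) {r : ℕ} (hr : r.Prime)
    (hrq : r ∣ q + 1) (hrn : ¬ r ∣ n) (s : SU n F q) (Em : Matrix (Fin n) (Fin n) F) (hE : IsIdempotentElem Em)
    (hE0 : Em ≠ 0) (hE1 : Em ≠ 1) (hadj : (Em.map (qFrob hF))ᵀ = Em) (hcomm : Commute Em (suVal s)) :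
    ∃ t : SU n F q, orderOf (suToPSU n F q t) = r ∧ Commute t s := by
  classical
  haveI := Fact.mk hr
  obtain ⟨z, hz⟩ := exists_norm_one_order hF hr hrq
  have hz0 : z ≠ 0 := by rintro rfl; rw [orderOf_zero] at hz; exact hr.ne_zero hz.symm
  have hzr : z ^ r = 1 := hz ▸ pow_orderOf_eq_one z
  have hzq : z ^ (q + 1) = 1 := orderOf_dvd_iff_pow_eq_one.1 (hz ▸ hrq)
  let e : Module.End F (Fin n → F) := Matrix.toLin' Em
  have he : IsIdempotentElem e := by
    show e * e = e
    rw [Module.End.mul_eq_comp, ← Matrix.toLin'_mul, hE.eq]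
  set n1 := Module.finrank F (LinearMap.range e)
  set n2 := Module.finrank F (LinearMap.ker e)
  have hn12 : n1 + n2 = n := by
    rw [LinearMap.finrank_range_add_finrank_ker, Module.finrank_fin_fun]
  let u := z ^ n2
  let v := (z⁻¹) ^ n1
  have huq : u ^ (q + 1) = 1 := by rw [← pow_mul, mul_comm, pow_mul, hzq, one_pow]
  have hvq : v ^ (q + 1) = 1 := by rw [← pow_mul, mul_comm, pow_mul, inv_pow, hzq, inv_one, one_pow]
  let M := u • Em + v • (1 - Em)
  have hdet : M.det = 1 := by
    rw [← LinearMap.det_toLin', map_add, map_smul, map_smul, map_sub, Matrix.toLin'_one]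
    rw [← Module.End.one_eq_id, det_idempotent_combination e he u v]
    simp only [u, v, n1, n2, ← pow_mul]
    rw [mul_comm (Module.finrank F (LinearMap.range e)), ← mul_pow, mul_inv_cancel₀ hz0, one_pow]
  have hmul : ∀ a b a' b' : F, (a • Em + b • (1 - Em)) * (a' • Em + b' • (1 - Em)) =
      (a * a') • Em + (b * b') • (1 - Em) := fun a b a' b' => by
    simp only [add_mul, mul_add, smul_mul_smul_comm, hE.eq, hE.mul_one_sub_self, hE.one_sub_mul_self,
      hE.one_sub.eq, smul_zero, add_zero, zero_add]
  have hMU : Mᵀ * M.map (qFrob hF) = 1 := by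
    have hMadj : (M.map (qFrob hF))ᵀ = u ^ q • Em + v ^ q • (1 - Em) := by
      ext i j
      have h1 : qFrob hF (Em j i) = Em i j := congrFun (congrFun hadj i) j
      simp only [M, Matrix.transpose_apply, Matrix.map_apply, Matrix.add_apply, Matrix.smul_apply, Matrix.sub_apply,
        smul_eq_mul, map_add, map_mul, map_sub, h1, qFrob_apply hF u, qFrob_apply hF v]
      simp [Matrix.one_apply, eq_comm, apply_ite (qFrob hF)]
    have h2 : (M.map (qFrob hF))ᵀ * M = 1 := by
      rw [hMadj, hmul, ← pow_succ, ← pow_succ, huq, hvq, one_smul, one_smul, add_sub_cancel]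
    simpa using congrArg Matrix.transpose h2
  have hpow : ∀ k, M ^ k = u ^ k • Em + v ^ k • (1 - Em) := by
    intro k
    induction k with
    | zero => simp
    | succ k ih => rw [pow_succ, ih, hmul, pow_succ, pow_succ]
  refine ⟨suMk hF M hdet hMU, orderOf_eq_prime ?_ ?_, suVal_ext ?_⟩
  · refine (suToPSU_pow_eq_one_iff hF _ _).2 ⟨1, ?_⟩
    have hu : u ^ r = 1 := by rw [← pow_mul, mul_comm, pow_mul, hzr, one_pow]
    have hv : v ^ r = 1 := by rw [← pow_mul, mul_comm, pow_mul, inv_pow, hzr, inv_one, one_pow]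
    rw [suVal_suMk, hpow, hu, hv, map_one, one_smul, one_smul, add_sub_cancel]
  · intro h
    obtain ⟨c, hc⟩ := (suToPSU_pow_eq_one_iff hF _ 1).1 (by rw [pow_one]; exact h)
    rw [suVal_suMk, pow_one, scalar_eq_smul_one] at hc
    have hc' : u • Em + v • (1 - Em) = c • (1 : Matrix (Fin n) (Fin n) F) := hc
    have huv : u - v ≠ 0 := by
      rw [sub_ne_zero]
      intro huv
      apply hrn
      rw [← hz, ← hn12]
      refine orderOf_dvd_of_pow_eq_one ?_
      rw [pow_add, show z ^ n2 = (z⁻¹) ^ n1 from huv, ← mul_pow, mul_inv_cancel₀ hz0, one_pow]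
    have hs : Em = ((c - v) / (u - v)) • (1 : Matrix (Fin n) (Fin n) F) := by
      have : (u - v) • Em = (c - v) • (1 : Matrix (Fin n) (Fin n) F) := by
        rw [sub_smul, sub_smul, ← hc', smul_sub]; abel
      rw [div_eq_inv_mul, mul_smul, ← this, smul_smul, inv_mul_cancel₀ huv, one_smul]
    haveI : Nonempty (Fin n) := Fin.pos_iff_nonempty.1 (Nat.pos_of_ne_zero fun h0 => hrn (h0 ▸ dvd_zero r))
    set a := (c - v) / (u - v)
    have ha : a * a = a := by
      have := hE.eq
      rw [hs, smul_mul_smul_comm, one_mul] at this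
      exact smul_left_injective F one_ne_zero this
    rcases ((IsIdempotentElem.iff_eq_zero_or_one.1 ha).symm : a = 1 ∨ a = 0) with h1 | h1
    · exact hE1 (by rw [hs, h1, one_smul])
    · exact hE0 (by rw [hs, h1, zero_smul])
  · rw [suVal_mul, suVal_mul, suVal_suMk]
    exact ((hcomm.smul_left u).add_left (((Commute.one_left _).sub_left hcomm).smul_left v)).eq

/-- The order dichotomy for `PSU_n`. -/
theorem psu_dichotomy [Fintype F] {q n p a r : ℕ} [Fact p.Prime] [CharP F p] (hF : Fintype.card F = q ^ 2)
    (hq : q = p ^ a) (hn : 1 ≤ n) (hr : r.Prime) (hrq : r ∣ q + 1) (hrn : ¬ r ∣ n) (x : PSU n F q) :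
    (∃ y : PSU n F q, orderOf x ∣ orderOf y ∧ r ∣ orderOf y) ∨
      orderOf x ∣ p ^ Nat.clog p n * psuTorus q n := by
  classical
  by_cases hrx : r ∣ orderOf x
  · exact Or.inl ⟨x, dvd_rfl, hrx⟩
  obtain ⟨s, rfl⟩ : ∃ s, suToPSU n F q s = x := QuotientGroup.mk'_surjective _ x
  haveI : Nonempty (Fin n) := ⟨⟨0, hn⟩⟩
  haveI : Finite (SU n F q) := Finite.of_injective suVal fun a b h => suVal_ext h
  have hq2 := two_le_q hF
  let K := AlgebraicClosure F
  haveI : CharP K p := charP_of_injective_algebraMap (algebraMap F K).injective p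
  set A : Matrix (Fin n) (Fin n) F := suVal s with hA
  set N := orderOf s
  have hN0 : 0 < N := orderOf_pos s
  have hAN : A ^ N = 1 := by rw [hA, ← suVal_pow, pow_orderOf_eq_one]; rfl
  have hadjA : (A.map (qFrob hF))ᵀ * A = 1 := by
    have := congrArg Matrix.transpose (suVal_transpose_mul hF s)
    simpa [hA] using this
  let Q : K →+* K := iterateFrobenius K p a
  have hQ : ∀ y, Q y = y ^ q := fun y => by rw [hq]; exact iterateFrobenius_def p a y
  have hQalg : Q.comp (algebraMap F K) = (algebraMap F K).comp (qFrob hF) := RingHom.ext fun c => by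
    show Q (algebraMap F K c) = algebraMap F K (qFrob hF c)
    rw [hQ, qFrob_apply, map_pow]
  set R := eigRoots K A with hR
  have hRcard : Multiset.card R = n := by rw [hR, card_eigRoots, Fintype.card_fin]
  let ψ : K → K := fun y => (y ^ q)⁻¹
  have hψinj : Function.Injective ψ := fun y z h => Q.injective (by rw [hQ, hQ]; exact inv_injective h)
  have hψR : R.map ψ = R := by
    have h1 : (((A.map (qFrob hF))ᵀ).map (algebraMap F K)).charpoly.roots = R.map (fun y => y⁻¹) := by
      refine roots_charpoly_inv ?_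
      rw [← Matrix.map_mul, hadjA]
      simp
    have h2 : (((A.map (qFrob hF))ᵀ).map (algebraMap F K)).charpoly.roots = R.map Q := by
      rw [Matrix.charpoly_map, Matrix.charpoly_transpose, Matrix.charpoly_map, Polynomial.map_map, ← hQalg,
        ← Polynomial.map_map, ← Matrix.charpoly_map]
      conv_lhs => rw [(IsAlgClosed.splits _).eq_prod_roots_of_monic (Matrix.charpoly_monic (A.map (algebraMap F K)))]
      rw [Polynomial.map_multiset_prod, Multiset.map_map]
      have : (Polynomial.map Q ∘ fun a => X - C a) = (fun b => X - C b) ∘ Q := funext fun b => by simp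
      rw [this, ← Multiset.map_map, Polynomial.roots_multiset_prod_X_sub_C]
      rfl
    have h3 := congrArg (Multiset.map (fun y => y⁻¹)) (h2.symm.trans h1)
    rw [Multiset.map_map, Multiset.map_map] at h3
    have h4 : ((fun y : K => y⁻¹) ∘ Q) = ψ := funext fun y => by simp [ψ, hQ]
    rw [h4] at h3
    rw [h3, show ((fun y : K => y⁻¹) ∘ fun y => y⁻¹) = id from funext fun y => inv_inv y, Multiset.map_id]
  have hψmem : ∀ y ∈ R, ψ y ∈ R := fun y hy => hψR ▸ Multiset.mem_map_of_mem ψ hy
  have hψsurj : ∀ y ∈ R, ∃ w ∈ R, ψ w = y := fun y hy => Multiset.mem_map.1 (hψR.symm ▸ hy)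
  have hψcount : ∀ y, R.count (ψ y) = R.count y := fun y => by
    conv_lhs => rw [← hψR]
    exact Multiset.count_map_eq_count' _ _ hψinj y
  obtain ⟨lam, hlam⟩ : ∃ lam, lam ∈ R :=
    Multiset.exists_mem_of_ne_zero (fun h => by rw [h] at hRcard; simp at hRcard; omega)
  have hR0 : ∀ y ∈ R, y ≠ 0 := fun y hy h0 => by
    have := pow_eq_one_of_eigRoot hAN hy
    rw [h0, zero_pow hN0.ne'] at this
    exact zero_ne_one this
  have hit : ∀ i, ψ^[i] lam = lam ^ ((-(q : ℤ)) ^ i) := fun i => by
    induction i with
    | zero => simp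
    | succ i ih =>
      rw [Function.iterate_succ_apply', ih]
      show ((lam ^ ((-(q : ℤ)) ^ i)) ^ q)⁻¹ = _
      rw [← zpow_natCast, ← _root_.zpow_mul, ← _root_.zpow_neg, pow_succ, mul_neg]
  have hitR : ∀ i, ψ^[i] lam ∈ R := fun i => by
    induction i with
    | zero => exact hlam
    | succ i ih => rw [Function.iterate_succ_apply']; exact hψmem _ ih
  have hper : lam ∈ Function.periodicPts ψ := by
    obtain ⟨i, j, hij, he⟩ := Finite.exists_ne_map_eq_of_infinite
      (fun i : ℕ => (⟨_, Multiset.mem_toFinset.2 (hitR i)⟩ : R.toFinset))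
    have he' := congrArg Subtype.val he
    simp only at he'
    wlog hlt : i < j generalizing i j
    · exact this j i hij.symm he.symm he'.symm (by omega)
    refine Function.mk_mem_periodicPts (n := j - i) (by omega) (hψinj.iterate i ?_)
    rw [← Function.iterate_add_apply, Nat.add_sub_cancel' hlt.le]
    exact he'.symm
  set d := Function.minimalPeriod ψ lam
  have hd : 0 < d := Function.minimalPeriod_pos_of_mem_periodicPts hper
  let P := (Finset.range d).image fun i => ψ^[i] lam
  have hPmem : ∀ i, ψ^[i] lam ∈ P := fun i => by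
    rw [← Function.iterate_mod_minimalPeriod_eq]
    exact Finset.mem_image_of_mem _ (Finset.mem_range.2 (Nat.mod_lt _ hd))
  have hPψ : ∀ y ∈ P, ψ y ∈ P := fun y hy => by
    obtain ⟨i, -, rfl⟩ := Finset.mem_image.1 hy
    rw [← Function.iterate_succ_apply' ψ]
    exact hPmem _
  have himg : P.image ψ = P := Finset.eq_of_subset_of_card_le
    (Finset.image_subset_iff.2 hPψ) (by rw [Finset.card_image_of_injective _ hψinj])
  have hPiff : ∀ y, ψ y ∈ P ↔ y ∈ P := fun y => by
    refine ⟨fun h => ?_, hPψ y⟩
    rw [← himg, Finset.mem_image] at h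
    obtain ⟨w, hw, hwy⟩ := h
    exact hψinj hwy ▸ hw
  by_cases hall : ∀ y ∈ R, y ∈ P
  · -- a single orbit
    right
    set P' := p ^ Nat.clog p n
    set T := psuTorus q n
    have hcount : ∀ i, R.count (ψ^[i] lam) = R.count lam := fun i => by
      induction i with
      | zero => rfl
      | succ i ih => rw [Function.iterate_succ_apply', hψcount, ih]
    set mu := R.count lam
    have hinj : Set.InjOn (fun i => ψ^[i] lam) (Finset.range d) := fun i hi j hj h =>
      Function.iterate_injOn_Iio_minimalPeriod (by simpa using hi) (by simpa using hj) h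
    have hRP : R = mu • P.val := by
      ext y
      rw [Multiset.count_nsmul]
      by_cases hy : y ∈ P
      · rw [Multiset.count_eq_one_of_mem P.nodup hy, mul_one]
        obtain ⟨i, -, rfl⟩ := Finset.mem_image.1 hy
        exact hcount i
      · rw [Multiset.count_eq_zero.2 (show y ∉ P.val from hy), mul_zero,
          Multiset.count_eq_zero.2 fun h => hy (hall y h)]
    have hn' : d * mu = n := by
      rw [← hRcard, hRP, Multiset.card_nsmul, ← Finset.card_def, Finset.card_image_of_injOn hinj,
        Finset.card_range, mul_comm]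
    have hprod : (∏ y ∈ P, y) ^ mu = 1 := by
      have h1 : (A.map (algebraMap F K)).det = R.prod := Matrix.det_eq_prod_roots_charpoly _
      rw [← RingHom.mapMatrix_apply, ← RingHom.map_det, show A.det = 1 from s.1.2, map_one, hRP,
        Multiset.prod_nsmul] at h1
      rw [Finset.prod_eq_multiset_prod, Multiset.map_id']
      exact h1.symm
    set S : ℤ := ∑ i ∈ Finset.range d, (-(q : ℤ)) ^ i
    have hl0 : lam ≠ 0 := hR0 _ hlam
    have hprodS : (∏ y ∈ P, y) = lam ^ S := by
      rw [Finset.prod_image hinj]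
      simp only [hit]
      have key : ∀ t : Finset ℕ, ∏ i ∈ t, lam ^ ((-(q : ℤ)) ^ i) = lam ^ (∑ i ∈ t, (-(q : ℤ)) ^ i) := fun t => by
        induction t using Finset.induction with
        | empty => simp
        | insert i t hi ih => rw [Finset.prod_insert hi, Finset.sum_insert hi, zpow_add₀ hl0, ih]
      exact key _
    let u : Kˣ := Units.mk0 lam hl0
    set M := orderOf u
    have hM1 : M ∣ altSum q d * mu := by
      have h : u ^ (S * mu) = 1 := Units.ext (by
        rw [Units.val_zpow_eq_zpow_val, Units.val_mk0, _root_.zpow_mul, zpow_natCast, ← hprodS, hprod, Units.val_one])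
      have h2 := Int.natCast_dvd.1 (orderOf_dvd_iff_zpow_eq_one.2 h)
      rwa [Int.natAbs_mul, Int.natAbs_natCast] at h2
    have hM2 : M ∣ altSum q d * (q + 1) := by
      have hfix : lam ^ ((-(q : ℤ)) ^ d) = lam := by rw [← hit]; exact Function.iterate_minimalPeriod
      have h : u ^ ((-(q : ℤ)) ^ d - 1) = 1 := Units.ext (by
        rw [Units.val_zpow_eq_zpow_val, Units.val_mk0, zpow_sub₀ hl0, hfix, zpow_one, div_self hl0, Units.val_one])
      have h2 := Int.natCast_dvd.1 (orderOf_dvd_iff_zpow_eq_one.2 h)
      rwa [natAbs_neg_pow_sub_one (by omega), ← altSum_mul (by omega)] at h2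
    have hM3 : M ∣ T * (q + 1) := by
      refine (Nat.dvd_gcd hM1 hM2).trans ?_
      rw [Nat.gcd_mul_left]
      have h := unitary_arith_key (q := q) d mu
      rwa [hn'] at h
    set η := lam ^ T with hη
    have hηq : η ^ (q + 1) = 1 := by
      rw [hη, ← pow_mul]
      exact congrArg Units.val (orderOf_dvd_iff_pow_eq_one.1 hM3 : u ^ (T * (q + 1)) = 1)
    have hηfix : ∀ y ∈ R, y ^ T = η := by
      intro y hy
      obtain ⟨i, -, rfl⟩ := Finset.mem_image.1 (hall y hy)
      show (ψ^[i] lam) ^ T = η
      induction i with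
      | zero => rfl
      | succ i ih =>
        rw [Function.iterate_succ_apply']
        show (((ψ^[i] lam) ^ q)⁻¹) ^ T = η
        rw [inv_pow, ← pow_mul, mul_comm, pow_mul, ih (hitR i)]
        refine inv_eq_of_mul_eq_one_right ?_
        rw [← pow_succ, hηq]
    have hηF : η ^ Fintype.card F = η := by
      have h1 : η ^ q = η⁻¹ := eq_inv_of_mul_eq_one_left (by rw [← pow_succ, hηq])
      rw [hF, sq, pow_mul, h1, inv_pow, h1, inv_inv]
    obtain ⟨c, hc⟩ := exists_algebraMap_of_pow_card hηF
    refine orderOf_dvd_of_pow_eq_one ((suToPSU_pow_eq_one_iff hF s _).2 ⟨c ^ P', ?_⟩)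
    have hnil : (aeval A (X ^ T - C c)) ^ Fintype.card (Fin n) = 0 :=
      aeval_pow_eq_zero_of_eigRoots (K := K) A _ fun y hy => by simp [hηfix y hy, hc]
    rw [Fintype.card_fin] at hnil
    have h2 : (aeval A (X ^ T - C c)) ^ P' = 0 :=
      pow_eq_zero_of_le (Nat.le_pow_clog (Fact.out : p.Prime).one_lt n) hnil
    rw [map_sub, map_pow, aeval_X, aeval_C, sub_pow_char_pow_of_commute _ _ (Algebra.commutes c _).symm,
      sub_eq_zero, ← pow_mul, mul_comm, ← map_pow] at h2
    exact h2
  · -- at least two orbits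
    left
    push Not at hall
    obtain ⟨nu, hnu, hnuP⟩ := hall
    let f : K[X] := ∏ y ∈ P, (X - C y)
    have hcoeff : ∀ k, f.coeff k ∈ Set.range (algebraMap F K) := by
      intro k
      refine exists_algebraMap_of_pow_card (x := f.coeff k) ?_
      have hf : f.map (Q.comp Q) = f := by
        simp only [f, Polynomial.map_prod, Polynomial.map_sub, Polynomial.map_X, Polynomial.map_C]
        have himg2 : P.image (fun y => ψ (ψ y)) = P := by
          rw [show (fun y => ψ (ψ y)) = ψ ∘ ψ from rfl, ← Finset.image_image, himg, himg]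
        conv_rhs => rw [← himg2, Finset.prod_image (fun a _ b _ h => hψinj (hψinj h))]
        refine Finset.prod_congr rfl fun y _ => ?_
        simp [ψ, hQ, inv_pow]
        rw [inv_inv, map_pow, map_pow]
      have h := congrArg (fun g => g.coeff k) hf
      simp only [Polynomial.coeff_map, RingHom.comp_apply, hQ] at h
      rwa [hF, sq, pow_mul]
    obtain ⟨u, hu⟩ : ∃ u : F[X], u.map (algebraMap F K) = f :=
      Polynomial.mem_lifts _ |>.1 ((Polynomial.lifts_iff_coeff_lifts f).2 hcoeff)
    have huy : ∀ y : K, aeval y u = 0 ↔ y ∈ P := fun y => by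
      rw [← eval_map_algebraMap, hu]
      simp only [f, Polynomial.eval_prod, eval_sub, eval_X, eval_C, Finset.prod_eq_zero_iff, sub_eq_zero]
      rw [Finset.prod_eq_zero_iff]
      exact ⟨fun ⟨w, hw, h⟩ => sub_eq_zero.1 h ▸ hw, fun h => ⟨y, h, sub_self y⟩⟩
    obtain ⟨e, he0, he⟩ := exists_idempotent_pow (aeval A u)
    let g : F[X] := 1 - u ^ e
    set Em := aeval A g with hEmdef
    have hann : aeval A (u ^ e * u ^ e - u ^ e) = 0 := by
      rw [map_sub, map_mul, map_pow, he, sub_self]
    have hgval : ∀ y ∈ R, aeval y g = if y ∈ P then 1 else 0 := by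
      intro y hy
      have h := aeval_eigRoot_eq_zero hann hy
      simp only [map_sub, map_mul, map_pow, sub_eq_zero] at h
      simp only [g, map_sub, map_one, map_pow]
      split_ifs with hyP
      · rw [(huy y).2 hyP, zero_pow he0.ne', sub_zero]
      · have hne : (aeval y u) ^ e ≠ 0 := pow_ne_zero _ fun h0 => hyP ((huy y).1 h0)
        rw [mul_left_eq_self₀] at h
        rw [h.resolve_right hne, sub_self]
    have hEidem : IsIdempotentElem Em := by
      show Em * Em = Em
      simp only [hEmdef, g, map_sub, map_one, map_pow, sub_mul, mul_sub, one_mul, mul_one, he]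
      abel
    have hE0 : Em ≠ 0 := fun h => by
      have h1 := aeval_eigRoot_eq_zero h hlam
      rw [hgval lam hlam, if_pos (show lam ∈ P from hPmem 0)] at h1
      exact one_ne_zero h1
    have hE1 : Em ≠ 1 := fun h => by
      have h1 := aeval_eigRoot_eq_zero (h := g - 1) (by rw [map_sub, map_one, ← hEmdef, h, sub_self]) hnu
      rw [map_sub, hgval nu hnu, if_neg hnuP, map_one, zero_sub, neg_eq_zero] at h1
      exact one_ne_zero h1
    have hadjA' : (A.map (qFrob hF))ᵀ = A ^ (N - 1) := by
      refine left_inv_eq_right_inv hadjA ?_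
      rw [← pow_succ', Nat.sub_add_cancel hN0, hAN]
    have hadj : (Em.map (qFrob hF))ᵀ = Em := by
      have hstar : (Em.map (qFrob hF))ᵀ = aeval A ((g.map (qFrob hF)).comp (X ^ (N - 1))) := by
        rw [hEmdef, map_aeval', transpose_aeval', hadjA', aeval_comp, map_pow, aeval_X]
      have hidem : (Em.map (qFrob hF))ᵀ * (Em.map (qFrob hF))ᵀ = (Em.map (qFrob hF))ᵀ := by
        rw [← Matrix.transpose_mul, ← Matrix.map_mul, hEidem.eq]
      refine eq_of_idempotent_nilpotent hidem hEidem.eq ?_ (k := Fintype.card (Fin n)) ?_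
      · rw [hstar, hEmdef]
        exact (Commute.all _ g).map (aeval A)
      · rw [hstar, hEmdef, ← map_sub]
        refine aeval_pow_eq_zero_of_eigRoots (K := K) A _ fun y hy => ?_
        obtain ⟨w, hw, hwy⟩ := hψsurj y hy
        have hyN : y ^ (N - 1) = Q w := by
          have h1 : y ^ (N - 1) * y = 1 := by
            rw [← pow_succ, Nat.sub_add_cancel hN0, pow_eq_one_of_eigRoot hAN hy]
          rw [hQ, eq_inv_of_mul_eq_one_left h1, ← hwy, inv_inv]
        rw [map_sub, aeval_comp, map_pow, aeval_X, hyN, sub_eq_zero]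
        have h2 : aeval (Q w) (g.map (qFrob hF)) = Q (aeval w g) := by
          rw [aeval_def, aeval_def, eval₂_map, ← hQalg, Polynomial.hom_eval₂]
        rw [h2, hgval w hw, hgval y hy, ← hwy]
        simp only [hPiff]
        split_ifs <;> simp
    obtain ⟨t, ht, hts⟩ := exists_psu_commuting_root hF hr hrq hrn s Em hEidem hE0 hE1 hadj
      (by
        have h := (Commute.all g (X : F[X])).map (aeval A)
        rwa [aeval_X] at h)
    refine ⟨suToPSU n F q s * suToPSU n F q t, ?_⟩
    have hco : Nat.Coprime (orderOf (suToPSU n F q s)) r := (hr.coprime_iff_not_dvd.2 hrx).symm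
    rw [(hts.symm.map (suToPSU n F q)).orderOf_mul_eq_mul_orderOf_of_coprime (ht ▸ hco), ht]
    exact ⟨dvd_mul_right _ _, dvd_mul_left _ _⟩

end Cfsg.Agent.Classical
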