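import Cfsg.Agent.Lib.Classical.UnitAutStructure
import Cfsg.Agent.Lib.Classical.PSLFieldAut
import Cfsg.Agent.Lib.Classical.SplitClassCount

/-!
Field automorphisms of prime order of `PSU_n(q)`: conjugacy in the coset, centralisers, split classes.
-/

set_option autoImplicit false
set_option linter.unusedSectionVars false

namespace Cfsg.Agent.Classical.PSUAut

open Matrix Cfsg.Agent.Classical.Descent

section

variable {F : Type*} [Field F] [Fintype F] {q n : ℕ} (hF : Fintype.card F = q ^ 2)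

local notation "V" => (Fin n → F)
local notation "Mn" => Matrix (Fin n) (Fin n) F
local notation "GI" => GL (Fin n) F
local notation "h" => hermForm n F q
local notation "cj" => qFrob hF
local notation "PS" => PSU n F q
local notation "π" => suToPSU n F q
local notation "Sc" => Matrix.GeneralLinearGroup.scalar (Fin n)

omit [Fintype F] in
theorem sc_coe (c : Fˣ) : ((Sc c : GI) : Mn) = (c : F) • (1 : Mn) := by
  rw [Matrix.GeneralLinearGroup.coe_scalar, Matrix.scalar_apply, Matrix.smul_one_eq_diagonal]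

include hF

theorem psuSemi_eq_one_iff' (hn : 3 ≤ n) {g : GU n F q} {σ : RingAut F} :
    psuSemi g σ = (1 : MulAut PS) ↔ σ = 1 ∧ ∃ c : Fˣ, (g : GI) = Sc c := by
  rw [psuSemi_eq_one_iff hF hn]
  constructor
  · rintro ⟨h1, c, hc⟩
    have hc0 : c ≠ 0 := fun h0 => by
      have h4 := (g : GI).det_ne_zero
      haveI : Nonempty (Fin n) := ⟨⟨0, by omega⟩⟩
      rw [hc, h0, zero_smul, Matrix.det_zero] at h4
      exact h4 rfl
    exact ⟨h1, Units.mk0 c hc0, Units.ext (hc.trans (sc_coe (Units.mk0 c hc0)).symm)⟩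
  · rintro ⟨h1, c, hc⟩
    exact ⟨h1, c, by rw [hc, sc_coe]⟩

theorem ker_inndiagHom_iff' (hn : 3 ≤ n) {g : GU n F q} :
    inndiagHom n F q g = 1 ↔ ∃ c : Fˣ, (g : GI) = Sc c := by
  rw [inndiagHom_apply, show (RingEquiv.refl F : F ≃+* F) = (1 : RingAut F) from rfl,
    psuSemi_eq_one_iff' hF hn]
  exact ⟨fun h1 => h1.2, fun h1 => ⟨rfl, h1⟩⟩

theorem semi_eq_iff (hn : 3 ≤ n) {g k : GU n F q} {σ : RingAut F} :
    (psuSemi g σ : MulAut PS) = psuSemi k σ ↔ ∃ c : Fˣ, (g : GI) = Sc c * (k : GI) := by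
  have e1 : (psuSemi g σ : MulAut PS) = inndiagHom n F q (g * k⁻¹) * psuSemi k σ := by
    rw [inndiagHom_apply, psuSemi_refl_mul, inv_mul_cancel_right]
  constructor
  · intro e
    rw [e1] at e
    obtain ⟨c, hc⟩ := (ker_inndiagHom_iff' hF hn).1 (mul_eq_right.1 e)
    exact ⟨c, by rw [← hc, Subgroup.coe_mul, Subgroup.coe_inv, inv_mul_cancel_right]⟩
  · rintro ⟨c, hc⟩
    rw [e1, (ker_inndiagHom_iff' hF hn).2 ⟨c, by
      rw [Subgroup.coe_mul, Subgroup.coe_inv, hc, mul_inv_cancel_right]⟩, one_mul]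

omit hF in
theorem psuSemi_pow (g : GU n F q) (σ : RingAut F) (k : ℕ) :
    ∃ N : GU n F q, (psuSemi g σ : MulAut PS) ^ k = psuSemi N (σ ^ k) ∧
      (N : GI) = twistNorm σ (g : GI) k := by
  induction k with
  | zero => exact ⟨1, psuSemi_one.symm, rfl⟩
  | succ k ih =>
    obtain ⟨N, hN, hN'⟩ := ih
    refine ⟨g * guMap σ N, by rw [pow_succ', hN, psuSemi_mul', pow_succ'], ?_⟩
    rw [Subgroup.coe_mul, guMap_coe, hN']
    rfl

theorem orderOf_field (hn : 3 ≤ n) {σ : RingAut F} {g : GU n F q} {r : ℕ} (hr : r.Prime) (hσ : σ ≠ 1)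
    (hord : orderOf (psuSemi g σ : MulAut PS) = r) :
    orderOf σ = r ∧ ∃ c, twistNorm σ (g : GI) r = Sc c := by
  have e := pow_orderOf_eq_one (psuSemi g σ : MulAut PS)
  obtain ⟨N, hN, hN'⟩ := psuSemi_pow g σ r
  rw [hord, hN, psuSemi_eq_one_iff' hF hn] at e
  obtain ⟨hσr, c, hc⟩ := e
  exact ⟨(hr.eq_one_or_self_of_dvd _ (orderOf_dvd_of_pow_eq_one hσr)).resolve_left
    fun h1 => hσ (orderOf_eq_one_iff.1 h1), c, by rw [← hN', hc]⟩

omit hF in
theorem conj_field (y : GU n F q) (σ : RingAut F) :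
    inndiagHom n F q y * psuSemi 1 σ * (inndiagHom n F q y)⁻¹ =
      (psuSemi (y * (guMap σ y)⁻¹) σ : MulAut PS) := by
  rw [inndiagHom_apply, psuSemi_refl_inv, psuSemi_refl_mul, psuSemi_mul', mul_one, map_inv]
  congr 1

/-- A field automorphism in the general sense is semilinear with field part of odd order. -/
theorem fieldClass_param (hn : 3 ≤ n) (hs : ¬(n = 3 ∧ q = 2)) {x : MulAut PS} (hx : IsFieldAutClassPSU x) :
    ∃ (g : GU n F q) (τ : RingAut F), τ ≠ 1 ∧ Odd (orderOf τ) ∧ x = psuSemi g τ := by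
  obtain ⟨α, φ, σ, hσ, hodd, hφ, hα⟩ := hx
  obtain ⟨g, τ, rfl⟩ := exists_param hF hn hs x
  obtain ⟨Ψ, -, hker⟩ := exists_fieldHom hF hn hs
  refine ⟨g, τ, ?_⟩
  obtain ⟨a, ρ, rfl⟩ := exists_param hF hn hs α
  rw [stdField_iff.1 hφ] at hα
  have h2 : psuSemi (1 : GU n F q) (σ : RingAut F) * psuSemi a ρ = psuSemi a ρ * psuSemi g τ := by
    rw [← hα, inv_mul_cancel_right]
  rw [psuSemi_mul', psuSemi_mul'] at h2
  have h3 : (σ : RingAut F) * ρ = ρ * τ := sigma_unique hF hn h2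
  have hτ : τ = MulAut.conj ρ⁻¹ (σ : RingAut F) := by
    rw [MulAut.conj_apply, inv_inv, mul_assoc, h3, inv_mul_cancel_left]
  refine ⟨fun h1 => hσ ?_, hτ ▸ ((MulAut.conj ρ⁻¹).orderOf_eq (σ : RingAut F)).symm ▸ hodd, rfl⟩
  rw [hτ] at h1
  exact (map_eq_one_iff _ (MulAut.conj ρ⁻¹).injective).1 h1

/-! ### The descent datum -/

theorem h_map_comp {F₀ : Type*} [Field F₀] {q₀ : ℕ} (j : F₀ →+* F) (hjq : ∀ a, (j a) ^ q = j (a ^ q₀))
    (u v : Fin n → F₀) : h (j ∘ u) (j ∘ v) = j (hermForm n F₀ q₀ u v) := by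
  simp [hermForm, map_sum, hjq]

omit hF in
/-- The data of the fixed field of an automorphism of odd prime order. -/
theorem exists_datum {p f : ℕ} [Fact p.Prime] (hq : q = p ^ f) (hF : Fintype.card F = q ^ 2)
    {σ : RingAut F} {r : ℕ} (hr : r.Prime) (hro : Odd r) (hσ : orderOf σ = r)
    (F₀ : Type*) [Field F₀] [Fintype F₀] (hF₀ : Fintype.card F₀ = (p ^ (f / r)) ^ 2) :
    r ∣ f ∧ ∃ j : F₀ →+* F, (∀ x, σ x = x ↔ x ∈ j.range) ∧ ∀ a, (j a) ^ q = j (a ^ (p ^ (f / r))) := by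
  have hF' : Fintype.card F = p ^ (2 * f) := by rw [hF, hq, ← pow_mul, mul_comm f]
  haveI : CharP F p := charP_of_card_eq_prime_pow hF'
  have h2r : r ∣ 2 * f := by
    obtain ⟨-, hcard⟩ := PSLAut.card_ringAut (F := F) hF'
    exact hσ ▸ hcard ▸ orderOf_dvd_natCard σ
  have hrf : r ∣ f := (Nat.Coprime.dvd_of_dvd_mul_left (Nat.coprime_two_right.2 hro) h2r)
  obtain ⟨-, -, j, hj⟩ := PSLAut.exists_fixed_embedding (p := p) hF' hσ F₀ (by
    rw [hF₀, ← pow_mul, Nat.mul_div_assoc 2 hrf, mul_comm])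
  refine ⟨hrf, j, hj, fun a => ?_⟩
  rw [← map_pow]
  congr 1
  set a0 := p ^ (f / r) with ha0
  have hq' : q = a0 ^ r := by rw [hq, ha0, ← pow_mul, Nat.div_mul_cancel hrf]
  obtain ⟨k, rfl⟩ := hro
  rw [hq', pow_succ, mul_comm, pow_mul, pow_mul]
  have hfix : ∀ i : ℕ, ∀ b : F₀, b ^ ((a0 ^ 2) ^ i) = b := fun i b => by
    rw [← hF₀]; exact FiniteField.pow_card_pow i b
  exact hfix k (a ^ a0)

section datum

variable {F₀ : Type*} [Field F₀] [Fintype F₀] {q₀ : ℕ} (hF₀ : Fintype.card F₀ = q₀ ^ 2)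
  {σ : RingAut F} (j : F₀ →+* F) (hj : ∀ x, σ x = x ↔ x ∈ j.range) (hjq : ∀ a, (j a) ^ q = j (a ^ q₀))

local notation "h₀" => hermForm n F₀ q₀

include hjq in
/-- Unitary matrices over the fixed field. -/
def guEmb : GU n F₀ q₀ →* GU n F q :=
  ((Matrix.GeneralLinearGroup.map j).comp (GU n F₀ q₀).subtype).codRestrict _ fun g => by
    have hq0 : Fintype.card F = q ^ 2 := hF
    have e := transpose_mul_of_preserves hF₀ (M := ((g : GL (Fin n) F₀) : Matrix (Fin n) (Fin n) F₀)) g.2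
    refine fun u v => preserves_of_transpose_mul hq0 ?_ u v
    show (((g : GL (Fin n) F₀) : Matrix (Fin n) (Fin n) F₀).map j)ᵀ *
      (((g : GL (Fin n) F₀) : Matrix (Fin n) (Fin n) F₀).map j).map cj = 1
    rw [Matrix.map_map, show (cj ∘ j : F₀ → F) = j ∘ qFrob hF₀ from funext fun a => by
      simp [qFrob_apply, hjq], ← Matrix.map_map, ← Matrix.transpose_map, ← Matrix.map_mul, e,
      Matrix.map_one _ (map_zero j) (map_one j)]

theorem guEmb_coe (g : GU n F₀ q₀) :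
    ((guEmb hF hF₀ j hjq g : GU n F q) : GI) = Matrix.GeneralLinearGroup.map j (g : GL (Fin n) F₀) := rfl

include hj in
theorem guMap_guEmb (g : GU n F₀ q₀) : guMap σ (guEmb hF hF₀ j hjq g) = guEmb hF hF₀ j hjq g := by
  refine Subtype.ext (Units.ext (Matrix.ext fun a b => ?_))
  exact (hj _).2 ⟨_, rfl⟩

include hj in
/-- Elements fixed up to a scalar are scalar multiples of elements over the fixed field. -/
theorem exists_of_fixed (hn : 1 ≤ n) {g : GU n F q} {c : Fˣ} (hg : gmap σ (g : GI) = Sc c * (g : GI)) :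
    ∃ (μ : Fˣ) (k : GU n F₀ q₀), (g : GI) = Sc μ * (guEmb hF hF₀ j hjq k : GU n F q) := by
  classical
  haveI : Nonempty (Fin n) := ⟨⟨0, hn⟩⟩
  obtain ⟨μ, k, hk, hgk⟩ := exists_fixed_of_map_eq_smul σ (g : GI) hg
  obtain ⟨k₀, rfl⟩ := PSLAut.mem_of_gmap_fixed hj hk
  set K : Matrix (Fin n) (Fin n) F₀ := (k₀ : GL (Fin n) F₀).val
  set e : Fin n → F₀ := Pi.single ⟨0, hn⟩ 1
  set lam := h₀ (K *ᵥ e) (K *ᵥ e)
  have hone : h₀ e e = 1 := by simp only [e]; rw [hermForm_single_right hF₀, Pi.single_eq_same]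
  have hμ : ∀ u v : Fin n → F₀,
      (μ : F) * cj (μ : F) * j (h₀ (K *ᵥ u) (K *ᵥ v)) = j (h₀ u v) := by
    intro u v
    have e1 := mem_GU.1 g.2 (j ∘ u) (j ∘ v)
    rw [hgk, Units.val_mul, sc_coe, Matrix.smul_mul, Matrix.one_mul, Matrix.smul_mulVec,
      Matrix.smul_mulVec, h_smul_left, h_smul_right hF, h_map_comp hF j hjq] at e1
    have hv : ∀ w : Fin n → F₀, ((Matrix.GeneralLinearGroup.map j k₀ : GI) : Mn) *ᵥ (j ∘ w) = j ∘ (K *ᵥ w) :=
      fun w => by funext i; simp [K, Matrix.mulVec, dotProduct, map_sum]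
    rw [hv, hv, h_map_comp hF j hjq, ← mul_assoc] at e1
    exact e1
  have hlam0 : lam ≠ 0 := fun h0 => by
    have := hμ e e
    rw [hone, map_one, show h₀ (K *ᵥ e) (K *ᵥ e) = lam from rfl, h0, map_zero, mul_zero] at this
    exact zero_ne_one this
  have hKform : ∀ u v, h₀ (K *ᵥ u) (K *ᵥ v) = lam * h₀ u v := by
    intro u v
    have e1 : (μ : F) * cj (μ : F) * j lam = 1 := by rw [hμ e e, hone, map_one]
    refine j.injective ?_
    rw [map_mul, ← hμ u v, ← mul_assoc, mul_comm (j lam), e1, one_mul]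
  obtain ⟨s, hs⟩ := exists_norm hF₀ (a := lam) (cj_h_self hF₀ _)
  have hs0 : s ≠ 0 := fun h0 => hlam0 (by rw [← hs, h0, zero_mul])
  have hk₁ : Matrix.GeneralLinearGroup.scalar (Fin n) (Units.mk0 s hs0)⁻¹ * k₀ ∈ GU n F₀ q₀ := by
    refine mem_GU.2 fun u v => ?_
    rw [Units.val_mul, sc_coe, Matrix.smul_mul, Matrix.one_mul, Matrix.smul_mulVec, Matrix.smul_mulVec,
      h_smul_left, h_smul_right hF₀, hKform, Units.val_inv_eq_inv_val, Units.val_mk0, ← hs, map_inv₀]
    have : qFrob hF₀ s ≠ 0 := (map_ne_zero _).2 hs0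
    field_simp
  refine ⟨μ * Units.map j.toMonoidHom (Units.mk0 s hs0), ⟨_, hk₁⟩, ?_⟩
  rw [guEmb_coe, map_mul, map_mul (Matrix.GeneralLinearGroup.map j), hgk,
    show Matrix.GeneralLinearGroup.map j (Matrix.GeneralLinearGroup.scalar (Fin n) (Units.mk0 s hs0)⁻¹) =
      (Sc (Units.map j.toMonoidHom (Units.mk0 s hs0)))⁻¹ from ?_, mul_assoc, mul_inv_cancel_left]
  rw [← map_inv, ← map_inv]
  refine Units.ext (Matrix.ext fun a b => ?_)
  by_cases hab : a = b <;> simp [hab, Units.val_inv_eq_inv_val]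

include hj hF₀ hjq in
/-- Elements of order `r` in the coset are conjugate to the standard one. -/
theorem exists_conj_field (hn : 3 ≤ n) {g : GU n F q} {c : Fˣ}
    (hc : twistNorm σ (g : GI) (orderOf σ) = Sc c) :
    ∃ y, (psuSemi g σ : MulAut PS) =
      inndiagHom n F q y * psuSemi 1 σ * (inndiagHom n F q y)⁻¹ := by
  classical
  haveI : Nonempty (Fin n) := ⟨⟨0, by omega⟩⟩
  obtain ⟨μ, y, hy⟩ := exists_coboundary_scalar σ (g : GI) hc
  have hσj : ∀ u : Fin n → F₀, σ ∘ (j ∘ u) = j ∘ u := fun u => funext fun i => (hj _).2 ⟨_, rfl⟩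
  have hgy : ((g : GI) : Mn) * ((y : GI) : Mn).map σ = (μ : F) • ((y : GI) : Mn) := by
    have e1 : (g : GI) * gmap σ y = Sc μ * y := by rw [hy, mul_assoc, inv_mul_cancel_right]
    have := congrArg Units.val e1
    rw [Units.val_mul, Units.val_mul, sc_coe, Matrix.smul_mul, Matrix.one_mul] at this
    exact this
  set Y : Mn := ((y : GI) : Mn)
  set Q : (Fin n → F₀) → (Fin n → F₀) → F := fun u v => h (Y *ᵥ (j ∘ u)) (Y *ᵥ (j ∘ v))
  have hQσ : ∀ u v, σ (Q u v) = (μ : F) * cj (μ : F) * Q u v := by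
    intro u v
    simp only [Q]
    rw [← h_comp, ← map_mulVec_comp, ← map_mulVec_comp, hσj, hσj, ← mem_GU.1 g.2,
      Matrix.mulVec_mulVec, Matrix.mulVec_mulVec, hgy, Matrix.smul_mulVec, Matrix.smul_mulVec,
      h_smul_left, h_smul_right hF, mul_assoc]
  have hQadd : ∀ u u' v, Q (u + u') v = Q u v + Q u' v := fun u u' v => by
    simp only [Q, show j ∘ (u + u') = j ∘ u + j ∘ u' from funext fun i => map_add j _ _,
      Matrix.mulVec_add, h_add_left]
  have hQsmul : ∀ (a : F₀) u v, Q (a • u) v = j a * Q u v := fun a u v => by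
    simp only [Q, show j ∘ (a • u) = j a • (j ∘ u) from funext fun i => map_mul j _ _,
      Matrix.mulVec_smul, h_smul_left]
  have hQsymm : ∀ u v, cj (Q u v) = Q v u := fun u v => cj_h hF _ _
  have hcjj : ∀ a, cj (j a) = j (qFrob hF₀ a) := fun a => by simp [qFrob_apply, hjq]
  have hnd : ∀ u, u ≠ 0 → ∃ v, Q u v ≠ 0 := by
    intro u hu
    by_contra hcon
    push Not at hcon
    refine hu (funext fun i => j.injective ?_)
    have h0 : Y *ᵥ (j ∘ u) = 0 := by
      refine eq_zero_of_h hF fun z => ?_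
      set B := (hermB hF n).flip (Y *ᵥ (j ∘ u))
      obtain ⟨z, rfl⟩ : ∃ z', z = Y *ᵥ z' := ⟨(((y : GI)⁻¹ : GI) : Mn) *ᵥ z, by
        rw [Matrix.mulVec_mulVec, Units.mul_inv, Matrix.one_mulVec]⟩
      have hz : ∀ k, h (Y *ᵥ (j ∘ u)) (Y *ᵥ Pi.single k 1) = 0 := fun k => by
        have := hcon (Pi.single k 1)
        simp only [Q] at this
        rwa [show j ∘ (Pi.single k 1 : Fin n → F₀) = Pi.single k 1 from
          funext fun l => by by_cases hl : l = k <;> simp [hl]] at this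
      rw [show Y *ᵥ z = ∑ k, z k • (Y *ᵥ Pi.single k 1) from by
        funext l; simp [Matrix.mulVec, dotProduct, Pi.single_apply, mul_comm],
        ← hermB_apply hF, map_sum, LinearMap.sum_apply]
      refine Finset.sum_eq_zero fun k _ => ?_
      rw [LinearMap.map_smulₛₗ, LinearMap.smul_apply, hermB_apply, hz, smul_zero]
    have h1 := congrArg (((y : GI)⁻¹ : GI).val *ᵥ ·) h0
    simp only [Y, Matrix.mulVec_mulVec, Units.inv_mul, Matrix.one_mulVec, Matrix.mulVec_zero] at h1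
    simpa using congrFun h1 i
  -- a vector of non-zero norm over the fixed field
  obtain ⟨w, hw⟩ : ∃ w, Q w w ≠ 0 := by
    by_contra hcon
    push Not at hcon
    obtain ⟨v, hv⟩ := hnd (Pi.single ⟨0, by omega⟩ 1) (by simp)
    set u : Fin n → F₀ := Pi.single ⟨0, by omega⟩ 1
    obtain ⟨a, ha⟩ : ∃ a, qFrob hF₀ a ≠ a := by
      by_contra hall
      push Not at hall
      exact qFrob_ne_id hF₀ (RingHom.ext hall)
    have key : ∀ b, j b * Q u v + cj (j b * Q u v) = 0 := fun b => by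
      have hQaddr : ∀ u v v', Q u (v + v') = Q u v + Q u v' := fun u v v' => by
        rw [← hQsymm, hQadd, map_add, hQsymm, hQsymm]
      have h1 := hcon (b • u + v)
      rw [hQadd, hQaddr, hQaddr, hcon (b • u), hcon v, hQsmul, ← hQsymm (b • u) v, hQsmul] at h1
      simpa using h1
    have h1 := key 1
    have h2 := key a
    rw [map_one, one_mul] at h1
    rw [map_mul, hcjj] at h2
    have h3 : (j a - j (qFrob hF₀ a)) * Q u v = 0 := by linear_combination h2 - j (qFrob hF₀ a) * h1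
    exact hv ((mul_eq_zero.1 h3).resolve_left (sub_ne_zero.2 fun e => ha (j.injective e).symm))
  set ν := Q w w
  have hνcj : cj ν = ν := hQsymm w w
  have hμ0 : (μ : F) * cj (μ : F) ≠ 0 := mul_ne_zero μ.ne_zero ((map_ne_zero _).2 μ.ne_zero)
  have hB : ∀ u v, ∃ b, j b = ν⁻¹ * Q v u := fun u v => (hj _).1 (by
    rw [map_mul, map_inv₀, hQσ, hQσ, mul_inv, mul_mul_mul_comm, inv_mul_cancel₀ hμ0, one_mul])
  choose B hB using hB
  let Bl : (Fin n → F₀) →ₛₗ[qFrob hF₀] (Fin n → F₀) →ₗ[F₀] F₀ := LinearMap.mk₂'ₛₗ (qFrob hF₀) (RingHom.id F₀) B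
    (fun u u' v => j.injective (by
      rw [map_add, hB, hB, hB, ← hQsymm, ← hQsymm u v, ← hQsymm u' v, hQadd, map_add, mul_add]))
    (fun a u v => j.injective (by
      rw [smul_eq_mul, map_mul, hB, hB, ← hQsymm, ← hQsymm u v, hQsmul, map_mul, hcjj]; ring))
    (fun u v v' => j.injective (by rw [map_add, hB, hB, hB, hQadd, mul_add]))
    (fun a u v => j.injective (by
      rw [RingHom.id_apply, smul_eq_mul, map_mul, hB, hB, hQsmul]; ring))
  have hS : Bl.IsSymm := ⟨fun u v => j.injective (by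
    show j (qFrob hF₀ (B u v)) = j (B v u)
    rw [← hcjj, hB, hB, map_mul, map_inv₀, hνcj, hQsymm])⟩
  obtain ⟨b, -, hb⟩ := exists_orthonormal_family_herm Bl (qFrob_ne_id hF₀) (qFrob_qFrob hF₀) hS n ⊤
    (fun u _ hu => by
      obtain ⟨v, hv⟩ := hnd u hu
      refine ⟨v, trivial, fun h0 => ?_⟩
      have h1 := hB u v
      rw [show B u v = 0 from h0, map_zero, eq_comm, ← hQsymm, mul_eq_zero, map_eq_zero] at h1
      rcases h1 with h1 | h1
      · exact inv_ne_zero hw h1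
      · exact hv h1) (by simp)
  -- the corrected coboundary
  obtain ⟨s, hs⟩ := exists_norm hF hνcj
  have hs0 : s ≠ 0 := fun h0 => hw (by rw [← hs, h0, zero_mul])
  set Z : Mn := Matrix.of fun i k => j (b k i)
  have hZcol : ∀ k, Z *ᵥ Pi.single k 1 = j ∘ b k := fun k => by
    rw [Matrix.mulVec_single_one]; rfl
  set W : Mn := s⁻¹ • (Y * Z)
  have hW : Wᵀ * W.map cj = 1 := by
    ext i k
    have h1 : (Wᵀ * W.map cj) i k = h (W *ᵥ Pi.single i 1) (W *ᵥ Pi.single k 1) := by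
      rw [Matrix.mulVec_single_one, Matrix.mulVec_single_one]
      rfl
    have h2 : Q (b i) (b k) = ν * if i = k then 1 else 0 := by
      have h3 := hB (b k) (b i)
      rw [show B (b k) (b i) = if k = i then 1 else 0 from hb k i] at h3
      have h4 : (if i = k then (1 : F) else 0) = j (if k = i then 1 else 0) := by
        rcases eq_or_ne i k with rfl | hik
        · simp
        · simp [hik, hik.symm]
      rw [h4, h3, mul_inv_cancel_left₀ hw]
    rw [h1]
    simp only [W, Matrix.smul_mulVec, ← Matrix.mulVec_mulVec, hZcol, h_smul_left, h_smul_right hF]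
    rw [show h (Y *ᵥ (j ∘ b i)) (Y *ᵥ (j ∘ b k)) = Q (b i) (b k) from rfl, h2, Matrix.one_apply,
      map_inv₀, ← hs]
    have : cj s ≠ 0 := (map_ne_zero _).2 hs0
    field_simp
  have hWu : IsUnit W.det := by
    have := congrArg Matrix.det hW
    rw [Matrix.det_mul, Matrix.det_transpose, Matrix.det_one] at this
    exact isUnit_of_dvd_one ⟨_, this.symm⟩
  set WG : GI := Matrix.GeneralLinearGroup.mk'' W hWu
  refine ⟨⟨WG, fun u v => preserves_of_transpose_mul hF hW u v⟩, ?_⟩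
  rw [conj_field, semi_eq_iff hF hn]
  refine ⟨μ * ((Units.mk0 s hs0)⁻¹ * Units.map σ.toMonoidHom (Units.mk0 s hs0))⁻¹, ?_⟩
  rw [Subgroup.coe_mul, Subgroup.coe_inv, guMap_coe]
  refine eq_mul_inv_of_mul_eq ?_ |>.trans (mul_assoc _ _ _)
  refine Units.ext ?_
  show ((g : GI) : Mn) * W.map σ = ((Sc _ : GI) : Mn) * W
  rw [sc_coe, Matrix.smul_mul, Matrix.one_mul]
  have hZσ : Z.map σ = Z := Matrix.ext fun i k => (hj _).2 ⟨_, rfl⟩
  have hWσ : W.map σ = σ s⁻¹ • (Y.map σ * Z) := by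
    have e1 : W.map σ = σ s⁻¹ • (Y * Z).map σ := by
      ext i k; simp only [W, Matrix.map_apply, Matrix.smul_apply, smul_eq_mul, map_mul]
    rw [e1, Matrix.map_mul, hZσ]
  rw [hWσ, Matrix.mul_smul, ← Matrix.mul_assoc, hgy, Matrix.smul_mul, smul_smul]
  show _ = _ • (s⁻¹ • (Y * Z))
  rw [smul_smul]
  congr 1
  simp only [Units.val_mul, Units.val_inv_eq_inv_val, Units.coe_map, Units.val_mk0]
  show σ s⁻¹ * _ = _ * (s⁻¹ * σ s)⁻¹ * s⁻¹
  rw [map_inv₀]
  have : σ s ≠ 0 := (map_ne_zero σ).2 hs0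
  field_simp

include hj hF₀ hjq in
theorem centralizer_field_iff (hn : 3 ≤ n) (g : GU n F q) :
    Commute (inndiagHom n F q g) (psuSemi 1 σ : MulAut PS) ↔
      ∃ c : Fˣ, gmap σ (g : GI) = Sc c * (g : GI) := by
  rw [inndiagHom_apply, Commute, SemiconjBy, psuSemi_refl_mul, mul_one, psuSemi_mul', one_mul,
    show (σ * (RingEquiv.refl F : RingAut F) : RingAut F) = σ from mul_one σ]
  constructor
  · intro e
    obtain ⟨c, hc⟩ := (semi_eq_iff hF hn).1 e.symm
    exact ⟨c, hc⟩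
  · rintro ⟨c, hc⟩
    exact ((semi_eq_iff hF hn).2 ⟨c, hc⟩).symm

include hj in
theorem guEmb_commute (hn : 3 ≤ n) (k : GU n F₀ q₀) :
    Commute (inndiagHom n F q (guEmb hF hF₀ j hjq k)) (psuSemi 1 σ : MulAut PS) := by
  refine (centralizer_field_iff hF hF₀ j hj hjq hn _).2 ⟨1, ?_⟩
  rw [map_one, one_mul]
  exact congrArg Subtype.val (guMap_guEmb hF hF₀ j hj hjq k)

include hj hF₀ hjq in
theorem centralizer_field_iso (hn : 3 ≤ n) :
    Nonempty (↥(inndiagPSU n F q ⊓ Subgroup.centralizer {(psuSemi 1 σ : MulAut PS)}) ≃* PGU n F₀ q₀) := by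
  haveI : Nonempty (Fin n) := ⟨⟨0, by omega⟩⟩
  let Φ : GU n F₀ q₀ →* ↥(inndiagPSU n F q ⊓ Subgroup.centralizer {(psuSemi 1 σ : MulAut PS)}) :=
    ((inndiagHom n F q).comp (guEmb hF hF₀ j hjq)).codRestrict _ fun g =>
      ⟨by rw [inndiagPSU_eq]; exact ⟨_, rfl⟩, Subgroup.mem_centralizer_singleton_iff.2
        (guEmb_commute hF hF₀ j hj hjq hn g)⟩
  have hsurj : Function.Surjective Φ := by
    rintro ⟨β, hβ1, hβ2⟩
    have hβ1' : β ∈ (inndiagHom n F q).range := by rw [← inndiagPSU_eq]; exact hβ1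
    obtain ⟨g, rfl⟩ := hβ1'
    obtain ⟨c, hc⟩ := (centralizer_field_iff hF hF₀ j hj hjq hn g).1
      (Subgroup.mem_centralizer_singleton_iff.1
      (show inndiagHom n F q g ∈ Subgroup.centralizer {(psuSemi 1 σ : MulAut PS)} from hβ2))
    obtain ⟨μ, k, hgk⟩ := exists_of_fixed hF hF₀ j hj hjq (by omega) hc
    refine ⟨k, Subtype.ext ?_⟩
    show inndiagHom n F q (guEmb hF hF₀ j hjq k) = inndiagHom n F q g
    exact ((semi_eq_iff hF hn).2 ⟨μ, hgk⟩).symm
  have hker : Φ.ker = (Geo.scalars (Fin n) F₀).subgroupOf (GU n F₀ q₀) := by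
    ext g
    rw [MonoidHom.mem_ker, Subtype.ext_iff, Subgroup.mem_subgroupOf, Geo.mem_scalars_iff]
    show inndiagHom n F q (guEmb hF hF₀ j hjq g) = 1 ↔ _
    rw [ker_inndiagHom_iff' hF hn]
    constructor
    · rintro ⟨c, hc⟩
      have he : ∀ a b, j (((g : GL (Fin n) F₀) : Matrix _ _ F₀) a b) =
          if a = b then (c : F) else 0 := fun a b => by
        refine (congrFun (congrFun (congrArg (fun u : GI => (u : Mn)) hc) a) b).trans ?_
        simp [Matrix.diagonal_apply]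
      set o : Fin n := ⟨0, by omega⟩
      have h0 : ((g : GL (Fin n) F₀) : Matrix _ _ F₀) o o ≠ 0 := fun h0 => by
        have := he o o
        rw [h0, map_zero, if_pos rfl] at this
        exact c.ne_zero this.symm
      refine ⟨Units.mk0 _ h0, Matrix.ext fun a b => j.injective ?_⟩
      rw [he]
      by_cases hab : a = b <;> simp [hab, he]
    · rintro ⟨c, hc⟩
      refine ⟨Units.map j.toMonoidHom c, Units.ext (Matrix.ext fun a b => ?_)⟩
      show j (((g : GL (Fin n) F₀) : Matrix _ _ F₀) a b) = _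
      rw [hc]
      by_cases hab : a = b <;> simp [hab]
  exact ⟨((QuotientGroup.quotientMulEquivOfEq hker.symm).trans
    (QuotientGroup.quotientKerEquivOfSurjective Φ hsurj)).symm⟩

end datum

omit hF in
theorem natCard_normOne {K : Type*} [Field K] [Fintype K] {a : ℕ} (hK : Fintype.card K = a ^ 2) :
    Nat.card (powMonoidHom (a + 1) : Kˣ →* Kˣ).ker = a + 1 := by
  classical
  rw [IsCyclic.card_powMonoidHom_ker, Nat.card_eq_fintype_card, Fintype.card_units, hK]
  have : a ^ 2 - 1 = (a + 1) * (a - 1) := by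
    rw [show a ^ 2 - 1 = a ^ 2 - 1 ^ 2 by norm_num, Nat.sq_sub_sq]
  rw [this, Nat.gcd_eq_right (dvd_mul_right _ _)]

theorem split_field {F₀ : Type*} [Field F₀] [Fintype F₀] {q₀ : ℕ} (hF₀ : Fintype.card F₀ = q₀ ^ 2)
    {σ : RingAut F} (j : F₀ →+* F) (hj : ∀ x, σ x = x ↔ x ∈ j.range)
    (hjq : ∀ a, (j a) ^ q = j (a ^ q₀)) (hn : 3 ≤ n) :
    splitClassCount (inndiagPSU n F q) (Inn PS) (psuSemi 1 σ) = Nat.gcd n ((q + 1) / (q₀ + 1)) := by
  classical
  haveI : Nonempty (Fin n) := ⟨⟨0, by omega⟩⟩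
  set N : Subgroup Fˣ := (powMonoidHom (q + 1) : Fˣ →* Fˣ).ker
  have hN : ∀ u : Fˣ, u ∈ N ↔ (u : F) * cj (u : F) = 1 := fun u => by
    rw [MonoidHom.mem_ker, powMonoidHom_apply, qFrob_apply, ← pow_succ', ← Units.val_pow_eq_pow_val,
      Units.val_eq_one]
  set D : Subgroup N := (Subgroup.map (Units.map (j : F₀ →* F))
    (powMonoidHom (q₀ + 1) : F₀ˣ →* F₀ˣ).ker).subgroupOf N
  have hle : Subgroup.map (Units.map (j : F₀ →* F)) (powMonoidHom (q₀ + 1) : F₀ˣ →* F₀ˣ).ker ≤ N := by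
    rintro _ ⟨u, hu, rfl⟩
    refine (hN _).2 ?_
    have hu' : ((u : F₀) ^ (q₀ + 1)) = 1 := by
      rw [← Units.val_pow_eq_pow_val, show u ^ (q₀ + 1) = 1 from hu, Units.val_one]
    show j (u : F₀) * cj (j (u : F₀)) = 1
    rw [qFrob_apply, hjq, ← map_mul, ← pow_succ', hu', map_one]
  have hD : Nat.card D = q₀ + 1 := by
    rw [Nat.card_congr (Subgroup.subgroupOfEquivOfLe hle).toEquiv,
      ← Nat.card_congr (Subgroup.equivMapOfInjective _ (Units.map (j : F₀ →* F)) (Units.map_injective j.injective)).toEquiv,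
      natCard_normOne hF₀]
  let d : GU n F q →* N := ((Matrix.GeneralLinearGroup.det).comp (GU n F q).subtype).codRestrict N fun g =>
    (hN _).2 (det_norm_one hF g.2)
  have hdval : ∀ g : GU n F q, ((d g : Fˣ) : F) = ((g : GI) : Mn).det := fun g => rfl
  have hd : Function.Surjective d := fun u => by
    obtain ⟨e, hee0, hee⟩ := exists_isotropic hF (show 2 ≤ n by omega)
    obtain ⟨f, P⟩ := exists_pair hF hee0 hee
    obtain ⟨v, -, -, hvv⟩ := exists_aniso_orth hF hn P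
    obtain ⟨g, hg, hdet, -⟩ := exists_reflection hF hvv ((hN _).1 u.2)
    exact ⟨⟨g, hg⟩, Subtype.ext (Units.ext hdet)⟩
  have hscN : ∀ {g : GU n F q} {k : GU n F q} {μ : Fˣ}, (g : GI) = Sc μ * (k : GI) → μ ∈ N := by
    intro g k μ hgk
    refine (hN μ).2 ?_
    have hv : h (Pi.single (⟨0, by omega⟩ : Fin n) 1) (Pi.single (⟨0, by omega⟩ : Fin n) (1 : F)) = 1 := by
      rw [hermForm_single_right hF, Pi.single_eq_same]
    have h1 := mem_GU.1 g.2 (Pi.single ⟨0, by omega⟩ 1) (Pi.single ⟨0, by omega⟩ 1)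
    rw [hgk, Units.val_mul, sc_coe, Matrix.smul_mul, Matrix.one_mul, Matrix.smul_mulVec,
      h_smul_left, h_smul_right hF, mem_GU.1 k.2, hv, mul_one] at h1
    exact h1
  have hdsc : ∀ {g k : GU n F q} {μ : Fˣ} (hgk : (g : GI) = Sc μ * (k : GI)),
      d g = (⟨μ, hscN hgk⟩ : N) ^ n * d k := by
    intro g k μ hgk
    refine Subtype.ext (Units.ext ?_)
    rw [hdval, hgk, Units.val_mul, sc_coe, Matrix.det_mul, Matrix.det_smul, Matrix.det_one, mul_one,
      Fintype.card_fin, Subgroup.coe_mul, Units.val_mul, hdval]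
    simp
  have hdsu : ∀ s : SU n F q, d (suToGU s) = 1 := fun s => Subtype.ext (Units.ext s.1.2)
  haveI : IsCyclic N := inferInstance
  rw [splitClassCount_eq_relIndex _ _ (inn_le_inndiag.trans inndiagPSU_eq.ge), inndiagPSU_eq,
    ← Subgroup.index_comap]
  have hL : Subgroup.comap (inndiagHom n F q)
      (Inn PS ⊔ ((inndiagHom n F q).range ⊓ Subgroup.centralizer {(psuSemi 1 σ : MulAut PS)}))
      = Subgroup.comap d ((powMonoidHom n : N →* N).range ⊔ D) := by
    ext g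
    rw [Subgroup.mem_comap, Subgroup.mem_comap, Subgroup.mem_sup_of_normal_left]
    constructor
    · rintro ⟨k, ⟨y, rfl⟩, _, ⟨⟨a, rfl⟩, hc⟩, he⟩
      obtain ⟨s, rfl⟩ := suToPSU_surjective y
      rw [conj_eq_psuSemi, ← inndiagHom_apply, ← map_mul] at he
      obtain ⟨c, hc'⟩ := (centralizer_field_iff hF hF₀ j hj hjq hn a).1
        (Subgroup.mem_centralizer_singleton_iff.1
        (show inndiagHom n F q a ∈ Subgroup.centralizer {(psuSemi 1 σ : MulAut PS)} from hc))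
      obtain ⟨μ, k, hak⟩ := exists_of_fixed hF hF₀ j hj hjq (by omega) hc'
      obtain ⟨ν, hν⟩ := (semi_eq_iff hF hn).1 he.symm
      rw [hdsc hν, map_mul, hdsu, one_mul, hdsc hak]
      refine mul_mem (Subgroup.mem_sup_left ⟨_, rfl⟩)
        (mul_mem (Subgroup.mem_sup_left ⟨_, rfl⟩) (Subgroup.mem_sup_right ?_))
      rw [Subgroup.mem_subgroupOf]
      refine ⟨Matrix.GeneralLinearGroup.det (k : GL (Fin n) F₀), ?_, ?_⟩
      · rw [SetLike.mem_coe, MonoidHom.mem_ker, powMonoidHom_apply]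
        refine Units.ext ?_
        rw [Units.val_pow_eq_pow_val, Units.val_one, pow_succ', ← qFrob_apply hF₀]
        exact det_norm_one hF₀ k.2
      · exact Units.ext ((RingHom.map_det j _).trans rfl)
    · intro hg
      obtain ⟨_, ⟨μ, rfl⟩, t, ht, hμt⟩ := Subgroup.mem_sup.1 hg
      rw [Subgroup.mem_subgroupOf] at ht
      obtain ⟨t₀, ht₀, hjt⟩ := ht
      obtain ⟨e, hee0, hee⟩ := exists_isotropic hF₀ (show 2 ≤ n by omega) (n := n)
      obtain ⟨f, P⟩ := exists_pair hF₀ hee0 hee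
      obtain ⟨v, -, -, hvv⟩ := exists_aniso_orth hF₀ hn P
      obtain ⟨a, ha, hdet, -⟩ := exists_reflection hF₀ hvv (a := ((t₀ : F₀ˣ) : F₀)) (by
        rw [qFrob_apply, ← pow_succ', ← Units.val_pow_eq_pow_val,
          show t₀ ^ (q₀ + 1) = 1 from ht₀, Units.val_one])
      set A := guEmb hF hF₀ j hjq ⟨a, ha⟩
      have hA : d A = t := by
        refine Subtype.ext (Units.ext ?_)
        rw [← hjt, hdval]
        show ((a : Matrix (Fin n) (Fin n) F₀).map j).det = j (t₀ : F₀)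
        rw [← RingHom.mapMatrix_apply, ← RingHom.map_det, hdet]
      -- divide by the scalar and by `A`
      have hμN : ((μ : Fˣ) : F) * cj ((μ : Fˣ) : F) = 1 := (hN _).1 μ.2
      have hSc : Sc (μ : Fˣ) ∈ GU n F q := mem_GU.2 fun u v => by
        rw [sc_coe, Matrix.smul_mulVec, Matrix.smul_mulVec, Matrix.one_mulVec, Matrix.one_mulVec,
          h_smul_left, h_smul_right hF, ← mul_assoc, hμN, one_mul]
      set S : GU n F q := ⟨_, hSc⟩
      have hS : d S = μ ^ n := by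
        have := hdsc (g := S) (k := 1) (μ := (μ : Fˣ)) (by rw [OneMemClass.coe_one, mul_one])
        rw [map_one, mul_one] at this
        exact this
      set R := g * A⁻¹ * S⁻¹
      have hR : d R = 1 := by
        rw [map_mul, map_mul, map_inv, map_inv, hA, hS, ← hμt, powMonoidHom_apply, mul_inv_cancel_right,
          mul_inv_cancel]
      let s : SU n F q := ⟨⟨((R : GI) : Mn), by rw [← hdval, hR]; rfl⟩, fun u v => mem_GU.1 R.2 u v⟩
      refine ⟨_, ⟨π s, rfl⟩, inndiagHom n F q A, ⟨⟨A, rfl⟩, Subgroup.mem_centralizer_singleton_iff.2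
        (guEmb_commute hF hF₀ j hj hjq hn ⟨a, ha⟩)⟩, ?_⟩
      rw [conj_eq_psuSemi, ← inndiagHom_apply, show suToGU s = R from Subtype.ext (Units.ext rfl),
        map_mul, map_mul, map_inv, map_inv,
        show inndiagHom n F q S = 1 from (ker_inndiagHom_iff' hF hn).2 ⟨_, rfl⟩, inv_one, mul_one,
        inv_mul_cancel_right]
  rw [hL, Subgroup.index_comap_of_surjective _ hd, index_pow_sup]
  congr 1
  have h1 := D.index_mul_card
  rw [hD, natCard_normOne hF] at h1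
  rw [← h1, Nat.mul_div_cancel _ (by omega)]

theorem fieldClass_std (hn : 3 ≤ n) (hs : ¬(n = 3 ∧ q = 2)) {p f : ℕ} [Fact p.Prime] (hq : q = p ^ f)
    {x : MulAut PS} (hx : IsFieldAutClassPSU x) {r : ℕ} (hr : r.Prime) (hxr : orderOf x = r) :
    ∃ (σ : RingAut F) (a : GU n F q), σ ≠ 1 ∧ orderOf σ = r ∧ Odd r ∧
      x = inndiagHom n F q a * psuSemi 1 σ * (inndiagHom n F q a)⁻¹ := by
  obtain ⟨g, τ, hτ, hodd, rfl⟩ := fieldClass_param hF hn hs hx
  obtain ⟨h1, c, hc⟩ := orderOf_field hF hn hr hτ hxr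
  subst h1
  have hk : f / orderOf τ ≠ 0 := by
    intro h0
    have h2 : orderOf τ ∣ 2 * f := by
      have hF' : Fintype.card F = p ^ (2 * f) := by rw [hF, hq, ← pow_mul, mul_comm f]
      obtain ⟨-, hcard⟩ := PSLAut.card_ringAut (F := F) hF'
      exact hcard ▸ orderOf_dvd_natCard τ
    have hf0 : f ≠ 0 := fun hf0 => by
      have h5 := two_le_q hF
      rw [hq, hf0, pow_zero] at h5; omega
    have hrf : orderOf τ ∣ f := Nat.Coprime.dvd_of_dvd_mul_left (Nat.coprime_two_right.2 hodd) h2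
    exact absurd h0 (Nat.div_pos (Nat.le_of_dvd (Nat.pos_of_ne_zero hf0) hrf) hr.pos).ne'
  letI : Fintype (GaloisField p (f / orderOf τ * 2)) := Fintype.ofFinite _
  have hF₀ : Fintype.card (GaloisField p (f / orderOf τ * 2)) = (p ^ (f / orderOf τ)) ^ 2 := by
    rw [← Nat.card_eq_fintype_card, GaloisField.card _ _ (by omega), ← pow_mul]
  obtain ⟨-, j, hj, hjq⟩ := exists_datum hq hF hr hodd rfl _ hF₀
  obtain ⟨y, hy⟩ := exists_conj_field hF hF₀ j hj hjq hn hc
  exact ⟨τ, y, hτ, rfl, hodd, hy⟩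

theorem coset_conj_iff (hn : 3 ≤ n) (hs : ¬(n = 3 ∧ q = 2)) {p f : ℕ} [Fact p.Prime] (hq : q = p ^ f)
    {x δ : MulAut PS} (hx : IsFieldAutClassPSU x) {r : ℕ} (hr : r.Prime)
    (hxr : orderOf x = r) (hδ : δ ∈ inndiagPSU n F q) :
    orderOf (δ * x) = r ↔ IsConjUnder (inndiagPSU n F q) x (δ * x) := by
  constructor
  swap
  · rintro ⟨a, -, he⟩
    rw [he, ← hxr]
    exact (MulAut.conj a).orderOf_eq x
  intro hord
  rw [inndiagPSU_eq] at hδ
  obtain ⟨d, rfl⟩ := hδ
  obtain ⟨σ, a, hσ, hσr, hodd, rfl⟩ := fieldClass_std hF hn hs hq hx hr hxr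
  have he : inndiagHom n F q d * (inndiagHom n F q a * psuSemi 1 σ * (inndiagHom n F q a)⁻¹) =
      psuSemi (d * (a * (guMap σ a)⁻¹)) σ := by
    rw [conj_field, inndiagHom_apply, psuSemi_refl_mul]
  rw [he] at hord
  obtain ⟨-, c, hc⟩ := orderOf_field hF hn hr hσ hord
  rw [← hσr] at hc
  have hk : f / r * 2 ≠ 0 := by
    intro h0
    have h2 : r ∣ 2 * f := by
      have hF' : Fintype.card F = p ^ (2 * f) := by rw [hF, hq, ← pow_mul, mul_comm f]
      obtain ⟨-, hcard⟩ := PSLAut.card_ringAut (F := F) hF'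
      exact hσr ▸ hcard ▸ orderOf_dvd_natCard σ
    have hf0 : f ≠ 0 := fun hf0 => by
      have h5 := two_le_q hF
      rw [hq, hf0, pow_zero] at h5; omega
    have hrf : r ∣ f := Nat.Coprime.dvd_of_dvd_mul_left (Nat.coprime_two_right.2 hodd) h2
    have := Nat.div_pos (Nat.le_of_dvd (Nat.pos_of_ne_zero hf0) hrf) hr.pos
    omega
  letI : Fintype (GaloisField p (f / r * 2)) := Fintype.ofFinite _
  have hF₀ : Fintype.card (GaloisField p (f / r * 2)) = (p ^ (f / r)) ^ 2 := by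
    rw [← Nat.card_eq_fintype_card, GaloisField.card _ _ hk, ← pow_mul]
  obtain ⟨-, j, hj, hjq⟩ := exists_datum hq hF hr hodd hσr _ hF₀
  obtain ⟨y, hy⟩ := exists_conj_field hF hF₀ j hj hjq hn hc
  rw [he, hy, inndiagPSU_eq]
  exact ⟨inndiagHom n F q (y * a⁻¹), ⟨_, rfl⟩, by rw [map_mul, map_inv]; group⟩

omit hF in
theorem inndiag_inf_centralizer_conj {a : MulAut PS} (ha : a ∈ inndiagPSU n F q) (x : MulAut PS) :
    Nonempty (↥(inndiagPSU n F q ⊓ Subgroup.centralizer {a * x * a⁻¹}) ≃*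
      ↥(inndiagPSU n F q ⊓ Subgroup.centralizer {x})) := by
  have e : (inndiagPSU n F q ⊓ Subgroup.centralizer {x}).map (MulAut.conj a).toMonoidHom =
      inndiagPSU n F q ⊓ Subgroup.centralizer {a * x * a⁻¹} := by
    ext y
    rw [Subgroup.mem_map_equiv, Subgroup.mem_inf, Subgroup.mem_inf,
      Subgroup.mem_centralizer_singleton_iff, Subgroup.mem_centralizer_singleton_iff,
      MulAut.conj_symm_apply]
    refine and_congr ⟨fun h1 => ?_, fun h1 => mul_mem (mul_mem (inv_mem ha) h1) ha⟩ ⟨fun h2 => ?_, fun h2 => ?_⟩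
    · simpa [mul_assoc] using mul_mem (mul_mem ha h1) (inv_mem ha)
    · calc y * (a * x * a⁻¹) = a * (a⁻¹ * y * a * x) * a⁻¹ := by group
        _ = _ := by rw [h2]; group
    · calc a⁻¹ * y * a * x = a⁻¹ * (y * (a * x * a⁻¹)) * a := by group
        _ = _ := by rw [h2]; group
  exact ⟨(MulEquiv.subgroupCongr e.symm).trans
    (Subgroup.equivMapOfInjective _ (MulAut.conj a).toMonoidHom (MulAut.conj a).injective).symm⟩

end

end Cfsg.Agent.Classical.PSUAut
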