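import Cfsg.Agent.Lib.Classical.UnitaryDetCentralizer
import Cfsg.Agent.Lib.Classical.InvariantCharpoly
import Cfsg.Agent.Lib.Classical.UnipotentRealisation

/-!
Invariant totally isotropic and non-degenerate subspaces of an element of `GU_n(q)` against its characteristic
polynomial, resp. its Jordan type.
-/

set_option autoImplicit false
set_option linter.unusedSectionVars false

namespace Cfsg.Agent.UnitInvariant

open Polynomial Matrix Module Cfsg.Agent.Classical Cfsg.Agent.UnitaryConjugacy Cfsg.Agent.UnitaryDetCentralizer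

variable {K : Type*} [Field K] [Fintype K] {q n m : ℕ}

/-- `A` leaves invariant a totally isotropic `m`-space. -/
def IsoFix (q m : ℕ) (A : Matrix (Fin n) (Fin n) K) : Prop :=
  ∃ W : Submodule K (Fin n → K), finrank K W = m ∧ (∀ u ∈ W, ∀ v ∈ W, hermForm n K q u v = 0) ∧
    ∀ w ∈ W, A *ᵥ w ∈ W

/-- `A` leaves invariant a non-degenerate `m`-space. -/
def NdFix (q m : ℕ) (A : Matrix (Fin n) (Fin n) K) : Prop :=
  ∃ W : Submodule K (Fin n → K), finrank K W = m ∧ (∀ u ∈ W, u ≠ 0 → ∃ v ∈ W, hermForm n K q u v ≠ 0) ∧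
    ∀ w ∈ W, A *ᵥ w ∈ W

section General

variable (hK : Fintype.card K = q ^ 2) {ι κ l : Type*}

/-- Conjugate transpose of rectangular matrices. -/
def hst (U : Matrix ι κ K) : Matrix κ ι K := (U.map (qFrob hK))ᵀ

theorem hst_eq_st (A : Matrix (Fin n) (Fin n) K) : hst hK A = st hK A := rfl

theorem hst_hst (U : Matrix ι κ K) : hst hK (hst hK U) = U := by
  ext i j; simp only [hst, Matrix.transpose_apply, Matrix.map_apply, qFrob_qFrob]

theorem hst_mul [Fintype κ] (U : Matrix ι κ K) (V : Matrix κ l K) : hst hK (U * V) = hst hK V * hst hK U := by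
  rw [hst, hst, hst, Matrix.map_mul, Matrix.transpose_mul]

theorem hst_one [DecidableEq ι] : hst hK (1 : Matrix ι ι K) = 1 := by
  rw [hst, Matrix.map_one _ (map_zero _) (map_one _), Matrix.transpose_one]

theorem hst_zero : hst hK (0 : Matrix ι κ K) = 0 := by
  rw [hst, Matrix.map_zero _ (map_zero _), Matrix.transpose_zero]

theorem hst_fromBlocks {ι' κ' : Type*} (A : Matrix ι κ K) (B : Matrix ι κ' K) (C : Matrix ι' κ K)
    (D : Matrix ι' κ' K) :
    hst hK (fromBlocks A B C D) = fromBlocks (hst hK A) (hst hK C) (hst hK B) (hst hK D) := by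
  rw [hst, Matrix.fromBlocks_map, Matrix.fromBlocks_transpose]; rfl

theorem hst_reindex (e : ι ≃ κ) (A : Matrix ι ι K) : hst hK (reindex e e A) = reindex e e (hst hK A) := by
  ext i j; rfl

theorem frob_mulVec [Fintype κ] (U : Matrix ι κ K) (c : κ → K) :
    (fun i => qFrob hK ((U *ᵥ c) i)) = U.map (qFrob hK) *ᵥ fun j => qFrob hK (c j) :=
  funext fun i => RingHom.map_mulVec (qFrob hK) U c i

theorem hermForm_eq (u v : Fin n → K) : hermForm n K q u v = (fun i => qFrob hK (v i)) ⬝ᵥ u :=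
  Finset.sum_congr rfl fun i _ => by show u i * v i ^ q = qFrob hK (v i) * u i; rw [qFrob_apply, mul_comm]

theorem hermForm_mulVec_right [Fintype κ] (U : Matrix (Fin n) κ K) (x : Fin n → K) (c : κ → K) :
    hermForm n K q x (U *ᵥ c) = (fun i => qFrob hK (c i)) ⬝ᵥ (hst hK U *ᵥ x) := by
  rw [hermForm_eq hK, frob_mulVec hK, hst, Matrix.dotProduct_mulVec, Matrix.vecMul_transpose]

/-- The inverse conjugate transpose. -/
def invSt [Fintype ι] [DecidableEq ι] : GL ι K →* GL ι K where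
  toFun A := ⟨hst hK ((A⁻¹ : GL ι K) : Matrix ι ι K), hst hK (A : Matrix ι ι K),
    by rw [← hst_mul, ← Units.val_mul, mul_inv_cancel, Units.val_one, hst_one],
    by rw [← hst_mul, ← Units.val_mul, inv_mul_cancel, Units.val_one, hst_one]⟩
  map_one' := Units.ext (by show hst hK _ = _; rw [inv_one, Units.val_one, hst_one])
  map_mul' A B := Units.ext (by show hst hK _ = hst hK _ * hst hK _; rw [← hst_mul, ← Units.val_mul, _root_.mul_inv_rev])

theorem charpoly_invSt (A : GL (Fin n) K) :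
    (invSt hK A : Matrix (Fin n) (Fin n) K).charpoly = cdual (qFrob hK) (A : Matrix (Fin n) (Fin n) K).charpoly := by
  rw [← charpoly_st_inv hK A]
  congr 1
  refine (Matrix.inv_eq_right_inv ?_).symm
  show st hK _ * hst hK _ = 1
  rw [← hst_eq_st hK, ← hst_mul, ← Units.val_mul, inv_mul_cancel, Units.val_one, hst_one]

end General

section Forward

variable {hK : Fintype.card K = q ^ 2}

/-- The matrix of a basis of an invariant subspace. -/
theorem exists_basis_matrix (hK : Fintype.card K = q ^ 2) (g : GU n K q) (W : Submodule K (Fin n → K))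
    (hW : ∀ w ∈ W, (g.1 : Matrix (Fin n) (Fin n) K) *ᵥ w ∈ W) :
    ∃ (U : Matrix (Fin n) (Fin (finrank K W)) K) (A : GL (Fin (finrank K W)) K),
      Function.Injective (fun c => U *ᵥ c) ∧ (∀ c, U *ᵥ c ∈ W) ∧ (∀ w ∈ W, ∃ c, U *ᵥ c = w) ∧
        (g.1 : Matrix (Fin n) (Fin n) K) * U = U * A.1 ∧
        hst hK U * (g.1 : Matrix (Fin n) (Fin n) K) = (invSt hK A).1 * hst hK U := by
  classical
  let b := Module.finBasis K W
  set G := (g.1 : Matrix (Fin n) (Fin n) K) with hGdef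
  let U : Matrix (Fin n) (Fin (finrank K W)) K := Matrix.of fun i j => (b j).1 i
  have hU : ∀ c, U *ᵥ c = ((∑ j, c j • b j : W) : Fin n → K) := fun c => by
    funext i
    simp [U, Matrix.mulVec, dotProduct, mul_comm]
  let A : Matrix (Fin (finrank K W)) (Fin (finrank K W)) K := Matrix.of fun i j => b.repr ⟨_, hW _ (b j).2⟩ i
  have hAU : G * U = U * A := by
    ext i j
    have h1 := hU (A.col j)
    rw [show (∑ k, A.col j k • b k : W) = ⟨_, hW _ (b j).2⟩ from b.sum_repr _] at h1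
    exact (congrFun h1 i).symm
  have hinj : Function.Injective (fun c => U *ᵥ c) := fun c c' h => by
    have h1 : (∑ j, c j • b j : W) = ∑ j, c' j • b j := Subtype.ext (by rw [← hU, ← hU]; exact h)
    have h2 := congrArg b.equivFun h1
    rwa [← b.equivFun_symm_apply, ← b.equivFun_symm_apply, LinearEquiv.apply_symm_apply,
      LinearEquiv.apply_symm_apply] at h2
  have hgi : Function.Injective (fun v => G *ᵥ v) := fun u v h => by
    have := congrArg (fun w => ((g.1⁻¹ : GL (Fin n) K) : Matrix (Fin n) (Fin n) K) *ᵥ w) h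
    simpa [hGdef, Matrix.mulVec_mulVec, ← Units.val_mul] using this
  have hAi : Function.Injective A.mulVec := fun c c' h => by
    refine hinj (hgi ?_)
    show G *ᵥ (U *ᵥ c) = G *ᵥ (U *ᵥ c')
    rw [Matrix.mulVec_mulVec, Matrix.mulVec_mulVec, hAU, ← Matrix.mulVec_mulVec, ← Matrix.mulVec_mulVec, h]
  obtain ⟨A', hA'⟩ := Matrix.mulVec_injective_iff_isUnit.1 hAi
  refine ⟨U, A', hinj, fun c => hU c ▸ (∑ j, c j • b j : W).2,
    fun w hw => ⟨b.equivFun ⟨w, hw⟩, by rw [hU, b.sum_equivFun]⟩, hA' ▸ hAU, ?_⟩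
  have h1 := congrArg (hst hK) hAU
  rw [hst_mul, hst_mul] at h1
  have h2 := congrArg (fun z => z * G) h1
  simp only [Matrix.mul_assoc] at h2
  rw [hst_eq_st hK G, (mem_GU_iff hK _).1 g.2, Matrix.mul_one] at h2
  show _ = hst hK _ * hst hK U
  calc hst hK U * G = hst hK (A'⁻¹).1 * (hst hK A * (hst hK U * G)) := by
        rw [← Matrix.mul_assoc (hst hK (A'⁻¹).1), ← hst_mul, ← hA', ← Units.val_mul, mul_inv_cancel, Units.val_one,
          hst_one, Matrix.one_mul]
    _ = _ := by rw [← h2]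

theorem charpoly_restrict (g : Matrix (Fin n) (Fin n) K) {W : Submodule K (Fin n → K)}
    (hW : W ≤ W.comap (Matrix.toLin' g)) {U : Matrix (Fin n) (Fin m) K} {A : Matrix (Fin m) (Fin m) K}
    (hinj : Function.Injective (fun c => U *ᵥ c)) (hUW : ∀ c, U *ᵥ c ∈ W) (hWU : ∀ w ∈ W, ∃ c, U *ᵥ c = w)
    (h : g * U = U * A) : ((Matrix.toLin' g).restrict hW).charpoly = A.charpoly := by
  let f : (Fin m → K) →ₗ[K] W := (Matrix.toLin' U).codRestrict W fun c => by simpa using hUW c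
  let e : (Fin m → K) ≃ₗ[K] W := LinearEquiv.ofBijective f ⟨fun c c' hc => hinj (by
      have := congrArg Subtype.val hc
      simpa [f] using this),
    fun w => by
      obtain ⟨c, hc⟩ := hWU w.1 w.2
      exact ⟨c, Subtype.ext (by simpa [f] using hc)⟩⟩
  rw [← Matrix.charpoly_toLin' A, ← LinearEquiv.charpoly_conj e]
  congr 1
  refine LinearMap.ext fun w => ?_
  obtain ⟨c, rfl⟩ := e.surjective w
  rw [LinearEquiv.conj_apply_apply, LinearEquiv.symm_apply_apply]
  refine Subtype.ext ?_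
  show Matrix.toLin' g (Matrix.toLin' U c) = Matrix.toLin' U (Matrix.toLin' A c)
  simp only [Matrix.toLin'_apply, Matrix.mulVec_mulVec, h]

/-- An invariant totally isotropic subspace. -/
theorem dvd_of_iso (hK : Fintype.card K = q ^ 2) (g : GU n K q) (h : IsoFix q m (g.1 : Matrix (Fin n) (Fin n) K)) :
    ∃ D : K[X], D.Monic ∧ D.natDegree = m ∧
      D * cdual (qFrob hK) D ∣ (g.1 : Matrix (Fin n) (Fin n) K).charpoly := by
  classical
  obtain ⟨W, rfl, hiso, hW⟩ := h
  obtain ⟨U, A, hinj, hUW, hWU, hAU, hstU⟩ := exists_basis_matrix hK g W hW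
  refine ⟨A.1.charpoly, Matrix.charpoly_monic _, by rw [Matrix.charpoly_natDegree_eq_dim, Fintype.card_fin], ?_⟩
  set G := (g.1 : Matrix (Fin n) (Fin n) K)
  set ψ := Matrix.toLin' (hst hK U)
  have hsurj : Function.Surjective ψ := by
    rw [← LinearMap.range_eq_top]
    refine Submodule.eq_top_of_finrank_eq ?_
    rw [Module.finrank_fin_fun]
    show (hst hK U).rank = _
    rw [hst, Matrix.rank_transpose]
    have hi : Function.Injective (Matrix.mulVecLin (U.map (qFrob hK))) := fun c c' hc => by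
      have e : ∀ c, U.map (qFrob hK) *ᵥ c = fun i => qFrob hK ((U *ᵥ fun j => qFrob hK (c j)) i) := fun c => by
        rw [frob_mulVec hK]; simp only [qFrob_qFrob]
      have h2 : (fun j => qFrob hK (c j)) = fun j => qFrob hK (c' j) := hinj (funext fun i => (qFrob hK).injective (by
        have := congrFun ((e c).symm.trans (hc.trans (e c'))) i
        exact this))
      exact funext fun j => (qFrob hK).injective (congrFun h2 j)
    rw [Matrix.rank, LinearMap.finrank_range_of_inj hi, Module.finrank_fin_fun]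
  set E := LinearMap.ker ψ
  have hWE : W ≤ E := fun v hv => LinearMap.mem_ker.2 (funext fun i => by
    have h0 := hiso v hv _ (hUW (Pi.single i 1))
    rw [hermForm_mulVec_right hK] at h0
    simpa [ψ, dotProduct, Pi.single_apply, apply_ite (qFrob hK)] using h0)
  have hWc : W ≤ W.comap (Matrix.toLin' G) := fun w hw => by simpa using hW w hw
  have hEc : E ≤ E.comap (Matrix.toLin' G) := fun v hv => LinearMap.mem_ker.2 (by
    have h0 : hst hK U *ᵥ v = 0 := hv
    show hst hK U *ᵥ (G *ᵥ v) = 0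
    rw [Matrix.mulVec_mulVec, hstU, ← Matrix.mulVec_mulVec, h0, Matrix.mulVec_zero])
  rw [← Matrix.charpoly_toLin' G, InvCharpoly.charpoly_mul E _ hEc, ← charpoly_restrict G hWc hinj hUW hWU hAU]
  refine mul_dvd_mul (InvCharpoly.charpoly_restrict_dvd hWE hWc hEc) (dvd_of_eq ?_)
  rw [charpoly_restrict G hWc hinj hUW hWU hAU, ← charpoly_invSt hK A,
    ← LinearEquiv.charpoly_conj (ψ.quotKerEquivOfSurjective hsurj), ← Matrix.charpoly_toLin']
  congr 1
  refine LinearMap.ext fun x => ?_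
  obtain ⟨v, rfl⟩ := hsurj x
  rw [LinearEquiv.conj_apply_apply, show (ψ.quotKerEquivOfSurjective hsurj).symm (ψ v) = Submodule.Quotient.mk v from
    (LinearEquiv.symm_apply_eq _).2 rfl, Submodule.mapQ_apply]
  show (invSt hK A).1 *ᵥ (hst hK U *ᵥ v) = hst hK U *ᵥ (G *ᵥ v)
  rw [Matrix.mulVec_mulVec, Matrix.mulVec_mulVec, hstU]

theorem gram_unit (hK : Fintype.card K = q ^ 2) {W : Submodule K (Fin n → K)} {m : ℕ}
    (hnd : ∀ u ∈ W, u ≠ 0 → ∃ v ∈ W, hermForm n K q u v ≠ 0) {U : Matrix (Fin n) (Fin m) K}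
    (hinj : Function.Injective (fun c => U *ᵥ c)) (hUW : ∀ c, U *ᵥ c ∈ W) (hWU : ∀ w ∈ W, ∃ c, U *ᵥ c = w) :
    IsUnit (hst hK U * U) := by
  refine Matrix.mulVec_injective_iff_isUnit.1 fun c c' hc => sub_eq_zero.1 ?_
  by_contra hne
  obtain ⟨v, hv, hv0⟩ := hnd _ (hUW (c - c')) fun h0 => hne (hinj (h0.trans (Matrix.mulVec_zero U).symm))
  obtain ⟨d, rfl⟩ := hWU v hv
  refine hv0 ?_
  rw [hermForm_mulVec_right hK, Matrix.mulVec_mulVec, Matrix.mulVec_sub, hc, sub_self, dotProduct_zero]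

/-- An invariant non-degenerate subspace. -/
theorem dvd_of_nd (hK : Fintype.card K = q ^ 2) (g : GU n K q) (h : NdFix q m (g.1 : Matrix (Fin n) (Fin n) K)) :
    ∃ D : K[X], D.Monic ∧ D.natDegree = m ∧ cdual (qFrob hK) D = D ∧
      D ∣ (g.1 : Matrix (Fin n) (Fin n) K).charpoly := by
  classical
  obtain ⟨W, rfl, hnd, hW⟩ := h
  obtain ⟨U, A, hinj, hUW, hWU, hAU, hstU⟩ := exists_basis_matrix hK g W hW
  obtain ⟨Γ, hΓ⟩ := gram_unit hK hnd hinj hUW hWU
  refine ⟨A.1.charpoly, Matrix.charpoly_monic _, by rw [Matrix.charpoly_natDegree_eq_dim, Fintype.card_fin], ?_, ?_⟩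
  · have h1 : Γ.1 * A.1 = (invSt hK A).1 * Γ.1 := by
      rw [hΓ, Matrix.mul_assoc, ← hAU, ← Matrix.mul_assoc, hstU, Matrix.mul_assoc]
    rw [← charpoly_invSt hK, ← Matrix.charpoly_units_conj Γ A.1, h1]
    congr 1
    rw [Matrix.mul_assoc, Matrix.mul_nonsing_inv _ ((Matrix.isUnit_iff_isUnit_det _).1 Γ.isUnit), Matrix.mul_one]
  · have hWc : W ≤ W.comap (Matrix.toLin' (g.1 : Matrix (Fin n) (Fin n) K)) := fun w hw => by simpa using hW w hw
    rw [← Matrix.charpoly_toLin' (g.1 : Matrix (Fin n) (Fin n) K), ← charpoly_restrict _ hWc hinj hUW hWU hAU]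
    exact InvCharpoly.charpoly_restrict_dvd_self hWc

/-- The Jordan type of an invariant non-degenerate subspace is part of the Jordan type. -/
theorem parts_of_nd (hK : Fintype.card K = q ^ 2) (g : GU n K q)
    (hnil : IsNilpotent ((g.1 : Matrix (Fin n) (Fin n) K) - 1))
    (h : NdFix q m (g.1 : Matrix (Fin n) (Fin n) K)) :
    ∃ ν : Multiset ℕ, ν ≤ GLUnipotentTypes.mparts ((g.1 : Matrix (Fin n) (Fin n) K) - 1) ∧ ν.sum = m := by
  classical
  obtain ⟨W, rfl, hnd, hW⟩ := h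
  obtain ⟨U, A, hinj, hUW, hWU, hAU, hstU⟩ := exists_basis_matrix hK g W hW
  have hΓ := gram_unit hK hnd hinj hUW hWU
  set G := (g.1 : Matrix (Fin n) (Fin n) K)
  have hN : (G - 1) * U = U * (A.1 - 1) := by
    rw [Matrix.sub_mul, Matrix.mul_sub, hAU, Matrix.one_mul, Matrix.mul_one]
  have hAn : IsNilpotent (A.1 - 1) := by
    obtain ⟨l, hl⟩ := hnil
    refine ⟨l, Matrix.ext_iff_mulVec.2 fun c => hinj ?_⟩
    have hp : ∀ j : ℕ, (G - 1) ^ j * U = U * (A.1 - 1) ^ j := fun j => by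
      induction j with
      | zero => rw [pow_zero, pow_zero, Matrix.one_mul, Matrix.mul_one]
      | succ j ih => rw [pow_succ, pow_succ, Matrix.mul_assoc, hN, ← Matrix.mul_assoc, ih, Matrix.mul_assoc]
    show U *ᵥ _ = U *ᵥ _
    rw [Matrix.mulVec_mulVec, ← hp, hl, Matrix.zero_mul, Matrix.zero_mulVec, Matrix.zero_mulVec, Matrix.mulVec_zero]
  refine ⟨GLUnipotentTypes.mparts (A.1 - 1), ?_,
    by rw [GLUnipotentTypes.sum_mparts hAn, Fintype.card_fin]⟩
  set ψ := Matrix.toLin' (hst hK U)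
  set E := LinearMap.ker ψ
  set N : Module.End K (Fin n → K) := Matrix.toLinAlgEquiv' (G - 1) with hNdef
  have hNn : IsNilpotent N := GLUnipotentTypes.nil_end hnil
  have hNE : ∀ v ∈ E, N v ∈ E := fun v hv => LinearMap.mem_ker.2 (by
    have h0 : hst hK U *ᵥ v = 0 := hv
    show hst hK U *ᵥ ((G - 1) *ᵥ v) = 0
    rw [Matrix.sub_mulVec, Matrix.one_mulVec, Matrix.mulVec_sub, Matrix.mulVec_mulVec, hstU,
      ← Matrix.mulVec_mulVec, h0, Matrix.mulVec_zero, sub_self])
  have hres : IsNilpotent (N.restrict hNE) := by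
    obtain ⟨l, hl⟩ := hNn
    refine ⟨l, LinearMap.ext fun v => Subtype.ext ?_⟩
    have : ∀ (j : ℕ) (v : E), ((N.restrict hNE ^ j) v : Fin n → K) = (N ^ j) v.1 := fun j => by
      induction j with
      | zero => intro v; rfl
      | succ j ihj => intro v; rw [JordanChains.pow_succ_apply, JordanChains.pow_succ_apply, ← ihj]; rfl
    rw [this, hl]; rfl
  let T : ((Fin (finrank K W) → K) × E) →ₗ[K] (Fin n → K) := (Matrix.toLin' U).coprod E.subtype
  have hTinj : Function.Injective T := (injective_iff_map_eq_zero T).2 fun x hx => by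
    have hx' : U *ᵥ x.1 + x.2.1 = 0 := hx
    have h0 := congrArg (fun v => hst hK U *ᵥ v) hx'
    simp only [Matrix.mulVec_add, Matrix.mulVec_mulVec, Matrix.mulVec_zero] at h0
    rw [show hst hK U *ᵥ x.2.1 = 0 from x.2.2, add_zero] at h0
    have hc : x.1 = 0 := Matrix.mulVec_injective_iff_isUnit.2 hΓ (h0.trans (Matrix.mulVec_zero _).symm)
    refine Prod.ext hc (Subtype.ext ?_)
    rwa [hc, Matrix.mulVec_zero, zero_add] at hx'
  have hTsurj : Function.Surjective T := fun v => by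
    obtain ⟨c, hc⟩ := (LinearMap.surjective_of_injective (f := Matrix.toLin' (hst hK U * U))
      (by simpa [Function.Injective] using Matrix.mulVec_injective_iff_isUnit.2 hΓ)) (ψ v)
    rw [Matrix.toLin'_apply] at hc
    refine ⟨(c, ⟨v - U *ᵥ c, LinearMap.mem_ker.2 ?_⟩), ?_⟩
    · show hst hK U *ᵥ (v - U *ᵥ c) = 0
      rw [Matrix.mulVec_sub, Matrix.mulVec_mulVec, hc]
      exact sub_self _
    · show U *ᵥ c + (v - U *ᵥ c) = v
      rw [add_sub_cancel]
  have hpr : IsNilpotent ((Matrix.toLinAlgEquiv' (A.1 - 1)).prodMap (N.restrict hNE) :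
      Module.End K ((Fin (finrank K W) → K) × E)) := by
    obtain ⟨a, ha⟩ := GLUnipotentTypes.nil_end hAn
    obtain ⟨b, hb⟩ := hres
    refine ⟨a + b, ?_⟩
    have hp : ∀ j : ℕ, ((Matrix.toLinAlgEquiv' (A.1 - 1)).prodMap (N.restrict hNE) :
        Module.End K ((Fin (finrank K W) → K) × E)) ^ j =
          ((Matrix.toLinAlgEquiv' (A.1 - 1)) ^ j).prodMap (N.restrict hNE ^ j) := fun j => by
      induction j with
      | zero => rfl
      | succ j ih => rw [pow_succ, ih]; rfl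
    rw [hp, pow_eq_zero_of_le (Nat.le_add_right a b) ha, pow_eq_zero_of_le (Nat.le_add_left b a) hb,
      LinearMap.prodMap_zero]
  have hsum := JordanChains.parts_congr hpr (LinearEquiv.ofBijective T ⟨hTinj, hTsurj⟩) (N' := N) fun x => by
    show U *ᵥ ((A.1 - 1) *ᵥ x.1) + (G - 1) *ᵥ x.2.1 = (G - 1) *ᵥ (U *ᵥ x.1 + x.2.1)
    rw [Matrix.mulVec_add, Matrix.mulVec_mulVec, Matrix.mulVec_mulVec, hN]
  rw [UnipotentRealisation.parts_prod (GLUnipotentTypes.nil_end hAn) hres] at hsum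
  rw [GLUnipotentTypes.mparts, GLUnipotentTypes.mparts, ← hNdef, hsum]
  exact Multiset.le_add_right _ _

end Forward

section Backward

/-- Moving a model isometry onto a conjugate element. -/
theorem exists_transfer (hK : Fintype.card K = q ^ 2) (g : GU n K q) (A H : GL (Fin n) K)
    (hH : st hK (H : Matrix (Fin n) (Fin n) K) = H)
    (hA : st hK (A : Matrix (Fin n) (Fin n) K) * H * A = H) (hconj : IsConj A g.1) :
    ∃ M : GL (Fin n) K, g.1 * M = M * A ∧
      st hK (M : Matrix (Fin n) (Fin n) K) * M = (H : Matrix (Fin n) (Fin n) K) := by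
  obtain ⟨k, -, hku, hk⟩ := exists_eq_st_mul hK hH H.isUnit
  obtain ⟨ku, rfl⟩ := hku
  have hB : ku * A * ku⁻¹ ∈ GU n K q := by
    rw [mem_GU_iff hK, Units.val_mul, Units.val_mul, st_mul, st_mul]
    calc st hK (ku⁻¹).1 * (st hK A.1 * st hK ku.1) * (ku.1 * A.1 * (ku⁻¹).1)
        = st hK (ku⁻¹).1 * (st hK A.1 * (st hK ku.1 * ku.1) * A.1) * (ku⁻¹).1 := by simp only [mul_assoc]
      _ = 1 := by rw [hk, hA, ← hk, ← mul_assoc, ← st_mul, Units.mul_inv, st_one, one_mul, Units.mul_inv]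
  have hBA : IsConj (ku * A * ku⁻¹) A := isConj_iff.2 ⟨ku⁻¹, by group⟩
  obtain ⟨w, hw⟩ := isConj_iff.1 (UnitaryConjugacy.isConj_of_isConj hK ⟨ku * A * ku⁻¹, hB⟩ g (hBA.trans hconj))
  refine ⟨w.1 * ku, ?_, ?_⟩
  · rw [← hw]
    show w.1 * (ku * A * ku⁻¹) * w.1⁻¹ * (w.1 * ku) = w.1 * ku * A
    group
  · rw [Units.val_mul, st_mul, mul_assoc, ← mul_assoc (st hK _) (w.1 : Matrix (Fin n) (Fin n) K),
      (mem_GU_iff hK _).1 w.2, one_mul, hk]

theorem map_transfer (hK : Fintype.card K = q ^ 2) (g : GU n K q) (A H M : GL (Fin n) K)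
    (hgM : g.1 * M = M * A) (hM : st hK (M : Matrix (Fin n) (Fin n) K) * M = (H : Matrix (Fin n) (Fin n) K)) :
    (∀ u v : Fin n → K, hermForm n K q ((M : Matrix (Fin n) (Fin n) K) *ᵥ u) ((M : Matrix (Fin n) (Fin n) K) *ᵥ v) =
      (fun i => qFrob hK (v i)) ⬝ᵥ ((H : Matrix (Fin n) (Fin n) K) *ᵥ u)) ∧
    (∀ W : Submodule K (Fin n → K), finrank K (W.map (Matrix.toLin' (M : Matrix (Fin n) (Fin n) K))) = finrank K W) ∧
    ∀ W : Submodule K (Fin n → K), (∀ w ∈ W, (A : Matrix (Fin n) (Fin n) K) *ᵥ w ∈ W) →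
      ∀ w ∈ W.map (Matrix.toLin' (M : Matrix (Fin n) (Fin n) K)),
        (g.1 : Matrix (Fin n) (Fin n) K) *ᵥ w ∈ W.map (Matrix.toLin' (M : Matrix (Fin n) (Fin n) K)) := by
  refine ⟨fun u v => ?_, fun W => ?_, ?_⟩
  · rw [hermForm_mulVec_right hK, hst_eq_st, Matrix.mulVec_mulVec, hM]
  · refine (Submodule.equivMapOfInjective _ (fun u v h => ?_) W).finrank_eq.symm
    have := congrArg (fun w => ((M⁻¹ : GL (Fin n) K) : Matrix (Fin n) (Fin n) K) *ᵥ w) h
    simpa [Matrix.mulVec_mulVec, ← Units.val_mul] using this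
  · rintro W hW _ ⟨u, hu, rfl⟩
    refine ⟨_, hW u hu, ?_⟩
    simp only [Matrix.toLin'_apply, Matrix.mulVec_mulVec, ← Units.val_mul, hgM]

/-- A model with a non-degenerate block. -/
theorem nd_of_conj (hK : Fintype.card K = q ^ 2) {a b : ℕ} (g : GU n K q) (e : Fin a ⊕ Fin b ≃ Fin n)
    (u₁ : GU a K q) (u₂ : GU b K q) (A : GL (Fin n) K)
    (hA : (A : Matrix (Fin n) (Fin n) K) =
      reindex e e (fromBlocks (u₁.1 : Matrix (Fin a) (Fin a) K) 0 0 (u₂.1 : Matrix (Fin b) (Fin b) K)))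
    (hconj : IsConj A g.1) : NdFix q a (g.1 : Matrix (Fin n) (Fin n) K) := by
  classical
  have hAH : st hK (A : Matrix (Fin n) (Fin n) K) * ((1 : GL (Fin n) K) : Matrix (Fin n) (Fin n) K) * A =
      ((1 : GL (Fin n) K) : Matrix (Fin n) (Fin n) K) := by
    rw [Units.val_one, Matrix.mul_one, hA, ← hst_eq_st, hst_reindex, hst_fromBlocks, hst_zero, hst_zero,
      hst_eq_st, hst_eq_st, Matrix.reindex_apply, Matrix.reindex_apply, Matrix.submatrix_mul_equiv,
      Matrix.fromBlocks_multiply]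
    simp only [(mem_GU_iff hK _).1 u₁.2, (mem_GU_iff hK _).1 u₂.2, Matrix.mul_zero, Matrix.zero_mul, add_zero,
      zero_add, Matrix.fromBlocks_one, Matrix.submatrix_one_equiv]
  obtain ⟨M, hgM, hM⟩ := exists_transfer hK g A 1 (by rw [Units.val_one, st_one]) hAH hconj
  obtain ⟨hform, hdim, hinv⟩ := map_transfer hK g A 1 M hgM hM
  let ι : (Fin a → K) →ₗ[K] (Fin n → K) :=
    { toFun := fun c => Sum.elim c 0 ∘ e.symm
      map_add' := fun c d => by funext k; rcases hk : e.symm k with l | l <;> simp [hk]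
      map_smul' := fun t c => by funext k; rcases hk : e.symm k with l | l <;> simp [hk] }
  have hι : ∀ c, ι c = Sum.elim c 0 ∘ e.symm := fun c => rfl
  have hιi : Function.Injective ι := fun c d h => funext fun i => by
    have := congrFun h (e (Sum.inl i))
    simpa [hι] using this
  refine ⟨(LinearMap.range ι).map (Matrix.toLin' (M : Matrix (Fin n) (Fin n) K)), ?_, ?_, ?_⟩
  · rw [hdim, LinearMap.finrank_range_of_inj hιi, Module.finrank_fin_fun]
  · rintro _ ⟨_, ⟨c, rfl⟩, rfl⟩ hne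
    obtain ⟨i, hi⟩ : ∃ i, c i ≠ 0 := by
      by_contra h
      push Not at h
      exact hne (by rw [show c = 0 from funext h, map_zero, map_zero])
    refine ⟨_, ⟨ι (Pi.single i 1), ⟨_, rfl⟩, rfl⟩, ?_⟩
    rw [Matrix.toLin'_apply, Matrix.toLin'_apply, hform, Units.val_one, Matrix.one_mulVec, hι, hι,
      show (fun j => qFrob hK ((Sum.elim (Pi.single i 1) 0 ∘ e.symm) j)) =
        (Sum.elim (Pi.single i (1 : K)) 0 : Fin a ⊕ Fin b → K) ∘ e.symm from funext fun j => by
        rcases hj : e.symm j with l | l <;> simp [hj, Pi.single_apply, apply_ite (qFrob hK)],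
      dotProduct_comp_equiv_symm, Function.comp_assoc, Equiv.symm_comp_self, Function.comp_id,
      sumElim_dotProduct_sumElim]
    simpa using hi
  · refine hinv _ ?_
    rintro _ ⟨c, rfl⟩
    refine ⟨(u₁.1 : Matrix (Fin a) (Fin a) K) *ᵥ c, ?_⟩
    rw [hι, hι, hA, Matrix.reindex_apply, Matrix.submatrix_mulVec_equiv, Equiv.symm_symm, Function.comp_assoc,
      Equiv.symm_comp_self, Function.comp_id, Matrix.fromBlocks_mulVec]
    simp

variable {p : ℕ} [Fact p.Prime] [CharP K p]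

theorem coeff_zero_ne (g : GL (Fin n) K) : (g : Matrix (Fin n) (Fin n) K).charpoly.coeff 0 ≠ 0 := fun h0 => by
  refine ((Matrix.isUnit_iff_isUnit_det _).1 g.isUnit).ne_zero ?_
  rw [Matrix.det_eq_sign_charpoly_coeff, h0, mul_zero]

theorem nd_of_dvd (hK : Fintype.card K = q ^ 2) (g : GU n K q) (hg : (orderOf g).Coprime p) {D : K[X]}
    (hD : D.Monic) (hDd : D.natDegree = m) (hDs : cdual (qFrob hK) D = D)
    (hdvd : D ∣ (g.1 : Matrix (Fin n) (Fin n) K).charpoly) : NdFix q m (g.1 : Matrix (Fin n) (Fin n) K) := by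
  classical
  obtain ⟨E, hE⟩ := hdvd
  have hEm : E.Monic := hD.of_mul_monic_left (hE ▸ Matrix.charpoly_monic _)
  have h0 := coeff_zero_ne g.1
  rw [hE, mul_coeff_zero] at h0
  have hEs : cdual (qFrob hK) E = E := by
    have h1 := cdual_charpoly_of_mem hK g
    rw [hE, cdual_mul, hDs] at h1
    exact mul_left_cancel₀ hD.ne_zero h1
  have hn : m + E.natDegree = n := by
    rw [← hDd, ← hD.natDegree_mul hEm, ← hE, Matrix.charpoly_natDegree_eq_dim, Fintype.card_fin]
  obtain ⟨u₁, hu₁, hu₁P⟩ := exists_mem_charpoly (p := p) hK hD hDd (left_ne_zero_of_mul h0) hDs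
  obtain ⟨u₂, hu₂, hu₂P⟩ := exists_mem_charpoly (p := p) hK hEm rfl (right_ne_zero_of_mul h0) hEs
  let e : Fin m ⊕ Fin E.natDegree ≃ Fin n := finSumFinEquiv.trans (finCongr hn)
  set A0 : Matrix (Fin n) (Fin n) K := reindex e e
    (fromBlocks (u₁.1 : Matrix (Fin m) (Fin m) K) 0 0 (u₂.1 : Matrix (Fin E.natDegree) (Fin E.natDegree) K))
  have hpow : A0 ^ (orderOf u₁ * orderOf u₂) = 1 := by
    have h1 : (u₁.1 : Matrix (Fin m) (Fin m) K) ^ (orderOf u₁ * orderOf u₂) = 1 := by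
      rw [← Units.val_pow_eq_pow_val, ← SubgroupClass.coe_pow, pow_mul, pow_orderOf_eq_one, one_pow]; rfl
    have h2 : (u₂.1 : Matrix (Fin E.natDegree) (Fin E.natDegree) K) ^ (orderOf u₁ * orderOf u₂) = 1 := by
      rw [← Units.val_pow_eq_pow_val, ← SubgroupClass.coe_pow, pow_mul', pow_orderOf_eq_one, one_pow]; rfl
    rw [show A0 = Matrix.reindexAlgEquiv K K e _ from rfl, ← map_pow, Matrix.fromBlocks_diagonal_pow, h1, h2,
      Matrix.fromBlocks_one, map_one]
  have hne : orderOf u₁ * orderOf u₂ ≠ 0 := Nat.mul_ne_zero (orderOf_pos u₁).ne' (orderOf_pos u₂).ne'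
  refine nd_of_conj hK g e u₁ u₂ (Units.ofPowEqOne A0 _ hpow hne) rfl
    (GLSemisimpleClasses.isConj_of_charpoly_eq ((cast_ne_zero_iff (p := p) _).2 ?_)
      ((cast_ne_zero_iff (p := p) _).2 (by rwa [Subgroup.orderOf_coe])) ?_)
  · exact (hu₁.mul_left hu₂).coprime_dvd_left (orderOf_dvd_of_pow_eq_one (Units.pow_ofPowEqOne _ _))
  · show A0.charpoly = _
    rw [Matrix.charpoly_reindex, Matrix.charpoly_fromBlocks_zero₁₂, hu₁P, hu₂P, ← hE]

theorem iso_of_dvd (hK : Fintype.card K = q ^ 2) (g : GU n K q) (hg : (orderOf g).Coprime p) {D : K[X]}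
    (hD : D.Monic) (hDd : D.natDegree = m)
    (hdvd : D * cdual (qFrob hK) D ∣ (g.1 : Matrix (Fin n) (Fin n) K).charpoly) :
    IsoFix q m (g.1 : Matrix (Fin n) (Fin n) K) := by
  classical
  obtain ⟨E, hE⟩ := hdvd
  have h0 := coeff_zero_ne g.1
  rw [hE, mul_coeff_zero] at h0
  have hD0 : D.coeff 0 ≠ 0 := fun h => h0 (by rw [mul_coeff_zero, h, zero_mul, zero_mul])
  have hτD := cdual_monic (qFrob hK) hD0
  have hEm : E.Monic := (hD.mul hτD).of_mul_monic_left (hE ▸ Matrix.charpoly_monic _)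
  have hEs : cdual (qFrob hK) E = E := by
    have h1 := cdual_charpoly_of_mem hK g
    rw [hE, cdual_mul, cdual_mul, cdual_cdual _ (qFrob_qFrob hK) hD hD0, mul_comm (cdual _ D) D] at h1
    exact mul_left_cancel₀ (hD.mul hτD).ne_zero h1
  have hn : m + m + E.natDegree = n := by
    have h1 := congrArg natDegree hE
    rw [Matrix.charpoly_natDegree_eq_dim, Fintype.card_fin, (hD.mul hτD).natDegree_mul hEm, hD.natDegree_mul hτD,
      natDegree_cdual _ hD0, hDd] at h1
    omega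
  obtain ⟨u₂, hu₂, hu₂P⟩ := exists_mem_charpoly (p := p) hK hEm rfl (right_ne_zero_of_mul h0) hEs
  obtain ⟨f, M, hM, hfM, hfP⟩ := Cfsg.Agent.Lie.Semisimple.exists_semisimple m D hD hDd hD0
  have hM0 : M ≠ 0 := fun h => hM (by rw [h, Nat.cast_zero])
  set A1 : GL (Fin m) K := Units.ofPowEqOne (LinearMap.toMatrixAlgEquiv' f) M (by rw [← map_pow, hfM, map_one]) hM0
  have hA1P : (A1 : Matrix (Fin m) (Fin m) K).charpoly = D := by
    rw [Units.val_ofPowEqOne, ← GLSemisimpleClasses.charpoly_toLin', Matrix.toLinAlgEquiv'_toMatrixAlgEquiv', hfP]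
  have hA1M : A1 ^ M = 1 := Units.pow_ofPowEqOne _ _
  let e : (Fin m ⊕ Fin m) ⊕ Fin E.natDegree ≃ Fin n :=
    ((Equiv.sumCongr finSumFinEquiv (Equiv.refl _)).trans finSumFinEquiv).trans (finCongr hn)
  let R := Matrix.reindexAlgEquiv K K e
  set B0 : Matrix ((Fin m ⊕ Fin m) ⊕ Fin E.natDegree) ((Fin m ⊕ Fin m) ⊕ Fin E.natDegree) K :=
    fromBlocks (fromBlocks (A1 : Matrix (Fin m) (Fin m) K) 0 0 (invSt hK A1 : Matrix (Fin m) (Fin m) K)) 0 0
      (u₂.1 : Matrix (Fin E.natDegree) (Fin E.natDegree) K) with hB0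
  set H0 : Matrix ((Fin m ⊕ Fin m) ⊕ Fin E.natDegree) ((Fin m ⊕ Fin m) ⊕ Fin E.natDegree) K :=
    fromBlocks (fromBlocks 0 1 1 0) 0 0 1 with hH0
  have hHH : H0 * H0 = 1 := by simp [hH0, Matrix.fromBlocks_multiply, Matrix.fromBlocks_one]
  let H : GL (Fin n) K := ⟨R H0, R H0, by rw [← map_mul, hHH, map_one], by rw [← map_mul, hHH, map_one]⟩
  have hHs : st hK (H : Matrix (Fin n) (Fin n) K) = H := by
    show hst hK (reindex e e H0) = reindex e e H0
    rw [hst_reindex, hH0]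
    simp only [hst_fromBlocks, hst_zero, hst_one]
  have hAH0 : hst hK B0 * H0 * B0 = H0 := by
    have hA1 : hst hK (A1 : Matrix (Fin m) (Fin m) K) * (invSt hK A1 : Matrix (Fin m) (Fin m) K) = 1 :=
      (invSt hK A1).inv_mul
    have hA2 : hst hK (invSt hK A1 : Matrix (Fin m) (Fin m) K) * (A1 : Matrix (Fin m) (Fin m) K) = 1 := by
      show hst hK (hst hK _) * _ = 1
      rw [hst_hst]; exact A1.inv_mul
    simp only [hB0, hH0, hst_fromBlocks, hst_zero, Matrix.fromBlocks_multiply, Matrix.mul_zero, Matrix.zero_mul,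
      add_zero, zero_add, Matrix.mul_one, hA1, hA2, hst_eq_st hK u₂.1.1, (mem_GU_iff hK _).1 u₂.2]
  have hpow : R B0 ^ (M * orderOf u₂) = 1 := by
    have h1 : (A1 : Matrix (Fin m) (Fin m) K) ^ (M * orderOf u₂) = 1 := by
      rw [← Units.val_pow_eq_pow_val, pow_mul, hA1M, one_pow]; rfl
    have h1' : (invSt hK A1 : Matrix (Fin m) (Fin m) K) ^ (M * orderOf u₂) = 1 := by
      rw [← Units.val_pow_eq_pow_val, ← map_pow, pow_mul, hA1M, one_pow, map_one]; rfl
    have h2 : (u₂.1 : Matrix (Fin E.natDegree) (Fin E.natDegree) K) ^ (M * orderOf u₂) = 1 := by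
      rw [← Units.val_pow_eq_pow_val, ← SubgroupClass.coe_pow, pow_mul', pow_orderOf_eq_one, one_pow]; rfl
    rw [← map_pow, hB0, Matrix.fromBlocks_diagonal_pow, Matrix.fromBlocks_diagonal_pow, h1, h1', h2,
      Matrix.fromBlocks_one, Matrix.fromBlocks_one, map_one]
  have hne : M * orderOf u₂ ≠ 0 := Nat.mul_ne_zero hM0 (orderOf_pos u₂).ne'
  set A := Units.ofPowEqOne (R B0) _ hpow hne
  have hconj : IsConj A g.1 := by
    refine GLSemisimpleClasses.isConj_of_charpoly_eq ((cast_ne_zero_iff (p := p) _).2 ?_)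
      ((cast_ne_zero_iff (p := p) _).2 (by rwa [Subgroup.orderOf_coe])) ?_
    · exact (((cast_ne_zero_iff (p := p) _).1 hM).mul_left hu₂).coprime_dvd_left
        (orderOf_dvd_of_pow_eq_one (Units.pow_ofPowEqOne _ _))
    · show (reindex e e B0).charpoly = _
      rw [Matrix.charpoly_reindex, hB0, Matrix.charpoly_fromBlocks_zero₁₂, Matrix.charpoly_fromBlocks_zero₁₂,
        hA1P, charpoly_invSt, hA1P, hu₂P, ← hE]
  obtain ⟨N, hgN, hN⟩ := exists_transfer hK g A H hHs (by
    show hst hK (R B0) * R H0 * R B0 = R H0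
    rw [show hst hK (R B0) = R (hst hK B0) from hst_reindex hK e B0, ← map_mul, ← map_mul, hAH0]) hconj
  obtain ⟨hform, hdim, hinv⟩ := map_transfer hK g A H N hgN hN
  let ι : (Fin m → K) →ₗ[K] (Fin n → K) :=
    { toFun := fun c => Sum.elim (Sum.elim c 0) 0 ∘ e.symm
      map_add' := fun c d => by funext k; rcases hk : e.symm k with (l | l) | l <;> simp [hk]
      map_smul' := fun t c => by funext k; rcases hk : e.symm k with (l | l) | l <;> simp [hk] }
  have hι : ∀ c, ι c = Sum.elim (Sum.elim c 0) 0 ∘ e.symm := fun c => rfl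
  have hιi : Function.Injective ι := fun c d h => funext fun i => by
    have := congrFun h (e (Sum.inl (Sum.inl i)))
    simpa [hι] using this
  refine ⟨(LinearMap.range ι).map (Matrix.toLin' (N : Matrix (Fin n) (Fin n) K)), ?_, ?_, ?_⟩
  · rw [hdim, LinearMap.finrank_range_of_inj hιi, Module.finrank_fin_fun]
  · rintro _ ⟨_, ⟨c, rfl⟩, rfl⟩ _ ⟨_, ⟨d, rfl⟩, rfl⟩
    rw [Matrix.toLin'_apply, Matrix.toLin'_apply, hform]
    show _ ⬝ᵥ ((reindex e e H0) *ᵥ ι c) = 0
    rw [hι, hι, Matrix.reindex_apply, Matrix.submatrix_mulVec_equiv, Equiv.symm_symm, Function.comp_assoc,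
      Equiv.symm_comp_self, Function.comp_id, dotProduct_comp_equiv_symm, hH0, Matrix.fromBlocks_mulVec]
    simp [Matrix.fromBlocks_mulVec, dotProduct, Fintype.sum_sum_type]
  · refine hinv _ ?_
    rintro _ ⟨c, rfl⟩
    refine ⟨(A1 : Matrix (Fin m) (Fin m) K) *ᵥ c, ?_⟩
    show _ = reindex e e B0 *ᵥ ι c
    rw [hι, hι, Matrix.reindex_apply, Matrix.submatrix_mulVec_equiv, Equiv.symm_symm, Function.comp_assoc,
      Equiv.symm_comp_self, Function.comp_id, hB0, Matrix.fromBlocks_mulVec]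
    simp [Matrix.fromBlocks_mulVec]

/-- The criterion for totally isotropic subspaces. -/
theorem iso_iff (hK : Fintype.card K = q ^ 2) (g : GU n K q) (hg : (orderOf g).Coprime p) :
    IsoFix q m (g.1 : Matrix (Fin n) (Fin n) K) ↔ ∃ D : K[X], D.Monic ∧ D.natDegree = m ∧
      D * cdual (qFrob hK) D ∣ (g.1 : Matrix (Fin n) (Fin n) K).charpoly :=
  ⟨dvd_of_iso hK g, fun ⟨_, hD, hd, hdvd⟩ => iso_of_dvd hK g hg hD hd hdvd⟩

/-- The criterion for non-degenerate subspaces. -/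
theorem nd_iff (hK : Fintype.card K = q ^ 2) (g : GU n K q) (hg : (orderOf g).Coprime p) :
    NdFix q m (g.1 : Matrix (Fin n) (Fin n) K) ↔ ∃ D : K[X], D.Monic ∧ D.natDegree = m ∧
      cdual (qFrob hK) D = D ∧ D ∣ (g.1 : Matrix (Fin n) (Fin n) K).charpoly :=
  ⟨dvd_of_nd hK g, fun ⟨_, hD, hd, hs, hdvd⟩ => nd_of_dvd hK g hg hD hd hs hdvd⟩

end Backward

end Cfsg.Agent.UnitInvariant
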