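import Cfsg.Agent.Lib.Classical.UnitSelfDualFactors
import Cfsg.Agent.Lib.Fus.UnitParabolic
import Cfsg.Agent.Lib.Classical.BlockStabilizer
import Cfsg.Agent.Lib.Classical.IsotropicCount

/-!
The numbers of totally isotropic and of non-degenerate subspaces of a hermitian space, and the primes dividing them.
-/

set_option autoImplicit false
set_option linter.unusedSectionVars false

namespace Cfsg.Agent.UnitSubspaceCount

open Module Cfsg.Agent.Classical Cfsg.Agent.Fus.FrameCount Cfsg.Agent.SubspaceCount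

variable {F : Type*} [Field F] [Fintype F] {q n : ℕ}

local notation "V" => (Fin n → F)

theorem finite_submodule : Finite (Submodule F (Fin n → F)) :=
  Finite.of_injective SetLike.coe SetLike.coe_injective

theorem symm_zero (hF : Fintype.card F = q ^ 2) {x y : Fin n → F} (h : hermForm n F q x y = 0) :
    hermForm n F q y x = 0 := by
  rw [← hermB_apply hF, ← (hermB_isSymm hF n).eq, hermB_apply, h, map_zero]

theorem form_span (hF : Fintype.card F = q ^ 2) {s : Set (Fin n → F)}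
    (h : ∀ a ∈ s, ∀ b ∈ s, hermForm n F q a b = 0) :
    ∀ a ∈ Submodule.span F s, ∀ b ∈ Submodule.span F s, hermForm n F q a b = 0 := by
  intro a ha b hb
  have h1 : ∀ a ∈ Submodule.span F s, ∀ c ∈ s, hermForm n F q a c = 0 := fun a ha c hc =>
    LinearMap.mem_ker.1 ((Submodule.span_le.2 fun d hd => LinearMap.mem_ker.2
      (show hermB hF n c d = 0 from h d hd c hc) : Submodule.span F s ≤ LinearMap.ker (hermB hF n c)) ha)
  have h2 : ∀ c ∈ s, hermForm n F q c a = 0 := fun c hc =>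
    symm_zero hF (h1 a ha c hc)
  exact symm_zero hF (LinearMap.mem_ker.1 ((Submodule.span_le.2 fun d hd => LinearMap.mem_ker.2
      (show hermB hF n a d = 0 from h2 d hd) : Submodule.span F s ≤ LinearMap.ker (hermB hF n a)) hb))

theorem card_frame_eq (hF : Fintype.card F = q ^ 2) (k : ℕ) :
    Nat.card (Frame F (hermForm n F q) k) =
      Nat.card {W : Submodule F V // finrank F W = k ∧ ∀ u ∈ W, ∀ v ∈ W, hermForm n F q u v = 0} *
        ∏ i : Fin k, ((q ^ 2) ^ k - (q ^ 2) ^ (i : ℕ)) := by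
  classical
  haveI := finite_submodule (F := F) (n := n)
  let S := {W : Submodule F V // finrank F W = k ∧ ∀ u ∈ W, ∀ v ∈ W, hermForm n F q u v = 0}
  haveI := Fintype.ofFinite S
  let φ : Frame F (hermForm n F q) k → S := fun f =>
    ⟨Submodule.span F (Set.range f.1), by rw [finrank_span_eq_card f.2.1, Fintype.card_fin],
      form_span hF fun a ⟨i, hi⟩ b ⟨j, hj⟩ => hi ▸ hj ▸ f.2.2 i j⟩
  have hfib : ∀ W : S, Nat.card {f // φ f = W} = ∏ i : Fin k, ((q ^ 2) ^ k - (q ^ 2) ^ (i : ℕ)) := by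
    intro W
    rw [← hF, ← card_bases W.1 W.2.1]
    refine Nat.card_congr
      { toFun := fun f => ⟨f.1.1, f.1.2.1, fun i => by
          rw [← show Submodule.span F (Set.range f.1.1) = W.1 from congrArg Subtype.val f.2]
          exact Submodule.subset_span ⟨i, rfl⟩⟩
        invFun := fun f => ⟨⟨f.1, f.2.1, fun i j => W.2.2 _ (f.2.2 i) _ (f.2.2 j)⟩,
          Subtype.ext (span_eq_of_frame W.2.1 f.2.1 f.2.2)⟩
        left_inv := fun f => rfl
        right_inv := fun f => rfl }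
  rw [← Nat.card_congr (Equiv.sigmaFiberEquiv φ), Nat.card_sigma, Finset.sum_congr rfl fun W _ => hfib W,
    Finset.sum_const, Finset.card_univ, Nat.card_eq_fintype_card (α := S), smul_eq_mul]

theorem two_tri (x : ℕ) : 2 * (x * (x - 1) / 2) + x = x * x := by
  rcases x with _ | y
  · rfl
  · rw [Nat.two_mul_div_two_of_even (Nat.even_mul_pred_self _), Nat.add_sub_cancel]; ring

/-- A prime dividing a product of the factors of the order of a unitary group. -/
theorem exists_factor {r l : ℕ} (hr : r.Prime) (hln : l ≤ n)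
    (h : (∏ j ∈ Finset.Ico l n, ((q : ZMod r) ^ (j + 1) + (-1) ^ j)) = 0) :
    (q : ZMod r) ≠ 0 ∧ ∃ j, l < j ∧ j ≤ n ∧ (-(q : ZMod r)) ^ j = 1 := by
  haveI : Fact r.Prime := ⟨hr⟩
  obtain ⟨j, hj, h0⟩ := Finset.prod_eq_zero_iff.1 h
  rw [Finset.mem_Ico] at hj
  refine ⟨fun hq => ?_, j + 1, by omega, by omega, ?_⟩
  · rw [hq, zero_pow (Nat.succ_ne_zero j), zero_add] at h0
    exact pow_ne_zero j (neg_ne_zero.2 (one_ne_zero (α := ZMod r))) h0
  · rw [neg_pow, eq_neg_of_add_eq_zero_left h0, pow_succ (-1 : ZMod r)]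
    calc (-1 : ZMod r) ^ j * -1 * -((-1) ^ j) = ((-1) * (-1)) ^ j := by rw [mul_pow]; ring
      _ = 1 := by rw [neg_one_mul, neg_neg, one_pow]

theorem prod_split (f : ℕ → ℤ) {l : ℕ} (hln : l ≤ n) :
    (∏ i ∈ Finset.range n, f i) = (∏ i ∈ Finset.range l, f i) * ∏ i ∈ Finset.Ico l n, f i :=
  (Finset.prod_range_mul_prod_Ico f hln).symm

theorem factor_prod_ne (hF : Fintype.card F = q ^ 2) (l : ℕ) :
    (∏ i ∈ Finset.range l, ((q : ℤ) ^ (i + 1) + (-1) ^ i)) ≠ 0 := by
  intro h0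
  have h1 := order_GU hF l
  rw [h0, mul_zero] at h1
  exact (Nat.card_pos (α := GU l F q)).ne' (by exact_mod_cast h1)

/-- A prime dividing the number of totally isotropic `m`-spaces. -/
theorem iso_exponent (hF : Fintype.card F = q ^ 2) {m r : ℕ} (hm : 2 * m ≤ n) (hr : r.Prime)
    (h : r ∣ Nat.card {W : Submodule F V // finrank F ↥W = m ∧ (∀ u ∈ W, ∀ v ∈ W, hermForm n F q u v = 0)}) :
    (q : ZMod r) ≠ 0 ∧ ∃ j, n - 2 * m < j ∧ j ≤ n ∧ (-(q : ZMod r)) ^ j = 1 := by
  have hq : (q : ℤ) ≠ 0 := by have := two_le_q hF; omega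
  set l := n - 2 * m with hl
  obtain ⟨N, hN⟩ : ∃ N, Nat.card {W : Submodule F V // finrank F ↥W = m ∧
      (∀ u ∈ W, ∀ v ∈ W, hermForm n F q u v = 0)} = N := ⟨_, rfl⟩
  rw [hN] at h
  have h1 := Fus.UnitStab.frame_card (n := n) hF m hm
  rw [card_frame_eq hF, hN, Fin.prod_univ_eq_prod_range (fun i => (q ^ 2) ^ m - (q ^ 2) ^ i),
    IsotropicCount.prod_bases, ← hl] at h1
  have h2 : ((Nat.card (GU n F q) : ℕ) : ℤ) =
      (q : ℤ) ^ (m * (2 * n - 3 * m)) * (Nat.card (GU l F q) : ℕ) *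
        ((N : ℤ) * (((q : ℤ) ^ 2) ^ (∑ i ∈ Finset.range m, i) * (qfact (q ^ 2) m : ℕ))) := by
    rw [h1]; push_cast; ring
  rw [order_GU hF, order_GU hF, prod_split _ (show l ≤ n by omega)] at h2
  have hexp : n * (n - 1) / 2 = m * (2 * n - 3 * m) + l * (l - 1) / 2 + 2 * (∑ i ∈ Finset.range m, i) := by
    have e1 := two_tri n
    have e2 := two_tri l
    have e3 : 2 * (∑ i ∈ Finset.range m, i) + m = m * m := by
      rw [mul_comm, Finset.sum_range_id_mul_two]
      rcases m with _ | y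
      · rfl
      · rw [Nat.add_sub_cancel]; ring
    rw [show 2 * n - 3 * m = 2 * l + m by omega]
    have e4 : n * n = (l + 2 * m) * (l + 2 * m) := by rw [show l + 2 * m = n by omega]
    generalize n * (n - 1) / 2 = a at e1 ⊢
    generalize l * (l - 1) / 2 = b at e2 ⊢
    generalize (∑ i ∈ Finset.range m, i) = c at e3 ⊢
    nlinarith [show (n : ℕ) = l + 2 * m by omega]
  rw [← pow_mul] at h2
  have h3 : (N : ℤ) * (qfact (q ^ 2) m : ℕ) = ∏ i ∈ Finset.Ico l n, ((q : ℤ) ^ (i + 1) + (-1) ^ i) := by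
    refine mul_left_cancel₀ (mul_ne_zero (pow_ne_zero (n * (n - 1) / 2) hq) (factor_prod_ne hF l)) ?_
    rw [mul_assoc ((q : ℤ) ^ (n * (n - 1) / 2)) (∏ i ∈ Finset.range l, ((q : ℤ) ^ (i + 1) + (-1) ^ i))
      (∏ i ∈ Finset.Ico l n, ((q : ℤ) ^ (i + 1) + (-1) ^ i)), h2, hexp, pow_add, pow_add]
    ring
  refine exists_factor hr (by omega) ?_
  have h4 := congrArg (fun z : ℤ => (z : ZMod r)) h3
  push_cast at h4
  rw [← h4, (ZMod.natCast_eq_zero_iff _ _).2 h, zero_mul]

/-- The orbit equation for non-degenerate subspaces. -/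
theorem card_mul (hF : Fintype.card F = q ^ 2) {m : ℕ} (hm : m ≤ n) :
    Nat.card (GU n F q) =
      Nat.card {W : Submodule F V // finrank F ↥W = m ∧ (∀ u ∈ W, u ≠ 0 → ∃ v ∈ W, hermForm n F q u v ≠ 0)} *
        (Nat.card (GU m F q) * Nat.card (GU (n - m) F q)) := by
  classical
  have hswap : ∀ {x y : V}, hermForm n F q x y = 0 → hermForm n F q y x = 0 := fun h => symm_zero hF h
  have hfam : ∀ W : Submodule F V, finrank F W = m → (∀ u ∈ W, u ≠ 0 → ∃ v ∈ W, hermForm n F q u v ≠ 0) →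
      ∃ b : Fin m → V, (∀ i, b i ∈ W) ∧ (∀ i j, hermForm n F q (b i) (b j) = if i = j then 1 else 0) ∧
        LinearIndependent F b ∧ Submodule.span F (Set.range b) = W := by
    intro W hW hnd
    obtain ⟨b, hbW, hb⟩ := exists_orthonormal_family_herm (hermB hF n) (qFrob_ne_id hF) (qFrob_qFrob hF)
      (hermB_isSymm hF n) m W (fun w hw hw0 => by
        obtain ⟨u, hu, h0⟩ := hnd w hw hw0
        exact ⟨u, hu, fun h1 => h0 (hswap (by rwa [hermB_apply] at h1))⟩) hW
    have hb' : ∀ i j, hermForm n F q (b i) (b j) = if i = j then 1 else 0 := fun i j => by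
      rw [← hermB_apply hF, hb]; simp [eq_comm]
    have hli : LinearIndependent F b := Fintype.linearIndependent_iff.2 fun g hg i => by
      have := congrArg (hermB hF n (b i)) hg
      simpa [map_sum, hb] using this
    exact ⟨b, hbW, hb', hli, Submodule.eq_of_le_of_finrank_eq (Submodule.span_le.2 (Set.range_subset_iff.2 hbW))
      (by rw [finrank_span_eq_card hli, Fintype.card_fin, hW])⟩
  haveI := finite_submodule (F := F) (n := n)
  let L : Fin m → V := fun j => Pi.single (Fin.castLE hm j) 1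
  have hL : ∀ i j, hermForm n F q (L i) (L j) = if i = j then 1 else 0 := fun i j => by
    rw [hermForm_single_right hF, show L i = Pi.single (Fin.castLE hm i) (1 : F) from rfl, Pi.single_apply]
    refine if_congr ?_ rfl rfl
    exact ⟨fun h => ((Fin.castLE_injective hm) h).symm, fun h => by rw [h]⟩
  set W₀ := Submodule.span F (Set.range L)
  have hLli : LinearIndependent F L := (Pi.linearIndependent_single_one (Fin n) F).comp _ (Fin.castLE_injective hm)
  have hlin : ∀ (b : Fin m → V) (c : Fin m → F) (x : V),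
      hermForm n F q (∑ i, c i • b i) x = ∑ i, c i * hermForm n F q (b i) x := fun b c x => by
    show hermB hF n x (∑ i, c i • b i) = _
    rw [map_sum]
    exact Finset.sum_congr rfl fun i _ => by rw [map_smul, hermB_apply, smul_eq_mul]
  have hexp : ∀ (b : Fin m → V), (∀ i j, hermForm n F q (b i) (b j) = if i = j then 1 else 0) →
      ∀ c d : Fin m → F, hermForm n F q (∑ i, c i • b i) (∑ j, d j • b j) = ∑ i, c i * d i ^ q := fun b hb c d => by
    rw [hlin]
    refine Finset.sum_congr rfl fun i _ => ?_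
    congr 1
    show hermB hF n (∑ j, d j • b j) (b i) = _
    rw [map_sum, LinearMap.sum_apply]
    simp [hermB_apply, hb, qFrob_apply]
  have hW₀nd : ∀ u ∈ W₀, u ≠ 0 → ∃ v ∈ W₀, hermForm n F q u v ≠ 0 := by
    intro u hu hu0
    obtain ⟨c, rfl⟩ := (Submodule.mem_span_range_iff_exists_fun F).1 hu
    obtain ⟨i, hi⟩ : ∃ i, c i ≠ 0 := by
      by_contra h0
      push Not at h0
      exact hu0 (by simp [h0])
    refine ⟨_, Submodule.subset_span ⟨i, rfl⟩, ?_⟩
    rw [hlin]
    simpa [hL] using hi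
  have hW₀d : finrank F W₀ = m := by rw [finrank_span_eq_card hLli, Fintype.card_fin]
  set S := {W : Submodule F V // finrank F ↥W = m ∧ (∀ u ∈ W, u ≠ 0 → ∃ v ∈ W, hermForm n F q u v ≠ 0)}
  have hinj : ∀ g : GU n F q, Function.Injective (Matrix.toLin' (g.1 : Matrix (Fin n) (Fin n) F)) := fun g u v h => by
    have := congrArg (fun w => ((g.1⁻¹ : GL (Fin n) F) : Matrix (Fin n) (Fin n) F).mulVec w)
      (show (g.1 : Matrix (Fin n) (Fin n) F).mulVec u = (g.1 : Matrix (Fin n) (Fin n) F).mulVec v from h)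
    simpa [Matrix.mulVec_mulVec, ← Units.val_mul] using this
  let f : GU n F q → S := fun g => ⟨W₀.map (Matrix.toLin' (g.1 : Matrix (Fin n) (Fin n) F)),
    (Submodule.equivMapOfInjective _ (hinj g) W₀).finrank_eq.symm.trans hW₀d, by
      rintro _ ⟨u, hu, rfl⟩ hu0
      obtain ⟨v, hv, h0⟩ := hW₀nd u hu fun e => hu0 (by rw [e, map_zero])
      exact ⟨_, ⟨v, hv, rfl⟩, by rw [Matrix.toLin'_apply, Matrix.toLin'_apply]; exact fun e => h0 ((g.2 u v).symm.trans e)⟩⟩
  have hsurj : Function.Surjective f := by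
    rintro ⟨W, hW, hnd⟩
    obtain ⟨b, hbW, hb, hbli, hbsp⟩ := hfam W hW hnd
    let B := Basis.span hLli
    let ψ : W₀ →ₗ[F] V := B.constr F b
    have e1 : ∀ x : W₀, (x : V) = ∑ i, B.repr x i • L i := fun x => by
      conv_lhs => rw [← B.sum_repr x]
      rw [Submodule.coe_sum]
      exact Finset.sum_congr rfl fun i _ => by rw [Submodule.coe_smul, Basis.coe_span_apply]
    have e2 : ∀ x : W₀, ψ x = ∑ i, B.repr x i • b i := fun x => by
      conv_lhs => rw [← B.sum_repr x]
      rw [map_sum]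
      exact Finset.sum_congr rfl fun i _ => by rw [map_smul, B.constr_basis]
    have hψi : Function.Injective ψ := (injective_iff_map_eq_zero ψ).2 fun x hx => by
      rw [e2] at hx
      exact Subtype.ext (by rw [e1]; simp [Fintype.linearIndependent_iff.1 hbli _ hx])
    obtain ⟨T, hT, hTψ⟩ := witt_hermitian (hermB hF n) (qFrob_ne_id hF) (qFrob_qFrob hF)
      (hermB_isSymm hF n) (hermB_nondegenerate hF n) W₀ ψ hψi fun x x' => by
        rw [hermB_apply, hermB_apply, e1 x, e1 x', e2, e2, hexp _ hb, hexp _ hL]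
    have hMv : ∀ v, (LinearMap.toMatrix' T.toLinearMap).mulVec v = T v := fun v => by
      rw [← Matrix.toLin'_apply, Matrix.toLin'_toMatrix']; rfl
    obtain ⟨g, hg⟩ := Fus.UnitStab.exists_gu_of_matrix hF (LinearMap.toMatrix' T.toLinearMap) fun u v => by
      rw [hMv, hMv]; exact hT v u
    refine ⟨g, Subtype.ext ?_⟩
    show W₀.map _ = W
    rw [Submodule.map_span, ← hbsp, ← Set.range_comp]
    congr 1
    refine congrArg Set.range (funext fun i => ?_)
    show Matrix.toLin' (g.1 : Matrix (Fin n) (Fin n) F) (L i) = b i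
    have hg' : (g.1 : Matrix (Fin n) (Fin n) F) = LinearMap.toMatrix' T.toLinearMap := hg
    rw [hg', Matrix.toLin'_apply, hMv, ← Basis.coe_span_apply hLli, hTψ, B.constr_basis]
  obtain ⟨E⟩ := BlockStabilizer.herm_stabilizer hF n m W₀ hW₀d fun u hu hu' => by
    by_contra hne
    obtain ⟨v, hv, h0⟩ := hW₀nd u hu hne
    exact h0 (hu' v hv)
  have hmem : ∀ g : GU n F q, g ∈ (stabilizing (glToMat (Fin n) F) (W₀ : Set V)).subgroupOf (GU n F q) ↔
      W₀.map (Matrix.toLin' (g.1 : Matrix (Fin n) (Fin n) F)) = W₀ := fun g => by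
    refine ⟨fun hg => Submodule.eq_of_le_of_finrank_eq ?_ (Submodule.equivMapOfInjective _ (hinj g) W₀).finrank_eq.symm,
      fun hg v => ⟨fun hv => ?_, fun hv => ?_⟩⟩
    · rintro _ ⟨v, hv, rfl⟩
      exact (hg v).1 hv
    · have : Matrix.toLin' (g.1 : Matrix (Fin n) (Fin n) F) v ∈ W₀ := hg ▸ ⟨v, hv, rfl⟩
      exact this
    · obtain ⟨u, hu, huv⟩ : Matrix.toLin' (g.1 : Matrix (Fin n) (Fin n) F) v ∈
          W₀.map (Matrix.toLin' (g.1 : Matrix (Fin n) (Fin n) F)) := by rw [hg]; exact hv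
      exact hinj g huv ▸ hu
  have hf : ∀ (g : GU n F q), (f g).1 = W₀.map (Matrix.toLin' (g.1 : Matrix (Fin n) (Fin n) F)) := fun g => rfl
  rw [natCard_eq_mul f ((stabilizing (glToMat (Fin n) F) (W₀ : Set V)).subgroupOf (GU n F q)) fun a b => by
    rw [hmem, Subtype.ext_iff, hf, hf]
    rw [show ((a⁻¹ * b : GU n F q).1 : Matrix (Fin n) (Fin n) F) =
      ((a.1⁻¹ : GL (Fin n) F) : Matrix (Fin n) (Fin n) F) * (b.1 : Matrix (Fin n) (Fin n) F) from rfl,
      Matrix.toLin'_mul, Submodule.map_comp]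
    constructor
    · intro h
      rw [← h, ← Submodule.map_comp, ← Matrix.toLin'_mul, ← Units.val_mul, inv_mul_cancel, Units.val_one,
        Matrix.toLin'_one, Submodule.map_id]
    · intro h
      conv_lhs => rw [← h, ← Submodule.map_comp, ← Matrix.toLin'_mul, ← Units.val_mul, mul_inv_cancel, Units.val_one,
        Matrix.toLin'_one, Submodule.map_id],
    Nat.card_congr (Equiv.setCongr hsurj.range_eq), Nat.card_congr (Equiv.Set.univ _), Nat.card_congr E.toEquiv,
    Nat.card_prod]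

/-- A prime, prime to `q`, dividing the number of non-degenerate `m`-spaces. -/
theorem nd_exponent (hF : Fintype.card F = q ^ 2) {m r : ℕ} (hm : m ≤ n) (hr : r.Prime) (hqr : (q : ZMod r) ≠ 0)
    (h : r ∣ Nat.card {W : Submodule F V // finrank F ↥W = m ∧ (∀ u ∈ W, u ≠ 0 → ∃ v ∈ W, hermForm n F q u v ≠ 0)}) :
    ∃ j, n - m < j ∧ j ≤ n ∧ (-(q : ZMod r)) ^ j = 1 := by
  haveI : Fact r.Prime := ⟨hr⟩
  obtain ⟨N, hN⟩ : ∃ N, Nat.card {W : Submodule F V // finrank F ↥W = m ∧
      (∀ u ∈ W, u ≠ 0 → ∃ v ∈ W, hermForm n F q u v ≠ 0)} = N := ⟨_, rfl⟩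
  rw [hN] at h
  have h1 := card_mul hF hm
  rw [hN] at h1
  have h2 : ((Nat.card (GU n F q) : ℕ) : ℤ) =
      (N : ℤ) * ((Nat.card (GU m F q) : ℕ) * (Nat.card (GU (n - m) F q) : ℕ)) := by rw [h1]; push_cast; ring
  rw [order_GU hF, order_GU hF, order_GU hF, prod_split _ (show n - m ≤ n by omega)] at h2
  have h3 : (q : ℤ) ^ (n * (n - 1) / 2) * ∏ i ∈ Finset.Ico (n - m) n, ((q : ℤ) ^ (i + 1) + (-1) ^ i) =
      (N : ℤ) * ((q : ℤ) ^ (m * (m - 1) / 2) * (∏ i ∈ Finset.range m, ((q : ℤ) ^ (i + 1) + (-1) ^ i)) *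
        (q : ℤ) ^ ((n - m) * (n - m - 1) / 2)) := by
    refine mul_left_cancel₀ (factor_prod_ne hF (n - m)) ?_
    linear_combination h2
  have h4 := congrArg (fun z : ℤ => (z : ZMod r)) h3
  push_cast at h4
  rw [(ZMod.natCast_eq_zero_iff _ _).2 h, zero_mul] at h4
  exact (exists_factor hr (by omega) ((mul_eq_zero.1 h4).resolve_left (pow_ne_zero _ hqr))).2

/-- The exponents are multiples of `c`. -/
theorem c_dvd {K : Type*} [Field K] [Fintype K] {r i j : ℕ} (h : UnitSelfDualFactors.UCtx K q r i)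
    (hj : (-(q : ZMod r)) ^ j = 1) : UnitSelfDualFactors.cDeg i ∣ j := by
  haveI : Fact r.Prime := ⟨h.prime⟩
  have h2 : ((q : ZMod r)) ^ (2 * j) = 1 := by
    have := congrArg (· ^ 2) hj
    simp only [← pow_mul, one_pow] at this
    rwa [mul_comm, (even_two_mul j).neg_pow] at this
  have hij : i ∣ 2 * j := h.hi ▸ orderOf_dvd_of_pow_eq_one h2
  have hne : ((-1 : ZMod r)) ≠ 1 := fun e => by
    have h20 : ((2 : ℕ) : ZMod r) = 0 := by push_cast; linear_combination -e
    exact h.odd ((Nat.prime_dvd_prime_iff_eq h.prime Nat.prime_two).1 ((ZMod.natCast_eq_zero_iff _ _).1 h20))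
  have hi0 := UnitSelfDualFactors.i_pos h
  have hci : (q : ZMod r) ^ i = 1 := h.hi ▸ pow_orderOf_eq_one _
  unfold UnitSelfDualFactors.cDeg
  split_ifs with h0 h4
  · obtain ⟨w, hw⟩ : i / 2 ∣ j := Nat.dvd_of_mul_dvd_mul_left two_pos (by rwa [show 2 * (i / 2) = i by omega])
    have hh : ((q : ZMod r)) ^ (i / 2) = -1 := by
      refine (mul_self_eq_one_iff.1 ?_).resolve_left fun e => ?_
      · rw [← pow_add, show i / 2 + i / 2 = i by omega, hci]
      · have h5 := orderOf_dvd_of_pow_eq_one e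
        rw [← h.hi] at h5
        have := Nat.le_of_dvd (by omega) h5
        omega
    have he : Even j := by rw [hw]; exact (Nat.even_iff.2 (show i / 2 % 2 = 0 by omega)).mul_right w
    rw [he.neg_pow, hw, pow_mul, hh] at hj
    rcases Nat.even_or_odd w with ⟨v, hv⟩ | ho
    · exact ⟨v, by rw [hw, hv, Nat.mul_add, ← Nat.add_mul]; congr 1; omega⟩
    · rw [ho.neg_one_pow] at hj; exact absurd hj hne
  · exact Nat.dvd_of_mul_dvd_mul_left two_pos (by rwa [show 2 * (i / 2) = i by omega])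
  · have hodd : Odd i := Nat.odd_iff.2 (by omega)
    have hd : i ∣ j := (Nat.coprime_two_right.2 hodd).dvd_of_dvd_mul_left hij
    have hq1 : (q : ZMod r) ^ j = 1 := by
      obtain ⟨w, rfl⟩ := hd
      rw [pow_mul, hci, one_pow]
    rcases Nat.even_or_odd j with he | ho
    · exact (Nat.coprime_two_left.2 hodd).mul_dvd_of_dvd_of_dvd (even_iff_two_dvd.1 he) hd
    · rw [ho.neg_pow, hq1] at hj; exact absurd hj hne

end Cfsg.Agent.UnitSubspaceCount
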