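import Cfsg.Agent.Lib.Classical.UnitDerangeCases
import Cfsg.Agent.Lib.Classical.UnitSubspaceCount

/-! Elements of prime order modulo scalars of `SU_n(q)` fixing totally isotropic subspaces. -/

set_option autoImplicit false
set_option linter.unusedSectionVars false

namespace Cfsg.Agent.UnitIsoDerange

open Polynomial Matrix Cfsg.Agent.Classical Cfsg.Agent.UnitaryDetCentralizer Cfsg.Agent.UnitInvariant
  Cfsg.Agent.UnitSelfDualFactors Cfsg.Agent.UnitDerangeBasic Cfsg.Agent.UnitDerangeCases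

variable {K : Type*} [Field K] [Fintype K] {q n m r i : ℕ}

omit [Fintype K] in
theorem det_roots {A : Matrix (Fin n) (Fin n) K} {a b : K} {j l : ℕ} (hn : n = j + l)
    (h : A.charpoly = (X - Polynomial.C a) ^ j * (X - Polynomial.C b) ^ l) : A.det = a ^ j * b ^ l := by
  rw [Matrix.det_eq_sign_charpoly_coeff, h, ← constantCoeff_apply, map_mul, map_pow, map_pow, constantCoeff_apply,
    constantCoeff_apply, coeff_sub, coeff_sub, coeff_X_zero, coeff_C_zero, coeff_C_zero, zero_sub, zero_sub,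
    Fintype.card_fin, hn, pow_add, neg_pow a, neg_pow b]
  rw [show (-1 : K) ^ j * (-1) ^ l * ((-1) ^ j * a ^ j * ((-1) ^ l * b ^ l)) =
    ((-1) ^ j * (-1) ^ j) * ((-1) ^ l * (-1) ^ l) * (a ^ j * b ^ l) by ring, ← mul_pow, ← mul_pow]
  simp

omit [Fintype K] in
theorem det_kummer {A : Matrix (Fin n) (Fin n) K} {z : K} {w : ℕ} (hr : Odd r) (hn : n = r * w)
    (h : A.charpoly = (X ^ r - Polynomial.C z) ^ w) : A.det = z ^ w := by
  rw [Matrix.det_eq_sign_charpoly_coeff, h, ← constantCoeff_apply, map_pow, constantCoeff_apply,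
    coeff_sub, coeff_X_pow, coeff_C_zero, if_neg (by rintro rfl; simp at hr), zero_sub, Fintype.card_fin, hn, pow_mul,
    hr.neg_one_pow, ← mul_pow, neg_one_mul, neg_neg]

theorem fixed_pow (hK : Fintype.card K = q ^ 2) {a : K} (ha : a ^ (q + 1) = 1) (k : ℕ) :
    cdual (qFrob hK) ((X - Polynomial.C a) ^ k) = (X - Polynomial.C a) ^ k := by
  induction k with
  | zero => rw [pow_zero]; exact tau_one hK
  | succ k ih => rw [pow_succ, cdual_mul, ih, cdual_fixed_root hK ha]

/-- A diagonal element without invariant totally isotropic `m`-space. -/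
theorem not_iso_diag [DecidableEq K] (hK : Fintype.card K = q ^ 2) (g : GU n K q) {d : Fin n → K}
    (hg : (g.1 : Matrix (Fin n) (Fin n) K) = Matrix.diagonal d) (hd : ∀ j, d j ^ (q + 1) = 1) {u₀ : K}
    (h1 : ∀ u, u ≠ u₀ → (Finset.univ.val.map d).count u ≤ 1) (h0 : (Finset.univ.val.map d).count u₀ < 2 * m) :
    ¬ IsoFix q m (g.1 : Matrix (Fin n) (Fin n) K) := by
  classical
  intro H
  obtain ⟨D, hD, hDd, hdvd⟩ := dvd_of_iso hK g H
  rw [hg, Matrix.charpoly_diagonal, Finset.prod_eq_multiset_prod] at hdvd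
  have he : (Finset.univ.val.map fun j => X - Polynomial.C (d j)) =
      (Finset.univ.val.map d).map fun a => X - Polynomial.C a := by rw [Multiset.map_map]; rfl
  rw [he] at hdvd
  obtain ⟨R, hRc, hR⟩ := roots_twice hK (fun a ha => by
    obtain ⟨j, -, rfl⟩ := Multiset.mem_map.1 ha
    exact hd j) hD hdvd
  have hR0 : R = Multiset.replicate R.card u₀ := Multiset.eq_replicate_card.2 fun u hu => by
    by_contra hne
    have h2 := Multiset.le_iff_count.1 hR u
    rw [Multiset.count_add] at h2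
    have := Multiset.count_pos.2 hu
    have := h1 u hne
    omega
  have h2 := Multiset.le_iff_count.1 hR u₀
  rw [Multiset.count_add, hR0, Multiset.count_replicate, if_pos rfl, hRc, hDd] at h2
  omega

theorem pair_prod (f : ℕ → K) : ∀ h : ℕ, (∀ t < h, f (2 * t) * f (2 * t + 1) = 1) →
    ∏ j ∈ Finset.range (2 * h), f j = 1 := by
  intro h
  induction h with
  | zero => intro _; simp
  | succ h ih =>
    intro H
    rw [show 2 * (h + 1) = 2 * h + 1 + 1 by ring, Finset.prod_range_succ, Finset.prod_range_succ,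
      ih (fun t ht => H t (by omega)), one_mul, H h (by omega)]

/-- The exponents of a diagonal element with many distinct eigenvalues. -/
def expo (r h j : ℕ) : ℕ := if j < 2 * h then (if j % 2 = 0 then j / 2 + 1 else r - (j / 2 + 1)) else 0

theorem bad_diag (hK : Fintype.card K = q ^ 2) (hr : r.Prime) (hr2 : r ≠ 2) (hrq : r ∣ q + 1) (hm : 1 ≤ m)
    (hmn : 2 * m ≤ n) (hlt : n < r - 1 + 2 * m) :
    ∃ g : GU n K q, (g.1 : Matrix (Fin n) (Fin n) K).det = 1 ∧
      (∃ z : K, (g.1 : Matrix (Fin n) (Fin n) K) ^ r = z • 1) ∧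
      (∀ z : K, (g.1 : Matrix (Fin n) (Fin n) K) ≠ z • 1) ∧ ¬ IsoFix q m (g.1 : Matrix (Fin n) (Fin n) K) := by
  classical
  obtain ⟨ξ, hξ⟩ := exists_gen hK
  obtain ⟨w, hw⟩ := hrq
  have hζ : IsPrimitiveRoot (ξ ^ w) r := hξ.pow (Nat.succ_pos q) (hw.trans (mul_comm _ _))
  have hζq : ∀ e : ℕ, ((ξ ^ w) ^ e) ^ (q + 1) = 1 := fun e => by
    rw [← pow_mul, mul_comm, pow_mul, ← pow_mul ξ, mul_comm w, pow_mul, hξ.pow_eq_one, one_pow, one_pow]
  set ζ := ξ ^ w
  obtain ⟨h, hh⟩ : ∃ h, h = (n + 2 - 2 * m) / 2 := ⟨_, rfl⟩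
  have hr3 : 3 ≤ r := by have := hr.two_le; omega
  have hrodd : r % 2 = 1 := Nat.odd_iff.1 (hr.odd_of_ne_two hr2)
  let d : Fin n → K := fun j => ζ ^ expo r h j
  have hd : ∀ j, d j ^ (q + 1) = 1 := fun j => hζq _
  obtain ⟨g, hg⟩ := exists_diag hK d hd
  refine ⟨g, ?_, ⟨1, ?_⟩, fun z hz => ?_, not_iso_diag hK g hg hd (u₀ := 1) (fun u hu => ?_) ?_⟩
  · rw [hg, Matrix.det_diagonal, Fin.prod_univ_eq_prod_range (fun j => ζ ^ expo r h j),
      ← Finset.prod_range_mul_prod_Ico _ (show 2 * h ≤ n by omega), pair_prod _ h fun t ht => ?_, one_mul]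
    · exact Finset.prod_eq_one fun j hj => by rw [Finset.mem_Ico] at hj; rw [expo, if_neg (by omega), pow_zero]
    · simp only [expo, if_pos (show 2 * t < 2 * h by omega), if_pos (show 2 * t + 1 < 2 * h by omega),
        Nat.mul_mod_right, if_true, show (2 * t + 1) % 2 = 1 by omega, Nat.one_ne_zero, if_false, ← pow_add]
      rw [show 2 * t / 2 + 1 + (r - ((2 * t + 1) / 2 + 1)) = r by omega, hζ.pow_eq_one]
  · rw [hg, Matrix.diagonal_pow, one_smul, ← Matrix.diagonal_one]
    exact congrArg _ (funext fun j => by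
      show d j ^ r = 1
      rw [← pow_mul, mul_comm, pow_mul, hζ.pow_eq_one, one_pow])
  · rw [hg, Matrix.smul_one_eq_diagonal] at hz
    have e := Matrix.diagonal_injective hz
    have e1 := (congrFun e ⟨0, by omega⟩).trans (congrFun e ⟨1, by omega⟩).symm
    have e2 := hζ.pow_inj (show expo r h 0 < r by unfold expo; split_ifs <;> omega)
      (show expo r h 1 < r by unfold expo; split_ifs <;> omega) e1
    simp only [expo, if_pos (show 0 < 2 * h by omega), if_pos (show 1 < 2 * h by omega)] at e2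
    norm_num at e2
    omega
  · rw [Multiset.count_map, ← Finset.filter_val, Finset.card_val, Finset.card_le_one]
    intro a ha b hb
    rw [Finset.mem_filter] at ha hb
    have hpos : ∀ c : Fin n, u = d c → (c : ℕ) < 2 * h := fun c hc => by
      by_contra hge
      exact hu (by rw [hc]; show ζ ^ expo r h c = 1; rw [expo, if_neg hge, pow_zero])
    have ha' := hpos a ha.2
    have hb' := hpos b hb.2
    have e2 := hζ.pow_inj (show expo r h a < r by unfold expo; split_ifs <;> omega)
      (show expo r h b < r by unfold expo; split_ifs <;> omega) (ha.2.symm.trans hb.2)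
    simp only [expo, if_pos ha', if_pos hb'] at e2
    refine Fin.ext ?_
    split_ifs at e2 <;> omega
  · rw [Multiset.count_map, ← Finset.filter_val, Finset.card_val]
    refine lt_of_le_of_lt (Finset.card_le_card_of_injOn (t := Finset.Ico (2 * h) n) (fun j => (j : ℕ)) ?_
      fun a _ b _ hab => Fin.ext hab) (by rw [Nat.card_Ico]; omega)
    intro j hj
    simp only [Finset.coe_filter, Finset.mem_univ, true_and, Set.mem_setOf_eq] at hj
    simp only [Finset.coe_Ico, Set.mem_Ico]
    refine ⟨?_, j.2⟩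
    by_contra hlt'
    have e2 := hζ.pow_inj hr.pos (show expo r h j < r by unfold expo; split_ifs <;> omega)
      ((pow_zero ζ).trans hj)
    simp only [expo, if_pos (show (j : ℕ) < 2 * h by omega)] at e2
    split_ifs at e2 <;> omega

variable {p : ℕ} [Fact p.Prime] [CharP K p]

theorem criterion_two (p : ℕ) [Fact p.Prime] [CharP K p] (hK : Fintype.card K = q ^ 2) (hp : p ≠ 2) (hn : 2 ≤ n)
    (hm : 1 ≤ m) (hmn : 2 * m ≤ n) :
    Fixes (n := n) (K := K) q 2 (IsoFix q m) ↔ (2 * m < n ∨ padicValNat 2 (q + 1) ≤ padicValNat 2 n) := by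
  classical
  haveI : Fact (Nat.Prime 2) := ⟨Nat.prime_two⟩
  obtain ⟨hq, h2⟩ := odd_q (p := p) hK hp
  have hev : Even (q + 1) := Nat.even_iff.2 (by omega)
  have hne1 : (1 : K) ≠ -1 := fun e => h2 (by linear_combination e)
  constructor
  · intro H
    by_contra hcon
    push Not at hcon
    obtain ⟨δ, hδ, hδn⟩ := (neg_one_power_iff hK hq h2 (by omega)).2 hcon.2
    have hδ0 : δ ≠ 0 := fun h => by rw [h, zero_pow (Nat.succ_ne_zero q)] at hδ; exact zero_ne_one hδ
    have hδne : δ ≠ -δ := fun h => hδ0 (by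
      have : (2 : K) * δ = 0 := by linear_combination h
      exact (mul_eq_zero.1 this).resolve_left h2)
    let i₀ : Fin n := ⟨0, by omega⟩
    let d : Fin n → K := fun j => if j = i₀ then -δ else δ
    have hd : ∀ j, d j ^ (q + 1) = 1 := fun j => by
      show (if _ then _ else _ : K) ^ (q + 1) = 1
      split_ifs
      · rw [hev.neg_pow, hδ]
      · exact hδ
    obtain ⟨g, hg⟩ := exists_diag hK d hd
    refine not_iso_diag (m := m) hK g hg hd (u₀ := δ) (fun u hu => ?_) ?_ (H g ?_ ⟨δ ^ 2, ?_⟩ fun z hz => ?_)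
    · rw [Multiset.count_map, ← Finset.filter_val, Finset.card_val, Finset.card_le_one]
      intro a ha b hb
      simp only [Finset.mem_filter, Finset.mem_univ, true_and, d] at ha hb
      split_ifs at ha with h1
      · split_ifs at hb with h2'
        · rw [h1, h2']
        · exact absurd hb hu
      · exact absurd ha hu
    · rw [Multiset.count_map, ← Finset.filter_val, Finset.card_val]
      refine lt_of_le_of_lt (Finset.card_le_card (t := Finset.univ.erase i₀) fun j hj => ?_)
        (by rw [Finset.card_erase_of_mem (Finset.mem_univ _), Finset.card_univ, Fintype.card_fin]; omega)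
      simp only [Finset.mem_filter, Finset.mem_univ, true_and, d] at hj
      refine Finset.mem_erase.2 ⟨fun h => ?_, Finset.mem_univ _⟩
      rw [if_pos h] at hj
      exact hδne hj
    · rw [hg, Matrix.det_diagonal, ← Finset.mul_prod_erase _ _ (Finset.mem_univ i₀)]
      rw [show d i₀ = -δ from if_pos rfl, Finset.prod_congr rfl (g := fun _ => δ) (fun j hj =>
        if_neg (Finset.ne_of_mem_erase hj)), Finset.prod_const, Finset.card_erase_of_mem (Finset.mem_univ _),
        Finset.card_univ, Fintype.card_fin, neg_mul, ← pow_succ', Nat.sub_add_cancel (by omega : 1 ≤ n), hδn, neg_neg]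
    · rw [hg, Matrix.diagonal_pow, Matrix.smul_one_eq_diagonal]
      exact congrArg _ (funext fun j => by
        show (if _ then _ else _ : K) ^ 2 = δ ^ 2
        split_ifs
        · rw [neg_sq]
        · rfl)
    · rw [hg, Matrix.smul_one_eq_diagonal] at hz
      have e := Matrix.diagonal_injective hz
      have e1 := (congrFun e i₀).trans (congrFun e ⟨1, by omega⟩).symm
      simp only [d, if_pos rfl, if_neg (show (⟨1, by omega⟩ : Fin n) ≠ i₀ by simp [i₀, Fin.ext_iff])] at e1
      exact hδne e1.symm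
  · rintro H g hdet ⟨z, hz⟩ -
    have hz1 := norm_scalar hK (by omega) g hz
    have hg := semisimple (p := p) hK Nat.prime_two (fun e => hp e.symm) g hz hz1
    by_cases hA : ∃ d : K, d ^ (q + 1) = 1 ∧ d ^ 2 = z
    · obtain ⟨d, hd, hdz⟩ := hA
      obtain ⟨y, hy, hgy⟩ := exists_normalised hK g hz hd hdz
      have hy1 : (y.1 : Matrix (Fin n) (Fin n) K) ^ 2 = (1 * 1 : K) • 1 := by
        rw [← Units.val_pow_eq_pow_val, ← SubgroupClass.coe_pow, hy, mul_one, one_smul]; rfl
      obtain ⟨a, c, hP, hac, -, -⟩ := two_factors hne1 (Matrix.charpoly_monic (y.1 : Matrix (Fin n) (Fin n) K))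
        fun f a' b' c' => factor_two hy1 a' b' c'
      rw [Matrix.charpoly_natDegree_eq_dim, Fintype.card_fin] at hac
      have hodd : 2 * m = n → c % 2 = 0 := fun hmn' => by
        by_contra hc
        have hy2 := det_roots hac hP
        rw [one_pow, one_mul, (Nat.odd_iff.2 (by omega : c % 2 = 1)).neg_one_pow] at hy2
        rw [hgy, Matrix.det_smul, Fintype.card_fin, hy2] at hdet
        have := (neg_one_power_iff hK hq h2 (n := n) (by omega)).1 ⟨d, hd, by linear_combination -hdet⟩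
        omega
      obtain ⟨j, l, hjl, hja, hlc⟩ : ∃ j l, j + l = m ∧ 2 * j ≤ a ∧ 2 * l ≤ c := by
        refine ⟨min m (a / 2), m - min m (a / 2), by omega, by omega, ?_⟩
        rcases lt_or_eq_of_le hmn with h' | h'
        · omega
        · have := hodd h'; omega
      have hy' : (orderOf y).Coprime p := semisimple (p := p) hK Nat.prime_two (fun e => hp e.symm) y
        (z := 1) (by rw [hy1, mul_one]) (one_pow _)
      rw [hgy]
      refine iso_smul d (iso_of_dvd hK y hy' (D := (X - Polynomial.C 1) ^ j * (X - Polynomial.C (-1)) ^ l)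
        (((monic_X_sub_C 1).pow j).mul ((monic_X_sub_C (-1)).pow l)) ?_ ?_)
      · rw [((monic_X_sub_C (1 : K)).pow j).natDegree_mul ((monic_X_sub_C (-1)).pow l), natDegree_pow, natDegree_pow,
          natDegree_X_sub_C, natDegree_X_sub_C, mul_one, mul_one, hjl]
      · rw [hP, cdual_mul, fixed_pow hK (one_pow _), fixed_pow hK (by rw [hev.neg_one_pow]), mul_mul_mul_comm,
          ← pow_add, ← pow_add]
        exact mul_dvd_mul (pow_dvd_pow _ (by omega)) (pow_dvd_pow _ (by omega))
    · push Not at hA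
      obtain ⟨b, a, hbn, h1, h1', -, hna, hP⟩ := two_shape (p := p) hK hp g hz hz1 hA
      refine iso_of_dvd hK g hg (D := (X - Polynomial.C b) ^ m) ((monic_X_sub_C b).pow m)
        (by rw [natDegree_pow, natDegree_X_sub_C, mul_one]) ?_
      have h3 := cdual_two hK hbn h1 h1' m 0
      rw [pow_zero, pow_zero, mul_one, one_mul] at h3
      rw [hP, h3]
      exact mul_dvd_mul (pow_dvd_pow _ (by omega)) (pow_dvd_pow _ (by omega))

theorem criterion_odd (p : ℕ) [Fact p.Prime] [CharP K p] (h : UCtx K q r i) (hn : 3 ≤ n) (hm : 1 ≤ m) (hmn : 2 * m ≤ n)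
    {j : ℕ} (hj1 : n - 2 * m < j) (hj2 : j ≤ n) (hcj : cDeg i ∣ j) :
    Fixes (n := n) (K := K) q r (IsoFix q m) ↔
      (bDeg i ≤ m ∧ 2 * (m % bDeg i) ≤ n % cDeg i ∧
        (i % 4 ≠ 2 ∨ (i % 4 = 2 ∧ (r - 1) / bDeg i + 2 * (m / bDeg i) ≤ n / bDeg i ∧
          (2 < i ∨ (i = 2 ∧ (r ∣ m ∨ padicValNat r n ≤ padicValNat r (q + 1))))))) := by
  classical
  have hr := h.prime
  haveI : Fact r.Prime := ⟨hr⟩
  have hrp : r ≠ p := fun e => h.ne (e ▸ CharP.cast_eq_zero K p)
  have hc0 := c_pos h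
  have hcn : cDeg i ≤ n := (Nat.le_of_dvd (by omega) hcj).trans hj2
  have hsmall : n % cDeg i < 2 * m := by
    obtain ⟨w, rfl⟩ := hcj
    have := Nat.mod_le (n - cDeg i * w) (cDeg i)
    rw [show n = n - cDeg i * w + cDeg i * w by omega, Nat.add_mul_mod_self_left]
    omega
  have hbad : i ≠ 2 → ∀ P ∈ selfDual h.card r n, P ≠ (X - Polynomial.C 1) ^ n →
      (∀ D : K[X], D.Monic → D * tau h.card D ∣ P → D.natDegree ≠ m) → ¬ Fixes (n := n) (K := K) q r (IsoFix q m) := by
    intro hi2 P hP hne hno H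
    obtain ⟨g, hdet, hz, hns, hgP⟩ := exists_element p h (by omega) (fun hd => hi2 ((eq_two_iff h).2 hd)) hP hne
    obtain ⟨D, hD, hDd, hdvd⟩ := dvd_of_iso h.card g (H g hdet hz hns)
    exact hno D hD (hgP ▸ hdvd) hDd
  constructor
  · intro H
    have hmod : 2 * (m % bDeg i) ≤ n % cDeg i := by
      by_contra hlt
      have hi2 : i ≠ 2 := fun e => by
        subst e; rw [show bDeg 2 = 1 from rfl, Nat.mod_one] at hlt; omega
      obtain ⟨P, hP, hne, hno⟩ := bad_iso_mod h hcn (Nat.lt_of_not_le hlt)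
      exact hbad hi2 P hP hne hno H
    have hbm : bDeg i ≤ m := by
      by_contra hlt
      rw [Nat.mod_eq_of_lt (by omega : m < bDeg i)] at hmod
      omega
    refine ⟨hbm, hmod, or_iff_not_imp_left.2 fun h4 => ?_⟩
    push Not at h4
    have hcb := (deg_two h4).2.1
    have hs : (r - 1) / bDeg i + 2 * (m / bDeg i) ≤ n / bDeg i := by
      by_contra hlt
      by_cases hi2 : i = 2
      · subst hi2
        simp only [bDeg, even_two, if_true, Nat.reduceDiv, Nat.div_one, not_le] at hlt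
        obtain ⟨g, hdet, hz, hns, hno⟩ := bad_diag h.card hr h.odd ((eq_two_iff h).1 rfl) hm hmn hlt
        exact hno (H g hdet hz hns)
      · obtain ⟨P, hP, hne, hno⟩ := bad_iso_singles h h4 (hcb ▸ hcn) hbm (Nat.lt_of_not_le hlt)
        exact hbad hi2 P hP hne hno H
    refine ⟨h4, hs, ?_⟩
    by_cases hi2 : i = 2
    · refine Or.inr ⟨hi2, or_iff_not_imp_left.2 fun hrm => ?_⟩
      by_contra hv
      obtain ⟨w, hw⟩ : r ∣ n := dvd_of_one_le_padicValNat (by omega)
      have hw1 : 1 ≤ w := by rcases w with _ | w <;> simp_all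
      have hvn : padicValNat r n = 1 + padicValNat r w := by
        rw [hw, padicValNat.mul hr.ne_zero (by omega), padicValNat_self]
      obtain ⟨g, z, hdet, hz, hns, hirr, hgP⟩ := exists_kummer p h.card hr h.odd h.ne ((eq_two_iff h).1 hi2) hw1 hw
        (by omega)
      obtain ⟨D, hD, hDd, hdvd⟩ := dvd_of_iso h.card g (H g hdet ⟨z, hz⟩ hns)
      rw [hgP] at hdvd
      have h5 := SubspaceDerange.divisor_of_power (monic_X_pow_sub_C z hr.ne_zero) hirr hD
        ((dvd_mul_right _ _).trans hdvd)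
      rw [natDegree_X_pow_sub_C, hDd] at h5
      exact hrm h5
    · exact Or.inl (by omega)
  · rintro ⟨hbm, hmod, h4⟩ g hdet ⟨z, hz⟩ -
    have hz1 := norm_scalar h.card (by omega) g hz
    have hg := semisimple (p := p) h.card hr hrp g hz hz1
    by_cases hA : ∃ d : K, d ^ (q + 1) = 1 ∧ d ^ r = z
    · obtain ⟨d, hd, hdz⟩ := hA
      obtain ⟨y, hy, hgy⟩ := exists_normalised h.card g hz hd hdz
      obtain ⟨D, hD, hDd, hdvd⟩ := exists_iso h hmn hmod
        (fun h4' => (h4.resolve_left (fun e => e h4')).2.1) (charpoly_selfDual h.card y hy)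
      have hy' : (orderOf y).Coprime p :=
        ((Nat.coprime_primes hr Fact.out).2 hrp).coprime_dvd_left (orderOf_dvd_of_pow_eq_one hy)
      rw [hgy]
      exact iso_smul d (iso_of_dvd h.card y hy' hD hDd hdvd)
    · push Not at hA
      have hrq : r ∣ q + 1 := by
        by_contra hrq
        obtain ⟨d, hd, hdz⟩ := root_of_coprime hz1 (hr.coprime_iff_not_dvd.2 hrq)
        exact hA d hd hdz
      have hi2 := (eq_two_iff h).2 hrq
      obtain ⟨w, hnw, -, hfix, hP⟩ := kummer_shape h.card hr h.odd hrq g hz hz1 hA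
      have hrm : r ∣ m := by
        subst hi2
        rcases h4 with e | ⟨-, -, e | ⟨-, e | e⟩⟩
        · exact absurd rfl e
        · exact absurd e (lt_irrefl 2)
        · exact e
        · exfalso
          have hw1 : 1 ≤ w := by rcases w with _ | w <;> simp_all
          have h6 := (nonpower_iff h.card hr hrq hw1).1 ⟨z, hz1, hA, by
            rw [← det_kummer (hr.odd_of_ne_two h.odd) hnw hP, hdet]⟩
          rw [hnw, padicValNat.mul hr.ne_zero (by omega), padicValNat_self] at e
          omega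
      obtain ⟨v, rfl⟩ := hrm
      refine iso_of_dvd h.card g hg (D := (X ^ r - Polynomial.C z) ^ v) ((monic_X_pow_sub_C z hr.ne_zero).pow v)
        (by rw [natDegree_pow, natDegree_X_pow_sub_C, mul_comm]) ?_
      have hpow : ∀ k : ℕ, cdual (qFrob h.card) ((X ^ r - Polynomial.C z) ^ k) = (X ^ r - Polynomial.C z) ^ k :=
        fun k => by
        induction k with
        | zero => rw [pow_zero]; exact tau_one h.card
        | succ k ihk => rw [pow_succ, cdual_mul, ihk, hfix]
      rw [hP, hpow, ← pow_add]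
      exact pow_dvd_pow _ (Nat.le_of_mul_le_mul_left (by rw [Nat.mul_add, ← hnw]; omega) hr.pos)

/-- The criterion. -/
theorem criterion {p : ℕ} [Fact p.Prime] [CharP K p] (hK : Fintype.card K = q ^ 2) (hn : 3 ≤ n) (hm : 1 ≤ m)
    (hmn : 2 * m ≤ n) [hr : Fact r.Prime]
    (hrΩ : r ∣ Nat.card {W : Submodule K (Fin n → K) //
      Module.finrank K ↥W = m ∧ (∀ u ∈ W, ∀ v ∈ W, Cfsg.hermForm n K q u v = 0)})
    {b c : ℕ} (hi : i = orderOf (q : ZMod r)) (hb : b = if Even i then i / 2 else i)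
    (hc : c = if i % 4 = 0 then i else if i % 4 = 2 then i / 2 else 2 * i) :
    (∀ x : Matrix.SpecialLinearGroup (Fin n) K, x ∈ Cfsg.SU n K q →
      (∃ z : K, ((x ^ r : Matrix.SpecialLinearGroup (Fin n) K) : Matrix (Fin n) (Fin n) K) = z • (1 : Matrix (Fin n) (Fin n) K)) →
      (∀ z : K, (x : Matrix (Fin n) (Fin n) K) ≠ z • (1 : Matrix (Fin n) (Fin n) K)) →
      ∃ W : Submodule K (Fin n → K), Module.finrank K ↥W = m ∧ (∀ u ∈ W, ∀ v ∈ W, Cfsg.hermForm n K q u v = 0) ∧
        W.map (Matrix.toLin' (x : Matrix (Fin n) (Fin n) K)) ≤ W) ↔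
    ((r = 2 ∧ p ≠ 2 ∧ (2 * m < n ∨ padicValNat 2 (q + 1) ≤ padicValNat 2 n)) ∨
     (r ≠ p ∧ 2 < r ∧ b ≤ m ∧ 2 * (m % b) ≤ n % c ∧
       (i % 4 ≠ 2 ∨ (i % 4 = 2 ∧ (r - 1) / b + 2 * (m / b) ≤ n / b ∧
         (2 < i ∨ (i = 2 ∧ (r ∣ m ∨ padicValNat r n ≤ padicValNat r (q + 1)))))))) := by
  rw [fixes_iff (Φ := fun A => ∃ W : Submodule K (Fin n → K), Module.finrank K ↥W = m ∧
    (∀ u ∈ W, ∀ v ∈ W, Cfsg.hermForm n K q u v = 0) ∧ W.map (Matrix.toLin' A) ≤ W)]
  simp only [invariant_map]
  show Fixes (n := n) (K := K) q r (IsoFix q m) ↔ _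
  obtain ⟨hqr, j, hj1, hj2, hj⟩ := UnitSubspaceCount.iso_exponent hK hmn hr.out hrΩ
  have hrp : r ≠ p := fun e => hqr (by
    rw [ZMod.natCast_eq_zero_iff, e]
    obtain ⟨l, -, hl⟩ := FiniteField.card K p
    exact (Fact.out : p.Prime).dvd_of_dvd_pow (n := 2) (by rw [← hK, hl]; exact dvd_pow_self p l.pos.ne'))
  rcases eq_or_ne r 2 with h2 | h2
  · subst h2
    rw [criterion_two p hK hrp.symm (by omega) hm hmn]
    exact ⟨fun h => Or.inl ⟨rfl, hrp.symm, h⟩, fun h => h.elim (fun h => h.2.2) fun h => absurd h.2.1 (lt_irrefl 2)⟩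
  have h : UCtx K q r i := ⟨hK, hr.out, h2, fun e =>
    hrp ((Nat.prime_dvd_prime_iff_eq (Fact.out : p.Prime) hr.out).1 ((CharP.cast_eq_zero_iff K p r).1 e)).symm, hi⟩
  rw [criterion_odd p h hn hm hmn hj1 hj2 (UnitSubspaceCount.c_dvd h hj), hb, hc]
  exact ⟨fun H => Or.inr ⟨hrp, lt_of_le_of_ne hr.out.two_le h2.symm, H⟩,
    fun H => (H.resolve_left fun e => h2 e.1).2.2⟩

end Cfsg.Agent.UnitIsoDerange
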