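import Cfsg.Agent.Lib.Classical.UnitFieldAut
import Cfsg.Agent.Lib.Classical.LocalBalance
import Cfsg.Agent.Lib.Classical.PSLLocalBalance
import Cfsg.Agent.Lib.Classical.FormCommutant
import Cfsg.Agent.Lib.Fus.UnitTransvection
import Cfsg.Agent.Lib.Spor.PSUThreeTwo

/-!
Local balance in almost simple groups with socle `PSU_n(q)`: the common frame and the field automorphisms.
-/

set_option autoImplicit false
set_option linter.unusedSectionVars false

namespace Cfsg.Agent.Classical.PSUBal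

open Matrix Cfsg.Agent.Classical Cfsg.Agent.Classical.Descent Cfsg.Agent.Classical.PSUAut

variable {F : Type*} [Field F] [Fintype F] {q n : ℕ} (hF : Fintype.card F = q ^ 2)

local notation "Mn" => Matrix (Fin n) (Fin n) F
local notation "GI" => GL (Fin n) F
local notation "SUn" => SU n F q
local notation "PS" => PSU n F q
local notation "π" => suToPSU n F q
local notation "Sc" => Matrix.GeneralLinearGroup.scalar (Fin n)

/-- The matrix of an element of `SU_n` as an invertible matrix. -/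
def sGL : SU n F q →* GL (Fin n) F := (GU n F q).subtype.comp suToGU

theorem sGL_coe (s : SUn) : ((sGL s : GI) : Mn) = suVal s := rfl

/-- `x` is induced by `θ`. -/
def Act (x : MulAut PS) (θ : GI →* GI) : Prop :=
  ∀ s : SUn, ∃ s' : SUn, sGL s' = θ (sGL s) ∧ x (π s) = π s'

/-- The fixed points in `SU_n`. -/
def FixU (θ : GI →* GI) : Subgroup (SU n F q) := MonoidHom.eqLocus (θ.comp sGL) sGL

theorem mem_FixU {θ : GI →* GI} {s : SUn} : s ∈ FixU θ ↔ θ (sGL s) = sGL s := Iff.rfl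

/-- Their image in `PSU_n`. -/
def P0U (θ : GI →* GI) : Subgroup (PSU n F q) := (FixU θ).map (π)

include hF

theorem pi_eq_gl (hn : 1 ≤ n) {s t : SUn} (h : π s = π t) : ∃ c : Fˣ, sGL s = Sc c * sGL t := by
  obtain ⟨l, hl⟩ := (PSUAut.pi_eq_iff hF).1 h
  have hl0 : l ≠ 0 := fun h0 => by
    haveI : Nonempty (Fin n) := ⟨⟨0, hn⟩⟩
    have := s.1.2
    rw [show (s.1 : Mn) = suVal s from rfl, hl, h0, zero_smul, Matrix.det_zero] at this
    exact zero_ne_one this
  exact ⟨Units.mk0 l hl0, Units.ext (by rw [Units.val_mul, sc_coe, Matrix.smul_mul, Matrix.one_mul]; exact hl)⟩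

theorem conj_injective (hn : 3 ≤ n) : Function.Injective (MulAut.conj : PS →* MulAut PS) :=
  (injective_iff_map_eq_one _).2 fun _ hx => conj_eq_one hF hn hx

/-- The criterion of local balance in this frame. -/
theorem balance_act (hn : 3 ≤ n) {A : Subgroup (MulAut PS)} (hinn : ∀ k : PS, MulAut.conj k ∈ A)
    {r : ℕ} [Fact r.Prime] {x₀ x a : MulAut PS} {θ : GI →* GI} (hact : Act x₀ θ)
    (hx : x = a * x₀ * a⁻¹) (hord : orderOf x = r) (hnot : ¬ IsInnerDiagonalAutPSU x)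
    (hP : P0U (q := q) θ ≠ ⊥)
    (hcent : ∀ β : MulAut PS, (∀ u ∈ P0U θ, β u = u) → β ∈ Subgroup.zpowers x₀)
    (hdiv : ∀ s : SUn, orderOf (π s) = r → x₀ (π s) = π s → r ∣ Nat.card (P0U (q := q) θ))
    (hnon : r ∣ Nat.card (P0U (q := q) θ) →
      ∀ M : Subgroup (P0U (q := q) θ), M.Normal → (Nat.card M).Coprime r → M = ⊥) :
    pPrimeCore r ↥(A ⊓ Subgroup.centralizer {x}) ≠ ⊥ ↔
      Nat.Coprime r (Nat.card ↥(MonoidHom.eqLocus x.toMonoidHom (MonoidHom.id PS))) := by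
  classical
  have happ : ∀ z, x (a z) = a (x₀ z) := fun z => by rw [hx]; simp [MulAut.mul_apply]
  have hfixiff : ∀ z, x (a z) = a z ↔ x₀ z = z := fun z => by rw [happ]; exact a.injective.eq_iff
  have hfix0 : ∀ u ∈ P0U θ, x₀ u = u := by
    rintro _ ⟨s, hs, rfl⟩
    obtain ⟨s', hs', h⟩ := hact s
    rw [h]
    refine congrArg _ (suVal_ext ?_)
    exact congrArg (fun g : GI => (g : Mn)) (hs'.trans hs)
  refine balance_iff (conj_injective hF hn) hinn hord (fun k hk => hnot ?_) (P₀ := (P0U θ).map a.toMonoidHom)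
    ?_ ?_ ?_ ?_ ?_ ?_
  · obtain ⟨s, rfl⟩ := suToPSU_surjective k
    exact innerDiag_iff.2 ⟨_, hk.symm.trans (conj_eq_psuSemi s)⟩
  · rwa [Ne, Subgroup.map_eq_bot_iff_of_injective (f := a.toMonoidHom) _ a.injective]
  · rintro _ ⟨u, hu, rfl⟩
    exact (hfixiff _).2 (hfix0 u hu)
  · rintro k hk _ ⟨_, ⟨u, hu, rfl⟩, rfl⟩
    obtain ⟨k, rfl⟩ := a.surjective k
    obtain ⟨t, rfl⟩ := suToPSU_surjective k
    obtain ⟨t', ht', h⟩ := hact t
    obtain ⟨c, hc⟩ := pi_eq_gl hF (by omega) (h.symm.trans ((hfixiff _).1 hk))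
    refine ⟨π (t * u * t⁻¹), ⟨t * u * t⁻¹, ?_, rfl⟩, by simp⟩
    rw [SetLike.mem_coe, mem_FixU, map_mul sGL, map_mul sGL, map_mul θ, map_mul θ, map_inv sGL, map_inv θ, ← ht',
      mem_FixU.1 hu, hc, _root_.mul_inv_rev]
    rw [show Sc c * sGL t * sGL u * ((sGL t)⁻¹ * (Sc c)⁻¹) =
      Sc c * (sGL t * sGL u * (sGL t)⁻¹) * (Sc c)⁻¹ by group, Descent.scalar_comm, mul_inv_cancel_right]
  · intro β _ hβ
    obtain ⟨k, hk⟩ := Subgroup.mem_zpowers_iff.1 (hcent (a⁻¹ * β * a) (fun u hu => by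
      show (a⁻¹ : MulAut PS) (β (a u)) = u
      have h3 : β (a u) = a u := hβ (a u) ⟨u, hu, rfl⟩
      rw [h3]
      exact a.symm_apply_apply u))
    refine Subgroup.mem_zpowers_iff.2 ⟨k, ?_⟩
    rw [hx, conj_zpow, hk]
    group
  · intro hd
    rw [Subgroup.card_map_of_injective (f := a.toMonoidHom) a.injective]
    obtain ⟨k, hk⟩ := exists_prime_orderOf_dvd_card' r hd
    obtain ⟨z, hz⟩ := a.surjective (k : PS)
    obtain ⟨s, rfl⟩ := suToPSU_surjective z
    refine hdiv s ?_ ((hfixiff _).1 (hz ▸ k.2))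
    rw [← hk, ← Subgroup.orderOf_coe, ← hz, MulEquiv.orderOf_eq]
  · intro hd M hM hc
    let e : P0U θ ≃* (P0U θ).map a.toMonoidHom := Subgroup.equivMapOfInjective _ a.toMonoidHom a.injective
    have hd' : r ∣ Nat.card (P0U (q := q) θ) := by rwa [Nat.card_congr e.toEquiv]
    have hbot : M.comap e.toMonoidHom = ⊥ := hnon hd' _ (hM.comap _) (by
      rwa [Nat.card_congr (Equiv.subtypeEquiv e.toEquiv (fun u => Iff.rfl) : M.comap e.toMonoidHom ≃ M)])
    rw [← Subgroup.map_comap_eq_self_of_surjective (f := e.toMonoidHom) e.surjective M, hbot, Subgroup.map_bot]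

theorem semi_fix (hn : 1 ≤ n) {g : GU n F q} {τ : RingAut F} {s : SUn}
    (h : psuSemi g τ (π s) = π s) : Commutant.Comm τ (g : GI) (suVal s) := by
  rw [psuSemi_mk] at h
  obtain ⟨c, hc⟩ := pi_eq_gl hF hn h
  refine ⟨(c : F), ?_⟩
  have h1 := congrArg (fun u : GI => (u : Mn)) hc
  simp only [Units.val_mul, sc_coe, sGL_coe, suSemi_coe, Matrix.smul_mul, Matrix.one_mul] at h1
  rw [← Matrix.smul_mul, ← h1, Matrix.mul_assoc, Units.inv_mul, Matrix.mul_one]

end Cfsg.Agent.Classical.PSUBal
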