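import Cfsg.Agent.Lib.Classical.UnitLocalBalance
import Cfsg.Agent.Lib.Classical.UnitDiagonalOut

/-!
Local balance in almost simple groups with socle `PSU_n(q)`: field automorphisms of odd order.
-/

set_option autoImplicit false
set_option linter.unusedSectionVars false
set_option maxHeartbeats 400000

namespace Cfsg.Agent.Classical.PSUBal

open Matrix Cfsg.Agent.Classical Cfsg.Agent.Classical.Descent Cfsg.Agent.Classical.PSUAut
open Cfsg.Agent.UnitDiagonalOut (normOne guDiag guVal guVal_guDiag)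

theorem threeTwo_check : ∀ q : QuaternionGroup 2, q ≠ 1 → ∀ p : Spor.SU32.Par3, ∃ e : Spor.SU32.Par3, ∀ k : ZMod 3,
    Spor.SU32.mat3 p * Spor.SU32.qMat q * Spor.SU32.mat3 e ≠
      Spor.SU32.matZ ^ k.val * (Spor.SU32.mat3 e * (Spor.SU32.mat3 p * Spor.SU32.qMat q)) := by
  decide +kernel

open Spor.SU32 in
/-- `PSU(3,2)` has no nontrivial normal `2`-subgroup. -/
theorem threeTwo_core (M : Subgroup (PSU 3 Spor.SU32.F4 2)) (hM : M.Normal) (hc : (Nat.card M).Coprime 3) :
    M = ⊥ := by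
  have hker : ∀ m ∈ M, kappaP m = 1 → m = 1 := fun m hm hk => by
    have h1 : orderOf m ∣ 3 := orderOf_dvd_of_pow_eq_one (ker_cube m (MonoidHom.mem_ker.2 hk))
    have h2 : orderOf m ∣ Nat.card M := by
      rw [← Subgroup.orderOf_mk m hm]; exact orderOf_dvd_natCard _
    exact orderOf_eq_one_iff.1 (Nat.eq_one_of_dvd_coprimes hc h2 h1)
  refine (Subgroup.eq_bot_iff_forall _).2 fun m hm => ?_
  obtain ⟨g, rfl⟩ := QuotientGroup.mk_surjective m
  obtain ⟨⟨p, q⟩, rfl⟩ := coord_bijective.2 g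
  refine hker _ hm ?_
  show kappa (coord (p, q)) = 1
  rw [kappa_coord]
  by_contra hq
  obtain ⟨e, he⟩ := threeTwo_check q hq p
  set u : PSU 3 F4 2 := QuotientGroup.mk (el3 e)
  set m : PSU 3 F4 2 := QuotientGroup.mk (coord (p, q))
  have hu : kappaP u = 1 := by
    show kappa (el3 e) = 1
    have := kappa_coord (e, 1)
    rwa [coord, qEl_one, mul_one] at this
  have h1 : m * u * m⁻¹ * u⁻¹ = 1 := by
    refine hker _ ?_ ?_
    · rw [show m * u * m⁻¹ * u⁻¹ = m * (u * m⁻¹ * u⁻¹) by group]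
      exact mul_mem hm (hM.conj_mem _ (inv_mem hm) _)
    · rw [map_mul, map_mul, map_mul, map_inv, map_inv, hu, mul_one, mul_inv_cancel, inv_one, mul_one]
  have h2 : (QuotientGroup.mk (coord (p, q) * el3 e * (el3 e * coord (p, q))⁻¹) : PSU 3 F4 2) = 1 := by
    rw [QuotientGroup.mk_mul, QuotientGroup.mk_mul, QuotientGroup.mk_inv, QuotientGroup.mk_mul,
      _root_.mul_inv_rev, ← h1]
    group
    rfl
  obtain ⟨k, hk⟩ := center_eq ((QuotientGroup.eq_one_iff _).1 h2)
  have h3 := congrArg suVal (mul_inv_eq_iff_eq_mul.1 hk)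
  simp only [suVal_mul, suVal_pow, coord_val, val_el3] at h3
  exact he k h3

variable {F : Type*} [Field F] [Fintype F] {q n : ℕ} (hF : Fintype.card F = q ^ 2)
variable {F₀ : Type*} [Field F₀] [Fintype F₀] {q₀ : ℕ} (hF₀ : Fintype.card F₀ = q₀ ^ 2)
  {σ : RingAut F} (j : F₀ →+* F) (hj : ∀ x, σ x = x ↔ x ∈ j.range) (hjq : ∀ a, (j a) ^ q = j (a ^ q₀))

local notation "Mn" => Matrix (Fin n) (Fin n) F
local notation "GI" => GL (Fin n) F
local notation "SUn" => SU n F q
local notation "PS" => PSU n F q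
local notation "π" => suToPSU n F q
local notation "Sc" => Matrix.GeneralLinearGroup.scalar (Fin n)

theorem act_field (σ : RingAut F) : Act (psuSemi (1 : GU n F q) σ : MulAut PS) (gmap σ) := fun s =>
  ⟨suSemi 1 σ s, Units.ext (by
    show suVal (suSemi 1 σ s) = (suVal s).map σ
    simp [suSemi_coe]), rfl⟩

theorem mem_fix_field {s : SUn} : s ∈ FixU (gmap σ) ↔ (suVal s).map σ = suVal s :=
  mem_FixU.trans ⟨fun h => congrArg (fun u : GI => (u : Mn)) h, fun h => Units.ext h⟩

theorem pow_semi (σ : RingAut F) :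
    ∀ k : ℕ, (psuSemi (1 : GU n F q) σ : MulAut PS) ^ k = psuSemi 1 (σ ^ k)
  | 0 => psuSemi_one.symm
  | k + 1 => by rw [pow_succ', pow_semi σ k, psuSemi_mul', map_one, mul_one, pow_succ']

include hF hF₀ hjq

/-- `SU_n` over the fixed field. -/
def suEmb : SU n F₀ q₀ →* SU n F q :=
  MonoidHom.mk' (fun s => ⟨⟨(suVal s).map j, by
      rw [← RingHom.mapMatrix_apply, ← RingHom.map_det, show (suVal s).det = 1 from s.1.2, map_one]⟩,
    fun u v => (guEmb hF hF₀ j hjq (suToGU s)).2 u v⟩) fun a b => suVal_ext Matrix.map_mul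

theorem suEmb_coe (s : SU n F₀ q₀) : suVal (suEmb hF hF₀ j hjq s) = (suVal s).map j := rfl

include hj

/-- The map onto the fixed subgroup. -/
def subHom : SU n F₀ q₀ →* P0U (n := n) (q := q) (gmap σ) :=
  ((π).comp (suEmb hF hF₀ j hjq)).codRestrict _ fun s =>
    ⟨_, mem_fix_field.2 (Matrix.ext fun _ _ => (hj _).2 ⟨_, rfl⟩), rfl⟩

theorem subHom_surjective : Function.Surjective (subHom (n := n) hF hF₀ j hj hjq) := by
  rintro ⟨_, s, hs, rfl⟩
  rw [SetLike.mem_coe, mem_fix_field] at hs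
  choose A hA using fun a b => (hj _).1 (congrFun (congrFun hs a) b)
  have hAj : (Matrix.of A).map j = suVal s := Matrix.ext hA
  have hd : (Matrix.of A).det = 1 := j.injective (by
    rw [RingHom.map_det, RingHom.mapMatrix_apply, hAj, map_one]; exact s.1.2)
  refine ⟨⟨⟨Matrix.of A, hd⟩, fun u v => j.injective ?_⟩, Subtype.ext (congrArg (π) (suVal_ext hAj))⟩
  have hv : ∀ w : Fin n → F₀, suVal s *ᵥ (j ∘ w) = j ∘ (Matrix.of A *ᵥ w) := fun w => by
    funext i
    rw [← hAj]
    exact (RingHom.map_mulVec j (Matrix.of A) w i).symm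
  rw [← h_map_comp hF j hjq, ← h_map_comp hF j hjq]
  show hermForm n F q (j ∘ (Matrix.of A *ᵥ u)) (j ∘ (Matrix.of A *ᵥ v)) = _
  rw [← hv, ← hv]
  exact s.2 _ _

theorem subHom_ker : (subHom (n := n) hF hF₀ j hj hjq).ker = Subgroup.center (SU n F₀ q₀) := by
  ext s
  have e : subHom hF hF₀ j hj hjq s = 1 ↔ π (suEmb hF hF₀ j hjq s) = 1 := Subtype.ext_iff
  rw [MonoidHom.mem_ker, e, PSUAut.pi_eq_one_iff hF]
  constructor
  · rintro ⟨l, hl⟩
    rcases isEmpty_or_nonempty (Fin n) with h | ⟨⟨i⟩⟩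
    · exact mem_center_of_suVal_scalar (c := 0) (Matrix.ext fun a => h.elim a)
    refine mem_center_of_suVal_scalar (c := suVal s i i) (Matrix.ext fun a b => j.injective ?_)
    have h1 := congrFun (congrFun hl a) b
    have h2 := congrFun (congrFun hl i) i
    simp only [suEmb_coe, Matrix.map_apply, Matrix.smul_apply, Matrix.one_apply_eq, smul_eq_mul, mul_one] at h1 h2
    rw [Matrix.scalar_apply]
    by_cases hab : a = b
    · subst hab
      rw [Matrix.diagonal_apply_eq, h2, h1]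
      simp
    · rw [Matrix.diagonal_apply_ne _ hab, map_zero, h1, Matrix.one_apply_ne hab, mul_zero]
  · intro hs
    obtain ⟨c, hc⟩ := suVal_scalar_of_mem_center hF₀ hs
    refine ⟨j c, ?_⟩
    rw [suEmb_coe, hc, Matrix.scalar_apply, Matrix.diagonal_map (map_zero j), Matrix.smul_one_eq_diagonal]

theorem P0_ne_bot (hn : 3 ≤ n) : P0U (n := n) (q := q) (gmap σ) ≠ ⊥ := by
  intro h
  have hc : Subgroup.center (SU n F₀ q₀) = ⊤ := by
    rw [← subHom_ker hF hF₀ j hj hjq]
    exact eq_top_iff.2 fun s _ => MonoidHom.mem_ker.2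
      (Subtype.ext (Subgroup.mem_bot.1 (h ▸ (subHom hF hF₀ j hj hjq s).2)))
  obtain ⟨e, he0, he⟩ := exists_isotropic hF₀ (show 2 ≤ n by omega)
  obtain ⟨t, ht⟩ : ∃ t : F₀, qFrob hF₀ t ≠ t := by
    by_contra! hcon
    exact qFrob_ne_id hF₀ (RingHom.ext hcon)
  set c := t - qFrob hF₀ t
  have hc0 : c ≠ 0 := sub_ne_zero.2 (Ne.symm ht)
  have hcc : c + qFrob hF₀ c = 0 := by simp only [c, map_sub, qFrob_qFrob]; ring
  set s := eSU hF₀ (eOK_transvection hF₀ he hcc)
  obtain ⟨l, hl⟩ := suVal_scalar_of_mem_center hF₀ (show s ∈ Subgroup.center (SU n F₀ q₀) from hc ▸ Subgroup.mem_top s)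
  obtain ⟨f, P⟩ := exists_pair hF₀ he0 he
  rw [suVal_eSU] at hl
  obtain ⟨x, hx1, hx2⟩ := exists_sep hF₀ (v := e) (w := f) fun ⟨a, ha⟩ =>
    Fus.UnitTv.h_ne_of_pair hF₀ P.ef P.ff ⟨a, ha⟩
  have h1 := tv_apply' hF₀ e c x
  have h2 := tv_apply' hF₀ e c e
  rw [hl, he, mul_zero, zero_smul, add_zero] at h2
  rw [hl, hx1, mul_one] at h1
  have hl1 : l = 1 := by
    obtain ⟨i, hi⟩ := Function.ne_iff.1 he0
    have := congrFun h2 i
    simp [Matrix.scalar_apply, Matrix.mulVec_diagonal] at this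
    exact mul_right_cancel₀ hi (this.trans (one_mul _).symm)
  rw [hl1, map_one, Matrix.one_mulVec, left_eq_add, smul_eq_zero] at h1
  exact h1.elim hc0 he0

theorem cent_field (hn : 3 ≤ n) (hs : ¬(n = 3 ∧ q = 2)) (β : MulAut PS)
    (hfix : ∀ u ∈ P0U (gmap σ), β u = u) :
    β ∈ Subgroup.zpowers (psuSemi (1 : GU n F q) σ : MulAut PS) := by
  classical
  obtain ⟨g, τ, rfl⟩ := exists_param hF hn hs β
  set G : Mn := ((g : GI) : Mn) with hG
  let S : Set F₀ := {a | a * qFrob hF₀ a = -1}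
  obtain ⟨t, ht⟩ : ∃ t : F₀, qFrob hF₀ t ≠ t := by
    by_contra! hcon
    exact qFrob_ne_id hF₀ (RingHom.ext hcon)
  set c₀ := t - qFrob hF₀ t
  have hc0 : c₀ ≠ 0 := sub_ne_zero.2 (Ne.symm ht)
  have hcc : c₀ + qFrob hF₀ c₀ = 0 := by simp only [c₀, map_sub, qFrob_qFrob]; ring
  have hjc : ∀ a, qFrob hF (j a) = j (qFrob hF₀ a) := fun a => by rw [qFrob_apply, qFrob_apply, hjq]
  have hσj : ∀ a, σ (j a) = j a := fun a => (hj _).2 ⟨a, rfl⟩
  have hpair : ∀ i l : Fin n, i ≠ l → ∀ a ∈ S, ∀ k,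
      G k i + G k l * τ (j a) = (if k = i then 1 else if k = l then j a else 0) * (G i i + G i l * τ (j a)) := by
    intro i l hil a ha
    set v : Fin n → F := Pi.single i 1 + Pi.single l (j a) with hv
    have hvv : hermForm n F q v v = 0 := by
      rw [hermForm_eq_dotProduct hF,
        show (fun k => qFrob hF (v k)) = Pi.single i 1 + Pi.single l (qFrob hF (j a)) from funext fun k => by
          simp only [hv, Pi.add_apply, map_add]
          rcases eq_or_ne k i with rfl | hki <;> rcases eq_or_ne k l with rfl | hkl <;> simp_all]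
      simp only [hv, add_dotProduct, dotProduct_add, single_dotProduct, Pi.single_eq_same,
        Pi.single_eq_of_ne hil, Pi.single_eq_of_ne hil.symm, one_mul, mul_zero, add_zero, zero_add]
      rw [hjc, ← map_mul, show a * qFrob hF₀ a = -1 from ha, map_neg, map_one, add_neg_cancel]
    have hcF : j c₀ + qFrob hF (j c₀) = 0 := by rw [hjc, ← map_add, hcc, map_zero]
    set s := eSU hF (eOK_transvection hF hvv hcF) with hs
    set w : Fin n → F := fun k => v k ^ q with hw
    have hsv : suVal s = 1 + j c₀ • vecMulVec v w := by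
      rw [hs, suVal_eSU, ← Fus.UnitTv.ut_eq hF, unitaryTransvection]
    have hσv : ∀ k, σ (v k) = v k := fun k => by
      simp only [hv, Pi.add_apply, map_add]
      rcases eq_or_ne k i with rfl | hki <;> rcases eq_or_ne k l with rfl | hkl <;> simp_all
    have hsm : s ∈ FixU (gmap σ) := mem_fix_field.2 (by
      rw [hsv]
      ext x y
      simp only [Matrix.map_apply, Matrix.add_apply, Matrix.smul_apply, Matrix.vecMulVec_apply, map_add,
        smul_eq_mul, map_mul, hσj, hσv, hw, map_pow]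
      rcases eq_or_ne x y with rfl | hxy <;> simp_all)
    obtain ⟨e, he⟩ := semi_fix hF (by omega) (hfix _ ⟨s, hsm, rfl⟩)
    have hwv : w ⬝ᵥ v = 0 := by
      rw [← hvv, hw]
      simp [hermForm, dotProduct, mul_comm]
    set N : Mn := j c₀ • vecMulVec v w with hN
    have hNN : N * N = 0 := by
      rw [hN, Matrix.smul_mul, Matrix.mul_smul, Matrix.vecMulVec_mul_vecMulVec, hwv]; simp
    have hwi : w i = 1 := by simp [hw, hv, hil]
    have hN0 : N ≠ 0 := fun e0 => by
      have := congrFun (congrFun e0 i) i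
      simp [hN, Matrix.vecMulVec_apply, hwi, hv, hil] at this
      exact hc0 this
    have h1 := PSLBal.unip (g := (g : GI)) (N := N) (N' := N.map τ) (c := e) hNN
      (by rw [← Matrix.map_mul, hNN, Matrix.map_zero τ (map_zero τ)]) hN0 (by
        rw [hsv, Matrix.map_add τ (map_add τ), Matrix.map_one τ (map_zero τ) (map_one τ)] at he
        exact he)
    have hNm : N.map τ = τ (j c₀) • vecMulVec (τ ∘ v) (τ ∘ w) := by
      ext x y; simp [hN, Matrix.vecMulVec_apply]
    rw [hNm, hN, Matrix.mul_smul, Matrix.smul_mul, Matrix.mul_vecMulVec, Matrix.vecMulVec_mul] at h1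
    have hGv : ∀ k, (G *ᵥ (τ ∘ v)) k = G k i + G k l * τ (j a) := fun k => by
      rw [show (τ : F → F) ∘ v = Pi.single i 1 + Pi.single l (τ (j a)) from funext fun x => by
        simp only [hv, Function.comp_apply, Pi.add_apply, map_add]
        rcases eq_or_ne x i with rfl | hxi <;> rcases eq_or_ne x l with rfl | hxl <;> simp_all,
        Matrix.mulVec_add, Matrix.mulVec_single, Matrix.mulVec_single]
      simp [mul_comm]
    have h2 : ∀ k, τ (j c₀) * (G *ᵥ (τ ∘ v)) k = j c₀ * (v k * (w ᵥ* G) i) := fun k => by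
      have := congrFun (congrFun h1 k) i
      simpa [Matrix.vecMulVec_apply, hwi, hG] using this
    have hvi : v i = 1 := by simp [hv, hil]
    intro k
    have hvk : v k = if k = i then 1 else if k = l then j a else 0 := by
      simp only [hv, Pi.add_apply]
      rcases eq_or_ne k i with rfl | hki <;> rcases eq_or_ne k l with rfl | hkl <;> simp_all
    rw [← hGv, ← hGv, ← hvk]
    refine mul_left_cancel₀ (show τ (j c₀) ≠ 0 by simpa using hc0) ?_
    rw [h2 k, mul_left_comm (τ (j c₀)) (v k), h2 i, hvi]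
    ring
  -- the size of `S`
  have hScard : q₀ + 1 ≤ Nat.card S := by
    obtain ⟨a₀, ha₀⟩ := exists_norm hF₀ (a := -1) (by simp)
    have ha00 : a₀ ≠ 0 := fun h0 => by simp [h0] at ha₀
    rw [← UnitDiagonalOut.natCard_normOne hF₀]
    refine Nat.card_le_card_of_injective (fun z : normOne F₀ q₀ => (⟨a₀ * ((z : F₀ˣ) : F₀), ?_⟩ : S))
      fun z z' e => Subtype.ext (Units.ext (mul_left_cancel₀ ha00 (congrArg Subtype.val e)))
    show _ * qFrob hF₀ _ = (-1 : F₀)
    have hz : ((z : F₀ˣ) : F₀) * qFrob hF₀ ((z : F₀ˣ) : F₀) = 1 := by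
      have := congrArg Units.val (show (z : F₀ˣ) ^ (q₀ + 1) = 1 from z.2)
      rw [Units.val_pow_eq_pow_val, Units.val_one, pow_succ'] at this
      rw [qFrob_apply]; exact this
    rw [map_mul, mul_mul_mul_comm, ha₀, hz, mul_one]
  have hq₀ := two_le_q hF₀
  obtain ⟨a, b, hab⟩ : ∃ a b : S, a ≠ b := by
    haveI : Finite S := Subtype.finite
    haveI : Nontrivial S := Finite.one_lt_card_iff_nontrivial.1 (by omega)
    exact exists_pair_ne S
  have hthird : ∀ k l : Fin n, ∃ i, i ≠ k ∧ i ≠ l := fun k l => by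
    by_contra! hcon
    have hsub : (Finset.univ : Finset (Fin n)) ⊆ {k, l} := fun i _ => by
      rcases eq_or_ne i k with h | h
      · simp [h]
      · simp [hcon i h]
    have := (Finset.card_le_card hsub).trans Finset.card_le_two
    simp at this
    omega
  have hoff : ∀ k l, k ≠ l → G k l = 0 := fun k l hkl => by
    obtain ⟨i, hik, hil⟩ := hthird k l
    have ea := hpair i l hil a a.2 k
    have eb := hpair i l hil b b.2 k
    rw [if_neg (Ne.symm hik), if_neg hkl, zero_mul] at ea eb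
    have : G k l * (τ (j a) - τ (j b)) = 0 := by linear_combination ea - eb
    refine (mul_eq_zero.1 this).resolve_right (sub_ne_zero.2 fun e => hab (Subtype.ext ?_))
    exact j.injective (τ.injective e)
  have hd0 : ∀ k, G k k ≠ 0 := fun k h0 => (g : GI).det_ne_zero (Matrix.det_eq_zero_of_row_eq_zero k fun l => by
    by_cases h : k = l
    · exact h ▸ h0
    · exact hoff k l h)
  have hrel : ∀ i l, i ≠ l → ∀ x ∈ S, G l l * τ (j x) = j x * G i i := fun i l hil x hx => by
    have h := hpair i l hil x hx l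
    rw [if_neg hil.symm, if_pos rfl, hoff l i hil.symm, hoff i l hil, zero_add, zero_mul, add_zero] at h
    exact h
  have ha0 : (a : F₀) ≠ 0 := fun h0 => by
    have := a.2
    simp [S, h0] at this
  have heq : ∀ k l, G k k = G l l := fun k l => by
    rcases eq_or_ne k l with rfl | hkl
    · rfl
    obtain ⟨i, hik, hil⟩ := hthird k l
    refine mul_right_cancel₀ (show τ (j a) ≠ 0 by simpa using ha0) ?_
    rw [hrel i k hik a a.2, hrel i l hil a a.2]
  set i₀ : Fin n := ⟨0, by omega⟩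
  set i₁ : Fin n := ⟨1, by omega⟩
  have hτS : ∀ x ∈ S, τ (j x) = j x := fun x hx => by
    have := hrel i₀ i₁ (by simp [i₀, i₁]) x hx
    rw [heq i₁ i₀, mul_comm (j x)] at this
    exact mul_left_cancel₀ (hd0 i₀) this
  let T : Subfield F₀ := RingHom.eqLocusField (τ.toRingHom.comp j) j
  have hT : ∀ x, x ∈ T := by
    have hle : q₀ + 1 ≤ Nat.card T :=
      hScard.trans (Nat.card_le_card_of_injective (fun x : S => (⟨x, hτS x x.2⟩ : T))
        fun x y e => Subtype.ext (congrArg Subtype.val e :))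
    have hpow := Module.natCard_eq_pow_finrank (K := T) (V := F₀)
    intro x
    by_contra hx
    have hlt : Nat.card T < Nat.card F₀ := by
      rw [Nat.card_eq_fintype_card, Nat.card_eq_fintype_card]
      exact Fintype.card_lt_of_injective_of_notMem (b := x) Subtype.val Subtype.val_injective
        fun ⟨y, hy⟩ => hx (hy ▸ y.2)
    have hm : 2 ≤ Module.finrank T F₀ := by
      by_contra hm
      interval_cases hm' : Module.finrank T F₀
      · have := Finite.one_lt_card (α := F₀)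
        rw [pow_zero] at hpow; omega
      · rw [pow_one] at hpow; omega
    have h1 : (q₀ + 1) ^ 2 ≤ Nat.card F₀ := by
      rw [hpow]
      exact (Nat.pow_le_pow_left hle 2).trans (Nat.pow_le_pow_right (by omega) hm)
    rw [Nat.card_eq_fintype_card, hF₀] at h1
    nlinarith
  haveI : Finite (RingAut F) := Finite.of_injective (fun φ => (φ : F → F)) DFunLike.coe_injective
  obtain ⟨k, hk'⟩ := (isOfFinOrder_of_finite σ).mem_powers_iff_mem_zpowers.2 (PSpAut.zpowers_of_fix j hj τ hT)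
  have hk : σ ^ k = τ := hk'
  refine Subgroup.mem_zpowers_iff.2 ⟨(k : ℤ), ?_⟩
  rw [zpow_natCast, pow_semi, hk]
  refine (semi_eq_iff hF hn).2 ⟨(Units.mk0 _ (hd0 i₀))⁻¹, ?_⟩
  rw [OneMemClass.coe_one, map_inv, eq_inv_mul_iff_mul_eq, mul_one]
  exact (Units.ext ((Commutant.scalar_of (g := (g : GI)) hoff fun k => heq k i₀).trans
    (sc_coe (Units.mk0 _ (hd0 i₀))).symm) : (g : GI) = Sc (Units.mk0 _ (hd0 i₀))).symm

theorem div_field (hn : 3 ≤ n) {r : ℕ} (hr : r.Prime) (s : SUn) (hord : orderOf (π s) = r)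
    (hs : (psuSemi (1 : GU n F q) σ : MulAut PS) (π s) = π s) :
    r ∣ Nat.card (P0U (n := n) (q := q) (gmap σ)) := by
  classical
  haveI : Fact r.Prime := ⟨hr⟩
  set ψ := subHom (n := n) hF hF₀ j hj hjq
  have helem : ∀ u : SU n F₀ q₀, u ^ r = 1 → u ∉ Subgroup.center (SU n F₀ q₀) →
      r ∣ Nat.card (P0U (n := n) (q := q) (gmap σ)) := fun u h1 h2 => by
    rw [← orderOf_eq_prime (x := ψ u) (p := r) (by rw [← map_pow, h1, map_one])
      fun e => h2 (subHom_ker hF hF₀ j hj hjq ▸ MonoidHom.mem_ker.2 e)]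
    exact orderOf_dvd_natCard _
  by_cases hK : r ∣ q₀ + 1
  · obtain ⟨t, ht⟩ := exists_prime_orderOf_dvd_card' r (hK.trans (UnitDiagonalOut.natCard_normOne hF₀).symm.dvd)
    have htr : t ^ r = 1 := ht ▸ pow_orderOf_eq_one t
    set i : Fin n := ⟨0, by omega⟩
    set l : Fin n := ⟨1, by omega⟩
    set m : Fin n := ⟨2, by omega⟩
    have hil : i ≠ l := by simp [i, l]
    have him : m ≠ i := by simp [m, i]
    have hlm : m ≠ l := by simp [m, l]
    let d : Fin n → normOne F₀ q₀ := fun k => if k = i then t else if k = l then t⁻¹ else 1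
    have hdet : (guVal (guDiag hF₀ d)).det = 1 := by
      rw [guVal_guDiag, Matrix.det_diagonal, Finset.prod_eq_mul i l hil]
      · simp only [d, if_pos, if_neg hil.symm]
        rw [← Units.val_mul, ← Subgroup.coe_mul, mul_inv_cancel]; rfl
      · intro k _ hk; simp [d, hk.1, hk.2]
      · simp
      · simp
    let u : SU n F₀ q₀ := ⟨⟨guVal (guDiag hF₀ d), hdet⟩, (guDiag hF₀ d).2⟩
    refine helem u ?_ fun hu => ?_
    · refine suVal_ext ?_
      rw [suVal_pow]
      show (guVal (guDiag hF₀ d)) ^ r = 1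
      rw [guVal_guDiag, Matrix.diagonal_pow, ← Matrix.diagonal_one]
      congr 1
      funext k
      simp only [Pi.pow_apply]
      have hk : (d k) ^ r = 1 := by
        simp only [d]; split_ifs
        · exact htr
        · rw [inv_pow, htr, inv_one]
        · exact one_pow r
      have := congrArg (fun z : normOne F₀ q₀ => ((z : F₀ˣ) : F₀)) hk
      simpa using this
    · obtain ⟨c, hc⟩ := suVal_scalar_of_mem_center hF₀ hu
      have h1 := congrFun (congrFun hc i) i
      have h2 := congrFun (congrFun hc m) m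
      simp [u, guVal_guDiag, d, him, hlm] at h1 h2
      have ht1 : t = 1 := Subtype.ext (Units.ext (h1.trans h2.symm))
      rw [ht1, orderOf_one] at ht
      exact hr.ne_one ht.symm
  rw [psuSemi_mk] at hs
  obtain ⟨c, hc⟩ := pi_eq_gl hF (by omega) hs
  have hc' : gmap σ ((suToGU s : GU n F q) : GI) = Sc c * ((suToGU s : GU n F q) : GI) := by
    refine Eq.trans ?_ hc
    refine Units.ext ?_
    show (suVal s).map σ = suVal (suSemi 1 σ s)
    simp [suSemi_coe]
  obtain ⟨μ, k, hk⟩ := exists_of_fixed hF hF₀ j hj hjq (by omega) hc'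
  have hΨ : orderOf (inndiagHom n F q (guEmb hF hF₀ j hjq k)) = r := by
    have e : inndiagHom n F q (suToGU s) = inndiagHom n F q (guEmb hF hF₀ j hjq k) :=
      (semi_eq_iff hF hn).2 ⟨μ, hk⟩
    rw [← e, inndiagHom_apply, ← conj_eq_psuSemi, orderOf_injective _ (conj_injective hF hn) (π s), hord]
  have hGU : r ∣ Nat.card (GU n F₀ q₀) :=
    hΨ ▸ (orderOf_map_dvd ((inndiagHom n F q).comp (guEmb hF hF₀ j hjq)) k).trans (orderOf_dvd_natCard k)
  rw [natCard_GU_eq_SU hF₀ (by omega), hr.dvd_mul] at hGU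
  obtain ⟨u, hu⟩ := exists_prime_orderOf_dvd_card' r (hGU.resolve_left hK)
  refine helem u (hu ▸ pow_orderOf_eq_one u) fun hz => hK ?_
  have h1 : orderOf u ∣ Nat.card (Subgroup.center (SU n F₀ q₀)) := by
    rw [← Subgroup.orderOf_mk u hz]; exact orderOf_dvd_natCard _
  rw [hu, natCard_center_SU hF₀ (by omega)] at h1
  exact h1.trans (Nat.gcd_dvd_right _ _)

theorem non_field (hn : 3 ≤ n) {r : ℕ} (hr : r.Prime) {p : ℕ} [Fact p.Prime] [CharP F p] (hrp : r ≠ p)
    (hd : r ∣ Nat.card (P0U (n := n) (q := q) (gmap σ))) (M : Subgroup (P0U (n := n) (q := q) (gmap σ)))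
    (hM : M.Normal) (hc : (Nat.card M).Coprime r) : M = ⊥ := by
  set ψ := subHom (n := n) hF hF₀ j hj hjq
  have hψ := subHom_surjective (n := n) hF hF₀ j hj hjq
  by_cases h32 : n = 3 ∧ q₀ = 2
  swap
  · haveI := Fus.UnitTv.isSimpleGroup_psu hF₀ hn h32
    exact PSLBal.coprime_normal_bot ψ hψ _ (subHom_ker hF hF₀ j hj hjq).ge hr hd M hM hc
  obtain ⟨rfl, rfl⟩ := h32
  let e : P0U (n := 3) (q := q) (gmap σ) ≃* PSU 3 F₀ 2 :=
    ((QuotientGroup.quotientMulEquivOfEq (subHom_ker hF hF₀ j hj hjq).symm).trans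
      (QuotientGroup.quotientKerEquivOfSurjective ψ hψ)).symm
  obtain ⟨π4, hπ4⟩ := Spor.SU32.model (F := F₀) (by rw [hF₀]; norm_num)
  let E : P0U (n := 3) (q := q) (gmap σ) ≃* PSU 3 Spor.SU32.F4 2 := e.trans (MulEquiv.ofBijective π4 hπ4)
  have hp2 : p = 2 := by
    have hch : ringChar F₀ = 2 := by
      obtain ⟨a, ha, he⟩ := FiniteField.card F₀ (ringChar F₀)
      have h4 : Fintype.card F₀ = 2 ^ 2 := hF₀
      exact (Nat.prime_dvd_prime_iff_eq ha Nat.prime_two).1
        (ha.dvd_of_dvd_pow (h4 ▸ he ▸ dvd_pow_self _ a.ne_zero))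
    haveI : CharP F₀ p := j.charP j.injective p
    exact (ringChar.eq F₀ p).symm.trans hch
  have hr3 : r = 3 := by
    rw [Nat.card_congr E.toEquiv, Spor.SU32.card_PSU, show 72 = 2 ^ 3 * 3 ^ 2 by norm_num, hr.dvd_mul] at hd
    rcases hd with h | h
    · exact absurd (((Nat.prime_dvd_prime_iff_eq hr Nat.prime_two).1 (hr.dvd_of_dvd_pow h)).trans hp2.symm) hrp
    · exact (Nat.prime_dvd_prime_iff_eq hr Nat.prime_three).1 (hr.dvd_of_dvd_pow h)
  subst hr3
  have h := threeTwo_core (M.map E.toMonoidHom) (hM.map _ E.surjective) (by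
    rwa [Subgroup.card_map_of_injective (f := E.toMonoidHom) E.injective])
  exact (Subgroup.map_eq_bot_iff_of_injective (f := E.toMonoidHom) _ E.injective).1 h

theorem balance_field (hn : 3 ≤ n) (hs : ¬(n = 3 ∧ q = 2)) {A : Subgroup (MulAut PS)}
    (hinn : ∀ k : PS, MulAut.conj k ∈ A) {p : ℕ} [Fact p.Prime] [CharP F p] {r : ℕ} [Fact r.Prime] (hrp : r ≠ p)
    {x a : MulAut PS} (hx : x = a * psuSemi (1 : GU n F q) σ * a⁻¹) (hord : orderOf x = r)
    (hnot : ¬ IsInnerDiagonalAutPSU x) :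
    pPrimeCore r ↥(A ⊓ Subgroup.centralizer {x}) ≠ ⊥ ↔
      Nat.Coprime r (Nat.card ↥(MonoidHom.eqLocus x.toMonoidHom (MonoidHom.id PS))) :=
  balance_act hF hn hinn (act_field σ) hx hord hnot (P0_ne_bot hF hF₀ j hj hjq hn)
    (fun β hβ => cent_field hF hF₀ j hj hjq hn hs β hβ)
    (fun s h1 h2 => div_field hF hF₀ j hj hjq hn Fact.out s h1 h2)
    (fun hd M hM hc => non_field hF hF₀ j hj hjq hn Fact.out hrp hd M hM hc)

end Cfsg.Agent.Classical.PSUBal
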