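import Cfsg.Agent.Lib.Classical.UnitLocalBalance
import Cfsg.Agent.Lib.Classical.PSLLocalBalanceGraph
import Cfsg.Agent.Lib.Classical.PSUGraphClasses

/-!
Local balance in almost simple groups with socle `PSU_n(q)`: graph automorphisms.
-/

set_option autoImplicit false
set_option linter.unusedSectionVars false
set_option maxHeartbeats 400000

namespace Cfsg.Agent.Classical.PSLBal

open Matrix Cfsg.Agent.Classical.PSLAut Cfsg.Agent.Classical.Descent Cfsg.Agent.Classical.FormSim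

/-- A standard form with the properties needed for local balance. -/
theorem exists_std {E K : Type*} [Field E] [Fintype E] [Field K] [Fintype K] {n : ℕ} (f : E →+* K) (hn : 3 ≤ n)
    (h2 : (2 : E) ≠ 0) {M : Matrix (Fin n) (Fin n) E} (hd : M.det ≠ 0) (hsym : Mᵀ = M ∨ Mᵀ = -M) :
    ∃ g₁ : GL (Fin n) E, Similar ((g₁⁻¹ : GL (Fin n) E) : Matrix (Fin n) (Fin n) E) M ∧
      (((g₁⁻¹ : GL (Fin n) E) : Matrix (Fin n) (Fin n) E)ᵀ = ((g₁⁻¹ : GL (Fin n) E) : Matrix (Fin n) (Fin n) E) ∨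
        ((g₁⁻¹ : GL (Fin n) E) : Matrix (Fin n) (Fin n) E)ᵀ = -((g₁⁻¹ : GL (Fin n) E) : Matrix (Fin n) (Fin n) E)) ∧
      2 ∣ Nat.card (P0 (thetaG g₁)) ∧
      (∀ (g' : GL (Fin n) K) (τ : RingAut K), (∀ s : Matrix.SpecialLinearGroup (Fin n) E, s ∈ FixS (thetaG g₁) →
          Commutant.Comm τ g' ((s : Matrix (Fin n) (Fin n) E).map f)) →
        (∀ a, τ (f a) = f a) ∧ ∃ μ : Kˣ, g' = Matrix.GeneralLinearGroup.scalar (Fin n) μ) ∧
      ∀ L : Subgroup (P0 (thetaG g₁)), L.Normal → (Nat.card L).Coprime 2 → L = ⊥ := by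
  classical
  by_cases hS : Mᵀ = M
  · set k₀ : Fin n := ⟨0, by omega⟩
    let d : Fin n → E := fun i => if i = k₀ then M.det else 1
    have hd0 : ∀ i, d i ≠ 0 := fun i => by simp only [d]; split_ifs; exacts [hd, one_ne_zero]
    have hdet : (diagonal d).det = M.det := by
      rw [Matrix.det_diagonal, Finset.prod_eq_single k₀]
      · simp [d]
      · intro b _ hb; simp [d, hb]
      · simp
    obtain ⟨g₀, hg₀⟩ : ∃ g₀ : GL (Fin n) E, (g₀ : Matrix (Fin n) (Fin n) E) = diagonal d :=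
      (Matrix.isUnit_iff_isUnit_det _).2 (IsUnit.mk0 _ (hdet.trans_ne hd))
    have hg₁ : ((g₀⁻¹ : GL (Fin n) E) : Matrix (Fin n) (Fin n) E) = diagonal fun i => (d i)⁻¹ :=
      Units.inv_eq_of_mul_eq_one_right (by
        rw [hg₀, Matrix.diagonal_mul_diagonal, ← Matrix.diagonal_one]
        congr 1; funext i; exact mul_inv_cancel₀ (hd0 i))
    have hd0' : ∀ i, (d i)⁻¹ ≠ 0 := fun i => inv_ne_zero (hd0 i)
    have hd1 : ∀ i, i ≠ k₀ → (d i)⁻¹ = 1 := fun i hi => by simp [d, hi]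
    refine ⟨g₀⁻¹, ?_, ?_, dvd_sym hg₁ hn h2, fun g' τ h => key_sym_gen hg₁ hd1 f hn h2 hd0' g' τ h,
      non_sym hg₁ hn h2 hd0'⟩
    · rw [inv_inv, hg₀]
      exact similar_of_det h2 (Matrix.diagonal_transpose _) hS (by rw [hdet]; exact hd) hd rfl
        ⟨M.det, by rw [hdet]⟩
    · rw [inv_inv, hg₀]
      exact Or.inl (Matrix.diagonal_transpose _)
  · have hA : Mᵀ = -M := hsym.resolve_left hS
    obtain ⟨m, hm⟩ : ∃ m, n = 2 * m := by
      rcases Nat.even_or_odd n with ⟨m, hm⟩ | hodd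
      · exact ⟨m, by omega⟩
      · exfalso
        have h1 := congrArg Matrix.det hA
        rw [Matrix.det_transpose, Matrix.det_neg, Fintype.card_fin, hodd.neg_one_pow] at h1
        exact hd ((mul_eq_zero.1 (show (2 : E) * M.det = 0 by linear_combination h1)).resolve_left h2)
    let e : Fin n ≃ Fin m ⊕ Fin m := (Fintype.equivFinOfCardEq (by simp; omega)).symm
    obtain ⟨g₁, hg₁⟩ : ∃ g₁ : GL (Fin n) E, (g₁ : Matrix (Fin n) (Fin n) E) = (Matrix.J (Fin m) E).submatrix e e :=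
      (Matrix.isUnit_iff_isUnit_det _).2 (by
        rw [Matrix.det_submatrix_equiv_self]; exact Matrix.isUnit_det_J (Fin m) E)
    have hinv : ((g₁⁻¹ : GL (Fin n) E) : Matrix (Fin n) (Fin n) E) = (-1 : E) • (g₁ : Matrix (Fin n) (Fin n) E) :=
      Units.inv_eq_of_mul_eq_one_right (by
        rw [hg₁, Matrix.mul_smul, Matrix.submatrix_mul_equiv, Matrix.J_squared]
        ext a b
        by_cases hab : a = b <;> simp [Matrix.one_apply, hab, e.injective.eq_iff])
    have hgT : (g₁ : Matrix (Fin n) (Fin n) E)ᵀ = -(g₁ : Matrix (Fin n) (Fin n) E) := by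
      rw [hg₁, Matrix.transpose_submatrix, Matrix.J_transpose]; rfl
    obtain ⟨hdiv, hnon⟩ := non_alt (g := g₁) hn h2 e hg₁
    refine ⟨g₁, ?_, ?_, hdiv, fun g' τ h => key_alt_gen hgT f hn h2 g' τ h, hnon⟩
    · rw [hinv]
      refine (similar_smul _ (neg_ne_zero.2 one_ne_zero)).trans ?_
      rw [hg₁]
      exact (similar_reindex (Matrix.J (Fin m) E) e).symm.trans
        (similar_J M (by rw [Fintype.card_fin, hm]) hd (bf_self_zero_of_skew h2 hA)).symm
    · rw [hinv, Matrix.transpose_smul, hgT, smul_neg]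
      exact Or.inr rfl

end Cfsg.Agent.Classical.PSLBal

namespace Cfsg.Agent.Classical.PSUBal

open Matrix Cfsg.Agent.Classical Cfsg.Agent.Classical.Descent Cfsg.Agent.Classical.PSUAut

variable {F : Type*} [Field F] [Fintype F] {q n : ℕ} (hF : Fintype.card F = q ^ 2)

local notation "Mn" => Matrix (Fin n) (Fin n) F
local notation "GI" => GL (Fin n) F
local notation "SUn" => SU n F q
local notation "PS" => PSU n F q
local notation "π" => suToPSU n F q
local notation "Sc" => Matrix.GeneralLinearGroup.scalar (Fin n)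

omit [Fintype F] in
theorem congr_inv {E : Type*} [Field E] (G : GL (Fin n) E) (k : Matrix (Fin n) (Fin n) E) :
    kᵀ * ((G⁻¹ : GL (Fin n) E) : Matrix (Fin n) (Fin n) E) * k = ((G⁻¹ : GL (Fin n) E) : Matrix (Fin n) (Fin n) E) ↔
      k * (G : Matrix (Fin n) (Fin n) E) * kᵀ = (G : Matrix (Fin n) (Fin n) E) := by
  constructor <;> intro h
  · have h1 : ((G : Matrix (Fin n) (Fin n) E) * kᵀ * ((G⁻¹ : GL (Fin n) E) : Matrix (Fin n) (Fin n) E)) * k = 1 := by
      rw [Matrix.mul_assoc, Matrix.mul_assoc, ← Matrix.mul_assoc kᵀ, h, Units.mul_inv]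
    have h3 := congrArg (· * (G : Matrix (Fin n) (Fin n) E)) (mul_eq_one_comm.1 h1)
    simp only [Matrix.mul_assoc, Units.inv_mul, Matrix.one_mul, Matrix.mul_one] at h3
    rwa [Matrix.mul_assoc]
  · have h1 : k * ((G : Matrix (Fin n) (Fin n) E) * kᵀ * ((G⁻¹ : GL (Fin n) E) : Matrix (Fin n) (Fin n) E)) = 1 := by
      rw [← Matrix.mul_assoc, ← Matrix.mul_assoc, h, Units.mul_inv]
    have h3 := congrArg (((G⁻¹ : GL (Fin n) E) : Matrix (Fin n) (Fin n) E) * ·) (mul_eq_one_comm.1 h1)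
    simp only [← Matrix.mul_assoc, Units.inv_mul, Matrix.one_mul, Matrix.mul_one] at h3
    exact h3

theorem act_semi (g : GU n F q) (σ : RingAut F) :
    Act (psuSemi g σ : MulAut PS) ((MulAut.conj (g : GI)).toMonoidHom.comp (gmap σ)) := fun s =>
  ⟨suSemi g σ s, Units.ext rfl, rfl⟩

include hF

theorem balance_graph (hn : 3 ≤ n) (hs : ¬(n = 3 ∧ q = 2)) (h2 : (2 : F) ≠ 0) {σ : RingAut F}
    (hσ : orderOf σ = 2) {g : GU n F q} {A : Subgroup (MulAut PS)} (hinn : ∀ k : PS, MulAut.conj k ∈ A)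
    (hord : orderOf (psuSemi g σ : MulAut PS) = 2) (hnot : ¬ IsInnerDiagonalAutPSU (psuSemi g σ : MulAut PS)) :
    pPrimeCore 2 ↥(A ⊓ Subgroup.centralizer {(psuSemi g σ : MulAut PS)}) = ⊥ ∧
      ¬ Nat.Coprime 2 (Nat.card ↥(MonoidHom.eqLocus (psuSemi g σ : MulAut PS).toMonoidHom (MonoidHom.id PS))) := by
  classical
  haveI : Fact (Nat.Prime 2) := ⟨Nat.prime_two⟩
  haveI : Nonempty (Fin n) := ⟨⟨0, by omega⟩⟩
  letI : Fintype (PSLBal.fixedField σ) := Fintype.ofFinite _
  set j := (PSLBal.fixedField σ).subtype with hjdef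
  have hj : ∀ x, σ x = x ↔ x ∈ j.range := PSLBal.fixedField_hj
  have h20 : (2 : PSLBal.fixedField σ) ≠ 0 := fun h => h2 (by rw [← map_ofNat j, h, map_zero])
  obtain ⟨M₀, hr, hMd, hMs⟩ := exists_rel_GU hF hσ j hj hn g ((order_two_iff hF hn hσ g).1 hord)
  obtain ⟨g₁, hsim, hNs, hdvd, hkey, hnon⟩ := PSLBal.exists_std j hn h20 hMd hMs
  set N₀ : Matrix (Fin n) (Fin n) (PSLBal.fixedField σ) :=
    ((g₁⁻¹ : GL (Fin n) (PSLBal.fixedField σ)) : Matrix (Fin n) (Fin n) (PSLBal.fixedField σ)) with hN₀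
  obtain ⟨g', hg', -, hr'⟩ := exists_of_form hσ j hj (M₀ := N₀) (g₁⁻¹).det_ne_zero hNs
  set G : GU n F q := ⟨g', (mem_GU_iff hF hσ g').2 hg'⟩
  obtain ⟨a, -, hax⟩ := (conjUnder_iff hF hσ j hj hn (g := G) (g' := g) hr' hr).2 hsim.symm
  obtain ⟨μ, η, y, hgy, hy⟩ := hr'
  set θ : GI →* GI := (MulAut.conj (G : GI)).toMonoidHom.comp (gmap σ)
  have hθ : ∀ X : GI, θ X = g' * gmap σ X * g'⁻¹ := fun X => rfl
  set H : Mn := herm σ y with hH
  have hcomm : ∀ (t : Fˣ) (X : GI), X * Sc t = Sc t * X := fun t X => (Descent.scalar_comm t X).symm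
  have hyinj : ∀ {K : GI}, (∃ c : Fˣ, y * K * y⁻¹ = Sc c) ↔ ∃ c : Fˣ, K = Sc c := fun {K} =>
    exists_congr fun c => by rw [mul_inv_eq_iff_eq_mul, ← hcomm, mul_right_inj]
  -- the fixed points come from the isometries of `N₀`
  have hform : ∀ k : GL (Fin n) (PSLBal.fixedField σ),
      (k : Matrix (Fin n) (Fin n) (PSLBal.fixedField σ))ᵀ * N₀ * (k : Matrix (Fin n) (Fin n) (PSLBal.fixedField σ)) = N₀ ↔
        herm σ (y * Matrix.GeneralLinearGroup.map j k * y⁻¹) = 1 := by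
    intro k
    set K : GI := Matrix.GeneralLinearGroup.map j k
    have h1 : herm σ (y * K) = H ↔ herm σ (y * K * y⁻¹) = 1 := by
      constructor <;> intro h
      · rw [herm_mul, h, hH, ← herm_mul, mul_inv_cancel]
        simp [herm]
      · rw [show y * K = (y * K * y⁻¹) * y by group, herm_mul, h, Matrix.mul_one]
        rfl
    rw [← h1, herm_mul, ← hH]
    have hK : (K : Mn).map σ = (K : Mn) := map_map_fixed hj _
    have hKc : (K : Mn) = (k : Matrix (Fin n) (Fin n) (PSLBal.fixedField σ)).map j := rfl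
    rw [hK, hKc]
    constructor <;> intro h
    · have h3 := congrArg (fun B : Matrix (Fin n) (Fin n) (PSLBal.fixedField σ) => B.map j) h
      simp only [Matrix.map_mul, Matrix.transpose_map] at h3
      rw [hy, Matrix.mul_smul, Matrix.smul_mul] at h3
      exact smul_right_injective _ η.ne_zero h3
    · refine Matrix.map_injective j.injective ?_
      show (_ : Matrix (Fin n) (Fin n) (PSLBal.fixedField σ)).map j = N₀.map j
      rw [Matrix.map_mul, Matrix.map_mul, Matrix.transpose_map, hy, Matrix.mul_smul, Matrix.smul_mul, h]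
  have hfixK : ∀ k : GL (Fin n) (PSLBal.fixedField σ),
      θ (y * Matrix.GeneralLinearGroup.map j k * y⁻¹) = y * Matrix.GeneralLinearGroup.map j k * y⁻¹ := by
    intro k
    rw [hθ, map_mul, map_mul, map_inv, gmap_map hj, hgy]
    rw [show Sc μ * (y * (gmap σ y)⁻¹) * (gmap σ y * Matrix.GeneralLinearGroup.map j k * (gmap σ y)⁻¹) *
      (Sc μ * (y * (gmap σ y)⁻¹))⁻¹ = Sc μ * (y * Matrix.GeneralLinearGroup.map j k * y⁻¹) * (Sc μ)⁻¹ by group,
      ← hcomm, mul_inv_cancel_right]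
  have hmem : ∀ k : PSLBal.FixS (PSLBal.thetaG g₁),
      ∃ s : SUn, sGL s = y * Matrix.GeneralLinearGroup.map j (Matrix.SpecialLinearGroup.toGL k.1) * y⁻¹ ∧
        s ∈ FixU θ := by
    intro k
    set U : GI := y * Matrix.GeneralLinearGroup.map j (Matrix.SpecialLinearGroup.toGL k.1) * y⁻¹ with hU
    have hUh : herm σ U = 1 := (hform _).1 ((congr_inv g₁ _).2 (PSLBal.mem_fix_graph.1 k.2))
    have hUd : (U : Mn).det = 1 := by
      rw [hU, Units.val_mul, Units.val_mul, Matrix.det_mul, Matrix.det_mul, mul_comm (y : Mn).det, mul_assoc,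
        ← Matrix.det_mul, Units.mul_inv, Matrix.det_one, mul_one]
      show ((k.1 : Matrix (Fin n) (Fin n) (PSLBal.fixedField σ)).map j).det = 1
      rw [← RingHom.mapMatrix_apply, ← RingHom.map_det, k.1.2, map_one]
    obtain ⟨s, hs⟩ : ∃ s : SUn, sGL s = U :=
      ⟨⟨⟨(U : Mn), hUd⟩, fun u v => ((mem_GU_iff hF hσ U).2 hUh) u v⟩, Units.ext rfl⟩
    refine ⟨s, hs, ?_⟩
    rw [mem_FixU, hs]
    exact hfixK _
  choose S hS hSfix using hmem
  have hinjS : Function.Injective (sGL : SUn →* GI) := fun s t e =>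
    suVal_ext (congrArg (fun u : GI => (u : Mn)) e)
  let S' : PSLBal.FixS (PSLBal.thetaG g₁) →* SUn := MonoidHom.mk' S fun a b => hinjS (by
    rw [map_mul sGL, hS, hS, hS, Subgroup.coe_mul, map_mul, map_mul]
    group)
  set Φ : PSLBal.FixS (PSLBal.thetaG g₁) →* PS := (π).comp S' with hΦ
  have hrange : Φ.range = P0U θ := by
    refine le_antisymm ?_ ?_
    · rintro _ ⟨k, rfl⟩
      exact ⟨S k, hSfix k, rfl⟩
    · rintro _ ⟨s, hsfix, rfl⟩
      have h1 : g' * gmap σ (sGL s) * g'⁻¹ = sGL s := hsfix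
      have h3 : gmap σ (y⁻¹ * sGL s * y) = y⁻¹ * sGL s * y := by
        rw [map_mul, map_mul, map_inv]
        conv_rhs => rw [← h1, hgy]
        rw [show y⁻¹ * (Sc μ * (y * (gmap σ y)⁻¹) * gmap σ (sGL s) * (Sc μ * (y * (gmap σ y)⁻¹))⁻¹) * y =
          y⁻¹ * (Sc μ * (y * ((gmap σ y)⁻¹ * gmap σ (sGL s) * gmap σ y) * y⁻¹) * (Sc μ)⁻¹) * y by group,
          ← hcomm, mul_inv_cancel_right]
        group
      obtain ⟨k, hk⟩ := PSLAut.mem_of_gmap_fixed hj h3
      have hkU : y * Matrix.GeneralLinearGroup.map j k * y⁻¹ = sGL s := by rw [hk]; group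
      have hkd : (k : Matrix (Fin n) (Fin n) (PSLBal.fixedField σ)).det = 1 := j.injective (by
        rw [map_one, RingHom.map_det]
        show (((Matrix.GeneralLinearGroup.map j k : GI)) : Mn).det = 1
        rw [hk, Units.val_mul, Units.val_mul, Matrix.det_mul, Matrix.det_mul, mul_comm _ (sGL s : Mn).det,
          mul_assoc, ← Matrix.det_mul, Units.inv_mul, Matrix.det_one, mul_one]
        exact s.1.2)
      have hks : (⟨(k : Matrix (Fin n) (Fin n) (PSLBal.fixedField σ)), hkd⟩ :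
          Matrix.SpecialLinearGroup (Fin n) (PSLBal.fixedField σ)) ∈ PSLBal.FixS (PSLBal.thetaG g₁) :=
        PSLBal.mem_fix_graph.2 ((congr_inv g₁ _).1 ((hform k).2 (by
          rw [hkU]
          exact (mem_GU_iff hF hσ _).1 (suToGU s).2)))
      refine ⟨⟨_, hks⟩, congrArg (π) (hinjS ?_)⟩
      show sGL (S ⟨_, hks⟩) = _
      rw [hS, ← hkU]
      congr 2
      exact Units.ext rfl
  set ψ : PSLBal.FixS (PSLBal.thetaG g₁) →* Matrix.ProjectiveSpecialLinearGroup (Fin n) (PSLBal.fixedField σ) :=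
    (slToPSL n (PSLBal.fixedField σ)).comp (PSLBal.FixS (PSLBal.thetaG g₁)).subtype with hψ
  have hψr : ψ.range = PSLBal.P0 (PSLBal.thetaG g₁) := by
    rw [hψ, MonoidHom.range_comp, Subgroup.range_subtype]
    rfl
  have hkerΦ : ψ.ker = Φ.ker := by
    ext k
    show slToPSL n _ k.1 = 1 ↔ π (S k) = 1
    rw [PSLBal.pi_eq_one_iff, PSUAut.pi_eq_one_iff hF]
    set K : GI := Matrix.GeneralLinearGroup.map j (Matrix.SpecialLinearGroup.toGL k.1) with hK
    have hKc : (K : Mn) = (k.1 : Matrix (Fin n) (Fin n) (PSLBal.fixedField σ)).map j := rfl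
    have hScal : ∀ X : GI, (∃ l : F, (X : Mn) = l • 1) ↔ ∃ c : Fˣ, X = Sc c := fun X => by
      constructor
      · rintro ⟨l, hl⟩
        have hl0 : l ≠ 0 := fun h0 => X.det_ne_zero (by rw [hl, h0, zero_smul, Matrix.det_zero])
        exact ⟨Units.mk0 l hl0, Units.ext (hl.trans (sc_coe (Units.mk0 l hl0)).symm)⟩
      · rintro ⟨c, hc⟩
        exact ⟨c, by rw [hc, sc_coe]⟩
    have hR : (∃ l : F, suVal (S k) = l • 1) ↔ ∃ l : F, (K : Mn) = l • 1 := by
      rw [hScal K, ← hyinj, ← hS k, ← hScal]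
      rfl
    rw [hR]
    constructor
    · rintro ⟨c, hc⟩
      refine ⟨j c, ?_⟩
      rw [hKc, hc]
      ext a b
      by_cases hab : a = b <;> simp [hab]
    · rintro ⟨l, hl⟩
      refine ⟨(k.1 : Matrix (Fin n) (Fin n) (PSLBal.fixedField σ)) ⟨0, by omega⟩ ⟨0, by omega⟩, ?_⟩
      ext a b
      have e1 := congrFun (congrFun hl a) b
      have e2 := congrFun (congrFun hl ⟨0, by omega⟩) ⟨0, by omega⟩
      simp only [hKc, Matrix.map_apply, Matrix.smul_apply, Matrix.one_apply_eq, smul_eq_mul, mul_one] at e1 e2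
      by_cases hab : a = b
      · subst hab
        rw [Matrix.one_apply_eq, mul_one] at e1
        rw [Matrix.smul_apply, Matrix.one_apply_eq, smul_eq_mul, mul_one]
        exact congrArg Subtype.val (j.injective (e1.trans e2.symm))
      · rw [Matrix.one_apply_ne hab, mul_zero] at e1
        rw [Matrix.smul_apply, Matrix.one_apply_ne hab, smul_eq_mul, mul_zero]
        exact congrArg Subtype.val (j.injective (e1.trans (map_zero j).symm))
  let e : PSLBal.P0 (PSLBal.thetaG g₁) ≃* P0U (q := q) θ :=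
    (((MulEquiv.subgroupCongr hψr).symm.trans (QuotientGroup.quotientKerEquivRange ψ).symm).trans
      (QuotientGroup.quotientMulEquivOfEq hkerΦ)).trans
      ((QuotientGroup.quotientKerEquivRange Φ).trans (MulEquiv.subgroupCongr hrange))
  have hd2 : 2 ∣ Nat.card (P0U (q := q) θ) := by rwa [← Nat.card_congr e.toEquiv]
  have hbot : P0U (q := q) θ ≠ ⊥ := fun h => by
    rw [h, Subgroup.card_bot] at hd2
    exact absurd hd2 (by decide)
  -- automorphisms fixing `P₀`
  have hcent : ∀ β : MulAut PS, (∀ u ∈ P0U θ, β u = u) → β ∈ Subgroup.zpowers (psuSemi G σ : MulAut PS) := by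
    intro β hβ
    obtain ⟨u, τ, rfl⟩ := exists_param hF hn hs β
    set u' : GI := y⁻¹ * (u : GI) * gmap τ y with hu'
    obtain ⟨hfixj, m, hm⟩ := hkey u' τ fun k hk => by
      obtain ⟨c, hc⟩ := semi_fix hF (by omega) (hβ _ ⟨S ⟨k, hk⟩, hSfix _, rfl⟩)
      have hv : suVal (S ⟨k, hk⟩) =
          (y : Mn) * (k : Matrix (Fin n) (Fin n) (PSLBal.fixedField σ)).map j * ((y⁻¹ : GI) : Mn) := by
        rw [← sGL_coe, hS]; rfl
      rw [hv] at hc
      refine ⟨c, ?_⟩
      set K : Mn := (k : Matrix (Fin n) (Fin n) (PSLBal.fixedField σ)).map j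
      have hc' := congrArg (fun B : Mn => ((y⁻¹ : GI) : Mn) * B * ((gmap τ y : GI) : Mn)) hc
      simp only [Matrix.map_mul, Matrix.mul_smul, Matrix.smul_mul] at hc'
      rw [hu', Units.val_mul, Units.val_mul]
      have e1 : ((y⁻¹ : GI) : Mn).map τ * ((gmap τ y : GI) : Mn) = 1 := by
        rw [gmap_coe, ← Matrix.map_mul, Units.inv_mul, Matrix.map_one τ (map_zero τ) (map_one τ)]
      have e2 : ((gmap τ y : GI) : Mn) = (y : Mn).map τ := gmap_coe τ y
      simp only [Matrix.mul_assoc] at hc' ⊢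
      rw [e1, Matrix.mul_one, ← e2, ← Matrix.mul_assoc ((y⁻¹ : GI) : Mn) (y : Mn), Units.inv_mul, Matrix.one_mul] at hc'
      exact hc'
    have hu : (u : GI) = Sc m * (y * (gmap τ y)⁻¹) := by
      rw [← mul_assoc, ← hcomm, ← hm, hu']; group
    haveI : Finite (RingAut F) := Finite.of_injective (fun φ => (φ : F → F)) DFunLike.coe_injective
    obtain ⟨k, hk'⟩ := (isOfFinOrder_of_finite σ).mem_powers_iff_mem_zpowers.2
      (PSpAut.zpowers_of_fix j hj τ hfixj)
    have hk : σ ^ k = τ := hk'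
    rw [← pow_mod_orderOf, hσ] at hk
    rcases Nat.mod_two_eq_zero_or_one k with h | h <;> rw [h] at hk
    · rw [pow_zero] at hk
      subst hk
      rw [gmap_one, mul_inv_cancel, mul_one] at hu
      rw [(psuSemi_eq_one_iff' hF hn).2 ⟨rfl, m, hu⟩]
      exact one_mem _
    · rw [pow_one] at hk
      subst hk
      have h1 : (psuSemi u σ : MulAut PS) = psuSemi G σ :=
        (semi_eq_iff hF hn).2 ⟨m * μ⁻¹, show (u : GI) = Sc (m * μ⁻¹) * g' by
          rw [hu, hgy, ← mul_assoc (Sc (m * μ⁻¹)), ← map_mul, inv_mul_cancel_right]⟩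
      rw [h1]
      exact Subgroup.mem_zpowers _
  have hnonU : 2 ∣ Nat.card (P0U (q := q) θ) →
      ∀ L : Subgroup (P0U (q := q) θ), L.Normal → (Nat.card L).Coprime 2 → L = ⊥ := fun _ L hL hc => by
    have h := hnon (L.comap e.toMonoidHom) (hL.comap _) (by
      rwa [Nat.card_congr (Equiv.subtypeEquiv e.toEquiv (fun u => Iff.rfl) : L.comap e.toMonoidHom ≃ L)])
    rw [← Subgroup.map_comap_eq_self_of_surjective (f := e.toMonoidHom) e.surjective L, h, Subgroup.map_bot]
  have hiff := balance_act hF hn hinn (act_semi G σ) hax hord hnot hbot hcent (fun _ _ _ => hd2) hnonU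
  have hncop : ¬ Nat.Coprime 2
      (Nat.card ↥(MonoidHom.eqLocus (psuSemi g σ : MulAut PS).toMonoidHom (MonoidHom.id PS))) := by
    intro hcop
    have hsub : (P0U θ).map a.toMonoidHom ≤
        MonoidHom.eqLocus (psuSemi g σ : MulAut PS).toMonoidHom (MonoidHom.id PS) := by
      rintro _ ⟨u, ⟨s, hsf, rfl⟩, rfl⟩
      show (psuSemi g σ : MulAut PS) (a (π s)) = a (π s)
      rw [hax]
      show a ((psuSemi G σ : MulAut PS) ((a⁻¹ : MulAut PS) (a (π s)))) = _
      rw [show (a⁻¹ : MulAut PS) (a (π s)) = π s from a.symm_apply_apply _, psuSemi_mk]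
      congr 2
      exact hinjS ((Units.ext rfl : sGL (suSemi G σ s) = θ (sGL s)).trans hsf)
    have h1 := Subgroup.card_dvd_of_le hsub
    rw [Subgroup.card_map_of_injective (f := a.toMonoidHom) a.injective] at h1
    exact absurd (Nat.dvd_gcd dvd_rfl (hd2.trans h1)) (by rw [hcop]; decide)
  exact ⟨not_not.1 fun h => hncop (hiff.1 h), hncop⟩

end Cfsg.Agent.Classical.PSUBal
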