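import Cfsg.Agent.Lib.Classical.UnitMultEngineBase
import Cfsg.Agent.Lib.Lie.UnPresEvenTwo

/-!
A central extension of `SU_{2m}(q)` with kernel of order prime to the characteristic and generated by elements
of `p`-power order is an isomorphism.
-/

set_option autoImplicit false
set_option linter.unusedSectionVars false
set_option maxHeartbeats 1000000

namespace Cfsg.Agent.Classical.UnitMult

open Matrix Cfsg.Agent.Classical Cfsg.Agent.Classical.PSUAut Cfsg.Agent.Lie.UnPres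
open scoped commutatorElement

section General

variable {p : ℕ} {E H : Type*} [Group E] [Group H] {π : E →* H}

theorem Coprime.conj_eq (C : Coprime p π) {e x y : E} (hx : IsPElem p x) (hy : IsPElem p y)
    (h : π (e * x * e⁻¹) = π y) : e * x * e⁻¹ = y := C.lift_unique h (hx.conj e) hy

theorem Coprime.comm_eq (C : Coprime p π) {e x : E} (hx : IsPElem p x) (h : π (e * x) = π (x * e)) :
    e * x = x * e := (C.commute_of_pElem hx (by rw [map_mul, map_mul] at h; exact h)).eq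

/-- An element commuting below with two generators of a lifted group commutes with it. -/
theorem Coprime.comm_hom (C : Coprime p π) {M : Type*} [Group M]
    (hM : Subgroup.closure {g : M | IsPElem p g} = ⊤) {a b : M} (hab : Subgroup.closure ({a, b} : Set M) = ⊤)
    (f : M →* E) {e : E} (ha : π (e * f a) = π (f a * e)) (hb : π (e * f b) = π (f b * e)) (x : M) :
    e * f x = f x * e :=
  mul_inv_eq_iff_eq_mul.1 (C.conj_hom hM hab f f (by rw [map_mul, ha, map_mul, map_inv, mul_inv_cancel_right])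
    (by rw [map_mul, hb, map_mul, map_inv, mul_inv_cancel_right]) x)

end General

theorem isPElem_colE {F : Type*} [Field F] [Fintype F] {p : ℕ} [CharP F p] {k : ℕ} (r : Fin (k + 1) → F) :
    IsPElem p (colE r : SpecialLinearGroup (Fin (k + 2)) F) := by
  have key : ∀ m : ℕ, (colE r : SpecialLinearGroup (Fin (k + 2)) F) ^ m = colE (m • r) := fun m => by
    induction m with
    | zero => rw [pow_zero, zero_smul, colE_zero]
    | succ m ih => rw [pow_succ, ih, succ_nsmul, colE_add]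
  refine ⟨1, ?_⟩
  rw [pow_one, key, show p • r = 0 by funext i; simp [CharP.cast_eq_zero], colE_zero]

variable {F : Type*} [Field F] [Fintype F] {q : ℕ} {hF : Fintype.card F = q ^ 2} {k : ℕ}
  {p : ℕ} [Fact p.Prime] [CharP F p] {E : Type*} [Group E] [Finite E] {π : E →* Hgrp hF (k + 2) 0}

local notation "σ" => qFrob hF

variable {μ ω lam : F} {eps c₀ : Fˣ}

/-- The lifts of the generators and the relations of the Weyl element. -/
theorem even_setup (C : Coprime p π) (E₁ : EPar hF μ ω lam eps c₀) :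
    ∃ (j : SpecialLinearGroup (Fin (k + 2)) F →* E) (u w : E),
      (∀ A, π (j A) = lev hF 0 A) ∧ π u = T₀ hF 0 μ (Pi.single 0 1) ∧
      π w = wH hF (EPar.wok hF E₁) 0 ∧ u ∈ Usp C ∧
      w * (j (swp 1 0) * w * (j (swp 1 0))⁻¹) = j (swp 1 0) * w * (j (swp 1 0))⁻¹ * w ∧
      w = Tw j u (Pi.single 0 lam) * (w * Tw j u (Pi.single 0 lam) * w⁻¹) * Tw j u (Pi.single 0 lam) ∧
      w * j (dg c₀) * w = j (dg c₀) := by
  obtain ⟨j, hj⟩ := exists_lev_lift C
  have hU : ∀ {v : Fin (k + 2) → F}, T₀ hF 0 μ v ∈ Urad hF k 0 := fun {v} =>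
    ⟨_, _, skew_ok hF E₁.μt (vv_herm hF v), rfl⟩
  set u := C.sp (T₀ hF 0 μ (Pi.single (0 : Fin (k + 2)) 1)) with hu
  have huU : u ∈ Usp C := Usp_sp C hU
  set T := Tw j u (Pi.single 0 lam) with hT
  have hTp : IsPElem p T := Usp_pElem C (Tw_mem C hj huU _)
  set W := (wH hF (EPar.wok hF E₁) 0 : Hgrp hF (k + 2) 0) with hW
  set a := T₀ hF (m := k + 2) 0 μ (Pi.single 0 lam) with ha
  have hπT : π T = a := by
    rw [hT, Tw_map, hu, C.π_sp, show (fun A => π (j A)) = (lev hF 0 : _ → Hgrp hF (k + 2) 0) from funext hj]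
    exact Tw_skew hF E₁.μt _
  obtain ⟨w₁, hw₁⟩ := C.surj W
  set B := w₁ * T * w₁⁻¹ with hB
  have hBp : IsPElem p B := hTp.conj _
  have hπB : π B = W * a * W⁻¹ := by rw [hB, map_mul, map_mul, map_inv, hw₁, hπT]
  have hR : W = a * (W * a * W⁻¹) * a := by
    rw [ha, T₀_corner hF E₁]; exact R1_model hF (EPar.wok hF E₁)
  set w := T * B * T with hw
  have hπw : π w = W := by rw [hw, map_mul, map_mul, hπT, hπB]; exact hR.symm
  have hwT : w * T * w⁻¹ = B := C.conj_eq hTp hBp (by rw [map_mul, map_mul, map_inv, hπw, hπT, hπB])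
  refine ⟨j, u, w, hj, by rw [hu, C.π_sp], hπw, huU, ?_, by rw [hwT], ?_⟩
  · -- two commuting Weyl elements
    set w' := j (swp 1 0) * w * (j (swp 1 0))⁻¹ with hw'
    have hπw' : π w' = wH hF (EPar.wok hF E₁) 1 := by
      rw [hw', map_mul, map_mul, map_inv, hj, hπw]; exact lev_wH hF _ (swp_keep 1)
    have hcW : Commute (π w') W := by
      rw [hw', map_mul, map_mul, map_inv, hj, hπw]; exact (W1_model hF (EPar.wok hF E₁)).symm
    have hca : Commute (π w') a := by
      rw [hπw', ha, T₀_corner hF E₁, corner]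
      refine mul_inv_eq_iff_eq_mul.1 ?_
      have hok := skew_ok (ε := 0) hF E₁.μt (vv_herm hF (Pi.single (0 : Fin (k + 2)) lam))
      have e : μ • vv hF (Pi.single (0 : Fin (k + 2)) lam) = Matrix.single 0 0 (μ * (lam * σ lam)) := by
        rw [show (Pi.single 0 lam : Fin (k + 2) → F) = lam • Pi.single 0 1 by
          rw [← Pi.single_smul, smul_eq_mul, mul_one], vv_smul, vv_single_zero, smul_smul,
          Matrix.smul_single, smul_eq_mul, mul_one]
      rw [e, show μ * (lam * σ lam) = -μ⁻¹ by rw [E₁.hlam]; have := E₁.μ0; field_simp] at hok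
      rw [(wH_uH hF (EPar.wok hF E₁) hok (by rw [Matrix.mul_zero]) ?_ ?_).2, smul_zero]
      · ext x y
        rcases eq_or_ne x 1 with rfl | hx
        · simp [Pd, Matrix.diagonal_mul]
        · simp [Pd, Matrix.diagonal_mul, hx]
      · ext x y
        rcases eq_or_ne y 1 with rfl | hy
        · simp [Pd, Matrix.mul_diagonal]
        · simp [Pd, Matrix.mul_diagonal, hy]
    have h1 : Commute w' T := C.commute_of_pElem hTp (by rw [hπT]; exact hca)
    have h2 : Commute w' B := C.commute_of_pElem hBp (by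
      rw [hπB]; exact (hcW.mul_right hca).mul_right hcW.inv_right)
    rw [show w = T * B * T from hw]
    exact (((h1.mul_right h2).mul_right h1).symm).eq
  · -- the diagonal element
    set D₀ := lev hF 0 (dg c₀ : SpecialLinearGroup (Fin (k + 2)) F) with hD₀
    have hD : D₀⁻¹ * W * D₀ = W⁻¹ := by
      refine eq_inv_of_mul_eq_one_left ?_
      have := wDw_model (k := k) hF (EPar.wok hF E₁) rfl c₀ E₁.hc₀
      rw [← hW, ← hD₀] at this
      calc D₀⁻¹ * W * D₀ * W = D₀⁻¹ * (W * D₀ * W) := by group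
        _ = 1 := by rw [this, inv_mul_cancel]
    have hA : D₀⁻¹ * a * D₀ = a⁻¹ := by
      have := T₀_conj hF (ε := 0) E₁.μt (dg c₀⁻¹ : SpecialLinearGroup (Fin (k + 2)) F) (Pi.single 0 lam)
      rw [map_inv, map_inv, inv_inv, ← hD₀, ← ha] at this
      rw [this, ha, T₀, T₀, uH_inv hF (skew_ok hF E₁.μt (vv_herm hF _)), neg_zero]
      congr 1
      have hv : ((dg c₀)⁻¹ : SpecialLinearGroup (Fin (k + 2)) F).1 *ᵥ Pi.single 0 lam =
          ((c₀⁻¹ : Fˣ) : F) • (Pi.single 0 lam : Fin (k + 2) → F) := by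
        rw [← map_inv, dg_val, Matrix.diagonal_mulVec_single, ← Pi.single_smul, smul_eq_mul]
        simp [dgv]
      rw [hv, vv_smul, Units.val_inv_eq_inv_val, map_inv₀, ← mul_inv, E₁.hc₀, smul_smul, inv_neg, inv_one,
        mul_neg_one]
      ext x y
      have hh := vv_herm hF (Pi.single (0 : Fin (k + 2)) lam) x y
      simp only [ct_apply, Matrix.smul_apply, smul_eq_mul, map_mul, neg_mul,
        show σ μ = -μ by linear_combination E₁.μt]
      rw [hh]
    have hb : D₀⁻¹ * (W * a * W⁻¹) * D₀ = (W * a * W⁻¹)⁻¹ := by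
      have e1 : (D₀⁻¹ * a * D₀) * (D₀⁻¹ * (W * a * W⁻¹) * D₀) * (D₀⁻¹ * a * D₀) =
          a⁻¹ * (W * a * W⁻¹)⁻¹ * a⁻¹ := by
        rw [show (D₀⁻¹ * a * D₀) * (D₀⁻¹ * (W * a * W⁻¹) * D₀) * (D₀⁻¹ * a * D₀) =
          D₀⁻¹ * (a * (W * a * W⁻¹) * a) * D₀ by group, ← hR, hD]
        nth_rw 1 [hR]
        group
      rw [hA] at e1
      exact mul_left_cancel (mul_right_cancel e1)
    have hDT : (j (dg c₀))⁻¹ * T * j (dg c₀) = T⁻¹ := by
      have := C.conj_eq (e := (j (dg c₀))⁻¹) hTp hTp.inv (by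
        simp only [map_mul, map_inv, inv_inv, hj, hπT]; exact hA)
      rwa [inv_inv] at this
    have hDB : (j (dg c₀))⁻¹ * B * j (dg c₀) = B⁻¹ := by
      have := C.conj_eq (e := (j (dg c₀))⁻¹) hBp hBp.inv (by
        simp only [map_mul, map_inv, inv_inv, hj, hπB]; exact hb)
      rwa [inv_inv] at this
    calc w * j (dg c₀) * w
        = j (dg c₀) * (((j (dg c₀))⁻¹ * T * j (dg c₀)) * ((j (dg c₀))⁻¹ * B * j (dg c₀)) *
            ((j (dg c₀))⁻¹ * T * j (dg c₀))) * w := by rw [hw]; group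
      _ = j (dg c₀) := by rw [hDT, hDB, hw]; group

/-- Even dimension from eight on. -/
theorem even_big (hk : 2 ≤ k) (C : Coprime p π) (hgen : Subgroup.closure {g : E | IsPElem p g} = ⊤) :
    π.ker = ⊥ := by
  obtain ⟨μ, ω, lam, eps, c₀, E₁⟩ := exists_epar hF
  obtain ⟨a, b, hab⟩ := exists_gen_pair (F := F) (k + 1) (by omega)
  obtain ⟨j, u, w, hj, hu, hw, huU, hWW, hR1, hDw⟩ := even_setup C E₁
  refine ker_eq_bot_of_engine C hgen j hj hu hw (even_top hF E₁) fun G j' u' w' ej eu ew htop => ?_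
  refine relEven_injective E₁ (a := a) (b := b) hk hab (fun A => ?_) ?_ ?_ htop
    (sub_rel (relEven_map hF G.subtype μ ω lam eps c₀ a b _ _ _) ?_)
  · show π (j' A : E) = _; rw [ej, hj]
  · show π (u' : E) = _; rw [eu, hu]
  · show π (w' : E) = _; rw [ew, hw]
  rw [show (fun A => G.subtype (j' A)) = (j : _ → E) from funext ej, Subgroup.coe_subtype, eu, ew]
  have hm := map_rel π (L := relEven hF μ ω lam eps c₀ a b j u w) (relEven_map hF π μ ω lam eps c₀ a b _ _ _) (by
    rw [show (fun A => π (j A)) = (lev hF 0 : _ → Hgrp hF (k + 2) 0) from funext hj, hu, hw]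
    exact relEven_model hF E₁ a b)
  simp only [relEven, List.forall_mem_cons, List.not_mem_nil, false_imp_iff, implies_true, and_true, DP] at hm ⊢
  obtain ⟨m1, m2, m3, m4, m5, m6, m7, m8, m9, m10, m11, -, -, -⟩ := hm
  have hT := Tw_mem C hj huU
  have hup := Usp_pElem C huU
  have hM := sl_closure_pElem (F := F) (p := p) (N := k + 1)
  exact ⟨C.comm_eq hup m1, C.comm_eq hup m2, C.comm_eq hup m3, C.conj_eq hup hup m4,
    Usp_ext C (mul_mem huU (hT _)) (mul_mem (hT _) huU) m5, Usp_ext C (Bw_mem hT _ _) (Bw_mem hT _ _) m6,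
    Usp_ext C (mul_mem (hT _) (mul_mem (mul_mem (hT _) (hT _)) (hT _))) (mul_mem (mul_mem (hT _) (hT _)) (hT _)) m7,
    C.comm_hom hM hab (j.comp extL) m8 m9 a, C.comm_hom hM hab (j.comp extL) m8 m9 b,
    C.conj_eq (Usp_pElem C (hT _)) (Usp_pElem C (hT _)) m10,
    C.conj_eq (Usp_pElem C (Bw_mem hT _ _)) ((isPElem_colE _).map j) m11, hWW, hR1, hDw⟩

/-- Six dimensions. -/
theorem even_three {π : E →* Hgrp hF (1 + 2) 0} (C : Coprime p π)
    (hgen : Subgroup.closure {g : E | IsPElem p g} = ⊤) : π.ker = ⊥ := by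
  obtain ⟨μ, ω, lam, eps, c₀, E₁⟩ := exists_epar hF
  obtain ⟨a, b, hab⟩ := exists_gen_pair (F := F) 2 (by omega)
  obtain ⟨a', b', hab'⟩ := exists_gen_pair (F := F) (1 + 2) (by omega)
  obtain ⟨j, u, w, hj, hu, hw, huU, hWW, hR1, hDw⟩ := even_setup C E₁
  refine ker_eq_bot_of_engine C hgen j hj hu hw (even_top hF E₁) fun G j' u' w' ej eu ew htop => ?_
  refine relEven3_injective E₁ (om := Units.mk0 ω E₁.prim.ne) (a := a) (b := b) (a' := a') (b' := b')
    (Units.val_mk0 E₁.prim.ne) hab hab' (fun A => ?_) ?_ ?_ htop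
    (sub_rel (relEven3_map hF G.subtype a b a' b' _ _ _) ?_)
  · show π (j' A : E) = _; rw [ej, hj]
  · show π (u' : E) = _; rw [eu, hu]
  · show π (w' : E) = _; rw [ew, hw]
  rw [show (fun A => G.subtype (j' A)) = (j : _ → E) from funext ej, Subgroup.coe_subtype, eu, ew]
  have hm := map_rel π (L := relEven3 hF μ ω lam eps c₀ (Units.mk0 ω E₁.prim.ne) a b a' b' j u w)
    (relEven3_map hF π a b a' b' _ _ _) (by
      rw [show (fun A => π (j A)) = (lev hF 0 : _ → Hgrp hF (1 + 2) 0) from funext hj, hu, hw]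
      exact relEven3_model hF E₁ a b a' b')
  simp only [relEven3, relEven, List.forall_mem_append, List.forall_mem_cons, List.not_mem_nil, false_imp_iff,
    implies_true, and_true, DP] at hm ⊢
  obtain ⟨⟨m1, m2, m3, m4, m5, m6, m7, m8, m9, m10, m11, -, -, -⟩, n1, n2, n3, n4, n5⟩ := hm
  have hT := Tw_mem C hj huU
  have hup := Usp_pElem C huU
  have hM := sl_closure_pElem (F := F) (p := p) (N := 1 + 1)
  have hN := sl_closure_pElem (F := F) (p := p) (N := 1 + 2)
  have hd : ∀ {x y z : Fin (1 + 2) → F}, Tw j u (x + y + z) * (Tw j u x * Tw j u y * Tw j u z) ∈ Usp C :=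
    mul_mem (hT _) (mul_mem (mul_mem (hT _) (hT _)) (hT _))
  have hd' : ∀ {x y z : Fin (1 + 2) → F}, Tw j u x * Tw j u y * Tw j u z ∈ Usp C :=
    mul_mem (mul_mem (hT _) (hT _)) (hT _)
  exact ⟨⟨C.comm_eq hup m1, C.comm_eq hup m2, C.comm_eq hup m3, C.conj_eq hup hup m4,
    Usp_ext C (mul_mem huU (hT _)) (mul_mem (hT _) huU) m5, Usp_ext C (Bw_mem hT _ _) (Bw_mem hT _ _) m6,
    Usp_ext C hd hd' m7,
    C.comm_hom hM hab (j.comp extL) m8 m9 a, C.comm_hom hM hab (j.comp extL) m8 m9 b,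
    C.conj_eq (Usp_pElem C (hT _)) (Usp_pElem C (hT _)) m10,
    C.conj_eq (Usp_pElem C (Bw_mem hT _ _)) ((isPElem_colE _).map j) m11, hWW, hR1, hDw⟩,
    Usp_ext C hd hd' n1, Usp_ext C hd hd' n2,
    C.conj_hom hN hab' j (j.comp (tcj hF _)) n3 n4 a', C.conj_hom hN hab' j (j.comp (tcj hF _)) n3 n4 b',
    C.conj_eq hup (Usp_pElem C (hT _)) n5⟩

/-- Four dimensions. -/
theorem even_two {π : E →* Hgrp hF (0 + 2) 0} (C : Coprime p π)
    (hgen : Subgroup.closure {g : E | IsPElem p g} = ⊤) : π.ker = ⊥ := by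
  obtain ⟨μ, ω, lam, eps, c₀, E₁⟩ := exists_epar hF
  obtain ⟨k₁, hk₁⟩ := PSUAut.exists_trace_eq hF (a := (1 : F)) (map_one _)
  obtain ⟨a, b, hab⟩ := exists_gen_pair (F := F) (0 + 2) (by omega)
  obtain ⟨j, u, w, hj, hu, hw, huU, hWW, hR1, hDw⟩ := even_setup C E₁
  refine ker_eq_bot_of_engine C hgen j hj hu hw (even_top hF E₁) fun G j' u' w' ej eu ew htop => ?_
  refine relEven2_injective E₁ (om := Units.mk0 ω E₁.prim.ne) (a := a) (b := b) hk₁
    (Units.val_mk0 E₁.prim.ne) hab (fun A => ?_) ?_ ?_ htop (sub_rel (relEven2_map hF G.subtype a b _ _ _) ?_)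
  · show π (j' A : E) = _; rw [ej, hj]
  · show π (u' : E) = _; rw [eu, hu]
  · show π (w' : E) = _; rw [ew, hw]
  rw [show (fun A => G.subtype (j' A)) = (j : _ → E) from funext ej, Subgroup.coe_subtype, eu, ew]
  have hm := map_rel π (L := relEven2 hF μ ω lam k₁ eps c₀ (Units.mk0 ω E₁.prim.ne) a b j u w)
    (relEven2_map hF π a b _ _ _) (by
      rw [show (fun A => π (j A)) = (lev hF 0 : _ → Hgrp hF (0 + 2) 0) from funext hj, hu, hw]
      exact relEven2_model hF E₁ hk₁ a b)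
  simp only [relEven2, List.forall_mem_append, List.forall_mem_map, List.forall_mem_cons, List.not_mem_nil,
    false_imp_iff, implies_true, and_true] at hm ⊢
  obtain ⟨⟨⟨⟨⟨⟨m1, m2, m3, m4, m5, m6⟩, mC⟩, mS⟩, mL⟩, mM⟩, m7, m8, -, -, -⟩ := hm
  have hT := Tw_mem C hj huU
  have hup := Usp_pElem C huU
  have hN := sl_closure_pElem (F := F) (p := p) (N := 0 + 2)
  exact ⟨⟨⟨⟨⟨⟨C.comm_eq hup m1, C.comm_eq hup m2, C.conj_eq hup hup m3,
    C.conj_hom hN hab j (j.comp (tcj hF _)) m4 m5 a, C.conj_hom hN hab j (j.comp (tcj hF _)) m4 m5 b,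
    C.conj_eq hup (Usp_pElem C (hT _)) m6⟩,
    fun i hi => Usp_ext C (mul_mem (hT _) (hT _)) (mul_mem (hT _) (hT _)) (mC i hi)⟩,
    fun i hi => Usp_ext C (Bw_mem hT _ _) (Bw_mem hT _ _) (mS i hi)⟩,
    fun i hi => Usp_ext C (Bw_mem hT _ _) (Bw_mem hT _ _) (mL i hi)⟩,
    fun i hi => Usp_ext C (Bw_mem hT _ _) (mul_mem (hT _) (Bw_mem hT _ _)) (mM i hi)⟩,
    C.conj_eq (Usp_pElem C (hT _)) (Usp_pElem C (hT _)) m7,
    C.conj_eq (Usp_pElem C (Bw_mem hT _ _)) ((isPElem_colE _).map j) m8, hWW, hR1, hDw⟩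

/-- Every even dimension from four on. -/
theorem even_ker_eq_bot (C : Coprime p π) (hgen : Subgroup.closure {g : E | IsPElem p g} = ⊤) : π.ker = ⊥ := by
  rcases (show k = 0 ∨ k = 1 ∨ 2 ≤ k by omega) with rfl | rfl | hk
  · exact even_two C hgen
  · exact even_three C hgen
  · exact even_big hk C hgen

end Cfsg.Agent.Classical.UnitMult
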