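import Cfsg.Agent.Lib.Classical.UnitMultThreeTwo

/-!
A central extension of `SU₃(q)` with kernel of order prime to the characteristic and generated by elements of
`p`-power order is an isomorphism.
-/

set_option autoImplicit false
set_option linter.unusedSectionVars false

namespace Cfsg.Agent.Classical.UnitMult

variable {F : Type*} [Field F] [Fintype F] {q : ℕ}

/-- The kernel is trivial. -/
theorem su3_ker_eq_bot (hF : Fintype.card F = q ^ 2) {p : ℕ} [Fact p.Prime] [CharP F p] {E : Type*} [Group E]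
    [Finite E] {π : E →* SU 3 F q} (C : Coprime p π)
    (hgen : Subgroup.closure {g : E | IsPElem p g} = ⊤) : π.ker = ⊥ := by
  refine ker_eq_bot_of_primes hgen π C fun l hl hlp E' _ _ π' hπ hc hgen' hker => ?_
  haveI : Fact l.Prime := ⟨hl⟩
  by_cases hd : l ∣ q ^ 2 - 1
  swap
  · exact ker_eq_bot_singer hF hπ hc hlp hgen' hker hd
  have hq2 := two_le_q hF
  by_cases hl2 : l = 2
  · subst hl2
    have hodd : ¬ 2 ∣ q := not_dvd_q hF hlp
    by_cases h4 : q % 4 = 1
    · exact ker_eq_bot_two_torus hF hπ hc hlp hgen' hker h4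
    · exact ker_eq_bot_two_sl2 hF hπ hc hlp hgen' hker (by omega)
  rw [show q ^ 2 - 1 = (q + 1) * (q - 1) by rw [← Nat.sq_sub_sq, one_pow]] at hd
  rcases hl.dvd_mul.1 hd with h1 | h1
  · exact ker_eq_bot_nonsplit hF hπ hc hlp hgen' hker hl2 h1
  · exact ker_eq_bot_split hF hπ hc hlp hgen' hker hl2 h1

end Cfsg.Agent.Classical.UnitMult
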