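import Cfsg.Agent.Lib.Classical.UnitMultEngineEven
import Cfsg.Agent.Lib.Classical.UnitMultThree
import Cfsg.Agent.Lib.Lie.UnPresOddTwo
import Cfsg.Agent.Lib.Lie.UnPresOddThree

/-!
A central extension of `SU_{2m+1}(q)` with kernel of order prime to the characteristic and generated by elements
of `p`-power order is an isomorphism.
-/

set_option autoImplicit false
set_option linter.unusedSectionVars false
set_option maxHeartbeats 1000000

namespace Cfsg.Agent.Classical.UnitMult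

open Matrix Cfsg.Agent.Classical Cfsg.Agent.Classical.PSUAut Cfsg.Agent.Lie Cfsg.Agent.Lie.UnPres Cfsg.Agent.Lie.SUGen
open scoped commutatorElement

variable {F : Type*} [Field F] [Fintype F] {q : ℕ} {hF : Fintype.card F = q ^ 2} {k : ℕ}
  {p : ℕ} [Fact p.Prime] [CharP F p] {E : Type*} [Group E] [Finite E] {π : E →* Hgrp hF (k + 2) 1}

local notation "σ" => qFrob hF

variable {e n f : Fin 3 → F} (B : Frame3 q e n f)

variable (p π) in
/-- The part over the `SU₃` of the first pair and the middle. -/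
noncomputable def G3p : Subgroup E :=
  Subgroup.closure {x | π x ∈ (iota hF k B).range ∧ IsPElem p x}

theorem G3p_mem {x : E} (h1 : π x ∈ (iota hF k B).range) (h2 : IsPElem p x) : x ∈ G3p p π B :=
  Subgroup.subset_closure ⟨h1, h2⟩

theorem G3p_le {x : E} (hx : x ∈ G3p p π B) : π x ∈ (iota hF k B).range := by
  induction hx using Subgroup.closure_induction with
  | mem a ha => exact ha.1
  | one => rw [map_one]; exact one_mem _
  | mul a b _ _ iha ihb => rw [map_mul]; exact mul_mem iha ihb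
  | inv a _ iha => rw [map_inv]; exact inv_mem iha

theorem G3p_conj {g : E} (hg : ∀ y ∈ (iota hF k B).range, π g * y * (π g)⁻¹ ∈ (iota hF k B).range) {x : E}
    (hx : x ∈ G3p p π B) : g * x * g⁻¹ ∈ G3p p π B := by
  induction hx using Subgroup.closure_induction with
  | mem a ha => exact G3p_mem B (by rw [map_mul, map_mul, map_inv]; exact hg _ ha.1) (ha.2.conj g)
  | one => rw [mul_one, mul_inv_cancel]; exact one_mem _
  | mul a b _ _ iha ihb =>
    rw [show g * (a * b) * g⁻¹ = g * a * g⁻¹ * (g * b * g⁻¹) by group]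
    exact mul_mem iha ihb
  | inv a _ iha =>
    rw [show g * a⁻¹ * g⁻¹ = (g * a * g⁻¹)⁻¹ by group]
    exact inv_mem iha

theorem G3p_surj (C : Coprime p π) (g : SU 3 F q) : ∃ x ∈ G3p p π B, π x = iota hF k B g := by
  have hg : g ∈ Subgroup.closure {g : SU 3 F q | IsPElem p g} := by
    rw [closure_pElem_three hF]; exact Subgroup.mem_top g
  induction hg using Subgroup.closure_induction with
  | mem a ha => exact ⟨C.sp (iota hF k B a), G3p_mem B ⟨a, (C.π_sp _).symm⟩ (C.sp_pElem (ha.map _)), C.π_sp _⟩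
  | one => exact ⟨1, one_mem _, by rw [map_one, map_one]⟩
  | mul a b _ _ iha ihb =>
    obtain ⟨x, hx, e1⟩ := iha
    obtain ⟨y, hy, e2⟩ := ihb
    exact ⟨x * y, mul_mem hx hy, by rw [map_mul, e1, e2, map_mul]⟩
  | inv a _ iha =>
    obtain ⟨x, hx, e1⟩ := iha
    exact ⟨x⁻¹, inv_mem hx, by rw [map_inv, e1, map_inv]⟩

theorem G3p_ext (C : Coprime p π) {x y : E} (hx : x ∈ G3p p π B) (hy : y ∈ G3p p π B) (h : π x = π y) : x = y := by
  let eI := MonoidHom.ofInjective (iota_injective hF k B)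
  let s : G3p p π B →* SU 3 F q :=
    eI.symm.toMonoidHom.comp ((π.comp (G3p p π B).subtype).codRestrict _ fun a => G3p_le (π := π) B a.2)
  have hs : ∀ a : G3p p π B, iota hF k B (s a) = π a := fun a => congrArg Subtype.val (eI.apply_symm_apply _)
  have hk : ∀ a : G3p p π B, s a = 1 → π (a : E) = 1 := fun a ha => by rw [← hs, ha, map_one]
  have hC : Coprime p s := by
    refine ⟨fun g => ?_, fun a ha => ?_, ?_⟩
    · obtain ⟨a, ha, e1⟩ := G3p_surj B C g
      exact ⟨⟨a, ha⟩, iota_injective hF k B ((hs _).trans e1)⟩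
    · exact Subgroup.mem_center_iff.2 fun b => Subtype.ext (ker_comm π C.cen (hk a ha) (b : E)).eq
    · refine C.cop.coprime_dvd_left (Subgroup.card_dvd_of_injective
        (f := ((G3p p π B).subtype.comp s.ker.subtype).codRestrict π.ker fun a => hk a.1 a.2) ?_)
      exact fun a b hab => Subtype.ext (Subtype.ext (congrArg Subtype.val hab :))
  have hgen : Subgroup.closure {a : G3p p π B | IsPElem p a} = ⊤ := by
    refine top_unique (le_trans (le_of_eq (Subgroup.closure_closure_coe_preimage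
      (k := {x : E | π x ∈ (iota hF k B).range ∧ IsPElem p x})).symm) (Subgroup.closure_mono ?_))
    rintro ⟨a, ha⟩ ⟨-, m, hm⟩
    exact ⟨m, Subtype.ext hm⟩
  have hbot := su3_ker_eq_bot hF hC hgen
  have := (MonoidHom.ker_eq_bot_iff s).1 hbot (a₁ := ⟨x, hx⟩) (a₂ := ⟨y, hy⟩)
    (iota_injective hF k B (by rw [hs, hs]; exact h))
  exact congrArg Subtype.val this

/-- Normalising the `SU₃`, from two kinds of generators. -/
theorem range_conj {g : Hgrp hF (k + 2) 1}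
    (hU : ∀ α b, SU3Pres.OK hF α b → g * iota hF k B (SU3Pres.Um hF B α b) * g⁻¹ ∈ (iota hF k B).range)
    (hW : g * iota hF k B (SU3Pres.Wm hF B) * g⁻¹ ∈ (iota hF k B).range) :
    ∀ y ∈ (iota hF k B).range, g * y * g⁻¹ ∈ (iota hF k B).range := by
  rintro _ ⟨x, rfl⟩
  have htop := eq_top_of_UW hF B
    (K := (iota hF k B).range.comap ((MulAut.conj g).toMonoidHom.comp (iota hF k B))) hU hW
  exact htop.ge (Subgroup.mem_top x)

theorem dg_normal (c : Fˣ) : ∀ y ∈ (iota hF k B).range,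
    lev hF 1 (dg c : SpecialLinearGroup (Fin (k + 2)) F) * y *
      (lev hF 1 (dg c : SpecialLinearGroup (Fin (k + 2)) F))⁻¹ ∈ (iota hF k B).range := by
  refine range_conj B (fun α b h => ?_) ?_
  · have hok : SU3Pres.OK hF (σ (c : F) * α) ((c : F) * b * σ (c : F)) := by
      unfold SU3Pres.OK at *
      simp only [map_mul, qFrob_qFrob hF]
      linear_combination ((c : F) * σ (c : F)) * h
    refine ⟨SU3Pres.Um hF B (σ (c : F) * α) ((c : F) * b * σ (c : F)), ?_⟩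
    obtain ⟨hok', e1⟩ := iota_Um hF k B h
    rw [(iota_Um hF k B hok).2, e1, lev_uH hF _ hok', dg_val]
    congr 1
    · ext x y
      obtain rfl : y = 0 := Subsingleton.elim _ _
      rcases eq_or_ne x 0 with rfl | hx
      · simp [Matrix.diagonal_mul, dgv, qFrob_qFrob hF]
      · simp [Matrix.diagonal_mul, dgv, hx, Ne.symm hx, Matrix.single_apply]
    · ext x y
      rcases eq_or_ne x 0 with rfl | hx <;> rcases eq_or_ne y 0 with rfl | hy
      · simp [Matrix.mul_apply, ct_apply, Matrix.diagonal_mul, Matrix.single_apply, Matrix.diagonal_apply, dgv,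
          apply_ite (qFrob hF)]
      all_goals simp [Matrix.mul_apply, ct_apply, Matrix.diagonal_mul, Matrix.single_apply, Matrix.diagonal_apply,
        dgv, apply_ite (qFrob hF), Ne.symm, *]
  · rw [iota_Wm hF k B (wok_odd hF)]
    have e1 := hc_model_iota (hF := hF) (k := k) B c
    rw [mul_inv_eq_iff_eq_mul] at e1
    rw [e1]
    exact mul_mem ⟨_, rfl⟩ ⟨_, iota_Wm hF k B (wok_odd hF)⟩

theorem wH_normal : ∀ y ∈ (iota hF k B).range,
    wH hF (wok_odd hF) 1 * y * (wH hF (wok_odd hF) 1)⁻¹ ∈ (iota hF k B).range := by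
  refine range_conj B (fun α b h => ?_) ?_
  · obtain ⟨hok', e1⟩ := iota_Um hF k B h
    have hok : SU3Pres.OK hF (-α) b := by
      unfold SU3Pres.OK at *
      simp only [map_neg]
      linear_combination h
    refine ⟨SU3Pres.Um hF B (-α) b, ?_⟩
    rw [(iota_Um hF k B hok).2, e1, (wH_uH hF (wok_odd hF) hok' ?_ ?_ ?_).2]
    · congr 1
      rw [Matrix.smul_single]
      simp
    · ext x y
      obtain rfl : y = 0 := Subsingleton.elim _ _
      rcases eq_or_ne x 1 with rfl | hx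
      · simp [Pd, Matrix.diagonal_mul]
      · simp [Pd, Matrix.diagonal_mul, hx, Matrix.diagonal_apply]
    · ext x y
      rcases eq_or_ne x 1 with rfl | hx
      · simp [Pd, Matrix.diagonal_mul]
      · simp [Pd, Matrix.diagonal_mul, hx, Matrix.diagonal_apply]
    · ext x y
      rcases eq_or_ne y 1 with rfl | hy
      · simp [Pd, Matrix.mul_diagonal]
      · simp [Pd, Matrix.mul_diagonal, hy, Matrix.diagonal_apply]
  · refine ⟨SU3Pres.Wm hF B, ?_⟩
    rw [iota_Wm hF k B (wok_odd hF), ← lev_wH hF (wok_odd hF) (swp_keep (k := k) 1),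
      ← (W1_model (k := k) hF (wok_odd hF)).eq, mul_inv_cancel_right]

variable {μ ω r β k₁ : F} {i₁ i₂ : ℕ} {c₁ c₂ c₃ : Fˣ}

/-- The lifts of the generators and the relations inside the `SU₃`. -/
theorem odd_setup (C : Coprime p π) (O : OPar hF μ ω r β k₁) :
    ∃ (j : SpecialLinearGroup (Fin (k + 2)) F →* E) (u w : E),
      (∀ A, π (j A) = lev hF 1 A) ∧ π u = Φ₀ hF β (Pi.single 0 1) ∧
      π w = wH hF (wok_odd hF) 0 ∧ u ∈ Usp C ∧
      w * (j (swp 1 0) * w * (j (swp 1 0))⁻¹) = j (swp 1 0) * w * (j (swp 1 0))⁻¹ * w ∧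
      ∀ (i₁ i₂ : ℕ) (c₁ c₂ c₃ : Fˣ), TPar hF μ β i₁ i₂ c₁ c₂ c₃ →
        ∀ x ∈ relTorus hF μ β k₁ i₁ i₂ c₁ c₂ c₃ j u w, x.1 = x.2 := by
  obtain ⟨e, n, f, B⟩ := exists_frame hF
  obtain ⟨j, hj⟩ := exists_lev_lift C
  set u := C.sp (Φ₀ hF β (Pi.single (0 : Fin (k + 2)) 1)) with hu
  have huU : u ∈ Usp C := Usp_sp C ⟨_, _, cv_ok hF O.hβt _, rfl⟩
  obtain ⟨w, hw3, hπw⟩ := G3p_surj B C (SU3Pres.Wm hF B)
  rw [iota_Wm hF k B (wok_odd hF)] at hπw
  refine ⟨j, u, w, hj, by rw [hu, C.π_sp], hπw, huU, ?_, fun i₁ i₂ c₁ c₂ c₃ T => ?_⟩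
  · set w' := j (swp 1 0) * w * (j (swp 1 0))⁻¹ with hw'
    have hπw' : π w' = wH hF (wok_odd hF) 1 := by
      rw [hw', map_mul, map_mul, map_inv, hj, hπw]; exact lev_wH hF _ (swp_keep 1)
    have hcW : Commute (π w') (π w) := by
      rw [hw', map_mul, map_mul, map_inv, hj, hπw]; exact (W1_model hF (wok_odd hF)).symm
    refine (mul_inv_eq_iff_eq_mul.1 (G3p_ext B C (G3p_conj B ?_ hw3) hw3 ?_)).symm
    · rw [hπw']; exact wH_normal B
    · rw [map_mul, map_mul, map_inv, hcW.eq, mul_inv_cancel_right]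
  have hπTw : ∀ v, π (Tw j u v) = Φ₀ hF β v := fun v => by
    rw [Tw_map, hu, C.π_sp, show (fun A => π (j A)) = (lev hF 1 : _ → Hgrp hF (k + 2) 1) from funext hj]
    exact Tw_heis hF O.hβt v
  have hTw : ∀ γ, Tw j u (Pi.single 0 γ) ∈ G3p p π B := fun γ =>
    G3p_mem B (by rw [hπTw, iota_Φ₀ hF B O.hβt]; exact ⟨_, rfl⟩) (Usp_pElem C (Tw_mem C hj huU _))
  have hxw : ∀ γ b, xw hF β k₁ j u γ b ∈ G3p p π B := fun γ b => mul_mem (hTw _) (comm_mem (hTw _) (hTw _))
  have htw : ∀ α b, tw hF β k₁ j u w α b ∈ G3p p π B := fun α b =>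
    mul_mem (mul_mem (mul_mem (inv_mem (hxw _ _)) (mul_mem (mul_mem hw3 (hxw _ _)) hw3)) (inv_mem (hxw _ _)))
      (inv_mem hw3)
  have htW : tWord hF μ β k₁ j u w ∈ G3p p π B := mul_mem (htw _ _) (htw _ _)
  have hh : ∀ c, j (dg c) * w * (j (dg c))⁻¹ * w⁻¹ ∈ G3p p π B := fun c =>
    mul_mem (G3p_conj B (by rw [hj]; exact dg_normal B c) hw3) (inv_mem hw3)
  have hm := map_rel π (L := relTorus hF μ β k₁ i₁ i₂ c₁ c₂ c₃ j u w) (relTorus_map π _ _ _) (by
    rw [show (fun A => π (j A)) = (lev hF 1 : _ → Hgrp hF (k + 2) 1) from funext hj, hu, C.π_sp, hπw]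
    exact relTorus_model O T)
  simp only [relTorus, List.forall_mem_cons, List.not_mem_nil, false_imp_iff, implies_true, and_true] at hm ⊢
  obtain ⟨t1, t2, t3, t4⟩ := hm
  exact ⟨G3p_ext B C (mul_mem hw3 hw3) (one_mem _) t1,
    G3p_ext B C (htw _ _) (mul_mem (pow_mem htW _) (hh _)) t2,
    G3p_ext B C (mul_mem (mul_mem hw3 htW) hw3) (mul_mem (pow_mem htW _) (hh _)) t3,
    G3p_ext B C (pow_mem htW _) (hh _) t4⟩

/-- Odd dimension from nine on. -/
theorem odd_big (hk : 2 ≤ k) (C : Coprime p π) (hgen : Subgroup.closure {g : E | IsPElem p g} = ⊤) :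
    π.ker = ⊥ := by
  obtain ⟨μ, ω, r, β, k₁, O, -⟩ := exists_opar hF
  obtain ⟨i₁, i₂, c₁, c₂, c₃, T⟩ := exists_tpar O
  obtain ⟨a, b, hab⟩ := exists_gen_pair (F := F) (k + 1) (by omega)
  obtain ⟨j, u, w, hj, hu, hw, huU, hWW, htor⟩ := odd_setup C O
  refine ker_eq_bot_of_engine C hgen j hj hu hw (odd_top hF O) fun G j' u' w' ej eu ew htop => ?_
  refine relOdd_injective O (i₁ := i₁) (i₂ := i₂) (c₁ := c₁) (c₂ := c₂) (c₃ := c₃) (a := a) (b := b) hk hab
    (fun A => ?_) ?_ ?_ htop (sub_rel (relOdd_map hF G.subtype a b _ _ _) ?_)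
  · show π (j' A : E) = _; rw [ej, hj]
  · show π (u' : E) = _; rw [eu, hu]
  · show π (w' : E) = _; rw [ew, hw]
  rw [show (fun A => G.subtype (j' A)) = (j : _ → E) from funext ej, Subgroup.coe_subtype, eu, ew]
  have hm := map_rel π (L := relOdd hF μ ω β k₁ i₁ i₂ c₁ c₂ c₃ a b j u w) (relOdd_map hF π a b _ _ _) (by
    rw [show (fun A => π (j A)) = (lev hF 1 : _ → Hgrp hF (k + 2) 1) from funext hj, hu, hw]
    exact relOdd_model hF O T a b)
  simp only [relOdd, List.forall_mem_append, List.forall_mem_cons, List.not_mem_nil, false_imp_iff, implies_true,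
    and_true, BP] at hm ⊢
  obtain ⟨⟨m1, m2, m3, m4, m5, m6, m7, m8, m9, m10, -⟩, -⟩ := hm
  have hT := Tw_mem C hj huU
  have hup := Usp_pElem C huU
  have hM := sl_closure_pElem (F := F) (p := p) (N := k + 1)
  exact ⟨⟨C.comm_eq hup m1, C.comm_eq hup m2, C.comm_eq hup m3,
    Usp_ext C (mul_mem (hT _) (hT _)) (mul_mem (hT _) (comm_mem (hT _) (hT _))) m4,
    Usp_ext C (mul_mem (comm_mem (hT _) (hT _)) (hT _)) (mul_mem (hT _) (comm_mem (hT _) (hT _))) m5,
    Usp_ext C (comm_mem (hT _) (hT _)) (comm_mem (hT _) (hT _)) m6,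
    C.comm_hom hM hab (j.comp extL) m7 m8 a, C.comm_hom hM hab (j.comp extL) m7 m8 b,
    C.conj_eq (Usp_pElem C (hT _)) (Usp_pElem C (hT _)) m9,
    C.conj_eq (Usp_pElem C (comm_mem (hT _) (hT _))) ((isPElem_colE _).map j) m10, hWW⟩, htor _ _ _ _ _ T⟩

/-- Seven dimensions. -/
theorem odd_three {π : E →* Hgrp hF (1 + 2) 1} (C : Coprime p π)
    (hgen : Subgroup.closure {g : E | IsPElem p g} = ⊤) : π.ker = ⊥ := by
  obtain ⟨μ, ω, r, β, k₁, O, -⟩ := exists_opar hF
  obtain ⟨i₁, i₂, c₁, c₂, c₃, T⟩ := exists_tpar O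
  obtain ⟨a, b, hab⟩ := exists_gen_pair (F := F) (1 + 1) (by omega)
  obtain ⟨a', b', hab'⟩ := exists_gen_pair (F := F) (1 + 2) (by omega)
  obtain ⟨j, u, w, hj, hu, hw, huU, hWW, htor⟩ := odd_setup C O
  refine ker_eq_bot_of_engine C hgen j hj hu hw (odd_top hF O) fun G j' u' w' ej eu ew htop => ?_
  refine relOdd3_injective O (i₁ := i₁) (i₂ := i₂) (c₁ := c₁) (c₂ := c₂) (c₃ := c₃)
    (om := Units.mk0 ω O.prim.ne) (a := a) (b := b) (a' := a') (b' := b') (Units.val_mk0 O.prim.ne) hab hab'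
    (fun A => ?_) ?_ ?_ htop (sub_rel (relOdd3_map hF G.subtype a b a' b' _ _ _) ?_)
  · show π (j' A : E) = _; rw [ej, hj]
  · show π (u' : E) = _; rw [eu, hu]
  · show π (w' : E) = _; rw [ew, hw]
  rw [show (fun A => G.subtype (j' A)) = (j : _ → E) from funext ej, Subgroup.coe_subtype, eu, ew]
  have hm := map_rel π (L := relOdd3 hF μ ω β k₁ i₁ i₂ c₁ c₂ c₃ (Units.mk0 ω O.prim.ne) a b a' b' j u w)
    (relOdd3_map hF π a b a' b' _ _ _) (by
      rw [show (fun A => π (j A)) = (lev hF 1 : _ → Hgrp hF (1 + 2) 1) from funext hj, hu, hw]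
      exact relOdd3_model hF O T a b a' b')
  simp only [relOdd3, relOdd, List.forall_mem_append, List.forall_mem_cons, List.not_mem_nil, false_imp_iff,
    implies_true, and_true, BP] at hm ⊢
  obtain ⟨⟨⟨m1, m2, m3, m4, m5, m6, m7, m8, m9, m10, -⟩, -⟩, n1, n2, n3, n4, n5⟩ := hm
  have hT := Tw_mem C hj huU
  have hup := Usp_pElem C huU
  have hM := sl_closure_pElem (F := F) (p := p) (N := 1 + 1)
  have hN := sl_closure_pElem (F := F) (p := p) (N := 1 + 2)
  have hb : ∀ {x y z : Fin (1 + 2) → F}, ⁅Tw j u x, Tw j u y⁆ * Tw j u z ∈ Usp C :=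
    mul_mem (comm_mem (hT _) (hT _)) (hT _)
  have hb' : ∀ {x y z : Fin (1 + 2) → F}, Tw j u z * ⁅Tw j u x, Tw j u y⁆ ∈ Usp C :=
    mul_mem (hT _) (comm_mem (hT _) (hT _))
  exact ⟨⟨⟨C.comm_eq hup m1, C.comm_eq hup m2, C.comm_eq hup m3,
    Usp_ext C (mul_mem (hT _) (hT _)) (mul_mem (hT _) (comm_mem (hT _) (hT _))) m4,
    Usp_ext C hb hb' m5,
    Usp_ext C (comm_mem (hT _) (hT _)) (comm_mem (hT _) (hT _)) m6,
    C.comm_hom hM hab (j.comp extL) m7 m8 a, C.comm_hom hM hab (j.comp extL) m7 m8 b,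
    C.conj_eq (Usp_pElem C (hT _)) (Usp_pElem C (hT _)) m9,
    C.conj_eq (Usp_pElem C (comm_mem (hT _) (hT _))) ((isPElem_colE _).map j) m10, hWW⟩, htor _ _ _ _ _ T⟩,
    Usp_ext C hb hb' n1, Usp_ext C hb hb' n2,
    C.conj_hom hN hab' j (j.comp (tcj hF _)) n3 n4 a', C.conj_hom hN hab' j (j.comp (tcj hF _)) n3 n4 b',
    C.conj_eq hup (Usp_pElem C (hT _)) n5⟩

/-- Five dimensions. -/
theorem odd_two {π : E →* Hgrp hF (0 + 2) 1} (C : Coprime p π)
    (hgen : Subgroup.closure {g : E | IsPElem p g} = ⊤) : π.ker = ⊥ := by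
  obtain ⟨μ, ω, r, β, k₁, O, hlt⟩ := exists_opar hF
  obtain ⟨i₁, i₂, c₁, c₂, c₃, T⟩ := exists_tpar O
  have T' : TPar hF μ β i₁ i₂ c₁ c₂ (Units.mk0 ω O.prim.ne) :=
    ⟨T.h₁, T.h₂, by rw [hlt, Units.val_mk0, qFrob_apply, pow_succ']⟩
  obtain ⟨a, b, hab⟩ := exists_gen_pair (F := F) (0 + 2) (by omega)
  obtain ⟨j, u, w, hj, hu, hw, huU, hWW, htor⟩ := odd_setup C O
  refine ker_eq_bot_of_engine C hgen j hj hu hw (odd_top hF O) fun G j' u' w' ej eu ew htop => ?_
  refine relOdd2_injective O (i₁ := i₁) (i₂ := i₂) (c₁ := c₁) (c₂ := c₂) (om := Units.mk0 ω O.prim.ne)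
    (a := a) (b := b) (Units.val_mk0 O.prim.ne) hab
    (fun A => ?_) ?_ ?_ htop (sub_rel (relOdd2_map hF G.subtype a b _ _ _) ?_)
  · show π (j' A : E) = _; rw [ej, hj]
  · show π (u' : E) = _; rw [eu, hu]
  · show π (w' : E) = _; rw [ew, hw]
  rw [show (fun A => G.subtype (j' A)) = (j : _ → E) from funext ej, Subgroup.coe_subtype, eu, ew]
  have hm := map_rel π (L := relOdd2 hF μ ω β k₁ i₁ i₂ c₁ c₂ (Units.mk0 ω O.prim.ne) a b j u w)
    (relOdd2_map hF π a b _ _ _) (by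
      rw [show (fun A => π (j A)) = (lev hF 1 : _ → Hgrp hF (0 + 2) 1) from funext hj, hu, hw]
      exact relOdd2_model hF O hlt (Units.val_mk0 O.prim.ne) T' a b)
  simp only [relOdd2, List.forall_mem_append, List.forall_mem_cons, List.not_mem_nil, false_imp_iff,
    implies_true, and_true] at hm ⊢
  obtain ⟨⟨m1, m2, m3, m4, m5, m6, m7, m8, m9, m10, m11, m12, m13, m14, m15, -⟩, -⟩ := hm
  have hT := Tw_mem C hj huU
  have hup := Usp_pElem C huU
  have hN := sl_closure_pElem (F := F) (p := p) (N := 0 + 2)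
  have hz : ∀ v, Tz μ k₁ (Tw j u) v ∈ Usp C := fun v => comm_mem (hT _) (hT _)
  have hBz := Bw_mem hz
  exact ⟨⟨C.comm_eq hup m1, C.comm_eq hup m2,
    C.conj_hom hN hab j (j.comp (tcj hF _)) m3 m4 a, C.conj_hom hN hab j (j.comp (tcj hF _)) m3 m4 b,
    C.conj_eq hup (Usp_pElem C (Usp_conj C hj _ huU)) m5, Usp_ext C (hz _) (hz _) m6,
    Usp_ext C (mul_mem (hT _) (hz _)) (mul_mem (hz _) (hT _)) m7, Usp_ext C (hBz _ _) (hBz _ _) m8,
    Usp_ext C (hBz _ _) (hBz _ _) m9, Usp_ext C (hBz _ _) (mul_mem (hz _) (hBz _ _)) m10,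
    Usp_ext C (mul_mem (hT _) (hT _)) (mul_mem (hT _) (hBz _ _)) m11,
    Usp_ext C (mul_mem (hT _) (hT _)) (mul_mem (hT _) (hBz _ _)) m12,
    Usp_ext C (mul_mem (hT _) (hT _)) (mul_mem (hT _) (hBz _ _)) m13,
    C.conj_eq (Usp_pElem C (hT _)) (Usp_pElem C (hT _)) m14,
    C.conj_eq (Usp_pElem C (hBz _ _)) ((isPElem_colE _).map j) m15, hWW⟩, htor _ _ _ _ _ T'⟩

/-- Every odd dimension from five on. -/
theorem odd_ker_eq_bot (C : Coprime p π) (hgen : Subgroup.closure {g : E | IsPElem p g} = ⊤) : π.ker = ⊥ := by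
  rcases (show k = 0 ∨ k = 1 ∨ 2 ≤ k by omega) with rfl | rfl | hk
  · exact odd_two C hgen
  · exact odd_three C hgen
  · exact odd_big hk C hgen

end Cfsg.Agent.Classical.UnitMult
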