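import Cfsg.Agent.Lib.Classical.UnitMultLevi
import Cfsg.Agent.Lib.Classical.HermTotIsoLines

/-!
Anisotropic vectors orthogonal to a hyperbolic pair: orthonormal bases, spanning, scalars of norm one.
-/

set_option autoImplicit false
set_option linter.unusedSectionVars false

namespace Cfsg.Agent.Classical.UnitMult

open Matrix Cfsg.Agent.Classical Cfsg.Agent.Classical.PSUAut

variable {F : Type*} [Field F] [Fintype F] {q n : ℕ}

local notation "V" => (Fin n → F)

variable (hF : Fintype.card F = q ^ 2)

local notation "h" => hermForm n F q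
local notation "cj" => qFrob hF

include hF

theorem h_sum_left {ι : Type*} (s : Finset ι) (g : ι → V) (y : V) : h (∑ i ∈ s, g i) y = ∑ i ∈ s, h (g i) y := by
  rw [← hermB_apply hF, map_sum]
  rfl

/-- A pair of non-orthogonal vectors yields an anisotropic combination. -/
theorem exists_aniso_combo {z z' : V} (hzz' : h z z' ≠ 0) :
    h z z ≠ 0 ∨ h z' z' ≠ 0 ∨ ∃ r : F, h (z + r • z') (z + r • z') ≠ 0 := by
  by_cases h1 : h z z = 0
  · by_cases h2 : h z' z' = 0
    · obtain ⟨c, hc⟩ := PSUAut.exists_trace_eq hF (a := (1 : F)) (map_one _)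
      refine Or.inr (Or.inr ⟨cj (c / h z z'), ?_⟩)
      have hw : h z' z ≠ 0 := by rw [← cj_h hF]; exact (map_ne_zero (qFrob hF)).2 hzz'
      rw [h_add_left, h_add_right hF, h_add_right hF, h_smul_left, h_smul_left, h_smul_right hF,
        h_smul_right hF, h1, h2, cj_cj hF, map_div₀, cj_h hF]
      intro he
      refine one_ne_zero (α := F) (?_ : (1 : F) = 0)
      rw [← hc]
      rw [div_mul_cancel₀ _ hzz', div_mul_cancel₀ _ hw] at he
      linear_combination he
    · exact Or.inr (Or.inl h2)
  · exact Or.inl h1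

/-- Additive induction from the anisotropic vectors of a subspace that has one. -/
theorem aniso_induction {X : Submodule F V} {w₀ : V} (hw₀ : w₀ ∈ X) (h0 : h w₀ w₀ ≠ 0) {C : V → Prop}
    (haniso : ∀ z ∈ X, h z z ≠ 0 → C z) (hsub : ∀ x y, x ∈ X → y ∈ X → C x → C y → C (x - y)) :
    ∀ y ∈ X, C y := by
  intro y hy
  by_cases hyy : h y y = 0
  swap
  · exact haniso y hy hyy
  obtain ⟨r, hr, hne⟩ : ∃ r : F, r ≠ 0 ∧ h (y + r • w₀) (y + r • w₀) ≠ 0 := by
    by_contra hall
    push Not at hall
    have ex : ∀ r : F, r ≠ 0 → cj r * h y w₀ + r * h w₀ y + r * cj r * h w₀ w₀ = 0 := fun r hr => by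
      have := hall r hr
      rw [h_add_left, h_add_right hF, h_add_right hF, h_smul_left, h_smul_left, h_smul_right hF,
        h_smul_right hF, hyy] at this
      linear_combination this
    obtain ⟨z, hz, hz2⟩ := exists_norm_one_sq_ne_one hF
    have hz0 : z ≠ 0 := fun e => by simp [e] at hz
    have hzn : z * cj z = 1 := by rw [qFrob_apply, ← pow_succ']; exact hz
    by_cases hc : h y w₀ = 0
    · have := ex 1 one_ne_zero
      simp [hc, ← cj_h hF y w₀] at this
      exact h0 this
    -- two scalars of the same norm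
    set r := cj (h y w₀)⁻¹
    have hr : r ≠ 0 := (map_ne_zero (qFrob hF)).2 (inv_ne_zero hc)
    have e1 := ex r hr
    have e2 := ex (z * r) (mul_ne_zero hz0 hr)
    have hcr : cj r * h y w₀ = 1 := by rw [cj_cj hF, inv_mul_cancel₀ hc]
    have hrc : r * h w₀ y = 1 := by
      have := congrArg cj hcr
      rwa [map_mul, cj_cj hF, cj_h hF, map_one] at this
    rw [map_mul] at e2
    have h3 : cj z + z = 2 := by
      linear_combination e2 - e1 - (r * cj r * h w₀ w₀) * hzn - (cj z - 1) * hcr - (z - 1) * hrc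
    refine hz2 ?_
    have h4 : (z - 1) ^ 2 = 0 := by linear_combination z * h3 - hzn
    have h5 := sub_eq_zero.1 (eq_zero_of_pow_eq_zero h4)
    rw [h5]; ring
  have h1 : C (y + r • w₀) := haniso _ (add_mem hy (X.smul_mem r hw₀)) hne
  have h2 : C (r • w₀) := haniso _ (X.smul_mem r hw₀) (by
    rw [h_smul_left, h_smul_right hF]
    exact mul_ne_zero hr (mul_ne_zero ((map_ne_zero (qFrob hF)).2 hr) h0))
  have := hsub _ _ (add_mem hy (X.smul_mem r hw₀)) (X.smul_mem r hw₀) h1 h2
  rwa [add_sub_cancel_right] at this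

/-- Norm one scalars avoid the roots of unity of small order. -/
theorem exists_norm_one_pow_ne {m : ℕ} (hm0 : 0 < m) (hm : m < q + 1) :
    ∃ a : F, a ≠ 0 ∧ a * cj a = 1 ∧ a ^ m ≠ 1 := by
  classical
  by_contra hcon
  push Not at hcon
  have h3 : Fintype.card {c : F // c ^ (q + 1) = 1} = q + 1 := by
    rw [← Nat.card_eq_fintype_card, natCard_norm_eq hF (one_pow q) one_ne_zero]
  have h2 : Fintype.card {c : F // c ^ (q + 1) = 1} ≤ m := by
    rw [Fintype.card_subtype]
    refine (Finset.card_le_card fun c hc => ?_).trans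
      ((Multiset.toFinset_card_le _).trans (Polynomial.card_nthRoots m (1 : F)))
    have hc' := (Finset.mem_filter.1 hc).2
    have hc0 : c ≠ 0 := fun e => by simp [e] at hc'
    rw [Multiset.mem_toFinset, Polynomial.mem_nthRoots hm0]
    exact hcon c hc0 (by rw [qFrob_apply, ← pow_succ']; exact hc')
  omega

theorem exists_norm_one_ne_one : ∃ a : F, a ≠ 0 ∧ a * cj a = 1 ∧ a ≠ 1 := by
  obtain ⟨a, h0, h1, h2⟩ := exists_norm_one_pow_ne hF (m := 1) Nat.one_pos (by have := two_le_q hF; omega)
  exact ⟨a, h0, h1, by simpa using h2⟩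

/-- A real scalar outside `0, 1`. -/
theorem exists_real_ne_one (hq : 3 ≤ q) : ∃ a : F, a ≠ 0 ∧ a ≠ 1 ∧ cj a = a := by
  classical
  by_contra hcon
  push Not at hcon
  have h1 := HermTotIsoLines.natCard_fixed hF
  rw [Nat.card_eq_fintype_card, Fintype.card_subtype] at h1
  have h2 : (Finset.univ.filter fun c : F => c ^ q = c).card ≤ 2 := by
    refine (Finset.card_le_card fun c hc => ?_).trans (Finset.card_le_two (a := (0 : F)) (b := 1))
    have hc' : cj c = c := by rw [qFrob_apply]; exact (Finset.mem_filter.1 hc).2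
    rcases eq_or_ne c 0 with rfl | h0
    · simp
    rcases eq_or_ne c 1 with rfl | h1'
    · simp
    exact absurd hc' (hcon c h0 h1')
  omega

variable {e f : Fin n → F}

/-- An anisotropic vector orthogonal to the pair and to given orthogonal anisotropic vectors. -/
theorem exists_aniso_perp (P : IsPair (q := q) e f) {k : ℕ} (u : Fin k → V) (hu : ∀ i, u i ∈ wSub q e f)
    (hne : ∀ i, h (u i) (u i) ≠ 0) (horth : ∀ i j, i ≠ j → h (u i) (u j) = 0) (hk : k + 2 < n) :
    ∃ z ∈ wSub q e f, h z z ≠ 0 ∧ ∀ i, h z (u i) = 0 := by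
  classical
  obtain ⟨pr, hpr⟩ : ∃ pr : V → V, ∀ x, pr x =
      wPart (q := q) e f x - ∑ i, (h x (u i) / h (u i) (u i)) • u i := ⟨_, fun x => rfl⟩
  have hmem : ∀ x, pr x ∈ wSub q e f := fun x => hpr x ▸
    sub_mem (wPart_mem hF P x) (Submodule.sum_mem _ fun i _ => Submodule.smul_mem _ _ (hu i))
  have hwx : ∀ x i, h (wPart (q := q) e f x) (u i) = h x (u i) := fun x i => by
    conv_rhs => rw [wPart_eq (q := q) e f x]
    rw [h_add_left, h_add_left, h_smul_left, h_smul_left, h_comm_zero hF (hu i).1, h_comm_zero hF (hu i).2]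
    ring
  have hsum : ∀ (g : Fin k → F) j, h (∑ i, g i • u i) (u j) = g j * h (u j) (u j) := fun g j => by
    rw [h_sum_left hF, Finset.sum_eq_single j (fun i _ hij => by rw [h_smul_left, horth i j hij, mul_zero])
      (by simp), h_smul_left]
  have hperp : ∀ x i, h (pr x) (u i) = 0 := fun x i => by
    rw [hpr, h_sub_left, hwx, hsum, div_mul_cancel₀ _ (hne i), sub_self]
  obtain ⟨x, hx⟩ : ∃ x, pr x ≠ 0 := by
    by_contra hall
    push Not at hall
    let v : Fin 2 ⊕ Fin k → V := Sum.elim ![e, f] u
    have htop : (⊤ : Submodule F V) ≤ Submodule.span F (Set.range v) := fun x _ => by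
      have h1 := sub_eq_zero.1 ((hpr x).symm.trans (hall x))
      rw [wPart_eq (q := q) e f x, h1]
      refine add_mem (add_mem (Submodule.smul_mem _ _ ?_) (Submodule.smul_mem _ _ ?_))
        (Submodule.sum_mem _ fun i _ => Submodule.smul_mem _ _ ?_)
      · exact Submodule.subset_span ⟨Sum.inl 0, rfl⟩
      · exact Submodule.subset_span ⟨Sum.inl 1, rfl⟩
      · exact Submodule.subset_span ⟨Sum.inr i, rfl⟩
    have := finrank_range_le_card (R := F) v
    rw [Set.finrank, top_le_iff.1 htop] at this
    simp at this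
    omega
  obtain ⟨y, hy⟩ := exists_h_eq hF hx (1 : F)
  have hxy : h (pr x) (pr y) = 1 := by
    rw [hpr y, h_sub_right hF]
    have h1 : h (pr x) (wPart (q := q) e f y) = h (pr x) y := by
      conv_rhs => rw [wPart_eq (q := q) e f y]
      rw [h_add_right hF, h_add_right hF, h_smul_right hF, h_smul_right hF, (hmem x).1, (hmem x).2]
      ring
    have h2 : h (pr x) (∑ i, (h y (u i) / h (u i) (u i)) • u i) = 0 := by
      refine h_comm_zero hF ?_
      rw [h_sum_left hF]
      exact Finset.sum_eq_zero fun i _ => by rw [h_smul_left, h_comm_zero hF (hperp x i), mul_zero]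
    rw [h1, h2, hy, sub_zero]
  rcases exists_aniso_combo hF (z := pr x) (z' := pr y) (by rw [hxy]; exact one_ne_zero) with h1 | h1 | ⟨r, h1⟩
  · exact ⟨_, hmem x, h1, hperp x⟩
  · exact ⟨_, hmem y, h1, hperp y⟩
  · exact ⟨_, add_mem (hmem x) (Submodule.smul_mem _ r (hmem y)), h1, fun i => by
      rw [h_add_left, h_smul_left, hperp, hperp, mul_zero, add_zero]⟩

/-- A unit vector in the line of an anisotropic one. -/
theorem exists_unit {z : V} (hz : h z z ≠ 0) : ∃ c : F, c ≠ 0 ∧ h (c • z) (c • z) = 1 := by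
  obtain ⟨c, hc⟩ := exists_norm hF (a := (h z z)⁻¹) (by rw [map_inv₀, cj_h_self hF])
  refine ⟨c, fun e => inv_ne_zero hz (by rw [← hc, e, zero_mul]), ?_⟩
  rw [h_smul_left, h_smul_right hF, ← mul_assoc, hc, inv_mul_cancel₀ hz]

/-- An orthonormal family orthogonal to the pair. -/
structure Onb (q : ℕ) (e f : V) {k : ℕ} (u : Fin k → V) : Prop where
  mem : ∀ i, u i ∈ wSub q e f
  one : ∀ i, hermForm n F q (u i) (u i) = 1
  orth : ∀ i j, i ≠ j → hermForm n F q (u i) (u j) = 0

theorem exists_onb_le (P : IsPair (q := q) e f) : ∀ k, k + 2 ≤ n → ∃ u : Fin k → V, Onb q e f u := by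
  intro k
  induction k with
  | zero => exact fun _ => ⟨Fin.elim0, fun i => i.elim0, fun i => i.elim0, fun i => i.elim0⟩
  | succ k ih =>
    intro hk
    obtain ⟨u, O⟩ := ih (by omega)
    obtain ⟨z, hzm, hz, hzu⟩ := exists_aniso_perp hF P u O.mem (fun i => by rw [O.one i]; exact one_ne_zero)
      O.orth (by omega)
    obtain ⟨c, -, hc⟩ := exists_unit hF hz
    refine ⟨Fin.cons (c • z) u, fun i => ?_, fun i => ?_, fun i j hij => ?_⟩
    · cases i using Fin.cases with
      | zero => simpa using Submodule.smul_mem _ c hzm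
      | succ i => simpa using O.mem i
    · cases i using Fin.cases with
      | zero => simpa using hc
      | succ i => simpa using O.one i
    · cases i using Fin.cases with
      | zero =>
        cases j using Fin.cases with
        | zero => exact absurd rfl hij
        | succ j => simp [h_smul_left, hzu j]
      | succ i =>
        cases j using Fin.cases with
        | zero => simp [h_smul_right hF, h_comm_zero hF (hzu i)]
        | succ j => simpa using O.orth i j (fun e => hij (by rw [e]))

theorem exists_onb (P : IsPair (q := q) e f) (hn : 2 ≤ n) : ∃ u : Fin (n - 2) → V, Onb q e f u :=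
  exists_onb_le hF P (n - 2) (by omega)

/-- A full orthonormal family spans. -/
theorem Onb.expand (P : IsPair (q := q) e f) (hn : 2 ≤ n) {u : Fin (n - 2) → V} (O : Onb q e f u) {x : V}
    (hx : x ∈ wSub q e f) : x = ∑ i, h x (u i) • u i := by
  classical
  let v : Fin 2 ⊕ Fin (n - 2) → V := Sum.elim ![e, f] u
  have hli : LinearIndependent F v := by
    rw [Fintype.linearIndependent_iff]
    intro g hg
    rw [Fintype.sum_sum_type, Fin.sum_univ_two] at hg
    simp only [v, Sum.elim_inl, Sum.elim_inr, Matrix.cons_val_zero, Matrix.cons_val_one] at hg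
    have key : ∀ y, g (Sum.inl 0) * h e y + g (Sum.inl 1) * h f y + ∑ i, g (Sum.inr i) * h (u i) y = 0 :=
      fun y => by
        have := congrArg (fun z => h z y) hg
        simpa [h_add_left, h_smul_left, h_sum_left hF, h_zero_left] using this
    rintro (i | j)
    · fin_cases i
      · simpa [P.ef, P.ff, (O.mem _).2] using key f
      · simpa [P.ee, P.fe hF, (O.mem _).1] using key e
    · have := key (u j)
      rw [h_comm_zero hF (O.mem j).1, h_comm_zero hF (O.mem j).2, mul_zero, mul_zero, zero_add, zero_add,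
        Finset.sum_eq_single j (fun i _ hij => by rw [O.orth i j hij, mul_zero]) (by simp), O.one j,
        mul_one] at this
      exact this
  have htop := hli.span_eq_top_of_card_eq_finrank' (by simp; omega)
  refine sub_eq_zero.1 (eq_zero_of_h hF fun y => ?_)
  have hy : y ∈ Submodule.span F (Set.range v) := htop ▸ Submodule.mem_top
  set r := x - ∑ i, h x (u i) • u i with hr
  have hrW : r ∈ wSub q e f := sub_mem hx (Submodule.sum_mem _ fun i _ => Submodule.smul_mem _ _ (O.mem i))
  have hru : ∀ j, h r (u j) = 0 := fun j => by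
    rw [hr, h_sub_left, h_sum_left hF, Finset.sum_eq_single j
      (fun i _ hij => by rw [h_smul_left, O.orth i j hij, mul_zero]) (by simp), h_smul_left, O.one j, mul_one,
      sub_self]
  induction hy using Submodule.span_induction with
  | mem z hz =>
    obtain ⟨i | j, rfl⟩ := hz
    · fin_cases i
      · exact hrW.1
      · exact hrW.2
    · exact hru j
  | zero => exact h_zero_right hF r
  | add a b _ _ ha hb => rw [h_add_right hF, ha, hb, add_zero]
  | smul c a _ ha => rw [h_smul_right hF, ha, mul_zero]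

/-- Additive induction along a full orthonormal family. -/
theorem Onb.induction (P : IsPair (q := q) e f) (hn : 2 ≤ n) {u : Fin (n - 2) → V} (O : Onb q e f u) {C : V → Prop}
    (h0 : C 0) (hu : ∀ (a : F) i, C (a • u i))
    (hadd : ∀ x y, x ∈ wSub q e f → y ∈ wSub q e f → C x → C y → C (x + y)) {x : V} (hx : x ∈ wSub q e f) :
    C x := by
  rw [O.expand hF P hn hx]
  suffices key : ∀ s : Finset (Fin (n - 2)),
      C (∑ i ∈ s, h x (u i) • u i) ∧ (∑ i ∈ s, h x (u i) • u i) ∈ wSub q e f from (key _).1
  intro s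
  induction s using Finset.cons_induction with
  | empty => simpa using h0
  | cons i s hi ih =>
    rw [Finset.sum_cons]
    have hm := Submodule.smul_mem _ (h x (u i)) (O.mem i)
    exact ⟨hadd _ _ hm ih.2 (hu _ i) ih.1, add_mem hm ih.2⟩

/-- An anisotropic vector orthogonal to a given one. -/
theorem exists_aniso_perp_vec (P : IsPair (q := q) e f) (hn : 5 ≤ n) {x : V} (hx : x ∈ wSub q e f) :
    ∃ z ∈ wSub q e f, h z z ≠ 0 ∧ h z x = 0 := by
  rcases eq_or_ne x 0 with rfl | hx0
  · obtain ⟨z, hz, hz0, -⟩ := exists_aniso_perp hF P (k := 0) Fin.elim0 (fun i => i.elim0) (fun i => i.elim0)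
      (fun i => i.elim0) (by omega)
    exact ⟨z, hz, hz0, h_zero_right hF z⟩
  by_cases hxx : h x x = 0
  · obtain ⟨y, hy, hyy, hxy⟩ := wSub_partner hF P hx hx0 hxx
    have hyx : h y x = 1 := by rw [← cj_h hF, hxy, map_one]
    obtain ⟨t, ht⟩ := PSUAut.exists_trace_eq hF (a := (1 : F)) (map_one _)
    set v₁ := t • x + y with hv₁
    have h1x : h v₁ x = 1 := by rw [hv₁, h_add_left, h_smul_left, hxx, hyx, mul_zero, zero_add]
    have h11 : h v₁ v₁ = 1 := by
      rw [hv₁, h_add_left, h_add_right hF, h_add_right hF, h_smul_left, h_smul_left, h_smul_right hF,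
        h_smul_right hF, hxx, hyy, hxy, hyx]
      linear_combination ht
    have hx1 : h x v₁ = 1 := by rw [← cj_h hF, h1x, map_one]
    set v₂ := x - v₁ with hv₂
    have h22 : h v₂ v₂ = -1 := by
      rw [hv₂, h_sub_left, h_sub_right hF, h_sub_right hF, hxx, h1x, hx1, h11]; ring
    have h12 : h v₁ v₂ = 0 := by rw [hv₂, h_sub_right hF, h1x, h11, sub_self]
    have hm1 : v₁ ∈ wSub q e f := add_mem (Submodule.smul_mem _ t hx) hy
    obtain ⟨z, hz, hz0, hzu⟩ := exists_aniso_perp hF P ![v₁, v₂]
      (fun i => by fin_cases i; exacts [hm1, sub_mem hx hm1])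
      (fun i => by fin_cases i <;> simp [h11, h22])
      (fun i j hij => by
        have h21 := h_comm_zero hF h12
        fin_cases i <;> fin_cases j
        · exact absurd rfl hij
        · exact h12
        · exact h21
        · exact absurd rfl hij) (by omega)
    refine ⟨z, hz, hz0, ?_⟩
    have e : x = v₁ + v₂ := by rw [hv₂]; abel
    rw [e, h_add_right hF]
    have a := hzu 0
    have b := hzu 1
    simp at a b
    rw [a, b, add_zero]
  · obtain ⟨z, hz, hz0, hzu⟩ := exists_aniso_perp hF P ![x] (fun i => by fin_cases i; exact hx)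
      (fun i => by fin_cases i; exact hxx) (fun i j hij => absurd (Subsingleton.elim i j) hij) (by omega)
    exact ⟨z, hz, hz0, hzu 0⟩

end Cfsg.Agent.Classical.UnitMult
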