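import Cfsg.Agent.Lib.Classical.UnitMultGeom
import Cfsg.Agent.Lib.Classical.UnitMultCentral

/-!
A central cover of `SU_n(q)`: the commutators of the lifts of a Heisenberg group meet the kernel trivially.
-/

set_option autoImplicit false
set_option linter.unusedSectionVars false

namespace Cfsg.Agent.Classical.UnitMult

open Matrix Cfsg.Agent.Classical Cfsg.Agent.Classical.PSUAut
open scoped commutatorElement

/-- A central extension. -/
structure Cov {E H : Type*} [Group E] [Group H] (π : E →* H) : Prop where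
  surj : Function.Surjective π
  cen : π.ker ≤ Subgroup.center E

theorem Cov.commute {E H : Type*} [Group E] [Group H] {π : E →* H} (C : Cov π) {z : E} (hz : π z = 1) (x : E) :
    Commute x z := ker_comm π C.cen hz x

variable {F : Type*} [Field F] [Fintype F] {q n : ℕ}

local notation "h" => hermForm n F q

variable (hF : Fintype.card F = q ^ 2) {E : Type*} [Group E] {π : E →* SU n F q}

local notation "cj" => qFrob hF

/-- A lift of a Heisenberg element with the given vector. -/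
def IsQL (π : E →* SU n F q) (e w : Fin n → F) (x : E) : Prop :=
  ∃ (c : F) (H : EOK (q := q) e w c), π x = eSU hF H

open scoped _root_.Classical in
/-- A chosen lift. -/
noncomputable def qL (C : Cov π) (e w : Fin n → F) : E :=
  if hex : ∃ c, EOK (q := q) e w c then lf π C.surj (eSU hF hex.choose_spec) else 1

/-- The commutator of two lifts. -/
noncomputable def cw (C : Cov π) (e w w' : Fin n → F) : E := ⁅qL hF C e w, qL hF C e w'⁆

/-- The group generated by the commutators. -/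
noncomputable def zsub (C : Cov π) (e f : Fin n → F) : Subgroup E :=
  Subgroup.closure {g | ∃ x ∈ wSub q e f, ∃ y ∈ wSub q e f, g = cw hF C e x y}

variable {e f : Fin n → F}

include hF

theorem qL_spec (C : Cov π) (P : IsPair (q := q) e f) {w : Fin n → F} (hw : w ∈ wSub q e f) :
    IsQL hF π e w (qL hF C e w) := by
  have h' : ∃ c, EOK (q := q) e w c := EOK.exists_c hF P.ee hw.1
  refine ⟨h'.choose, h'.choose_spec, ?_⟩
  rw [qL, dif_pos h', π_lf]

theorem eSU_inv {w : Fin n → F} {c : F} (H : EOK (q := q) e w c) :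
    ∃ H' : EOK (q := q) e (-w) (cj c), (eSU hF H)⁻¹ = eSU hF H' := by
  have hc := H.cc
  rw [cj_pow hF] at hc
  have H' : EOK (q := q) e (-w) (cj c) := by
    refine ⟨H.ee, by rw [h_neg_left, H.we, neg_zero], ?_⟩
    rw [cj_pow hF, cj_cj hF, h_neg_left, h_neg_right hF]
    linear_combination hc
  refine ⟨H', inv_eq_of_mul_eq_one_right ?_⟩
  rw [eSU_mul, ← eSU_zero hF H.ee]
  refine eSU_congr hF _ _ (add_neg_cancel w) ?_
  rw [h_neg_left]
  linear_combination hc

variable {w w' : Fin n → F} {x y : E}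

theorem IsQL.mul (hx : IsQL hF π e w x) (hy : IsQL hF π e w' y) : IsQL hF π e (w + w') (x * y) := by
  obtain ⟨c, H, hx⟩ := hx
  obtain ⟨c', H', hy⟩ := hy
  exact ⟨_, H.mul hF H', by rw [map_mul, hx, hy, eSU_mul]⟩

theorem IsQL.inv (hx : IsQL hF π e w x) : IsQL hF π e (-w) x⁻¹ := by
  obtain ⟨c, H, hx⟩ := hx
  obtain ⟨H', h'⟩ := eSU_inv hF H
  exact ⟨_, H', by rw [map_inv, hx, h']⟩

theorem IsQL.congr (hx : IsQL hF π e w x) (hxy : π x = π y) : IsQL hF π e w y := by
  obtain ⟨c, H, hx⟩ := hx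
  exact ⟨c, H, hxy ▸ hx⟩

theorem IsQL.same (hx : IsQL hF π e w x) (hy : IsQL hF π e w y) : IsQL hF π e 0 (x⁻¹ * y) := by
  simpa using (hx.inv hF).mul hF hy

/-- The image of a commutator. -/
theorem IsQL.comm_val (hx : IsQL hF π e w x) (hy : IsQL hF π e w' y) :
    ∃ H : EOK (q := q) e 0 (h w w' - h w' w), π ⁅x, y⁆ = eSU hF H := by
  obtain ⟨c, H, hx⟩ := hx
  obtain ⟨c', H', hy⟩ := hy
  exact ⟨eok_zero_of_skew hF H.ee (comm_skew hF w w'), by rw [map_commutatorElement, hx, hy, eSU_comm]⟩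

theorem IsQL.comm (hx : IsQL hF π e w x) (hy : IsQL hF π e w' y) : IsQL hF π e 0 ⁅x, y⁆ := by
  obtain ⟨H, hH⟩ := hx.comm_val hF hy
  exact ⟨_, H, hH⟩

theorem commute_val (hx : IsQL hF π e w x) (hy : IsQL hF π e 0 y) : Commute (π x) (π y) := by
  obtain ⟨c, H, hx⟩ := hx
  obtain ⟨c', H', hy⟩ := hy
  rw [commute_iff_eq, hx, hy, eSU_mul, eSU_mul]
  refine eSU_congr hF _ _ (by rw [zero_add, add_zero]) ?_
  rw [h_zero_left, h_zero_right hF]; ring

/-- The action of an element fixing the two lines. -/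
theorem IsQL.conj (hx : IsQL hF π e w x) {g : E} {a : F} (hge : suVal (π g) *ᵥ e = a • e) :
    IsQL hF π e (cj a • (suVal (π g) *ᵥ w)) (g * x * g⁻¹) := by
  obtain ⟨c, H, hx⟩ := hx
  obtain ⟨H', h'⟩ := eSU_conj_scale hF hge H
  exact ⟨_, H', by rw [map_mul, map_mul, map_inv, hx, h']⟩

section Base

variable (C : Cov π) (P : IsPair (q := q) e f) (hn : 3 ≤ n)
include C P hn

theorem exists_pair_skew {d : F} (hd : d + cj d = 0) :
    ∃ a ∈ wSub q e f, ∃ b ∈ wSub q e f, h a b - h b a = d := by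
  obtain ⟨u, O⟩ := exists_onb hF P (by omega)
  obtain ⟨k, hk⟩ := PSUAut.exists_trace_eq hF (a := (1 : F)) (map_one _)
  let i : Fin (n - 2) := ⟨0, by omega⟩
  refine ⟨(d * k) • u i, Submodule.smul_mem _ _ (O.mem i), u i, O.mem i, ?_⟩
  rw [h_smul_left, h_smul_right hF, O.one i, map_mul, show cj d = -d by linear_combination hd]
  linear_combination d * hk

/-- The lifts of the centre commute. -/
theorem zc_commute {x y : E} (hx : IsQL hF π e 0 x) (hy : IsQL hF π e 0 y) : Commute x y := by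
  obtain ⟨d, H, hy'⟩ := id hy
  have hd : d + cj d = 0 := by
    have := H.cc
    rwa [cj_pow hF, h_zero_left, add_zero] at this
  obtain ⟨a, ha, b, hb, hab⟩ := exists_pair_skew hF C P hn hd
  obtain ⟨H2, h2⟩ := (qL_spec hF C P ha).comm_val hF (qL_spec hF C P hb)
  have h3 : Commute x ⁅qL hF C e a, qL hF C e b⁆ := commute_comm_lift π C.cen
    (commute_val hF (qL_spec hF C P ha) hx) (commute_val hF (qL_spec hF C P hb) hx)
  refine commute_congr π C.cen rfl ?_ h3
  rw [h2, hy']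
  exact eSU_congr hF _ _ rfl hab

/-- A lift of the centre commutes with all lifts once it commutes with one of them. -/
theorem zq_of_one {z x y : E} (hz : IsQL hF π e 0 z) (hx : IsQL hF π e w x) (hy : IsQL hF π e w y)
    (hc : Commute z x) : Commute z y := by
  rw [show y = x * (x⁻¹ * y) by group]
  exact hc.mul_right (zc_commute hF C P hn hz (hx.same hF hy))

theorem zq_mover {w₁ : Fin n → F} (hw₁ : w₁ ∈ wSub q e f) {s : SU n F q} {a γ : F} (ha : a * cj a = 1)
    (hse : suVal s *ᵥ e = a • e) (hsw : cj a • (suVal s *ᵥ w₁) = γ • w₁) {z y : E} (hz : IsQL hF π e 0 z)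
    (hy : IsQL hF π e ((γ - 1) • w₁) y) : Commute z y := by
  obtain ⟨g, rfl⟩ := C.surj s
  set x := qL hF C e w₁ with hxdef
  have hx := qL_spec hF C P hw₁
  rw [← hxdef] at hx
  have hx' := hx.conj hF hse
  rw [hsw] at hx'
  set x' := g * x * g⁻¹ with hx'def
  have hzfix : π (g * z * g⁻¹) = π z := by
    obtain ⟨c, H, hz⟩ := hz
    obtain ⟨H', h'⟩ := eSU_conj_scale hF hse H
    rw [map_mul, map_mul, map_inv, hz, h']
    exact eSU_congr hF _ _ (by rw [Matrix.mulVec_zero, smul_zero]) (by rw [ha, one_mul])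
  have hzx : π ⁅z, x⁆ = 1 := by
    rw [map_commutatorElement, commutatorElement_eq_one_iff_commute]
    exact (commute_val hF hx hz).symm
  have e1 : ⁅z, x⁆ = ⁅z, x'⁆ := by
    calc ⁅z, x⁆ = g * ⁅z, x⁆ * g⁻¹ := by rw [(C.commute hzx g).eq, mul_inv_cancel_right]
      _ = ⁅g * z * g⁻¹, x'⁆ := conjugate_commutatorElement _ _ _
      _ = _ := comm_congr π C.cen hzfix rfl
  set y₀ := x⁻¹ * x' with hy₀
  have hy₀' : IsQL hF π e ((γ - 1) • w₁) y₀ := by
    have := (hx.inv hF).mul hF hx'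
    rwa [show -w₁ + γ • w₁ = (γ - 1) • w₁ by module] at this
  refine zq_of_one hF C P hn hz hy₀' hy ?_
  have hzy : π ⁅z, y₀⁆ = 1 := by
    rw [map_commutatorElement, commutatorElement_eq_one_iff_commute]
    exact (commute_val hF hy₀' hz).symm
  rw [show x' = x * y₀ by rw [hy₀]; group,
    show ⁅z, x * y₀⁆ = ⁅z, x⁆ * (x * ⁅z, y₀⁆ * x⁻¹) by simp only [commutatorElement_def]; group,
    (C.commute hzy x).eq, mul_inv_cancel_right, left_eq_mul] at e1
  exact commutatorElement_eq_one_iff_commute.1 e1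

variable (hgen : 4 ≤ n ∨ 3 ≤ q)
include hgen

theorem exists_mover {w₁ : Fin n → F} (hw₁ : w₁ ∈ wSub q e f) (h1 : h w₁ w₁ ≠ 0) :
    ∃ (s : SU n F q) (a γ : F), a * cj a = 1 ∧ γ ≠ 1 ∧ suVal s *ᵥ e = a • e ∧
      cj a • (suVal s *ᵥ w₁) = γ • w₁ := by
  by_cases h4 : 4 ≤ n
  · obtain ⟨z, hz, hz0, hzw⟩ := exists_aniso_perp hF P ![w₁] (fun i => by fin_cases i; exact hw₁)
      (fun i => by fin_cases i; exact h1) (fun i j hij => absurd (Subsingleton.elim i j) hij) (by omega)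
    obtain ⟨ζ, hζ0, hζ, hζ1⟩ := exists_norm_one_ne_one hF
    obtain ⟨s, hse, -, hsw, -, -⟩ := exists_su_scale hF P (a := 1) (m₁ := ζ) (m₂ := ζ⁻¹) one_ne_zero hw₁ hz h1
      hz0 (h_comm_zero hF (hzw 0)) hζ (by rw [map_inv₀, ← mul_inv, hζ, inv_one])
      (by rw [map_one, one_mul, mul_inv_cancel₀ hζ0])
    exact ⟨s, 1, ζ, by rw [map_one, one_mul], hζ1, hse, by rw [hsw, map_one, one_smul]⟩
  · obtain ⟨a, ha0, ha, ha3⟩ := exists_norm_one_pow_ne hF (m := 3) (by norm_num) (by omega)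
    obtain ⟨s, hse, -, hsw, -⟩ := exists_su_scale_one hF P ha0 hw₁ h1
    have hca : cj a = a⁻¹ := eq_inv_of_mul_eq_one_right ha
    refine ⟨s, a, (a ^ 3)⁻¹, ha, fun e => ha3 (inv_eq_one.1 e), hse, ?_⟩
    rw [hsw, smul_smul, hca]
    congr 1
    field_simp

/-- A lift of the centre commutes with the lifts of the Heisenberg group. -/
theorem zq_commute {w : Fin n → F} (hw : w ∈ wSub q e f) {z x : E} (hz : IsQL hF π e 0 z)
    (hx : IsQL hF π e w x) : Commute z x := by
  obtain ⟨u, O⟩ := exists_onb hF P (by omega)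
  revert x
  refine O.induction hF P (by omega) (C := fun w => ∀ {x : E}, IsQL hF π e w x → Commute z x) ?_ ?_ ?_ hw
  · intro x hx; exact zc_commute hF C P hn hz hx
  · intro r i x hx
    rcases eq_or_ne r 0 with rfl | hr
    · rw [zero_smul] at hx; exact zc_commute hF C P hn hz hx
    have hr1 : h (r • u i) (r • u i) ≠ 0 := by
      rw [h_smul_left, h_smul_right hF, O.one i, mul_one]
      exact mul_ne_zero hr ((map_ne_zero (qFrob hF)).2 hr)
    obtain ⟨s, a, γ, ha, hγ, hse, hsw⟩ := exists_mover hF C P hn hgen (Submodule.smul_mem _ r (O.mem i)) hr1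
    have hs' : cj a • (suVal s *ᵥ ((γ - 1)⁻¹ • r • u i)) = γ • ((γ - 1)⁻¹ • r • u i) := by
      rw [Matrix.mulVec_smul, smul_comm, hsw, smul_comm]
    refine zq_mover hF C P hn (Submodule.smul_mem _ _ (Submodule.smul_mem _ r (O.mem i))) ha hse hs' hz ?_
    rwa [smul_smul (γ - 1), mul_inv_cancel₀ (sub_ne_zero.2 hγ), one_smul]
  · intro a b ha hb iha ihb x hx
    have hab := (qL_spec hF C P ha).mul hF (qL_spec hF C P hb)
    exact zq_of_one hF C P hn hz hab hx ((iha (qL_spec hF C P ha)).mul_right (ihb (qL_spec hF C P hb)))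

theorem comm_eq {x y : E} (hw : w ∈ wSub q e f) (hw' : w' ∈ wSub q e f) (hx : IsQL hF π e w x)
    (hy : IsQL hF π e w' y) : ⁅x, y⁆ = cw hF C e w w' := by
  obtain ⟨a, ha⟩ : ∃ a, a = (qL hF C e w)⁻¹ * x := ⟨_, rfl⟩
  obtain ⟨b, hb⟩ : ∃ b, b = (qL hF C e w')⁻¹ * y := ⟨_, rfl⟩
  have ha' : IsQL hF π e 0 a := ha ▸ (qL_spec hF C P hw).same hF hx
  have hb' : IsQL hF π e 0 b := hb ▸ (qL_spec hF C P hw').same hF hy
  have h1 := zq_commute hF C P hn hgen hw' ha' (qL_spec hF C P hw')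
  have h2 : Commute a b := zc_commute hF C P hn ha' hb'
  have h3 := zq_commute hF C P hn hgen hw hb' (qL_spec hF C P hw)
  rw [cw, show x = qL hF C e w * a by rw [ha]; group, show y = qL hF C e w' * b by rw [hb]; group]
  generalize qL hF C e w = u at h3
  generalize qL hF C e w' = v at h1
  rw [commutatorElement_def, commutatorElement_def]
  calc u * a * (v * b) * (u * a)⁻¹ * (v * b)⁻¹
      = u * (a * (v * b)) * a⁻¹ * u⁻¹ * b⁻¹ * v⁻¹ := by group
    _ = u * v * (b * u⁻¹) * b⁻¹ * v⁻¹ := by rw [(h1.mul_right h2).eq]; group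
    _ = _ := by rw [h3.inv_right.eq]; group

theorem cw_mem0 (hw : w ∈ wSub q e f) (hw' : w' ∈ wSub q e f) : IsQL hF π e 0 (cw hF C e w w') :=
  (qL_spec hF C P hw).comm hF (qL_spec hF C P hw')

theorem cw_val (hw : w ∈ wSub q e f) (hw' : w' ∈ wSub q e f) :
    ∃ H : EOK (q := q) e 0 (h w w' - h w' w), π (cw hF C e w w') = eSU hF H :=
  (qL_spec hF C P hw).comm_val hF (qL_spec hF C P hw')

theorem cw_add_left {a b c : Fin n → F} (ha : a ∈ wSub q e f) (hb : b ∈ wSub q e f) (hc : c ∈ wSub q e f) :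
    cw hF C e (a + b) c = cw hF C e a c * cw hF C e b c := by
  rw [← comm_eq hF C P hn hgen (add_mem ha hb) hc ((qL_spec hF C P ha).mul hF (qL_spec hF C P hb))
    (qL_spec hF C P hc)]
  have hz := cw_mem0 hF C P hn hgen hb hc
  rw [show ⁅qL hF C e a * qL hF C e b, qL hF C e c⁆ =
    qL hF C e a * cw hF C e b c * (qL hF C e a)⁻¹ * cw hF C e a c by
      simp only [cw, commutatorElement_def]; group,
    ← (zq_commute hF C P hn hgen ha hz (qL_spec hF C P ha)).eq, mul_inv_cancel_right,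
    (zc_commute hF C P hn hz (cw_mem0 hF C P hn hgen ha hc)).eq]

omit hgen in
theorem cw_swap (a b : Fin n → F) : (cw hF C e a b)⁻¹ = cw hF C e b a := commutatorElement_inv _ _

theorem cw_add_right {a b c : Fin n → F} (ha : a ∈ wSub q e f) (hb : b ∈ wSub q e f) (hc : c ∈ wSub q e f) :
    cw hF C e a (b + c) = cw hF C e a b * cw hF C e a c := by
  rw [← cw_swap hF C P hn, cw_add_left hF C P hn hgen hb hc ha, _root_.mul_inv_rev, cw_swap hF C P hn,
    cw_swap hF C P hn, (zc_commute hF C P hn (cw_mem0 hF C P hn hgen ha hc) (cw_mem0 hF C P hn hgen ha hb)).eq]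

omit hgen in
theorem cw_self (a : Fin n → F) : cw hF C e a a = 1 := commutatorElement_self _

theorem cw_zero_left {b : Fin n → F} (hb : b ∈ wSub q e f) : cw hF C e 0 b = 1 := by
  have h1 := cw_add_left hF C P hn hgen (zero_mem _) (zero_mem _) hb
  rwa [add_zero, left_eq_mul] at h1

theorem cw_zero_right {a : Fin n → F} (ha : a ∈ wSub q e f) : cw hF C e a 0 = 1 := by
  rw [← cw_swap hF C P hn, cw_zero_left hF C P hn hgen ha, inv_one]

theorem cw_neg_left {a b : Fin n → F} (ha : a ∈ wSub q e f) (hb : b ∈ wSub q e f) :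
    cw hF C e (-a) b = (cw hF C e a b)⁻¹ := by
  refine eq_inv_of_mul_eq_one_left ?_
  rw [← cw_add_left hF C P hn hgen (neg_mem ha) ha hb, neg_add_cancel, cw_zero_left hF C P hn hgen hb]

theorem cw_sub_left {a b c : Fin n → F} (ha : a ∈ wSub q e f) (hb : b ∈ wSub q e f) (hc : c ∈ wSub q e f) :
    cw hF C e (a - b) c = cw hF C e a c * (cw hF C e b c)⁻¹ := by
  rw [sub_eq_add_neg, cw_add_left hF C P hn hgen ha (neg_mem hb) hc, cw_neg_left hF C P hn hgen hb hc]

theorem cw_conj (hw : w ∈ wSub q e f) (hw' : w' ∈ wSub q e f) {g : E} {a b : F} (ha : a ≠ 0) (hb : b ≠ 0)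
    (hge : suVal (π g) *ᵥ e = a • e) (hgf : suVal (π g) *ᵥ f = b • f) :
    g * cw hF C e w w' * g⁻¹ = cw hF C e (cj a • (suVal (π g) *ᵥ w)) (cj a • (suVal (π g) *ᵥ w')) := by
  rw [cw, conjugate_commutatorElement]
  exact comm_eq hF C P hn hgen (Submodule.smul_mem _ _ (su_wSub hF hge hgf ha hb hw))
    (Submodule.smul_mem _ _ (su_wSub hF hge hgf ha hb hw')) ((qL_spec hF C P hw).conj hF hge)
    ((qL_spec hF C P hw').conj hF hge)

/-- A commutator in the kernel does not change. -/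
theorem cw_fix (hw : w ∈ wSub q e f) (hw' : w' ∈ wSub q e f) (hsym : h w w' = h w' w) {s : SU n F q} {a b : F}
    (ha : a ≠ 0) (hb : b ≠ 0) (hse : suVal s *ᵥ e = a • e) (hsf : suVal s *ᵥ f = b • f) :
    cw hF C e (cj a • (suVal s *ᵥ w)) (cj a • (suVal s *ᵥ w')) = cw hF C e w w' := by
  obtain ⟨g, rfl⟩ := C.surj s
  rw [← cw_conj hF C P hn hgen hw hw' ha hb hse hsf]
  obtain ⟨H, hH⟩ := cw_val hF C P hn hgen hw hw'
  have h1 : π (cw hF C e w w') = 1 := by
    rw [hH, ← eSU_zero hF P.ee]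
    exact eSU_congr hF _ _ rfl (sub_eq_zero.2 hsym)
  rw [(C.commute h1 g).eq, mul_inv_cancel_right]

theorem zsub_conj {g : E} {a b : F} (ha : a ≠ 0) (hb : b ≠ 0) (hge : suVal (π g) *ᵥ e = a • e)
    (hgf : suVal (π g) *ᵥ f = b • f) {x : E} (hx : x ∈ zsub hF C e f) : g * x * g⁻¹ ∈ zsub hF C e f := by
  induction hx using Subgroup.closure_induction with
  | mem x hx =>
    obtain ⟨w, hw, w', hw', rfl⟩ := hx
    refine Subgroup.subset_closure ⟨_, ?_, _, ?_, cw_conj hF C P hn hgen hw hw' ha hb hge hgf⟩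
    · exact Submodule.smul_mem _ _ (su_wSub hF hge hgf ha hb hw)
    · exact Submodule.smul_mem _ _ (su_wSub hF hge hgf ha hb hw')
  | one => simp
  | mul x y _ _ ihx ihy => rw [show g * (x * y) * g⁻¹ = g * x * g⁻¹ * (g * y * g⁻¹) by group]; exact mul_mem ihx ihy
  | inv x _ ih => rw [show g * x⁻¹ * g⁻¹ = (g * x * g⁻¹)⁻¹ by group]; exact inv_mem ih

theorem comm_mem_zsub {x y : E} (hw : w ∈ wSub q e f) (hw' : w' ∈ wSub q e f) (hx : IsQL hF π e w x)
    (hy : IsQL hF π e w' y) : ⁅x, y⁆ ∈ zsub hF C e f :=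
  Subgroup.subset_closure ⟨w, hw, w', hw', comm_eq hF C P hn hgen hw hw' hx hy⟩

theorem zsub_isQL {g : E} (hg : g ∈ zsub hF C e f) : IsQL hF π e 0 g := by
  induction hg using Subgroup.closure_induction with
  | mem g hg =>
    obtain ⟨w, hw, w', hw', rfl⟩ := hg
    exact cw_mem0 hF C P hn hgen hw hw'
  | one => exact ⟨0, EOK.zero hF P.ee, by rw [map_one]; exact (eSU_zero hF P.ee).symm⟩
  | mul a b _ _ iha ihb => simpa using iha.mul hF ihb
  | inv a _ iha => simpa using iha.inv hF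

theorem zsub_surj {d : F} (H : EOK (q := q) e 0 d) : ∃ g ∈ zsub hF C e f, π g = eSU hF H := by
  have hd : d + cj d = 0 := by
    have := H.cc
    rwa [cj_pow hF, h_zero_left, add_zero] at this
  obtain ⟨a, ha, b, hb, hab⟩ := exists_pair_skew hF C P hn hd
  obtain ⟨H', h'⟩ := cw_val hF C P hn hgen ha hb
  exact ⟨_, Subgroup.subset_closure ⟨a, ha, b, hb, rfl⟩, h'.trans (eSU_congr hF _ _ rfl hab)⟩

end Base

section Four

variable (C : Cov π) (P : IsPair (q := q) e f) (hn : 4 ≤ n) (hnq : 5 ≤ n ∨ 4 ≤ q)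
include C P hn hnq

theorem cw_orth_aniso {v v' : Fin n → F} (hv : v ∈ wSub q e f) (hv' : v' ∈ wSub q e f) (h1 : h v v ≠ 0)
    (h2 : h v' v' ≠ 0) (h12 : h v v' = 0) : cw hF C e v v' = 1 := by
  have h21 := h_comm_zero hF h12
  obtain ⟨s, a, γ, ha0, hγ, hse, hsf, hsv, hsv'⟩ : ∃ (s : SU n F q) (a γ : F), a ≠ 0 ∧ γ ≠ 1 ∧
      suVal s *ᵥ e = a • e ∧ suVal s *ᵥ f = (cj a)⁻¹ • f ∧ cj a • (suVal s *ᵥ v) = v ∧
      cj a • (suVal s *ᵥ v') = γ • v' := by
    by_cases h5 : 5 ≤ n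
    · obtain ⟨z, hz, hz0, hzv⟩ := exists_aniso_perp hF P ![v, v'] (fun i => by fin_cases i; exacts [hv, hv'])
        (fun i => by fin_cases i; exacts [h1, h2]) (fun i j hij => by
          fin_cases i <;> fin_cases j
          · exact absurd rfl hij
          · exact h12
          · exact h21
          · exact absurd rfl hij) (by omega)
      obtain ⟨ζ, hζ0, hζ, hζ1⟩ := exists_norm_one_ne_one hF
      obtain ⟨s, hse, hsf, hsv', -, hfix⟩ := exists_su_scale hF P (a := 1) (m₁ := ζ) (m₂ := ζ⁻¹) one_ne_zero hv' hz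
        h2 hz0 (h_comm_zero hF (hzv 1)) hζ (by rw [map_inv₀, ← mul_inv, hζ, inv_one])
        (by rw [map_one, one_mul, mul_inv_cancel₀ hζ0])
      refine ⟨s, 1, ζ, one_ne_zero, hζ1, hse, hsf, ?_, by rw [hsv', map_one, one_smul]⟩
      rw [hfix v hv h12 (h_comm_zero hF (hzv 0)), map_one, one_smul]
    · have hq : 4 ≤ q := hnq.resolve_left h5
      obtain ⟨a, ha0, ha, ha4⟩ := exists_norm_one_pow_ne hF (m := 4) (by norm_num) (by omega)
      have hca : cj a = a⁻¹ := eq_inv_of_mul_eq_one_right ha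
      obtain ⟨s, hse, hsf, hsv, hsv', -⟩ := exists_su_scale hF P (a := a) (m₁ := a) (m₂ := (a ^ 3)⁻¹) ha0 hv hv'
        h1 h2 h12 ha (by rw [map_inv₀, map_pow, hca]; field_simp) (by rw [hca]; field_simp)
      refine ⟨s, a, (a ^ 4)⁻¹, ha0, fun e => ha4 (inv_eq_one.1 e), hse, hsf, ?_, ?_⟩
      · rw [hsv, smul_smul, hca, inv_mul_cancel₀ ha0, one_smul]
      · rw [hsv', smul_smul, hca]
        congr 1
        field_simp
  have hgen : 4 ≤ n ∨ 3 ≤ q := Or.inl hn
  have hb : (cj a)⁻¹ ≠ 0 := inv_ne_zero ((map_ne_zero (qFrob hF)).2 ha0)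
  have hγ' : γ - 1 ≠ 0 := sub_ne_zero.2 hγ
  set v₁ := (γ - 1)⁻¹ • v' with hv₁
  have hv₁m : v₁ ∈ wSub q e f := Submodule.smul_mem _ _ hv'
  have hsv₁ : cj a • (suVal s *ᵥ v₁) = γ • v₁ := by rw [hv₁, Matrix.mulVec_smul, smul_comm, hsv', smul_comm]
  have h3 := cw_fix hF C P (by omega) hgen hv hv₁m
    (by rw [hv₁, h_smul_left, h_smul_right hF, h12, h21, mul_zero, mul_zero]) ha0 hb hse hsf
  rw [hsv, hsv₁, show γ • v₁ = v₁ + v' by
    rw [hv₁, smul_smul, show γ * (γ - 1)⁻¹ = (γ - 1)⁻¹ + 1 by field_simp; ring, add_smul, one_smul],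
    cw_add_right hF C P (by omega) hgen hv hv₁m hv', mul_eq_left] at h3
  exact h3

theorem cw_smul_orth {u u' : Fin n → F} (hu : u ∈ wSub q e f) (hu' : u' ∈ wSub q e f) (h1 : h u u = 1)
    (h2 : h u' u' = 1) (h12 : h u u' = 0) (r r' : F) : cw hF C e (r • u) (r' • u') = 1 := by
  rcases eq_or_ne r 0 with rfl | hr
  · rw [zero_smul, cw_zero_left hF C P (by omega) (Or.inl hn) (Submodule.smul_mem _ _ hu')]
  rcases eq_or_ne r' 0 with rfl | hr'
  · rw [zero_smul, cw_zero_right hF C P (by omega) (Or.inl hn) (Submodule.smul_mem _ _ hu)]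
  refine cw_orth_aniso hF C P hn hnq (Submodule.smul_mem _ _ hu) (Submodule.smul_mem _ _ hu') ?_ ?_ ?_
  · rw [h_smul_left, h_smul_right hF, h1, mul_one]
    exact mul_ne_zero hr ((map_ne_zero (qFrob hF)).2 hr)
  · rw [h_smul_left, h_smul_right hF, h2, mul_one]
    exact mul_ne_zero hr' ((map_ne_zero (qFrob hF)).2 hr')
  · rw [h_smul_left, h_smul_right hF, h12, mul_zero, mul_zero]

/-- Orthogonal lifts commute. -/
theorem cw_orth (h5 : 5 ≤ n) {x y : Fin n → F} (hx : x ∈ wSub q e f) (hy : y ∈ wSub q e f) (hxy : h x y = 0) :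
    cw hF C e x y = 1 := by
  have hgen : 4 ≤ n ∨ 3 ≤ q := Or.inl hn
  have hn3 : 3 ≤ n := by omega
  have mem : ∀ (x z : Fin n → F), z ∈ wSub q e f ⊓ LinearMap.ker (hermB hF n x) ↔ z ∈ wSub q e f ∧ h z x = 0 :=
    fun x z => by rw [Submodule.mem_inf, LinearMap.mem_ker, hermB_apply]
  have step : ∀ x ∈ wSub q e f, h x x ≠ 0 → ∀ y ∈ wSub q e f, h y x = 0 → cw hF C e y x = 1 := by
    intro x hx hxx y hy hyx
    obtain ⟨z, hz, hz0, hzx⟩ := exists_aniso_perp_vec hF P h5 hx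
    refine aniso_induction hF ((mem x z).2 ⟨hz, hzx⟩) hz0 (C := fun y => cw hF C e y x = 1) ?_ ?_ y
      ((mem x y).2 ⟨hy, hyx⟩)
    · intro v hv hvv
      obtain ⟨hv1, hv2⟩ := (mem x v).1 hv
      exact cw_orth_aniso hF C P hn hnq hv1 hx hvv hxx hv2
    · intro a b ha hb h1 h2
      rw [cw_sub_left hF C P hn3 hgen ((mem x a).1 ha).1 ((mem x b).1 hb).1 hx, h1, h2, inv_one, mul_one]
  obtain ⟨z, hz, hz0, hzy⟩ := exists_aniso_perp_vec hF P h5 hy
  refine aniso_induction hF ((mem y z).2 ⟨hz, hzy⟩) hz0 (C := fun x => cw hF C e x y = 1) ?_ ?_ x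
    ((mem y x).2 ⟨hx, hxy⟩)
  · intro v hv hvv
    obtain ⟨hv1, hv2⟩ := (mem y v).1 hv
    rw [← cw_swap hF C P hn3, step v hv1 hvv y hy (h_comm_zero hF hv2), inv_one]
  · intro a b ha hb h1 h2
    rw [cw_sub_left hF C P hn3 hgen ((mem y a).1 ha).1 ((mem y b).1 hb).1 hy, h1, h2, inv_one, mul_one]

theorem cw_exch {u u' : Fin n → F} (hu : u ∈ wSub q e f) (hu' : u' ∈ wSub q e f) (h1 : h u u = 1)
    (h2 : h u' u' = 1) (h12 : h u u' = 0) {a c d : F} (hd : d ≠ 0)
    (hside : 5 ≤ n ∨ c * cj c + d * cj d ≠ 0) :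
    cw hF C e (a • u) (c • u) = (cw hF C e ((-(a * cj c) / cj d) • u') (d • u'))⁻¹ := by
  have hgen : 4 ≤ n ∨ 3 ≤ q := Or.inl hn
  have hn3 : 3 ≤ n := by omega
  have h21 := h_comm_zero hF h12
  have hcd : cj d ≠ 0 := (map_ne_zero (qFrob hF)).2 hd
  set b := -(a * cj c) / cj d with hb
  have mu : ∀ r : F, r • u ∈ wSub q e f := fun r => Submodule.smul_mem _ _ hu
  have mu' : ∀ r : F, r • u' ∈ wSub q e f := fun r => Submodule.smul_mem _ _ hu'
  rcases eq_or_ne a 0 with rfl | ha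
  · rw [hb, zero_mul, neg_zero, zero_div, zero_smul, zero_smul,
      cw_zero_left hF C P hn3 hgen (mu c), cw_zero_left hF C P hn3 hgen (mu' d), inv_one]
  have hX : h (a • u + b • u') (c • u + d • u') = 0 := by
    simp only [h_add_left, h_add_right hF, h_smul_left, h_smul_right hF, h1, h2, h12, h21]
    rw [hb]
    field_simp
    ring
  have hmain : cw hF C e (a • u + b • u') (c • u + d • u') = 1 := by
    by_cases h5 : 5 ≤ n
    · exact cw_orth hF C P hn hnq h5 (add_mem (mu a) (mu' b)) (add_mem (mu c) (mu' d)) hX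
    refine cw_orth_aniso hF C P hn hnq (add_mem (mu a) (mu' b)) (add_mem (mu c) (mu' d)) ?_ ?_ hX
    · simp only [h_add_left, h_add_right hF, h_smul_left, h_smul_right hF, h1, h2, h12, h21, mul_zero, mul_one,
        add_zero, zero_add]
      intro he
      refine hside.resolve_left h5 ?_
      have hca : cj a ≠ 0 := (map_ne_zero (qFrob hF)).2 ha
      rw [hb, map_div₀, map_neg, map_mul, cj_cj hF, cj_cj hF] at he
      field_simp at he
      have : a * cj a * (c * cj c + d * cj d) = 0 := by linear_combination he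
      exact (mul_eq_zero.1 this).resolve_left (mul_ne_zero ha hca)
    · simp only [h_add_left, h_add_right hF, h_smul_left, h_smul_right hF, h1, h2, h12, h21, mul_zero, mul_one,
        add_zero, zero_add]
      rw [mul_comm (cj c), mul_comm (cj d)]
      exact hside.resolve_left h5
  rw [cw_add_left hF C P hn3 hgen (mu a) (mu' b) (add_mem (mu c) (mu' d)),
    cw_add_right hF C P hn3 hgen (mu a) (mu c) (mu' d), cw_add_right hF C P hn3 hgen (mu' b) (mu c) (mu' d),
    cw_smul_orth hF C P hn hnq hu hu' h1 h2 h12, cw_smul_orth hF C P hn hnq hu' hu h2 h1 h21, mul_one,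
    one_mul] at hmain
  exact eq_inv_of_mul_eq_one_left hmain

theorem exists_side (c : F) : ∃ d : F, d ≠ 0 ∧ (5 ≤ n ∨ c * cj c + d * cj d ≠ 0) ∧
    (5 ≤ n ∨ (1 : F) * cj 1 + d * cj d ≠ 0) := by
  classical
  by_cases h5 : 5 ≤ n
  · exact ⟨1, one_ne_zero, Or.inl h5, Or.inl h5⟩
  have hq : 4 ≤ q := hnq.resolve_left h5
  obtain ⟨r, hr, h0, h1, h2⟩ : ∃ r : F, cj r = r ∧ r ≠ 0 ∧ r ≠ -(c * cj c) ∧ r ≠ -1 := by
    by_contra hcon
    push Not at hcon
    have h1 := HermTotIsoLines.natCard_fixed hF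
    rw [Nat.card_eq_fintype_card, Fintype.card_subtype] at h1
    have h2 : (Finset.univ.filter fun r : F => r ^ q = r).card ≤ 3 := by
      refine (Finset.card_le_card fun r hr => ?_).trans
        (Finset.card_le_three (a := (0 : F)) (b := -(c * cj c)) (c := -1))
      have hr' : cj r = r := by rw [qFrob_apply]; exact (Finset.mem_filter.1 hr).2
      simp only [Finset.mem_insert, Finset.mem_singleton]
      by_cases e0 : r = 0
      · exact Or.inl e0
      by_cases e1 : r = -(c * cj c)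
      · exact Or.inr (Or.inl e1)
      exact Or.inr (Or.inr (hcon r hr' e0 e1))
    omega
  obtain ⟨d, hd⟩ := exists_norm hF hr
  refine ⟨d, fun e => h0 (by rw [← hd, e, zero_mul]), Or.inr fun e => h1 ?_, Or.inr fun e => h2 ?_⟩
  · rw [← hd]; linear_combination e
  · rw [map_one, one_mul] at e
    rw [← hd]; linear_combination e

/-- The commutators along one line depend on the form only. -/
theorem cw_line {u u' : Fin n → F} (hu : u ∈ wSub q e f) (hu' : u' ∈ wSub q e f) (h1 : h u u = 1)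
    (h2 : h u' u' = 1) (h12 : h u u' = 0) (a c : F) :
    cw hF C e (a • u) (c • u) = cw hF C e ((a * cj c) • u) u := by
  obtain ⟨d, hd, hs, hs1⟩ := exists_side hF C P hn hnq c
  conv_rhs => arg 5; rw [← one_smul F u]
  rw [cw_exch hF C P hn hnq hu hu' h1 h2 h12 hd hs, cw_exch hF C P hn hnq hu hu' h1 h2 h12 hd hs1, map_one,
    mul_one]

theorem cw_line_two {u u' : Fin n → F} (hu : u ∈ wSub q e f) (hu' : u' ∈ wSub q e f) (h1 : h u u = 1)
    (h2 : h u' u' = 1) (h12 : h u u' = 0) (t : F) : cw hF C e (t • u) u = cw hF C e (t • u') u' := by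
  obtain ⟨d, hd, -, hs⟩ := exists_side hF C P hn hnq 1
  have hcd : cj d ≠ 0 := (map_ne_zero (qFrob hF)).2 hd
  conv_lhs => arg 5; rw [← one_smul F u]
  rw [cw_exch hF C P hn hnq hu hu' h1 h2 h12 hd hs,
    cw_line hF C P hn hnq hu' hu h2 h1 (h_comm_zero hF h12), map_one, mul_one, div_mul_cancel₀ _ hcd, neg_smul,
    cw_neg_left hF C P (by omega) (Or.inl hn) (Submodule.smul_mem _ _ hu') hu', inv_inv]

/-- The commutators are a function of the form. -/
theorem exists_phi : ∃ φ : F → E, (∀ x ∈ wSub q e f, ∀ y ∈ wSub q e f, cw hF C e x y = φ (h x y)) ∧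
    (∀ s t, φ (s + t) = φ s * φ t) ∧ (∀ r, cj r = r → φ r = 1) ∧
    ∀ t, ∃ H : EOK (q := q) e 0 (t - cj t), π (φ t) = eSU hF H := by
  have hgen : 4 ≤ n ∨ 3 ≤ q := Or.inl hn
  have hn3 : 3 ≤ n := by omega
  have hn2 : 2 ≤ n := by omega
  obtain ⟨u, O⟩ := exists_onb hF P hn2
  let i₀ : Fin (n - 2) := ⟨0, by omega⟩
  obtain ⟨i₁, hi₁⟩ : ∃ i : Fin (n - 2), i₀ ≠ i := ⟨⟨1, by omega⟩, by simp [i₀, Fin.ext_iff]⟩
  obtain ⟨φ, hφ⟩ : ∃ φ : F → E, ∀ t, φ t = cw hF C e (t • u i₀) (u i₀) := ⟨_, fun t => rfl⟩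
  have mu : ∀ (r : F) i, r • u i ∈ wSub q e f := fun r i => Submodule.smul_mem _ _ (O.mem i)
  have line : ∀ i a c, cw hF C e (a • u i) (c • u i) = φ (a * cj c) := by
    intro i a c
    rcases eq_or_ne i₀ i with rfl | hne
    · rw [hφ, cw_line hF C P hn hnq (O.mem _) (O.mem i₁) (O.one _) (O.one _) (O.orth _ _ hi₁)]
    · rw [hφ, cw_line hF C P hn hnq (O.mem i) (O.mem i₀) (O.one _) (O.one _) (O.orth _ _ hne.symm),
        ← cw_line_two hF C P hn hnq (O.mem i₀) (O.mem i) (O.one _) (O.one _) (O.orth _ _ hne)]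
  have hadd : ∀ s t, φ (s + t) = φ s * φ t := fun s t => by
    rw [hφ, hφ, hφ, add_smul, cw_add_left hF C P hn3 hgen (mu s _) (mu t _) (O.mem _)]
  have h0 : φ 0 = 1 := by
    rw [hφ, zero_smul, cw_zero_left hF C P hn3 hgen (O.mem _)]
  refine ⟨φ, fun x hx y hy => ?_, hadd, fun r hr => ?_, fun t => ?_⟩
  · refine O.induction hF P hn2 (C := fun x => cw hF C e x y = φ (h x y)) ?_ ?_ ?_ hx
    · rw [h_zero_left, h0, cw_zero_left hF C P hn3 hgen hy]
    · intro a i
      refine O.induction hF P hn2 (C := fun y => cw hF C e (a • u i) y = φ (h (a • u i) y)) ?_ ?_ ?_ hy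
      · rw [h_zero_right hF, h0, cw_zero_right hF C P hn3 hgen (mu a i)]
      · intro c j
        rw [h_smul_left, h_smul_right hF]
        rcases eq_or_ne i j with rfl | hij
        · rw [line, O.one i, mul_one]
        · rw [cw_smul_orth hF C P hn hnq (O.mem i) (O.mem j) (O.one i) (O.one j) (O.orth i j hij),
            O.orth i j hij, mul_zero, mul_zero, h0]
      · intro v v' hv hv' e1 e2
        rw [cw_add_right hF C P hn3 hgen (mu a i) hv hv', e1, e2, ← hadd, h_add_right hF]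
    · intro v v' hv hv' e1 e2
      rw [cw_add_left hF C P hn3 hgen hv hv' hy, e1, e2, ← hadd, h_add_left]
  · obtain ⟨a, ha⟩ := exists_norm hF hr
    rw [← ha, ← line i₀ a a, cw_self hF C P hn3]
  · obtain ⟨H, hH⟩ := cw_val hF C P hn3 hgen (mu t i₀) (O.mem i₀)
    have e1 : h (t • u i₀) (u i₀) - h (u i₀) (t • u i₀) = t - cj t := by
      rw [h_smul_left, h_smul_right hF, O.one i₀, mul_one, mul_one]
    exact ⟨eok_zero_of_skew hF P.ee (by rw [map_sub, cj_cj hF]; ring), by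
      rw [hφ, hH]; exact eSU_congr hF _ _ rfl e1⟩

/-- The commutators meet the kernel trivially. -/
theorem zsub_ker {g : E} (hg : g ∈ zsub hF C e f) (hg1 : π g = 1) : g = 1 := by
  obtain ⟨φ, hφ, hadd, hreal, hπ⟩ := exists_phi hF C P hn hnq
  have h0 : φ 0 = 1 := hreal 0 (map_zero _)
  obtain ⟨t, rfl⟩ : ∃ t, g = φ t := by
    clear hg1
    induction hg using Subgroup.closure_induction with
    | mem g hg =>
      obtain ⟨x, hx, y, hy, rfl⟩ := hg
      exact ⟨_, hφ x hx y hy⟩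
    | one => exact ⟨0, h0.symm⟩
    | mul a b _ _ iha ihb =>
      obtain ⟨s, rfl⟩ := iha
      obtain ⟨t, rfl⟩ := ihb
      exact ⟨s + t, (hadd s t).symm⟩
    | inv a _ iha =>
      obtain ⟨s, rfl⟩ := iha
      exact ⟨-s, inv_eq_of_mul_eq_one_right (by rw [← hadd, add_neg_cancel, h0])⟩
  obtain ⟨H, hH⟩ := hπ t
  rw [hH, ← eSU_zero hF P.ee] at hg1
  exact hreal t (sub_eq_zero.1 (eSU_inj hF P H (EOK.zero hF P.ee) (zero_mem _) (zero_mem _) hg1).2).symm

end Four

end Cfsg.Agent.Classical.UnitMult
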