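import Cfsg.Agent.Lib.Classical.UnitPointStab
import Cfsg.Agent.Lib.Classical.UnitTwoGenEmbed

/-!
The Levi elements of the stabiliser of an isotropic point and their action on the Heisenberg group.
-/

set_option autoImplicit false
set_option linter.unusedSectionVars false

namespace Cfsg.Agent.Classical.UnitMult

open Matrix Cfsg.Agent.Classical Cfsg.Agent.Classical.PSUAut
open scoped commutatorElement

variable {F : Type*} [Field F] [Fintype F] {q n : ℕ}

local notation "V" => (Fin n → F)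
local notation "Mn" => Matrix (Fin n) (Fin n) F

variable (hF : Fintype.card F = q ^ 2)

local notation "h" => hermForm n F q
local notation "cj" => qFrob hF

include hF

variable {e f : Fin n → F}

/-- An element of the stabiliser of a pair of lines. -/
theorem exists_gu_torus (P : IsPair (q := q) e f) {a : F} (ha : a ≠ 0) :
    ∃ g : GL (Fin n) F, g ∈ GU n F q ∧ (g : Mn).det = a / cj a ∧ (g : Mn) *ᵥ e = a • e ∧
      (g : Mn) *ᵥ f = (cj a)⁻¹ • f ∧ ∀ x, h x e = 0 → h x f = 0 → (g : Mn) *ᵥ x = x := by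
  classical
  have hca : cj a ≠ 0 := (map_ne_zero (qFrob hF)).2 ha
  set U : Matrix (Fin n) (Fin 2) F := Matrix.of fun i j => if j = 0 then (a - 1) * e i else ((cj a)⁻¹ - 1) * f i
  set W : Matrix (Fin 2) (Fin n) F := Matrix.of fun j i => if j = 0 then f i ^ q else e i ^ q
  have hd : ∀ x v : V, ∑ i, v i ^ q * x i = h x v := fun x v => by simp [hermForm, mul_comm]
  have hv : ∀ x : V, (1 + U * W) *ᵥ x =
      x + ((a - 1) * h x f) • e + (((cj a)⁻¹ - 1) * h x e) • f := by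
    intro x
    rw [Matrix.add_mulVec, Matrix.one_mulVec, ← Matrix.mulVec_mulVec, add_assoc]
    congr 1
    funext i
    simp [U, W, Matrix.mulVec, dotProduct, Fin.sum_univ_two, hd]
    ring
  have hWU : ∀ i j : Fin 2, (W * U) i j =
      if j = 0 then (a - 1) * h e (if i = 0 then f else e) else ((cj a)⁻¹ - 1) * h f (if i = 0 then f else e) := by
    intro i j
    rw [Matrix.mul_apply]
    fin_cases i <;> fin_cases j <;> simp [U, W, ← hd, Finset.mul_sum] <;>
      exact Finset.sum_congr rfl fun i _ => by ring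
  have hdet : (1 + U * W).det = a / cj a := by
    rw [Matrix.det_one_add_mul_comm, Matrix.det_fin_two]
    simp only [Matrix.add_apply, hWU, Matrix.one_apply]
    simp [P.ee, P.ef, P.ff, P.fe hF, div_eq_mul_inv]
  obtain ⟨M, hM⟩ : ∃ M, M = 1 + U * W := ⟨_, rfl⟩
  rw [← hM] at hdet hv
  have hu : IsUnit M.det := by rw [hdet]; exact (div_ne_zero ha hca).isUnit
  refine ⟨Matrix.GeneralLinearGroup.mk'' M hu, fun x y => ?_, hdet,
    ?_, ?_, fun x hxe hxf => ?_⟩
  · show h (M *ᵥ x) (M *ᵥ y) = h x y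
    rw [hv, hv]
    simp only [h_add_left, h_add_right hF, h_smul_left, h_smul_right hF, map_mul, map_sub, map_inv₀, map_one,
      cj_cj hF, cj_h hF, P.ee, P.ef, P.ff, P.fe hF, mul_zero, mul_one, add_zero, zero_add]
    linear_combination (h x f * h e y) * (mul_inv_cancel₀ ha) + (h x e * h f y) * (inv_mul_cancel₀ hca)
  · show M *ᵥ e = a • e
    rw [hv, P.ee, P.ef]; module
  · show M *ᵥ f = (cj a)⁻¹ • f
    rw [hv, P.ff, P.fe hF]; module
  · show M *ᵥ x = x
    rw [hv, hxe, hxf]; simp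

/-- An element of `SU` from one of `GU` with determinant one. -/
theorem exists_su_of_gu {g : GL (Fin n) F} (hg : g ∈ GU n F q) (hd : (g : Mn).det = 1) :
    ∃ s : SU n F q, suVal s = (g : Mn) :=
  ⟨⟨⟨(g : Mn), hd⟩, hg⟩, rfl⟩

/-- A Levi element scaling two orthogonal anisotropic vectors and fixing the rest. -/
theorem exists_su_scale (P : IsPair (q := q) e f) {a m₁ m₂ : F} (ha : a ≠ 0) {u₁ u₂ : V}
    (h1 : u₁ ∈ wSub q e f) (h2 : u₂ ∈ wSub q e f) (hu1 : h u₁ u₁ ≠ 0) (hu2 : h u₂ u₂ ≠ 0)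
    (h12 : h u₁ u₂ = 0) (hm1 : m₁ * cj m₁ = 1) (hm2 : m₂ * cj m₂ = 1) (hdet : a * m₁ * m₂ = cj a) :
    ∃ s : SU n F q, suVal s *ᵥ e = a • e ∧ suVal s *ᵥ f = (cj a)⁻¹ • f ∧ suVal s *ᵥ u₁ = m₁ • u₁ ∧
      suVal s *ᵥ u₂ = m₂ • u₂ ∧ ∀ x ∈ wSub q e f, h x u₁ = 0 → h x u₂ = 0 → suVal s *ᵥ x = x := by
  obtain ⟨g, hg, hgd, hge, hgf, hgx⟩ := exists_gu_torus hF P ha
  obtain ⟨r₁, hr₁, hrd₁, hrv₁⟩ := exists_reflection hF hu1 hm1
  obtain ⟨r₂, hr₂, hrd₂, hrv₂⟩ := exists_reflection hF hu2 hm2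
  have hca : cj a ≠ 0 := (map_ne_zero (qFrob hF)).2 ha
  obtain ⟨s, hs⟩ := exists_su_of_gu hF (mul_mem (mul_mem hg hr₁) hr₂) (by
    rw [GeneralLinearGroup.coe_mul, GeneralLinearGroup.coe_mul, Matrix.det_mul, Matrix.det_mul, hgd, hrd₁, hrd₂]
    field_simp
    linear_combination hdet)
  refine ⟨s, ?_⟩
  have hval : ∀ x, suVal s *ᵥ x = (g : Mn) *ᵥ ((r₁ : Mn) *ᵥ ((r₂ : Mn) *ᵥ x)) := fun x => by
    rw [hs, GeneralLinearGroup.coe_mul, GeneralLinearGroup.coe_mul, Matrix.mulVec_mulVec, Matrix.mulVec_mulVec,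
      Matrix.mul_assoc]
  have e1 : h e u₁ = 0 := h_comm_zero hF h1.1
  have e2 : h e u₂ = 0 := h_comm_zero hF h2.1
  have f1 : h f u₁ = 0 := h_comm_zero hF h1.2
  have f2 : h f u₂ = 0 := h_comm_zero hF h2.2
  refine ⟨?_, ?_, ?_, ?_, fun x hx hx1 hx2 => ?_⟩
  · simp [hval, hrv₂, hrv₁, e1, e2, hge]
  · simp [hval, hrv₂, hrv₁, f1, f2, hgf]
  · have e : u₁ + ((m₁ - 1) * h u₁ u₁ / h u₁ u₁) • u₁ = m₁ • u₁ := by
      rw [mul_div_assoc, div_self hu1]; module
    rw [hval, hrv₂, h12]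
    simp only [mul_zero, zero_div, zero_smul, add_zero]
    rw [hrv₁, e, Matrix.mulVec_smul, hgx u₁ h1.1 h1.2]
  · have e : u₂ + ((m₂ - 1) * h u₂ u₂ / h u₂ u₂) • u₂ = m₂ • u₂ := by
      rw [mul_div_assoc, div_self hu2]; module
    rw [hval, hrv₂, e, Matrix.mulVec_smul, hrv₁, h_comm_zero hF h12]
    simp only [mul_zero, zero_div, zero_smul, add_zero]
    rw [Matrix.mulVec_smul, hgx u₂ h2.1 h2.2]
  · simp [hval, hrv₂, hrv₁, hx1, hx2, hgx x hx.1 hx.2]

/-- A Levi element with one pseudo-reflection. -/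
theorem exists_su_scale_one (P : IsPair (q := q) e f) {a : F} (ha : a ≠ 0) {u : V} (hu : u ∈ wSub q e f)
    (huu : h u u ≠ 0) :
    ∃ s : SU n F q, suVal s *ᵥ e = a • e ∧ suVal s *ᵥ f = (cj a)⁻¹ • f ∧ suVal s *ᵥ u = (cj a / a) • u ∧
      ∀ x ∈ wSub q e f, h x u = 0 → suVal s *ᵥ x = x := by
  obtain ⟨g, hg, hgd, hge, hgf, hgx⟩ := exists_gu_torus hF P ha
  have hca : cj a ≠ 0 := (map_ne_zero (qFrob hF)).2 ha
  obtain ⟨r, hr, hrd, hrv⟩ := exists_reflection hF huu (a := cj a / a)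
    (by rw [map_div₀, cj_cj hF]; field_simp)
  obtain ⟨s, hs⟩ := exists_su_of_gu hF (mul_mem hg hr) (by
    rw [GeneralLinearGroup.coe_mul, Matrix.det_mul, hgd, hrd]
    field_simp)
  refine ⟨s, ?_⟩
  have hval : ∀ x, suVal s *ᵥ x = (g : Mn) *ᵥ ((r : Mn) *ᵥ x) := fun x => by
    rw [hs, GeneralLinearGroup.coe_mul, Matrix.mulVec_mulVec]
  refine ⟨?_, ?_, ?_, fun x hx hx1 => ?_⟩
  · simp [hval, hrv, h_comm_zero hF hu.1, hge]
  · simp [hval, hrv, h_comm_zero hF hu.2, hgf]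
  · have e : u + ((cj a / a - 1) * h u u / h u u) • u = (cj a / a) • u := by
      rw [mul_div_assoc, div_self huu]; module
    rw [hval, hrv, e, Matrix.mulVec_smul, hgx u hu.1 hu.2]
  · simp [hval, hrv, hx1, hgx x hx.1 hx.2]

/-- A Levi element maps the space orthogonal to the pair to itself. -/
theorem su_wSub {s : SU n F q} {a b : F} (he : suVal s *ᵥ e = a • e) (hf : suVal s *ᵥ f = b • f)
    (ha : a ≠ 0) (hb : b ≠ 0) {w : V} (hw : w ∈ wSub q e f) : suVal s *ᵥ w ∈ wSub q e f := by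
  constructor
  · have h1 := su_form s w e
    rw [he, h_smul_right hF, hw.1] at h1
    exact (mul_eq_zero.1 h1).resolve_left ((map_ne_zero (qFrob hF)).2 ha)
  · have h1 := su_form s w f
    rw [hf, h_smul_right hF, hw.2] at h1
    exact (mul_eq_zero.1 h1).resolve_left ((map_ne_zero (qFrob hF)).2 hb)

/-- The action of a Levi element on the Heisenberg group. -/
theorem eSU_conj_scale {s : SU n F q} {a : F} (hse : suVal s *ᵥ e = a • e) {w : V} {c : F}
    (H : EOK (q := q) e w c) :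
    ∃ H' : EOK (q := q) e (cj a • (suVal s *ᵥ w)) (a * cj a * c), s * eSU hF H * s⁻¹ = eSU hF H' := by
  have ee := H.ee
  have hwe : h (cj a • (suVal s *ᵥ w)) e = 0 := by
    rcases eq_or_ne a 0 with rfl | ha
    · simp [h_zero_left]
    have h1 := su_form s w e
    rw [hse, h_smul_right hF, H.we] at h1
    rw [h_smul_left, (mul_eq_zero.1 h1).resolve_left ((map_ne_zero (qFrob hF)).2 ha), mul_zero]
  have hcc : a * cj a * c + (a * cj a * c) ^ q +
      h (cj a • (suVal s *ᵥ w)) (cj a • (suVal s *ᵥ w)) = 0 := by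
    have h1 := H.cc
    rw [cj_pow hF] at h1 ⊢
    rw [map_mul, map_mul, cj_cj hF, h_smul_left, h_smul_right hF, cj_cj hF, su_form]
    linear_combination (a * cj a) * h1
  refine ⟨⟨ee, hwe, hcc⟩, suVal_ext ?_⟩
  rw [suVal_mul, suVal_mul, suVal_eSU, eMat_conj hF, hse, UnitTwoGen.eMat_smul_point hF, suVal_eSU]

/-- Every Heisenberg element has its vector orthogonal to the pair. -/
theorem heis_rep (P : IsPair (q := q) e f) {s : SU n F q} (hs : s ∈ heisU hF e P.ee) :
    ∃ (w : V) (c : F) (H : EOK (q := q) e w c), w ∈ wSub q e f ∧ s = eSU hF H := by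
  obtain ⟨w, c, H, hs⟩ := hs
  obtain ⟨u, a, hu, rfl⟩ : ∃ u a, u ∈ wSub q e f ∧ w = u + a • e :=
    ⟨wPart (q := q) e f w, h w f, wPart_mem hF P w, by
      conv_lhs => rw [wPart_eq (q := q) e f w, H.we]
      module⟩
  have H' : EOK (q := q) e u (c + a - cj a) := by
    refine ⟨P.ee, hu.1, ?_⟩
    have h1 := H.cc
    rw [cj_pow hF] at h1 ⊢
    simp only [h_add_left, h_add_right hF, h_smul_left, h_smul_right hF, hu.1, h_comm_zero hF hu.1, P.ee] at h1
    rw [map_sub, map_add, cj_cj hF]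
    linear_combination h1
  refine ⟨u, _, H', hu, suVal_ext ?_⟩
  rw [hs, suVal_eSU]
  refine Matrix.ext_iff_mulVec.2 fun x => ?_
  simp only [eMat_mulVec, h_add_right hF, h_smul_right hF]
  module

/-- The parameters of a Heisenberg element. -/
theorem eSU_inj (P : IsPair (q := q) e f) {w w' : V} {c c' : F} (H : EOK (q := q) e w c)
    (H' : EOK (q := q) e w' c') (hw : w ∈ wSub q e f) (hw' : w' ∈ wSub q e f)
    (heq : eSU hF H = eSU hF H') : w = w' ∧ c = c' := by
  have h1 := congrArg (fun s => suVal s *ᵥ f) heq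
  simp only [suVal_eSU, eMat_mulVec, P.fe hF, h_comm_zero hF hw.2, h_comm_zero hF hw'.2, zero_smul,
    sub_zero, one_smul, mul_one, add_right_inj] at h1
  have h2 := congrArg (fun x => h x f) h1
  simp only [h_add_left, h_smul_left, hw.2, hw'.2, P.ef, mul_one, zero_add] at h2
  subst h2
  exact ⟨add_right_cancel h1, rfl⟩

/-- A transvection parameter. -/
theorem eok_zero_of_skew (he : h e e = 0) {c : F} (hc : c + cj c = 0) : EOK (q := q) e 0 c :=
  eOK_transvection hF he hc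

theorem comm_skew (u v : V) : h u v - h v u + cj (h u v - h v u) = 0 := by
  rw [map_sub, cj_h hF, cj_h hF]; ring

/-- The commutator of two Heisenberg elements. -/
theorem eSU_comm {w w' : V} {c c' : F} (H : EOK (q := q) e w c) (H' : EOK (q := q) e w' c') :
    ⁅eSU hF H, eSU hF H'⁆ = eSU hF (eok_zero_of_skew hF H.ee (comm_skew hF w w')) := by
  rw [commutatorElement_def, mul_inv_eq_iff_eq_mul, mul_inv_eq_iff_eq_mul, eSU_mul, eSU_mul, eSU_mul]
  refine eSU_congr hF _ _ ?_ ?_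
  · rw [zero_add]; abel
  · rw [zero_add, h_zero_right hF]
    ring

end Cfsg.Agent.Classical.UnitMult
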