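import Cfsg.Agent.Lib.Classical.UnitMultCentral

/-!
A central extension with kernel of order prime to `p`: the canonical lifts of `p`-elements, and the reduction
of the triviality of the kernel to one prime and one subgroup at a time.
-/

set_option autoImplicit false
set_option linter.unusedSectionVars false

namespace Cfsg.Agent.Classical.UnitMult

open scoped commutatorElement

variable {E H : Type*} [Group E] [Group H]

/-- A central extension whose kernel has order prime to `p`. -/
structure Coprime (p : ℕ) (π : E →* H) : Prop where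
  surj : Function.Surjective π
  cen : π.ker ≤ Subgroup.center E
  cop : (Nat.card π.ker).Coprime p

/-- The elements of `p`-power order. -/
def IsPElem (p : ℕ) {G : Type*} [Group G] (g : G) : Prop := ∃ k : ℕ, g ^ p ^ k = 1

theorem IsPElem.conj {p : ℕ} {G : Type*} [Group G] {g : G} (h : IsPElem p g) (a : G) :
    IsPElem p (a * g * a⁻¹) := h.imp fun k hk => by rw [conj_pow, hk, mul_one, mul_inv_cancel]

theorem IsPElem.inv {p : ℕ} {G : Type*} [Group G] {g : G} (h : IsPElem p g) : IsPElem p g⁻¹ :=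
  h.imp fun k hk => by rw [inv_pow, hk, inv_one]

theorem IsPElem.one (p : ℕ) {G : Type*} [Group G] : IsPElem p (1 : G) := ⟨0, one_pow _⟩

theorem IsPElem.map {p : ℕ} {G G' : Type*} [Group G] [Group G'] {g : G} (h : IsPElem p g) (f : G →* G') :
    IsPElem p (f g) := h.imp fun k hk => by rw [← map_pow, hk, map_one]

theorem IsPElem.mono {p a b : ℕ} {G : Type*} [Group G] {g : G} (hab : a ≤ b) (h : g ^ p ^ a = 1) :
    g ^ p ^ b = 1 := by
  obtain ⟨d, rfl⟩ : ∃ d, b = a + d := ⟨b - a, by omega⟩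
  rw [pow_add, pow_mul, h, one_pow]

variable {p : ℕ} {π : E →* H}

theorem Coprime.eq_one (C : Coprime p π) {z : E} (hz : π z = 1) {k : ℕ} (h : z ^ p ^ k = 1) : z = 1 :=
  orderOf_eq_one_iff.1 (Nat.eq_one_of_dvd_coprimes (C.cop.pow_right k)
    (π.ker.orderOf_dvd_natCard hz) (orderOf_dvd_of_pow_eq_one h))

theorem Coprime.exists_lift (C : Coprime p π) {x : H} (hx : IsPElem p x) :
    ∃ a : E, π a = x ∧ IsPElem p a := by
  obtain ⟨k, hk⟩ := hx
  obtain ⟨a, rfl⟩ := C.surj x
  let z : π.ker := ⟨a ^ p ^ k, by rw [MonoidHom.mem_ker, map_pow, hk]⟩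
  set w : π.ker := (powCoprime (C.cop.pow_right k)).symm z
  have hw : w ^ p ^ k = z := (powCoprime (C.cop.pow_right k)).apply_symm_apply z
  refine ⟨a * (w : E)⁻¹, by rw [map_mul, map_inv, MonoidHom.mem_ker.1 w.2, inv_one, mul_one], k, ?_⟩
  have hcom : Commute a (w : E)⁻¹ := (ker_comm π C.cen w.2 a).inv_right
  rw [hcom.mul_pow, inv_pow, mul_inv_eq_one]
  exact (congrArg Subtype.val hw).symm

theorem Coprime.lift_unique (C : Coprime p π) {a b : E} (h : π a = π b) (ha : IsPElem p a)
    (hb : IsPElem p b) : a = b := by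
  obtain ⟨i, hi⟩ := ha
  obtain ⟨j, hj⟩ := hb
  have hz : π (b⁻¹ * a) = 1 := by rw [map_mul, map_inv, h, inv_mul_cancel]
  refine (inv_mul_eq_one.1 (C.eq_one hz (k := i + j) ?_)).symm
  have hcom : Commute b (b⁻¹ * a) := ker_comm π C.cen hz b
  have ha' : (b * (b⁻¹ * a)) ^ p ^ (i + j) = 1 := by
    rw [mul_inv_cancel_left]; exact IsPElem.mono (by omega) hi
  rwa [hcom.mul_pow, IsPElem.mono (by omega : j ≤ i + j) hj, one_mul] at ha'

/-- The lift of `p`-power order. -/
noncomputable def Coprime.sp (C : Coprime p π) (x : H) : E :=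
  @dite _ (IsPElem p x) (_root_.Classical.propDecidable _) (fun hx => (C.exists_lift hx).choose) (fun _ => lf π C.surj x)

theorem Coprime.π_sp (C : Coprime p π) (x : H) : π (C.sp x) = x := by
  unfold Coprime.sp
  split_ifs with hx
  · exact (C.exists_lift hx).choose_spec.1
  · exact π_lf π C.surj x

theorem Coprime.sp_pElem (C : Coprime p π) {x : H} (hx : IsPElem p x) : IsPElem p (C.sp x) := by
  unfold Coprime.sp
  rw [dif_pos hx]
  exact (C.exists_lift hx).choose_spec.2

theorem Coprime.sp_eq (C : Coprime p π) {a : E} (ha : IsPElem p a) : C.sp (π a) = a :=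
  C.lift_unique (C.π_sp _) (C.sp_pElem (ha.map π)) ha

theorem Coprime.sp_one (C : Coprime p π) : C.sp 1 = 1 := by
  simpa using C.sp_eq (a := 1) (IsPElem.one p)

theorem Coprime.sp_inv (C : Coprime p π) {x : H} (hx : IsPElem p x) : C.sp x⁻¹ = (C.sp x)⁻¹ := by
  conv_lhs => rw [← C.π_sp x, ← map_inv]
  exact C.sp_eq (C.sp_pElem hx).inv

theorem Coprime.sp_conj (C : Coprime p π) (e : E) {x : H} (hx : IsPElem p x) :
    e * C.sp x * e⁻¹ = C.sp (π e * x * (π e)⁻¹) := by
  conv_rhs => rw [← C.π_sp x, ← map_inv, ← map_mul, ← map_mul]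
  exact (C.sp_eq ((C.sp_pElem hx).conj e)).symm

theorem Coprime.sp_mul [Finite E] [Fact p.Prime] (C : Coprime p π) {P : Subgroup H} (hP : IsPGroup p P)
    {x y : H} (hx : x ∈ P) (hy : y ∈ P) : C.sp (x * y) = C.sp x * C.sp y := by
  have hel : ∀ g ∈ P, IsPElem p g := fun g hg =>
    (hP ⟨g, hg⟩).imp fun k hk => congrArg Subtype.val hk
  set T := P.comap π
  set K := π.ker.subgroupOf T
  set S : Sylow p T := default
  haveI hKn : K.Normal := Subgroup.Normal.subgroupOf inferInstance T
  have hKcard : (Nat.card K).Coprime p := by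
    refine C.cop.coprime_dvd_left ?_
    refine Subgroup.card_dvd_of_injective (f := (T.subtype.comp K.subtype).codRestrict π.ker fun g => g.2) ?_
    exact fun a b hab => Subtype.ext (Subtype.ext (congrArg Subtype.val hab :))
  have hKS : K ⊔ (S : Subgroup T) = ⊤ := by
    refine Subgroup.index_eq_one.1 (Nat.eq_one_of_dvd_coprimes ?_
      (dvd_refl _) (Subgroup.index_dvd_of_le (le_sup_right : (S : Subgroup T) ≤ K ⊔ S)))
    have h1 : (K ⊔ (S : Subgroup T)).index ∣ K.index := Subgroup.index_dvd_of_le le_sup_left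
    have h2 : IsPGroup p (T ⧸ K) := by
      intro g
      induction g using QuotientGroup.induction_on with
      | _ g =>
        obtain ⟨k, hk⟩ := hel (π g) g.2
        refine ⟨k, ?_⟩
        rw [← QuotientGroup.mk_pow, QuotientGroup.eq_one_iff]
        show π (((g ^ p ^ k : T) : E)) = 1
        rw [SubmonoidClass.coe_pow, map_pow, hk]
    obtain ⟨a, ha⟩ := IsPGroup.iff_card.1 h2
    rw [← Subgroup.index_eq_card] at ha
    obtain ⟨b, -, hb⟩ := (Nat.dvd_prime_pow Fact.out).1 (ha ▸ h1)
    rw [hb]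
    exact ((Fact.out : p.Prime).coprime_iff_not_dvd.2 S.not_dvd_index).pow_left b
  haveI hSn : (S : Subgroup T).Normal := by
    refine Subgroup.normalizer_eq_top_iff.1 (top_le_iff.1 (hKS.symm.trans_le (sup_le ?_ Subgroup.le_normalizer)))
    intro g hg
    refine Subgroup.mem_normalizer_iff.2 fun s => ?_
    have : g * s * g⁻¹ = s := Subtype.ext (by
      show (g : E) * s * (g : E)⁻¹ = s
      rw [← (ker_comm π C.cen (show π (g : E) = 1 from hg) (s : E)).eq, mul_inv_cancel_right])
    rw [this]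
  have hmem : ∀ g ∈ P, ∃ s ∈ (S : Subgroup T), (s : E) = C.sp g := by
    intro g hg
    refine ⟨⟨C.sp g, show π (C.sp g) ∈ P by rw [C.π_sp]; exact hg⟩, ?_, rfl⟩
    obtain ⟨k, hk⟩ := C.sp_pElem (hel g hg)
    have hz : (Subgroup.zpowers (⟨C.sp g, show π (C.sp g) ∈ P by rw [C.π_sp]; exact hg⟩ : T)) ≤ S := by
      obtain ⟨S', hS'⟩ := IsPGroup.exists_le_sylow (p := p)
        (P := Subgroup.zpowers (⟨C.sp g, show π (C.sp g) ∈ P by rw [C.π_sp]; exact hg⟩ : T)) (by
          rintro ⟨x, hx⟩
          obtain ⟨i, rfl⟩ := Subgroup.mem_zpowers_iff.1 hx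
          refine ⟨k, Subtype.ext (Subtype.ext ?_)⟩
          show (C.sp g ^ i) ^ p ^ k = 1
          rw [← zpow_natCast, ← zpow_mul, mul_comm, zpow_mul, zpow_natCast, hk, one_zpow])
      haveI := Sylow.unique_of_normal S hSn
      rwa [Subsingleton.elim S' S] at hS'
    exact hz (Subgroup.mem_zpowers _)
  obtain ⟨a, ha, hax⟩ := hmem x hx
  obtain ⟨b, hb, hby⟩ := hmem y hy
  rw [← hax, ← hby, ← Subgroup.coe_mul]
  conv_lhs => rw [← C.π_sp x, ← C.π_sp y, ← map_mul, ← hax, ← hby, ← Subgroup.coe_mul]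
  refine C.sp_eq ((S.2 ⟨a * b, mul_mem ha hb⟩).imp fun k hk => ?_)
  exact congrArg (fun s : (S : Subgroup T) => ((s : T) : E)) hk

theorem Coprime.sp_commute [Finite E] [Fact p.Prime] (C : Coprime p π) {x y : H} (hx : IsPElem p x)
    (hy : IsPElem p y) (hxy : Commute x y) : Commute (C.sp x) (C.sp y) := by
  have hK : IsPGroup p (Subgroup.closure ({x, y} : Set H)) := by
    rintro ⟨g, hg⟩
    haveI : IsMulCommutative (Subgroup.closure ({x, y} : Set H)) :=
      Subgroup.isMulCommutative_closure (by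
        rintro a (rfl | rfl) b (rfl | rfl) <;> first | rfl | exact hxy.eq | exact hxy.eq.symm)
    suffices IsPElem p g by obtain ⟨k, hk⟩ := this; exact ⟨k, Subtype.ext hk⟩
    induction hg using Subgroup.closure_induction with
    | mem a ha => rcases ha with rfl | rfl <;> assumption
    | one => exact IsPElem.one p
    | mul a b ha hb iha ihb =>
      obtain ⟨i, hi⟩ := iha; obtain ⟨j, hj⟩ := ihb
      refine ⟨i + j, ?_⟩
      have hc' : Commute a b :=
        congrArg Subtype.val (mul_comm' (⟨a, ha⟩ : Subgroup.closure ({x, y} : Set H)) ⟨b, hb⟩)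
      rw [hc'.mul_pow, IsPElem.mono (by omega) hi, IsPElem.mono (by omega : j ≤ i + j) hj, one_mul]
    | inv a _ iha => exact iha.inv
  have h1 := C.sp_mul hK (Subgroup.subset_closure (Or.inl rfl)) (Subgroup.subset_closure (Or.inr rfl))
  have h2 := C.sp_mul hK (Subgroup.subset_closure (Or.inr rfl)) (Subgroup.subset_closure (Or.inl rfl))
  rw [← hxy.eq, h1] at h2
  exact h2

/-- A group generated by elements of `p`-power order: every element of order prime to `p` in the centre is in the
derived group. -/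
theorem mem_commutator_of_gen [Finite E] [Fact p.Prime] (hgen : Subgroup.closure {g : E | IsPElem p g} = ⊤)
    {z : E} (hz : ¬ p ∣ orderOf z) : z ∈ commutator E := by
  have h : IsPElem p (Abelianization.of z) := by
    clear hz
    have : z ∈ Subgroup.closure {g : E | IsPElem p g} := hgen ▸ Subgroup.mem_top z
    induction this using Subgroup.closure_induction with
    | mem a ha => exact ha.map _
    | one => rw [map_one]; exact IsPElem.one p
    | mul a b _ _ iha ihb =>
      obtain ⟨i, hi⟩ := iha; obtain ⟨j, hj⟩ := ihb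
      refine ⟨i + j, ?_⟩
      rw [map_mul, mul_pow, IsPElem.mono (by omega) hi, IsPElem.mono (by omega : j ≤ i + j) hj, one_mul]
    | inv a _ iha => rw [map_inv]; exact iha.inv
  obtain ⟨k, hk⟩ := h
  have h1 : orderOf (Abelianization.of z) = 1 :=
    Nat.eq_one_of_dvd_coprimes (((Fact.out : p.Prime).coprime_iff_not_dvd.2 hz).symm.pow_right k)
      (orderOf_map_dvd _ z) (orderOf_dvd_of_pow_eq_one hk)
  exact (QuotientGroup.eq_one_iff z).1 (orderOf_eq_one_iff.1 h1)

/-- The kernel is trivial when at each prime it meets trivially the derived group of the preimage of a subgroup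
of index prime to it. -/
theorem ker_eq_bot_of_prime [Finite E] [Fact p.Prime] (hgen : Subgroup.closure {g : E | IsPElem p g} = ⊤)
    (π : E →* H) (hπ : Function.Surjective π) (hc : π.ker ≤ Subgroup.center E) {l : ℕ} [hl : Fact l.Prime]
    (hlp : l ≠ p) (hker : IsPGroup l π.ker) (M : Subgroup H) (hM : ¬ l ∣ M.index)
    (h : ∀ z : E, π z = 1 → z ∈ ⁅M.comap π, M.comap π⁆ → z = 1) : π.ker = ⊥ := by
  rw [eq_bot_iff]
  intro z hz
  obtain ⟨k, hk⟩ := hker ⟨z, hz⟩
  have hk' : z ^ l ^ k = 1 := congrArg Subtype.val hk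
  obtain ⟨i, -, hi⟩ := (Nat.dvd_prime_pow hl.out).1 (orderOf_dvd_of_pow_eq_one hk')
  refine h z hz (mem_derived_of_transfer _ (hc hz) (show π z ∈ M by rw [hz]; exact one_mem M)
    (mem_commutator_of_gen hgen ?_) ?_)
  · rw [hi]
    exact fun hp => hlp ((Nat.prime_dvd_prime_iff_eq Fact.out hl.out).1 ((Fact.out : p.Prime).dvd_of_dvd_pow hp)).symm
  · rw [hi, Subgroup.index_comap_of_surjective M hπ]
    exact ((hl.out.coprime_iff_not_dvd.2 hM)).pow_left i

/-- Reduction of the triviality of a kernel of order prime to `p` to the kernels of prime power order. -/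
theorem ker_eq_bot_of_primes.{u, v} {E : Type u} {H : Type v} [Group E] [Finite E] [Group H] [Fact p.Prime]
    (hgen : Subgroup.closure {g : E | IsPElem p g} = ⊤) (π : E →* H) (C : Coprime p π)
    (h : ∀ (l : ℕ), l.Prime → l ≠ p → ∀ (E' : Type u) [Group E'] [Finite E'] (π' : E' →* H),
      Function.Surjective π' → π'.ker ≤ Subgroup.center E' → Subgroup.closure {g : E' | IsPElem p g} = ⊤ →
      IsPGroup l π'.ker → π'.ker = ⊥) : π.ker = ⊥ := by
  by_contra hne
  obtain ⟨l, hl, hdvd⟩ := Nat.exists_prime_and_dvd (fun e => hne (Subgroup.card_eq_one.1 e))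
  haveI : Fact l.Prime := ⟨hl⟩
  have hlp : l ≠ p := fun e => hl.one_lt.ne' (Nat.eq_one_of_dvd_coprimes C.cop hdvd (e ▸ dvd_rfl))
  obtain ⟨a, ha⟩ : ∃ a, a = (Nat.card π.ker).factorization l := ⟨_, rfl⟩
  let f : π.ker →* E :=
    { toFun := fun z => (z : E) ^ l ^ a
      map_one' := by simp
      map_mul' := fun x y => by
        show ((x : E) * y) ^ l ^ a = _
        exact Commute.mul_pow (ker_comm π C.cen y.2 (x : E)) _ }
  set K := f.range
  have hKker : K ≤ π.ker := by rintro _ ⟨z, rfl⟩; exact pow_mem z.2 _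
  haveI hKn : K.Normal := ⟨fun x hx g => by
    rwa [(ker_comm π C.cen (hKker hx) g).eq, mul_inv_cancel_right]⟩
  let π' := QuotientGroup.lift K π hKker
  have hker' : ∀ y : E, (QuotientGroup.mk y : E ⧸ K) ∈ π'.ker ↔ y ∈ π.ker := fun y => Iff.rfl
  have hsurj : Function.Surjective π' := fun x => by
    obtain ⟨y, rfl⟩ := C.surj x; exact ⟨QuotientGroup.mk y, rfl⟩
  have hbot := h l hl hlp (E ⧸ K) π' hsurj (fun x hx => by
    induction x using QuotientGroup.induction_on with
    | _ y =>
      refine Subgroup.mem_center_iff.2 fun r => ?_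
      induction r using QuotientGroup.induction_on with
      | _ g => rw [← QuotientGroup.mk_mul, ← QuotientGroup.mk_mul, (ker_comm π C.cen hx g).eq]) (by
    rw [eq_top_iff, ← Subgroup.map_top_of_surjective (QuotientGroup.mk' K) (QuotientGroup.mk'_surjective K), ← hgen,
      MonoidHom.map_closure]
    refine Subgroup.closure_mono ?_
    rintro _ ⟨g, hg, rfl⟩
    exact IsPElem.map hg _) (by
    rintro ⟨x, hx⟩
    induction x using QuotientGroup.induction_on with
    | _ y =>
      refine ⟨a, Subtype.ext ?_⟩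
      show (QuotientGroup.mk y : E ⧸ K) ^ l ^ a = 1
      rw [← QuotientGroup.mk_pow, QuotientGroup.eq_one_iff]
      exact ⟨⟨y, hx⟩, rfl⟩)
  obtain ⟨z, hz⟩ := exists_prime_orderOf_dvd_card' l hdvd
  have hsurjK : ∀ y ∈ π.ker, y ∈ K := fun y hy => (QuotientGroup.eq_one_iff y).1
    (Subgroup.mem_bot.1 (hbot ▸ (hker' y).2 hy))
  have hsurjf : Function.Surjective fun w : π.ker => w ^ l ^ a := fun y => by
    obtain ⟨w, hw⟩ := hsurjK y y.2
    exact ⟨w, Subtype.ext hw⟩
  have hinj := Finite.injective_iff_surjective.2 hsurjf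
  have ha1 : a ≠ 0 := by
    rw [ha]; exact (hl.factorization_pos_of_dvd Nat.card_pos.ne' hdvd).ne'
  have h1 : z = 1 := hinj (show z ^ l ^ a = (1 : π.ker) ^ l ^ a by
    rw [one_pow, orderOf_dvd_iff_pow_eq_one.1 (hz ▸ dvd_pow_self l ha1)])
  rw [h1, orderOf_one] at hz
  exact hl.ne_one hz.symm

end Cfsg.Agent.Classical.UnitMult
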