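import Cfsg.Agent.Lib.Classical.UnitMultGeom
import Cfsg.Agent.Lib.Fus.UnitFrames

/-!
Elements fixing two opposite lines that move every non-zero vector of the orthogonal space in its action on
the Heisenberg group.
-/

set_option autoImplicit false
set_option linter.unusedSectionVars false

namespace Cfsg.Agent.Classical.UnitMult

open Matrix Cfsg.Agent.Classical Cfsg.Agent.Classical.PSUAut

variable {F : Type*} [Field F] [Fintype F] {q n : ℕ}

local notation "h" => hermForm n F q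

variable (hF : Fintype.card F = q ^ 2) {e f : Fin n → F}

local notation "cj" => qFrob hF

/-- An element fixing the lines and moving all vectors in its action on the Heisenberg group. -/
def Mover (e f : Fin n → F) (s : SU n F q) : Prop :=
  ∃ a b : F, a ≠ 0 ∧ b ≠ 0 ∧ suVal s *ᵥ e = a • e ∧ suVal s *ᵥ f = b • f ∧
    ∀ w ∈ wSub q e f, qFrob hF a • (suVal s *ᵥ w) = w → w = 0

include hF

/-- A scalar times a torus element. -/
theorem exists_gu_scalar_torus (P : IsPair (q := q) e f) {ν b : F} (hν : ν * cj ν = 1) (hb : b ≠ 0) :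
    ∃ g : GL (Fin n) F, g ∈ GU n F q ∧ (g : Matrix (Fin n) (Fin n) F).det = ν ^ n * (b / cj b) ∧
      (g : Matrix (Fin n) (Fin n) F) *ᵥ e = (ν * b) • e ∧
      (g : Matrix (Fin n) (Fin n) F) *ᵥ f = (ν * (cj b)⁻¹) • f ∧
      ∀ x ∈ wSub q e f, (g : Matrix (Fin n) (Fin n) F) *ᵥ x = ν • x := by
  obtain ⟨t, ht, htd, hte, htf, htx⟩ := exists_gu_torus hF P hb
  have hν0 : ν ≠ 0 := left_ne_zero_of_mul (hν ▸ one_ne_zero)
  obtain ⟨M, hM⟩ : ∃ M, M = ν • (1 : Matrix (Fin n) (Fin n) F) := ⟨_, rfl⟩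
  have hdet : M.det = ν ^ n := by rw [hM, Matrix.det_smul, Matrix.det_one, Fintype.card_fin, mul_one]
  have hu : IsUnit M.det := by rw [hdet]; exact (pow_ne_zero n hν0).isUnit
  have hval : ∀ x, (Matrix.GeneralLinearGroup.mk'' M hu : Matrix (Fin n) (Fin n) F) *ᵥ x = ν • x := fun x => by
    show M *ᵥ x = _
    rw [hM, Matrix.smul_mulVec, Matrix.one_mulVec]
  have hsc : Matrix.GeneralLinearGroup.mk'' M hu ∈ GU n F q := fun x y => by
    show h (M *ᵥ x) (M *ᵥ y) = h x y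
    rw [hM, Matrix.smul_mulVec, Matrix.smul_mulVec, Matrix.one_mulVec, Matrix.one_mulVec, h_smul_left,
      h_smul_right hF, ← mul_assoc, hν, one_mul]
  refine ⟨Matrix.GeneralLinearGroup.mk'' M hu * t, mul_mem hsc ht, ?_, ?_, ?_, fun x hx => ?_⟩
  · rw [GeneralLinearGroup.coe_mul, Matrix.det_mul, htd, ← hdet]
    rfl
  · rw [GeneralLinearGroup.coe_mul, ← Matrix.mulVec_mulVec, hte, Matrix.mulVec_smul, hval, smul_smul, mul_comm]
  · rw [GeneralLinearGroup.coe_mul, ← Matrix.mulVec_mulVec, htf, Matrix.mulVec_smul, hval, smul_smul, mul_comm]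
  · rw [GeneralLinearGroup.coe_mul, ← Matrix.mulVec_mulVec, htx x hx.1 hx.2, hval]

/-- An element of `SU` is determined by its action on the pair and on the orthogonal space. -/
theorem su_ext_pair (P : IsPair (q := q) e f) {s t : SU n F q} (he : suVal s *ᵥ e = suVal t *ᵥ e)
    (hf : suVal s *ᵥ f = suVal t *ᵥ f) (hw : ∀ x ∈ wSub q e f, suVal s *ᵥ x = suVal t *ᵥ x) : s = t := by
  refine Fus.UnitN.su_ext fun x => ?_
  rw [wPart_eq (q := q) e f x]
  simp only [Matrix.mulVec_add, Matrix.mulVec_smul, he, hf, hw _ (wPart_mem hF P x)]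

/-- A central element of the stabiliser that moves all vectors. -/
theorem exists_central (P : IsPair (q := q) e f) (hn : 3 ≤ n) (hcase : 3 ≤ q ∨ ¬ 3 ∣ n) :
    ∃ s : SU n F q, Mover hF e f s ∧
      ∀ t : SU n F q, suVal t *ᵥ e = e → suVal t *ᵥ f = f → Commute s t := by
  obtain ⟨s, a, b, m, ha, hb, hse, hsf, hsw, hne⟩ : ∃ (s : SU n F q) (a b m : F), a ≠ 0 ∧ b ≠ 0 ∧
      suVal s *ᵥ e = a • e ∧ suVal s *ᵥ f = b • f ∧ (∀ x ∈ wSub q e f, suVal s *ᵥ x = m • x) ∧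
      cj a * m ≠ 1 := by
    by_cases hq : 3 ≤ q
    · obtain ⟨a, ha0, ha1, har⟩ := exists_real_ne_one hF hq
      obtain ⟨g, hg, hgd, hge, hgf, hgx⟩ := exists_gu_torus hF P ha0
      obtain ⟨s, hs⟩ := exists_su_of_gu hF hg (by rw [hgd, har, div_self ha0])
      refine ⟨s, a, (cj a)⁻¹, 1, ha0, inv_ne_zero (by rw [har]; exact ha0), by rw [hs, hge], by rw [hs, hgf],
        fun x hx => by rw [hs, hgx x hx.1 hx.2, one_smul], by rwa [mul_one, har]⟩
    · have hq2 : q = 2 := by have := two_le_q hF; omega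
      have h3n := hcase.resolve_left hq
      obtain ⟨ν, hν0, hν, hν1⟩ := exists_norm_one_ne_one hF
      have hν3 : ν ^ 3 = 1 := by
        rw [qFrob_apply, hq2] at hν
        rw [pow_succ']; exact hν
      have hcν : cj ν = ν ^ 2 := by rw [qFrob_apply, hq2]
      obtain ⟨g, hg, hgd, hge, hgf, hgx⟩ :=
        exists_gu_scalar_torus hF P (b := ν ^ (n - 3)) hν (pow_ne_zero _ hν0)
      have hd : ν ^ n * (ν ^ (n - 3) / cj (ν ^ (n - 3))) = 1 := by
        rw [map_pow, hcν, ← pow_mul, ← mul_div_assoc, ← pow_add, div_eq_iff (pow_ne_zero _ hν0),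
          show n + (n - 3) = 2 * (n - 3) + 3 by omega, pow_add, hν3, mul_one, one_mul]
      obtain ⟨s, hs⟩ := exists_su_of_gu hF hg (hgd.trans hd)
      refine ⟨s, _, _, ν, mul_ne_zero hν0 (pow_ne_zero _ hν0),
        mul_ne_zero hν0 (inv_ne_zero ((map_ne_zero (qFrob hF)).2 (pow_ne_zero _ hν0))), by rw [hs, hge],
        by rw [hs, hgf], fun x hx => by rw [hs, hgx x hx], fun e => ?_⟩
      rw [map_mul, map_pow, hcν, ← pow_mul, ← pow_add, ← pow_succ] at e
      have h3d : 3 ∣ 2 + 2 * (n - 3) + 1 := by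
        by_contra hnd
        have key := pow_mod_orderOf ν (2 + 2 * (n - 3) + 1)
        have : Fact (Nat.Prime 3) := ⟨Nat.prime_three⟩
        rw [orderOf_eq_prime hν3 hν1, e] at key
        rcases (show (2 + 2 * (n - 3) + 1) % 3 = 1 ∨ (2 + 2 * (n - 3) + 1) % 3 = 2 by omega) with h' | h' <;>
          rw [h'] at key
        · exact hν1 (by simpa using key)
        · exact hν1 (by linear_combination hν3 - ν * key)
      omega
  refine ⟨s, ⟨a, b, ha, hb, hse, hsf, fun w hw e' => ?_⟩, fun t hte htf => ?_⟩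
  · rw [hsw w hw, smul_smul] at e'
    have : (cj a * m - 1) • w = 0 := by rw [sub_smul, one_smul, e', sub_self]
    exact (smul_eq_zero.1 this).resolve_left (sub_ne_zero.2 hne)
  · have htw : ∀ x ∈ wSub q e f, suVal t *ᵥ x ∈ wSub q e f := fun x hx =>
      su_wSub hF (a := 1) (b := 1) (by rw [one_smul, hte]) (by rw [one_smul, htf]) one_ne_zero one_ne_zero hx
    refine su_ext_pair hF P ?_ ?_ fun x hx => ?_
    · rw [Fus.UnitN.mulVec_mul, Fus.UnitN.mulVec_mul, hte, hse, Matrix.mulVec_smul, hte]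
    · rw [Fus.UnitN.mulVec_mul, Fus.UnitN.mulVec_mul, htf, hsf, Matrix.mulVec_smul, htf]
    · rw [Fus.UnitN.mulVec_mul, Fus.UnitN.mulVec_mul, hsw _ (htw x hx), hsw x hx, Matrix.mulVec_smul]

omit hF in
/-- The element scaling a plane by `ζ` and its complement by `ζ²`. -/
structure PlaneEl (ζ : F) (e f x₁ x₂ : Fin n → F) (s : SU n F q) : Prop where
  se : suVal s *ᵥ e = e
  sf : suVal s *ᵥ f = f
  s1 : suVal s *ᵥ x₁ = ζ • x₁
  s2 : suVal s *ᵥ x₂ = ζ • x₂
  sr : ∀ x ∈ wSub q e f, hermForm n F q x x₁ = 0 → hermForm n F q x x₂ = 0 → suVal s *ᵥ x = ζ ^ 2 • x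

omit hF in
/-- Two orthogonal unit vectors. -/
structure UPair (q : ℕ) (e f x₁ x₂ : Fin n → F) : Prop where
  m1 : x₁ ∈ wSub q e f
  m2 : x₂ ∈ wSub q e f
  n1 : hermForm n F q x₁ x₁ = 1
  n2 : hermForm n F q x₂ x₂ = 1
  o : hermForm n F q x₁ x₂ = 0

theorem UPair.symm {x₁ x₂ : Fin n → F} (U : UPair q e f x₁ x₂) : UPair q e f x₂ x₁ :=
  ⟨U.m2, U.m1, U.n2, U.n1, h_comm_zero hF U.o⟩

omit hF in
theorem PlaneEl.symm {ζ : F} {x₁ x₂ : Fin n → F} {s : SU n F q} (T : PlaneEl ζ e f x₁ x₂ s) :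
    PlaneEl ζ e f x₂ x₁ s :=
  ⟨T.se, T.sf, T.s2, T.s1, fun x hx a b => T.sr x hx b a⟩

variable {x₁ x₂ : Fin n → F} {ζ : F}

theorem UPair.split (U : UPair q e f x₁ x₂) {x : Fin n → F} (hx : x ∈ wSub q e f) :
    x - h x x₁ • x₁ - h x x₂ • x₂ ∈ wSub q e f ∧ h (x - h x x₁ • x₁ - h x x₂ • x₂) x₁ = 0 ∧
      h (x - h x x₁ • x₁ - h x x₂ • x₂) x₂ = 0 := by
  refine ⟨sub_mem (sub_mem hx (Submodule.smul_mem _ _ U.m1)) (Submodule.smul_mem _ _ U.m2), ?_, ?_⟩
  · rw [h_sub_left, h_sub_left, h_smul_left, h_smul_left, U.n1, h_comm_zero hF U.o]; ring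
  · rw [h_sub_left, h_sub_left, h_smul_left, h_smul_left, U.o, U.n2]; ring

theorem PlaneEl.unique (P : IsPair (q := q) e f) (U : UPair q e f x₁ x₂) {s t : SU n F q}
    (S : PlaneEl ζ e f x₁ x₂ s) (T : PlaneEl ζ e f x₁ x₂ t) : s = t := by
  refine su_ext_pair hF P (S.se.trans T.se.symm) (S.sf.trans T.sf.symm) fun x hx => ?_
  obtain ⟨hr, hr1, hr2⟩ := U.split hF hx
  have e1 := S.sr _ hr hr1 hr2
  have e2 := T.sr _ hr hr1 hr2
  rw [← e2] at e1
  simp only [Matrix.mulVec_sub, Matrix.mulVec_smul, S.s1, S.s2, T.s1, T.s2] at e1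
  linear_combination (norm := module) e1

theorem PlaneEl.mover (hζ3 : ζ ^ 3 = 1) (hζ1 : ζ ≠ 1) {s : SU n F q}
    (S : PlaneEl ζ e f x₁ x₂ s) : Mover hF e f s := by
  refine ⟨1, 1, one_ne_zero, one_ne_zero, by rw [one_smul, S.se], by rw [one_smul, S.sf], fun w hw e' => ?_⟩
  rw [map_one, one_smul] at e'
  have hfix : ∀ {x : Fin n → F}, suVal s *ᵥ x = ζ • x → h w x = 0 := fun {x} hx => by
    have h1 := su_form s w x
    rw [e', hx, h_smul_right hF] at h1
    have : (cj ζ - 1) * h w x = 0 := by linear_combination h1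
    refine (mul_eq_zero.1 this).resolve_left (sub_ne_zero.2 fun e => hζ1 ?_)
    have := congrArg cj e
    rwa [cj_cj hF, map_one] at this
  have h2 := S.sr w hw (hfix S.s1) (hfix S.s2)
  rw [e'] at h2
  have : (ζ ^ 2 - 1) • w = 0 := by rw [sub_smul, one_smul, ← h2, sub_self]
  exact (smul_eq_zero.1 this).resolve_left (sub_ne_zero.2 fun e => hζ1 (by linear_combination hζ3 - ζ * e))

/-- The existence of the plane elements for two-element real field. -/
theorem exists_planeEl (P : IsPair (q := q) e f) (hq : q = 2) (hn : 3 ∣ n) (U : UPair q e f x₁ x₂)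
    (hζ : ζ * cj ζ = 1) : ∃ s : SU n F q, PlaneEl ζ e f x₁ x₂ s := by
  have hζ0 : ζ ≠ 0 := left_ne_zero_of_mul (hζ ▸ one_ne_zero)
  have hζ3 : ζ ^ 3 = 1 := by
    rw [qFrob_apply, hq] at hζ
    rw [pow_succ']; exact hζ
  have hcζ : cj ζ = ζ ^ 2 := by rw [qFrob_apply, hq]
  have hν : ζ ^ 2 * cj (ζ ^ 2) = 1 := by rw [map_pow, ← mul_pow, hζ, one_pow]
  obtain ⟨g, hg, hgd, hge, hgf, hgx⟩ := exists_gu_scalar_torus hF P hν hζ0
  obtain ⟨r₁, hr₁, hrd₁, hrv₁⟩ := exists_reflection hF (u := x₁) (by rw [U.n1]; exact one_ne_zero) hν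
  obtain ⟨r₂, hr₂, hrd₂, hrv₂⟩ := exists_reflection hF (u := x₂) (by rw [U.n2]; exact one_ne_zero) hν
  obtain ⟨s, hs⟩ := exists_su_of_gu hF (mul_mem (mul_mem hg hr₁) hr₂) (by
    rw [GeneralLinearGroup.coe_mul, GeneralLinearGroup.coe_mul, Matrix.det_mul, Matrix.det_mul, hgd, hrd₁, hrd₂,
      hcζ]
    obtain ⟨k, rfl⟩ := hn
    rw [← pow_mul, show 2 * (3 * k) = 3 * (2 * k) by ring, pow_mul, hζ3, one_pow, one_mul]
    field_simp
    linear_combination hζ3)
  have hval : ∀ x, suVal s *ᵥ x = (g : Matrix (Fin n) (Fin n) F) *ᵥ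
      ((r₁ : Matrix (Fin n) (Fin n) F) *ᵥ ((r₂ : Matrix (Fin n) (Fin n) F) *ᵥ x)) := fun x => by
    rw [hs, GeneralLinearGroup.coe_mul, GeneralLinearGroup.coe_mul, Matrix.mulVec_mulVec, Matrix.mulVec_mulVec,
      Matrix.mul_assoc]
  have fix : ∀ x, h x x₁ = 0 → h x x₂ = 0 → suVal s *ᵥ x = (g : Matrix (Fin n) (Fin n) F) *ᵥ x := fun x a b => by
    rw [hval, hrv₂, b]
    simp only [mul_zero, zero_div, zero_smul, add_zero]
    rw [hrv₁, a]
    simp only [mul_zero, zero_div, zero_smul, add_zero]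
  have e44 : ζ ^ 2 * ζ ^ 2 = ζ := by linear_combination ζ * hζ3
  refine ⟨s, ⟨?_, ?_, ?_, ?_, fun x hx a b => by rw [fix x a b, hgx x hx]⟩⟩
  · rw [fix e (h_comm_zero hF U.m1.1) (h_comm_zero hF U.m2.1), hge, ← pow_succ, hζ3, one_smul]
  · rw [fix f (h_comm_zero hF U.m1.2) (h_comm_zero hF U.m2.2), hgf, hcζ,
      mul_inv_cancel₀ (pow_ne_zero 2 hζ0), one_smul]
  · rw [hval, hrv₂, U.o]
    simp only [mul_zero, zero_div, zero_smul, add_zero]
    rw [hrv₁, U.n1, mul_one, div_one, show x₁ + (ζ ^ 2 - 1) • x₁ = ζ ^ 2 • x₁ by module, Matrix.mulVec_smul,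
      hgx x₁ U.m1, smul_smul, e44]
  · rw [hval, hrv₂, U.n2, mul_one, div_one, show x₂ + (ζ ^ 2 - 1) • x₂ = ζ ^ 2 • x₂ by module,
      Matrix.mulVec_smul, Matrix.mulVec_smul, hrv₁, h_comm_zero hF U.o]
    simp only [mul_zero, zero_div, zero_smul, add_zero]
    rw [hgx x₂ U.m2, smul_smul, e44]

theorem PlaneEl.conj {s t : SU n F q} (S : PlaneEl ζ e f x₁ x₂ s) (hte : suVal t *ᵥ e = e)
    (htf : suVal t *ᵥ f = f) : PlaneEl ζ e f (suVal t *ᵥ x₁) (suVal t *ᵥ x₂) (t * s * t⁻¹) := by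
  have hinv : ∀ x, suVal t⁻¹ *ᵥ (suVal t *ᵥ x) = x := fun x => (Fus.UnitN.inv_apply t x).1
  have hie : suVal t⁻¹ *ᵥ e = e := by conv_lhs => rw [← hte, hinv]
  have hif : suVal t⁻¹ *ᵥ f = f := by conv_lhs => rw [← htf, hinv]
  refine ⟨?_, ?_, ?_, ?_, fun x hx a b => ?_⟩
  · rw [Fus.UnitN.mulVec_mul, Fus.UnitN.mulVec_mul, hie, S.se, hte]
  · rw [Fus.UnitN.mulVec_mul, Fus.UnitN.mulVec_mul, hif, S.sf, htf]
  · rw [Fus.UnitN.mulVec_mul, Fus.UnitN.mulVec_mul, hinv, S.s1, Matrix.mulVec_smul]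
  · rw [Fus.UnitN.mulVec_mul, Fus.UnitN.mulVec_mul, hinv, S.s2, Matrix.mulVec_smul]
  · rw [Fus.UnitN.mulVec_mul, Fus.UnitN.mulVec_mul]
    have hh : ∀ y, h x (suVal t *ᵥ y) = h (suVal t⁻¹ *ᵥ x) y := fun y => by
      rw [← su_form t (suVal t⁻¹ *ᵥ x) y, (Fus.UnitN.inv_apply t x).2]
    rw [S.sr _ (su_wSub hF (a := 1) (b := 1) (by rw [one_smul, hie]) (by rw [one_smul, hif]) one_ne_zero
      one_ne_zero hx) (by rw [← hh]; exact a) (by rw [← hh]; exact b), Matrix.mulVec_smul,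
      (Fus.UnitN.inv_apply t x).2]

/-- Plane elements of orthogonal planes commute. -/
theorem PlaneEl.commute (P : IsPair (q := q) e f) (hζ : ζ * cj ζ = 1) {y₁ y₂ : Fin n → F}
    (U : UPair q e f x₁ x₂) {s t : SU n F q} (S : PlaneEl ζ e f x₁ x₂ s) (T : PlaneEl ζ e f y₁ y₂ t)
    (o11 : h x₁ y₁ = 0) (o12 : h x₁ y₂ = 0) (o21 : h x₂ y₁ = 0) (o22 : h x₂ y₂ = 0) : Commute t s := by
  have S' := S.conj hF T.se T.sf
  rw [T.sr x₁ U.m1 o11 o12, T.sr x₂ U.m2 o21 o22] at S'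
  have hz : ζ ^ 2 ≠ 0 := pow_ne_zero _ (left_ne_zero_of_mul (hζ ▸ one_ne_zero))
  have hc : cj (ζ ^ 2) ≠ 0 := (map_ne_zero (qFrob hF)).2 hz
  have S'' : PlaneEl ζ e f x₁ x₂ (t * s * t⁻¹) := by
    refine ⟨S'.se, S'.sf, ?_, ?_, fun x hx a b => S'.sr x hx ?_ ?_⟩
    · refine smul_right_injective _ hz ?_
      show ζ ^ 2 • _ = ζ ^ 2 • _
      rw [← Matrix.mulVec_smul, S'.s1, smul_comm]
    · refine smul_right_injective _ hz ?_
      show ζ ^ 2 • _ = ζ ^ 2 • _
      rw [← Matrix.mulVec_smul, S'.s2, smul_comm]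
    · rw [h_smul_right hF, a, mul_zero]
    · rw [h_smul_right hF, b, mul_zero]
  exact mul_inv_eq_iff_eq_mul.1 (S''.unique hF P U S)

omit hF in
/-- An orthogonal family of anisotropic vectors. -/
structure AFam (q : ℕ) (e f : Fin n → F) {k : ℕ} (u : Fin k → Fin n → F) : Prop where
  mem : ∀ i, u i ∈ wSub q e f
  ne : ∀ i, hermForm n F q (u i) (u i) ≠ 0
  orth : ∀ i j, i ≠ j → hermForm n F q (u i) (u j) = 0

theorem AFam.cons {k : ℕ} {u : Fin k → Fin n → F} (A : AFam q e f u) {z : Fin n → F}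
    (hz : z ∈ wSub q e f) (hz0 : h z z ≠ 0) (hzu : ∀ i, h z (u i) = 0) :
    AFam q e f (Fin.cons z u) := by
  refine ⟨fun i => ?_, fun i => ?_, fun i j hij => ?_⟩
  · cases i using Fin.cases with
    | zero => simpa using hz
    | succ i => simpa using A.mem i
  · cases i using Fin.cases with
    | zero => simpa using hz0
    | succ i => simpa using A.ne i
  · cases i using Fin.cases with
    | zero =>
      cases j using Fin.cases with
      | zero => exact absurd rfl hij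
      | succ j => simpa using hzu j
    | succ i =>
      cases j using Fin.cases with
      | zero => simpa using h_comm_zero hF (hzu i)
      | succ j => simpa using A.orth i j (fun e => hij (by rw [e]))

/-- Two unit vectors orthogonal to a family and one more vector. -/
theorem exists_upair_perp (P : IsPair (q := q) e f) {k : ℕ} {u : Fin k → Fin n → F} (A : AFam q e f u)
    {b : Fin n → F} (hb : b ∈ wSub q e f) (hk : k + 6 ≤ n) :
    ∃ z₁ z₂, UPair q e f z₁ z₂ ∧ (∀ i, h z₁ (u i) = 0 ∧ h z₂ (u i) = 0) ∧ h z₁ b = 0 ∧ h z₂ b = 0 := by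
  classical
  -- two vectors orthogonal to a family
  have two : ∀ {m : ℕ} {v : Fin m → Fin n → F}, AFam q e f v → m + 4 ≤ n →
      ∃ z₁ z₂, UPair q e f z₁ z₂ ∧ ∀ i, h z₁ (v i) = 0 ∧ h z₂ (v i) = 0 := by
    intro m v Av hm
    obtain ⟨z, hz, hz0, hzv⟩ := exists_aniso_perp hF P v Av.mem Av.ne Av.orth (by omega)
    have A' := Av.cons hF hz hz0 hzv
    obtain ⟨y, hy, hy0, hyv⟩ := exists_aniso_perp hF P _ A'.mem A'.ne A'.orth (by omega)
    obtain ⟨c, -, hc⟩ := exists_unit hF hz0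
    obtain ⟨d, -, hd⟩ := exists_unit hF hy0
    refine ⟨c • z, d • y, ⟨Submodule.smul_mem _ _ hz, Submodule.smul_mem _ _ hy, hc, hd, ?_⟩, fun i => ?_⟩
    · have := hyv 0
      rw [Fin.cons_zero] at this
      rw [h_smul_left, h_smul_right hF, h_comm_zero hF this, mul_zero, mul_zero]
    · have := hyv i.succ
      rw [Fin.cons_succ] at this
      exact ⟨by rw [h_smul_left, hzv i, mul_zero], by rw [h_smul_left, this, mul_zero]⟩
  obtain ⟨r, hr⟩ : ∃ r, r = b - ∑ i, (h b (u i) / h (u i) (u i)) • u i := ⟨_, rfl⟩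
  have hrW : r ∈ wSub q e f := hr ▸ sub_mem hb (Submodule.sum_mem _ fun i _ => Submodule.smul_mem _ _ (A.mem i))
  have hru : ∀ j, h r (u j) = 0 := fun j => by
    rw [hr, h_sub_left, h_sum_left hF,
      Finset.sum_eq_single j (fun i _ hij => by rw [h_smul_left, A.orth i j hij, mul_zero]) (by simp),
      h_smul_left, div_mul_cancel₀ _ (A.ne j), sub_self]
  have hback : ∀ z, (∀ i, h z (u i) = 0) → h z r = 0 → h z b = 0 := fun z hzu hzr => by
    have e : b = r + ∑ i, (h b (u i) / h (u i) (u i)) • u i := by rw [hr]; abel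
    rw [e, h_add_right hF, hzr, zero_add]
    refine h_comm_zero hF ?_
    rw [h_sum_left hF]
    exact Finset.sum_eq_zero fun i _ => by rw [h_smul_left, h_comm_zero hF (hzu i), mul_zero]
  rcases eq_or_ne r 0 with hr0 | hr0
  · obtain ⟨z₁, z₂, U, hzu⟩ := two A (by omega)
    exact ⟨z₁, z₂, U, hzu, hback _ (fun i => (hzu i).1) (by rw [hr0, h_zero_right hF]),
      hback _ (fun i => (hzu i).2) (by rw [hr0, h_zero_right hF])⟩
  by_cases hrr : h r r = 0
  swap
  · obtain ⟨z₁, z₂, U, hzu⟩ := two (A.cons hF hrW hrr hru) (by omega)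
    refine ⟨z₁, z₂, U, fun i => ?_, hback _ (fun i => ?_) ?_, hback _ (fun i => ?_) ?_⟩
    · simpa using hzu i.succ
    · simpa using (hzu i.succ).1
    · simpa using (hzu 0).1
    · simpa using (hzu i.succ).2
    · simpa using (hzu 0).2
  obtain ⟨y, hy, -, hry⟩ := wSub_partner hF P hrW hr0 hrr
  obtain ⟨y', hy'⟩ : ∃ y', y' = y - ∑ i, (h y (u i) / h (u i) (u i)) • u i := ⟨_, rfl⟩
  have hyW : y' ∈ wSub q e f := hy' ▸ sub_mem hy (Submodule.sum_mem _ fun i _ => Submodule.smul_mem _ _ (A.mem i))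
  have hyu : ∀ j, h y' (u j) = 0 := fun j => by
    rw [hy', h_sub_left, h_sum_left hF,
      Finset.sum_eq_single j (fun i _ hij => by rw [h_smul_left, A.orth i j hij, mul_zero]) (by simp),
      h_smul_left, div_mul_cancel₀ _ (A.ne j), sub_self]
  have hyr : h y' r = 1 := by
    rw [hy', h_sub_left, h_sum_left hF, Finset.sum_eq_zero fun i _ => by
      rw [h_smul_left, h_comm_zero hF (hru i), mul_zero], sub_zero, ← cj_h hF, hry, map_one]
  have hry' : h r y' = 1 := by rw [← cj_h hF, hyr, map_one]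
  obtain ⟨t, ht⟩ := PSUAut.exists_trace_eq hF (a := 1 - h y' y') (by rw [map_sub, map_one, cj_h_self hF])
  obtain ⟨v₁, hv₁⟩ : ∃ v₁, v₁ = t • r + y' := ⟨_, rfl⟩
  have h1r : h v₁ r = 1 := by rw [hv₁, h_add_left, h_smul_left, hrr, hyr, mul_zero, zero_add]
  have hr1 : h r v₁ = 1 := by rw [← cj_h hF, h1r, map_one]
  have h11 : h v₁ v₁ = 1 := by
    rw [hv₁, h_add_left, h_add_right hF, h_add_right hF, h_smul_left, h_smul_left, h_smul_right hF,
      h_smul_right hF, hrr, hyr, hry']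
    linear_combination ht
  have h22 : h (r - v₁) (r - v₁) = -1 := by
    rw [h_sub_left, h_sub_right hF, h_sub_right hF, hrr, h1r, hr1, h11]; ring
  have h21 : h (r - v₁) v₁ = 0 := by rw [h_sub_left, hr1, h11, sub_self]
  have hv1W : v₁ ∈ wSub q e f := hv₁ ▸ add_mem (Submodule.smul_mem _ t hrW) hyW
  have hv1u : ∀ i, h v₁ (u i) = 0 := fun i => by
    rw [hv₁, h_add_left, h_smul_left, hru, hyu, mul_zero, add_zero]
  have A1 := A.cons hF hv1W (by rw [h11]; exact one_ne_zero) hv1u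
  have A2 := A1.cons hF (sub_mem hrW hv1W) (by rw [h22]; exact neg_ne_zero.2 one_ne_zero) (fun i => by
    cases i using Fin.cases with
    | zero => simpa using h21
    | succ i => rw [Fin.cons_succ, h_sub_left, hru, hv1u, sub_self])
  obtain ⟨z₁, z₂, U, hzu⟩ := two A2 (by omega)
  have e : r = (r - v₁) + v₁ := by abel
  have b1 := hzu 0
  have b2 := hzu (Fin.succ 0)
  simp only [Fin.cons_zero, Fin.cons_succ] at b1 b2
  have hu' : ∀ i, h z₁ (u i) = 0 ∧ h z₂ (u i) = 0 := fun i => by simpa using hzu i.succ.succ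
  refine ⟨z₁, z₂, U, hu', hback _ (fun i => (hu' i).1) ?_, hback _ (fun i => (hu' i).2) ?_⟩
  · rw [e, h_add_right hF, b1.1, b2.1, add_zero]
  · rw [e, h_add_right hF, b1.2, b2.2, add_zero]

end Cfsg.Agent.Classical.UnitMult
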