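import Cfsg.Agent.Lib.Classical.UnitMultHeis
import Cfsg.Agent.Lib.Classical.UnitMultTau

/-!
A central cover of `SU_n(q)`, `n ≥ 4`: a Heisenberg group lifts to a subgroup stable under the stabiliser of its
pair.
-/

set_option autoImplicit false
set_option linter.unusedSectionVars false

namespace Cfsg.Agent.Classical.UnitMult

open Matrix Cfsg.Agent.Classical Cfsg.Agent.Classical.PSUAut
open scoped commutatorElement

variable {F : Type*} [Field F] [Fintype F] {q n : ℕ}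

local notation "h" => hermForm n F q

variable (hF : Fintype.card F = q ^ 2) {E : Type*} [Group E] {π : E →* SU n F q} {e f : Fin n → F}

local notation "cj" => qFrob hF

/-- The complement cut out by an element. -/
noncomputable def sc (C : Cov π) (e f : Fin n → F) (τ : E) : Subgroup E :=
  Subgroup.closure ((zsub hF C e f : Set E) ∪ {g | ∃ w ∈ wSub q e f, ∃ x, IsQL hF π e w x ∧ g = ⁅τ, x⁆})

include hF

section Sc

variable (C : Cov π) (P : IsPair (q := q) e f) (hn : 4 ≤ n)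
include C P hn

/-- The displacement of a vector. -/
theorem tau_comm {τ x : E} {a : F} (hte : suVal (π τ) *ᵥ e = a • e) {w : Fin n → F} (hx : IsQL hF π e w x) :
    IsQL hF π e (cj a • (suVal (π τ) *ᵥ w) - w) ⁅τ, x⁆ := by
  rw [commutatorElement_def, sub_eq_add_neg]
  exact (hx.conj hF hte).mul hF (hx.inv hF)

theorem sc_form {τ : E} (hτ : Mover hF e f (π τ)) {g : E} (hg : g ∈ sc hF C e f τ) :
    ∃ z ∈ zsub hF C e f, ∃ w ∈ wSub q e f, ∃ x, IsQL hF π e w x ∧ g = z * ⁅τ, x⁆ := by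
  have hgen : 4 ≤ n ∨ 3 ≤ q := Or.inl hn
  obtain ⟨a, b, ha, hb, hte, htf, -⟩ := hτ
  have hmem : ∀ {w : Fin n → F}, w ∈ wSub q e f → cj a • (suVal (π τ) *ᵥ w) - w ∈ wSub q e f := fun hw =>
    sub_mem (Submodule.smul_mem _ _ (su_wSub hF hte htf ha hb hw)) hw
  have h1Q : IsQL hF π e 0 (1 : E) := ⟨0, EOK.zero hF P.ee, by rw [map_one]; exact (eSU_zero hF P.ee).symm⟩
  -- the rule of products
  have mulrule : ∀ {w : Fin n → F} {x : E}, w ∈ wSub q e f → IsQL hF π e w x → ∀ {v : Fin n → F} {y : E},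
      v ∈ wSub q e f → IsQL hF π e v y → ∃ c ∈ zsub hF C e f, ⁅τ, x * y⁆ = c * (⁅τ, x⁆ * ⁅τ, y⁆) := by
    intro w x hw hx v y hv hy
    refine ⟨⁅x, ⁅τ, y⁆⁆, comm_mem_zsub hF C P (by omega) hgen hw (hmem hv) hx (tau_comm hF C P hn hte hy), ?_⟩
    have hz : IsQL hF π e 0 ⁅x, ⁅τ, y⁆⁆ := hx.comm hF (tau_comm hF C P hn hte hy)
    have hc := zq_commute hF C P (by omega) hgen (hmem hw) hz (tau_comm hF C P hn hte hx)
    rw [← mul_assoc, hc.eq, commutatorElement_def, commutatorElement_def, commutatorElement_def,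
      commutatorElement_def]
    group
  have cen : ∀ {z : E}, z ∈ zsub hF C e f → ∀ {w : Fin n → F} {x : E}, w ∈ wSub q e f → IsQL hF π e w x →
      Commute z x := by
    intro z hz w x hw hx
    exact zq_commute hF C P (by omega) hgen hw (zsub_isQL hF C P (by omega) hgen hz) hx
  induction hg using Subgroup.closure_induction with
  | mem g hg =>
    rcases hg with hg | ⟨w, hw, x, hx, rfl⟩
    · exact ⟨g, hg, 0, zero_mem _, 1, h1Q, by simp⟩
    · exact ⟨1, one_mem _, w, hw, x, hx, (one_mul _).symm⟩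
  | one => exact ⟨1, one_mem _, 0, zero_mem _, 1, h1Q, by simp⟩
  | mul g g' _ _ ih ih' =>
    obtain ⟨z, hz, w, hw, x, hx, rfl⟩ := ih
    obtain ⟨z', hz', v, hv, y, hy, rfl⟩ := ih'
    obtain ⟨c, hc, hcxy⟩ := mulrule hw hx hv hy
    refine ⟨z * z' * c⁻¹, mul_mem (mul_mem hz hz') (inv_mem hc), _, add_mem hw hv, _, hx.mul hF hy, ?_⟩
    have hcom := cen hz' (hmem hw) (tau_comm hF C P hn hte hx)
    rw [hcxy]
    calc z * ⁅τ, x⁆ * (z' * ⁅τ, y⁆) = z * (⁅τ, x⁆ * z') * ⁅τ, y⁆ := by group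
      _ = z * z' * ⁅τ, x⁆ * ⁅τ, y⁆ := by rw [← hcom.eq]; group
      _ = _ := by group
  | inv g _ ih =>
    obtain ⟨z, hz, w, hw, x, hx, rfl⟩ := ih
    obtain ⟨c, hc, hcxy⟩ := mulrule hw hx (neg_mem hw) (hx.inv hF)
    refine ⟨z⁻¹ * c, mul_mem (inv_mem hz) hc, -w, neg_mem hw, x⁻¹, hx.inv hF, ?_⟩
    rw [mul_inv_cancel, commutatorElement_one_right] at hcxy
    have hcom := cen hz (hmem hw) (tau_comm hF C P hn hte hx)
    have hcom' := cen hc (hmem hw) (tau_comm hF C P hn hte hx)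
    rw [show ⁅τ, x⁻¹⁆ = ⁅τ, x⁆⁻¹ * c⁻¹ from
      eq_mul_inv_of_mul_eq (eq_inv_of_mul_eq_one_right (by
        calc ⁅τ, x⁆ * (⁅τ, x⁻¹⁆ * c) = c⁻¹ * (c * (⁅τ, x⁆ * ⁅τ, x⁻¹⁆)) * c := by group
          _ = 1 := by rw [← hcxy]; group))]
    calc (z * ⁅τ, x⁆)⁻¹ = ⁅τ, x⁆⁻¹ * z⁻¹ := _root_.mul_inv_rev _ _
      _ = z⁻¹ * ⁅τ, x⁆⁻¹ := (hcom.inv_inv).eq.symm
      _ = z⁻¹ * (c * ⁅τ, x⁆⁻¹) * c⁻¹ := by rw [(hcom'.inv_right).eq]; group
      _ = _ := by group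

theorem sc_conj {τ g : E} {a b : F} (ha : a ≠ 0) (hb : b ≠ 0) (hge : suVal (π g) *ᵥ e = a • e)
    (hgf : suVal (π g) *ᵥ f = b • f) {x : E} (hx : x ∈ sc hF C e f τ) :
    g * x * g⁻¹ ∈ sc hF C e f (g * τ * g⁻¹) := by
  induction hx using Subgroup.closure_induction with
  | mem x hx =>
    rcases hx with hx | ⟨w, hw, y, hy, rfl⟩
    · exact Subgroup.subset_closure (Or.inl (zsub_conj hF C P (by omega) (Or.inl hn) ha hb hge hgf hx))
    · refine Subgroup.subset_closure (Or.inr ⟨_, ?_, g * y * g⁻¹, hy.conj hF hge, ?_⟩)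
      · exact Submodule.smul_mem _ _ (su_wSub hF hge hgf ha hb hw)
      · exact conjugate_commutatorElement _ _ _
  | one => simp
  | mul x y _ _ ihx ihy =>
    rw [show g * (x * y) * g⁻¹ = g * x * g⁻¹ * (g * y * g⁻¹) by group]
    exact mul_mem ihx ihy
  | inv x _ ih => rw [show g * x⁻¹ * g⁻¹ = (g * x * g⁻¹)⁻¹ by group]; exact inv_mem ih

theorem sc_congr {τ τ' : E} (hπ : π τ = π τ') : sc hF C e f τ = sc hF C e f τ' := by
  have : ∀ x : E, ⁅τ, x⁆ = ⁅τ', x⁆ := fun x => comm_congr π C.cen hπ rfl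
  simp only [sc, this]

theorem sc_isQL {τ : E} (hτ : Mover hF e f (π τ)) {g : E} (hg : g ∈ sc hF C e f τ) :
    ∃ w ∈ wSub q e f, IsQL hF π e w g := by
  obtain ⟨z, hz, w, hw, x, hx, rfl⟩ := sc_form hF C P hn hτ hg
  obtain ⟨a, b, ha, hb, hte, htf, -⟩ := hτ
  refine ⟨_, ?_, (zsub_isQL hF C P (by omega) (Or.inl hn) hz).mul hF (tau_comm hF C P hn hte hx)⟩
  exact add_mem (zero_mem _) (sub_mem (Submodule.smul_mem _ _ (su_wSub hF hte htf ha hb hw)) hw)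

variable (hnq : 5 ≤ n ∨ 4 ≤ q)
include hnq

theorem sc_ker {τ : E} (hτ : Mover hF e f (π τ)) {g : E} (hg : g ∈ sc hF C e f τ) (hg1 : π g = 1) : g = 1 := by
  obtain ⟨z, hz, w, hw, x, hx, rfl⟩ := sc_form hF C P hn hτ hg
  obtain ⟨a, b, ha, hb, hte, htf, hfree⟩ := hτ
  have hq := (zsub_isQL hF C P (by omega) (Or.inl hn) hz).mul hF (tau_comm hF C P hn hte hx)
  obtain ⟨c, H, hH⟩ := hq
  rw [hg1, ← eSU_zero hF P.ee] at hH
  have e0 := (eSU_inj hF P (EOK.zero hF P.ee) H (zero_mem _)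
    (add_mem (zero_mem _) (sub_mem (Submodule.smul_mem _ _ (su_wSub hF hte htf ha hb hw)) hw)) hH).1
  rw [zero_add, eq_comm, sub_eq_zero] at e0
  obtain rfl := hfree w hw e0
  obtain ⟨d, Hd, hxd⟩ := hx
  obtain ⟨z₁, hz₁, hπz₁⟩ := zsub_surj hF C P (by omega) (Or.inl hn) Hd
  refine zsub_ker hF C P hn hnq (mul_mem hz ?_) hg1
  rw [show ⁅τ, x⁆ = ⁅τ, z₁⁆ from comm_congr π C.cen rfl (hxd.trans hπz₁.symm), commutatorElement_def]
  exact mul_mem (zsub_conj hF C P (by omega) (Or.inl hn) ha hb hte htf hz₁) (inv_mem hz₁)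

theorem sc_surj {τ : E} (hτ : Mover hF e f (π τ)) {s : SU n F q} (hs : s ∈ heisU hF e P.ee) :
    ∃ g ∈ sc hF C e f τ, π g = s := by
  obtain ⟨a, b, ha, hb, hte, htf, hfree⟩ := hτ
  obtain ⟨w, c, H, hw, rfl⟩ := heis_rep hF P hs
  let D : wSub q e f → wSub q e f := fun v => ⟨cj a • (suVal (π τ) *ᵥ (v : Fin n → F)) - v,
    sub_mem (Submodule.smul_mem _ _ (su_wSub hF hte htf ha hb v.2)) v.2⟩
  have hinj : Function.Injective D := fun v v' e' => by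
    have e1 : cj a • (suVal (π τ) *ᵥ (v : Fin n → F)) - v = cj a • (suVal (π τ) *ᵥ (v' : Fin n → F)) - v' :=
      congrArg Subtype.val e'
    refine Subtype.ext (sub_eq_zero.1 (hfree _ (sub_mem v.2 v'.2) ?_))
    rw [Matrix.mulVec_sub, smul_sub]
    linear_combination (norm := abel) e1
  obtain ⟨v, hv⟩ := Finite.surjective_of_injective hinj ⟨w, hw⟩
  have hv' : cj a • (suVal (π τ) *ᵥ (v : Fin n → F)) - v = w := congrArg Subtype.val hv
  have h0 := qL_spec hF C P v.2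
  obtain ⟨g₀, hg₀def⟩ : ∃ g₀, g₀ = ⁅τ, qL hF C e (v : Fin n → F)⁆ := ⟨_, rfl⟩
  have hg₀ : IsQL hF π e w g₀ := hg₀def ▸ hv' ▸ tau_comm hF C P hn hte h0
  obtain ⟨y, hy⟩ := C.surj (eSU hF H)
  obtain ⟨d, Hd, hd⟩ := hg₀.same hF (⟨c, H, hy⟩ : IsQL hF π e w y)
  obtain ⟨z, hz, hπz⟩ := zsub_surj hF C P (by omega) (Or.inl hn) Hd
  refine ⟨g₀ * z, mul_mem (hg₀def ▸ Subgroup.subset_closure (Or.inr ⟨_, v.2, _, h0, rfl⟩))
    (Subgroup.subset_closure (Or.inl hz)), ?_⟩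
  rw [map_mul, hπz, ← hd, ← map_mul, mul_inv_cancel_left, hy]

/-- Commuting elements cut out the same complement. -/
theorem sc_le {τ τ' : E} (hτ : Mover hF e f (π τ)) (hτ' : Mover hF e f (π τ')) (hc : Commute (π τ') (π τ)) :
    sc hF C e f τ' ≤ sc hF C e f τ := by
  refine (Subgroup.closure_le _).2 ?_
  rintro g (hg | ⟨w, hw, x, ⟨c, H, hx⟩, rfl⟩)
  · exact Subgroup.subset_closure (Or.inl hg)
  obtain ⟨a, b, ha, hb, hte, htf, -⟩ := hτ'
  obtain ⟨s, hs, hπs⟩ := sc_surj hF C P hn hnq hτ (s := eSU hF H) ⟨w, c, H, rfl⟩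
  rw [show ⁅τ', x⁆ = ⁅τ', s⁆ from comm_congr π C.cen rfl (hx.trans hπs.symm), commutatorElement_def]
  have h1 := sc_conj hF C P hn ha hb hte htf hs
  rw [sc_congr hF C P hn (τ' := τ) (by rw [map_mul, map_mul, map_inv, hc.eq, mul_inv_cancel_right])] at h1
  exact mul_mem h1 (inv_mem hs)

theorem sc_eq {τ τ' : E} (hτ : Mover hF e f (π τ)) (hτ' : Mover hF e f (π τ')) (hc : Commute (π τ') (π τ)) :
    sc hF C e f τ' = sc hF C e f τ :=
  le_antisymm (sc_le hF C P hn hnq hτ hτ' hc) (sc_le hF C P hn hnq hτ' hτ hc.symm)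

/-- A stable lift of the Heisenberg group. -/
structure Sect (π : E →* SU n F q) (e f : Fin n → F) (he : hermForm n F q e e = 0) (S : Subgroup E) : Prop where
  le : ∀ g ∈ S, π g ∈ heisU hF e he
  ker : ∀ g ∈ S, π g = 1 → g = 1
  surj : ∀ s ∈ heisU hF e he, ∃ g ∈ S, π g = s
  stable : ∀ t : E, suVal (π t) *ᵥ e = e → suVal (π t) *ᵥ f = f → ∀ g ∈ S, t * g * t⁻¹ ∈ S

theorem sect_of_mover {τ : E} (hτ : Mover hF e f (π τ))
    (hst : ∀ t : E, suVal (π t) *ᵥ e = e → suVal (π t) *ᵥ f = f →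
      sc hF C e f (t * τ * t⁻¹) = sc hF C e f τ) : Sect hF π e f P.ee (sc hF C e f τ) := by
  refine ⟨fun g hg => ?_, fun g hg => sc_ker hF C P hn hnq hτ hg, fun s hs => sc_surj hF C P hn hnq hτ hs,
    fun t hte htf g hg => ?_⟩
  · obtain ⟨w, -, c, H, hH⟩ := sc_isQL hF C P hn hτ hg
    exact ⟨w, c, H, by rw [hH]; rfl⟩
  · rw [← hst t hte htf]
    exact sc_conj hF C P hn (a := 1) (b := 1) one_ne_zero one_ne_zero (by rw [one_smul, hte])
      (by rw [one_smul, htf]) hg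

theorem exists_sect (h62 : ¬(n = 6 ∧ q = 2)) : ∃ S : Subgroup E, Sect hF π e f P.ee S := by
  by_cases hcase : 3 ≤ q ∨ ¬ 3 ∣ n
  · obtain ⟨s, hs, hcomm⟩ := exists_central hF P (by omega) hcase
    obtain ⟨τ, rfl⟩ := C.surj s
    refine ⟨_, sect_of_mover hF C P hn hnq hs fun t hte htf => sc_congr hF C P hn ?_⟩
    rw [map_mul, map_mul, map_inv, ← (hcomm _ hte htf).eq, mul_inv_cancel_right]
  push Not at hcase
  obtain ⟨hq3, h3n⟩ := hcase
  have hq : q = 2 := by have := two_le_q hF; omega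
  have hn9 : 9 ≤ n := by obtain ⟨k, rfl⟩ := h3n; omega
  obtain ⟨ζ, hζ0, hζ, hζ1⟩ := exists_norm_one_ne_one hF
  have hζ3 : ζ ^ 3 = 1 := by
    rw [qFrob_apply, hq] at hζ
    rw [pow_succ']; exact hζ
  -- the complement of a plane
  have el : ∀ {x₁ x₂}, UPair q e f x₁ x₂ → ∃ τ : E, PlaneEl ζ e f x₁ x₂ (π τ) := fun U => by
    obtain ⟨s, hs⟩ := exists_planeEl hF P hq h3n U hζ
    obtain ⟨τ, rfl⟩ := C.surj s
    exact ⟨τ, hs⟩
  have mv : ∀ {x₁ x₂} {τ : E}, PlaneEl ζ e f x₁ x₂ (π τ) → Mover hF e f (π τ) := fun S =>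
    S.mover hF hζ3 hζ1
  -- planes with a common vector
  have share : ∀ {u a b} {τ σ : E}, UPair q e f u a → UPair q e f u b → PlaneEl ζ e f u a (π τ) →
      PlaneEl ζ e f u b (π σ) → sc hF C e f τ = sc hF C e f σ := by
    intro u a b τ σ Ua Ub Sa Sb
    have A : AFam q e f ![u, a] := ⟨fun i => by fin_cases i; exacts [Ua.m1, Ua.m2],
      fun i => by fin_cases i <;> simp [Ua.n1, Ua.n2], fun i j hij => by
        fin_cases i <;> fin_cases j
        · exact absurd rfl hij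
        · exact Ua.o
        · exact h_comm_zero hF Ua.o
        · exact absurd rfl hij⟩
    obtain ⟨z₁, z₂, Uz, hz, hz1, hz2⟩ := exists_upair_perp hF P A Ub.m2 (by omega)
    obtain ⟨ρ, Sz⟩ := el Uz
    have h0 := hz 0
    have h1 := hz 1
    simp at h0 h1
    rw [sc_eq hF C P hn hnq (mv Sz) (mv Sa) (PlaneEl.commute hF P hζ Uz Sz Sa h0.1 h1.1 h0.2 h1.2),
      sc_eq hF C P hn hnq (mv Sz) (mv Sb) (PlaneEl.commute hF P hζ Uz Sz Sb h0.1 hz1 h0.2 hz2)]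
  have all : ∀ {u₁ u₂ v₁ v₂} {τ σ : E}, UPair q e f u₁ u₂ → UPair q e f v₁ v₂ → PlaneEl ζ e f u₁ u₂ (π τ) →
      PlaneEl ζ e f v₁ v₂ (π σ) → sc hF C e f τ = sc hF C e f σ := by
    intro u₁ u₂ v₁ v₂ τ σ U W S T
    have A : AFam q e f ![u₁] := ⟨fun i => by fin_cases i; exact U.m1,
      fun i => by fin_cases i; simp [U.n1], fun i j hij => absurd (Subsingleton.elim i j) hij⟩
    obtain ⟨w, w', Uw, hw, hwv, -⟩ := exists_upair_perp hF P A W.m1 (by omega)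
    have U1 : UPair q e f u₁ w := ⟨U.m1, Uw.m1, U.n1, Uw.n1, h_comm_zero hF (hw 0).1⟩
    have U2 : UPair q e f v₁ w := ⟨W.m1, Uw.m1, W.n1, Uw.n1, h_comm_zero hF hwv⟩
    obtain ⟨τ₁, S1⟩ := el U1
    obtain ⟨τ₂, S2⟩ := el U2
    rw [share U U1 S S1, share (U1.symm hF) (U2.symm hF) S1.symm S2.symm, share U2 W S2 T]
  obtain ⟨u, O⟩ := exists_onb hF P (by omega : 2 ≤ n)
  have U : UPair q e f (u ⟨0, by omega⟩) (u ⟨1, by omega⟩) :=
    ⟨O.mem _, O.mem _, O.one _, O.one _, O.orth _ _ (by simp [Fin.ext_iff])⟩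
  obtain ⟨τ, S⟩ := el U
  refine ⟨_, sect_of_mover hF C P hn hnq (mv S) fun t hte htf => ?_⟩
  have S' := S.conj hF hte htf
  rw [← map_inv, ← map_mul, ← map_mul] at S'
  have hm : ∀ {x : Fin n → F}, x ∈ wSub q e f → suVal (π t) *ᵥ x ∈ wSub q e f := fun hx =>
    su_wSub hF (a := 1) (b := 1) (by rw [one_smul, hte]) (by rw [one_smul, htf]) one_ne_zero one_ne_zero hx
  exact all ⟨hm U.m1, hm U.m2, by rw [su_form]; exact U.n1, by rw [su_form]; exact U.n2,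
    by rw [su_form]; exact U.o⟩ U S' S

end Sc

end Cfsg.Agent.Classical.UnitMult
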