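import Cfsg.Agent.Lib.Classical.UnitMultThreeGen
import Cfsg.Agent.Lib.Classical.PPDCentralizer
import Cfsg.Agent.Lib.Classical.UnitDiagonalOut

/-!
Central extensions of `SU₃(q)` with kernel an `l`-group, `l` an odd prime different from the characteristic.
-/

set_option autoImplicit false
set_option linter.unusedSectionVars false

namespace Cfsg.Agent.Classical.UnitMult

open Matrix Cfsg.Agent.Classical Cfsg.Agent.Classical.PSUAut Cfsg.Agent.Fus.UnitN Cfsg.Agent.Lie.SUGen
  Cfsg.Agent.Lie.SU3Pres Cfsg.Agent.UnitDiagonalOut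
open scoped commutatorElement

section General

variable {E H : Type*} [Group E] [Group H] {π : E →* H}

/-- A lift of a central element is central. -/
theorem central_lift {p l : ℕ} [Fact p.Prime] [Fact l.Prime] (hlp : l ≠ p) (hker : IsPGroup l π.ker)
    (hc : π.ker ≤ Subgroup.center E) (hgen : Subgroup.closure {g : E | IsPElem p g} = ⊤) {a : E}
    (ha : ∀ h' : H, Commute (π a) h') (e : E) : Commute a e := by
  have he : e ∈ Subgroup.closure {g : E | IsPElem p g} := hgen ▸ Subgroup.mem_top e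
  induction he using Subgroup.closure_induction with
  | mem g hg =>
    obtain ⟨k, hk⟩ := hg
    have hcen : ∀ u, π ⁅a, u⁆ = 1 := fun u => by
      rw [map_commutatorElement, commutatorElement_eq_one_iff_commute]; exact ha _
    have hpow : ∀ m : ℕ, ⁅a, g ^ m⁆ = ⁅a, g⁆ ^ m := fun m => by
      induction m with
      | zero => simp
      | succ m ih =>
        rw [pow_succ, pow_succ, show ⁅a, g ^ m * g⁆ = ⁅a, g ^ m⁆ * (g ^ m * ⁅a, g⁆ * (g ^ m)⁻¹) by
          simp only [commutatorElement_def]; group,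
          (ker_comm π hc (hcen g) (g ^ m)).eq, mul_inv_cancel_right, ih]
    obtain ⟨j, hj⟩ := hker ⟨⁅a, g⁆, hcen g⟩
    have hj' : ⁅a, g⁆ ^ l ^ j = 1 := congrArg Subtype.val hj
    have hk' : ⁅a, g⁆ ^ p ^ k = 1 := by rw [← hpow, hk, commutatorElement_one_right]
    refine commutatorElement_eq_one_iff_commute.1 (orderOf_eq_one_iff.1 (Nat.eq_one_of_dvd_coprimes
      (((Nat.coprime_primes (Fact.out : l.Prime) (Fact.out : p.Prime)).2 hlp).pow j k)
      (orderOf_dvd_of_pow_eq_one hj') (orderOf_dvd_of_pow_eq_one hk')))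
  | one => exact Commute.one_right a
  | mul x y _ _ hx hy => exact hx.mul_right hy
  | inv x _ hx => exact hx.inv_right

/-- The derived group of an abelian preimage is trivial. -/
theorem eq_one_of_commute {M : Subgroup H} (hM : ∀ a b : E, π a ∈ M → π b ∈ M → Commute a b) {z : E}
    (hz : z ∈ ⁅M.comap π, M.comap π⁆) : z = 1 :=
  Subgroup.mem_bot.1 ((Subgroup.commutator_le.2 fun a ha b hb =>
    Subgroup.mem_bot.2 (commutatorElement_eq_one_iff_commute.2 (hM a b ha hb))) hz)

end General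

variable {F : Type*} [Field F] [Fintype F] {q : ℕ} (hF : Fintype.card F = q ^ 2)

local notation "cj" => qFrob hF

/-- The split torus. -/
noncomputable def t1Hom {e n f : Fin 3 → F} (B : Frame3 q e n f) : Fˣ →* SU 3 F q where
  toFun u := Tm hF B (u : F)
  map_one' := by rw [Units.val_one]; exact T_one hF B
  map_mul' u v := (T_mul hF B u.ne_zero v.ne_zero).symm

/-- The diagonal torus in standard coordinates. -/
noncomputable def diaT : normOne F q × normOne F q →* SU 3 F q where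
  toFun d := suMk hF (Matrix.diagonal fun i => ((![d.1, d.2, (d.1 * d.2)⁻¹] i).1 : F))
    (by simp [Matrix.det_diagonal, Fin.prod_univ_three]; field_simp)
    (transpose_mul_diagonal hF fun i => congrArg Units.val
      (show (![d.1, d.2, (d.1 * d.2)⁻¹] i).1 ^ (q + 1) = 1 from (![d.1, d.2, (d.1 * d.2)⁻¹] i).2))
  map_one' := suVal_ext (by
    rw [suVal_suMk, suVal_one']
    ext i j; fin_cases i <;> fin_cases j <;> simp [Matrix.diagonal])
  map_mul' d d' := suVal_ext (by
    rw [suVal_mul, suVal_suMk, suVal_suMk, suVal_suMk, Matrix.diagonal_mul_diagonal]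
    congr 1
    funext i
    fin_cases i <;> simp [mul_comm, mul_left_comm, mul_assoc])

theorem suVal_diaT (a b : normOne F q) :
    suVal (diaT hF (a, b)) = Matrix.diagonal ![(a.1 : F), (b.1 : F), ((a.1 : F) * b.1)⁻¹] := by
  show Matrix.diagonal _ = _
  congr 1
  funext i
  fin_cases i <;> simp

theorem diaT_injective : Function.Injective (diaT hF) := fun d d' hdd => by
  obtain ⟨a, b⟩ := d
  obtain ⟨a', b'⟩ := d'
  have h1 := congrArg suVal hdd
  rw [suVal_diaT, suVal_diaT] at h1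
  have h2 := Matrix.diagonal_injective h1
  have e0 := congrFun h2 0
  have e1 := congrFun h2 1
  simp at e0 e1
  rw [Subtype.ext (Units.ext e0), Subtype.ext (Units.ext e1)]

include hF

variable {p : ℕ} [Fact p.Prime] [CharP F p] {E : Type*} [Group E] {π : E →* SU 3 F q}
  (hπ : Function.Surjective π) (hc : π.ker ≤ Subgroup.center E)
  {l : ℕ} [hl : Fact l.Prime] (hlp : l ≠ p)

omit [Fact l.Prime] in
theorem q_eq_pow : ∃ k : ℕ, q = p ^ k := by
  obtain ⟨k, hprime, hcard⟩ := FiniteField.card F p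
  have : q ∣ p ^ (k : ℕ) := by rw [← hcard, hF]; exact dvd_pow_self q two_ne_zero
  obtain ⟨j, -, hj⟩ := (Nat.dvd_prime_pow hprime).1 this
  exact ⟨j, hj⟩

include hlp in
theorem not_dvd_q : ¬ l ∣ q := by
  obtain ⟨k, rfl⟩ := q_eq_pow hF (p := p)
  exact fun h1 => hlp ((Nat.prime_dvd_prime_iff_eq hl.out Fact.out).1 (hl.out.dvd_of_dvd_pow h1))

include hπ hc hlp

variable [Finite E] (hgen : Subgroup.closure {g : E | IsPElem p g} = ⊤) (hker : IsPGroup l π.ker)
include hgen hker

/-- `l` prime to `q² - 1`: a Sylow subgroup is cyclic. -/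
theorem ker_eq_bot_singer (hq2 : ¬ l ∣ q ^ 2 - 1) : π.ker = ⊥ := by
  obtain ⟨L⟩ := (inferInstance : Nonempty (Sylow l (SU 3 F q)))
  suffices ∃ g, (L : Subgroup (SU 3 F q)) ≤ Subgroup.zpowers g by
    obtain ⟨g, hg⟩ := this
    exact ker_eq_bot_of_prime hgen π hπ hc hlp hker L L.not_dvd_index fun z _ hz =>
      eq_one_of_commute (fun a b ha hb => commute_of_zpowers π hπ hc (hg ha) (hg hb)) hz
  rcases eq_or_ne (L : Subgroup (SU 3 F q)) ⊥ with hL | hL
  · exact ⟨1, by rw [hL]; exact bot_le⟩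
  haveI : Nontrivial L := (Subgroup.nontrivial_iff_ne_bot _).2 hL
  haveI : Nontrivial (Subgroup.center L) := L.2.center_nontrivial
  obtain ⟨z, hz⟩ : ∃ z : Subgroup.center L, orderOf z = l := by
    refine exists_prime_orderOf_dvd_card' l ?_
    obtain ⟨m, hm⟩ := (L.2.to_subgroup (Subgroup.center L)).exists_card_eq
    rw [hm]
    refine dvd_pow_self l fun h0 => ?_
    rw [h0, pow_zero] at hm
    exact (Finite.one_lt_card (α := Subgroup.center L)).ne' hm
  let ι : SU 3 F q →* GL (Fin 3) F :=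
    Matrix.SpecialLinearGroup.toGL.comp (SU 3 F q).subtype
  have hι : Function.Injective ι := Matrix.SpecialLinearGroup.toGL_injective.comp Subtype.val_injective
  set x : GL (Fin 3) F := ι z with hx
  have hzo : orderOf x = l := by
    rw [hx, orderOf_injective ι hι]
    exact ((Subgroup.orderOf_coe (z : L)).trans (Subgroup.orderOf_coe z)).trans hz
  have hdvd : l ∣ q ^ 3 + 1 := by
    have h1 : l ∣ Nat.card (SU 3 F q) := hzo ▸ (by
      rw [hx, orderOf_injective ι hι]; exact orderOf_dvd_natCard _)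
    rw [natCard_SU3 hF] at h1
    rcases hl.out.dvd_mul.1 h1 with h2 | h2
    · exact (hl.out.dvd_mul.1 h2).resolve_left fun h3 => not_dvd_q hF hlp (hl.out.dvd_of_dvd_pow h3)
    · exact absurd h2 hq2
  have hq1 : 1 ≤ q ^ 2 := Nat.one_le_pow _ _ (by have := two_le_q hF; omega)
  have hord : orderOf ((q ^ 2 : ℕ) : ZMod l) = 3 := by
    refine orderOf_eq_prime ?_ fun h1 => hq2 ?_
    · rw [← Nat.cast_pow, ← sub_eq_zero]
      have h0 : ((q ^ 3 + 1 : ℕ) : ZMod l) = 0 := (ZMod.natCast_eq_zero_iff _ _).2 hdvd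
      push_cast at h0 ⊢
      linear_combination ((q : ZMod l) ^ 3 - 1) * h0
    · rw [← ZMod.natCast_eq_zero_iff, Nat.cast_sub hq1, h1, Nat.cast_one, sub_self]
  have hxp : (x : Matrix (Fin 3) (Fin 3) F) ^ l = 1 := by
    rw [← Units.val_pow_eq_pow_val, ← hzo, pow_orderOf_eq_one, Units.val_one]
  obtain ⟨hirr, hd⟩ := PPDCentralizer.minpoly_irreducible hF (by norm_num) hl.out (fun h0 =>
      hlp ((Nat.prime_dvd_prime_iff_eq Fact.out hl.out).1 ((CharP.cast_eq_zero_iff F p l).1 h0)).symm)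
    hord (x : Matrix (Fin 3) (Fin 3) F) (fun h1 => hl.out.ne_one (hzo ▸ orderOf_eq_one_iff.2 (Units.ext h1))) hxp
  haveI := (PPDCentralizer.centralizer_of_irreducible hF (by norm_num) x hirr hd).1
  let f : L →* Subgroup.centralizer ({x} : Set (GL (Fin 3) F)) :=
    (ι.comp (L : Subgroup (SU 3 F q)).subtype).codRestrict _ fun a => Subgroup.mem_centralizer_singleton_iff.2 (by
      show ι (a : SU 3 F q) * ι z = ι z * ι (a : SU 3 F q)
      rw [← map_mul, ← map_mul]
      exact congrArg ι (congrArg Subtype.val (Subgroup.mem_center_iff.1 z.2 a)))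
  haveI : IsCyclic L := isCyclic_of_injective f fun a b hab => Subtype.ext (hι (congrArg Subtype.val hab))
  obtain ⟨g, hg⟩ := IsCyclic.exists_generator (α := L)
  refine ⟨g, fun a ha => ?_⟩
  obtain ⟨i, hi⟩ := Subgroup.mem_zpowers_iff.1 (hg ⟨a, ha⟩)
  exact Subgroup.mem_zpowers_iff.2 ⟨i, by rw [← SubgroupClass.coe_zpow, hi]⟩

/-- `l` odd dividing `q - 1`. -/
theorem ker_eq_bot_split (hl2 : l ≠ 2) (hq1 : l ∣ q - 1) : π.ker = ⊥ := by
  obtain ⟨e, n, f, B⟩ := exists_frame hF
  set A := (t1Hom hF B).range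
  obtain ⟨g, hg⟩ := IsCyclic.exists_generator (α := Fˣ)
  have hinj : Function.Injective (t1Hom hF B) := fun u v huv => by
    have huv' : Tm hF B (u : F) = Tm hF B (v : F) := huv
    have h1 := congrArg (fun s => suVal s *ᵥ co e n f 1 0 0) huv'
    rw [T_act hF B u.ne_zero, T_act hF B v.ne_zero] at h1
    exact Units.ext (by simpa using (co_inj hF B h1).1)
  have hidx : A.index = q ^ 3 * (q ^ 3 + 1) := by
    have h1 := A.card_mul_index
    have hA : Nat.card A = q ^ 2 - 1 := by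
      rw [← Nat.card_congr (MonoidHom.ofInjective hinj).toEquiv, Nat.card_units,
        Nat.card_eq_fintype_card, hF]
    rw [hA, natCard_SU3 hF] at h1
    have h2 : 0 < q ^ 2 - 1 := Nat.sub_pos_of_lt (Nat.one_lt_pow two_ne_zero (two_le_q hF))
    exact Nat.eq_of_mul_eq_mul_left h2 (h1.trans (mul_comm _ _))
  have hq : ((q : ℕ) : ZMod l) = 1 := by
    rw [← ZMod.natCast_eq_zero_iff, Nat.cast_sub (by have := two_le_q hF; omega), sub_eq_zero] at hq1
    exact hq1.trans Nat.cast_one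
  refine ker_eq_bot_of_prime hgen π hπ hc hlp hker A ?_ fun z _ hz => eq_one_of_commute ?_ hz
  · rw [hidx, ← ZMod.natCast_eq_zero_iff]
    push_cast
    rw [hq]
    intro h0
    have h2 : ((2 : ℕ) : ZMod l) = 0 := by
      push_cast
      linear_combination h0
    exact hl2 ((Nat.prime_dvd_prime_iff_eq hl.out Nat.prime_two).1 ((ZMod.natCast_eq_zero_iff _ _).1 h2))
  · intro a b ha hb
    have hAz : A ≤ Subgroup.zpowers (t1Hom hF B g) := by
      rintro _ ⟨u, rfl⟩
      rw [← MonoidHom.map_zpowers]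
      exact Subgroup.mem_map_of_mem _ (hg u)
    exact commute_of_zpowers π hπ hc (hAz ha) (hAz hb)

/-- `l` odd dividing `q + 1`. -/
theorem ker_eq_bot_nonsplit (hl2 : l ≠ 2) (hq1 : l ∣ q + 1) : π.ker = ⊥ := by
  set A := (diaT hF).range
  haveI : IsCyclic (normOne F q) := inferInstance
  obtain ⟨g, hg⟩ := IsCyclic.exists_generator (α := normOne F q)
  obtain ⟨xe, hxe⟩ := hπ (diaT hF (g, g⁻¹))
  obtain ⟨ye, hye⟩ := hπ (diaT hF (1, g))
  have hcomm : Commute xe ye := by
    have hz : π ⁅xe, ye⁆ = 1 := by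
      rw [map_commutatorElement, hxe, hye, commutatorElement_eq_one_iff_commute]
      exact (Commute.all (g, g⁻¹) ((1 : normOne F q), g)).map (diaT hF)
    obtain ⟨s, hs⟩ : ∃ s : SU 3 F q, suVal s = !![0, 1, 0; 1, 0, 0; 0, 0, -1] := by
      refine ⟨suMk hF _ (by simp [Matrix.det_fin_three]) ?_, suVal_suMk hF _ _ _⟩
      ext i j
      fin_cases i <;> fin_cases j <;> simp [Matrix.mul_apply, Fin.sum_univ_three]
    obtain ⟨se, hse⟩ := hπ s
    have hsx : s * diaT hF (g, g⁻¹) = diaT hF (g⁻¹, g) * s := suVal_ext (by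
      rw [suVal_mul, suVal_mul, suVal_diaT, suVal_diaT, hs]
      ext i j
      fin_cases i <;> fin_cases j <;> simp [Matrix.mul_apply, Fin.sum_univ_three, Matrix.diagonal])
    have hsy : s * diaT hF (1, g) = diaT hF (g, 1) * s := suVal_ext (by
      rw [suVal_mul, suVal_mul, suVal_diaT, suVal_diaT, hs]
      ext i j
      fin_cases i <;> fin_cases j <;> simp [Matrix.mul_apply, Fin.sum_univ_three, Matrix.diagonal])
    have e1 : π (se * xe * se⁻¹) = π xe⁻¹ := by
      rw [map_mul, map_mul, map_inv, map_inv, hse, hxe, hsx, mul_inv_cancel_right, ← map_inv]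
      simp [Prod.inv_mk]
    have e2 : π (se * ye * se⁻¹) = π (xe * ye) := by
      rw [map_mul, map_mul, map_mul, map_inv, hse, hxe, hye, hsy, mul_inv_cancel_right, ← map_mul]
      simp
    have h1 : ⁅xe⁻¹, xe * ye⁆ = ⁅xe, ye⁆ := by
      rw [← comm_congr π hc e1 e2, ← conjugate_commutatorElement, (ker_comm π hc hz se).eq,
        mul_inv_cancel_right]
    have h2 : ⁅xe⁻¹, xe * ye⁆ = ⁅xe, ye⁆⁻¹ := by
      simp only [commutatorElement_def]; group
    rw [h2] at h1
    have hsq : ⁅xe, ye⁆ ^ 2 = 1 := by rw [pow_two]; exact inv_eq_iff_mul_eq_one.1 h1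
    obtain ⟨j, hj⟩ := hker ⟨⁅xe, ye⁆, hz⟩
    have hj' : ⁅xe, ye⁆ ^ l ^ j = 1 := congrArg Subtype.val hj
    exact commutatorElement_eq_one_iff_commute.1 (orderOf_eq_one_iff.1 (Nat.eq_one_of_dvd_coprimes
      (((Nat.coprime_primes hl.out Nat.prime_two).2 hl2).pow_left j)
      (orderOf_dvd_of_pow_eq_one hj') (orderOf_dvd_of_pow_eq_one hsq)))
  have hA : ∀ a b : E, π a ∈ A → π b ∈ A → Commute a b := by
    have hrep : ∀ a : E, π a ∈ A → ∃ i j : ℤ, π a = π (xe ^ i * ye ^ j) := by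
      rintro a ⟨⟨u, v⟩, hd⟩
      obtain ⟨i, rfl⟩ := Subgroup.mem_zpowers_iff.1 (hg u)
      obtain ⟨k, rfl⟩ := Subgroup.mem_zpowers_iff.1 (hg v)
      refine ⟨i, i + k, ?_⟩
      rw [map_mul, map_zpow, map_zpow, hxe, hye, ← map_zpow, ← map_zpow, ← map_mul, ← hd]
      congr 1
      refine Prod.ext (by simp) ?_
      show g ^ k = ((g⁻¹ : normOne F q)) ^ i * g ^ (i + k)
      rw [_root_.inv_zpow, _root_.zpow_add, inv_mul_cancel_left]
    intro a b ha hb
    obtain ⟨i, j, hij⟩ := hrep a ha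
    obtain ⟨i', j', hij'⟩ := hrep b hb
    refine commute_congr π hc hij.symm hij'.symm ?_
    exact ((Commute.zpow_zpow_self xe i i').mul_right (hcomm.zpow_zpow i j')).mul_left
      ((hcomm.symm.zpow_zpow j i').mul_right (Commute.zpow_zpow_self ye j j'))
  have hq : ((q : ℕ) : ZMod l) = -1 := by
    rw [← ZMod.natCast_eq_zero_iff, Nat.cast_add, Nat.cast_one] at hq1
    linear_combination hq1
  have h2l : (2 : ZMod l) ≠ 0 := fun h0 =>
    hl2 ((Nat.prime_dvd_prime_iff_eq hl.out Nat.prime_two).1 ((ZMod.natCast_eq_zero_iff _ _).1 (by exact_mod_cast h0)))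
  have hq2 := two_le_q hF
  have hle : q ≤ q ^ 2 := Nat.le_self_pow two_ne_zero q
  have hidx : A.index = q ^ 3 * (q - 1) * (q ^ 2 - q + 1) := by
    have h1 := A.card_mul_index
    have hA' : Nat.card A = (q + 1) * (q + 1) := by
      rw [← Nat.card_congr (MonoidHom.ofInjective (diaT_injective hF)).toEquiv, Nat.card_prod, natCard_normOne hF]
    rw [hA', natCard_SU3 hF] at h1
    refine Nat.eq_of_mul_eq_mul_left (show 0 < (q + 1) * (q + 1) by positivity) (h1.trans ?_)
    zify [hle, (by omega : 1 ≤ q), (by nlinarith : 1 ≤ q ^ 2)]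
    ring
  by_cases hl3 : l = 3
  swap
  · refine ker_eq_bot_of_prime hgen π hπ hc hlp hker A ?_ fun z _ hz => eq_one_of_commute hA hz
    rw [hidx, ← ZMod.natCast_eq_zero_iff]
    push_cast [Nat.cast_sub (by omega : 1 ≤ q), Nat.cast_sub hle]
    rw [hq]
    intro h0
    have h3 : (3 : ZMod l) = 0 :=
      (mul_eq_zero.1 (show (2 : ZMod l) * 3 = 0 by linear_combination h0)).resolve_left h2l
    exact hl3 ((Nat.prime_dvd_prime_iff_eq hl.out Nat.prime_three).1 ((ZMod.natCast_eq_zero_iff _ _).1 (by exact_mod_cast h3)))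
  subst hl3
  -- the cyclic permutation
  obtain ⟨c, hc3⟩ : ∃ c : SU 3 F q, suVal c = !![0, 0, 1; 1, 0, 0; 0, 1, 0] := by
    refine ⟨suMk hF _ (by simp [Matrix.det_fin_three]) ?_, suVal_suMk hF _ _ _⟩
    ext i j
    fin_cases i <;> fin_cases j <;> simp [Matrix.mul_apply, Fin.sum_univ_three]
  have hcA : ∀ u v : normOne F q, c * diaT hF (u, v) = diaT hF ((u * v)⁻¹, u) * c := fun u v => suVal_ext (by
    rw [suVal_mul, suVal_mul, suVal_diaT, suVal_diaT, hc3]
    ext i j
    fin_cases i <;> fin_cases j <;> simp [Matrix.mul_apply, Fin.sum_univ_three, Matrix.diagonal] <;> field_simp)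
  have hb : ∀ a ∈ A, c * a * c⁻¹ ∈ A := by
    rintro _ ⟨⟨u, v⟩, rfl⟩
    exact ⟨((u * v)⁻¹, u), by rw [hcA, mul_inv_cancel_right]⟩
  have hb' : ∀ a ∈ A, c⁻¹ * a * c ∈ A := by
    rintro _ ⟨⟨u, v⟩, rfl⟩
    refine ⟨(v, (u * v)⁻¹), ?_⟩
    rw [mul_assoc, eq_inv_mul_iff_mul_eq, hcA]
    congr 3
    simp
  have hr : ∀ k : ℕ, c ^ k ∈ A → 3 ∣ k := by
    rintro k ⟨⟨u, v⟩, hk⟩
    have h1 := congrArg suVal hk
    rw [suVal_diaT, suVal_pow, hc3] at h1
    have hcube : (!![0, 0, 1; 1, 0, 0; 0, 1, 0] : Matrix (Fin 3) (Fin 3) F) ^ 3 = 1 := by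
      ext i j; fin_cases i <;> fin_cases j <;> simp [pow_succ, Matrix.mul_apply, Fin.sum_univ_three]
    rw [← Nat.div_add_mod k 3, pow_add, pow_mul, hcube, one_pow, one_mul] at h1
    have h3 : k % 3 < 3 := Nat.mod_lt _ (by norm_num)
    refine Nat.dvd_of_mod_eq_zero ?_
    interval_cases hk3 : k % 3
    · rfl
    · have := congrFun₂ h1 1 0; simp at this
    · have := congrFun₂ h1 0 1; simp [pow_succ, Matrix.mul_apply, Fin.sum_univ_three] at this
  refine ker_eq_bot_of_prime hgen π hπ hc hlp hker (A ⊔ Subgroup.zpowers c) ?_ fun z hz1 hz =>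
    inf_derived_eq_one π hπ hc hA hb hb' ?_ hz1 hz
  · intro h3
    have h9 : 3 * 3 ∣ q ^ 3 * (q - 1) * (q ^ 2 - q + 1) :=
      hidx ▸ (Nat.mul_dvd_mul_right h3 3).trans (index_sup_zpowers_dvd A hb hr)
    have hcop : Nat.Coprime (3 * 3) (q ^ 3 * (q - 1)) := by
      have hq3 : ¬ 3 ∣ q := not_dvd_q hF hlp
      rw [show 3 * 3 = 3 ^ 2 by norm_num]
      refine Nat.Coprime.pow_left 2 ((Nat.Coprime.pow_right 3 ?_).mul_right ?_)
      · exact Nat.prime_three.coprime_iff_not_dvd.2 hq3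
      · exact Nat.prime_three.coprime_iff_not_dvd.2 (by omega)
    have h9' := hcop.dvd_of_dvd_mul_left h9
    have hmod : ((q ^ 2 - q + 1 : ℕ) : ZMod 9) = 0 := (ZMod.natCast_eq_zero_iff _ _).2 h9'
    push_cast [Nat.cast_sub hle] at hmod
    have hq3 : ((q : ZMod 9)) ∈ ({2, 5, 8} : Finset (ZMod 9)) := by
      rw [← ZMod.natCast_mod q 9]
      have : q % 9 = 2 ∨ q % 9 = 5 ∨ q % 9 = 8 := by omega
      rcases this with e | e | e <;> rw [e] <;> decide
    revert hmod hq3
    generalize (q : ZMod 9) = x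
    revert x
    decide
  · intro a be ha hbe hab
    refine central_lift hlp hker hc hgen (fun h' => ?_) be
    obtain ⟨⟨u, v⟩, hd⟩ := ha
    rw [← hd] at hab ⊢
    have e1 := congrArg suVal ((hcA u v).symm.trans hab.eq.symm)
    rw [suVal_mul, suVal_mul, suVal_diaT, suVal_diaT, hc3] at e1
    have f0 := congrFun₂ e1 0 2
    have f1 := congrFun₂ e1 1 0
    simp [Matrix.mul_apply, Fin.sum_univ_three, Matrix.diagonal] at f0 f1
    refine suVal_ext ?_
    have hsc : suVal (diaT hF (u, v)) = Matrix.scalar (Fin 3) (u.1 : F) := by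
      rw [suVal_diaT, Matrix.scalar_apply]
      congr 1
      funext i
      fin_cases i
      · simp
      · simp [f1]
      · simpa using f0
    rw [suVal_mul, suVal_mul, hsc]
    exact (Matrix.scalar_commute _ (fun r => Commute.all _ r) (suVal h')).eq

end Cfsg.Agent.Classical.UnitMult
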