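import Cfsg.Agent.Lib.Classical.UnitMultThreeTorus
import Cfsg.Agent.Lib.Classical.HermTotIsoLines
import Cfsg.Agent.Lib.Lie.SLTwoMult
import Cfsg.Agent.Lib.Lie.SympWreath

/-!
Central extensions of `SU₃(q)`, `q` odd, with kernel a `2`-group.
-/

set_option autoImplicit false
set_option linter.unusedSectionVars false

namespace Cfsg.Agent.Classical.UnitMult

open Matrix Cfsg.Agent.Classical Cfsg.Agent.Classical.PSUAut Cfsg.Agent.Fus.UnitN Cfsg.Agent.Lie.SUGen
  Cfsg.Agent.Lie.SU3Pres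
open scoped commutatorElement

variable {F : Type*} [Field F] [Fintype F] {q : ℕ} (hF : Fintype.card F = q ^ 2)

local notation "cj" => qFrob hF

/-- The fixed field. -/
abbrev fixK : Subfield F := (qFrob hF).eqLocusField (RingHom.id F)

include hF

theorem natCard_fixK : Nat.card (fixK hF) = q :=
  (Nat.card_congr (Equiv.subtypeEquivRight fun x => by rw [← qFrob_apply hF]; exact Iff.rfl)).symm.trans
    (HermTotIsoLines.natCard_fixed hF) |>.trans rfl

theorem exists_sl2_emb {e n f : Fin 3 → F} (B : Frame3 q e n f) {μ : F} (hμ0 : μ ≠ 0) (hμ : μ + cj μ = 0) :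
    ∃ φ : Matrix.SpecialLinearGroup (Fin 2) (fixK hF) →* SU 3 F q, Function.Injective φ ∧
      ∀ (M : Matrix.SpecialLinearGroup (Fin 2) (fixK hF)) (x y z : F),
        suVal (φ M) *ᵥ co e n f x y z = co e n f ((M.1 0 0 : F) * x + μ * (M.1 0 1 : F) * z) y
          ((M.1 1 0 : F) / μ * x + (M.1 1 1 : F) * z) := by
  have hfix : ∀ a : fixK hF, cj (a : F) = a := fun a => a.2
  have hcμ : cj μ = -μ := eq_neg_of_add_eq_zero_right hμ
  have hex : ∀ M : Matrix.SpecialLinearGroup (Fin 2) (fixK hF), ∃ g : SU 3 F q, ∀ x y z : F,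
      suVal g *ᵥ co e n f x y z = co e n f ((M.1 0 0 : F) * x + μ * (M.1 0 1 : F) * z) y
        ((M.1 1 0 : F) / μ * x + (M.1 1 1 : F) * z) := by
    intro M
    have hdet : (M.1 0 0 : F) * (M.1 1 1 : F) - (M.1 0 1 : F) * (M.1 1 0 : F) = 1 := by
      have h1 := congrArg Subtype.val ((Matrix.det_fin_two M.1).symm.trans M.2)
      exact_mod_cast h1
    obtain ⟨g, hg⟩ := exists_ofCoord hF B
      !![(M.1 0 0 : F), 0, μ * (M.1 0 1 : F); 0, 1, 0; (M.1 1 0 : F) / μ, 0, (M.1 1 1 : F)]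
      (by simp [Matrix.det_fin_three]; field_simp; linear_combination hdet) (fun v v' => by
        simp [Matrix.mulVec, dotProduct, Fin.sum_univ_three, hfix, hcμ]
        field_simp
        linear_combination (μ * v 0 * cj (v' 2) + μ * v 2 * cj (v' 0)) * hdet)
    exact ⟨g, fun x y z => by simpa [Matrix.mulVec, dotProduct, Fin.sum_univ_three] using hg ![x, y, z]⟩
  choose φ hφ using hex
  let Φ : Matrix.SpecialLinearGroup (Fin 2) (fixK hF) →* SU 3 F q :=
    MonoidHom.mk' φ fun M N => ext_co hF B fun x y z => by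
      rw [mulVec_mul, hφ, hφ, hφ, Matrix.SpecialLinearGroup.coe_mul]
      simp [Matrix.mul_apply, Fin.sum_univ_two]
      congr 1 <;> (field_simp; ring)
  refine ⟨Φ, fun M N hMN => ?_, fun M => hφ M⟩
  have k1 := hφ M 1 0 0
  have k3 := hφ M 0 0 1
  rw [show φ M = φ N from hMN, hφ N] at k1 k3
  obtain ⟨a0, -, a2⟩ := co_inj hF B k1
  obtain ⟨b0, -, b2⟩ := co_inj hF B k3
  simp at a0 a2 b0 b2
  ext i j
  fin_cases i <;> fin_cases j
  · simpa using a0.symm
  · symm; simpa [hμ0] using b0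
  · simpa [hμ0] using a2.symm
  · simpa using b2.symm

variable {p : ℕ} [Fact p.Prime] [CharP F p] {E : Type*} [Group E] [Finite E] {π : E →* SU 3 F q}
  (hπ : Function.Surjective π) (hc : π.ker ≤ Subgroup.center E) (hp2 : 2 ≠ p)
  (hgen : Subgroup.closure {g : E | IsPElem p g} = ⊤) (hker : IsPGroup 2 π.ker)

include hπ hc hp2 hgen hker

theorem ker_eq_bot_two_torus (h4 : q % 4 = 1) : π.ker = ⊥ := by
  haveI : Fact (Nat.Prime 2) := ⟨Nat.prime_two⟩
  obtain ⟨e, n, f, B⟩ := exists_frame hF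
  set A := (t1Hom hF B).range
  obtain ⟨g, hg⟩ := IsCyclic.exists_generator (α := Fˣ)
  have hinj : Function.Injective (t1Hom hF B) := fun u v huv => by
    have huv' : Tm hF B (u : F) = Tm hF B (v : F) := huv
    have h1 := congrArg (fun s => suVal s *ᵥ co e n f 1 0 0) huv'
    rw [T_act hF B u.ne_zero, T_act hF B v.ne_zero] at h1
    exact Units.ext (by simpa using (co_inj hF B h1).1)
  have hq2 := two_le_q hF
  have hidx : A.index = q ^ 3 * (q ^ 3 + 1) := by
    have h1 := A.card_mul_index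
    have hA : Nat.card A = q ^ 2 - 1 := by
      rw [← Nat.card_congr (MonoidHom.ofInjective hinj).toEquiv, Nat.card_units,
        Nat.card_eq_fintype_card, hF]
    rw [hA, natCard_SU3 hF] at h1
    exact Nat.eq_of_mul_eq_mul_left (Nat.sub_pos_of_lt (Nat.one_lt_pow two_ne_zero hq2)) (h1.trans (mul_comm _ _))
  have hWinv : (Wm hF B)⁻¹ = Wm hF B := inv_eq_of_mul_eq_one_right (W_sq hF B)
  have hb : ∀ a ∈ A, Wm hF B * a * Wm hF B ∈ A := by
    rintro _ ⟨u, rfl⟩
    refine ⟨(Units.map (cj : F →* F) u)⁻¹, ?_⟩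
    show Tm hF B _ = _
    rw [show t1Hom hF B u = Tm hF B (u : F) from rfl, W_conj hF B u.ne_zero]
    simp
  have hr : ∀ k : ℕ, Wm hF B ^ k ∈ A → 2 ∣ k := by
    intro k hk
    rcases Nat.even_or_odd k with ⟨r, rfl⟩ | ⟨r, rfl⟩
    · exact ⟨r, (two_mul r).symm⟩
    exfalso
    obtain ⟨u, hu⟩ := hk
    rw [pow_add, pow_mul, pow_two, W_sq hF B, one_pow, one_mul, pow_one] at hu
    have h1 : suVal (Tm hF B (u : F)) *ᵥ co e n f 1 0 0 = suVal (Wm hF B) *ᵥ co e n f 1 0 0 :=
      congrArg (fun s => suVal s *ᵥ co e n f 1 0 0) hu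
    rw [T_act hF B u.ne_zero, W_act hF B] at h1
    exact one_ne_zero (α := F) (by simpa using (co_inj hF B h1).2.2.symm)
  have hA : ∀ a b : E, π a ∈ A → π b ∈ A → Commute a b := by
    have hAz : A ≤ Subgroup.zpowers (t1Hom hF B g) := by
      rintro _ ⟨u, rfl⟩
      rw [← MonoidHom.map_zpowers]
      exact Subgroup.mem_map_of_mem _ (hg u)
    exact fun a b ha hb => commute_of_zpowers π hπ hc (hAz ha) (hAz hb)
  refine ker_eq_bot_of_prime hgen π hπ hc hp2 hker (A ⊔ Subgroup.zpowers (Wm hF B)) ?_ fun z hz1 hz =>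
    inf_derived_eq_one π hπ hc hA (by rw [hWinv]; exact hb) (by rw [hWinv]; exact hb) ?_ hz1 hz
  · intro h2
    have h22 : 2 * 2 ∣ q ^ 3 * (q ^ 3 + 1) :=
      hidx ▸ (Nat.mul_dvd_mul_right h2 2).trans (index_sup_zpowers_dvd A (by rw [hWinv]; exact hb) hr)
    have hmod : ((q ^ 3 * (q ^ 3 + 1) : ℕ) : ZMod 4) = 0 := (ZMod.natCast_eq_zero_iff _ _).2 h22
    push_cast at hmod
    rw [← ZMod.natCast_mod q 4, h4] at hmod
    revert hmod
    decide
  · intro a be ha hbe hab
    obtain ⟨u, hu⟩ := ha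
    obtain ⟨k, hk⟩ := (mem_powers_iff_mem_zpowers.2 (hg u) : u ∈ Submonoid.powers g)
    subst hk
    obtain ⟨x, hx⟩ := hπ (t1Hom hF B g)
    -- the exponent
    have hkq : q - 1 ∣ k := by
      have h1 : t1Hom hF B ((g ^ k) * (Units.map (cj : F →* F) (g ^ k))) = 1 := by
        rw [map_mul]
        have h2 : Wm hF B * t1Hom hF B (g ^ k) * Wm hF B = t1Hom hF B (g ^ k) := by
          rw [hu, ← hab.eq, mul_assoc, W_sq hF B, mul_one]
        have h3 : Wm hF B * t1Hom hF B (g ^ k) * Wm hF B = (t1Hom hF B (Units.map (cj : F →* F) (g ^ k)))⁻¹ := by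
          rw [← map_inv, show t1Hom hF B (g ^ k) = Tm hF B ((g ^ k : Fˣ) : F) from rfl,
            W_conj hF B (Units.ne_zero _)]
          show _ = Tm hF B _
          simp
        exact eq_inv_iff_mul_eq_one.1 (h2.symm.trans h3)
      rw [← map_one (t1Hom hF B), hinj.eq_iff] at h1
      have h2 : g ^ (k * (q + 1)) = 1 := by
        rw [pow_mul, pow_succ', ← h1]
        congr 1
      have h3 := orderOf_dvd_of_pow_eq_one h2
      rw [orderOf_eq_card_of_forall_mem_zpowers hg, Nat.card_units, Nat.card_eq_fintype_card, hF,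
        show q ^ 2 - 1 = (q - 1) * (q + 1) by
          rw [mul_comm, ← Nat.sq_sub_sq, one_pow]] at h3
      exact Nat.dvd_of_mul_dvd_mul_right (by omega) h3
    obtain ⟨j, rfl⟩ := hkq
    obtain ⟨z, hzd⟩ : ∃ z, z = x ^ q * (be * x * be⁻¹) := ⟨_, rfl⟩
    have hz : π z = 1 := by
      rw [hzd, map_mul, map_pow, map_mul, map_mul, map_inv, hx, hbe, hWinv, ← map_pow,
        show t1Hom hF B g = Tm hF B (g : F) from rfl, W_conj hF B g.ne_zero,
        show t1Hom hF B (g ^ q) = Tm hF B ((g : F) ^ q) by rw [← Units.val_pow_eq_pow_val]; rfl,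
        cj_pow hF, T_mul hF B ((map_ne_zero (qFrob hF)).2 g.ne_zero) (inv_ne_zero ((map_ne_zero (qFrob hF)).2 g.ne_zero)),
        mul_inv_cancel₀ ((map_ne_zero (qFrob hF)).2 g.ne_zero), T_one hF B]
    have hconj : ∀ m : ℕ, be * x ^ m * be⁻¹ = (x ^ (q * m))⁻¹ * z ^ m := fun m => by
      rw [← conj_pow, show be * x * be⁻¹ = (x ^ q)⁻¹ * z by rw [hzd]; group,
        (ker_comm π hc hz _).mul_pow, inv_pow, ← pow_mul]
    have hb2 : π (be * be) = 1 := by rw [map_mul, hbe, W_sq hF B]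
    have e1 : x ^ (q * q) * (z ^ q)⁻¹ * z = x := by
      have e0 : be * (be * x * be⁻¹) * be⁻¹ = x := by
        rw [show be * (be * x * be⁻¹) * be⁻¹ = be * be * x * (be * be)⁻¹ by group,
          ← (ker_comm π hc hb2 x).eq, mul_inv_cancel_right]
      rw [show be * x * be⁻¹ = (x ^ q)⁻¹ * z by rw [hzd]; group,
        show be * ((x ^ q)⁻¹ * z) * be⁻¹ = (be * x ^ q * be⁻¹)⁻¹ * (be * z * be⁻¹) by group,
        hconj, (ker_comm π hc hz be).eq, mul_inv_cancel_right] at e0
      have hzq : Commute (x ^ (q * q)) (z ^ q)⁻¹ := ((ker_comm π hc hz _).pow_right q).inv_right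
      rw [_root_.mul_inv_rev, inv_inv, ← hzq.eq] at e0
      exact e0
    have e2 : x ^ (q * q - 1) = z ^ (q - 1) := by
      have hqq : q * q = (q * q - 1) + 1 := by have := Nat.mul_le_mul hq2 hq2; omega
      have hzz : z ^ q = z ^ (q - 1) * z := by rw [← pow_succ, Nat.sub_add_cancel (by omega)]
      rw [hzz, _root_.mul_inv_rev] at e1
      conv at e1 => lhs; rw [hqq, pow_succ]
      have hcz : Commute x ((z ^ (q - 1))⁻¹) := ((ker_comm π hc hz x).pow_right _).inv_right
      rw [show z⁻¹ * (z ^ (q - 1))⁻¹ = (z ^ (q - 1))⁻¹ * z⁻¹ from ((Commute.self_pow z (q - 1)).inv_inv).eq,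
        ← mul_assoc (x ^ (q * q - 1) * x), inv_mul_cancel_right, mul_assoc, hcz.eq, ← mul_assoc,
        mul_eq_right, mul_inv_eq_one] at e1
      exact e1
    refine commute_congr π hc (a := x ^ ((q - 1) * j)) (b := be) ?_ rfl ?_
    · rw [map_pow, hx, ← map_pow, hu]
    · have h3 : be * x ^ ((q - 1) * j) * be⁻¹ = x ^ ((q - 1) * j) := by
        rw [hconj, inv_mul_eq_iff_eq_mul, ← pow_add, pow_mul z, ← e2, ← pow_mul]
        congr 1
        rw [← Nat.one_pow 2, show q * q = q ^ 2 from (pow_two q).symm, Nat.sq_sub_sq]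
        ring
      exact (mul_inv_eq_iff_eq_mul.1 h3).symm

theorem ker_eq_bot_two_sl2 (h4 : q % 4 = 3) : π.ker = ⊥ := by
  classical
  haveI : Fact (Nat.Prime 2) := ⟨Nat.prime_two⟩
  obtain ⟨e, n, f, B⟩ := exists_frame hF
  obtain ⟨μ, hμ0, hμ⟩ := exists_trace_zero hF
  obtain ⟨φ, hφinj, hφ⟩ := exists_sl2_emb hF B hμ0 hμ
  haveI : Fintype (fixK hF) := Fintype.ofFinite _
  haveI : CharP (fixK hF) p := RingHom.charP (fixK hF).subtype Subtype.val_injective p
  have hK : Fintype.card (fixK hF) = q := by rw [← Nat.card_eq_fintype_card]; exact natCard_fixK hF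
  obtain ⟨g, hg⟩ := IsCyclic.exists_generator (α := Fˣ)
  set M₀ := φ.range
  have hnorm : ∀ a ∈ M₀, Tm hF B (g : F) * a * (Tm hF B (g : F))⁻¹ ∈ M₀ := by
    rintro _ ⟨M, rfl⟩
    have hN : (g : F) * cj g ∈ fixK hF := by
      show cj ((g : F) * cj g) = _
      rw [map_mul, cj_cj hF, mul_comm]; rfl
    set N : fixK hF := ⟨_, hN⟩
    have hg' : cj (g : F) ≠ 0 := (map_ne_zero (qFrob hF)).2 g.ne_zero
    have hN0 : N ≠ 0 := fun h0 => mul_ne_zero g.ne_zero hg' (congrArg Subtype.val h0)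
    obtain ⟨M', hM'⟩ : ∃ M' : Matrix.SpecialLinearGroup (Fin 2) (fixK hF),
        M'.1 = !![M.1 0 0, N * M.1 0 1; M.1 1 0 / N, M.1 1 1] := by
      refine ⟨⟨_, ?_⟩, rfl⟩
      have h1 := (Matrix.det_fin_two M.1).symm.trans M.2
      rw [Matrix.det_fin_two_of, show N * M.1 0 1 * (M.1 1 0 / N) = M.1 0 1 * M.1 1 0 by field_simp, h1]
    refine ⟨M', ?_⟩
    · rw [eq_mul_inv_iff_mul_eq]
      refine ext_co hF B fun x y z => ?_
      rw [mulVec_mul, mulVec_mul, T_act hF B g.ne_zero, hφ, hφ, T_act hF B g.ne_zero, hM']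
      simp [N]
      congr 1 <;> field_simp
  have hr : ∀ k : ℕ, Tm hF B (g : F) ^ k ∈ M₀ → q + 1 ∣ k := by
    rintro k ⟨M, hM⟩
    rw [T_pow hF B g.ne_zero] at hM
    have h1 := congrArg (fun s => suVal s *ᵥ co e n f 0 1 0) hM
    rw [hφ, T_act hF B (pow_ne_zero _ g.ne_zero)] at h1
    have h2 := (co_inj hF B h1).2.1
    rw [mul_one, eq_div_iff (pow_ne_zero _ g.ne_zero), one_mul, qFrob_apply, ← pow_mul,
      ← Units.val_pow_eq_pow_val, ← Units.val_pow_eq_pow_val, Units.val_inj, pow_eq_pow_iff_modEq,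
      orderOf_eq_card_of_forall_mem_zpowers hg, Nat.card_units, Nat.card_eq_fintype_card, hF] at h2
    have h3 : q ^ 2 - 1 ∣ k * q - k := (Nat.modEq_iff_dvd' (Nat.le_mul_of_pos_right _
      (by have := two_le_q hF; omega))).1 h2
    rw [show q ^ 2 - 1 = (q + 1) * (q - 1) by rw [← Nat.sq_sub_sq, one_pow], ← Nat.mul_sub_one] at h3
    exact Nat.dvd_of_mul_dvd_mul_right (by have := two_le_q hF; omega) h3
  set M := M₀ ⊔ Subgroup.zpowers (Tm hF B (g : F))
  have hMnorm : M ≤ Subgroup.normalizer (M₀ : Set (SU 3 F q)) :=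
    sup_le Subgroup.le_normalizer (Subgroup.zpowers_le.2 (Subgroup.mem_normalizer_fintype hnorm))
  have hq2 := two_le_q hF
  have hodd : ¬ 2 ∣ M.index := by
    have h1 := index_sup_zpowers_dvd M₀ hnorm hr
    have hle : q ≤ q ^ 2 := Nat.le_self_pow two_ne_zero q
    have hidx : M₀.index = q ^ 2 * (q ^ 2 - q + 1) * (q + 1) := by
      have h2 := M₀.card_mul_index
      have hc0 : Nat.card M₀ = q * (q ^ 2 - 1) := by
        rw [← Nat.card_congr (MonoidHom.ofInjective hφinj).toEquiv, Lie.SympWreath.natCard_SL2, hK]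
      rw [hc0, natCard_SU3 hF] at h2
      refine Nat.eq_of_mul_eq_mul_left
        (Nat.mul_pos (by omega) (Nat.sub_pos_of_lt (Nat.one_lt_pow two_ne_zero hq2))) (h2.trans ?_)
      zify [hle, Nat.one_le_pow 2 q (by omega)]
      ring
    rw [hidx] at h1
    intro h2
    have h3 : 2 ∣ q ^ 2 * (q ^ 2 - q + 1) := h2.trans (Nat.dvd_of_mul_dvd_mul_right (by omega) h1)
    rw [← ZMod.natCast_eq_zero_iff] at h3
    push_cast [Nat.cast_sub hle] at h3
    rw [← ZMod.natCast_mod q 2, show q % 2 = 1 by omega, Nat.cast_one] at h3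
    simp at h3
  have hC : Coprime p π := ⟨hπ, hc, by
    obtain ⟨m, hm⟩ := IsPGroup.iff_card.1 hker
    rw [hm]
    exact ((Nat.coprime_primes Nat.prime_two Fact.out).2 hp2).pow_left m⟩
  set S : Subgroup E := Subgroup.closure {a | ∃ x ∈ M₀, IsPElem p x ∧ a = hC.sp x}
  have hSM : ∀ s ∈ S, π s ∈ M₀ := by
    intro s hs
    induction hs using Subgroup.closure_induction with
    | mem a ha => obtain ⟨x, hx, -, rfl⟩ := ha; rwa [hC.π_sp]
    | one => rw [map_one]; exact one_mem _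
    | mul a b _ _ iha ihb => rw [map_mul]; exact mul_mem iha ihb
    | inv a _ iha => rw [map_inv]; exact inv_mem iha
  have hsurj : ∀ x ∈ M₀, ∃ s ∈ S, π s = x := by
    rintro _ ⟨T, rfl⟩
    have hT : T ∈ Subgroup.closure (Set.range (Matrix.TransvectionStruct.toSpecialLinearGroup :
        Matrix.TransvectionStruct (Fin 2) (fixK hF) → _)) := by
      rw [Classical.SL_closure_transvections]; exact Subgroup.mem_top T
    induction hT using Subgroup.closure_induction with
    | mem t ht =>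
      obtain ⟨⟨i, j, hij, c⟩, rfl⟩ := ht
      refine ⟨_, Subgroup.subset_closure ⟨_, ⟨_, rfl⟩, ⟨1, ?_⟩, rfl⟩, hC.π_sp _⟩
      rw [pow_one, ← map_pow]
      have key : ∀ m : ℕ, ((Matrix.TransvectionStruct.toSpecialLinearGroup ⟨i, j, hij, c⟩) ^ m).1 =
          Matrix.transvection i j ((m : fixK hF) * c) := fun m => by
        induction m with
        | zero => simp [Matrix.transvection]
        | succ m ih =>
          rw [pow_succ, Matrix.SpecialLinearGroup.coe_mul, ih, Nat.cast_succ, add_mul, one_mul,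
            ← Matrix.transvection_mul_transvection_same i j hij]
          rfl
      rw [show (Matrix.TransvectionStruct.toSpecialLinearGroup ⟨i, j, hij, c⟩) ^ p = 1 from
        Subtype.ext (by rw [key, CharP.cast_eq_zero, zero_mul]; simp [Matrix.transvection]), map_one]
    | one => exact ⟨1, one_mem _, by rw [map_one, map_one]⟩
    | mul a b _ _ iha ihb =>
      obtain ⟨s, hs, e1⟩ := iha
      obtain ⟨t, ht, e2⟩ := ihb
      exact ⟨s * t, mul_mem hs ht, by rw [map_mul, e1, e2, map_mul]⟩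
    | inv a _ iha =>
      obtain ⟨s, hs, e1⟩ := iha
      exact ⟨s⁻¹, inv_mem hs, by rw [map_inv, e1, map_inv]⟩
  have hkerS : ∀ s ∈ S, π s = 1 → s = 1 := by
    let eM := MonoidHom.ofInjective hφinj
    let σ : S →* Matrix.SpecialLinearGroup (Fin 2) (fixK hF) :=
      eM.symm.toMonoidHom.comp ((π.comp S.subtype).codRestrict M₀ fun s => hSM s s.2)
    have hσ1 : ∀ s : S, σ s = 1 ↔ π s = 1 := fun s => by
      show eM.symm _ = 1 ↔ _
      rw [map_eq_one_iff eM.symm eM.symm.injective]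
      exact ⟨fun h1 => congrArg Subtype.val h1, fun h1 => Subtype.ext h1⟩
    have hσ : Cfsg.IsStemExtension σ := by
      refine ⟨fun T => ?_, fun s hs => ?_, fun s hs => ?_⟩
      · obtain ⟨s, hs, e1⟩ := hsurj (φ T) ⟨T, rfl⟩
        refine ⟨⟨s, hs⟩, eM.symm_apply_eq.2 (Subtype.ext ?_)⟩
        exact e1
      · exact Subgroup.mem_center_iff.2 fun t => Subtype.ext (ker_comm π hc ((hσ1 s).1 hs) (t : E)).eq
      · refine mem_commutator_of_gen (p := p) ?_ ?_
        · refine top_unique (le_trans (le_of_eq (Subgroup.closure_closure_coe_preimage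
            (k := {a : E | ∃ x ∈ M₀, IsPElem p x ∧ a = hC.sp x})).symm) (Subgroup.closure_mono ?_))
          rintro ⟨a, ha⟩ ⟨x, -, hxp, hax⟩
          obtain ⟨k, hk⟩ := hC.sp_pElem hxp
          exact ⟨k, Subtype.ext (by show a ^ p ^ k = 1; rw [show a = hC.sp x from hax, hk])⟩
        · obtain ⟨j, hj⟩ := hker ⟨s, (hσ1 s).1 hs⟩
          have hj' : s ^ 2 ^ j = 1 := Subtype.ext (congrArg Subtype.val hj : _)
          exact fun hp => hp2 ((Nat.prime_dvd_prime_iff_eq Fact.out Nat.prime_two).1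
            ((Fact.out : p.Prime).dvd_of_dvd_pow (hp.trans (orderOf_dvd_of_pow_eq_one hj')))).symm
    have hbot : σ.ker = ⊥ := by
      by_cases h5 : 5 ≤ q
      · exact Lie.SLMult.ker_eq_bot_two σ hσ.1 hσ.2.1 (by omega) (by omega) (by omega) hσ.2.2
      have hprime : (Fintype.card (fixK hF)).Prime := by rw [hK, show q = 3 by omega]; norm_num
      haveI := Fact.mk hprime
      let e2 := Classical.SLTwoSmall.mapEquiv (ZMod.ringEquivOfPrime (fixK hF) hprime rfl).symm 2
      have hk : (e2.toMonoidHom.comp σ).ker = σ.ker := by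
        rw [← MonoidHom.comap_ker, (MonoidHom.ker_eq_bot_iff e2.toMonoidHom).2 e2.injective, MonoidHom.comap_bot]
      rw [← hk]
      exact Lie.SLMult.ker_eq_bot_small (Or.inr (by omega)) _
        ⟨e2.surjective.comp hσ.1, hk ▸ hσ.2.1, hk ▸ hσ.2.2⟩
    intro s hs h1
    have : (⟨s, hs⟩ : S) = 1 := Subgroup.mem_bot.1 (hbot ▸ (hσ1 ⟨s, hs⟩).2 h1)
    exact congrArg Subtype.val this
  refine ker_eq_bot_of_prime hgen π hπ hc hp2 hker M hodd fun z hz1 hz =>
    inf_derived_of_split π hc hSM hsurj hkerS ?_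
      (Subgroup.mem_sup_right (Subgroup.mem_zpowers _)) rfl hz1 hz hπ
  intro a ha s hs
  induction hs using Subgroup.closure_induction with
  | mem b hb =>
    obtain ⟨x, hx, hxp, rfl⟩ := hb
    refine Subgroup.subset_closure ⟨π a * x * (π a)⁻¹, ?_, hxp.conj _, hC.sp_conj a hxp⟩
    exact (Subgroup.mem_normalizer_iff.1 (hMnorm ha) x).1 hx
  | one => rw [mul_one, mul_inv_cancel]; exact one_mem _
  | mul b c _ _ ihb ihc =>
    rw [show a * (b * c) * a⁻¹ = a * b * a⁻¹ * (a * c * a⁻¹) by group]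
    exact mul_mem ihb ihc
  | inv b _ ihb =>
    rw [show a * b⁻¹ * a⁻¹ = (a * b * a⁻¹)⁻¹ by group]
    exact inv_mem ihb

end Cfsg.Agent.Classical.UnitMult
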