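import Cfsg.Agent.Lib.Classical.UnitIsoDerange

/-! Elements of prime order modulo scalars of `SU_n(q)` fixing non-degenerate subspaces. -/

set_option autoImplicit false
set_option linter.unusedSectionVars false

namespace Cfsg.Agent.UnitNdDerange

open Polynomial Matrix Cfsg.Agent.Classical Cfsg.Agent.UnitaryDetCentralizer Cfsg.Agent.UnitInvariant
  Cfsg.Agent.UnitSelfDualFactors Cfsg.Agent.UnitDerangeBasic Cfsg.Agent.UnitDerangeCases Cfsg.Agent.UnitIsoDerange

variable {K : Type*} [Field K] [Fintype K] {q n m r i : ℕ}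

/-- The criterion for `r = p`. -/
theorem unipotent_iff (p : ℕ) [Fact p.Prime] [CharP K p] (hK : Fintype.card K = q ^ 2) (hn : 1 ≤ n) (hmn : m ≤ n) :
    Fixes (n := n) (K := K) q p (NdFix q m) ↔
      ∀ μ : Multiset ℕ, (∀ a ∈ μ, 0 < a ∧ a ≤ p) → μ.sum = n → ∃ ν : Multiset ℕ, ν ≤ μ ∧ ν.sum = m := by
  classical
  haveI : Nonempty (Fin n) := ⟨⟨0, hn⟩⟩
  constructor
  · intro H μ h1 hs
    by_cases hone : ∀ a ∈ μ, a = 1
    · have hμ := Multiset.eq_replicate_card.2 hone
      rw [hμ, Multiset.sum_replicate, smul_eq_mul, mul_one] at hs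
      exact ⟨Multiset.replicate m 1, by rw [hμ, hs, Multiset.replicate_le_replicate]; exact hmn, by simp⟩
    obtain ⟨u, hun, hup⟩ := exists_unipotent hK μ (fun a ha => (h1 a ha).1) hs
    set A := (u.1 : Matrix (Fin n) (Fin n) K)
    have hA0 : (A - 1) ^ p = 0 := (GLUnipotentTypes.pow_eq_zero_iff hun p).2 (hup ▸ fun a ha => (h1 a ha).2)
    have hAp1 : A ^ p = 1 := by
      rw [← add_sub_cancel 1 A, add_pow_char_of_commute p (Commute.one_left _), one_pow, hA0, add_zero]
    have hdet : A.det = 1 := frobenius_inj K p (by rw [frobenius_def, frobenius_def, ← Matrix.det_pow, hAp1,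
      Matrix.det_one, one_pow])
    obtain ⟨ν, hν, hνs⟩ := parts_of_nd hK u hun (H u hdet ⟨1, by rw [one_smul]; exact hAp1⟩ fun z hz => hone (by
      have hz' : A = z • 1 := hz
      have hz1 : A - 1 = (z - 1) • (1 : Matrix (Fin n) (Fin n) K) := by rw [hz', sub_smul, one_smul]
      have hz0 : z - 1 = 0 := by
        by_contra hne
        rw [hz1, _root_.smul_pow, one_pow] at hA0
        exact pow_ne_zero p hne ((smul_eq_zero.1 hA0).resolve_right one_ne_zero)
      exact fun a ha => (GLUnipotentTypes.eq_zero_iff hun).1 (by rw [hz1, hz0, zero_smul]) a (hup.symm ▸ ha)))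
    exact ⟨ν, hup ▸ hν, hνs⟩
  · rintro H g - ⟨z, hz⟩ -
    have hz1 := norm_scalar hK hn g hz
    obtain ⟨d, hd, hdz⟩ := root_of_coprime hz1 (coprime_p (p := p) hK).symm
    obtain ⟨y, hy, hgy⟩ := exists_normalised hK g hz hd hdz
    set Y := (y.1 : Matrix (Fin n) (Fin n) K)
    have hy0 : (Y - 1) ^ p = 0 := by
      rw [sub_pow_char_of_commute p (Commute.one_right _), one_pow, ← Units.val_pow_eq_pow_val,
        ← SubgroupClass.coe_pow, hy, OneMemClass.coe_one, Units.val_one, sub_self]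
    have hyn : IsNilpotent (Y - 1) := ⟨p, hy0⟩
    obtain ⟨ν, hν, hνs⟩ := H (GLUnipotentTypes.mparts (Y - 1))
      (fun a ha => ⟨GLUnipotentTypes.pos_of_mem hyn ha, (GLUnipotentTypes.pow_eq_zero_iff hyn p).1 hy0 a ha⟩)
      (by rw [GLUnipotentTypes.sum_mparts hyn, Fintype.card_fin])
    obtain ⟨ν', hν'⟩ := Multiset.le_iff_exists_add.1 hν
    have hsum := GLUnipotentTypes.sum_mparts hyn
    rw [hν', Multiset.sum_add, Fintype.card_fin, hνs] at hsum
    have hpos : ∀ a ∈ ν + ν', 0 < a := fun a ha => GLUnipotentTypes.pos_of_mem hyn (hν' ▸ ha)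
    obtain ⟨u₁, hu₁, hu₁p⟩ := exists_unipotent (n := m) hK ν
      (fun a ha => hpos a (Multiset.mem_add.2 (Or.inl ha))) hνs
    obtain ⟨u₂, hu₂, hu₂p⟩ := exists_unipotent (n := ν'.sum) hK ν'
      (fun a ha => hpos a (Multiset.mem_add.2 (Or.inr ha))) rfl
    let e : Fin m ⊕ Fin ν'.sum ≃ Fin n := finSumFinEquiv.trans (finCongr hsum)
    set U : Matrix (Fin n) (Fin n) K := reindex e e
      (fromBlocks (u₁.1 : Matrix (Fin m) (Fin m) K) 0 0 (u₂.1 : Matrix (Fin ν'.sum) (Fin ν'.sum) K))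
    have hU1 : U - 1 = reindex e e (fromBlocks ((u₁.1 : Matrix (Fin m) (Fin m) K) - 1) 0 0
        ((u₂.1 : Matrix (Fin ν'.sum) (Fin ν'.sum) K) - 1)) := by
      show Matrix.reindexAlgEquiv K K e _ - 1 = Matrix.reindexAlgEquiv K K e _
      rw [← map_one (Matrix.reindexAlgEquiv K K e), ← map_sub]
      congr 1
      ext (i | i) (j | j) <;> simp [Matrix.one_apply]
    obtain ⟨hUn, hUp⟩ := UnipotentRealisation.mparts_reindex e (UnipotentRealisation.nil_fromBlocks hu₁ hu₂)
    rw [← hU1] at hUn hUp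
    rw [UnipotentRealisation.mparts_fromBlocks hu₁ hu₂, hu₁p, hu₂p, ← hν'] at hUp
    obtain ⟨A, hA⟩ : IsUnit U := by
      have := hUn.isUnit_one_add
      rwa [add_sub_cancel] at this
    obtain ⟨P, hP⟩ := GLUnipotentTypes.exists_similar hUn hyn hUp
    rw [hgy]
    refine nd_smul d (nd_of_conj hK y e u₁ u₂ A hA (isConj_iff.2 ⟨P, ?_⟩))
    refine Units.ext ?_
    rw [Units.val_mul, Units.val_mul, hA]
    rw [mul_sub, sub_mul, mul_one, one_mul, sub_left_inj] at hP
    rw [hP, mul_assoc, Units.mul_inv, mul_one]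

/-- Sub-partitions of partitions into parts of size at most two. -/
theorem two_parts {n m : ℕ} (hmn : m < n) :
    (∀ μ : Multiset ℕ, (∀ a ∈ μ, 0 < a ∧ a ≤ 2) → μ.sum = n → ∃ ν : Multiset ℕ, ν ≤ μ ∧ ν.sum = m) ↔
      (Odd n ∨ Even m) := by
  constructor
  · intro H
    by_contra hcon
    push Not at hcon
    obtain ⟨hn, hm⟩ := hcon
    rw [Nat.not_odd_iff_even] at hn
    obtain ⟨ν, hν, hs⟩ := H (Multiset.replicate (n / 2) 2)
      (fun a ha => by rw [Multiset.eq_of_mem_replicate ha]; omega)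
      (by rw [Multiset.sum_replicate, smul_eq_mul]; obtain ⟨k, rfl⟩ := hn; omega)
    have hν2 : ν = Multiset.replicate ν.card 2 := Multiset.eq_replicate_card.2 fun a ha =>
      Multiset.eq_of_mem_replicate (Multiset.mem_of_le hν ha)
    rw [hν2, Multiset.sum_replicate, smul_eq_mul] at hs
    exact hm ⟨ν.card, by omega⟩
  · intro H μ hμ hs
    set o := μ.count 1
    set t := μ.count 2
    have hμ2 : μ = Multiset.replicate o 1 + Multiset.replicate t 2 := Multiset.ext.2 fun a => by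
      rw [Multiset.count_add, Multiset.count_replicate, Multiset.count_replicate]
      by_cases ha : a ∈ μ
      · obtain ⟨h1, h2⟩ := hμ a ha
        rcases (show a = 1 ∨ a = 2 by omega) with rfl | rfl <;> simp [o, t]
      · rw [Multiset.count_eq_zero.2 ha]
        split_ifs with h1 h2 h2
        · omega
        · subst h1; simp [o, Multiset.count_eq_zero.2 ha]
        · subst h2; simp [t, Multiset.count_eq_zero.2 ha]
        · rfl
    rw [hμ2] at hs ⊢
    simp only [Multiset.sum_add, Multiset.sum_replicate, smul_eq_mul] at hs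
    obtain ⟨o', t', ho, ht, he⟩ : ∃ o' t', o' ≤ o ∧ t' ≤ t ∧ o' + 2 * t' = m := by
      refine ⟨m - 2 * min t (m / 2), min t (m / 2), ?_, min_le_left _ _, by omega⟩
      rcases H with h | h
      · have := Nat.odd_iff.1 h; omega
      · have := Nat.even_iff.1 h; omega
    refine ⟨Multiset.replicate o' 1 + Multiset.replicate t' 2,
      add_le_add ((Multiset.replicate_le_replicate 1).2 ho) ((Multiset.replicate_le_replicate 2).2 ht), ?_⟩
    simp only [Multiset.sum_add, Multiset.sum_replicate, smul_eq_mul]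
    omega

theorem criterion_two (p : ℕ) [Fact p.Prime] [CharP K p] (hK : Fintype.card K = q ^ 2) (hp : p ≠ 2) (hn : 2 ≤ n)
    (hm : 1 ≤ m) (hmn : m ≤ n) :
    Fixes (n := n) (K := K) q 2 (NdFix q m) ↔
      (Odd n ∨ Even m ∨ (padicValNat 2 n ≤ padicValNat 2 (q + 1) ∧ q % 4 = 3)) := by
  classical
  haveI : Fact (Nat.Prime 2) := ⟨Nat.prime_two⟩
  obtain ⟨hq, h2⟩ := odd_q (p := p) hK hp
  have hev : Even (q + 1) := Nat.even_iff.2 (by omega)
  have hne1 : (1 : K) ≠ -1 := fun e => h2 (by linear_combination e)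
  have hval : ∀ w : ℕ, 1 ≤ w → padicValNat 2 (2 * w) = 1 + padicValNat 2 w := fun w hw => by
    rw [padicValNat.mul two_ne_zero (by omega), padicValNat_self]
  constructor
  · intro H
    by_contra hcon
    push Not at hcon
    obtain ⟨hno, hme, hc⟩ := hcon
    rw [Nat.not_odd_iff_even] at hno
    obtain ⟨w, rfl⟩ : ∃ w, n = 2 * w := ⟨n / 2, by have := Nat.even_iff.1 hno; omega⟩
    rw [hval w (by omega)] at hc
    obtain ⟨g, b, hdet, hz, hns, hbn, h1, h1', hP⟩ := exists_swap p hK hp (w := w) (by omega) rfl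
      (or_iff_not_imp_left.2 fun h4 => by
        by_contra hlt
        exact (show q % 4 ≠ 3 from hc (by omega)) (by omega))
    obtain ⟨D, hD, hDd, hDs, hdvd⟩ := dvd_of_nd hK g (H g hdet ⟨_, hz⟩ hns)
    obtain ⟨j, l, rfl, hd, hj, -⟩ := two_factors hbn hD fun f a' b' c' => by
      rw [hP] at hdvd
      rcases b'.prime.dvd_or_dvd (c'.trans hdvd) with h' | h'
      · exact Or.inl (Polynomial.eq_of_monic_of_associated a' (monic_X_sub_C b)
          (b'.associated_of_dvd (irreducible_X_sub_C b) (b'.prime.dvd_of_dvd_pow h')))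
      · exact Or.inr (Polynomial.eq_of_monic_of_associated a' (monic_X_sub_C (-b))
          (b'.associated_of_dvd (irreducible_X_sub_C (-b)) (b'.prime.dvd_of_dvd_pow h')))
    rw [cdual_two hK hbn h1 h1'] at hDs
    have h3 := congrArg (fun Q : K[X] => Q.rootMultiplicity b) hDs
    rw [hj] at h3
    rw [rootMultiplicity_mul (mul_ne_zero (pow_ne_zero _ (X_sub_C_ne_zero b)) (pow_ne_zero _ (X_sub_C_ne_zero _))),
      rootMultiplicity_X_sub_C_pow, rootMultiplicity_eq_zero (by
        rw [IsRoot.def, eval_pow, eval_sub, eval_X, eval_C]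
        exact pow_ne_zero _ (sub_ne_zero.2 hbn)), add_zero] at h3
    rw [hDd] at hd
    exact hme ⟨j, by omega⟩
  · rintro H g hdet ⟨z, hz⟩ -
    have hz1 := norm_scalar hK (by omega) g hz
    have hg := semisimple (p := p) hK Nat.prime_two (fun e => hp e.symm) g hz hz1
    by_cases hA : ∃ d : K, d ^ (q + 1) = 1 ∧ d ^ 2 = z
    · obtain ⟨d, hd, hdz⟩ := hA
      obtain ⟨y, hy, hgy⟩ := exists_normalised hK g hz hd hdz
      have hy1 : (y.1 : Matrix (Fin n) (Fin n) K) ^ 2 = (1 * 1 : K) • 1 := by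
        rw [← Units.val_pow_eq_pow_val, ← SubgroupClass.coe_pow, hy, mul_one, one_smul]; rfl
      obtain ⟨a, c, hP, hac, -, -⟩ := two_factors hne1 (Matrix.charpoly_monic (y.1 : Matrix (Fin n) (Fin n) K))
        fun f a' b' c' => factor_two hy1 a' b' c'
      rw [Matrix.charpoly_natDegree_eq_dim, Fintype.card_fin] at hac
      have hy' : (orderOf y).Coprime p := semisimple (p := p) hK Nat.prime_two (fun e => hp e.symm) y
        (z := 1) (by rw [hy1, mul_one]) (one_pow _)
      rw [hgy]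
      refine nd_smul d (nd_of_dvd hK y hy'
        (D := (X - Polynomial.C 1) ^ min m a * (X - Polynomial.C (-1)) ^ (m - min m a))
        (((monic_X_sub_C 1).pow _).mul ((monic_X_sub_C (-1)).pow _)) ?_ ?_ ?_)
      · rw [((monic_X_sub_C (1 : K)).pow _).natDegree_mul ((monic_X_sub_C (-1)).pow _), natDegree_pow, natDegree_pow,
          natDegree_X_sub_C, natDegree_X_sub_C, mul_one, mul_one]
        omega
      · rw [cdual_mul, fixed_pow hK (one_pow _), fixed_pow hK (by rw [hev.neg_one_pow])]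
      · rw [hP]
        exact mul_dvd_mul (pow_dvd_pow _ (min_le_right _ _)) (pow_dvd_pow _ (by omega))
    · push Not at hA
      obtain ⟨b, a, hbn, h1, h1', hbz, hna, hP⟩ := two_shape (p := p) hK hp g hz hz1 hA
      have hme : Even m := by
        rcases H with h | h | ⟨hv, h4⟩
        · exfalso; have := Nat.odd_iff.1 h; omega
        · exact h
        · exfalso
          rw [det_roots (show n = a + a by omega) hP, ← mul_pow, mul_neg, hbz] at hdet
          rcases (nonsquare_iff hK hq h2 (w := a) (by omega)).1 ⟨z, hz1, hA, hdet⟩ with e | e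
          · omega
          · rw [hna, hval a (by omega)] at hv; omega
      obtain ⟨k, rfl⟩ := hme
      refine nd_of_dvd hK g hg (D := (X - Polynomial.C b) ^ k * (X - Polynomial.C (-b)) ^ k)
        (((monic_X_sub_C b).pow k).mul ((monic_X_sub_C (-b)).pow k))
        (by rw [((monic_X_sub_C b).pow k).natDegree_mul ((monic_X_sub_C (-b)).pow k), natDegree_pow, natDegree_pow,
          natDegree_X_sub_C, natDegree_X_sub_C, mul_one]) (cdual_two hK hbn h1 h1' k k) ?_
      rw [hP]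
      exact mul_dvd_mul (pow_dvd_pow _ (by omega)) (pow_dvd_pow _ (by omega))

theorem criterion_odd (p : ℕ) [Fact p.Prime] [CharP K p] (h : UCtx K q r i) (hn : 3 ≤ n) (hm : 1 ≤ m) (hmn : m ≤ n)
    {j : ℕ} (hj1 : n - m < j) (hj2 : j ≤ n) (hcj : cDeg i ∣ j) :
    Fixes (n := n) (K := K) q r (NdFix q m) ↔
      ((i ≠ 2 ∧ cDeg i ≤ m ∧ m % cDeg i ≤ n % cDeg i) ∨
        (i = 2 ∧ (r ∣ m ∨ padicValNat r n ≤ padicValNat r (q + 1)))) := by
  classical
  have hr := h.prime
  haveI : Fact r.Prime := ⟨hr⟩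
  have hrp : r ≠ p := fun e => h.ne (e ▸ CharP.cast_eq_zero K p)
  have hc0 := c_pos h
  have hcn : cDeg i ≤ n := (Nat.le_of_dvd (by omega) hcj).trans hj2
  have hsmall : n % cDeg i < m := by
    obtain ⟨w, rfl⟩ := hcj
    have := Nat.mod_le (n - cDeg i * w) (cDeg i)
    rw [show n = n - cDeg i * w + cDeg i * w by omega, Nat.add_mul_mod_self_left]
    omega
  constructor
  · intro H
    by_cases hi2 : i = 2
    · refine Or.inr ⟨hi2, or_iff_not_imp_left.2 fun hrm => ?_⟩
      by_contra hv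
      obtain ⟨w, hw⟩ : r ∣ n := dvd_of_one_le_padicValNat (by omega)
      have hw1 : 1 ≤ w := by rcases w with _ | w <;> simp_all
      have hvn : padicValNat r n = 1 + padicValNat r w := by
        rw [hw, padicValNat.mul hr.ne_zero (by omega), padicValNat_self]
      obtain ⟨g, z, hdet, hz, hns, hirr, hgP⟩ := exists_kummer p h.card hr h.odd h.ne ((eq_two_iff h).1 hi2) hw1 hw
        (by omega)
      obtain ⟨D, hD, hDd, -, hdvd⟩ := dvd_of_nd h.card g (H g hdet ⟨z, hz⟩ hns)
      rw [hgP] at hdvd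
      have h5 := SubspaceDerange.divisor_of_power (monic_X_pow_sub_C z hr.ne_zero) hirr hD hdvd
      rw [natDegree_X_pow_sub_C, hDd] at h5
      exact hrm h5
    · have hmod : m % cDeg i ≤ n % cDeg i := by
        by_contra hlt
        obtain ⟨P, hP, hne, hno⟩ := bad_nd h hcn (Nat.lt_of_not_le hlt)
        obtain ⟨g, hdet, hz, hns, hgP⟩ := exists_element p h (by omega) (fun hd => hi2 ((eq_two_iff h).2 hd)) hP hne
        obtain ⟨D, hD, hDd, hDs, hdvd⟩ := dvd_of_nd h.card g (H g hdet hz hns)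
        exact hno D hD hDs (hgP ▸ hdvd) hDd
      refine Or.inl ⟨hi2, ?_, hmod⟩
      by_contra hlt
      rw [Nat.mod_eq_of_lt (by omega : m < cDeg i)] at hmod
      omega
  · rintro H g hdet ⟨z, hz⟩ -
    have hz1 := norm_scalar h.card (by omega) g hz
    have hg := semisimple (p := p) h.card hr hrp g hz hz1
    by_cases hA : ∃ d : K, d ^ (q + 1) = 1 ∧ d ^ r = z
    · obtain ⟨d, hd, hdz⟩ := hA
      obtain ⟨y, hy, hgy⟩ := exists_normalised h.card g hz hd hdz
      have hmod : m % cDeg i ≤ n % cDeg i := by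
        rcases H with ⟨-, -, e⟩ | ⟨e, -⟩
        · exact e
        · subst e; rw [show cDeg 2 = 1 from rfl, Nat.mod_one]; exact Nat.zero_le _
      obtain ⟨D, hD, hDd, hDs, hdvd⟩ := exists_nd h hmn hmod (charpoly_selfDual h.card y hy)
      have hy' : (orderOf y).Coprime p :=
        ((Nat.coprime_primes hr Fact.out).2 hrp).coprime_dvd_left (orderOf_dvd_of_pow_eq_one hy)
      rw [hgy]
      exact nd_smul d (nd_of_dvd h.card y hy' hD hDd hDs hdvd)
    · push Not at hA
      have hrq : r ∣ q + 1 := by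
        by_contra hrq
        obtain ⟨d, hd, hdz⟩ := root_of_coprime hz1 (hr.coprime_iff_not_dvd.2 hrq)
        exact hA d hd hdz
      have hi2 := (eq_two_iff h).2 hrq
      obtain ⟨w, hnw, -, hfix, hP⟩ := kummer_shape h.card hr h.odd hrq g hz hz1 hA
      have hrm : r ∣ m := by
        rcases H with ⟨e, -⟩ | ⟨-, e | e⟩
        · exact absurd hi2 e
        · exact e
        · exfalso
          have hw1 : 1 ≤ w := by rcases w with _ | w <;> simp_all
          have h6 := (nonpower_iff h.card hr hrq hw1).1 ⟨z, hz1, hA, by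
            rw [← det_kummer (hr.odd_of_ne_two h.odd) hnw hP, hdet]⟩
          rw [hnw, padicValNat.mul hr.ne_zero (by omega), padicValNat_self] at e
          omega
      obtain ⟨v, rfl⟩ := hrm
      have hpow : ∀ k : ℕ, cdual (qFrob h.card) ((X ^ r - Polynomial.C z) ^ k) = (X ^ r - Polynomial.C z) ^ k :=
        fun k => by
        induction k with
        | zero => rw [pow_zero]; exact tau_one h.card
        | succ k ihk => rw [pow_succ, cdual_mul, ihk, hfix]
      refine nd_of_dvd h.card g hg (D := (X ^ r - Polynomial.C z) ^ v) ((monic_X_pow_sub_C z hr.ne_zero).pow v)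
        (by rw [natDegree_pow, natDegree_X_pow_sub_C, mul_comm]) (hpow v) ?_
      rw [hP]
      exact pow_dvd_pow _ (Nat.le_of_mul_le_mul_left (by rw [← hnw]; exact hmn) hr.pos)

/-- The criterion. -/
theorem criterion {p : ℕ} [Fact p.Prime] [CharP K p] (hK : Fintype.card K = q ^ 2) (hn : 3 ≤ n) (hm : 1 ≤ m)
    (hmn : 2 * m < n) [hr : Fact r.Prime]
    (hrΩ : r ∣ Nat.card {W : Submodule K (Fin n → K) //
      Module.finrank K ↥W = m ∧ (∀ u ∈ W, u ≠ 0 → ∃ v ∈ W, Cfsg.hermForm n K q u v ≠ 0)})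
    {b c : ℕ} (hi : i = orderOf (q : ZMod r)) (_hb : b = if Even i then i / 2 else i)
    (hc : c = if i % 4 = 0 then i else if i % 4 = 2 then i / 2 else 2 * i) :
    (∀ x : Matrix.SpecialLinearGroup (Fin n) K, x ∈ Cfsg.SU n K q →
      (∃ z : K, ((x ^ r : Matrix.SpecialLinearGroup (Fin n) K) : Matrix (Fin n) (Fin n) K) = z • (1 : Matrix (Fin n) (Fin n) K)) →
      (∀ z : K, (x : Matrix (Fin n) (Fin n) K) ≠ z • (1 : Matrix (Fin n) (Fin n) K)) →
      ∃ W : Submodule K (Fin n → K), Module.finrank K ↥W = m ∧ (∀ u ∈ W, u ≠ 0 → ∃ v ∈ W, Cfsg.hermForm n K q u v ≠ 0) ∧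
        W.map (Matrix.toLin' (x : Matrix (Fin n) (Fin n) K)) ≤ W) ↔
    ((r = p ∧ 2 < p ∧ (∀ μ : Multiset ℕ, (∀ a ∈ μ, 0 < a ∧ a ≤ p) → μ.sum = n → ∃ ν : Multiset ℕ, ν ≤ μ ∧ ν.sum = m)) ∨
     (r = p ∧ p = 2 ∧ (Odd n ∨ Even m)) ∨
     (r = 2 ∧ p ≠ 2 ∧ (Odd n ∨ Even m ∨ (padicValNat 2 n ≤ padicValNat 2 (q + 1) ∧ q % 4 = 3))) ∨
     (r ≠ p ∧ 2 < r ∧ ((i ≠ 2 ∧ c ≤ m ∧ m % c ≤ n % c) ∨
       (i = 2 ∧ (r ∣ m ∨ padicValNat r n ≤ padicValNat r (q + 1)))))) := by
  rw [fixes_iff (Φ := fun A => ∃ W : Submodule K (Fin n → K), Module.finrank K ↥W = m ∧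
    (∀ u ∈ W, u ≠ 0 → ∃ v ∈ W, Cfsg.hermForm n K q u v ≠ 0) ∧ W.map (Matrix.toLin' A) ≤ W)]
  simp only [invariant_map]
  show Fixes (n := n) (K := K) q r (NdFix q m) ↔ _
  by_cases hrp : r = p
  · subst hrp
    rw [unipotent_iff r hK (by omega) (by omega)]
    constructor
    · intro H
      rcases eq_or_ne r 2 with h2 | h2
      · subst h2
        exact Or.inr (Or.inl ⟨rfl, rfl, (two_parts (by omega)).1 H⟩)
      · exact Or.inl ⟨rfl, lt_of_le_of_ne hr.out.two_le h2.symm, H⟩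
    · rintro (⟨-, -, H⟩ | ⟨-, e, H⟩ | ⟨e, e', -⟩ | ⟨e, -⟩)
      · exact H
      · subst e; exact (two_parts (by omega)).2 H
      · exact absurd e e'
      · exact absurd rfl e
  rcases eq_or_ne r 2 with h2 | h2
  · subst h2
    rw [criterion_two p hK (Ne.symm hrp) (by omega) hm (by omega)]
    exact ⟨fun h => Or.inr (Or.inr (Or.inl ⟨rfl, Ne.symm hrp, h⟩)), fun h => by
      rcases h with ⟨e, -⟩ | ⟨e, -⟩ | ⟨-, -, h⟩ | ⟨-, e, -⟩
      exacts [absurd e hrp, absurd e hrp, h, absurd e (lt_irrefl 2)]⟩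
  have h : UCtx K q r i := ⟨hK, hr.out, h2, fun e =>
    hrp ((Nat.prime_dvd_prime_iff_eq (Fact.out : p.Prime) hr.out).1 ((CharP.cast_eq_zero_iff K p r).1 e)).symm, hi⟩
  obtain ⟨j, hj1, hj2, hj⟩ := UnitSubspaceCount.nd_exponent hK (by omega) hr.out (q_ne h) hrΩ
  rw [criterion_odd p h hn hm (by omega) hj1 hj2 (UnitSubspaceCount.c_dvd h hj), hc]
  exact ⟨fun H => Or.inr (Or.inr (Or.inr ⟨hrp, lt_of_le_of_ne hr.out.two_le h2.symm, H⟩)), fun H => by
    rcases H with ⟨e, -⟩ | ⟨e, -⟩ | ⟨e, -⟩ | ⟨-, -, H⟩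
    exacts [absurd e hrp, absurd e hrp, absurd e h2, H]⟩

end Cfsg.Agent.UnitNdDerange
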