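import Cfsg.Agent.Lib.Classical.UnitaryDetCentralizer
import Cfsg.Agent.Lib.Classical.GLPrimeOrderClasses
import Cfsg.Agent.Lib.Classical.SelfDualCount

/-! Classes of elements of odd prime order, different from the characteristic, in `GU_n(q)`. -/

set_option autoImplicit false

namespace Cfsg.Agent.UnitPrimeOrderClasses

open Polynomial Matrix UniqueFactorizationMonoid Cfsg.Agent.Classical Cfsg.Agent.UnitaryConjugacy
  Cfsg.Agent.UnitaryDetCentralizer

variable {K : Type*} [Field K] [Fintype K] {q n : ℕ} {p : ℕ} [Fact p.Prime] [CharP K p]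

omit [Fintype K] in
theorem cdual_X_sub_one (σ : K →+* K) : cdual σ (X - Polynomial.C 1) = X - Polynomial.C 1 := by
  have h0 : (X - Polynomial.C 1 : K[X]).coeff 0 = -1 := by simp
  have hc0 : (X - Polynomial.C 1 : K[X]).coeff 0 ≠ 0 := by rw [h0]; simp
  refine Polynomial.eq_of_monic_of_associated (cdual_monic σ hc0) (monic_X_sub_C 1) ?_
  refine (associated_of_dvd_of_natDegree_le ?_ (cdual_monic σ hc0).ne_zero ?_).symm
  · rw [dvd_iff_isRoot, IsRoot.def, cdual, eval_mul, eval_C, h0]
    have h : ((X - Polynomial.C 1 : K[X]).map σ).reverse = Polynomial.C 1 - X := by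
      rw [Polynomial.map_sub, map_X, map_C, map_one, reverse, natDegree_X_sub_C, reflect_sub]
      simp [reflect_C]
    rw [h]
    simp
  · rw [natDegree_cdual σ hc0]

/-- The root `ζ ^ (-q)` of the conjugate dual. -/
theorem cdual_root (p : ℕ) [Fact p.Prime] [CharP K p] (hK : Fintype.card K = q ^ 2) {f : K[X]} [Fact (Irreducible f)] (hf : f.Monic)
    (hz : (AdjoinRoot.root f) ≠ 0) :
    aeval ((AdjoinRoot.root f ^ q)⁻¹) (cdual (qFrob hK) f) = 0 := by
  haveI : CharP (AdjoinRoot f) p := charP_of_injective_algebraMap (algebraMap K (AdjoinRoot f)).injective p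
  haveI : ExpChar (AdjoinRoot f) p := ExpChar.prime Fact.out
  obtain ⟨e, -, he⟩ := FiniteField.card K p
  obtain ⟨a, -, rfl⟩ : ∃ a, a ≤ (e : ℕ) ∧ q = p ^ a := (Nat.dvd_prime_pow Fact.out).1
    (he ▸ hK ▸ dvd_pow_self q two_ne_zero)
  set z := AdjoinRoot.root f
  set φ := iterateFrobenius (AdjoinRoot f) p a
  have hφ : ∀ x, φ x = x ^ p ^ a := fun x => iterateFrobenius_def p a x
  have hcomp : φ.comp (algebraMap K (AdjoinRoot f)) = (algebraMap K (AdjoinRoot f)).comp (qFrob hK) :=
    RingHom.ext fun c => by rw [RingHom.comp_apply, RingHom.comp_apply, hφ, qFrob_apply, map_pow]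
  have hroot : eval₂ (algebraMap K (AdjoinRoot f)) (φ z) (f.map (qFrob hK)) = 0 := by
    rw [eval₂_map, ← hcomp, ← Polynomial.hom_eval₂]
    have : eval₂ (algebraMap K (AdjoinRoot f)) z f = 0 := AdjoinRoot.eval₂_root f
    rw [this, map_zero]
  rw [hφ] at hroot
  haveI : Invertible (z ^ p ^ a) := invertibleOfNonzero (pow_ne_zero _ hz)
  rw [cdual, map_mul, Polynomial.aeval_def, Polynomial.aeval_def, ← invOf_eq_inv,
    (eval₂_reverse_eq_zero_iff (algebraMap K (AdjoinRoot f)) (z ^ p ^ a) (f.map (qFrob hK))).2 hroot, mul_zero]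

theorem ncard_classes_pow (hK : Fintype.card K = q ^ 2) {r i b s : ℕ} (hr : r.Prime) (hr2 : r ≠ 2) (hrp : r ≠ p)
    (hi : i = orderOf (q : ZMod r)) (hi2 : i ≠ 2) (hb : b = if Odd i then i else i / 2) (hs : s * b = r - 1) :
    {C : ConjClasses (GU n K q) | ∃ g : GU n K q, ConjClasses.mk g = C ∧ g ^ r = 1}.ncard =
      if i % 4 = 2 then Nat.choose (2 * n / i + s) s else Nat.choose (n / (2 * b) + s / 2) (s / 2) := by
  classical
  haveI : Fact r.Prime := ⟨hr⟩
  obtain ⟨e, -, he⟩ := FiniteField.card K p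
  have hpr : p.Coprime r := (Nat.coprime_primes Fact.out hr).2 (Ne.symm hrp)
  have hrK : (r : K) ≠ 0 := fun h => hrp
    ((Nat.prime_dvd_prime_iff_eq (Fact.out : p.Prime) hr).1 ((CharP.cast_eq_zero_iff K p r).1 h)).symm
  set c : ZMod r := (q : ZMod r) with hc
  have hq0 : c ≠ 0 := fun h => by
    have hdiv : r ∣ q := (ZMod.natCast_eq_zero_iff _ _).1 h
    have : r ∣ p ^ (e : ℕ) := he ▸ hK ▸ hdiv.trans (dvd_pow_self q two_ne_zero)
    exact hrp ((Nat.prime_dvd_prime_iff_eq hr Fact.out).1 (hr.dvd_of_dvd_pow this))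
  have hci : c ^ i = 1 := hi ▸ pow_orderOf_eq_one c
  have hi0 : 0 < i := by
    rw [hi, orderOf_pos_iff]
    exact isOfFinOrder_iff_pow_eq_one.2 ⟨r - 1, by have := hr.two_le; omega, ZMod.pow_card_sub_one_eq_one hq0⟩
  have hord : orderOf (ZMod.unitOfCoprime _ (hpr.pow_left (e : ℕ))) = b := by
    rw [← orderOf_units, ZMod.coe_unitOfCoprime, ← he, hK, Nat.cast_pow, orderOf_pow' _ two_ne_zero, ← hi, hb]
    split_ifs with h
    · rw [Nat.Coprime.gcd_eq_one (Nat.coprime_two_right.2 h), Nat.div_one]
    · rw [Nat.gcd_eq_right (even_iff_two_dvd.1 (Nat.not_odd_iff_even.1 h))]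
  have hb0 : 0 < b := hord ▸ orderOf_pos _
  set T := (normalizedFactors (cyclotomic r K)).toFinset with hT
  have hcyc := cyclotomic_ne_zero r K
  have hTd : ∀ f ∈ T, f.Monic ∧ Irreducible f ∧ f.natDegree = b ∧ f ∣ cyclotomic r K := fun f hf => by
    rw [hT, Multiset.mem_toFinset] at hf
    refine ⟨?_, irreducible_of_normalized_factor f hf, ?_, dvd_of_mem_normalizedFactors hf⟩
    · rw [← normalize_normalized_factor f hf]; exact monic_normalize (irreducible_of_normalized_factor f hf).ne_zero
    · rw [natDegree_of_mem_normalizedFactors_cyclotomic he hpr hf, hord]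
  have hTcard : T.card = s := by
    rw [hT, normalizedFactors_cyclotomic_card he hpr, hord, Nat.totient_prime hr, ← hs, Nat.mul_div_cancel _ hb0]
  have hX : ∀ f : K[X], f.Monic → Irreducible f → (f ∣ X ^ r - 1 ↔ f = X - Polynomial.C 1 ∨ f ∈ T) := by
    intro f hf hirr
    rw [← cyclotomic_prime_mul_X_sub_one K r, ← map_one Polynomial.C]
    constructor
    · intro h
      rcases (hirr.prime).dvd_or_dvd h with h | h
      · right
        obtain ⟨f', hf', hff'⟩ := exists_mem_normalizedFactors_of_dvd hcyc hirr h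
        rw [hT, Multiset.mem_toFinset, Associated.eq_of_normalized hff' (hf.normalize_eq_self)
          (normalize_normalized_factor f' hf')]
        exact hf'
      · exact Or.inl (Polynomial.eq_of_monic_of_associated hf (monic_X_sub_C 1)
          (hirr.associated_of_dvd (irreducible_X_sub_C 1) h))
    · rintro (rfl | h)
      · exact dvd_mul_left _ _
      · exact (hTd f h).2.2.2.mul_right _
  have h1T : (X - Polynomial.C 1 : K[X]) ∉ T := fun h => by
    obtain ⟨w, hw⟩ := (hTd _ h).2.2.2
    have he1 := congrArg (eval 1) hw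
    rw [eval_one_cyclotomic_prime, eval_mul, eval_sub, eval_X, eval_C, sub_self, zero_mul] at he1
    exact hrK he1
  have hT0 : ∀ f ∈ T, f.coeff 0 ≠ 0 := fun f hf h0 => by
    have h := (hX f (hTd f hf).1 (hTd f hf).2.1).2 (Or.inr hf)
    obtain ⟨w, hw⟩ := h
    have h2 := congrArg (fun P => Polynomial.coeff P 0) hw
    simp [mul_coeff_zero, h0, coeff_X_pow, hr.ne_zero.symm] at h2
  set σ := qFrob hK
  set τ : K[X] → K[X] := cdual σ
  have hττ : ∀ f ∈ T, τ (τ f) = f := fun f hf => cdual_cdual σ (qFrob_qFrob hK) (hTd f hf).1 (hT0 f hf)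
  -- the dual factor and its fixed points
  have hkey : ∀ f ∈ T, τ f ∈ T ∧ (τ f = f ↔ ∃ j : ℕ, c ^ (2 * j) = -c) := by
    intro f hf
    obtain ⟨hfm, hfi, hfd, hfc⟩ := hTd f hf
    haveI := Fact.mk hfi
    haveI := hfm.finite_adjoinRoot
    haveI : Finite (AdjoinRoot f) := Module.finite_of_finite K
    set z := AdjoinRoot.root f with hz
    have hzr : z ^ r = 1 := by
      obtain ⟨w, hw⟩ := (hX f hfm hfi).2 (Or.inr hf)
      have := congrArg (AdjoinRoot.mk f) hw
      rw [map_mul, AdjoinRoot.mk_self, zero_mul, map_sub, map_pow, AdjoinRoot.mk_X, map_one] at this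
      exact sub_eq_zero.1 this
    have hz0 : z ≠ 0 := fun h => by rw [h, zero_pow hr.ne_zero] at hzr; exact zero_ne_one hzr
    have hmin : minpoly K z = f := by
      rw [hz, AdjoinRoot.minpoly_root hfi.ne_zero, hfm.leadingCoeff, inv_one, map_one, mul_one]
    have hz1 : z ≠ 1 := fun h => by
      rw [h, minpoly.one] at hmin
      exact h1T (by rw [map_one, hmin]; exact hf)
    have hzo : orderOf z = r := (hr.eq_one_or_self_of_dvd _ (orderOf_dvd_of_pow_eq_one hzr)).resolve_left
      (fun h => hz1 (orderOf_eq_one_iff.1 h))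
    set w := (z ^ q)⁻¹
    have hwroot : aeval w (τ f) = 0 := cdual_root p hK hfm hz0
    have hτm : (τ f).Monic := cdual_monic σ (hT0 f hf)
    have hτi : Irreducible (τ f) := irreducible_cdual σ (qFrob_qFrob hK) hfm (hT0 f hf) hfi
    have hτw : minpoly K w = τ f := (minpoly.eq_of_irreducible_of_monic hτi hwroot hτm).symm
    have hwr : w ^ r = 1 := by rw [inv_pow, ← pow_mul, mul_comm, pow_mul, hzr, one_pow, inv_one]
    have hdvd : τ f ∣ X ^ r - 1 := by
      rw [← hτw]; exact minpoly.dvd K w (by simp [hwr])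
    have hmemT : τ f ∈ T := ((hX _ hτm hτi).1 hdvd).resolve_left fun h => h1T (by
      have h2 := hττ f hf
      rw [h] at h2
      rw [show τ (X - Polynomial.C 1) = X - Polynomial.C 1 from cdual_X_sub_one σ] at h2
      rw [h2]; exact hf)
    refine ⟨hmemT, ?_⟩
    have hzz : IsOfFinOrder z := isOfFinOrder_iff_pow_eq_one.2 ⟨r, hr.pos, hzr⟩
    have hpow : ∀ j : ℕ, w = z ^ (Fintype.card K) ^ j ↔ c ^ (2 * j) = -c := fun j => by
      rw [show (w = z ^ (Fintype.card K) ^ j ↔ z ^ q * z ^ (Fintype.card K) ^ j = 1) from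
        ⟨fun h => by rw [← h]; exact mul_inv_cancel₀ (pow_ne_zero _ hz0), fun h => (eq_inv_of_mul_eq_one_right h).symm⟩,
        ← pow_add, ← orderOf_dvd_iff_pow_eq_one, hzo,
        ← ZMod.natCast_eq_zero_iff, Nat.cast_add, Nat.cast_pow, hK, Nat.cast_pow, ← hc, ← pow_mul, add_comm,
        add_eq_zero_iff_eq_neg]
    constructor
    · intro hfix
      rw [hfix] at hwroot
      -- the conjugates of `z` are all the roots of `f`
      set R : Finset (AdjoinRoot f) := (Finset.range b).image fun j => z ^ (Fintype.card K) ^ j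
      have hRcard : R.card = b := by
        rw [Finset.card_image_of_injOn, Finset.card_range]
        intro a ha a' ha' heq
        simp only [Finset.coe_range, Set.mem_Iio] at ha ha'
        rw [hzz.pow_eq_pow_iff_modEq, hzo, ← ZMod.natCast_eq_natCast_iff, he] at heq
        simp only [Nat.cast_pow] at heq
        rw [← Nat.cast_pow, ← ZMod.coe_unitOfCoprime _ (hpr.pow_left (e : ℕ))] at heq
        refine pow_injOn_Iio_orderOf (G := (ZMod r)ˣ) (x := ZMod.unitOfCoprime _ (hpr.pow_left (e : ℕ)))
          (by rwa [Set.mem_Iio, hord]) (by rwa [Set.mem_Iio, hord]) ?_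
        exact Units.ext (by rw [Units.val_pow_eq_pow_val, Units.val_pow_eq_pow_val]; exact heq)
      have hroots : R ⊆ (f.map (algebraMap K (AdjoinRoot f))).roots.toFinset := by
        intro x hx
        obtain ⟨j, -, rfl⟩ := Finset.mem_image.1 hx
        rw [Multiset.mem_toFinset, mem_roots (map_monic_ne_zero hfm), IsRoot.def, eval_map, ← Polynomial.aeval_def]
        clear hx
        induction j with
        | zero => rw [pow_zero, pow_one]; exact AdjoinRoot.eval₂_root f
        | succ j ih =>
          rw [pow_succ, pow_mul, show (z ^ Fintype.card K ^ j) ^ Fintype.card K =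
            FiniteField.frobeniusAlgHom K (AdjoinRoot f) (z ^ Fintype.card K ^ j) from rfl,
            Polynomial.aeval_algHom_apply, ih, map_zero]
      have hle : (f.map (algebraMap K (AdjoinRoot f))).roots.toFinset.card ≤ b :=
        (Multiset.toFinset_card_le _).trans ((card_roots' _).trans (by rw [natDegree_map, hfd]))
      have heq := Finset.eq_of_subset_of_card_le hroots (by rw [hRcard]; exact hle)
      have hw : w ∈ R := by
        rw [heq, Multiset.mem_toFinset, mem_roots (map_monic_ne_zero hfm), IsRoot.def, eval_map, ← Polynomial.aeval_def]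
        exact hwroot
      obtain ⟨j, -, hj⟩ := Finset.mem_image.1 hw
      exact ⟨j, (hpow j).1 hj.symm⟩
    · rintro ⟨j, hj⟩
      have hwj := (hpow j).2 hj
      have hfw : aeval w f = 0 := by
        rw [hwj]
        clear hwj hj
        induction j with
        | zero => rw [pow_zero, pow_one]; exact AdjoinRoot.eval₂_root f
        | succ j ih =>
          rw [pow_succ, pow_mul, show (z ^ Fintype.card K ^ j) ^ Fintype.card K =
            FiniteField.frobeniusAlgHom K (AdjoinRoot f) (z ^ Fintype.card K ^ j) from rfl,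
            Polynomial.aeval_algHom_apply, ih, map_zero]
      rw [← hτw]
      exact (minpoly.eq_of_irreducible_of_monic hfi hfw hfm).symm
  have hfix4 : i % 4 = 2 → ∃ j : ℕ, c ^ (2 * j) = -c := fun h4 => by
    obtain ⟨l, hl⟩ : ∃ l, i = 2 * (2 * l + 1) := ⟨i / 4, by omega⟩
    have h1 : c ^ (2 * l + 1) ≠ 1 := fun h => by
      have := orderOf_dvd_of_pow_eq_one h
      rw [← hi] at this
      have := Nat.le_of_dvd (by omega) this
      omega
    have h2 : c ^ (2 * l + 1) = -1 := by
      refine (mul_self_eq_one_iff.1 ?_).resolve_left h1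
      rw [← pow_add, ← two_mul, ← hl, hci]
    exact ⟨l + 1, by rw [show 2 * (l + 1) = 2 * l + 1 + 1 by ring, pow_succ, h2, neg_one_mul]⟩
  have hnfix : i % 4 ≠ 2 → ¬ ∃ j : ℕ, c ^ (2 * j) = -c := by
    rintro h4 ⟨j, hj⟩
    have hee : c ^ (2 * j + (i - 1)) = -1 := by
      rw [pow_add, hj, neg_mul, ← pow_succ', Nat.sub_add_cancel hi0, hci]
    set E := 2 * j + (i - 1) with hE
    have h2 : i ∣ 2 * E := hi ▸ orderOf_dvd_of_pow_eq_one (by rw [two_mul, pow_add, hee, neg_one_mul, neg_neg])
    have h3 : ¬ i ∣ E := fun h => by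
      obtain ⟨k, hk⟩ := h
      rw [hk, pow_mul, hci, one_pow] at hee
      have h20 : ((2 : ℕ) : ZMod r) = 0 := by push_cast; linear_combination hee
      exact hr2 ((Nat.prime_dvd_prime_iff_eq hr Nat.prime_two).1 ((ZMod.natCast_eq_zero_iff _ _).1 h20))
    rcases Nat.even_or_odd i with hev | hodd
    · obtain ⟨l, hl⟩ : ∃ l, i = 4 * l := ⟨i / 4, by obtain ⟨a, ha⟩ := hev; omega⟩
      obtain ⟨k, hk⟩ := h2
      rw [hl, mul_assoc] at hk
      have hk' : 2 * (l * k) = E := by omega
      omega
    · exact h3 ((Nat.coprime_two_right.2 hodd).dvd_of_dvd_mul_left h2)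
  -- the basic self-dual polynomials
  let uOf : K[X] → K[X] := fun f => if τ f = f then f else f * τ f
  set U := T.image uOf
  set D := if i % 4 = 2 then b else 2 * b
  have hUdeg : ∀ f ∈ T, (uOf f).Monic ∧ (uOf f).natDegree = D := by
    intro f hf
    have hm := (hTd f hf).1
    have hτ := hTd _ (hkey f hf).1
    by_cases h4 : i % 4 = 2
    · rw [show uOf f = f from if_pos ((hkey f hf).2.2 (hfix4 h4)), show D = b from if_pos h4]
      exact ⟨hm, (hTd f hf).2.2.1⟩
    · rw [show uOf f = f * τ f from if_neg fun h => hnfix h4 ((hkey f hf).2.1 h), show D = 2 * b from if_neg h4]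
      exact ⟨hm.mul hτ.1, by rw [hm.natDegree_mul hτ.1, (hTd f hf).2.2.1, hτ.2.2.1, two_mul]⟩
  have hmem_of_dvd : ∀ f ∈ T, ∀ g ∈ T, g ∣ uOf f → g = f ∨ g = τ f := by
    intro f hf g hg hdiv
    obtain ⟨hgm, hgi, -, -⟩ := hTd g hg
    by_cases h : τ f = f
    · rw [show uOf f = f from if_pos h] at hdiv
      exact Or.inl (Polynomial.eq_of_monic_of_associated hgm (hTd f hf).1 (hgi.associated_of_dvd (hTd f hf).2.1 hdiv))
    · rw [show uOf f = f * τ f from if_neg h] at hdiv
      rcases hgi.prime.dvd_or_dvd hdiv with h1 | h1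
      · exact Or.inl (Polynomial.eq_of_monic_of_associated hgm (hTd f hf).1 (hgi.associated_of_dvd (hTd f hf).2.1 h1))
      · exact Or.inr (Polynomial.eq_of_monic_of_associated hgm (hTd _ (hkey f hf).1).1
          (hgi.associated_of_dvd (hTd _ (hkey f hf).1).2.1 h1))
  have huτ : ∀ f ∈ T, uOf (τ f) = uOf f := by
    intro f hf
    by_cases h : τ f = f
    · rw [h]
    · simp only [uOf, hττ f hf, if_neg h, if_neg (Ne.symm h), mul_comm]
  have hUcard : U.card = if i % 4 = 2 then s else s / 2 := by
    by_cases h4 : i % 4 = 2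
    · rw [if_pos h4, ← hTcard]
      refine Finset.card_image_of_injOn fun f hf g hg hfg => ?_
      simp only [Finset.mem_coe] at hf hg
      rw [show uOf f = f from if_pos ((hkey f hf).2.2 (hfix4 h4)),
        show uOf g = g from if_pos ((hkey g hg).2.2 (hfix4 h4))] at hfg
      exact hfg
    · rw [if_neg h4, ← hTcard, Finset.card_eq_sum_card_image uOf T]
      rw [Finset.sum_const_nat (m := 2) fun u hu => ?_, Nat.mul_div_cancel _ two_pos]
      obtain ⟨f, hf, rfl⟩ := Finset.mem_image.1 hu
      have hne : τ f ≠ f := fun h => hnfix h4 ((hkey f hf).2.1 h)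
      rw [show (T.filter fun g => uOf g = uOf f) = {f, τ f} from ?_, Finset.card_pair hne.symm]
      ext g
      simp only [Finset.mem_filter, Finset.mem_insert, Finset.mem_singleton]
      constructor
      · rintro ⟨hg, hgf⟩
        refine hmem_of_dvd f hf g hg ?_
        rw [← hgf]
        simp only [uOf]
        split_ifs
        · exact dvd_rfl
        · exact dvd_mul_right _ _
      · rintro (rfl | rfl)
        · exact ⟨hf, rfl⟩
        · exact ⟨(hkey f hf).1, huτ f hf⟩
  have hrepex : ∀ u : U, ∃ f ∈ T, uOf f = u.1 := fun u => Finset.mem_image.1 u.2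
  choose rep hrepT hrepu using hrepex
  have hcount := SelfDualCount.ncard_prodsOf (n := n) (D := D)
    (by show 0 < (if i % 4 = 2 then b else 2 * b); split_ifs <;> omega) U
    (fun u hu => by obtain ⟨f, hf, rfl⟩ := Finset.mem_image.1 hu; exact hUdeg f hf) rep
    (fun u => ⟨(hTd _ (hrepT u)).1, (hTd _ (hrepT u)).2.1, fun h => h1T (h ▸ hrepT u)⟩) (fun u v => by
      have hp := (hTd _ (hrepT u)).2.1.prime
      split_ifs with huv
      · subst huv
        rw [← hrepu u]
        by_cases h : τ (rep u) = rep u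
        · rw [show uOf (rep u) = rep u from if_pos h]
          exact multiplicity_self
        · rw [show uOf (rep u) = rep u * τ (rep u) from if_neg h, multiplicity_mul hp
            (FiniteMultiplicity.of_prime_left hp (mul_ne_zero (hTd _ (hrepT u)).2.1.ne_zero
              (hTd _ (hkey _ (hrepT u)).1).2.1.ne_zero)), multiplicity_self]
          rw [multiplicity_eq_zero.2 fun hd => h (Polynomial.eq_of_monic_of_associated (hTd _ (hkey _ (hrepT u)).1).1
            (hTd _ (hrepT u)).1 (((hTd _ (hrepT u)).2.1.associated_of_dvd (hTd _ (hkey _ (hrepT u)).1).2.1 hd)).symm)]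
      · refine multiplicity_eq_zero.2 fun hd => huv ?_
        rw [← hrepu v] at hd
        apply Subtype.ext
        rw [← hrepu u, ← hrepu v]
        rcases hmem_of_dvd _ (hrepT v) _ (hrepT u) hd with h | h <;> rw [h]
        exact huτ _ (hrepT v))
  -- classes and characteristic polynomials
  set A := {C : ConjClasses (GU n K q) | ∃ g : GU n K q, ConjClasses.mk g = C ∧ g ^ r = 1}
  have hord' : ∀ g : GU n K q, g ^ r = 1 → ((orderOf (g : GL (Fin n) K) : ℕ) : K) ≠ 0 := fun g hg h => by
    obtain ⟨w, hw⟩ := orderOf_dvd_of_pow_eq_one hg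
    rw [Subgroup.orderOf_coe] at h
    exact hrK (by rw [hw, Nat.cast_mul, h, zero_mul])
  let ψ : A → K[X] := fun C => ((C.2.choose : GL (Fin n) K) : Matrix (Fin n) (Fin n) K).charpoly
  have hψ : Function.Injective ψ := fun C C' h => Subtype.ext (by
    rw [← C.2.choose_spec.1, ← C'.2.choose_spec.1, ConjClasses.mk_eq_mk_iff_isConj]
    exact UnitaryConjugacy.isConj_of_isConj hK _ _ (GLSemisimpleClasses.isConj_of_charpoly_eq
      (hord' _ C.2.choose_spec.2) (hord' _ C'.2.choose_spec.2) h))
  have hUdvd : ∀ u ∈ U, ∀ f : K[X], f.Monic → Irreducible f → f ∣ u → f ∣ X ^ r - 1 := by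
    intro u hu f hf hirr hfu
    obtain ⟨g, hg, rfl⟩ := Finset.mem_image.1 hu
    refine (hX f hf hirr).2 (Or.inr ?_)
    have hcase : f ∣ g ∨ f ∣ τ g := by
      simp only [uOf] at hfu
      split_ifs at hfu
      · exact Or.inl hfu
      · exact hirr.prime.dvd_or_dvd hfu
    rcases hcase with h | h
    · rw [Polynomial.eq_of_monic_of_associated hf (hTd g hg).1 (hirr.associated_of_dvd (hTd g hg).2.1 h)]; exact hg
    · rw [Polynomial.eq_of_monic_of_associated hf (hTd _ (hkey g hg).1).1
        (hirr.associated_of_dvd (hTd _ (hkey g hg).1).2.1 h)]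
      exact (hkey g hg).1
  have hUself : ∀ u ∈ U, τ u = u := by
    intro u hu
    obtain ⟨g, hg, rfl⟩ := Finset.mem_image.1 hu
    simp only [uOf]
    split_ifs with h
    · exact h
    · show cdual σ (g * τ g) = g * τ g
      rw [cdual_mul, show cdual σ (τ g) = g from hττ g hg, mul_comm]
  have hrange : Set.range ψ = SelfDualCount.prodsOf U n := by
    ext P
    constructor
    · rintro ⟨C, rfl⟩
      have hg := C.2.choose_spec.2
      set g := C.2.choose
      have hgr : (g : GL (Fin n) K) ^ r = 1 := by rw [← SubgroupClass.coe_pow, hg]; rfl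
      have key : ∀ d, ∀ Q : K[X], Q.natDegree = d → Q.Monic → τ Q = Q →
          (∀ f : K[X], f.Monic → Irreducible f → f ∣ Q → f ∣ X ^ r - 1) →
          ∃ (N : Multiset K[X]) (k : ℕ), (∀ u ∈ N, u ∈ U) ∧ Q = N.prod * (X - Polynomial.C 1) ^ k := by
        intro d
        induction d using Nat.strong_induction_on with
        | _ d ih =>
        intro Q hd hQ hQs hQf
        rcases Nat.eq_zero_or_pos d with rfl | hpos
        · exact ⟨0, 0, by simp, by rw [hQ.natDegree_eq_zero.1 hd]; simp⟩
        obtain ⟨f, hfm, hfi, Q', hQ'⟩ := Polynomial.exists_monic_irreducible_factor Q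
          (fun hu => by rw [Polynomial.natDegree_eq_zero_of_isUnit hu] at hd; omega)
        have step : ∀ u : K[X], u.Monic → 0 < u.natDegree → τ u = u → u ∣ Q →
            ∃ (N : Multiset K[X]) (k : ℕ), (∀ v ∈ N, v ∈ U) ∧ Q = u * (N.prod * (X - Polynomial.C 1) ^ k) := by
          intro u hu hud hus ⟨Q₁, hQ₁⟩
          have hQ₁m : Q₁.Monic := hu.of_mul_monic_left (hQ₁ ▸ hQ)
          obtain ⟨N, k, hN, hNk⟩ := ih Q₁.natDegree (by rw [← hd, hQ₁, hu.natDegree_mul hQ₁m]; omega) Q₁ rfl hQ₁m
            (by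
              refine mul_left_cancel₀ hu.ne_zero ?_
              calc u * τ Q₁ = τ u * τ Q₁ := by rw [hus]
                _ = τ (u * Q₁) := (cdual_mul σ u Q₁).symm
                _ = u * Q₁ := by rw [← hQ₁, hQs])
            (fun f' h1 h2 h3 => hQf f' h1 h2 (h3.trans (hQ₁ ▸ dvd_mul_left Q₁ u)))
          exact ⟨N, k, hN, by rw [hQ₁, hNk]⟩
        rcases (hX f hfm hfi).1 (hQf f hfm hfi (hQ' ▸ dvd_mul_right f Q')) with rfl | hfT
        · obtain ⟨N, k, hN, hQN⟩ := step _ (monic_X_sub_C 1) (by rw [natDegree_X_sub_C]; exact one_pos)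
            (cdual_X_sub_one σ) (hQ' ▸ dvd_mul_right _ Q')
          exact ⟨N, k + 1, hN, by rw [hQN]; ring⟩
        · have hu : uOf f ∈ U := Finset.mem_image_of_mem _ hfT
          have hdiv : uOf f ∣ Q := by
            by_cases h : τ f = f
            · rw [show uOf f = f from if_pos h, hQ']; exact dvd_mul_right _ _
            · rw [show uOf f = f * τ f from if_neg h]
              refine IsCoprime.mul_dvd (hfi.coprime_iff_not_dvd.2 fun hd' => h ?_) (hQ' ▸ dvd_mul_right _ _) ?_
              · exact (Polynomial.eq_of_monic_of_associated hfm (hTd _ (hkey f hfT).1).1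
                  (hfi.associated_of_dvd (hTd _ (hkey f hfT).1).2.1 hd')).symm
              · rw [← hQs, hQ']; show _ ∣ cdual σ (f * Q'); rw [cdual_mul]; exact dvd_mul_right _ _
          obtain ⟨N, k, hN, hQN⟩ := step _ (hUdeg f hfT).1
            (by rw [(hUdeg f hfT).2]; show 0 < (if i % 4 = 2 then b else 2 * b); split_ifs <;> omega)
            (hUself _ hu) hdiv
          refine ⟨uOf f ::ₘ N, k, fun v hv => ?_, by rw [hQN, Multiset.prod_cons, mul_assoc]⟩
          rcases Multiset.mem_cons.1 hv with rfl | hv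
          exacts [hu, hN v hv]
      set Q := ((g : GL (Fin n) K) : Matrix (Fin n) (Fin n) K).charpoly
      have hQd : Q.natDegree = n := by rw [Matrix.charpoly_natDegree_eq_dim, Fintype.card_fin]
      obtain ⟨N, k, hN, hNk⟩ := key _ Q rfl (Matrix.charpoly_monic _) (cdual_charpoly_of_mem hK g)
        (fun f hf hirr hd => GLPrimeOrderClasses.factor_dvd hgr hf hirr hd)
      exact ⟨N, k, hN, hNk, hQd⟩
    · rintro ⟨N, k, hN, rfl, hPd⟩
      set P := N.prod * (X - Polynomial.C 1) ^ k
      have hfac : ∀ f : K[X], f.Monic → Irreducible f → f ∣ P → f ∣ X ^ r - 1 := fun f hf hirr hd => by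
        rcases hirr.prime.dvd_or_dvd hd with h | h
        · obtain ⟨u, hu, hfu⟩ := (hirr.prime).exists_mem_multiset_dvd h
          exact hUdvd u (hN u hu) f hf hirr hfu
        · exact (hX f hf hirr).2 (Or.inl (Polynomial.eq_of_monic_of_associated hf (monic_X_sub_C 1)
            (hirr.associated_of_dvd (irreducible_X_sub_C 1) (hirr.prime.dvd_of_dvd_pow h))))
      have hNm : N.prod.Monic := by
        simpa using monic_multiset_prod_of_monic N id fun u hu => by
          obtain ⟨f, hf, rfl⟩ := Finset.mem_image.1 (hN u hu)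
          exact (hUdeg f hf).1
      have hP0 : P.coeff 0 ≠ 0 := fun h0 => by
        obtain ⟨w, hw⟩ := hfac X monic_X irreducible_X (X_dvd_iff.2 h0)
        have h2 := congrArg (fun P => Polynomial.coeff P 0) hw
        simp [mul_coeff_zero, coeff_X_pow, hr.ne_zero.symm] at h2
      have hNs : cdual σ N.prod = N.prod := by
        clear hPd hfac hP0 hNm P
        induction N using Multiset.induction with
        | empty => simp [cdual, show (1 : K[X]).reverse = 1 from by rw [← map_one Polynomial.C, reverse_C]]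
        | cons u N ih =>
          rw [Multiset.prod_cons, cdual_mul, ih fun v hv => hN v (Multiset.mem_cons_of_mem hv),
            show cdual σ u = u from hUself u (hN u (Multiset.mem_cons_self u N))]
      have hPs : cdual σ P = P := by
        rw [show P = N.prod * (X - Polynomial.C 1) ^ k from rfl, cdual_mul, hNs]
        congr 1
        clear hPd hfac hP0 P
        induction k with
        | zero => simp [cdual, show (1 : K[X]).reverse = 1 from by rw [← map_one Polynomial.C, reverse_C]]
        | succ k ih => rw [pow_succ, cdual_mul, ih, cdual_X_sub_one]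
      obtain ⟨g, hgc, hgP⟩ := exists_mem_charpoly (p := p) hK (hNm.mul ((monic_X_sub_C 1).pow k)) hPd hP0 hPs
      have hgM : (Matrix.toLinAlgEquiv' ((g : GL (Fin n) K) : Matrix (Fin n) (Fin n) K)) ^ r = 1 :=
        GLPrimeOrderClasses.pow_eq_one_of_factors (M := orderOf (g : GL (Fin n) K))
          (by rw [Subgroup.orderOf_coe]; exact (cast_ne_zero_iff _).2 hgc) _
          (GLSemisimpleClasses.toLin'_pow_eq_one (pow_orderOf_eq_one _)) hr.ne_zero
          (by rw [GLSemisimpleClasses.charpoly_toLin', hgP]; exact hfac)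
      have hgr : g ^ r = 1 := by
        refine Subtype.ext (Units.ext (Matrix.toLinAlgEquiv'.injective ?_))
        rw [SubgroupClass.coe_pow, Units.val_pow_eq_pow_val, map_pow, hgM, OneMemClass.coe_one, Units.val_one, map_one]
      have hmem : ConjClasses.mk g ∈ A := ⟨g, rfl, hgr⟩
      refine ⟨⟨_, hmem⟩, ?_⟩
      obtain ⟨Q, hQ⟩ := isConj_iff.1 (ConjClasses.mk_eq_mk_iff_isConj.1 hmem.choose_spec.1)
      show Matrix.charpoly _ = P
      rw [show P = _ from hgP.symm]
      conv_rhs => rw [← hQ]
      rw [Subgroup.coe_mul, Subgroup.coe_mul, Subgroup.coe_inv, Units.val_mul, Units.val_mul,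
        Matrix.coe_units_inv, Matrix.charpoly_units_conj]
  rw [← Nat.card_coe_set_eq, ← Nat.card_range_of_injective hψ, hrange, Nat.card_coe_set_eq, hcount, hUcard]
  by_cases h4 : i % 4 = 2
  · rw [if_pos h4, if_pos h4, show D = b from if_pos h4]
    have hbi : i = 2 * b := by rw [hb, if_neg (by rw [Nat.odd_iff]; omega)]; omega
    rw [hbi, Nat.mul_div_mul_left _ _ two_pos]
  · rw [if_neg h4, if_neg h4, show D = 2 * b from if_neg h4]

end Cfsg.Agent.UnitPrimeOrderClasses
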