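import Cfsg.Agent.Lib.Classical.UnitaryConjugacy
import Cfsg.Agent.Lib.Classical.RegUnipClasses

/-! Classes of regular unipotent elements of `SU_n(q)`. -/

set_option autoImplicit false

namespace Cfsg.Agent.UnitRegUnipClasses

open Matrix Cfsg.Agent.Classical Cfsg.Agent.UnitaryConjugacy Cfsg.Agent.RegUnipClasses

variable {K : Type*} [Field K] [Fintype K] {q n : ℕ}

/-- The norm-one units. -/
def normOne (K : Type*) [Field K] (q : ℕ) : Subgroup Kˣ := (powMonoidHom (q + 1) : Kˣ →* Kˣ).ker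

omit [Fintype K] in
theorem mem_normOne {t : Kˣ} : t ∈ normOne K q ↔ (t : K) ^ (q + 1) = 1 := by
  rw [normOne, MonoidHom.mem_ker, powMonoidHom_apply, Units.ext_iff, Units.val_pow_eq_pow_val, Units.val_one]

theorem card_normOne (hK : Fintype.card K = q ^ 2) : Nat.card (normOne K q) = q + 1 := by
  rw [normOne, IsCyclic.card_powMonoidHom_ker, Nat.card_units, Nat.card_eq_fintype_card, hK]
  refine Nat.gcd_eq_right ⟨q - 1, ?_⟩
  rw [← Nat.sq_sub_sq, one_pow]

theorem scaleFirst_mem (hK : Fintype.card K = q ^ 2) {t : Kˣ} (ht : t ∈ normOne K q) :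
    scaleFirst n t ∈ GU n K q := fun u v =>
  preserves_of_transpose_mul hK (transpose_mul_diagonal hK fun i => by
    split_ifs
    · exact mem_normOne.1 ht
    · exact one_pow _) u v

omit [Fintype K] in
theorem shift_map {L : Type*} [Field L] (σ : K →+* L) : (shift K n).map σ = shift L n := by
  ext i j
  simp [shift, apply_ite σ]

theorem exists_regular (hK : Fintype.card K = q ^ 2) (hn : 0 < n) :
    ∃ U : GL (Fin n) K, U ∈ GU n K q ∧ ∃ P : GL (Fin n) K,
      (U : Matrix (Fin n) (Fin n) K) * P = (P : Matrix (Fin n) (Fin n) K) * (1 + shift K n) := by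
  have hdet : (1 + shift K n).det = 1 := by
    rw [Matrix.det_of_lowerTriangular _ fun i j hij => ?_]
    · exact Finset.prod_eq_one fun i _ => by simp [shift]
    · have h : (i : ℕ) < (j : ℕ) := hij
      simp [shift, Fin.ext_iff, Nat.ne_of_lt h, show (i : ℕ) ≠ (j : ℕ) + 1 by omega]
  obtain ⟨A, hA⟩ : IsUnit (1 + shift K n) := (Matrix.isUnit_iff_isUnit_det _).2 (by rw [hdet]; exact isUnit_one)
  set S := st hK (A : Matrix (Fin n) (Fin n) K)
  have hSu : IsUnit S.det := (Matrix.isUnit_iff_isUnit_det _).1 (st_unit hK A.isUnit)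
  have hS : S = 1 + (shift K n)ᵀ := by
    show st hK (A : Matrix (Fin n) (Fin n) K) = _
    rw [hA, st_add, st_one, st, shift_map]
  have h1 : S⁻¹ - 1 = -(S⁻¹ * (shift K n)ᵀ) := by
    have e : S⁻¹ * (1 + (shift K n)ᵀ) = 1 := by rw [← hS]; exact Matrix.nonsing_inv_mul _ hSu
    rw [mul_add, mul_one, ← eq_sub_iff_add_eq] at e
    rw [sub_eq_iff_eq_add, neg_add_eq_sub]
    exact e
  have hc : Commute S⁻¹ (shift K n)ᵀ := by
    have h2 : S * (shift K n)ᵀ = (shift K n)ᵀ * S := by rw [hS, add_mul, mul_add, one_mul, mul_one]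
    show S⁻¹ * (shift K n)ᵀ = (shift K n)ᵀ * S⁻¹
    calc S⁻¹ * (shift K n)ᵀ = S⁻¹ * ((shift K n)ᵀ * S) * S⁻¹ := by
          simp only [mul_assoc, Matrix.mul_nonsing_inv _ hSu, mul_one]
      _ = _ := by rw [← h2, ← mul_assoc, Matrix.nonsing_inv_mul _ hSu, one_mul]
  obtain ⟨H, hH⟩ := exists_conj (F := K) hn (M := S⁻¹ - 1)
    (by rw [h1, neg_pow, hc.mul_pow, ← Matrix.transpose_pow, shift_pow_self, Matrix.transpose_zero, mul_zero, mul_zero])
    (by rw [h1, ← Matrix.neg_mul, Matrix.rank_mul_eq_right_of_isUnit_det _ _ ?_, Matrix.rank_transpose, shift_rank hn]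
        rw [Matrix.det_neg, Matrix.det_nonsing_inv, Ring.inverse_eq_inv']
        exact ((isUnit_one.neg).pow _).mul (IsUnit.inv hSu))
  obtain ⟨U, hU⟩ := exists_similar_mem hK A H (by
    have e : S⁻¹ * H = (H : Matrix (Fin n) (Fin n) K) * (1 + shift K n) := by
      rw [mul_add, mul_one, ← hH, sub_mul, one_mul, add_sub_cancel]
    show S * (H : Matrix (Fin n) (Fin n) K) * (A : Matrix (Fin n) (Fin n) K) = H
    rw [mul_assoc, hA, ← e, ← mul_assoc, Matrix.mul_nonsing_inv _ hSu, one_mul])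
  obtain ⟨P, hP⟩ := isConj_iff.1 hU
  refine ⟨U, U.2, P, ?_⟩
  rw [← hA, ← Units.val_mul, ← Units.val_mul, ← hP, inv_mul_cancel_right]

omit [Fintype K] in
theorem regular_of_similar (hn : 0 < n) {U P : GL (Fin n) K}
    (h : (U : Matrix (Fin n) (Fin n) K) * P = (P : Matrix (Fin n) (Fin n) K) * (1 + shift K n)) :
    ((U : Matrix (Fin n) (Fin n) K) - 1) ^ n = 0 ∧ ((U : Matrix (Fin n) (Fin n) K) - 1).rank = n - 1 ∧
      (U : Matrix (Fin n) (Fin n) K).det = 1 := by
  have e : (U : Matrix (Fin n) (Fin n) K) = P.val * (1 + shift K n) * P.inv := by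
    rw [← h, mul_assoc, P.val_inv, mul_one]
  have h1 : (U : Matrix (Fin n) (Fin n) K) - 1 = P.val * shift K n * P.inv := by
    rw [e, mul_add, mul_one, add_mul, P.val_inv, add_sub_cancel_left]
  refine ⟨by rw [h1, RegUnipClasses.conj_pow, shift_pow_self, mul_zero, zero_mul], ?_, ?_⟩
  · rw [h1, Matrix.rank_mul_eq_left_of_isUnit_det _ _ ?_, Matrix.rank_mul_eq_right_of_isUnit_det _ _ ?_, shift_rank hn]
    · exact P.isUnit.map Matrix.detMonoidHom
    · exact P⁻¹.isUnit.map Matrix.detMonoidHom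
  · rw [e, Matrix.det_mul, Matrix.det_mul, mul_right_comm, ← Matrix.det_mul, P.val_inv, Matrix.det_one, one_mul,
      Matrix.det_of_lowerTriangular _ fun i j hij => ?_]
    · exact Finset.prod_eq_one fun i _ => by simp [shift]
    · have h : (i : ℕ) < (j : ℕ) := hij
      simp [shift, Fin.ext_iff, Nat.ne_of_lt h, show (i : ℕ) ≠ (j : ℕ) + 1 by omega]

/-- The centraliser in `GU_n` of a regular unipotent element has only `n`-th powers as determinants. -/
theorem det_commute (hK : Fintype.card K = q ^ 2) (hn : 0 < n) {U P : GL (Fin n) K}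
    (h : (U : Matrix (Fin n) (Fin n) K) * P = (P : Matrix (Fin n) (Fin n) K) * (1 + shift K n))
    {c : GL (Fin n) K} (hc : c ∈ GU n K q) (hcU : c * U = U * c) :
    ∃ a : Kˣ, a ∈ normOne K q ∧ (a : K) ^ n = (c : Matrix (Fin n) (Fin n) K).det := by
  set C : Matrix (Fin n) (Fin n) K := P.inv * c.val * P.val
  have hC : C * shift K n = shift K n * C := by
    have h2 : C * (1 + shift K n) = (1 + shift K n) * C := by
      have hP : (1 + shift K n) = P.inv * U.val * P.val := by
        rw [mul_assoc, h, ← mul_assoc, P.inv_val, one_mul]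
      rw [hP]
      calc C * (P.inv * U.val * P.val) = P.inv * (c.val * U.val) * P.val := by
            show P.inv * c.val * P.val * (P.inv * U.val * P.val) = _
            simp only [mul_assoc]; rw [← mul_assoc P.val P.inv, P.val_inv, one_mul]
        _ = P.inv * (U.val * c.val) * P.val := by rw [← Units.val_mul, hcU, Units.val_mul]
        _ = _ := by
            show _ = P.inv * U.val * P.val * (P.inv * c.val * P.val)
            simp only [mul_assoc]; rw [← mul_assoc P.val P.inv, P.val_inv, one_mul]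
    rwa [mul_add, add_mul, mul_one, one_mul, add_right_inj] at h2
  set a := C ⟨0, hn⟩ ⟨0, hn⟩
  have hPP : P.inv.det * P.val.det = 1 := by rw [← Matrix.det_mul, P.inv_val, Matrix.det_one]
  have hdet : ∀ b : K, (c.val - b • (1 : Matrix (Fin n) (Fin n) K)).det = (a - b) ^ n := by
    intro b
    have h1 : (C - b • (1 : Matrix (Fin n) (Fin n) K)) * shift K n = shift K n * (C - b • 1) := by
      rw [sub_mul, mul_sub, hC, smul_mul_assoc, one_mul, mul_smul_comm, mul_one]
    have h2 := commute_det hn h1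
    simp only [Matrix.sub_apply, Matrix.smul_apply, Matrix.one_apply_eq, smul_eq_mul, mul_one] at h2
    rw [← h2, show C - b • (1 : Matrix (Fin n) (Fin n) K) = P.inv * (c.val - b • 1) * P.val from by
      rw [mul_sub, sub_mul, mul_smul_comm, mul_one, smul_mul_assoc, P.inv_val]]
    rw [Matrix.det_mul, Matrix.det_mul, mul_right_comm, hPP, one_mul]
  have hca : (c.val).det = a ^ n := by
    have := hdet 0
    rwa [zero_smul, sub_zero, sub_zero] at this
  have ha0 : a ≠ 0 := fun h0 => ((Matrix.isUnit_iff_isUnit_det _).1 c.isUnit).ne_zero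
    (by rw [hca, h0, zero_pow hn.ne'])
  have hσa : qFrob hK a ≠ 0 := (map_ne_zero _).2 ha0
  set b := (qFrob hK a)⁻¹
  have hab : a = b := by
    have h0 : (c.val - a • (1 : Matrix (Fin n) (Fin n) K)).det = 0 := by
      rw [hdet, sub_self, zero_pow hn.ne']
    have h1 : (st hK (c.val - a • (1 : Matrix (Fin n) (Fin n) K))).det = 0 := by
      rw [st, Matrix.det_transpose,
        show Matrix.det (Matrix.map _ (qFrob hK)) = _ from ((qFrob hK).map_det _).symm, h0, map_zero]
    have hs : st hK c.val * c.val = 1 := (mem_GU_iff hK c).1 hc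
    have h2 : st hK (c.val - a • (1 : Matrix (Fin n) (Fin n) K)) * c.val =
        (-(qFrob hK a)) • (c.val - b • (1 : Matrix (Fin n) (Fin n) K)) := by
      rw [sub_eq_add_neg c.val, ← neg_smul, ← Algebra.algebraMap_eq_smul_one, st_add, st_algebraMap, add_mul, hs,
        Algebra.algebraMap_eq_smul_one, smul_mul_assoc, one_mul, map_neg, smul_sub, smul_smul, neg_mul,
        mul_inv_cancel₀ hσa]
      simp [sub_eq_add_neg, add_comm]
    have h3 := congrArg Matrix.det h2
    rw [Matrix.det_mul, h1, zero_mul, Matrix.det_smul, hdet] at h3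
    exact sub_eq_zero.1 (eq_zero_of_pow_eq_zero
      ((mul_eq_zero.1 h3.symm).resolve_left (pow_ne_zero _ (neg_ne_zero.2 hσa))))
  refine ⟨Units.mk0 a ha0, mem_normOne.2 ?_, hca.symm⟩
  show a ^ (q + 1) = 1
  rw [pow_succ, ← qFrob_apply hK]
  nth_rewrite 2 [hab]
  exact mul_inv_cancel₀ hσa

theorem card_classes (hK : Fintype.card K = q ^ 2) (hn : 0 < n) :
    Nat.card {C : ConjClasses (SU n K q) // ∃ u : SU n K q, ConjClasses.mk u = C ∧
      (((u : GL (Fin n) K) : Matrix (Fin n) (Fin n) K) - 1) ^ n = 0 ∧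
      (((u : GL (Fin n) K) : Matrix (Fin n) (Fin n) K) - 1).rank = n - 1} = Nat.gcd n (q + 1) := by
  classical
  obtain ⟨U, hU, P, hP⟩ := exists_regular hK hn
  set N := normOne K q
  let W : N → GL (Fin n) K := fun t => scaleFirst n t.1 * U * (scaleFirst n t.1)⁻¹
  have hWmem : ∀ t, W t ∈ GU n K q := fun t =>
    (GU n K q).mul_mem ((GU n K q).mul_mem (scaleFirst_mem hK t.2) hU) ((GU n K q).inv_mem (scaleFirst_mem hK t.2))
  have hWreg : ∀ t, ((W t : Matrix (Fin n) (Fin n) K) - 1) ^ n = 0 ∧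
      ((W t : Matrix (Fin n) (Fin n) K) - 1).rank = n - 1 ∧ (W t : Matrix (Fin n) (Fin n) K).det = 1 := fun t =>
    regular_of_similar hn (U := W t) (P := scaleFirst n t.1 * P) (by
      show ((scaleFirst n t.1 * U * (scaleFirst n t.1)⁻¹ : GL (Fin n) K) : Matrix (Fin n) (Fin n) K) *
        ((scaleFirst n t.1 * P : GL (Fin n) K) : Matrix (Fin n) (Fin n) K) = _
      rw [← Units.val_mul, mul_assoc (scaleFirst n t.1 * U), inv_mul_cancel_left, mul_assoc, Units.val_mul,
        Units.val_mul U, hP, Units.val_mul, mul_assoc])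
  let r : N → SU n K q := fun t => ⟨⟨W t, (hWreg t).2.2⟩, fun u v => hWmem t u v⟩
  have hinj : Function.Injective fun s : SU n K q => (s : GL (Fin n) K) := fun s t h => by
    have h1 : ((s : GL (Fin n) K) : Matrix (Fin n) (Fin n) K) = ((t : GL (Fin n) K) : Matrix (Fin n) (Fin n) K) :=
      congrArg (fun g : GL (Fin n) K => (g : Matrix (Fin n) (Fin n) K)) h
    exact Subtype.ext (Subtype.ext h1)
  have hval : ∀ s t : SU n K q, ((s * t : SU n K q) : GL (Fin n) K) = (s : GL (Fin n) K) * t := fun s t =>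
    Units.ext rfl
  have hr : ∀ t, ((r t : SU n K q) : GL (Fin n) K) = W t := fun t => Units.ext rfl
  have hiff : ∀ t t' : N, IsConj (r t) (r t') ↔ t / t' ∈ (powMonoidHom n : N →* N).range := by
    intro t t'
    rw [isConj_iff]
    set D := scaleFirst n t.1 with hD
    set D' := scaleFirst n t'.1 with hD'
    constructor
    · rintro ⟨s, hs⟩
      have h0 := congrArg (fun x : SU n K q => (x : GL (Fin n) K)) (mul_inv_eq_iff_eq_mul.1 hs)
      simp only [hval, hr] at h0
      set c := D'⁻¹ * (s : GL (Fin n) K) * D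
      have hcU : c * U = U * c := by
        have e : (s : GL (Fin n) K) * (D * U * D⁻¹) = D' * U * D'⁻¹ * s := h0
        calc c * U = D'⁻¹ * ((s : GL (Fin n) K) * (D * U * D⁻¹)) * D := by simp only [c]; group
          _ = _ := by rw [e]; simp only [c]; group
      obtain ⟨a, ha, hdet⟩ := det_commute hK hn hP
        ((GU n K q).mul_mem ((GU n K q).mul_mem ((GU n K q).inv_mem (scaleFirst_mem hK t'.2)) (fun u v => s.2 u v))
          (scaleFirst_mem hK t.2)) hcU
      refine ⟨⟨a, ha⟩, Subtype.ext (Units.ext ?_)⟩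
      show (((a ^ n : Kˣ)) : K) = ((t.1 / t'.1 : Kˣ) : K)
      rw [Units.val_pow_eq_pow_val, hdet, Units.val_mul, Units.val_mul, Matrix.det_mul, Matrix.det_mul,
        Matrix.coe_units_inv, Matrix.det_nonsing_inv, Ring.inverse_eq_inv', det_scaleFirst hn, det_scaleFirst hn,
        show ((s : GL (Fin n) K) : Matrix (Fin n) (Fin n) K).det = 1 from s.1.2, mul_one,
        Units.val_div_eq_div_val, div_eq_inv_mul]
    · rintro ⟨a, ha⟩
      set z := Matrix.GeneralLinearGroup.scalar (Fin n) a.1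
      have hz : z ∈ GU n K q := fun u v => preserves_of_transpose_mul hK
        (show ((z : Matrix (Fin n) (Fin n) K))ᵀ * _ = 1 from transpose_mul_diagonal hK fun _ => mem_normOne.1 a.2) u v
      set S := z * (D' * D⁻¹)
      have hSU : S ∈ GU n K q :=
        (GU n K q).mul_mem hz ((GU n K q).mul_mem (scaleFirst_mem hK t'.2) ((GU n K q).inv_mem (scaleFirst_mem hK t.2)))
      have ha' : (a.1 : K) ^ n = (t.1 : K) / (t'.1 : K) := by
        rw [← Units.val_pow_eq_pow_val, ← Units.val_div_eq_div_val]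
        exact congrArg (fun x : N => ((x.1 : Kˣ) : K)) ha
      have hSd : (S : Matrix (Fin n) (Fin n) K).det = 1 := by
        rw [Units.val_mul, Units.val_mul, Matrix.det_mul, Matrix.det_mul, Matrix.coe_units_inv,
          Matrix.det_nonsing_inv, Ring.inverse_eq_inv', det_scaleFirst hn, det_scaleFirst hn,
          Matrix.GeneralLinearGroup.coe_scalar, Matrix.scalar_apply, Matrix.det_diagonal, Finset.prod_const,
          Finset.card_univ, Fintype.card_fin, ha']
        field_simp
      refine ⟨⟨⟨S, hSd⟩, fun u v => hSU u v⟩, mul_inv_eq_iff_eq_mul.2 (hinj ?_)⟩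
      simp only [hval, hr]
      rw [show ((⟨⟨S, hSd⟩, fun u v => hSU u v⟩ : SU n K q) : GL (Fin n) K) = S from Units.ext rfl]
      show z * (D' * D⁻¹) * (D * U * D⁻¹) = D' * U * D'⁻¹ * (z * (D' * D⁻¹))
      have hzc : ∀ g : GL (Fin n) K, g * z = z * g := fun g => Units.ext (by
        rw [Units.val_mul, Units.val_mul]
        exact ((Matrix.scalar_commute (a.1 : K) (fun r => Commute.all _ r) (g : Matrix (Fin n) (Fin n) K)).eq).symm)
      rw [← mul_assoc (D' * U * D'⁻¹) z, hzc]
      group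
  let R : Subgroup N := (powMonoidHom n).range
  let g : N ⧸ R → {C : ConjClasses (SU n K q) // ∃ u : SU n K q, ConjClasses.mk u = C ∧
      (((u : GL (Fin n) K) : Matrix (Fin n) (Fin n) K) - 1) ^ n = 0 ∧
      (((u : GL (Fin n) K) : Matrix (Fin n) (Fin n) K) - 1).rank = n - 1} :=
    Quotient.lift (fun t => ⟨ConjClasses.mk (r t), r t, rfl, by rw [hr]; exact ⟨(hWreg t).1, (hWreg t).2.1⟩⟩)
      fun a b h => Subtype.ext (ConjClasses.mk_eq_mk_iff_isConj.2 ((hiff a b).2 (by
        have := R.inv_mem (QuotientGroup.leftRel_apply.1 h)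
        show a / b ∈ R
        simpa [-MonoidHom.mem_range, div_eq_mul_inv, mul_comm, R] using this)))
  rw [← Nat.card_congr (Equiv.ofBijective g ⟨?_, ?_⟩), ← Subgroup.index_eq_card,
    IsCyclic.index_powMonoidHom_range, card_normOne hK, Nat.gcd_comm]
  · rintro ⟨a⟩ ⟨b⟩ h
    have h1 := (hiff a b).1 (ConjClasses.mk_eq_mk_iff_isConj.1 (congrArg Subtype.val h))
    refine Quotient.sound (QuotientGroup.leftRel_apply.2 ?_)
    have := R.inv_mem h1
    simpa [div_eq_mul_inv, mul_comm] using this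
  · rintro ⟨_, u, rfl, hnil, hrank⟩
    obtain ⟨Q, hQ⟩ := exists_conj hn hnil hrank
    have hGL : IsConj U (u : GL (Fin n) K) := by
      refine isConj_iff.2 ⟨Q * P⁻¹, ?_⟩
      rw [mul_inv_eq_iff_eq_mul]
      refine Units.ext ?_
      have e1 : ((u : GL (Fin n) K) : Matrix (Fin n) (Fin n) K) * Q.val = Q.val * (1 + shift K n) := by
        rw [mul_add, mul_one, ← hQ, sub_mul, one_mul, add_sub_cancel]
      have e2 : (P⁻¹ : GL (Fin n) K).val * U.val = (1 + shift K n) * (P⁻¹ : GL (Fin n) K).val := by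
        calc (P⁻¹ : GL (Fin n) K).val * U.val
            = (P⁻¹ : GL (Fin n) K).val * (U.val * P.val) * (P⁻¹ : GL (Fin n) K).val := by
              simp only [mul_assoc, Units.mul_inv, mul_one]
          _ = _ := by rw [hP, ← mul_assoc, Units.inv_mul, one_mul]
      rw [Units.val_mul, Units.val_mul, Units.val_mul, mul_assoc, e2, ← mul_assoc, ← e1, mul_assoc]
      rw [Units.val_mul]
    obtain ⟨w, hw⟩ := isConj_iff.1 (UnitaryConjugacy.isConj_of_isConj hK ⟨U, hU⟩
      ⟨(u : GL (Fin n) K), fun x y => u.2 x y⟩ hGL)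
    have hw' : (w : GL (Fin n) K) * U * (w : GL (Fin n) K)⁻¹ = u := congrArg Subtype.val hw
    set d := Units.mk0 _ ((Matrix.isUnit_iff_isUnit_det _).1 (w : GL (Fin n) K).isUnit).ne_zero with hd
    have hdN : d ∈ N := mem_normOne.2 (by
      have h1 := congrArg Matrix.det ((mem_GU_iff hK _).1 w.2)
      rw [Matrix.det_mul, Matrix.det_one, st, Matrix.det_transpose,
        show Matrix.det (Matrix.map _ (qFrob hK)) = _ from ((qFrob hK).map_det _).symm, qFrob_apply, ← pow_succ] at h1
      exact h1)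
    refine ⟨QuotientGroup.mk ⟨d, hdN⟩, Subtype.ext ?_⟩
    show ConjClasses.mk (r ⟨d, hdN⟩) = ConjClasses.mk u
    rw [ConjClasses.mk_eq_mk_iff_isConj, isConj_iff]
    set S := (w : GL (Fin n) K) * (scaleFirst n d)⁻¹
    have hSU : S ∈ GU n K q := (GU n K q).mul_mem w.2 ((GU n K q).inv_mem (scaleFirst_mem hK hdN))
    have hSd : (S : Matrix (Fin n) (Fin n) K).det = 1 := by
      rw [Units.val_mul, Matrix.det_mul, Matrix.coe_units_inv, Matrix.det_nonsing_inv, Ring.inverse_eq_inv',
        det_scaleFirst hn]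
      exact mul_inv_cancel₀ d.ne_zero
    refine ⟨⟨⟨S, hSd⟩, fun u v => hSU u v⟩, mul_inv_eq_iff_eq_mul.2 (hinj ?_)⟩
    simp only [hval, hr]
    rw [show ((⟨⟨S, hSd⟩, fun u v => hSU u v⟩ : SU n K q) : GL (Fin n) K) = S from Units.ext rfl, ← hw']
    simp only [W, S]
    group

end Cfsg.Agent.UnitRegUnipClasses
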