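import Mathlib
import Cfsg.Prelude.Def_Classical
import Cfsg.Agent.Lib.Classical.Unit
import Cfsg.Agent.Lib.Classical.QuadRes

/-!
The two dimensional special unitary group over the quadratic extension is the special linear group over the base.
-/

set_option autoImplicit false

namespace Cfsg.Agent.Classical.UnitTwo

open Matrix

variable {F K : Type*} [Field F] [Field K] (D : QuadRes.Quad K F)

/-- The semilinear involution. -/
def C0 : Matrix (Fin 2) (Fin 2) K := !![1, D.s; 0, -1]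

theorem C0_sq : C0 D * C0 D = 1 := by
  ext i j; fin_cases i <;> fin_cases j <;> simp [C0, Matrix.mul_apply, Fin.sum_univ_two]

theorem C0_ρ (k : F) : C0 D * D.ρ k = D.ρ (k ^ D.q) * C0 D := by
  obtain ⟨⟨x, y⟩, rfl⟩ := D.bij.2 k
  simp only
  rw [D.bar, show D.φ x + D.φ y * (D.φ D.s - D.θ) = D.φ (x + y * D.s) + D.φ (-y) * D.θ by
    simp only [map_add, map_mul, map_neg]; ring, D.ρ_apply, D.ρ_apply]
  ext i j; fin_cases i <;> fin_cases j <;> simp [C0, Matrix.mul_apply, Fin.sum_univ_two] <;> ring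

/-- The linear form of the quaternion map. -/
noncomputable def Ψ (μ : F) (p : F × F) : Matrix (Fin 2) (Fin 2) K := D.ρ p.1 + D.ρ (p.2 * μ) * C0 D

theorem Ψ_mul {μ : F} (hμ : μ ^ (D.q + 1) = -1) (a b c d : F) :
    Ψ D μ (a, b) * Ψ D μ (c, d) = Ψ D μ (a * c - b * d ^ D.q, a * d + b * c ^ D.q) := by
  have h1 : D.ρ (b * μ) * C0 D * D.ρ c = D.ρ (b * μ * c ^ D.q) * C0 D := by
    rw [Matrix.mul_assoc, C0_ρ, ← Matrix.mul_assoc, ← map_mul]
  have h2 : D.ρ (b * μ) * C0 D * (D.ρ (d * μ) * C0 D) = D.ρ (-(b * d ^ D.q)) := by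
    rw [Matrix.mul_assoc, ← Matrix.mul_assoc (C0 D), C0_ρ, Matrix.mul_assoc (D.ρ _), C0_sq, Matrix.mul_one,
      ← map_mul, mul_pow]
    congr 1
    rw [pow_succ] at hμ
    linear_combination (b * d ^ D.q) * hμ
  simp only [Ψ]
  rw [Matrix.add_mul, Matrix.mul_add, Matrix.mul_add, h1, h2, ← Matrix.mul_assoc, ← map_mul, ← map_mul, map_neg,
    show (a * d + b * c ^ D.q) * μ = a * (d * μ) + b * μ * c ^ D.q by ring, map_add D.ρ (a * (d * μ)),
    Matrix.add_mul, map_sub]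
  abel

theorem φ_det {μ : F} (hμ : μ ^ (D.q + 1) = -1) (a b : F) :
    D.φ (Ψ D μ (a, b)).det = a ^ (D.q + 1) + b ^ (D.q + 1) := by
  rw [show b ^ (D.q + 1) = -((b * μ) ^ (D.q + 1)) by rw [mul_pow, hμ]; ring]
  simp only [Ψ]
  generalize b * μ = c
  obtain ⟨⟨x, y⟩, rfl⟩ := D.bij.2 a
  obtain ⟨⟨u, v⟩, rfl⟩ := D.bij.2 c
  simp only
  rw [pow_succ, pow_succ, D.bar, D.bar, D.ρ_apply, D.ρ_apply, Matrix.det_fin_two]
  simp [C0, Matrix.mul_apply, Fin.sum_univ_two]
  linear_combination (D.φ y * D.φ y - D.φ v * D.φ v) * D.sq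

theorem Ψ_injective {μ : F} (hμ0 : μ ≠ 0) : Function.Injective (Ψ D μ) := by
  rintro ⟨a, b⟩ ⟨a', b'⟩ h
  have hz : D.ρ (a - a') + D.ρ ((b - b') * μ) * C0 D = 0 := by
    simp only [Ψ] at h
    rw [sub_mul, map_sub, map_sub, Matrix.sub_mul,
      show D.ρ a - D.ρ a' + (D.ρ (b * μ) * C0 D - D.ρ (b' * μ) * C0 D) =
        (D.ρ a + D.ρ (b * μ) * C0 D) - (D.ρ a' + D.ρ (b' * μ) * C0 D) by abel, h, sub_self]
  obtain ⟨⟨x, y⟩, hx⟩ := D.bij.2 (a - a')
  obtain ⟨⟨u, v⟩, hu⟩ := D.bij.2 ((b - b') * μ)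
  simp only at hx hu
  rw [← hx, ← hu, D.ρ_apply, D.ρ_apply] at hz
  have e00 := congrFun (congrFun hz 0) 0
  have e01 := congrFun (congrFun hz 0) 1
  have e10 := congrFun (congrFun hz 1) 0
  have e11 := congrFun (congrFun hz 1) 1
  simp [C0, Matrix.mul_apply, Fin.sum_univ_two] at e00 e01 e10 e11
  have hd : D.s ^ 2 + 4 * D.t ≠ 0 := by
    intro h0
    have h1 : (D.θ - (D.φ D.s - D.θ)) ^ 2 = D.φ (D.s ^ 2 + 4 * D.t) := by
      simp only [map_add, map_mul, map_pow, map_ofNat]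
      linear_combination 4 * D.sq
    rw [h0, map_zero, sq_eq_zero_iff, sub_eq_zero] at h1
    exact D.barθ h1.symm
  have hy : y = 0 := by
    refine (mul_eq_zero.mp (show y * (D.s ^ 2 + 4 * D.t) = 0 from ?_)).resolve_right hd
    linear_combination D.s * e11 + D.s * e00 + 2 * e01 - (2 * D.s) * e00 + 2 * D.t * e10
  have hx0 : x = 0 := by
    refine (mul_eq_zero.mp (show x * (D.s ^ 2 + 4 * D.t) = 0 from ?_)).resolve_right hd
    subst hy
    have hv : v = 0 := by linear_combination e10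
    subst hv
    linear_combination 2 * D.t * (e00 + e11) - D.s * (e01 - D.s * e00)
  have hu0 : u = 0 := by subst hx0; linear_combination e00
  have hv0 : v = 0 := by subst hy; linear_combination e10
  subst hx0 hy hu0 hv0
  simp only [map_zero, zero_mul, add_zero] at hx hu
  exact Prod.ext (sub_eq_zero.mp hx.symm) (sub_eq_zero.mp ((mul_eq_zero.mp hu.symm).resolve_right hμ0))

variable [Fintype F] [Fintype K]

theorem exists_iso {q : ℕ} (hF : Fintype.card F = q ^ 2) (hK : Fintype.card K = q) :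
    Nonempty (SU 2 F q ≃* Matrix.SpecialLinearGroup (Fin 2) K) := by
  classical
  obtain ⟨E, rfl⟩ := QuadRes.exists_quad hF hK
  obtain ⟨μ, hμ⟩ : ∃ μ : F, μ ^ (E.q + 1) = -1 := by
    have h := natCard_norm_eq hF (t := (-1 : F))
      (by rw [← qFrob_apply hF, map_neg, map_one]) (neg_ne_zero.mpr one_ne_zero)
    have h' : 0 < Nat.card {c : F // c ^ (E.q + 1) = -1} := by omega
    obtain ⟨c⟩ := (Nat.card_pos_iff.mp h').1
    exact ⟨c.1, c.2⟩
  have hμ0 : μ ≠ 0 := by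
    rintro rfl
    rw [zero_pow (Nat.succ_ne_zero _)] at hμ
    exact neg_ne_zero.mpr one_ne_zero hμ.symm
  have hbij : Function.Bijective (Ψ E μ) :=
    (Fintype.bijective_iff_injective_and_card _).mpr ⟨Ψ_injective E hμ0, by
      show Fintype.card (F × F) = Fintype.card (Fin 2 → Fin 2 → K)
      simp [hF, hK]
      ring⟩
  have hfr : ∀ x : F, (x ^ E.q) ^ E.q = x := qFrob_qFrob hF
  have hneg : ∀ x : F, (-x) ^ E.q = -(x ^ E.q) := fun x => map_neg (qFrob hF) x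
  have hadd : ∀ x y : F, (x + y) ^ E.q = x ^ E.q + y ^ E.q := add_pow_q hF
  have h0q : (0 : F) ^ E.q = 0 := map_zero (qFrob hF)
  have shape : ∀ M : SU 2 F E.q, (M.1.1 1 0 = -((M.1.1 0 1) ^ E.q)) ∧ (M.1.1 1 1 = (M.1.1 0 0) ^ E.q) := by
    intro M
    have hd : M.1.1 0 0 * M.1.1 1 1 - M.1.1 0 1 * M.1.1 1 0 = 1 := by
      rw [← Matrix.det_fin_two]; exact M.1.2
    have hp : ∀ u v, hermForm 2 F E.q ((slToMat 2 F M.1) *ᵥ u) ((slToMat 2 F M.1) *ᵥ v) = hermForm 2 F E.q u v := M.2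
    have key : ∀ i j : Fin 2, M.1.1 0 i * (M.1.1 0 j) ^ E.q + M.1.1 1 i * (M.1.1 1 j) ^ E.q =
        if i = j then 1 else 0 := by
      intro i j
      have h := hp (Pi.single i 1) (Pi.single j 1)
      simp [hermForm, Fin.sum_univ_two, Matrix.mulVec_single] at h
      fin_cases i <;> fin_cases j <;> simp [h0q] at h ⊢ <;> exact h
    have k00 := key 0 0
    have k10 := key 1 0
    have k01 := key 0 1
    have k11 := key 1 1
    simp at k00 k10 k01 k11
    constructor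
    · have h1 : M.1.1 1 0 * 1 = M.1.1 1 0 * (M.1.1 0 1 * (M.1.1 0 1) ^ E.q + M.1.1 1 1 * (M.1.1 1 1) ^ E.q) := by
        rw [k11]
      linear_combination h1 + (M.1.1 0 1 ^ E.q) * (-hd) + (M.1.1 1 1) * k01
    · have h1 : M.1.1 1 1 * 1 = M.1.1 1 1 * (M.1.1 0 0 * (M.1.1 0 0) ^ E.q + M.1.1 1 0 * (M.1.1 1 0) ^ E.q) := by
        rw [k00]
      linear_combination h1 + (M.1.1 0 0 ^ E.q) * hd + (M.1.1 1 0) * k10
  have mem : ∀ (a b : F), a ^ (E.q + 1) + b ^ (E.q + 1) = 1 →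
      ∀ N : Matrix.SpecialLinearGroup (Fin 2) F, N.1 = !![a, b; -(b ^ E.q), a ^ E.q] → N ∈ SU 2 F E.q := by
    intro a b h N hN u v
    show hermForm 2 F E.q (N.1 *ᵥ u) (N.1 *ᵥ v) = hermForm 2 F E.q u v
    rw [hN]
    rw [pow_succ, pow_succ] at h
    simp [hermForm, Fin.sum_univ_two, Matrix.mulVec, dotProduct, hadd, mul_pow, hfr, hneg]
    linear_combination (u 0 * v 0 ^ E.q + u 1 * v 1 ^ E.q) * h
  have hdet : ∀ M : SU 2 F E.q, (Ψ E μ (M.1.1 0 0, M.1.1 0 1)).det = 1 := by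
    intro M
    refine E.φ.injective ?_
    rw [φ_det E hμ, map_one, pow_succ, pow_succ]
    have hd : M.1.1 0 0 * M.1.1 1 1 - M.1.1 0 1 * M.1.1 1 0 = 1 := by
      rw [← Matrix.det_fin_two]; exact M.1.2
    rw [(shape M).1, (shape M).2] at hd
    linear_combination hd
  let f : SU 2 F E.q →* Matrix.SpecialLinearGroup (Fin 2) K :=
    { toFun := fun M => ⟨Ψ E μ (M.1.1 0 0, M.1.1 0 1), hdet M⟩
      map_one' := by
        refine Subtype.ext ?_
        simp [Ψ]
      map_mul' := fun M N => by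
        refine Subtype.ext ?_
        show Ψ E μ _ = Ψ E μ _ * Ψ E μ _
        rw [Ψ_mul E hμ]
        congr 1
        simp [Matrix.mul_apply, Fin.sum_univ_two, (shape N).1, (shape N).2]
        ring }
  refine ⟨MulEquiv.ofBijective f ⟨?_, ?_⟩⟩
  · intro M N h
    have h1 := hbij.1 (congrArg Subtype.val h)
    simp only [Prod.mk.injEq] at h1
    refine Subtype.ext (Subtype.ext ?_)
    ext i j
    fin_cases i <;> fin_cases j <;> simp [(shape M).1, (shape M).2, (shape N).1, (shape N).2, h1.1, h1.2]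
  · intro N
    obtain ⟨⟨a, b⟩, hab⟩ := hbij.2 N.1
    have hn : a ^ (E.q + 1) + b ^ (E.q + 1) = 1 := by
      rw [← φ_det E hμ, hab, N.2, map_one]
    refine ⟨⟨⟨!![a, b; -(b ^ E.q), a ^ E.q], by
      rw [Matrix.det_fin_two]; simp; rw [pow_succ, pow_succ] at hn; linear_combination hn⟩, mem a b hn _ rfl⟩, ?_⟩
    refine Subtype.ext ?_
    show Ψ E μ _ = N.1
    simpa using hab

end Cfsg.Agent.Classical.UnitTwo
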