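import Cfsg.Agent.Lib.Classical.UnitTwoGenEmbed

/-!
`SU_n(2)`, `n ≥ 4`, has two generators: transvections times diagonal elements of order three, and cycles.
-/

set_option autoImplicit false
set_option linter.unusedSectionVars false

namespace Cfsg.Agent.Classical.UnitTwoGen

open Matrix Cfsg.Agent.Classical.PSUAut Cfsg.Agent.Fus.UnitN

variable {F : Type*} [Field F] [Fintype F] {n : ℕ}

local notation "V" => (Fin n → F)
local notation "h" => hermForm n F 2
local notation "SUn" => SU n F 2

variable (hF : Fintype.card F = 2 ^ 2)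

/-- The transvection at `v` lies in `G`. -/
def TG (G : Subgroup (SU n F 2)) (v : Fin n → F) : Prop :=
  ∃ H : EOK (q := 2) v 0 1, eSU hF H ∈ G

/-- A diagonal element lies in `G`. -/
def DG (G : Subgroup (SU n F 2)) (d : Fin n → F) : Prop :=
  ∃ g ∈ G, ∀ x : Fin n → F, suVal g *ᵥ x = d * x

include hF

theorem two_eq : (2 : F) = 0 := by
  have h1 := FiniteField.cast_card_eq_zero F
  rw [hF] at h1
  push_cast at h1
  have : (2 : F) * 2 = 0 := by linear_combination h1
  exact mul_self_eq_zero.1 this

theorem cube_eq {a : F} (ha : a ≠ 0) : a ^ 3 = 1 := by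
  have h1 := FiniteField.pow_card_sub_one_eq_one a ha
  rwa [hF] at h1

theorem exists_omega : ∃ ω : F, ω ≠ 0 ∧ ω ≠ 1 ∧ ω ^ 2 + ω + 1 = 0 := by
  classical
  obtain ⟨ω, hω⟩ : ∃ ω : F, ω ∉ ({0, 1} : Finset F) := by
    by_contra hcon
    push Not at hcon
    have h1 := Finset.card_le_card (s := Finset.univ) (t := ({0, 1} : Finset F)) fun x _ => hcon x
    rw [Finset.card_univ, hF] at h1
    have := Finset.card_le_two (a := (0 : F)) (b := 1)
    omega
  simp only [Finset.mem_insert, Finset.mem_singleton, not_or] at hω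
  refine ⟨ω, hω.1, hω.2, ?_⟩
  have h1 : (ω - 1) * (ω ^ 2 + ω + 1) = 0 := by linear_combination cube_eq hF hω.1
  exact (mul_eq_zero.1 h1).resolve_left (sub_ne_zero.2 hω.2)

theorem omega_cases {ω : F} (h0 : ω ≠ 0) (h1 : ω ^ 2 + ω + 1 = 0) (a : F) :
    a = 0 ∨ a = 1 ∨ a = ω ∨ a = ω ^ 2 := by
  by_cases ha : a = 0
  · exact Or.inl ha
  have h2 : (a - 1) * ((a - ω) * (a - ω ^ 2)) = 0 := by
    linear_combination cube_eq hF ha + (-(a ^ 2) + ω * a + (1 - ω)) * h1
  rcases mul_eq_zero.1 h2 with e | e
  · exact Or.inr (Or.inl (sub_eq_zero.1 e))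
  rcases mul_eq_zero.1 e with e | e
  · exact Or.inr (Or.inr (Or.inl (sub_eq_zero.1 e)))
  · exact Or.inr (Or.inr (Or.inr (sub_eq_zero.1 e)))

theorem eok_one {v : V} (hv : h v v = 0) : EOK (q := 2) v 0 1 :=
  ⟨hv, h_zero_left v, by rw [h_zero_left, one_pow]; linear_combination two_eq hF⟩

theorem tv_act {v : V} (H : EOK (q := 2) v 0 1) (x : V) : suVal (eSU hF H) *ᵥ x = x + h x v • v := by
  rw [suVal_eSU, eMat_mulVec, h_zero_right hF]
  simp

variable {G : Subgroup (SU n F 2)}

theorem TG.iso {v : V} : TG hF G v → h v v = 0 := fun ⟨H, _⟩ => H.ee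

theorem TG.map {v : V} (hv : TG hF G v) {g : SU n F 2} (hg : g ∈ G) : TG hF G (suVal g *ᵥ v) := by
  obtain ⟨H, hG⟩ := hv
  refine ⟨eok_one hF (by rw [su_form]; exact H.ee), ?_⟩
  have h1 := mul_mem (mul_mem hg hG) (inv_mem hg)
  rw [eSU_conj hF g H] at h1
  convert h1 using 1
  exact eSU_congr hF _ _ (Matrix.mulVec_zero _).symm rfl

theorem TG.move {v w : V} (hv : TG hF G v) (hw : TG hF G w) : TG hF G (v + h v w • w) := by
  obtain ⟨H, hG⟩ := hw
  rw [← tv_act hF H]
  exact hv.map hF hG

theorem TG.smul {v : V} (hv : TG hF G v) {a : F} (ha : a ≠ 0) : TG hF G (a • v) := by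
  obtain ⟨H, hG⟩ := hv
  refine ⟨eok_one hF (by rw [h_smul_left, h_smul_right hF, H.ee, mul_zero, mul_zero]), ?_⟩
  convert hG using 1
  refine suVal_ext ?_
  rw [suVal_eSU, suVal_eSU, eMat_smul_point hF, smul_zero, mul_one, ← cj_pow hF, ← pow_succ',
    cube_eq hF ha]

theorem h_single (v : V) (i : Fin n) (a : F) : h v (Pi.single i a) = v i * a ^ 2 := by
  classical
  simp [hermForm, Pi.single_apply, apply_ite (· ^ 2)]

/-- The image under the transvection at `y_i + α y_j`. -/
theorem TG.swap {v : V} (hv : TG hF G v) {i j : Fin n} (hij : i ≠ j) {α : F}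
    (hw : TG hF G (Pi.single i 1 + Pi.single j α)) (hα : α ≠ 0) :
    TG hF G (fun k => if k = i then α ^ 2 * v j else if k = j then α * v i else v k) := by
  classical
  have h1 := hv.move hF hw
  convert h1 using 1
  have hh : h v (Pi.single i 1 + Pi.single j α) = v i + v j * α ^ 2 := by
    rw [h_add_right hF, h_single hF, h_single hF, one_pow, mul_one]
  funext k
  rw [hh]
  by_cases hki : k = i
  · subst hki
    simp [hij]
    linear_combination (-(v k)) * two_eq hF
  by_cases hkj : k = j
  · subst hkj
    simp [hij.symm]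
    linear_combination (-(v k)) * two_eq hF - v k * cube_eq hF hα
  · simp [hki, hkj]

theorem support_two {v : V} {a b : Fin n} (hab : a ≠ b) (hv : ∀ k, k ≠ a → k ≠ b → v k = 0) :
    v = Pi.single a (v a) + Pi.single b (v b) := by
  classical
  funext k
  by_cases ha : k = a
  · subst ha; simp [hab]
  by_cases hb : k = b
  · subst hb; simp [hab.symm]
  · simp [ha, hb, hv k ha hb]

/-- All transvections from plain pairs, a twisted pair and one vector of four ones. -/
theorem eq_top_binary (hn : 4 ≤ n) (hA : ∀ i j : Fin n, i ≠ j → TG hF G (Pi.single i 1 + Pi.single j 1))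
    (hB : ∃ (a b : Fin n) (β : F), a ≠ b ∧ β ≠ 0 ∧ β ≠ 1 ∧ TG hF G (Pi.single a 1 + Pi.single b β))
    (hC : ∃ S : Finset (Fin n), S.card = 4 ∧ TG hF G (fun k => if k ∈ S then 1 else 0)) : G = ⊤ := by
  classical
  obtain ⟨ω, hω0, hω1, hω⟩ := exists_omega hF
  obtain ⟨a₀, b₀, β, hab, hβ0, hβ1, hB⟩ := hB
  -- twisted pairs
  have third : ∀ a b : Fin n, ∃ k, k ≠ a ∧ k ≠ b := fun a b => by
    by_contra hcon
    push Not at hcon
    have h1 := Finset.card_le_card (s := Finset.univ) (t := ({a, b} : Finset (Fin n))) fun k _ => by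
      by_cases hk : k = a
      · simp [hk]
      · simp [hcon k hk]
    rw [Finset.card_univ, Fintype.card_fin] at h1
    have := Finset.card_le_two (a := a) (b := b)
    omega
  have right : ∀ a b k : Fin n, a ≠ b → k ≠ a → TG hF G (Pi.single a 1 + Pi.single b β) →
      TG hF G (Pi.single a 1 + Pi.single k β) := by
    intro a b k hab hka hv
    by_cases hkb : k = b
    · rwa [hkb]
    have h1 := hv.swap hF (Ne.symm hkb) (hA b k (Ne.symm hkb)) one_ne_zero
    convert h1 using 1
    funext l
    by_cases hlb : l = b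
    · subst hlb; simp [hab.symm, Ne.symm hkb, hka]
    by_cases hlk : l = k
    · subst hlk; simp [hka, hab.symm, hkb]
    · simp [hlb, hlk]
  have left : ∀ a b k : Fin n, a ≠ b → k ≠ b → TG hF G (Pi.single a 1 + Pi.single b β) →
      TG hF G (Pi.single k 1 + Pi.single b β) := by
    intro a b k hab hkb hv
    by_cases hka : k = a
    · rwa [hka]
    have h1 := hv.swap hF (Ne.symm hka) (hA a k (Ne.symm hka)) one_ne_zero
    convert h1 using 1
    funext l
    by_cases hla : l = a
    · subst hla; simp [hab, Ne.symm hka, hkb]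
    by_cases hlk : l = k
    · subst hlk; simp [hka, hab, hkb]
    · simp [hla, hlk]
  have hBall : ∀ i j : Fin n, i ≠ j → TG hF G (Pi.single i 1 + Pi.single j β) := by
    intro i j hij
    obtain ⟨m, hmj, hmb⟩ := third j b₀
    exact left m j i hmj hij (right m b₀ j hmb hmj.symm (left a₀ b₀ m hab hmb hB))
  have pair : ∀ i j : Fin n, i ≠ j → ∀ a b : F, a ≠ 0 → b ≠ 0 → TG hF G (Pi.single i a + Pi.single j b) := by
    intro i j hij a b ha hb
    have h1 : TG hF G (Pi.single i 1 + Pi.single j (b / a)) := by
      have hc : b / a = 1 ∨ b / a = β ∨ b / a = β⁻¹ := by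
        have hba : b / a ≠ 0 := div_ne_zero hb ha
        rcases omega_cases hF hω0 hω (b / a) with e | e | e | e <;>
          rcases omega_cases hF hω0 hω β with f | f | f | f <;>
          first
          | exact absurd e hba
          | exact absurd f hβ0
          | exact absurd f hβ1
          | exact Or.inl e
          | exact Or.inr (Or.inl (e.trans f.symm))
          | (refine Or.inr (Or.inr ?_); rw [e, f]; refine eq_inv_of_mul_eq_one_left ?_;
             linear_combination cube_eq hF hω0)
      rcases hc with e | e | e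
      · rw [e]; exact hA i j hij
      · rw [e]; exact hBall i j hij
      · have h2 := (hBall j i hij.symm).smul hF (inv_ne_zero hβ0)
        rw [e]
        convert h2 using 1
        rw [smul_add, ← Pi.single_smul, ← Pi.single_smul, smul_eq_mul, smul_eq_mul, mul_one, inv_mul_cancel₀ hβ0,
          add_comm]
    have h2 := h1.smul hF ha
    rwa [smul_add, ← Pi.single_smul, ← Pi.single_smul, smul_eq_mul, smul_eq_mul, mul_one,
      mul_div_cancel₀ _ ha] at h2
  -- monomial moves
  have mon : ∀ v, TG hF G v → ∀ i j : Fin n, i ≠ j → ∀ α : F, α ≠ 0 →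
      TG hF G (fun k => if k = i then α ^ 2 * v j else if k = j then α * v i else v k) :=
    fun v hv i j hij α hα => hv.swap hF hij (pair i j hij 1 α one_ne_zero hα) hα
  have scale : ∀ v, TG hF G v → ∀ i j : Fin n, i ≠ j → ∀ γ : F, γ ≠ 0 →
      TG hF G (fun k => if k = i then γ * v i else if k = j then γ⁻¹ * v j else v k) := by
    intro v hv i j hij γ hγ
    have h1 := mon _ (mon v hv i j hij 1 one_ne_zero) i j hij γ⁻¹ (inv_ne_zero hγ)
    convert h1 using 1
    funext k
    by_cases hki : k = i
    · subst hki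
      have e : (γ⁻¹) ^ 2 = γ := by
        field_simp
        linear_combination -cube_eq hF hγ
      simp [hij, hij.symm, e]
    by_cases hkj : k = j
    · subst hkj; simp [hij, hij.symm]
    · simp [hki, hkj]
  -- four ones anywhere
  obtain ⟨S₀, hS₀, hC⟩ := hC
  have plain : ∀ (d : ℕ) (S : Finset (Fin n)), S.card = 4 → (S \ S₀).card = d →
      TG hF G (fun k => if k ∈ S then 1 else 0) := by
    intro d
    induction d with
    | zero =>
      intro S hS hd
      rw [Finset.card_eq_zero, Finset.sdiff_eq_empty_iff_subset] at hd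
      rw [Finset.eq_of_subset_of_card_le hd (by omega)]; exact hC
    | succ d ih =>
      intro S hS hd
      obtain ⟨j, hj⟩ := Finset.card_pos.1 (by omega : 0 < (S \ S₀).card)
      obtain ⟨i, hi⟩ := Finset.card_pos.1 (by
        have h1 := Finset.card_sdiff_add_card_inter S S₀
        have h2 := Finset.card_sdiff_add_card_inter S₀ S
        rw [Finset.inter_comm] at h2
        omega : 0 < (S₀ \ S).card)
      rw [Finset.mem_sdiff] at hi hj
      have hij : i ≠ j := fun e => hi.2 (e ▸ hj.1)
      set S' := insert i (S.erase j) with hS'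
      have h1 := mon _ (ih S' (by
        rw [hS', Finset.card_insert_of_notMem (fun e => hi.2 (Finset.mem_of_mem_erase e)),
          Finset.card_erase_of_mem hj.1, hS]) (by
        have e1 : S' \ S₀ = (S \ S₀).erase j := by
          ext k
          simp only [hS', Finset.mem_sdiff, Finset.mem_insert, Finset.mem_erase]
          constructor
          · rintro ⟨rfl | ⟨h1, h2⟩, h3⟩
            · exact absurd hi.1 h3
            · exact ⟨h1, h2, h3⟩
          · rintro ⟨h1, h2, h3⟩; exact ⟨Or.inr ⟨h1, h2⟩, h3⟩
        rw [e1, Finset.card_erase_of_mem (Finset.mem_sdiff.2 hj)]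
        omega)) i j hij 1 one_ne_zero
      convert h1 using 1
      funext k
      by_cases hki : k = i
      · subst hki; simp [hS', hi.2, hij]
        intro e; exact absurd e.symm hij
      by_cases hkj : k = j
      · subst hkj; simp [hS', hj.1, hij.symm]
      · simp [hS', hki, hkj]
  have four : ∀ a b c d : Fin n, a ≠ b → a ≠ c → a ≠ d → b ≠ c → b ≠ d → c ≠ d → ∀ x y z w : F,
      x ≠ 0 → y ≠ 0 → z ≠ 0 → w ≠ 0 →
      TG hF G (Pi.single a x + Pi.single b y + Pi.single c z + Pi.single d w) := by
    intro a b c d hab hac had hbc hbd hcd x y z w hx hy hz hw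
    have hcard : ({a, b, c, d} : Finset (Fin n)).card = 4 := by
      simp [hab, hac, had, hbc, hbd, hcd]
    have h0 := plain _ _ hcard rfl
    set t := x * y * z * w
    have ht : t ≠ 0 := mul_ne_zero (mul_ne_zero (mul_ne_zero hx hy) hz) hw
    have h1 := h0.smul hF ht
    have h2 := scale _ h1 a b hab (x / t) (div_ne_zero hx ht)
    have h3 := scale _ h2 b c hbc (y / (t * t / x)) (div_ne_zero hy (div_ne_zero (mul_ne_zero ht ht) hx))
    have h4 := scale _ h3 c d hcd (z / (t * t * t / (x * y)))
      (div_ne_zero hz (div_ne_zero (mul_ne_zero (mul_ne_zero ht ht) ht) (mul_ne_zero hx hy)))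
    convert h4 using 1
    funext k
    have h3t := cube_eq hF ht
    by_cases hka : k = a
    · subst hka; simp [hab, hac, had]; field_simp
    by_cases hkb : k = b
    · subst hkb; simp [hab.symm, hbc, hbd]; field_simp
    by_cases hkc : k = c
    · subst hkc; simp [hac.symm, hbc.symm, hcd]; field_simp
    by_cases hkd : k = d
    · subst hkd; simp [had.symm, hbd.symm, hcd.symm]; field_simp
      linear_combination (-t) * h3t
    · simp [hka, hkb, hkc, hkd]
  -- all isotropic vectors
  have all : ∀ (N : ℕ) (v : V), (Finset.univ.filter fun k => v k ≠ 0).card = N → h v v = 0 → N ≠ 0 →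
      TG hF G v := by
    intro N
    induction N using Nat.strong_induction_on with
    | _ N ih =>
      intro v hN hvv hN0
      set S := Finset.univ.filter fun k => v k ≠ 0
      have hpar : (N : F) = 0 := by
        have h1 : h v v = (S.card : F) := by
          rw [Finset.cast_card, hermForm, Finset.sum_filter]
          refine Finset.sum_congr rfl fun k _ => ?_
          by_cases hk : v k = 0
          · simp [hk]
          · rw [if_pos hk, ← pow_succ', cube_eq hF hk]
        rw [← hN, ← h1, hvv]
      have hev : Even N := by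
        haveI : CharP F 2 := CharTwo.of_one_ne_zero_of_two_eq_zero one_ne_zero (two_eq hF)
        exact even_iff_two_dvd.2 ((CharP.cast_eq_zero_iff F 2 N).1 hpar)
      by_cases h2 : N = 2
      · obtain ⟨a, b, hab, hS⟩ := Finset.card_eq_two.1 (hN.trans h2)
        have hz : ∀ k, k ≠ a → k ≠ b → v k = 0 := fun k hka hkb => by
          by_contra hk
          have : k ∈ S := Finset.mem_filter.2 ⟨Finset.mem_univ _, hk⟩
          rw [hS] at this; simp [hka, hkb] at this
        have ha : v a ≠ 0 := (Finset.mem_filter.1 (by rw [hS]; simp : a ∈ S)).2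
        have hb : v b ≠ 0 := (Finset.mem_filter.1 (by rw [hS]; simp : b ∈ S)).2
        rw [support_two hF hab hz]
        exact pair a b hab _ _ ha hb
      have h4 : 4 ≤ N := by obtain ⟨r, hr⟩ := hev; omega
      obtain ⟨T, hTS, hT⟩ := Finset.exists_subset_card_eq (s := S) (n := 4) (by omega)
      obtain ⟨a, T', haT, rfl, hT'⟩ := Finset.card_eq_succ.1 hT
      obtain ⟨b, c, d, hbc, hbd, hcd, rfl⟩ := Finset.card_eq_three.1 hT'
      simp only [Finset.mem_insert, Finset.mem_singleton, not_or] at haT
      obtain ⟨hab, hac, had⟩ := haT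
      have hm : ∀ k ∈ ({a, b, c, d} : Finset (Fin n)), v k ≠ 0 := fun k hk =>
        (Finset.mem_filter.1 (hTS hk)).2
      have ha := hm a (by simp)
      have hb := hm b (by simp)
      have hc := hm c (by simp)
      have hd := hm d (by simp)
      set w : V := Pi.single a (v a) + Pi.single b (v b) + Pi.single c (ω * v c) + Pi.single d (ω ^ 2 * v d)
      have hw : TG hF G w := four a b c d hab hac had hbc hbd hcd _ _ _ _ ha hb (mul_ne_zero hω0 hc)
        (mul_ne_zero (pow_ne_zero _ hω0) hd)
      have hvw : h v w = 1 := by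
        simp only [w, h_add_right hF, h_single hF]
        linear_combination cube_eq hF ha + cube_eq hF hb + ω ^ 2 * cube_eq hF hc + ω ^ 4 * cube_eq hF hd +
          (ω ^ 2 - ω + 1) * hω + (1 - ω ^ 4 + ω ^ 4) * two_eq hF - 2 * two_eq hF + two_eq hF
      set v' := v + w
      have hsub : (Finset.univ.filter fun k => v' k ≠ 0) ⊆ (S.erase a).erase b := fun k hk => by
        simp only [Finset.mem_filter, Finset.mem_univ, true_and] at hk
        simp only [S, Finset.mem_erase, Finset.mem_filter, Finset.mem_univ, true_and]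
        refine ⟨?_, ?_, ?_⟩
        · rintro rfl
          apply hk
          simp [v', w, Ne.symm hab, hbc, hbd]
          linear_combination (v k) * two_eq hF
        · rintro rfl
          apply hk
          simp [v', w, hab, hac, had]
          linear_combination (v k) * two_eq hF
        · intro hk0
          apply hk
          have hka : k ≠ a := fun e => ha (e ▸ hk0)
          have hkb : k ≠ b := fun e => hb (e ▸ hk0)
          have hkc : k ≠ c := fun e => hc (e ▸ hk0)
          have hkd : k ≠ d := fun e => hd (e ▸ hk0)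
          simp [v', w, hk0, hka, hkb, hkc, hkd]
      have hsup : c ∈ Finset.univ.filter fun k => v' k ≠ 0 := by
        simp [v', w, Ne.symm hac, hbc.symm, hcd]
        intro h0
        have h1 : (ω + 1) * v c = 0 := by linear_combination h0
        exact (mul_ne_zero (fun e => hω1 (by linear_combination e - two_eq hF)) hc) h1
      have hlt : (Finset.univ.filter fun k => v' k ≠ 0).card < N := by
        refine lt_of_le_of_lt (Finset.card_le_card hsub) ?_
        refine lt_of_le_of_lt Finset.card_erase_le ?_
        rw [← hN]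
        exact Finset.card_erase_lt_of_mem (Finset.mem_filter.2 ⟨Finset.mem_univ _, ha⟩)
      have hv'v' : h v' v' = 0 := by
        have hwv : h w v = 1 := by rw [← cj_h hF, hvw, map_one]
        simp only [v', h_add_left, h_add_right hF, hvv, hw.iso hF, hvw, hwv]
        linear_combination two_eq hF
      have hv' := ih _ hlt v' rfl hv'v' (Finset.card_pos.2 ⟨c, hsup⟩).ne'
      have h5 := hv'.move hF hw
      have h6 : h v' w = 1 := by rw [h_add_left, hvw, hw.iso hF, add_zero]
      rw [h6, one_smul] at h5
      convert h5 using 1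
      funext k
      simp [v']
      linear_combination (-(w k)) * two_eq hF
  refine top_of_transvections hF (by omega) (by omega) fun v c H => ?_
  rcases eq_or_ne c 0 with rfl | hc
  · rw [show eSU hF H = 1 from suVal_ext (Matrix.ext_iff_mulVec.2 fun y => by
      rw [suVal_eSU, eMat_mulVec, suVal_one', Matrix.one_mulVec]; simp [h_zero_right hF])]
    exact one_mem _
  have hc1 : c = 1 := by
    have h1 := H.cc
    rw [h_zero_left, add_zero] at h1
    have h2 : c * (c + 1) = 0 := by linear_combination h1
    linear_combination (mul_eq_zero.1 h2).resolve_left hc - two_eq hF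
  subst hc1
  rcases eq_or_ne v 0 with rfl | hv
  · rw [show eSU hF H = 1 from suVal_ext (Matrix.ext_iff_mulVec.2 fun y => by
      rw [suVal_eSU, eMat_mulVec, suVal_one', Matrix.one_mulVec]; simp [h_zero_right hF])]
    exact one_mem _
  obtain ⟨H', h'⟩ := all _ v rfl H.ee (by
    intro h0
    refine hv (funext fun k => ?_)
    by_contra hk
    exact absurd (Finset.mem_filter.2 ⟨Finset.mem_univ k, hk⟩) (Finset.card_eq_zero.1 h0 ▸ Finset.notMem_empty k))
  exact h'

/-- A diagonal element. -/
theorem exists_diag (d : V) (hd : ∀ i, d i ≠ 0) (hp : ∏ i, d i = 1) :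
    ∃ g : SU n F 2, ∀ x : V, suVal g *ᵥ x = d * x := by
  refine ⟨⟨⟨Matrix.diagonal d, by rw [Matrix.det_diagonal, hp]⟩, fun x y => ?_⟩, fun x => ?_⟩
  · show h (Matrix.diagonal d *ᵥ x) (Matrix.diagonal d *ᵥ y) = h x y
    refine Finset.sum_congr rfl fun i _ => ?_
    rw [Matrix.mulVec_diagonal, Matrix.mulVec_diagonal]
    linear_combination (x i * y i ^ 2) * cube_eq hF (hd i)
  · funext i; exact Matrix.mulVec_diagonal d x i

/-- A permutation. -/
theorem exists_perm (σ : Equiv.Perm (Fin n)) : ∃ g : SU n F 2, ∀ x : V, suVal g *ᵥ x = x ∘ σ := by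
  refine ⟨⟨⟨σ.permMatrix F, ?_⟩, fun x y => ?_⟩, fun x => Matrix.permMatrix_mulVec σ⟩
  · rw [Matrix.det_permutation]
    rcases Int.units_eq_one_or (Equiv.Perm.sign σ) with e | e <;> rw [e] <;> simp
    linear_combination -(two_eq hF)
  · show h (σ.permMatrix F *ᵥ x) (σ.permMatrix F *ᵥ y) = h x y
    rw [Matrix.permMatrix_mulVec, Matrix.permMatrix_mulVec]
    exact Equiv.sum_comp σ fun i => x i * y i ^ 2

/-- Commuting elements of orders two and three are powers of their product. -/
theorem split_pow {g t d : SU n F 2} (hg : g = t * d) (hc : Commute t d) (ht : t ^ 2 = 1) (hd : d ^ 3 = 1)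
    (hG : g ∈ G) : t ∈ G ∧ d ∈ G := by
  subst hg
  constructor
  · have h1 := pow_mem hG 3
    rwa [hc.mul_pow, hd, mul_one, pow_succ, ht, one_mul] at h1
  · have h1 := pow_mem hG 4
    rwa [hc.mul_pow, show t ^ 4 = (t ^ 2) ^ 2 by rw [← pow_mul], ht, one_pow, one_mul, pow_succ, hd, one_mul] at h1

theorem tv_sq {v : V} (H : EOK (q := 2) v 0 1) : eSU hF H ^ 2 = 1 := by
  refine su_ext fun x => ?_
  rw [pow_two, mulVec_mul, tv_act hF, tv_act hF, suVal_one', Matrix.one_mulVec, h_add_left, h_smul_left, H.ee,
    mul_zero, add_zero]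
  funext i
  simp
  linear_combination (h x v * v i) * two_eq hF

end Cfsg.Agent.Classical.UnitTwoGen
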