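import Cfsg.Agent.Lib.Classical.UnitTwoGenBinary

/-!
The two generators of `SU_n(2)`.
-/

set_option autoImplicit false
set_option linter.unusedSectionVars false

namespace Cfsg.Agent.Classical.UnitTwoGen

open Matrix Cfsg.Agent.Classical.PSUAut Cfsg.Agent.Fus.UnitN

variable {F : Type*} [Field F] [Fintype F] {n : ℕ}

local notation "V" => (Fin n → F)
local notation "h" => hermForm n F 2

variable (hF : Fintype.card F = 2 ^ 2)
include hF

theorem h_pair (i j : Fin n) (hij : i ≠ j) (β : F) (hβ : β ≠ 0) :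
    h (Pi.single i 1 + Pi.single j β) (Pi.single i 1 + Pi.single j β) = 0 := by
  classical
  rw [h_add_right hF, h_single hF, h_single hF]
  simp [hij, hij.symm]
  linear_combination cube_eq hF hβ + two_eq hF

theorem h_four (S : Finset (Fin n)) (hS : S.card = 4) :
    h (fun k => if k ∈ S then (1 : F) else 0) (fun k => if k ∈ S then (1 : F) else 0) = 0 := by
  classical
  simp [hermForm, ite_pow, hS]
  linear_combination 2 * two_eq hF

variable {G : Subgroup (SU n F 2)}

theorem DG.mul {d d' : V} : DG G d → DG G d' → DG G (d * d')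
  | ⟨g, hg, hgx⟩, ⟨g', hg', hgx'⟩ => ⟨g * g', mul_mem hg hg', fun x => by
    rw [mulVec_mul, hgx', hgx, mul_assoc]⟩

theorem DG.map_TG {d v : V} (hd : DG G d) (hv : TG hF G v) : TG hF G (d * v) := by
  obtain ⟨g, hg, hgx⟩ := hd
  rw [← hgx]; exact hv.map hF hg

theorem DG.conj {d : V} (hd : DG G d) {σ : Equiv.Perm (Fin n)} {g : SU n F 2} (hg : g ∈ G)
    (hgx : ∀ x : V, suVal g *ᵥ x = x ∘ σ) : DG G (d ∘ σ) := by
  obtain ⟨t, ht, htx⟩ := hd
  refine ⟨g * t * g⁻¹, mul_mem (mul_mem hg ht) (inv_mem hg), fun x => ?_⟩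
  rw [mulVec_mul, mulVec_mul, htx, hgx]
  have h2 : suVal g⁻¹ *ᵥ x = x ∘ σ.symm := by
    conv_lhs => rw [show x = suVal g *ᵥ (x ∘ σ.symm) by rw [hgx]; funext i; simp]
    exact (inv_apply g _).1
  rw [h2]
  funext i; simp

theorem DG.pairSwap {d : V} (hd : DG G d) {a b : Fin n} (hab : a ≠ b)
    (hv : TG hF G (Pi.single a 1 + Pi.single b 1)) : DG G (d ∘ Equiv.swap a b) := by
  classical
  obtain ⟨H, hG⟩ := hv
  refine DG.conj hF hd hG fun x => ?_
  rw [tv_act hF H, h_add_right hF, h_single hF, h_single hF]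
  funext k
  by_cases hka : k = a
  · subst hka
    simp [hab]
    linear_combination (x k) * two_eq hF
  by_cases hkb : k = b
  · subst hkb
    simp [hka]
    linear_combination (x k) * two_eq hF
  · simp [hka, hkb, Equiv.swap_apply_of_ne_of_ne hka hkb]

theorem two_generated_four (hn : n = 4) :
    ∃ a b : SU n F 2, Subgroup.closure ({a, b} : Set (SU n F 2)) = ⊤ := by
  classical
  subst hn
  obtain ⟨ω, hω0, hω1, hω⟩ := exists_omega hF
  obtain ⟨D, hD⟩ := exists_diag hF (![ω, ω, ω, 1] : Fin 4 → F) (fun i => by fin_cases i <;> simp [hω0])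
    (by simp [Fin.prod_univ_four]; linear_combination cube_eq hF hω0)
  let σ : Equiv.Perm (Fin 4) := Equiv.swap 1 2 * Equiv.swap 2 3
  obtain ⟨C, hC⟩ := exists_perm hF σ
  have H2 := eok_one hF (h_pair hF (0 : Fin 4) 1 (by decide) 1 one_ne_zero)
  have H4 := eok_one hF (h_four hF (Finset.univ : Finset (Fin 4)) rfl)
  set t₂ := eSU hF H2
  set t₄ := eSU hF H4
  refine ⟨t₂ * D, t₄ * C, ?_⟩
  set G := Subgroup.closure ({t₂ * D, t₄ * C} : Set (SU 4 F 2))
  have hD3 : D ^ 3 = 1 := su_ext fun x => by
    rw [pow_succ, pow_two, mulVec_mul, mulVec_mul, hD, hD, hD, suVal_one', Matrix.one_mulVec]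
    funext i
    fin_cases i <;> simp
    all_goals linear_combination (x _) * cube_eq hF hω0
  have hC3 : C ^ 3 = 1 := su_ext fun x => by
    rw [pow_succ, pow_two, mulVec_mul, mulVec_mul, hC, hC, hC, suVal_one', Matrix.one_mulVec]
    funext i
    simp only [Function.comp_apply]
    congr 1
    revert i
    decide
  have hc2 : Commute t₂ D := by
    refine su_ext fun x => ?_
    rw [mulVec_mul, mulVec_mul, tv_act hF H2, tv_act hF H2, hD, hD, h_add_right hF, h_single hF, h_single hF,
      h_add_right hF, h_single hF, h_single hF]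
    funext i
    fin_cases i <;> simp <;> ring
  have hc4 : Commute t₄ C := by
    refine su_ext fun x => ?_
    rw [mulVec_mul, mulVec_mul, tv_act hF H4, tv_act hF H4, hC, hC]
    have e : hermForm 4 F 2 (x ∘ σ) (fun k => if k ∈ (Finset.univ : Finset (Fin 4)) then (1 : F) else 0) =
        hermForm 4 F 2 x (fun k => if k ∈ (Finset.univ : Finset (Fin 4)) then (1 : F) else 0) := by
      simp [hermForm]
      exact Equiv.sum_comp σ x
    rw [e]
    funext i; simp
  obtain ⟨m2, mD⟩ := split_pow hF (G := G) rfl hc2 (tv_sq hF H2) hD3 (Subgroup.subset_closure (Or.inl rfl))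
  obtain ⟨m4, mC⟩ := split_pow hF (G := G) rfl hc4 (tv_sq hF H4) hC3 (Subgroup.subset_closure (Or.inr rfl))
  have p01 : TG hF G (Pi.single (0 : Fin 4) 1 + Pi.single 1 1) := ⟨H2, m2⟩
  have step : ∀ j : Fin 4, TG hF G (Pi.single (0 : Fin 4) 1 + Pi.single j 1) →
      TG hF G (Pi.single (0 : Fin 4) 1 + Pi.single (σ.symm j) 1) := fun j hj => by
    have h1 := hj.map hF mC
    rw [hC] at h1
    convert h1 using 1
    funext k
    simp only [Pi.add_apply, Function.comp_apply, Pi.single_apply]
    fin_cases k <;> fin_cases j <;> rfl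
  have p03 : TG hF G (Pi.single (0 : Fin 4) 1 + Pi.single (σ.symm 1) 1) := step 1 p01
  have p02 := step _ p03
  have e3 : σ.symm 1 = 3 := by decide
  have e2 : σ.symm (σ.symm 1) = 2 := by decide
  rw [e2] at p02
  rw [e3] at p03
  have star : ∀ j : Fin 4, j ≠ 0 → TG hF G (Pi.single (0 : Fin 4) 1 + Pi.single j 1) := by
    intro j hj
    fin_cases j
    · exact absurd rfl hj
    · exact p01
    · exact p02
    · exact p03
  refine eq_top_binary hF le_rfl (fun i j hij => ?_) ⟨0, 3, ω⁻¹, by decide, inv_ne_zero hω0, by simpa using hω1, ?_⟩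
    ⟨Finset.univ, rfl, H4, m4⟩
  · by_cases hi : i = 0
    · subst hi; exact star j (Ne.symm hij)
    by_cases hj : j = 0
    · subst hj; rw [add_comm]; exact star i hi
    have h1 := (star i hi).move hF (star j hj)
    rw [h_add_right hF, h_single hF, h_single hF] at h1
    convert h1 using 1
    funext k
    by_cases hk : k = 0
    · subst hk; simp [hij, hij.symm, hi, hj, Ne.symm hi, Ne.symm hj]; linear_combination -(two_eq hF)
    · simp [hij, hij.symm, hi, hj, hk, Ne.symm hi, Ne.symm hj]
  · have h1 := (DG.map_TG hF ⟨D, mD, hD⟩ p03).smul hF (inv_ne_zero hω0)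
    convert h1 using 1
    funext k
    fin_cases k <;> simp [hω0]

/-- Rotation by `m`. -/
theorem DG.shift {d : V} (hd : DG G d) {C : SU n F 2} (hC : C ∈ G) {σ : Equiv.Perm (Fin n)}
    (hCx : ∀ x : V, suVal C *ᵥ x = x ∘ σ) (m : ℕ) : DG G (d ∘ (σ ^ m : Equiv.Perm (Fin n))) := by
  induction m with
  | zero => simpa using hd
  | succ m ih => rw [pow_succ, Equiv.Perm.coe_mul, ← Function.comp_assoc]; exact DG.conj hF ih hC hCx

theorem two_generated_large {k : ℕ} (hn : n = k + 5) :
    ∃ a b : SU n F 2, Subgroup.closure ({a, b} : Set (SU n F 2)) = ⊤ := by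
  classical
  subst hn
  obtain ⟨ω, hω0, hω1, hω⟩ := exists_omega hF
  have c3 := cube_eq hF hω0
  let d : Fin (k + 5) → F := fun i => if (i : ℕ) < 4 then ω else if (i : ℕ) = 4 then ω ^ 2 else 1
  have hd0 : ∀ i, d i ≠ 0 := fun i => by simp only [d]; split_ifs <;> simp [hω0]
  obtain ⟨D, hD⟩ := exists_diag hF d hd0 (by
    rw [Fin.prod_univ_succ, Fin.prod_univ_succ, Fin.prod_univ_succ, Fin.prod_univ_succ, Fin.prod_univ_succ,
      Finset.prod_eq_one fun i _ => ?_]
    · simp only [d, Fin.val_succ, Fin.val_zero]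
      norm_num
      linear_combination (ω ^ 3 + 1) * c3
    · simp only [d, Fin.val_succ]
      rw [if_neg (by omega), if_neg (by omega)])
  obtain ⟨C, hC⟩ := exists_perm hF (finRotate (k + 5)).symm
  let S : Finset (Fin (k + 5)) := Finset.univ.filter fun i => (i : ℕ) < 4
  have hS : S.card = 4 := by
    rw [show S = (Finset.univ : Finset (Fin 4)).map (Fin.castLEEmb (by omega : 4 ≤ k + 5)) from ?_]
    · simp
    ext i
    simp only [S, Finset.mem_filter, Finset.mem_map, Finset.mem_univ, true_and]
    exact ⟨fun hi => ⟨⟨i, hi⟩, Fin.ext rfl⟩, fun ⟨a, ha⟩ => ha ▸ a.2⟩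
  have H4 := eok_one hF (h_four hF S hS)
  set v₀ : Fin (k + 5) → F := fun l => if l ∈ S then 1 else 0 with hv₀
  have hmem : ∀ i, i ∈ S ↔ (i : ℕ) < 4 := fun i => by simp [S]
  set t₄ := eSU hF H4
  refine ⟨t₄ * D, C, ?_⟩
  set G := Subgroup.closure ({t₄ * D, C} : Set (SU (k + 5) F 2))
  have hD3 : D ^ 3 = 1 := su_ext fun x => by
    rw [pow_succ, pow_two, mulVec_mul, mulVec_mul, hD, hD, hD, suVal_one', Matrix.one_mulVec]
    funext i
    simp only [Pi.mul_apply]
    linear_combination (x i) * cube_eq hF (hd0 i)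
  have hdv : d * v₀ = ω • v₀ := by
    funext i
    simp only [Pi.mul_apply, Pi.smul_apply, smul_eq_mul, d, v₀, hmem]
    split_ifs <;> simp
  have hc4 : Commute t₄ D := by
    refine su_ext fun x => ?_
    rw [mulVec_mul, mulVec_mul, tv_act hF H4, tv_act hF H4, hD, hD]
    have e : hermForm (k + 5) F 2 (d * x) v₀ = ω * hermForm (k + 5) F 2 x v₀ := by
      simp only [hermForm, Finset.mul_sum]
      refine Finset.sum_congr rfl fun i _ => ?_
      simp only [Pi.mul_apply, d, v₀, hmem]
      split_ifs <;> simp <;> ring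
    rw [e, mul_add, mul_smul_comm, hdv, smul_smul, mul_comm (hermForm _ _ _ x v₀) ω]
  obtain ⟨m4, mD⟩ := split_pow hF (G := G) rfl hc4 (tv_sq hF H4) hD3 (Subgroup.subset_closure (Or.inl rfl))
  have mC : C ∈ G := Subgroup.subset_closure (Or.inr rfl)
  have hv : TG hF G v₀ := ⟨H4, m4⟩
  have hd : DG G d := ⟨D, mD, hD⟩
  -- indices
  let p : ℕ → Fin (k + 5) := fun i => ⟨i % (k + 5), Nat.mod_lt _ (by omega)⟩
  have hrot : ∀ i, (finRotate (k + 5)).symm (p (i + 1)) = p i := fun i => by
    rw [Equiv.symm_apply_eq, finRotate_succ_apply]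
    exact Fin.ext (by simp [p, Fin.val_add, Nat.add_mod])
  have hrot' : ∀ i, (finRotate (k + 5)) (p i) = p (i + 1) := fun i => by
    rw [← hrot i, Equiv.apply_symm_apply]
  have pne : ∀ i j, i < j → j < i + (k + 5) → p i ≠ p j := fun i j h1 h2 e => by
    have e' := congrArg Fin.val e
    simp only [p] at e'
    have h3 := (Nat.sub_mod_eq_zero_of_mod_eq e'.symm)
    rw [Nat.mod_eq_of_lt (by omega)] at h3
    omega
  have hsingle : ∀ i, suVal C *ᵥ (Pi.single (p i) (1 : F) : Fin (k + 5) → F) = Pi.single (p (i + 1)) 1 := fun i => by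
    rw [hC]
    funext l
    simp only [Function.comp_apply, Pi.single_apply, Equiv.symm_apply_eq, hrot']
  have hshift : ∀ (a b : ℕ) (β : F) (m : ℕ), TG hF G (Pi.single (p a) 1 + Pi.single (p b) β) →
      TG hF G (Pi.single (p (a + m)) 1 + Pi.single (p (b + m)) β) := by
    intro a b β m h0
    induction m with
    | zero => exact h0
    | succ m ih =>
      have h1 := ih.map hF mC
      rw [Matrix.mulVec_add, hsingle, show (Pi.single (p (b + m)) β : Fin (k + 5) → F) =
        β • Pi.single (p (b + m)) 1 by rw [← Pi.single_smul, smul_eq_mul, mul_one], Matrix.mulVec_smul, hsingle,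
        ← Pi.single_smul, smul_eq_mul, mul_one] at h1
      exact h1
  -- step four
  have e04 : TG hF G (Pi.single (p 0) 1 + Pi.single (p 4) 1) := by
    have h1 := hv.map hF mC
    rw [hC] at h1
    have h2 := hv.move hF h1
    have hcv : ∀ i : Fin (k + 5), (v₀ ∘ (finRotate (k + 5)).symm) i = if 1 ≤ (i : ℕ) ∧ (i : ℕ) < 5 then 1 else 0 := by
      intro i
      simp only [Function.comp_apply, v₀, hmem]
      refine if_congr ?_ rfl rfl
      obtain ⟨j, rfl⟩ := (finRotate (k + 5)).surjective i
      rw [Equiv.symm_apply_apply]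
      rcases eq_or_ne j (Fin.last (k + 4)) with rfl | hj
      · rw [finRotate_last]; simp
      · rw [coe_finRotate_of_ne_last hj]; omega
    have hh : hermForm (k + 5) F 2 v₀ (v₀ ∘ (finRotate (k + 5)).symm) = 1 := by
      simp only [hermForm, hcv]
      simp only [v₀, hmem]
      rw [Fin.sum_univ_succ, Fin.sum_univ_succ, Fin.sum_univ_succ, Fin.sum_univ_succ,
        Finset.sum_eq_zero fun i _ => ?_]
      · simp only [Fin.val_succ, Fin.val_zero]
        norm_num
        linear_combination two_eq hF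
      · simp only [Fin.val_succ]
        rw [if_neg (by omega)]; simp
    rw [hh, one_smul] at h2
    convert h2 using 1
    funext i
    rw [Pi.add_apply, Pi.add_apply, hcv]
    simp only [Pi.single_apply, p, Fin.ext_iff, v₀, hmem]
    rw [Nat.mod_eq_of_lt (by omega), Nat.mod_eq_of_lt (by omega)]
    split_ifs <;> first
      | omega
      | (simp; done)
      | linear_combination (-1 : F) * two_eq hF
  -- the adjacent diagonal element
  have hE := (DG.pairSwap hF hd (pne 0 4 (by omega) (by omega)) e04).mul hF (hd.mul hF hd)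
  have hU := hd.mul hF ((DG.conj hF hd mC hC).mul hF (DG.conj hF hd mC hC))
  obtain ⟨P, hP, hPv⟩ : ∃ P, DG G P ∧ ∀ i : Fin (k + 5),
      P i = if i = p 4 then ω ^ 2 else if i = p 5 then ω else 1 := by
    rcases Nat.eq_zero_or_pos k with rfl | hk
    · refine ⟨_, hU.mul hF hU, fun i => ?_⟩
      fin_cases i <;> simp [p, d, Fin.ext_iff, finRotate_succ_apply] <;> ring_nf <;>
        first | linear_combination (ω ^ 3 + 1) * c3 | linear_combination (ω ^ 7 + ω ^ 4 + ω) * c3 | linear_combination (ω ^ 5 + ω ^ 2) * c3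
    · refine ⟨_, hU.mul hF (hE.mul hF hE), fun i => ?_⟩
      have hs : ((finRotate (k + 5)).symm i : ℕ) = if (i : ℕ) = 0 then k + 4 else (i : ℕ) - 1 := by
        obtain ⟨j, rfl⟩ := (finRotate (k + 5)).surjective i
        rw [Equiv.symm_apply_apply]
        rcases eq_or_ne j (Fin.last (k + 4)) with rfl | hj
        · rw [finRotate_last]; simp
        · rw [coe_finRotate_of_ne_last hj, if_neg (by omega)]; omega
      simp only [Pi.mul_apply, Function.comp_apply]
      rcases eq_or_ne i (p 0) with rfl | h0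
      · rw [Equiv.swap_apply_left]
        simp only [d]
        rw [hs]
        simp only [p, Fin.ext_iff, Nat.zero_mod, Nat.mod_eq_of_lt (show 4 < k + 5 by omega),
          Nat.mod_eq_of_lt (show 5 < k + 5 by omega)]
        simp [show ¬k + 4 < 4 by omega, show k ≠ 0 by omega]
        linear_combination (ω ^ 6 + ω ^ 3 + 1) * c3
      rcases eq_or_ne i (p 4) with rfl | h4
      · rw [Equiv.swap_apply_right]
        simp only [d]
        rw [hs]
        simp only [p, Fin.ext_iff, Nat.zero_mod, Nat.mod_eq_of_lt (show 4 < k + 5 by omega),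
          Nat.mod_eq_of_lt (show 5 < k + 5 by omega)]
        simp
        linear_combination (ω ^ 11 + ω ^ 8 + ω ^ 5 + ω ^ 2) * c3
      rw [Equiv.swap_apply_of_ne_of_ne h0 h4]
      simp only [d]
      rw [hs]
      simp only [p, Fin.ext_iff, Ne] at h0 h4 ⊢
      simp only [Nat.zero_mod, Nat.mod_eq_of_lt (show 4 < k + 5 by omega),
        Nat.mod_eq_of_lt (show 5 < k + 5 by omega)] at h0 h4 ⊢
      split_ifs <;> first
        | omega
        | linear_combination (ω ^ 6 + ω ^ 3 + 1) * c3
        | linear_combination (ω ^ 4 + ω) * c3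
        | (simp; done)
        | linear_combination (ω ^ 9 + ω ^ 6 + ω ^ 3 + 1) * c3
        | linear_combination (ω ^ 7 + ω ^ 4 + ω) * c3
        | linear_combination ω * c3
  -- the twisted pair and the plain one at (2, 3)
  have hsh := hP.shift hF mC hC (k + 3)
  have hpow : ∀ (m i : ℕ), ((finRotate (k + 5)).symm ^ m : Equiv.Perm (Fin (k + 5))) (p (i + m)) = p i := by
    intro m
    induction m with
    | zero => simp
    | succ m ih => intro i; rw [pow_succ, Equiv.Perm.mul_apply, ← add_assoc, hrot, ih]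
  set P' : Fin (k + 5) → F := P ∘ ((finRotate (k + 5)).symm ^ (k + 3) : Equiv.Perm (Fin (k + 5)))
  have hp : ∀ i : Fin (k + 5), P' i = if i = p 2 then ω ^ 2 else if i = p 3 then ω else 1 := fun i => by
    have e2 : p 2 = p (4 + (k + 3)) := Fin.ext (by simp only [p]; rw [show 4 + (k + 3) = 2 + (k + 5) by ring, Nat.add_mod_right])
    have e3 : p 3 = p (5 + (k + 3)) := Fin.ext (by simp only [p]; rw [show 5 + (k + 3) = 3 + (k + 5) by ring, Nat.add_mod_right])
    simp only [P', Function.comp_apply, hPv]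
    refine if_congr ?_ rfl (if_congr ?_ rfl rfl)
    · rw [e2, ← hpow (k + 3) 4, EmbeddingLike.apply_eq_iff_eq]
    · rw [e3, ← hpow (k + 3) 5, EmbeddingLike.apply_eq_iff_eq]
  have hw := DG.map_TG hF hsh hv
  have h23 : TG hF G (Pi.single (p 2) 1 + Pi.single (p 3) ω) := by
    have h1 := hw.move hF hv
    have hh : hermForm (k + 5) F 2 (P' * v₀) v₀ = 1 := by
      simp only [hermForm, Pi.mul_apply, hp, v₀, hmem]
      rw [Fin.sum_univ_succ, Fin.sum_univ_succ, Fin.sum_univ_succ, Fin.sum_univ_succ,
        Finset.sum_eq_zero fun i _ => ?_]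
      · simp [p, Fin.ext_iff, Nat.mod_eq_of_lt]
        linear_combination hω
      · simp
    rw [hh, one_smul] at h1
    have h2 := h1.smul hF (inv_ne_zero hω0)
    convert h2 using 1
    funext i
    simp only [Pi.add_apply, Pi.smul_apply, smul_eq_mul, Pi.mul_apply, hp, v₀, hmem, Pi.single_apply, p, Fin.ext_iff]
    rw [Nat.mod_eq_of_lt (by omega), Nat.mod_eq_of_lt (by omega)]
    split_ifs <;> first
      | omega
      | (field_simp; linear_combination -hω + ω * two_eq hF)
      | (field_simp; linear_combination -hω)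
      | (field_simp; linear_combination (-1 : F) * two_eq hF)
      | (field_simp; linear_combination hω - (ω + 1) * two_eq hF)
      | (simp; done)
  have h23' : TG hF G (Pi.single (p 2) 1 + Pi.single (p 3) 1) := by
    have h1 := (DG.map_TG hF hsh h23).smul hF (inv_ne_zero (pow_ne_zero 2 hω0))
    convert h1 using 1
    funext i
    simp only [Pi.add_apply, Pi.smul_apply, smul_eq_mul, Pi.mul_apply, hp, Pi.single_apply]
    split_ifs with ha hb <;> first
      | exact absurd (ha.symm.trans hb) (pne 2 3 (by omega) (by omega))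
      | (simp; done)
      | (field_simp; done)
      | (field_simp; linear_combination (0 : F) * hω)
  have adj : ∀ i : ℕ, TG hF G (Pi.single (p i) 1 + Pi.single (p (i + 1)) 1) := fun i => by
    have h1 := hshift 2 3 1 (i + (k + 3)) h23'
    have e : ∀ a, p (a + (k + 5)) = p a := fun a => Fin.ext (Nat.add_mod_right _ _)
    rw [show 2 + (i + (k + 3)) = i + (k + 5) by ring, show 3 + (i + (k + 3)) = i + 1 + (k + 5) by ring, e, e] at h1
    exact h1
  have far : ∀ (m i : ℕ), m + 1 < k + 5 → TG hF G (Pi.single (p i) 1 + Pi.single (p (i + (m + 1))) 1) := by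
    intro m
    induction m with
    | zero => exact fun i _ => adj i
    | succ m ih =>
      intro i hm
      have h1 := (ih i (by omega)).move hF (adj (i + (m + 1)))
      have n1 := pne i (i + (m + 1)) (by omega) (by omega)
      have n2 := pne i (i + (m + 1) + 1) (by omega) (by omega)
      have n3 := pne (i + (m + 1)) (i + (m + 1) + 1) (by omega) (by omega)
      rw [h_add_right hF, h_single hF, h_single hF] at h1
      convert h1 using 1
      funext l
      simp only [Pi.add_apply, Pi.smul_apply, smul_eq_mul, Pi.single_apply, show i + (m + 1 + 1) = i + (m + 1) + 1 by ring]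
      simp only [n1, n1.symm, n2.symm, n3.symm, if_false, if_true]
      split_ifs with a b c <;> first
        | exact absurd (a.symm.trans b) n1
        | exact absurd (a.symm.trans b) n2
        | exact absurd (b.symm.trans c) n3
        | (simp; done)
        | linear_combination (-1 : F) * two_eq hF
        | linear_combination two_eq hF
        | (simp; linear_combination (-1 : F) * two_eq hF)
        | (simp; linear_combination two_eq hF)
  refine eq_top_binary hF (by omega) (fun i j hij => ?_)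
    ⟨p 2, p 3, ω, pne 2 3 (by omega) (by omega), hω0, hω1, h23⟩ ⟨S, hS, hv⟩
  have hp' : ∀ i : Fin (k + 5), p i = i := fun i => Fin.ext (Nat.mod_eq_of_lt i.2)
  rcases Nat.lt_or_ge (i : ℕ) j with hlt | hge
  · have h1 := far ((j : ℕ) - i - 1) i (by omega)
    rwa [show (i : ℕ) + ((j : ℕ) - i - 1 + 1) = j by omega, hp' i, hp' j] at h1
  · have hlt : (j : ℕ) < i := lt_of_le_of_ne hge fun e => hij (Fin.ext e.symm)
    have h1 := far ((i : ℕ) - j - 1) j (by omega)
    rw [show (j : ℕ) + ((i : ℕ) - j - 1 + 1) = i by omega, hp' j, hp' i] at h1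
    exact (add_comm (Pi.single j 1 : Fin (k + 5) → F) (Pi.single i 1 : Fin (k + 5) → F)) ▸ h1

end Cfsg.Agent.Classical.UnitTwoGen
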