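import Cfsg.Agent.Lib.Classical.UnitCenter

/-! Hilbert 90 in finite commutative rings and conjugacy in finite unitary groups. -/

set_option autoImplicit false

namespace Cfsg.Agent.UnitaryConjugacy

open Matrix Cfsg.Agent.Classical

variable {R : Type*} [CommRing R] [Finite R]

/-- Hilbert 90 for an involution of a finite commutative ring with a unit trace-zero-free element. -/
theorem hilbert90 (σ : R →+* R) (hσ : ∀ x, σ (σ x) = x) {θ : R} (hθ : IsUnit (θ - σ θ)) {u : R}
    (hu : u * σ u = 1) : ∃ k : R, IsUnit k ∧ u * σ k = k := by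
  classical
  haveI : Finite (Ideal R) := Finite.of_injective (fun I : Ideal R => (I : Set R)) SetLike.coe_injective
  let τ : MaximalSpectrum R → MaximalSpectrum R := fun M =>
    ⟨M.asIdeal.comap σ, @Ideal.comap_isMaximal_of_surjective _ _ _ _ _ _ _ σ
      (Function.Involutive.surjective hσ) M.asIdeal M.isMaximal⟩
  have hτ : ∀ M, τ (τ M) = M := fun M => MaximalSpectrum.ext (Ideal.ext fun x => by
    show σ (σ x) ∈ M.asIdeal ↔ _
    rw [hσ])
  haveI : Finite (MaximalSpectrum R) :=
    Finite.of_injective (fun M => M.asIdeal) fun M N h => MaximalSpectrum.ext h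
  obtain ⟨N, ⟨e⟩⟩ := Finite.exists_equiv_fin (MaximalSpectrum R)
  have key : ∀ M : MaximalSpectrum R, ∃ x : R, τ M = M → x + u * σ x ∉ M.asIdeal := by
    intro M
    by_cases h : 1 + u * σ 1 ∈ M.asIdeal
    · refine ⟨θ, fun _ h' => M.isMaximal.ne_top (Ideal.eq_top_of_isUnit_mem _ ?_ hθ)⟩
      have := M.asIdeal.sub_mem h' (M.asIdeal.mul_mem_right (σ θ) h)
      rw [map_one, mul_one] at this
      convert this using 1; ring
    · exact ⟨1, fun _ => h⟩
  choose x₀ hx₀ using key
  have hcop : Pairwise (Function.onFun IsCoprime fun M : MaximalSpectrum R => M.asIdeal) :=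
    fun M M' h => haveI := M.isMaximal; haveI := M'.isMaximal
      Ideal.isCoprime_of_isMaximal
      fun e => h (MaximalSpectrum.ext e)
  obtain ⟨x, hx⟩ := Ideal.exists_forall_sub_mem_ideal hcop
    (fun M => if τ M = M then x₀ M else if e M < e (τ M) then 1 else 0)
  refine ⟨x + u * σ x, ?_, ?_⟩
  · by_contra hk
    obtain ⟨I, hI, hkI⟩ := exists_max_ideal_of_mem_nonunits (a := x + u * σ x) hk
    set M : MaximalSpectrum R := ⟨I, hI⟩
    have h1 := hx M
    have h2 : σ (x - (if τ (τ M) = τ M then x₀ (τ M) else if e (τ M) < e (τ (τ M)) then 1 else 0)) ∈ I :=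
      hx (τ M)
    rw [hτ] at h2
    have hu' : u ∉ I := fun h => hI.ne_top (Ideal.eq_top_of_isUnit_mem _ h (IsUnit.of_mul_eq_one _ hu))
    by_cases hM : τ M = M
    · rw [if_pos hM] at h1
      rw [hM, if_pos rfl, map_sub] at h2
      refine hx₀ M hM ?_
      have := I.sub_mem hkI (I.add_mem h1 (I.mul_mem_left u h2))
      convert this using 1; ring
    · rw [if_neg hM] at h1
      rw [if_neg (fun h => hM h.symm), map_sub] at h2
      rcases lt_or_gt_of_ne (fun h => hM (e.injective h).symm : e M ≠ e (τ M)) with hlt | hlt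
      · rw [if_pos hlt] at h1
        rw [if_neg hlt.asymm, map_zero, sub_zero] at h2
        refine hI.ne_top ((Ideal.eq_top_iff_one _).2 ?_)
        have := I.sub_mem (I.sub_mem hkI (I.mul_mem_left u h2)) h1
        convert this using 1; ring
      · rw [if_neg hlt.asymm, sub_zero] at h1
        rw [if_pos hlt, map_one] at h2
        refine hu' ?_
        have := I.sub_mem (I.sub_mem hkI h1) (I.mul_mem_left u h2)
        convert this using 1; ring
  · rw [map_add, map_mul, hσ, mul_add, ← mul_assoc, hu, one_mul, add_comm]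

/-- The norm onto the fixed units is surjective. -/
theorem exists_norm (σ : R →+* R) (hσ : ∀ x, σ (σ x) = x) {θ : R} (hθ : IsUnit (θ - σ θ)) {s : R}
    (hs : σ s = s) (hu : IsUnit s) : ∃ k : R, IsUnit k ∧ k * σ k = s := by
  classical
  haveI : Finite Rˣ := Finite.of_injective Units.val Units.val_injective
  let S : Rˣ →* Rˣ := Units.map σ.toMonoidHom
  have hS : ∀ k, S (S k) = k := fun k => Units.ext (hσ k)
  let N : Rˣ →* Rˣ := MonoidHom.id Rˣ * S
  let D : Rˣ →* Rˣ := MonoidHom.id Rˣ * S⁻¹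
  have hN : ∀ k, N k = k * S k := fun _ => rfl
  have hD : ∀ k, D k = k * (S k)⁻¹ := fun _ => rfl
  have h1 : D.range = N.ker := by
    ext u
    rw [MonoidHom.mem_range, MonoidHom.mem_ker, hN]
    constructor
    · rintro ⟨k, rfl⟩
      rw [hD, map_mul, map_inv, hS]
      group
    · intro h
      obtain ⟨k, hk, hk'⟩ := hilbert90 σ hσ hθ (u := (u : R)) (by simpa [S] using congrArg Units.val h)
      refine ⟨hk.unit, ?_⟩
      rw [hD, mul_inv_eq_iff_eq_mul]
      exact Units.ext hk'.symm
  have h2 : N.range ≤ D.ker := by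
    rintro _ ⟨k, rfl⟩
    rw [MonoidHom.mem_ker, hD, hN, map_mul, hS, mul_comm (S k) k, mul_inv_cancel]
  have h3 : N.range = D.ker := by
    refine Subgroup.eq_of_le_of_card_ge h2 (le_of_eq ?_)
    have e1 := Subgroup.card_eq_card_quotient_mul_card_subgroup N.ker
    have e2 := Subgroup.card_eq_card_quotient_mul_card_subgroup D.ker
    rw [Nat.card_congr (QuotientGroup.quotientKerEquivRange _).toEquiv] at e1 e2
    rw [h1] at e2
    rw [e1, mul_comm] at e2
    exact mul_left_cancel₀ Nat.card_pos.ne' e2.symm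
  obtain ⟨k, hk⟩ : hu.unit ∈ N.range := by
    rw [h3, MonoidHom.mem_ker, hD, mul_inv_eq_one]
    exact Units.ext hs.symm
  exact ⟨k, k.isUnit, congrArg Units.val hk⟩

variable {K : Type*} [Field K] [Fintype K] {n : ℕ}

local notation "Mn" => Matrix (Fin n) (Fin n) K

/-- A semilinear anti-automorphism restricted to the algebra generated by one element. -/
theorem exists_restrict (σ : K →+* K) (hσ : ∀ c, σ (σ c) = c) (τ : Mn → Mn)
    (hadd : ∀ x y, τ (x + y) = τ x + τ y) (hmul : ∀ x y, τ (x * y) = τ y * τ x)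
    (halg : ∀ c, τ (algebraMap K Mn c) = algebraMap K Mn (σ c)) (hne : ∃ c, σ c ≠ c) {S : Mn}
    (hS : τ S ∈ Algebra.adjoin K ({S} : Set Mn)) (hS2 : τ (τ S) = S) :
    (∀ s ∈ Algebra.adjoin K ({S} : Set Mn), IsUnit s → τ s = s →
      ∃ k ∈ Algebra.adjoin K ({S} : Set Mn), IsUnit k ∧ τ k * k = s) ∧
    (∀ u ∈ Algebra.adjoin K ({S} : Set Mn), τ u * u = 1 →
      ∃ k ∈ Algebra.adjoin K ({S} : Set Mn), IsUnit k ∧ τ k * u = k) := by
  classical
  set A := Algebra.adjoin K ({S} : Set Mn) with hA
  have hcomm : ∀ a b : A, a * b = b * a := fun a b => Subtype.ext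
    (Algebra.commute_of_mem_adjoin_singleton_of_commute b.2
      (Algebra.commute_of_mem_adjoin_singleton_of_commute a.2 (Commute.refl S)).symm)
  letI : CommRing A := { (inferInstance : Ring A) with mul_comm := hcomm }
  have hmem : ∀ x ∈ A, τ x ∈ A ∧ τ (τ x) = x := by
    intro x hx
    induction hx using Algebra.adjoin_induction with
    | mem x hx => rw [Set.mem_singleton_iff] at hx; subst hx; exact ⟨hS, hS2⟩
    | algebraMap c => rw [halg, halg, hσ]; exact ⟨algebraMap_mem A _, rfl⟩
    | add x y _ _ hx hy => rw [hadd, hadd, hx.2, hy.2]; exact ⟨A.add_mem hx.1 hy.1, rfl⟩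
    | mul x y _ _ hx hy => rw [hmul, hmul, hx.2, hy.2]; exact ⟨A.mul_mem hy.1 hx.1, rfl⟩
  have h1 : τ 1 = 1 := by rw [← map_one (algebraMap K Mn), halg, map_one]
  have h0 : τ 0 = 0 := by rw [← map_zero (algebraMap K Mn), halg, map_zero]
  let σA : A →+* A :=
    { toFun := fun x => ⟨τ x.1, (hmem x.1 x.2).1⟩
      map_one' := Subtype.ext h1
      map_mul' := fun x y => by
        rw [mul_comm x y]
        exact Subtype.ext (hmul y.1 x.1)
      map_zero' := Subtype.ext h0
      map_add' := fun x y => Subtype.ext (hadd x.1 y.1) }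
  have hσA : ∀ x, σA (σA x) = x := fun x => Subtype.ext (hmem x.1 x.2).2
  obtain ⟨c, hc⟩ := hne
  have hθ : IsUnit (algebraMap K A c - σA (algebraMap K A c)) := by
    rw [show σA (algebraMap K A c) = algebraMap K A (σ c) from Subtype.ext (halg c), ← map_sub]
    exact (IsUnit.mk0 _ (sub_ne_zero.2 hc.symm)).map _
  have hunit : ∀ x : A, IsUnit x.1 → IsUnit x := fun x hx => by
    rw [isUnit_iff_exists_inv]
    obtain ⟨y, hy⟩ := (Finite.injective_iff_surjective (f := fun y : A => x * y)).1
      (fun a b h => Subtype.ext (hx.mul_left_cancel (congrArg Subtype.val h))) 1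
    exact ⟨y, hy⟩
  constructor
  · intro s hs hsu hst
    obtain ⟨k, hk, hk'⟩ := exists_norm σA hσA hθ (s := ⟨s, hs⟩) (Subtype.ext hst) (hunit _ hsu)
    rw [mul_comm] at hk'
    exact ⟨k.1, k.2, hk.map A.val, congrArg Subtype.val hk'⟩
  · intro u hu huu
    obtain ⟨k, hk, hk'⟩ := hilbert90 σA hσA hθ (u := (⟨u, hu⟩ : A)) (by
      rw [mul_comm]; exact Subtype.ext huu)
    rw [mul_comm] at hk'
    exact ⟨k.1, k.2, hk.map A.val, congrArg Subtype.val hk'⟩

variable {q : ℕ}

/-- Conjugate transpose for the involution `x ↦ x ^ q`. -/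
def st (hK : Fintype.card K = q ^ 2) (x : Mn) : Mn := (x.map (qFrob hK))ᵀ

theorem st_mul (hK : Fintype.card K = q ^ 2) (x y : Mn) : st hK (x * y) = st hK y * st hK x := by
  rw [st, st, st, Matrix.map_mul, Matrix.transpose_mul]

theorem st_st (hK : Fintype.card K = q ^ 2) (x : Mn) : st hK (st hK x) = x := by
  ext i j; simp only [st, Matrix.transpose_apply, Matrix.map_apply, qFrob_qFrob]

theorem st_one (hK : Fintype.card K = q ^ 2) : st hK (1 : Mn) = 1 := by
  rw [st, Matrix.map_one _ (map_zero _) (map_one _), Matrix.transpose_one]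

theorem st_add (hK : Fintype.card K = q ^ 2) (x y : Mn) : st hK (x + y) = st hK x + st hK y := by
  rw [st, st, st, Matrix.map_add _ (map_add _), Matrix.transpose_add]

theorem st_algebraMap (hK : Fintype.card K = q ^ 2) (c : K) :
    st hK (algebraMap K Mn c) = algebraMap K Mn (qFrob hK c) := by
  rw [st, Matrix.algebraMap_eq_diagonal, Matrix.algebraMap_eq_diagonal, Matrix.diagonal_map (map_zero _),
    Matrix.diagonal_transpose]
  rfl

theorem st_unit (hK : Fintype.card K = q ^ 2) {x : Mn} (hx : IsUnit x) : IsUnit (st hK x) :=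
  (isUnit_transpose _).2 (hx.map (qFrob hK).mapMatrix)

theorem mem_GU_iff (hK : Fintype.card K = q ^ 2) (g : GL (Fin n) K) :
    g ∈ GU n K q ↔ st hK (g : Mn) * (g : Mn) = 1 := by
  have key : ∀ M : Mn, st hK M * M = 1 ↔ Mᵀ * M.map (qFrob hK) = 1 := fun M => by
    constructor <;> intro h <;> have := congrArg (st hK) h <;> rw [st_mul, st_one] at this
    · have h2 := congrArg Matrix.transpose h
      rw [Matrix.transpose_mul, Matrix.transpose_one, st, Matrix.transpose_transpose] at h2
      exact h2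
    · have h2 := congrArg Matrix.transpose h
      rw [Matrix.transpose_mul, Matrix.transpose_one, Matrix.transpose_transpose] at h2
      exact h2
  rw [key]
  exact ⟨transpose_mul_of_preserves hK, preserves_of_transpose_mul hK⟩

theorem exists_ne_qFrob (hK : Fintype.card K = q ^ 2) : ∃ c : K, qFrob hK c ≠ c := by
  by_contra h
  push Not at h
  exact qFrob_ne_id hK (RingHom.ext h)

/-- Hermitian invertible matrices are `P* P`, with `P` a polynomial in the matrix. -/
theorem exists_eq_st_mul (hK : Fintype.card K = q ^ 2) {S : Mn} (hS : st hK S = S) (hu : IsUnit S) :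
    ∃ k ∈ Algebra.adjoin K ({S} : Set Mn), IsUnit k ∧ st hK k * k = S := by
  have hm : S ∈ Algebra.adjoin K ({S} : Set Mn) := Algebra.self_mem_adjoin_singleton K S
  exact (exists_restrict (qFrob hK) (qFrob_qFrob hK) (st hK) (st_add hK) (st_mul hK) (st_algebraMap hK)
    (exists_ne_qFrob hK) (hS.symm ▸ hm) (st_st hK S)).1 S hm hu hS

theorem isConj_of_isConj (hK : Fintype.card K = q ^ 2) (A B : GU n K q)
    (h : IsConj (A : GL (Fin n) K) (B : GL (Fin n) K)) : IsConj A B := by
  obtain ⟨P, hP⟩ := isConj_iff.1 h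
  have ha := (mem_GU_iff hK _).1 A.2
  have hb := (mem_GU_iff hK _).1 B.2
  set a : Mn := ((A : GL (Fin n) K) : Mn)
  set b : Mn := ((B : GL (Fin n) K) : Mn)
  set P' : Mn := (P : Mn) with hP'
  have hPA : P' * a = b * P' := by
    show ((P : Mn) * ((A : GL (Fin n) K) : Mn)) = ((B : GL (Fin n) K) : Mn) * (P : Mn)
    rw [← Units.val_mul, ← Units.val_mul, ← hP, inv_mul_cancel_right]
  have hstb : a * st hK P' = st hK P' * b := by
    have h1 := congrArg (st hK) hPA
    rw [st_mul, st_mul] at h1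
    have h2 := congrArg (fun z => a * z * b) h1
    simp only [mul_assoc] at h2
    rw [← mul_assoc a, mul_eq_one_comm.1 ha, one_mul, hb, mul_one] at h2
    exact h2.symm
  have hSA : Commute (st hK P' * P') a := by
    show st hK P' * P' * a = a * (st hK P' * P')
    rw [← mul_assoc a, hstb, mul_assoc, hPA, mul_assoc]
  obtain ⟨k, hkA, hku, hk⟩ := exists_eq_st_mul hK (S := st hK P' * P') (by rw [st_mul, st_st])
    ((st_unit hK P.isUnit).mul P.isUnit)
  have hka : Commute k a := (Algebra.commute_of_mem_adjoin_singleton_of_commute hkA hSA.symm).symm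
  obtain ⟨ku, rfl⟩ := hku
  have hQ : P * ku⁻¹ ∈ GU n K q := by
    rw [mem_GU_iff hK, Units.val_mul, st_mul, mul_assoc, ← mul_assoc (st hK P'), ← hk]
    rw [mul_assoc, Units.mul_inv, mul_one, ← st_mul, Units.mul_inv, st_one]
  refine isConj_iff.2 ⟨⟨_, hQ⟩, Subtype.ext ?_⟩
  show P * ku⁻¹ * A.1 * (P * ku⁻¹)⁻¹ = B.1
  have hk2 : ku⁻¹ * A.1 = A.1 * ku⁻¹ := (Units.ext hka : ku * A.1 = A.1 * ku) |>
    fun h => Commute.inv_left h
  rw [mul_assoc P, hk2, ← hP]
  group

theorem exists_similar_mem (hK : Fintype.card K = q ^ 2) (A : GL (Fin n) K) (H : GL (Fin n) K)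
    (h : st hK (A : Mn) * (H : Mn) * (A : Mn) = H) : ∃ B : GU n K q, IsConj A (B : GL (Fin n) K) := by
  set a : Mn := (A : Mn)
  set h0 : Mn := (H : Mn) with hh0
  let hi : Mn := ((H⁻¹ : GL (Fin n) K) : Mn)
  have hhi : h0 * hi = 1 := by rw [hh0, ← Units.val_mul, mul_inv_cancel, Units.val_one]
  have hih : hi * h0 = 1 := mul_eq_one_comm.1 hhi
  set u : Mn := hi * st hK h0
  let hi' : Mn := st hK hi
  have hhi' : st hK h0 * hi' = 1 := by rw [← st_mul, hih, st_one]
  have hih' : hi' * st hK h0 = 1 := mul_eq_one_comm.1 hhi'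
  let τ : Mn → Mn := fun x => hi * st hK x * h0
  have hτu : τ u = hi' * h0 := by
    show hi * st hK (hi * st hK h0) * h0 = _
    rw [st_mul, st_st, ← mul_assoc, hih, one_mul]
  have huu : τ u * u = 1 := by
    rw [hτu, mul_assoc, ← mul_assoc h0, hhi, one_mul, hih']
  have hu : IsUnit u := (H⁻¹).isUnit.mul (st_unit hK H.isUnit)
  have hτu_mem : τ u ∈ Algebra.adjoin K ({u} : Set Mn) := by
    obtain ⟨uu, huv⟩ := hu
    have hinv : τ u = ((uu⁻¹ : (Mn)ˣ) : Mn) := by
      rw [← Units.mul_eq_one_iff_eq_inv, huv, huu]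
    rw [hinv]
    have h1 : uu⁻¹ = uu ^ (orderOf uu - 1) := by
      rw [inv_eq_iff_mul_eq_one, ← pow_succ', Nat.sub_add_cancel (orderOf_pos uu), pow_orderOf_eq_one]
    rw [h1, Units.val_pow_eq_pow_val, huv]
    exact pow_mem (Algebra.self_mem_adjoin_singleton K u) _
  have hττ : τ (τ u) = u := by
    show hi * st hK (τ u) * h0 = u
    rw [hτu, st_mul, st_st, mul_assoc, mul_assoc, hih, mul_one]
  obtain ⟨c, hcA, hcu, hc⟩ := (exists_restrict (qFrob hK) (qFrob_qFrob hK) τ
    (fun x y => by show hi * st hK (x + y) * h0 = _; rw [st_add, mul_add, add_mul])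
    (fun x y => by
      show hi * st hK (x * y) * h0 = hi * st hK y * h0 * (hi * st hK x * h0)
      rw [st_mul, mul_assoc (hi * st hK y) h0, ← mul_assoc h0, ← mul_assoc h0, hhi, one_mul]
      simp only [mul_assoc])
    (fun c => by
      show hi * st hK _ * h0 = _
      rw [st_algebraMap, ← Algebra.commutes, mul_assoc, hih, mul_one])
    (exists_ne_qFrob hK) hτu_mem hττ).2 u (Algebra.self_mem_adjoin_singleton K u) huu
  have hua : Commute u a := by
    have h1 := congrArg (st hK) h
    rw [st_mul, st_mul, st_st, ← mul_assoc] at h1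
    show u * a = a * u
    have h2 : a * hi * st hK a = hi := by
      have := congrArg (fun z => z * hi) h
      simp only [hhi] at this
      have h3 := mul_eq_one_comm.1 ((mul_assoc _ _ _).symm.trans this |> fun e => (by
        rw [mul_assoc, mul_assoc] at *; exact e : st hK a * (h0 * (a * hi)) = 1))
      calc a * hi * st hK a = hi * (h0 * (a * hi) * st hK a) := by
            simp only [← mul_assoc, hih, one_mul]
        _ = hi := by rw [h3, mul_one]
    calc u * a = a * hi * (st hK a * st hK h0 * a) := by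
          show hi * st hK h0 * a = _
          conv_lhs => rw [← h2]
          simp only [mul_assoc]
      _ = a * u := by rw [h1, mul_assoc]
  have hca : Commute c a := (Algebra.commute_of_mem_adjoin_singleton_of_commute hcA hua.symm).symm
  set G : Mn := h0 * c with hG
  have hGs : st hK G = G := by
    rw [hG, st_mul]
    have := congrArg (fun z => h0 * z) hc
    simp only [τ, u] at this
    rw [← this]
    simp only [← mul_assoc, hhi, one_mul]
    simp only [mul_assoc, ← mul_assoc h0 hi, hhi, one_mul]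
  have hGa : st hK a * G * a = G := by
    rw [hG, ← mul_assoc, mul_assoc _ c, hca.eq, ← mul_assoc, h]
  obtain ⟨k, -, hku, hk⟩ := exists_eq_st_mul hK hGs (H.isUnit.mul hcu)
  obtain ⟨ku, rfl⟩ := hku
  refine ⟨⟨ku * A * ku⁻¹, ?_⟩, isConj_iff.2 ⟨ku, rfl⟩⟩
  rw [mem_GU_iff hK, Units.val_mul, Units.val_mul, st_mul, st_mul]
  calc st hK ↑ku⁻¹ * (st hK a * st hK ↑ku) * (↑ku * a * ↑ku⁻¹)
      = st hK ↑ku⁻¹ * (st hK a * (st hK ↑ku * ↑ku) * a) * ↑ku⁻¹ := by simp only [mul_assoc]
    _ = 1 := by
      rw [hk, hGa, ← hk, ← mul_assoc, ← st_mul, Units.mul_inv, st_one, one_mul, Units.mul_inv]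

end Cfsg.Agent.UnitaryConjugacy
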