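import Cfsg.Agent.Lib.Classical.AschUnitBase
import Cfsg.Agent.Lib.Classical.Unit

/-! Elements of `GL` conjugate to similitudes of a Hermitian form. -/

set_option autoImplicit false
set_option linter.unusedSectionVars false

namespace Cfsg.Agent.UnitarySimilitudeDerange

open Matrix Module Cfsg.Agent.Classical Cfsg.Geo

variable {F : Type*} [Field F] [Fintype F] {σ : F ≃+* F} {ι : Type} [Fintype ι] [DecidableEq ι]
  {κ : Type} [Fintype κ] [DecidableEq κ]

/-- A sesquilinear function as a semilinear map. -/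
noncomputable def toMap {f : (ι → F) → (ι → F) → F} (hs : Asch.Sesq σ f) :
    (ι → F) →ₛₗ[(σ : F →+* F)] (ι → F) →ₗ[F] F :=
  LinearMap.mk₂'ₛₗ (σ : F →+* F) (RingHom.id F) (fun v w => f w v)
    (fun a b c => hs.add_right c a b) (fun c a b => hs.smul_right c b a)
    (fun a b c => hs.add_left b c a) (fun c a b => hs.smul_left c b a)

omit [Fintype F] in
theorem toMap_apply {f : (ι → F) → (ι → F) → F} (hs : Asch.Sesq σ f) (v w : ι → F) : toMap hs v w = f w v := rfl

/-- An orthonormal basis. -/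
theorem exists_orth {k : ℕ} (hk : Fintype.card ι = k) (hne : σ ≠ RingEquiv.refl F) (hinv : ∀ a, σ (σ a) = a)
    {f : (ι → F) → (ι → F) → F} (hs : Asch.Sesq σ f) (hh : ∀ u v, f u v = σ (f v u)) (hn : IsNondegenerateForm f) :
    ∃ b : Basis (Fin k) F (ι → F), ∀ i j, f (b i) (b j) = if i = j then 1 else 0 := by
  obtain ⟨b, -, hb⟩ := exists_orthonormal_family_herm (toMap hs)
    (fun he => hne (RingEquiv.ext (RingHom.congr_fun he))) hinv ⟨fun v w => (hh v w).symm⟩ k ⊤
    (fun w _ hw => by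
      obtain ⟨⟨x, hx⟩, -⟩ := hn w hw
      exact ⟨x, trivial, hx⟩) (by rw [finrank_top, Module.finrank_fintype_fun_eq_card, hk])
  have hli : LinearIndependent F b := Fintype.linearIndependent_iff.2 fun g hg i => by
    have h := congrArg (toMap hs (b i)) hg
    simpa [map_sum, hb] using h
  exact ⟨Basis.mk hli (top_le_iff.2 (hli.span_eq_top_of_card_eq_finrank' (by
    rw [Fintype.card_fin, Module.finrank_fintype_fun_eq_card, hk]))).ge, fun i j => by
      rw [Basis.mk_apply, Basis.mk_apply]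
      exact (hb j i).trans (by simp [eq_comm])⟩

/-- Hermitian spaces of the same dimension are isometric. -/
theorem exists_isometry (hne : σ ≠ RingEquiv.refl F) (hinv : ∀ a, σ (σ a) = a) (hc : Fintype.card ι = Fintype.card κ)
    {f : (ι → F) → (ι → F) → F} (hs : Asch.Sesq σ f) (hh : ∀ u v, f u v = σ (f v u)) (hn : IsNondegenerateForm f)
    {g : (κ → F) → (κ → F) → F} (hs' : Asch.Sesq σ g) (hh' : ∀ u v, g u v = σ (g v u)) (hn' : IsNondegenerateForm g) :
    ∃ L : (ι → F) ≃ₗ[F] (κ → F), ∀ u v, g (L u) (L v) = f u v := by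
  obtain ⟨b, hb⟩ := exists_orth (k := Fintype.card κ) hc hne hinv hs hh hn
  obtain ⟨b', hb'⟩ := exists_orth (k := Fintype.card κ) rfl hne hinv hs' hh' hn'
  refine ⟨b.equiv b' (Equiv.refl _), fun u v => ?_⟩
  have hs2 : Asch.Sesq σ fun x y => g (b.equiv b' (Equiv.refl _) x) (b.equiv b' (Equiv.refl _) y) :=
    ⟨fun x y w => by simp only [map_add, hs'.add_left], fun c x w => by simp only [map_smul, hs'.smul_left],
      fun w x y => by simp only [map_add, hs'.add_right], fun c w x => by simp only [map_smul, hs'.smul_right]⟩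
  have h : toMap hs2 = toMap hs := b.ext fun j => b.ext fun i => by
    simp [toMap_apply, hb, hb']
  exact LinearMap.congr_fun (LinearMap.congr_fun h v) u

/-- A conjugate by a matrix of determinant one lands in the similitudes. -/
theorem conj_into {n : ℕ} (hne : σ ≠ RingEquiv.refl F) (hinv : ∀ a, σ (σ a) = a) {f : (Fin n → F) → (Fin n → F) → F}
    (hs : Asch.Sesq σ f) (hh : ∀ u v, f u v = σ (f v u)) (hn : IsNondegenerateForm f)
    (x : GL (Fin n) F) (P : (ι → F) ≃ₗ[F] (Fin n → F)) (A S : Matrix ι ι F)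
    (hx : ∀ v, (x : Matrix (Fin n) (Fin n) F) *ᵥ P v = P (A *ᵥ v)) {c : F} (hc : c ≠ 0)
    (hS : Sᵀ.map σ = S) (hSu : IsUnit S) (hA : Aᵀ * (S * A.map σ) = c • S)
    (hC : ∀ d : F, d ≠ 0 → ∃ C : Matrix ι ι F, C.det = d ∧ A * C = C * A) :
    ∃ g ∈ Geo.specialLinear (Fin n) F, g⁻¹ * x * g ∈ Geo.similarityGroup f := by
  have hι : Fintype.card ι = Fintype.card (Fin n) := by
    have h := P.finrank_eq
    rwa [Module.finrank_fintype_fun_eq_card, Module.finrank_fintype_fun_eq_card] at h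
  have hhS : ∀ u v, formOfGram σ S u v = σ (formOfGram σ S v u) := fun u v => by
    simp only [formOfGram, map_sum, map_mul, hinv]
    rw [Finset.sum_comm]
    refine Finset.sum_congr rfl fun i _ => Finset.sum_congr rfl fun j _ => ?_
    have h1 : σ (S i j) = S j i := congrFun (congrFun hS j) i
    rw [h1]; ring
  obtain ⟨L, hL⟩ := exists_isometry hne hinv hι (Asch.sesq_formOfGram σ S) hhS (Asch.gram_nondeg σ hSu) hs hh hn
  have hd : LinearMap.det ((L.symm.trans P : (Fin n → F) ≃ₗ[F] (Fin n → F)) : (Fin n → F) →ₗ[F] (Fin n → F)) ≠ 0 :=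
    (LinearEquiv.isUnit_det' _).ne_zero
  obtain ⟨C, hCd, hAC⟩ := hC _ (inv_ne_zero hd)
  let h : (Fin n → F) →ₗ[F] (Fin n → F) :=
    ((L.symm.trans P : (Fin n → F) ≃ₗ[F] (Fin n → F)) : (Fin n → F) →ₗ[F] (Fin n → F)).comp
      (((L : (ι → F) →ₗ[F] (Fin n → F)).comp (Matrix.toLin' C)).comp (L.symm : (Fin n → F) →ₗ[F] (ι → F)))
  have hdet : (LinearMap.toMatrix' h).det = 1 := by
    rw [LinearMap.det_toMatrix', LinearMap.det_comp, LinearMap.comp_assoc, LinearMap.det_conj, LinearMap.det_toLin', hCd,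
      mul_inv_cancel₀ hd]
  obtain ⟨g, hgv⟩ : ∃ g : GL (Fin n) F, (g : Matrix (Fin n) (Fin n) F) = LinearMap.toMatrix' h :=
    ⟨Matrix.GeneralLinearGroup.mkOfDetNeZero _ (by rw [hdet]; exact one_ne_zero), rfl⟩
  refine ⟨g, ?_, Units.mk0 c hc, fun u v => ?_⟩
  · show Matrix.GeneralLinearGroup.det g = 1
    refine Units.ext ?_
    show (g : Matrix (Fin n) (Fin n) F).det = 1
    rw [hgv, hdet]
  have hgw : ∀ w, (g : Matrix (Fin n) (Fin n) F) *ᵥ w = P (C *ᵥ L.symm w) := fun w => by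
    rw [hgv, ← Matrix.toLin'_apply, Matrix.toLin'_toMatrix']
    simp [h]
  have hval : ∀ v, ((g⁻¹ * x * g : GL (Fin n) F) : Matrix (Fin n) (Fin n) F) *ᵥ v = L (A *ᵥ L.symm v) := fun v => by
    have key : (x : Matrix (Fin n) (Fin n) F) *ᵥ ((g : Matrix (Fin n) (Fin n) F) *ᵥ v) =
        (g : Matrix (Fin n) (Fin n) F) *ᵥ L (A *ᵥ L.symm v) := by
      rw [hgw, hgw, LinearEquiv.symm_apply_apply, hx, mulVec_mulVec, mulVec_mulVec, hAC]
    rw [Units.val_mul, Units.val_mul, ← mulVec_mulVec, ← mulVec_mulVec, key, mulVec_mulVec, ← Units.val_mul,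
      inv_mul_cancel, Units.val_one, one_mulVec]
  show f (((g⁻¹ * x * g : GL (Fin n) F) : Matrix (Fin n) (Fin n) F) *ᵥ u)
    (((g⁻¹ * x * g : GL (Fin n) F) : Matrix (Fin n) (Fin n) F) *ᵥ v) = c * f u v
  rw [hval, hval, hL, Asch.formOfGram_mulVec, hA, Asch.formOfGram_smul, ← hL, LinearEquiv.apply_symm_apply,
    LinearEquiv.apply_symm_apply]

end Cfsg.Agent.UnitarySimilitudeDerange
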